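import Mathlib
import Cfsg.Agent.Lib.Helper13.SL2Gen

/-!
Automorphisms of an elementary abelian group of order `p²`: `Aut ≅ GL₂(p)`, and a subgroup with two distinct
nontrivial `p`-subgroups contains a copy of `SL₂(p)`.
-/

set_option autoImplicit false
set_option linter.unusedSectionVars false

namespace Cfsg.Agent.Lib.Helper26

open Matrix Cfsg.Agent.Lib.Helper13

section SL

variable (p : ℕ) [Fact p.Prime]

theorem card_sylow_SL2 (R : Sylow p (SpecialLinearGroup (Fin 2) (ZMod p))) : Nat.card R = p := by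
  have h1 := R.card_eq_multiplicity
  have h2 := (sylowUnipSL (F := ZMod p) p).card_eq_multiplicity
  have h3 : Nat.card (sylowUnipSL (F := ZMod p) p) = p := by
    show Nat.card (unipSL (ZMod p)) = p
    show Nat.card (tSLHom (K := ZMod p)).range = p
    rw [card_range_tSLHom, Nat.card_eq_fintype_card, ZMod.card]
  rw [h1, ← h2, h3]

/-- A nontrivial `p`-subgroup of `SL₂(p)` is a Sylow subgroup. -/
theorem exists_sylow_eq_of_pgroup (Q : Subgroup (SpecialLinearGroup (Fin 2) (ZMod p))) (hQ : IsPGroup p Q)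
    (hne : Q ≠ ⊥) : ∃ R : Sylow p (SpecialLinearGroup (Fin 2) (ZMod p)), (R : Subgroup _) = Q := by
  obtain ⟨R, hR⟩ := hQ.exists_le_sylow
  refine ⟨R, ?_⟩
  symm
  apply Subgroup.eq_of_le_of_card_ge hR
  rw [card_sylow_SL2 p R]
  obtain ⟨n, hn⟩ := IsPGroup.iff_card.mp hQ
  rw [hn]
  rcases Nat.eq_zero_or_pos n with rfl | hpos
  · exfalso
    rw [pow_zero] at hn
    exact hne (Subgroup.card_eq_one.mp hn)
  · calc p = p ^ 1 := (pow_one p).symm
      _ ≤ p ^ n := Nat.pow_le_pow_right (Fact.out : p.Prime).pos hpos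

/-- The determinant of a `p`-element of `GL₂(p)` is one. -/
theorem det_eq_one_of_pow (g : GL (Fin 2) (ZMod p)) (k : ℕ) (hg : g ^ (p ^ k) = 1) :
    Matrix.GeneralLinearGroup.det g = 1 := by
  have h1 : (Matrix.GeneralLinearGroup.det g) ^ (p ^ k) = 1 := by rw [← map_pow, hg, map_one]
  have h2 : (Matrix.GeneralLinearGroup.det g) ^ (p - 1) = 1 := ZMod.units_pow_card_sub_one_eq_one p _
  have hcop : Nat.Coprime (p ^ k) (p - 1) := by
    apply Nat.Coprime.pow_left
    have hp : p.Prime := Fact.out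
    have h2le := hp.two_le
    rw [Nat.Prime.coprime_iff_not_dvd hp]
    intro hdvd
    have := Nat.le_of_dvd (by omega) hdvd
    omega
  have h3 : orderOf (Matrix.GeneralLinearGroup.det g) ∣ 1 := by
    rw [← Nat.Coprime.gcd_eq_one hcop]
    exact Nat.dvd_gcd (orderOf_dvd_of_pow_eq_one h1) (orderOf_dvd_of_pow_eq_one h2)
  exact orderOf_eq_one_iff.mp (Nat.dvd_one.mp h3)

theorem mem_range_toGL_of_det (g : GL (Fin 2) (ZMod p)) (h : Matrix.GeneralLinearGroup.det g = 1) :
    g ∈ (SpecialLinearGroup.toGL : SpecialLinearGroup (Fin 2) (ZMod p) →* GL (Fin 2) (ZMod p)).range := by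
  have hdet : (g : Matrix (Fin 2) (Fin 2) (ZMod p)).det = 1 := by
    have := congrArg Units.val h
    simpa using this
  refine ⟨⟨(g : Matrix (Fin 2) (Fin 2) (ZMod p)), hdet⟩, ?_⟩
  apply Units.ext
  rfl

theorem pgroup_le_range_toGL (Q : Subgroup (GL (Fin 2) (ZMod p))) (hQ : IsPGroup p Q) :
    Q ≤ (SpecialLinearGroup.toGL : SpecialLinearGroup (Fin 2) (ZMod p) →* GL (Fin 2) (ZMod p)).range := by
  intro g hg
  obtain ⟨k, hk⟩ := hQ ⟨g, hg⟩
  have hk' : g ^ (p ^ k) = 1 := by
    have := congrArg Subtype.val hk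
    simpa using this
  exact mem_range_toGL_of_det p g (det_eq_one_of_pow p g k hk')

theorem toGL_injective :
    Function.Injective (SpecialLinearGroup.toGL : SpecialLinearGroup (Fin 2) (ZMod p) →* GL (Fin 2) (ZMod p)) := by
  intro a b hab
  apply Subtype.ext
  have := congrArg Units.val hab
  simpa using this

/-- A subgroup of `GL₂(p)` with two distinct nontrivial `p`-subgroups contains `SL₂(p)`. -/
theorem range_toGL_le_of_two_pgroups (B Q₁ Q₂ : Subgroup (GL (Fin 2) (ZMod p))) (h₁ : Q₁ ≤ B) (h₂ : Q₂ ≤ B)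
    (hp₁ : IsPGroup p Q₁) (hp₂ : IsPGroup p Q₂) (hne₁ : Q₁ ≠ ⊥) (hne₂ : Q₂ ≠ ⊥) (hne : Q₁ ≠ Q₂) :
    (SpecialLinearGroup.toGL : SpecialLinearGroup (Fin 2) (ZMod p) →* GL (Fin 2) (ZMod p)).range ≤ B := by
  set ι := (SpecialLinearGroup.toGL : SpecialLinearGroup (Fin 2) (ZMod p) →* GL (Fin 2) (ZMod p)) with hι
  have hinj : Function.Injective ι := toGL_injective p
  have hr₁ : Q₁ ≤ ι.range := pgroup_le_range_toGL p Q₁ hp₁
  have hr₂ : Q₂ ≤ ι.range := pgroup_le_range_toGL p Q₂ hp₂
  have hm₁ : (Q₁.comap ι).map ι = Q₁ := Subgroup.map_comap_eq_self hr₁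
  have hm₂ : (Q₂.comap ι).map ι = Q₂ := Subgroup.map_comap_eq_self hr₂
  have hc₁ : IsPGroup p (Q₁.comap ι) := hp₁.comap_of_injective ι hinj
  have hc₂ : IsPGroup p (Q₂.comap ι) := hp₂.comap_of_injective ι hinj
  have hcne₁ : Q₁.comap ι ≠ ⊥ := by
    intro h
    rw [h, Subgroup.map_bot] at hm₁
    exact hne₁ hm₁.symm
  have hcne₂ : Q₂.comap ι ≠ ⊥ := by
    intro h
    rw [h, Subgroup.map_bot] at hm₂
    exact hne₂ hm₂.symm
  obtain ⟨R₁, hR₁⟩ := exists_sylow_eq_of_pgroup p _ hc₁ hcne₁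
  obtain ⟨R₂, hR₂⟩ := exists_sylow_eq_of_pgroup p _ hc₂ hcne₂
  have hRne : R₁ ≠ R₂ := by
    intro h
    apply hne
    rw [← hm₁, ← hm₂, ← hR₁, ← hR₂, h]
  have hsup := sylow_sup_eq_top_SL2 p R₁ R₂ hRne
  rw [hR₁, hR₂] at hsup
  rw [MonoidHom.range_eq_map, ← hsup, Subgroup.map_sup, hm₁, hm₂]
  exact sup_le h₁ h₂

end SL

section Iso

variable (p : ℕ) [Fact p.Prime] {V : Type*} [AddCommGroup V] [Module (ZMod p) V]

/-- the additive map underlying an endomorphism of `Multiplicative V` -/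
def addOf (α : Multiplicative V →* Multiplicative V) : V →+ V where
  toFun v := Multiplicative.toAdd (α (Multiplicative.ofAdd v))
  map_zero' := by simp
  map_add' a b := by simp [ofAdd_add, map_mul, toAdd_mul]

def linOf (α : Multiplicative V →* Multiplicative V) : V →ₗ[ZMod p] V :=
  (addOf α).toZModLinearMap p

@[simp] theorem linOf_apply (α : Multiplicative V →* Multiplicative V) (v : V) :
    linOf p α v = Multiplicative.toAdd (α (Multiplicative.ofAdd v)) := rfl

def autToUnits : MulAut (Multiplicative V) →* (V →ₗ[ZMod p] V)ˣ where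
  toFun α := ⟨linOf p α.toMonoidHom, linOf p α.symm.toMonoidHom, by
    ext v
    simp, by
    ext v
    simp⟩
  map_one' := by
    apply Units.ext
    ext v
    rfl
  map_mul' α β := by
    apply Units.ext
    ext v
    rfl

def unitsToAut (u : (V →ₗ[ZMod p] V)ˣ) : MulAut (Multiplicative V) where
  toFun x := Multiplicative.ofAdd (u.val (Multiplicative.toAdd x))
  invFun x := Multiplicative.ofAdd (u.inv (Multiplicative.toAdd x))
  left_inv x := by
    have := LinearMap.congr_fun u.inv_val (Multiplicative.toAdd x)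
    simp only [Module.End.mul_apply, Module.End.one_apply] at this
    show Multiplicative.ofAdd (u.inv (u.val (Multiplicative.toAdd x))) = x
    rw [this]
    rfl
  right_inv x := by
    have := LinearMap.congr_fun u.val_inv (Multiplicative.toAdd x)
    simp only [Module.End.mul_apply, Module.End.one_apply] at this
    show Multiplicative.ofAdd (u.val (u.inv (Multiplicative.toAdd x))) = x
    rw [this]
    rfl
  map_mul' x y := by
    simp [toAdd_mul, map_add, ofAdd_add]

def autEquivUnits : MulAut (Multiplicative V) ≃* (V →ₗ[ZMod p] V)ˣ :=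
  { autToUnits p with
    invFun := unitsToAut p
    left_inv := fun α => by
      ext x
      rfl
    right_inv := fun u => by
      apply Units.ext
      ext v
      rfl }

/-- `Aut((ℤ/p)²) ≅ GL₂(p)`. -/
noncomputable def mulAutEquivGL :
    MulAut (Multiplicative (Fin 2 → ZMod p)) ≃* GL (Fin 2) (ZMod p) :=
  (autEquivUnits p).trans
    (Units.mapEquiv (LinearMap.toMatrixAlgEquiv' (R := ZMod p) (n := Fin 2)).toRingEquiv.toMulEquiv)

end Iso

section Main

variable (p : ℕ) [Fact p.Prime]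

theorem exists_addEquiv_of_card (W : Type*) [AddCommGroup W] [Module (ZMod p) W] [Finite W]
    (hcard : Nat.card W = p ^ 2) : Nonempty (W ≃+ (Fin 2 → ZMod p)) := by
  have hfin : Module.Finite (ZMod p) W := Module.Finite.of_finite
  have hfree : Module.Free (ZMod p) W := Module.Free.of_divisionRing _ _
  have hfr : Module.finrank (ZMod p) W = 2 := by
    have h : Nat.card W = Nat.card (ZMod p) ^ Module.finrank (ZMod p) W :=
      Module.natCard_eq_pow_finrank
    rw [hcard, Nat.card_eq_fintype_card, ZMod.card] at h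
    exact (Nat.pow_right_injective (Fact.out : p.Prime).two_le h).symm
  exact ⟨(Module.finBasisOfFinrankEq (ZMod p) W hfr).equivFun.toAddEquiv⟩

theorem exists_mulEquiv_of_elemAb {V : Type*} [Group V] [Finite V] (hcomm : ∀ a b : V, a * b = b * a)
    (hexp : ∀ a : V, a ^ p = 1) (hcard : Nat.card V = p ^ 2) :
    Nonempty (V ≃* Multiplicative (Fin 2 → ZMod p)) := by
  let _i1 : CommGroup V := { (inferInstance : Group V) with mul_comm := hcomm }
  let _i2 : Module (ZMod p) (Additive V) := AddCommGroup.zmodModule (n := p) (fun x => by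
    show Additive.ofMul ((Additive.toMul x) ^ p) = 0
    rw [hexp]
    rfl)
  have hcard' : Nat.card (Additive V) = p ^ 2 := hcard
  obtain ⟨f⟩ := exists_addEquiv_of_card p (Additive V) hcard'
  exact ⟨AddEquiv.toMultiplicativeRight f⟩

/-- **Main group-theoretic result.** -/
theorem exists_SL2_of_two_pgroups {V : Type*} [Group V] [Finite V] (hcomm : ∀ a b : V, a * b = b * a)
    (hexp : ∀ a : V, a ^ p = 1) (hcard : Nat.card V = p ^ 2) (A Q₁ Q₂ : Subgroup (MulAut V))
    (h₁ : Q₁ ≤ A) (h₂ : Q₂ ≤ A) (hp₁ : IsPGroup p Q₁) (hp₂ : IsPGroup p Q₂) (hne₁ : Q₁ ≠ ⊥)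
    (hne₂ : Q₂ ≠ ⊥) (hne : Q₁ ≠ Q₂) :
    ∃ K : Subgroup (MulAut V), K ≤ A ∧ Nonempty (K ≃* SpecialLinearGroup (Fin 2) (ZMod p)) := by
  obtain ⟨e⟩ := exists_mulEquiv_of_elemAb p hcomm hexp hcard
  set Ψ : MulAut V ≃* GL (Fin 2) (ZMod p) := (MulAut.congr e).trans (mulAutEquivGL p) with hΨ
  set ι := (SpecialLinearGroup.toGL : SpecialLinearGroup (Fin 2) (ZMod p) →* GL (Fin 2) (ZMod p)) with hι
  have hinj : Function.Injective ι := toGL_injective p
  have hmapinj : Function.Injective (Subgroup.map Ψ.toMonoidHom) :=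
    Subgroup.map_injective Ψ.injective
  have hle : ι.range ≤ A.map Ψ.toMonoidHom := by
    apply range_toGL_le_of_two_pgroups p (A.map Ψ.toMonoidHom) (Q₁.map Ψ.toMonoidHom) (Q₂.map Ψ.toMonoidHom)
      (Subgroup.map_mono h₁) (Subgroup.map_mono h₂) (hp₁.map _) (hp₂.map _)
    · intro h
      apply hne₁
      apply hmapinj
      rw [h, Subgroup.map_bot]
    · intro h
      apply hne₂
      apply hmapinj
      rw [h, Subgroup.map_bot]
    · intro h
      exact hne (hmapinj h)
  refine ⟨ι.range.map Ψ.symm.toMonoidHom, ?_, ?_⟩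
  · have h1 := Subgroup.map_mono (f := Ψ.symm.toMonoidHom) hle
    rw [Subgroup.map_map] at h1
    have h2 : Ψ.symm.toMonoidHom.comp Ψ.toMonoidHom = MonoidHom.id _ := by
      ext x
      simp
    rw [h2, Subgroup.map_id] at h1
    exact h1
  · exact ⟨((Ψ.symm.subgroupMap ι.range).symm).trans (MonoidHom.ofInjective hinj).symm⟩

end Main

end Cfsg.Agent.Lib.Helper26
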