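import Cfsg.Agent.Lib.Helper26.FSSatEquiv

/-!
The fusion system of a finite group on a Sylow subgroup: Sylow-theoretic descriptions of fully
normalized / fully centralized subgroups, normal `p`-subgroups, and saturation.
-/

set_option autoImplicit false

namespace Cfsg.Agent.Lib.Helper26

open Cfsg Cfsg.FusionSystem

section SylowTools

open scoped Pointwise

variable {G : Type*} [Group G]

theorem mem_map_conj {B : Subgroup G} {g y : G} :
    y ∈ B.map (MulAut.conj g).toMonoidHom ↔ g⁻¹ * y * g ∈ B := by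
  constructor
  · rintro ⟨x, hx, rfl⟩
    show g⁻¹ * (g * x * g⁻¹) * g ∈ B
    simpa [mul_assoc] using hx
  · intro h
    refine ⟨g⁻¹ * y * g, h, ?_⟩
    show g * (g⁻¹ * y * g) * g⁻¹ = y
    simp [mul_assoc]

theorem conj_mem_map_conj {B : Subgroup G} {g x : G} (hx : x ∈ B) :
    g * x * g⁻¹ ∈ B.map (MulAut.conj g).toMonoidHom := ⟨x, hx, rfl⟩

theorem card_map_conj (B : Subgroup G) (g : G) :
    Nat.card (B.map (MulAut.conj g).toMonoidHom) = Nat.card B :=
  Subgroup.card_map_of_injective (MulAut.conj g).injective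

theorem isPGroup_map_conj {p : ℕ} {B : Subgroup G} (hB : IsPGroup p B) (g : G) :
    IsPGroup p (B.map (MulAut.conj g).toMonoidHom) := hB.map _

theorem map_conj_mono {A B : Subgroup G} (h : A ≤ B) (g : G) :
    A.map (MulAut.conj g).toMonoidHom ≤ B.map (MulAut.conj g).toMonoidHom := Subgroup.map_mono h

theorem map_conj_map_conj (B : Subgroup G) (g h : G) :
    (B.map (MulAut.conj g).toMonoidHom).map (MulAut.conj h).toMonoidHom =
      B.map (MulAut.conj (h * g)).toMonoidHom := by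
  ext y
  simp only [mem_map_conj, mul_inv_rev, mul_assoc]

theorem map_conj_inv_map_conj (B : Subgroup G) (g : G) :
    (B.map (MulAut.conj g).toMonoidHom).map (MulAut.conj g⁻¹).toMonoidHom = B := by
  ext y
  simp only [mem_map_conj, inv_inv, mul_assoc]
  simp [← mul_assoc]

theorem map_conj_of_mem_normalizer {B : Subgroup G} {g : G} (hg : g ∈ Subgroup.normalizer (B : Set G)) :
    B.map (MulAut.conj g).toMonoidHom = B := by
  ext y
  rw [mem_map_conj]
  have := (Subgroup.mem_normalizer_iff.mp (Subgroup.inv_mem _ hg)) y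
  rw [inv_inv] at this
  exact this.symm

/-- Sylow's theorem: a `p`-subgroup is conjugate into a given Sylow `p`-subgroup. -/
theorem exists_conj_le_sylow [Finite G] {p : ℕ} [Fact p.Prime] (S : Sylow p G) {B : Subgroup G}
    (hB : IsPGroup p B) : ∃ g : G, B.map (MulAut.conj g).toMonoidHom ≤ S := by
  obtain ⟨R, hR⟩ := hB.exists_le_sylow
  obtain ⟨g, hg⟩ := MulAction.exists_smul_eq G R S
  refine ⟨g, ?_⟩
  rintro _ ⟨x, hx, rfl⟩
  have h1 : (MulAut.conj g) • x ∈ (MulAut.conj g) • (R : Subgroup G) :=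
    Subgroup.smul_mem_pointwise_smul _ _ _ (hR hx)
  rw [← Sylow.coe_subgroup_smul, hg] at h1
  exact h1

/-- Relative Sylow conjugacy: if `A` is a Sylow `p`-subgroup of `H`, every `p`-subgroup of `H` is
conjugate into `A` by an element of `H`. -/
theorem exists_conj_le_of_sylowIn [Finite G] {p : ℕ} [Fact p.Prime] {H A : Subgroup G}
    (hS : ∃ R : Sylow p H, (R : Subgroup H) = A.subgroupOf H) {B : Subgroup G} (hBH : B ≤ H)
    (hB : IsPGroup p B) : ∃ h ∈ H, B.map (MulAut.conj h).toMonoidHom ≤ A := by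
  obtain ⟨R, hR⟩ := hS
  have hB' : IsPGroup p (B.subgroupOf H) := hB.comap_subtype
  obtain ⟨h, hh⟩ := exists_conj_le_sylow R hB'
  refine ⟨h, h.2, ?_⟩
  rintro _ ⟨x, hx, rfl⟩
  have h1 : h * ⟨x, hBH hx⟩ * h⁻¹ ∈ (R : Subgroup H) := hh ⟨⟨x, hBH hx⟩, hx, rfl⟩
  rw [hR, Subgroup.mem_subgroupOf] at h1
  exact h1

/-- Cardinality characterization of being a Sylow `p`-subgroup of `H`. -/
theorem sylowIn_iff_card [Finite G] {p : ℕ} [Fact p.Prime] {H A : Subgroup G} (hA : A ≤ H) :
    (∃ R : Sylow p H, (R : Subgroup H) = A.subgroupOf H) ↔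
      IsPGroup p A ∧ ∀ B : Subgroup G, B ≤ H → IsPGroup p B → Nat.card B ≤ Nat.card A := by
  constructor
  · intro hS
    refine ⟨?_, fun B hBH hB => ?_⟩
    · obtain ⟨R, hR⟩ := hS
      have h1 : IsPGroup p (A.subgroupOf H) := hR ▸ R.isPGroup'
      exact h1.of_equiv (Subgroup.subgroupOfEquivOfLe hA)
    · obtain ⟨h, -, hh⟩ := exists_conj_le_of_sylowIn hS hBH hB
      rw [← card_map_conj B h]
      exact Subgroup.card_le_of_le hh
  · rintro ⟨hpA, hmax⟩
    have h1 : IsPGroup p (A.subgroupOf H) := hpA.comap_subtype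
    obtain ⟨R, hR⟩ := h1.exists_le_sylow
    refine ⟨R, (Subgroup.eq_of_le_of_card_ge hR ?_).symm⟩
    have h2 := hmax ((R : Subgroup H).map H.subtype) (Subgroup.map_subtype_le _) (R.isPGroup'.map _)
    rw [Subgroup.card_map_of_injective H.subtype_injective] at h2
    rw [Nat.card_congr (Subgroup.subgroupOfEquivOfLe hA).toEquiv]
    exact h2

end SylowTools

section GroupFS

variable {G : Type*} [Group G]

theorem mem_groupFS_hom (S P : Subgroup G) (φ : P →* G) :
    φ ∈ (groupFusionSystem S).Hom P ↔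
      P ≤ S ∧ (∀ x : P, φ x ∈ S) ∧ ∃ g : G, ∀ x : P, φ x = g * (x : G) * g⁻¹ := Iff.rfl

theorem conjHom_range (P : Subgroup G) (g : G) :
    (conjHom P g).range = P.map (MulAut.conj g).toMonoidHom := by
  ext y
  constructor
  · rintro ⟨x, rfl⟩
    exact ⟨x, x.2, rfl⟩
  · rintro ⟨x, hx, rfl⟩
    exact ⟨⟨x, hx⟩, rfl⟩

theorem conjHom_mem_groupFS {S P : Subgroup G} (hP : P ≤ S) {g : G}
    (h : P.map (MulAut.conj g).toMonoidHom ≤ S) : conjHom P g ∈ (groupFusionSystem S).Hom P :=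
  ⟨hP, fun x => h ⟨x, x.2, rfl⟩, g, fun _ => rfl⟩

theorem eq_conjHom_of_forall {P : Subgroup G} {φ : P →* G} {g : G}
    (h : ∀ x : P, φ x = g * (x : G) * g⁻¹) : φ = conjHom P g := by
  ext x
  rw [h x]
  rfl

theorem groupFS_isConj_iff (S P Q : Subgroup G) :
    (groupFusionSystem S).IsConj P Q ↔
      P ≤ S ∧ Q ≤ S ∧ ∃ g : G, P.map (MulAut.conj g).toMonoidHom = Q := by
  constructor
  · rintro ⟨φ, ⟨hP, hφS, g, hg⟩, rfl⟩
    refine ⟨hP, ?_, g, ?_⟩
    · rintro _ ⟨x, rfl⟩
      exact hφS x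
    · rw [eq_conjHom_of_forall hg, conjHom_range]
  · rintro ⟨hP, hQ, g, rfl⟩
    exact ⟨conjHom P g, conjHom_mem_groupFS hP hQ, conjHom_range P g⟩

/-- A normal `p`-subgroup is normal in the fusion system of the group. -/
theorem groupFS_isNormal_of_normal [Finite G] {p : ℕ} [Fact p.Prime] (S : Sylow p G) (R : Subgroup G)
    [R.Normal] (hR : IsPGroup p R) : (groupFusionSystem (S : Subgroup G)).IsNormal R := by
  have hRS : R ≤ S := hR.le_sylow_of_normal S
  refine ⟨hRS, ?_⟩
  rintro P φ ⟨hP, hφS, g, hg⟩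
  have hle : P ⊔ R ≤ (S : Subgroup G).comap (MulAut.conj g).toMonoidHom := by
    apply sup_le
    · intro x hx
      show g * x * g⁻¹ ∈ (S : Subgroup G)
      rw [← hg ⟨x, hx⟩]
      exact hφS _
    · intro x hx
      show g * x * g⁻¹ ∈ (S : Subgroup G)
      exact hRS (Subgroup.Normal.conj_mem inferInstance x hx g)
  refine ⟨conjHom (P ⊔ R) g, ⟨sup_le hP hRS, fun x => hle x.2, g, fun _ => rfl⟩, fun x => (hg x).symm, ?_⟩
  apply conjHom_map_eq_of_mem_normalizer le_sup_right
  rw [Subgroup.normalizer_eq_top_iff.mpr inferInstance]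
  trivial

theorem map_conj_normalizer (P : Subgroup G) (g : G) :
    (Subgroup.normalizer (P : Set G)).map (MulAut.conj g).toMonoidHom =
      Subgroup.normalizer ((P.map (MulAut.conj g).toMonoidHom : Subgroup G) : Set G) :=
  Subgroup.map_equiv_normalizer_eq P (MulAut.conj g)

theorem map_conj_centralizer (P : Subgroup G) (g : G) :
    (Subgroup.centralizer (P : Set G)).map (MulAut.conj g).toMonoidHom =
      Subgroup.centralizer ((P.map (MulAut.conj g).toMonoidHom : Subgroup G) : Set G) := by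
  ext y
  rw [mem_map_conj, Subgroup.mem_centralizer_iff, Subgroup.mem_centralizer_iff]
  constructor
  · rintro h _ ⟨x, hx, rfl⟩
    have := h x hx
    show g * x * g⁻¹ * y = y * (g * x * g⁻¹)
    calc g * x * g⁻¹ * y = g * (x * (g⁻¹ * y * g)) * g⁻¹ := by simp [mul_assoc]
      _ = g * ((g⁻¹ * y * g) * x) * g⁻¹ := by rw [this]
      _ = y * (g * x * g⁻¹) := by simp [mul_assoc]
  · intro h x hx
    have := h (g * x * g⁻¹) ⟨x, hx, rfl⟩
    calc x * (g⁻¹ * y * g) = g⁻¹ * (g * x * g⁻¹ * y) * g := by simp [mul_assoc]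
      _ = g⁻¹ * (y * (g * x * g⁻¹)) * g := by rw [this]
      _ = g⁻¹ * y * g * x := by simp [mul_assoc]

/-- Generic form of "fully normalized/centralized iff the local subgroup of `S` is Sylow in the local
subgroup of `G`". -/
theorem fullyLocal_iff [Finite G] {p : ℕ} [Fact p.Prime] (N : Subgroup G → Subgroup G)
    (hN : ∀ P : Subgroup G, N P ≤ Subgroup.normalizer (P : Set G))
    (hconj : ∀ (P : Subgroup G) (g : G),
      (N P).map (MulAut.conj g).toMonoidHom = N (P.map (MulAut.conj g).toMonoidHom))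
    (S : Sylow p G) {P : Subgroup G} (hP : P ≤ S) :
    (∀ Q : Subgroup G, (groupFusionSystem (S : Subgroup G)).IsConj P Q →
        Nat.card ↥((S : Subgroup G) ⊓ N Q) ≤ Nat.card ↥((S : Subgroup G) ⊓ N P)) ↔
      ∃ R : Sylow p (N P), (R : Subgroup (N P)) = ((S : Subgroup G) ⊓ N P).subgroupOf (N P) := by
  rw [sylowIn_iff_card inf_le_right]
  constructor
  · intro hfull
    refine ⟨S.isPGroup'.to_le inf_le_left, fun B hBN hB => ?_⟩
    have hPp : IsPGroup p P := S.isPGroup'.to_le hP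
    have hPB : IsPGroup p (B ⊔ P : Subgroup G) :=
      hB.to_sup_of_normal_right' hPp (hBN.trans (hN P))
    obtain ⟨g, hg⟩ := exists_conj_le_sylow S hPB
    have hQS : P.map (MulAut.conj g).toMonoidHom ≤ S := (map_conj_mono le_sup_right g).trans hg
    have hconjPQ : (groupFusionSystem (S : Subgroup G)).IsConj P (P.map (MulAut.conj g).toMonoidHom) :=
      (groupFS_isConj_iff _ _ _).mpr ⟨hP, hQS, g, rfl⟩
    have hBle : B.map (MulAut.conj g).toMonoidHom ≤ (S : Subgroup G) ⊓ N (P.map (MulAut.conj g).toMonoidHom) := by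
      apply le_inf ((map_conj_mono le_sup_left g).trans hg)
      rw [← hconj]
      exact map_conj_mono hBN g
    calc Nat.card B = Nat.card (B.map (MulAut.conj g).toMonoidHom) := (card_map_conj B g).symm
      _ ≤ Nat.card ↥((S : Subgroup G) ⊓ N (P.map (MulAut.conj g).toMonoidHom)) := Subgroup.card_le_of_le hBle
      _ ≤ _ := hfull _ hconjPQ
  · rintro ⟨-, hmax⟩ Q hPQ
    obtain ⟨-, hQS, g, rfl⟩ := (groupFS_isConj_iff _ _ _).mp hPQ
    set Q := P.map (MulAut.conj g).toMonoidHom with hQ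
    have h1 : ((S : Subgroup G) ⊓ N Q).map (MulAut.conj g⁻¹).toMonoidHom ≤ N P := by
      have : (N Q).map (MulAut.conj g⁻¹).toMonoidHom = N P := by
        rw [hQ, ← hconj, map_conj_inv_map_conj]
      rw [← this]
      exact map_conj_mono inf_le_right _
    have h2 := hmax _ h1 (isPGroup_map_conj (S.isPGroup'.to_le inf_le_left) _)
    rwa [card_map_conj] at h2

/-- Fully normalized in `F_S(G)` iff `N_S(P)` is a Sylow `p`-subgroup of `N_G(P)`. -/
theorem groupFS_fullyNormalized_iff [Finite G] {p : ℕ} [Fact p.Prime] (S : Sylow p G) {P : Subgroup G}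
    (hP : P ≤ S) :
    (groupFusionSystem (S : Subgroup G)).IsFullyNormalized P ↔
      ∃ R : Sylow p ↥(Subgroup.normalizer (P : Set G)),
        (R : Subgroup ↥(Subgroup.normalizer (P : Set G))) =
          (normalizerIn (S : Subgroup G) P).subgroupOf (Subgroup.normalizer (P : Set G)) := by
  have := fullyLocal_iff (fun P : Subgroup G => Subgroup.normalizer (P : Set G)) (fun _ => le_rfl)
    (fun P g => map_conj_normalizer P g) S hP
  refine Iff.trans ?_ this
  exact ⟨fun h => h.2, fun h => ⟨hP, h⟩⟩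

/-- Fully centralized in `F_S(G)` iff `C_S(P)` is a Sylow `p`-subgroup of `C_G(P)`. -/
theorem groupFS_fullyCentralized_iff [Finite G] {p : ℕ} [Fact p.Prime] (S : Sylow p G) {P : Subgroup G}
    (hP : P ≤ S) :
    (groupFusionSystem (S : Subgroup G)).IsFullyCentralized P ↔
      ∃ R : Sylow p ↥(Subgroup.centralizer (P : Set G)),
        (R : Subgroup ↥(Subgroup.centralizer (P : Set G))) =
          (centralizerIn (S : Subgroup G) P).subgroupOf (Subgroup.centralizer (P : Set G)) := by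
  have := fullyLocal_iff (fun P : Subgroup G => Subgroup.centralizer (P : Set G))
    (fun P => Subgroup.centralizer_le_normalizer _)
    (fun P g => map_conj_centralizer P g) S hP
  refine Iff.trans ?_ this
  exact ⟨fun h => h.2, fun h => ⟨hP, h⟩⟩

theorem normalizer_le_normalizer_centralizer (Q : Subgroup G) :
    Subgroup.normalizer (Q : Set G) ≤
      Subgroup.normalizer ((Subgroup.centralizer (Q : Set G) : Subgroup G) : Set G) := by
  intro x hx
  rw [Subgroup.mem_normalizer_iff]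
  intro c
  have h1 : ∀ y : G, y ∈ Subgroup.normalizer (Q : Set G) → ∀ c ∈ Subgroup.centralizer (Q : Set G),
      y * c * y⁻¹ ∈ Subgroup.centralizer (Q : Set G) := by
    intro y hy c hc
    have h2 : y * c * y⁻¹ ∈ (Subgroup.centralizer (Q : Set G)).map (MulAut.conj y).toMonoidHom :=
      ⟨c, hc, rfl⟩
    rw [map_conj_centralizer, map_conj_of_mem_normalizer hy] at h2
    exact h2
  refine ⟨h1 x hx c, fun h => ?_⟩
  have := h1 x⁻¹ (Subgroup.inv_mem _ hx) _ h
  simpa [mul_assoc] using this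

/-- If `N_S(Q)` is Sylow in `N_G(Q)`, any `p`-subgroup of `N_S(Q) C_G(Q)` can be conjugated into `N_S(Q)` by an
element of `C_G(Q)`. -/
theorem exists_centralizer_conj_le [Finite G] {p : ℕ} [Fact p.Prime] (S : Sylow p G) (Q : Subgroup G)
    (hN : ∃ R : Sylow p ↥(Subgroup.normalizer (Q : Set G)),
      (R : Subgroup ↥(Subgroup.normalizer (Q : Set G))) =
        (normalizerIn (S : Subgroup G) Q).subgroupOf (Subgroup.normalizer (Q : Set G)))
    {B : Subgroup G} (hB : IsPGroup p B)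
    (hBK : B ≤ normalizerIn (S : Subgroup G) Q ⊔ Subgroup.centralizer (Q : Set G)) :
    ∃ c ∈ Subgroup.centralizer (Q : Set G),
      B.map (MulAut.conj c).toMonoidHom ≤ normalizerIn (S : Subgroup G) Q := by
  have hNS : normalizerIn (S : Subgroup G) Q ≤ Subgroup.normalizer (Q : Set G) := inf_le_right
  have hK : normalizerIn (S : Subgroup G) Q ⊔ Subgroup.centralizer (Q : Set G) ≤
      Subgroup.normalizer (Q : Set G) := sup_le hNS (Subgroup.centralizer_le_normalizer _)
  have hcard := (sylowIn_iff_card hNS).mp hN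
  have hSylK : ∃ R : Sylow p ↥(normalizerIn (S : Subgroup G) Q ⊔ Subgroup.centralizer (Q : Set G)),
      (R : Subgroup _) = (normalizerIn (S : Subgroup G) Q).subgroupOf
        (normalizerIn (S : Subgroup G) Q ⊔ Subgroup.centralizer (Q : Set G)) := by
    rw [sylowIn_iff_card le_sup_left]
    exact ⟨hcard.1, fun B hBK hB => hcard.2 B (hBK.trans hK) hB⟩
  obtain ⟨k, hkK, hk⟩ := exists_conj_le_of_sylowIn hSylK hBK hB
  have hkK' : k ∈ ((normalizerIn (S : Subgroup G) Q ⊔ Subgroup.centralizer (Q : Set G) : Subgroup G) : Set G) := hkK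
  rw [Subgroup.coe_mul_of_left_le_normalizer_right _ _
    (hNS.trans (normalizer_le_normalizer_centralizer Q))] at hkK'
  obtain ⟨s, hs, c, hc, rfl⟩ := hkK'
  refine ⟨c, hc, ?_⟩
  rintro _ ⟨y, hy, rfl⟩
  have h1 : s * c * y * (s * c)⁻¹ ∈ normalizerIn (S : Subgroup G) Q := hk ⟨y, hy, rfl⟩
  have h2 : s⁻¹ * (s * c * y * (s * c)⁻¹) * s ∈ normalizerIn (S : Subgroup G) Q :=
    Subgroup.mul_mem _ (Subgroup.mul_mem _ (Subgroup.inv_mem _ hs) h1) hs
  have h3 : s⁻¹ * (s * c * y * (s * c)⁻¹) * s = c * y * c⁻¹ := by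
    simp [mul_assoc]
  rw [h3] at h2
  exact h2

/-- Statement S5123. -/
theorem groupFS_exists_conj_extension [Finite G] {p : ℕ} [Fact p.Prime] (S : Sylow p G) (P Q : Subgroup G) (g : G)
    (hN : ∃ R : Sylow p ↥(Subgroup.normalizer (Q : Set G)),
      (R : Subgroup ↥(Subgroup.normalizer (Q : Set G))) =
        (normalizerIn (S : Subgroup G) Q).subgroupOf (Subgroup.normalizer (Q : Set G))) :
    ∃ h ∈ Subgroup.centralizer (Q : Set G),
      ((normalizerIn (S : Subgroup G) P) ⊓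
        (normalizerIn (S : Subgroup G) Q ⊔ Subgroup.centralizer (Q : Set G)).comap
          (MulAut.conj g).toMonoidHom).map (MulAut.conj (h * g)).toMonoidHom ≤ S := by
  set N := (normalizerIn (S : Subgroup G) P) ⊓
        (normalizerIn (S : Subgroup G) Q ⊔ Subgroup.centralizer (Q : Set G)).comap
          (MulAut.conj g).toMonoidHom with hNdef
  have hNp : IsPGroup p N := S.isPGroup'.to_le (inf_le_left.trans inf_le_left)
  have hBK : N.map (MulAut.conj g).toMonoidHom ≤
      normalizerIn (S : Subgroup G) Q ⊔ Subgroup.centralizer (Q : Set G) := by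
    rintro _ ⟨y, hy, rfl⟩
    exact hy.2
  obtain ⟨c, hc, hcB⟩ := exists_centralizer_conj_le S Q hN (isPGroup_map_conj hNp g) hBK
  refine ⟨c, hc, ?_⟩
  rw [← map_conj_map_conj]
  exact hcB.trans inf_le_left

/-- Every subgroup of `S` has a `G`-conjugate `Q ≤ S` with `N_S(Q)` Sylow in `N_G(Q)`. -/
theorem groupFS_exists_conj_sylow_normalizer [Finite G] {p : ℕ} [Fact p.Prime] (S : Sylow p G)
    {P : Subgroup G} (hP : P ≤ S) :
    ∃ g : G, P.map (MulAut.conj g).toMonoidHom ≤ S ∧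
      ∃ R : Sylow p ↥(Subgroup.normalizer ((P.map (MulAut.conj g).toMonoidHom : Subgroup G) : Set G)),
        (R : Subgroup ↥(Subgroup.normalizer ((P.map (MulAut.conj g).toMonoidHom : Subgroup G) : Set G))) =
          (normalizerIn (S : Subgroup G) (P.map (MulAut.conj g).toMonoidHom)).subgroupOf
            (Subgroup.normalizer ((P.map (MulAut.conj g).toMonoidHom : Subgroup G) : Set G)) := by
  obtain ⟨Q, hPQ, hQ⟩ := exists_fullyNormalized_conj (groupFusionSystem (S : Subgroup G)) hP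
  obtain ⟨-, hQS, g, rfl⟩ := (groupFS_isConj_iff _ _ _).mp hPQ
  exact ⟨g, hQS, (groupFS_fullyNormalized_iff S hQS).mp hQ⟩

/-- If `N_S(Q)` is Sylow in `N_G(Q)` then `C_S(Q)` is Sylow in `C_G(Q)`. -/
theorem sylow_centralizer_of_sylow_normalizer [Finite G] {p : ℕ} [Fact p.Prime] (S : Sylow p G) (Q : Subgroup G)
    (hN : ∃ R : Sylow p ↥(Subgroup.normalizer (Q : Set G)),
      (R : Subgroup ↥(Subgroup.normalizer (Q : Set G))) =
        (normalizerIn (S : Subgroup G) Q).subgroupOf (Subgroup.normalizer (Q : Set G))) :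
    ∃ R : Sylow p ↥(Subgroup.centralizer (Q : Set G)),
      (R : Subgroup ↥(Subgroup.centralizer (Q : Set G))) =
        (centralizerIn (S : Subgroup G) Q).subgroupOf (Subgroup.centralizer (Q : Set G)) := by
  rw [sylowIn_iff_card (show centralizerIn (S : Subgroup G) Q ≤ Subgroup.centralizer (Q : Set G) from inf_le_right)]
  refine ⟨S.isPGroup'.to_le inf_le_left, fun B hBC hB => ?_⟩
  obtain ⟨x, hx, hxB⟩ := exists_conj_le_of_sylowIn hN (hBC.trans (Subgroup.centralizer_le_normalizer _)) hB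
  rw [← card_map_conj B x]
  apply Subgroup.card_le_of_le
  apply le_inf (hxB.trans inf_le_left)
  have := map_conj_mono hBC x
  rwa [map_conj_centralizer, map_conj_of_mem_normalizer hx] at this

/-- The surjection `N_G(Q) → Aut_G(Q)`. -/
noncomputable def normalizerToAut (Q : Subgroup G) :
    ↥(Subgroup.normalizer (Q : Set G)) →* ↥(autInducedBy (⊤ : Subgroup G) Q) :=
  Q.normalizerMonoidHom.codRestrict (autInducedBy ⊤ Q)
    (fun x => normalizerMonoidHom_mem_autInducedBy (Subgroup.mem_top _) x.2)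

theorem normalizerToAut_surjective (Q : Subgroup G) : Function.Surjective (normalizerToAut Q) := by
  rintro ⟨α, hα⟩
  obtain ⟨g, -, hgN, rfl⟩ := (mem_autInducedBy_iff' _ _ _).mp hα
  exact ⟨⟨g, hgN⟩, rfl⟩

/-- If `N_S(Q)` is Sylow in `N_G(Q)` then `Aut_S(Q)` is Sylow in `Aut_G(Q)`. -/
theorem sylow_aut_of_sylow_normalizer [Finite G] {p : ℕ} [Fact p.Prime] (S : Subgroup G) (Q : Subgroup G)
    (hN : ∃ R : Sylow p ↥(Subgroup.normalizer (Q : Set G)),
      (R : Subgroup ↥(Subgroup.normalizer (Q : Set G))) =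
        (normalizerIn S Q).subgroupOf (Subgroup.normalizer (Q : Set G))) :
    ∃ R : Sylow p ↥(autInducedBy (⊤ : Subgroup G) Q),
      (R : Subgroup ↥(autInducedBy (⊤ : Subgroup G) Q)) =
        (autInducedBy S Q).subgroupOf (autInducedBy ⊤ Q) := by
  obtain ⟨R, hR⟩ := hN
  refine ⟨R.mapSurjective (normalizerToAut_surjective Q), ?_⟩
  rw [Sylow.coe_mapSurjective, hR]
  ext ⟨α, hα⟩
  rw [Subgroup.mem_subgroupOf, Subgroup.mem_map]
  constructor
  · rintro ⟨x, hx, hxα⟩
    rw [Subgroup.mem_subgroupOf] at hx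
    have : α = Q.normalizerMonoidHom x := by
      have := congrArg Subtype.val hxα
      exact this.symm
    show α ∈ autInducedBy S Q
    rw [this]
    exact normalizerMonoidHom_mem_autInducedBy hx.1 x.2
  · intro h
    obtain ⟨g, hgS, hgN, rfl⟩ := (mem_autInducedBy_iff' _ _ _).mp h
    refine ⟨⟨g, hgN⟩, ?_, rfl⟩
    rw [Subgroup.mem_subgroupOf]
    exact ⟨hgS, hgN⟩

theorem groupFS_autGroup_eq {S Q : Subgroup G} (hQ : Q ≤ S) :
    (groupFusionSystem S).autGroup Q = autInducedBy ⊤ Q := by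
  ext α
  rw [mem_autGroup_iff _ hQ, mem_autInducedBy_iff, mem_groupFS_hom]
  constructor
  · rintro ⟨-, -, g, hg⟩
    exact ⟨g, Subgroup.mem_top _, hg⟩
  · rintro ⟨g, -, hg⟩
    exact ⟨hQ, fun x => hQ (α x).2, g, hg⟩

theorem groupFS_fullyAutomized_of_sylow_normalizer [Finite G] {p : ℕ} [Fact p.Prime] (S : Sylow p G) {Q : Subgroup G}
    (hQ : Q ≤ S)
    (hN : ∃ R : Sylow p ↥(Subgroup.normalizer (Q : Set G)),
      (R : Subgroup ↥(Subgroup.normalizer (Q : Set G))) =
        (normalizerIn (S : Subgroup G) Q).subgroupOf (Subgroup.normalizer (Q : Set G))) :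
    (groupFusionSystem (S : Subgroup G)).IsFullyAutomized p Q := by
  refine ⟨hQ, ?_⟩
  rw [groupFS_autGroup_eq hQ]
  exact sylow_aut_of_sylow_normalizer (S : Subgroup G) Q hN

theorem groupFS_receptive_of_sylow_normalizer [Finite G] {p : ℕ} [Fact p.Prime] (S : Sylow p G) {Q : Subgroup G}
    (hQ : Q ≤ S)
    (hN : ∃ R : Sylow p ↥(Subgroup.normalizer (Q : Set G)),
      (R : Subgroup ↥(Subgroup.normalizer (Q : Set G))) =
        (normalizerIn (S : Subgroup G) Q).subgroupOf (Subgroup.normalizer (Q : Set G))) :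
    (groupFusionSystem (S : Subgroup G)).IsReceptive Q := by
  refine ⟨hQ, ?_⟩
  rintro P φ ⟨hP, hφS, g, hg⟩ hφQ
  have hφ : φ = conjHom P g := eq_conjHom_of_forall hg
  have hPQ : P.map (MulAut.conj g).toMonoidHom = Q := by rw [← hφQ, hφ, conjHom_range]
  set E := extender (S : Subgroup G) P φ with hE
  have hES : E ≤ S := (extender_le _ _ _).trans inf_le_left
  have hEp : IsPGroup p E := S.isPGroup'.to_le hES
  -- `E^g ≤ N_S(Q) C_G(Q)`
  have hBK : E.map (MulAut.conj g).toMonoidHom ≤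
      normalizerIn (S : Subgroup G) Q ⊔ Subgroup.centralizer (Q : Set G) := by
    rintro _ ⟨x, hx, rfl⟩
    obtain ⟨hxS, hxN, h, hhS, hh⟩ := (mem_extender_iff _ _ _ _).mp hx
    show g * x * g⁻¹ ∈ _
    -- `c = h⁻¹ (g x g⁻¹)` centralizes `Q`
    have hc : h⁻¹ * (g * x * g⁻¹) ∈ Subgroup.centralizer (Q : Set G) := by
      rw [Subgroup.mem_centralizer_iff]
      intro q hq
      rw [← hPQ] at hq
      obtain ⟨y, hy, rfl⟩ := hq
      have hxy : x * y * x⁻¹ ∈ P := (Subgroup.mem_normalizer_iff.mp hxN y).mp hy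
      have h1 := hh ⟨y, hy⟩ hxy
      rw [hg, hg] at h1
      show g * y * g⁻¹ * (h⁻¹ * (g * x * g⁻¹)) = h⁻¹ * (g * x * g⁻¹) * (g * y * g⁻¹)
      have h2 : g * (x * y * x⁻¹) * g⁻¹ = h * (g * y * g⁻¹) * h⁻¹ := h1
      have h3 : g * y * g⁻¹ = h⁻¹ * (g * (x * y * x⁻¹) * g⁻¹) * h := by
        rw [h2]; simp [mul_assoc]
      calc g * y * g⁻¹ * (h⁻¹ * (g * x * g⁻¹))
          = h⁻¹ * (g * (x * y * x⁻¹) * g⁻¹) * h * (h⁻¹ * (g * x * g⁻¹)) := by rw [← h3]
        _ = h⁻¹ * (g * x * g⁻¹) * (g * y * g⁻¹) := by simp [mul_assoc]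
    -- `g x g⁻¹` normalizes `Q`
    have hgxN : g * x * g⁻¹ ∈ Subgroup.normalizer (Q : Set G) := by
      have : g * x * g⁻¹ ∈ (Subgroup.normalizer (P : Set G)).map (MulAut.conj g).toMonoidHom :=
        ⟨x, hxN, rfl⟩
      rwa [map_conj_normalizer, hPQ] at this
    have hhN : h ∈ Subgroup.normalizer (Q : Set G) := by
      have h1 : h = (g * x * g⁻¹) * (h⁻¹ * (g * x * g⁻¹))⁻¹ := by simp [mul_assoc]
      rw [h1]
      exact Subgroup.mul_mem _ hgxN (Subgroup.inv_mem _ (Subgroup.centralizer_le_normalizer _ hc))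
    have h4 : g * x * g⁻¹ = h * (h⁻¹ * (g * x * g⁻¹)) := by simp [mul_assoc]
    rw [h4]
    exact Subgroup.mul_mem _ (Subgroup.mem_sup_left ⟨hhS, hhN⟩) (Subgroup.mem_sup_right hc)
  obtain ⟨c, hc, hcB⟩ := exists_centralizer_conj_le S Q hN (isPGroup_map_conj hEp g) hBK
  rw [map_conj_map_conj] at hcB
  refine ⟨conjHom E (c * g), conjHom_mem_groupFS hES (hcB.trans inf_le_left), ?_⟩
  intro x hxP hxE
  rw [hg]
  show c * g * x * (c * g)⁻¹ = g * x * g⁻¹
  have hq : g * x * g⁻¹ ∈ Q := by rw [← hPQ]; exact ⟨x, hxP, rfl⟩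
  have := (Subgroup.mem_centralizer_iff.mp hc) _ hq
  calc c * g * x * (c * g)⁻¹ = c * (g * x * g⁻¹) * c⁻¹ := by simp [mul_assoc]
    _ = (g * x * g⁻¹) * c * c⁻¹ := by rw [← this]
    _ = g * x * g⁻¹ := by simp

/-- **Saturation of the fusion system of a finite group on a Sylow subgroup.** -/
theorem groupFS_saturated [Finite G] {p : ℕ} [Fact p.Prime] (S : Sylow p G) :
    (groupFusionSystem (S : Subgroup G)).IsSaturated p := by
  intro P hP
  obtain ⟨g, hQS, hN⟩ := groupFS_exists_conj_sylow_normalizer S hP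
  exact ⟨_, (groupFS_isConj_iff _ _ _).mpr ⟨hP, hQS, g, rfl⟩,
    groupFS_fullyAutomized_of_sylow_normalizer S hQS hN,
    groupFS_receptive_of_sylow_normalizer S hQS hN⟩

end GroupFS

end Cfsg.Agent.Lib.Helper26
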