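import Cfsg.Agent.Lib.Helper26.FSBasic
set_option autoImplicit false

/-!
Saturation: basic consequences (helper26's library).
-/

namespace Cfsg.Agent.Lib.Helper26

open Cfsg Cfsg.FusionSystem

variable {Ω : Type*} [Group Ω] {S : Subgroup Ω}

theorem centralizerIn_le (S P : Subgroup Ω) : centralizerIn S P ≤ S := inf_le_left

theorem normalizerIn_le (S P : Subgroup Ω) : normalizerIn S P ≤ S := inf_le_left

theorem mem_centralizerIn_iff {S P : Subgroup Ω} {g : Ω} :
    g ∈ centralizerIn S P ↔ g ∈ S ∧ ∀ x ∈ P, x * g = g * x := by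
  unfold centralizerIn
  rw [Subgroup.mem_inf, Subgroup.mem_centralizer_iff]
  rfl

theorem mem_normalizerIn_iff {S P : Subgroup Ω} {g : Ω} :
    g ∈ normalizerIn S P ↔ g ∈ S ∧ ∀ x, x ∈ P ↔ g * x * g⁻¹ ∈ P := by
  unfold normalizerIn
  rw [Subgroup.mem_inf, Subgroup.mem_normalizer_iff]

theorem centralizerIn_le_normalizerIn (S P : Subgroup Ω) : centralizerIn S P ≤ normalizerIn S P :=
  inf_le_inf_left _ (Subgroup.centralizer_le_normalizer _)

/-- Elements of `C_S(P)` lie in the extender of any map with source `P`. -/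
theorem centralizerIn_le_extender (P : Subgroup Ω) (φ : P →* Ω) : centralizerIn S P ≤ extender S P φ := by
  intro c hc
  rw [mem_extender_iff]
  obtain ⟨hcS, hcP⟩ := mem_centralizerIn_iff.mp hc
  refine ⟨hcS, (centralizerIn_le_normalizerIn S P hc).2, 1, S.one_mem, fun x hx => ?_⟩
  have : (⟨c * (x : Ω) * c⁻¹, hx⟩ : P) = x := by
    apply Subtype.ext
    show c * (x : Ω) * c⁻¹ = x
    rw [← hcP x x.2, mul_inv_cancel_right]
  rw [this]
  simp

/-- `P` itself lies in the extender of any map with source `P ≤ S` and values in `S`. -/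
theorem le_extender {P : Subgroup Ω} (hP : P ≤ S) (φ : P →* Ω) (hφ : ∀ x, φ x ∈ S) : P ≤ extender S P φ := by
  intro q hq
  rw [mem_extender_iff]
  refine ⟨hP hq, Subgroup.le_normalizer hq, φ ⟨q, hq⟩, hφ _, fun x hx => ?_⟩
  have : (⟨q * (x : Ω) * q⁻¹, hx⟩ : P) = ⟨q, hq⟩ * x * ⟨q, hq⟩⁻¹ := by
    apply Subtype.ext
    rfl
  rw [this, map_mul, map_mul, map_inv]

theorem extender_le (S P : Subgroup Ω) (φ : P →* Ω) : extender S P φ ≤ normalizerIn S P := by
  intro g hg
  rw [mem_extender_iff] at hg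
  exact ⟨hg.1, hg.2.1⟩

/-- A receptive subgroup is fully centralized. -/
theorem receptive_fullyCentralized [Finite S] (F : FusionSystem S) (P : Subgroup Ω) (hP : F.IsReceptive P) :
    F.IsFullyCentralized P := by
  refine ⟨hP.1, fun Q hPQ => ?_⟩
  obtain ⟨ψ, hψ, hψr⟩ := isConj_symm F hPQ
  obtain ⟨χ, hχ, hχψ⟩ := hP.2 Q ψ hψ hψr
  have hQS : Q ≤ S := hom_le F hψ
  have hQext : Q ≤ extender S Q ψ := le_extender hQS ψ (hom_apply_mem F hψ)
  have hCext : centralizerIn S Q ≤ extender S Q ψ := centralizerIn_le_extender Q ψ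
  have hmem : ∀ c : centralizerIn S Q, χ ⟨c, hCext c.2⟩ ∈ centralizerIn S P := by
    intro c
    rw [mem_centralizerIn_iff]
    refine ⟨hom_apply_mem F hχ _, fun y hy => ?_⟩
    rw [← hψr] at hy
    obtain ⟨q, rfl⟩ := hy
    rw [← hχψ q q.2 (hQext q.2), ← map_mul, ← map_mul]
    congr 1
    apply Subtype.ext
    exact (mem_centralizerIn_iff.mp c.2).2 q q.2
  have : Finite (centralizerIn S P) := Finite.of_injective (Subgroup.inclusion (centralizerIn_le S P))
    (Subgroup.inclusion_injective _)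
  apply Nat.card_le_card_of_injective (fun c : centralizerIn S Q => (⟨χ ⟨c, hCext c.2⟩, hmem c⟩ : centralizerIn S P))
  intro a b hab
  have h1 : χ ⟨a, hCext a.2⟩ = χ ⟨b, hCext b.2⟩ := congrArg Subtype.val hab
  have h2 := F.injective_of_mem hχ h1
  apply Subtype.ext
  exact congrArg (fun z : extender S Q ψ => (z : Ω)) h2

end Cfsg.Agent.Lib.Helper26
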