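import Cfsg.Agent.Lib.Helper26.FSNormal
import Cfsg.Agent.Lib.Helper26.FSSat
set_option autoImplicit false

/-!
The normalizer and centralizer fusion systems exist (helper26's library).
-/

namespace Cfsg.Agent.Lib.Helper26

open Cfsg Cfsg.FusionSystem

variable {Ω : Type*} [Group Ω] {S : Subgroup Ω}

theorem mem_map_subgroupOf {R A : Subgroup Ω} (ψ : R →* Ω) (z : Ω) :
    z ∈ (A.subgroupOf R).map ψ ↔ ∃ y : R, (y : Ω) ∈ A ∧ ψ y = z := by
  constructor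
  · rintro ⟨y, hy, rfl⟩
    exact ⟨y, hy, rfl⟩
  · rintro ⟨y, hy, rfl⟩
    exact ⟨y, hy, rfl⟩

theorem map_subgroupOf_eq_iff {R Q : Subgroup Ω} (ψ : R →* Ω) :
    (Q.subgroupOf R).map ψ = Q ↔
      (∀ y : R, (y : Ω) ∈ Q → ψ y ∈ Q) ∧ (∀ z ∈ Q, ∃ y : R, (y : Ω) ∈ Q ∧ ψ y = z) := by
  constructor
  · intro h
    refine ⟨fun y hy => ?_, fun z hz => ?_⟩
    · have : ψ y ∈ (Q.subgroupOf R).map ψ := ⟨y, hy, rfl⟩
      rwa [h] at this
    · have : z ∈ (Q.subgroupOf R).map ψ := by rw [h]; exact hz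
      exact (mem_map_subgroupOf ψ z).mp this
  · rintro ⟨h1, h2⟩
    ext z
    rw [mem_map_subgroupOf]
    constructor
    · rintro ⟨y, hy, rfl⟩
      exact h1 y hy
    · exact h2 z

theorem map_subgroupOf_eq_iff' {R A B : Subgroup Ω} (ψ : R →* Ω) :
    (A.subgroupOf R).map ψ = B ↔
      (∀ y : R, (y : Ω) ∈ A → ψ y ∈ B) ∧ (∀ z ∈ B, ∃ y : R, (y : Ω) ∈ A ∧ ψ y = z) := by
  constructor
  · intro h
    refine ⟨fun y hy => ?_, fun z hz => ?_⟩
    · have : ψ y ∈ (A.subgroupOf R).map ψ := ⟨y, hy, rfl⟩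
      rwa [h] at this
    · have : z ∈ (A.subgroupOf R).map ψ := by rw [h]; exact hz
      exact (mem_map_subgroupOf ψ z).mp this
  · rintro ⟨h1, h2⟩
    ext z
    rw [mem_map_subgroupOf]
    constructor
    · rintro ⟨y, hy, rfl⟩
      exact h1 y hy
    · exact h2 z

/-- If `ψ` on `P ⊔ Q` extends `φ` on `P` and maps `Q` onto `Q`, then it maps `P ⊔ Q` into `φ.range ⊔ Q`. -/
theorem ext_apply_mem_sup {P Q : Subgroup Ω} (φ : P →* Ω) (ψ : ↥(P ⊔ Q) →* Ω)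
    (hext : ∀ x : P, ψ (Subgroup.inclusion le_sup_left x) = φ x)
    (hQ : (Q.subgroupOf (P ⊔ Q)).map ψ = Q) (x : ↥(P ⊔ Q)) : ψ x ∈ φ.range ⊔ Q := by
  have h1 : ψ.range = (P.subgroupOf (P ⊔ Q)).map ψ ⊔ (Q.subgroupOf (P ⊔ Q)).map ψ := by
    rw [← map_subgroupOf_sup le_sup_left le_sup_right, Subgroup.subgroupOf_self, MonoidHom.range_eq_map]
  have h2 : (P.subgroupOf (P ⊔ Q)).map ψ = φ.range := by
    ext z
    rw [mem_map_subgroupOf]
    constructor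
    · rintro ⟨y, hy, rfl⟩
      refine ⟨⟨y, hy⟩, ?_⟩
      rw [← hext]
      rfl
    · rintro ⟨y, rfl⟩
      exact ⟨Subgroup.inclusion le_sup_left y, y.2, hext y⟩
  have : ψ x ∈ ψ.range := ⟨x, rfl⟩
  rw [h1, h2, hQ] at this
  exact this

theorem conjHom_map_eq_of_mem_normalizer {R Q : Subgroup Ω} (hQR : Q ≤ R) {g : Ω}
    (hg : g ∈ Subgroup.normalizer (Q : Set Ω)) : (Q.subgroupOf R).map (conjHom R g) = Q := by
  ext z
  rw [mem_map_subgroupOf]
  constructor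
  · rintro ⟨y, hy, rfl⟩
    exact (Subgroup.mem_normalizer_iff.mp hg _).mp hy
  · intro hz
    have hz' : g⁻¹ * z * g⁻¹⁻¹ ∈ Q := (Subgroup.mem_normalizer_iff.mp (Subgroup.inv_mem _ hg) _).mp hz
    refine ⟨⟨g⁻¹ * z * g⁻¹⁻¹, hQR hz'⟩, hz', ?_⟩
    simp [conjHom_apply, mul_assoc]

/-- The normalizer fusion system `N_F(Q)`. -/
def normalizerSystem (F : FusionSystem S) (Q : Subgroup Ω) (hQ : Q ≤ S) : FusionSystem (normalizerIn S Q) where
  Hom P := F.normalizerHom Q P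
  le_of_mem h := ⟨h.2.1, h.2.2.1⟩
  injective_of_mem h := F.injective_of_mem h.1
  conj_mem := by
    intro P g hP hg
    have hPS : P ≤ S := hP.trans (normalizerIn_le S Q)
    have hgS : g ∈ S := normalizerIn_le S Q hg
    refine ⟨F.conj_mem hPS hgS, hP, fun x => ?_, conjHom (P ⊔ Q) g, F.conj_mem (sup_le hPS hQ) hgS, fun x => rfl, ?_⟩
    · exact Subgroup.mul_mem _ (Subgroup.mul_mem _ hg (hP x.2)) (Subgroup.inv_mem _ hg)
    · exact conjHom_map_eq_of_mem_normalizer le_sup_right hg.2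
  comp_mem := by
    rintro P R φ ψ ⟨hφ, hP, hφN, φ', hφ', hφ'φ, hφ'Q⟩ ⟨hψ, hR, hψN, ψ', hψ', hψ'ψ, hψ'Q⟩ h
    refine ⟨F.comp_mem hφ hψ h, hP, fun x => hψN _, ?_⟩
    have hval : ∀ x : ↥(P ⊔ Q), φ' x ∈ R ⊔ Q := by
      intro x
      have := ext_apply_mem_sup φ φ' hφ'φ hφ'Q x
      refine (sup_le_sup_right ?_ Q) this
      rintro _ ⟨y, rfl⟩
      exact h y
    refine ⟨ψ'.comp (φ'.codRestrict (R ⊔ Q) hval), F.comp_mem hφ' hψ' hval, fun x => ?_, ?_⟩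
    · show ψ' ⟨φ' (Subgroup.inclusion le_sup_left x), _⟩ = ψ ⟨φ x, _⟩
      rw [← hψ'ψ]
      congr 1
      apply Subtype.ext
      exact hφ'φ x
    · rw [map_subgroupOf_eq_iff] at hφ'Q hψ'Q ⊢
      constructor
      · intro y hy
        exact hψ'Q.1 ⟨φ' y, hval y⟩ (hφ'Q.1 y hy)
      · intro z hz
        obtain ⟨w, hw, rfl⟩ := hψ'Q.2 z hz
        obtain ⟨y, hy, hyw⟩ := hφ'Q.2 w hw
        refine ⟨y, hy, ?_⟩
        show ψ' ⟨φ' y, _⟩ = ψ' w
        congr 1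
        apply Subtype.ext
        exact hyw
  inv_mem := by
    rintro P φ ⟨hφ, hP, hφN, φ', hφ', hφ'φ, hφ'Q⟩
    obtain ⟨χ, hχ, hχφ'⟩ := F.inv_mem hφ'
    have hle1 : φ.range ≤ φ'.range := by
      rintro _ ⟨x, rfl⟩
      exact ⟨Subgroup.inclusion le_sup_left x, hφ'φ x⟩
    have hφ'Q' := (map_subgroupOf_eq_iff φ').mp hφ'Q
    have hle2 : Q ≤ φ'.range := by
      intro q hq
      obtain ⟨y, -, rfl⟩ := hφ'Q'.2 q hq
      exact ⟨y, rfl⟩
    have hle : φ.range ⊔ Q ≤ φ'.range := sup_le hle1 hle2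
    refine ⟨χ.comp (Subgroup.inclusion hle1), ⟨inclusion_comp_mem F hle1 hχ, ?_, ?_,
      χ.comp (Subgroup.inclusion hle), inclusion_comp_mem F hle hχ, fun x => rfl, ?_⟩, ?_⟩
    · rintro _ ⟨x, rfl⟩
      exact hφN x
    · rintro ⟨_, x, rfl⟩
      have : χ (Subgroup.inclusion hle1 ⟨φ x, ⟨x, rfl⟩⟩) = ((Subgroup.inclusion le_sup_left x : ↥(P ⊔ Q)) : Ω) := by
        rw [← hχφ' (Subgroup.inclusion le_sup_left x)]
        congr 1
        apply Subtype.ext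
        exact (hφ'φ x).symm
      show χ (Subgroup.inclusion hle1 ⟨φ x, ⟨x, rfl⟩⟩) ∈ normalizerIn S Q
      rw [this]
      exact hP x.2
    · rw [map_subgroupOf_eq_iff]
      constructor
      · intro y hy
        obtain ⟨w, hw, hwy⟩ := hφ'Q'.2 y hy
        have : χ (Subgroup.inclusion hle y) = (w : Ω) := by
          rw [← hχφ' w]
          congr 1
          apply Subtype.ext
          exact hwy.symm
        show χ (Subgroup.inclusion hle y) ∈ Q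
        rw [this]
        exact hw
      · intro z hz
        have hzPQ : z ∈ P ⊔ Q := (le_sup_right : Q ≤ P ⊔ Q) hz
        have hz' : φ' ⟨z, hzPQ⟩ ∈ Q := hφ'Q'.1 ⟨z, hzPQ⟩ hz
        refine ⟨⟨φ' ⟨z, hzPQ⟩, Subgroup.mem_sup_right hz'⟩, hz', ?_⟩
        exact hχφ' ⟨z, hzPQ⟩
    · intro x
      show χ (Subgroup.inclusion hle1 ⟨φ x, ⟨x, rfl⟩⟩) = x
      have : χ (Subgroup.inclusion hle1 ⟨φ x, ⟨x, rfl⟩⟩) = ((Subgroup.inclusion le_sup_left x : ↥(P ⊔ Q)) : Ω) := by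
        rw [← hχφ' (Subgroup.inclusion le_sup_left x)]
        congr 1
        apply Subtype.ext
        exact (hφ'φ x).symm
      rw [this]
      rfl

theorem normalizerSystem_isNormalizerSystem (F : FusionSystem S) (Q : Subgroup Ω) (hQ : Q ≤ S) :
    F.IsNormalizerSystem Q (normalizerSystem F Q hQ) := fun _ => rfl

theorem map_subgroupOf_eq_of_fix {P Q : Subgroup Ω} (ψ : ↥(P ⊔ Q) →* Ω)
    (hfix : ∀ x : Q, ψ (Subgroup.inclusion le_sup_right x) = x) : (Q.subgroupOf (P ⊔ Q)).map ψ = Q := by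
  rw [map_subgroupOf_eq_iff]
  constructor
  · intro y hy
    have := hfix ⟨y, hy⟩
    have h2 : Subgroup.inclusion (le_sup_right : Q ≤ P ⊔ Q) ⟨y, hy⟩ = y := Subtype.ext rfl
    rw [h2] at this
    rw [this]
    exact hy
  · intro z hz
    exact ⟨Subgroup.inclusion le_sup_right ⟨z, hz⟩, hz, hfix ⟨z, hz⟩⟩

/-- The centralizer fusion system `C_F(Q)`. -/
def centralizerSystem (F : FusionSystem S) (Q : Subgroup Ω) (hQ : Q ≤ S) : FusionSystem (centralizerIn S Q) where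
  Hom P := F.centralizerHom Q P
  le_of_mem h := ⟨h.2.1, h.2.2.1⟩
  injective_of_mem h := F.injective_of_mem h.1
  conj_mem := by
    intro P g hP hg
    have hPS : P ≤ S := hP.trans (centralizerIn_le S Q)
    have hgS : g ∈ S := centralizerIn_le S Q hg
    refine ⟨F.conj_mem hPS hgS, hP, fun x => ?_, conjHom (P ⊔ Q) g, F.conj_mem (sup_le hPS hQ) hgS, fun x => rfl, ?_⟩
    · exact Subgroup.mul_mem _ (Subgroup.mul_mem _ hg (hP x.2)) (Subgroup.inv_mem _ hg)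
    · intro x
      show g * (x : Ω) * g⁻¹ = x
      rw [← (mem_centralizerIn_iff.mp hg).2 x x.2, mul_inv_cancel_right]
  comp_mem := by
    rintro P R φ ψ ⟨hφ, hP, hφN, φ', hφ', hφ'φ, hφ'Q⟩ ⟨hψ, hR, hψN, ψ', hψ', hψ'ψ, hψ'Q⟩ h
    refine ⟨F.comp_mem hφ hψ h, hP, fun x => hψN _, ?_⟩
    have hval : ∀ x : ↥(P ⊔ Q), φ' x ∈ R ⊔ Q := by
      intro x
      have := ext_apply_mem_sup φ φ' hφ'φ (map_subgroupOf_eq_of_fix φ' hφ'Q) x
      refine (sup_le_sup_right ?_ Q) this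
      rintro _ ⟨y, rfl⟩
      exact h y
    refine ⟨ψ'.comp (φ'.codRestrict (R ⊔ Q) hval), F.comp_mem hφ' hψ' hval, fun x => ?_, ?_⟩
    · show ψ' ⟨φ' (Subgroup.inclusion le_sup_left x), _⟩ = ψ ⟨φ x, _⟩
      rw [← hψ'ψ]
      congr 1
      apply Subtype.ext
      exact hφ'φ x
    · intro x
      show ψ' ⟨φ' (Subgroup.inclusion le_sup_right x), _⟩ = x
      rw [← hψ'Q x]
      congr 1
      apply Subtype.ext
      exact hφ'Q x
  inv_mem := by
    rintro P φ ⟨hφ, hP, hφN, φ', hφ', hφ'φ, hφ'Q⟩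
    obtain ⟨χ, hχ, hχφ'⟩ := F.inv_mem hφ'
    have hle1 : φ.range ≤ φ'.range := by
      rintro _ ⟨x, rfl⟩
      exact ⟨Subgroup.inclusion le_sup_left x, hφ'φ x⟩
    have hle2 : Q ≤ φ'.range := by
      intro q hq
      exact ⟨Subgroup.inclusion le_sup_right ⟨q, hq⟩, hφ'Q ⟨q, hq⟩⟩
    have hle : φ.range ⊔ Q ≤ φ'.range := sup_le hle1 hle2
    have hχφ : ∀ x : P, χ (Subgroup.inclusion hle1 ⟨φ x, ⟨x, rfl⟩⟩) = x := by
      intro x
      have : χ (Subgroup.inclusion hle1 ⟨φ x, ⟨x, rfl⟩⟩) = ((Subgroup.inclusion le_sup_left x : ↥(P ⊔ Q)) : Ω) := by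
        rw [← hχφ' (Subgroup.inclusion le_sup_left x)]
        congr 1
        apply Subtype.ext
        exact (hφ'φ x).symm
      rw [this]
      rfl
    refine ⟨χ.comp (Subgroup.inclusion hle1), ⟨inclusion_comp_mem F hle1 hχ, ?_, ?_,
      χ.comp (Subgroup.inclusion hle), inclusion_comp_mem F hle hχ, fun x => rfl, ?_⟩, hχφ⟩
    · rintro _ ⟨x, rfl⟩
      exact hφN x
    · rintro ⟨_, x, rfl⟩
      show χ (Subgroup.inclusion hle1 ⟨φ x, ⟨x, rfl⟩⟩) ∈ centralizerIn S Q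
      rw [hχφ x]
      exact hP x.2
    · intro x
      show χ (Subgroup.inclusion hle (Subgroup.inclusion le_sup_right x)) = x
      have := hχφ' (Subgroup.inclusion le_sup_right x)
      have h2 : ((Subgroup.inclusion (le_sup_right : Q ≤ P ⊔ Q) x : ↥(P ⊔ Q)) : Ω) = x := rfl
      rw [h2] at this
      rw [← this]
      congr 1
      apply Subtype.ext
      exact (hφ'Q x).symm

theorem centralizerSystem_isCentralizerSystem (F : FusionSystem S) (Q : Subgroup Ω) (hQ : Q ≤ S) :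
    F.IsCentralizerSystem Q (centralizerSystem F Q hQ) := fun _ => rfl

end Cfsg.Agent.Lib.Helper26
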