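import Cfsg.Agent.Lib.Helper26.FSEssential
set_option autoImplicit false

/-!
Equivalent forms of saturation (helper26's library).
-/

namespace Cfsg.Agent.Lib.Helper26

open Cfsg Cfsg.FusionSystem

variable {Ω : Type*} [Group Ω] {S : Subgroup Ω}

/-- An injective map between finite subgroups with `|B| ≤ |A|` is onto. -/
theorem surj_of_inj_of_card_le {A B : Subgroup Ω} [Finite B] (φ : A →* Ω) (hinj : Function.Injective φ)
    (hval : ∀ x, φ x ∈ B) (hcard : Nat.card B ≤ Nat.card A) : ∀ b ∈ B, ∃ a : A, φ a = b := by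
  have hinj' : Function.Injective (φ.codRestrict B hval) := by
    intro a b hab
    exact hinj (congrArg Subtype.val hab)
  have hbij := hinj'.bijective_of_nat_card_le hcard
  intro b hb
  obtain ⟨a, ha⟩ := hbij.2 ⟨b, hb⟩
  exact ⟨a, congrArg Subtype.val ha⟩

/-- For finite `P`, an element conjugating `P` into `P` normalizes `P`. -/
theorem mem_normalizer_of_conj_mem_finite {P : Subgroup Ω} [Finite P] {g : Ω} (h : ∀ y ∈ P, g * y * g⁻¹ ∈ P) :
    g ∈ Subgroup.normalizer (P : Set Ω) := by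
  apply mem_normalizer_of_conj_mem h
  intro y hy
  have hinj : Function.Injective (fun x : P => (⟨g * x * g⁻¹, h x x.2⟩ : P)) := by
    intro a b hab
    have := congrArg Subtype.val hab
    exact Subtype.ext (mul_left_cancel (mul_right_cancel this))
  obtain ⟨x, hx⟩ := (Finite.injective_iff_surjective.mp hinj) ⟨y, hy⟩
  have hx' : g * (x : Ω) * g⁻¹ = y := congrArg Subtype.val hx
  rw [← hx']
  simp only [mul_assoc, inv_mul_cancel_left, inv_mul_cancel, mul_one]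
  exact x.2

/-- Every subgroup of `S` is conjugate in the system to a fully normalized subgroup. -/
theorem exists_fullyNormalized_conj [Finite S] (F : FusionSystem S) {P : Subgroup Ω} (hP : P ≤ S) :
    ∃ Q, F.IsConj P Q ∧ F.IsFullyNormalized Q := by
  have key : ∀ d : ℕ, ∀ Q : Subgroup Ω, F.IsConj P Q → Nat.card S - Nat.card (normalizerIn S Q) = d →
      ∃ Q', F.IsConj P Q' ∧ F.IsFullyNormalized Q' := by
    intro d
    induction d using Nat.strong_induction_on with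
    | _ d ih =>
      intro Q hQ hd
      by_cases hmax : ∀ Q', F.IsConj Q Q' → Nat.card (normalizerIn S Q') ≤ Nat.card (normalizerIn S Q)
      · exact ⟨Q, hQ, isConj_le_right F hQ, hmax⟩
      · push Not at hmax
        obtain ⟨Q', hQ', hlt⟩ := hmax
        have hS : Nat.card (normalizerIn S Q') ≤ Nat.card S := Subgroup.card_le_of_le (normalizerIn_le S Q')
        exact ih (Nat.card S - Nat.card (normalizerIn S Q')) (by omega) Q' (isConj_trans F hQ hQ') rfl
  exact key _ P (isConj_refl F hP) rfl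

theorem le_normalizerIn {P : Subgroup Ω} (hP : P ≤ S) : P ≤ normalizerIn S P :=
  fun _ hx => ⟨hP hx, Subgroup.le_normalizer hx⟩

/-- Data of a map `φ : N_S(P) → N_S(Q)` of the system carrying `P` onto `Q`. -/
structure NormHom (F : FusionSystem S) (P Q : Subgroup Ω) where
  φ : ↥(normalizerIn S P) →* Ω
  mem : φ ∈ F.Hom (normalizerIn S P)
  val : ∀ x, φ x ∈ normalizerIn S Q
  map : (P.subgroupOf (normalizerIn S P)).map φ = Q
  le : P ≤ S

namespace NormHom

variable {F : FusionSystem S} {P Q : Subgroup Ω} (D : NormHom F P Q)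

theorem inj : Function.Injective D.φ := F.injective_of_mem D.mem

/-- the restriction to `P` -/
def φP : P →* Ω := D.φ.comp (Subgroup.inclusion (le_normalizerIn D.le))

theorem φP_mem : D.φP ∈ F.Hom P := inclusion_comp_mem F _ D.mem

theorem φP_range : D.φP.range = Q := by
  have := (map_subgroupOf_eq_iff' D.φ).mp D.map
  ext z
  constructor
  · rintro ⟨x, rfl⟩
    exact this.1 _ x.2
  · intro hz
    obtain ⟨y, hy, rfl⟩ := this.2 z hz
    exact ⟨⟨y, hy⟩, rfl⟩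

noncomputable def e : P ≃* Q := homEquiv F D.φP_mem D.φP_range

theorem e_isFIso : IsFIso F D.e := homEquiv_isFIso F _ _

theorem e_apply (x : P) : ((D.e x : Q) : Ω) = D.φ (Subgroup.inclusion (le_normalizerIn D.le) x) := rfl

include D in
theorem leQ : Q ≤ S := D.e_isFIso.le_right

theorem φ_conj (g : ↥(normalizerIn S P)) (x : P) (hx : (g : Ω) * x * (g : Ω)⁻¹ ∈ P) :
    ((D.e ⟨(g : Ω) * x * (g : Ω)⁻¹, hx⟩ : Q) : Ω) = D.φ g * (D.e x : Ω) * (D.φ g)⁻¹ := by
  rw [e_apply, e_apply, ← map_inv, ← map_mul, ← map_mul]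
  congr 1

/-- transport of an inner-type automorphism -/
theorem congr_normalizerMonoidHom (g : ↥(normalizerIn S P)) (hgN : (g : Ω) ∈ Subgroup.normalizer (P : Set Ω))
    (y : Q) : ((MulAut.congr D.e (P.normalizerMonoidHom ⟨g, hgN⟩) y : Q) : Ω) = D.φ g * (y : Ω) * (D.φ g)⁻¹ := by
  obtain ⟨x, rfl⟩ : ∃ x : P, D.e x = y := ⟨D.e.symm y, by simp⟩
  show ((D.e (P.normalizerMonoidHom ⟨g, hgN⟩ (D.e.symm (D.e x))) : Q) : Ω) = _
  rw [MulEquiv.symm_apply_apply]
  have hx : (g : Ω) * x * (g : Ω)⁻¹ ∈ P := (Subgroup.mem_normalizer_iff.mp hgN _).mp x.2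
  rw [← D.φ_conj g x hx]
  congr 2

theorem autS_map_le : ∀ α ∈ autInducedBy S P, MulAut.congr D.e α ∈ autInducedBy S Q := by
  intro α hα
  obtain ⟨g, hgS, hgN, rfl⟩ := (mem_autInducedBy_iff' S P α).mp hα
  rw [mem_autInducedBy_iff]
  exact ⟨D.φ ⟨g, hgS, hgN⟩, hom_apply_mem F D.mem _, fun y => D.congr_normalizerMonoidHom ⟨g, hgS, hgN⟩ hgN y⟩

/-- If `|N_S(Q)| ≤ |N_S(P)|` then `φ` is onto `N_S(Q)`. -/
theorem surj [Finite S] (hcard : Nat.card (normalizerIn S Q) ≤ Nat.card (normalizerIn S P)) :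
    ∀ h ∈ normalizerIn S Q, ∃ g : ↥(normalizerIn S P), D.φ g = h := by
  have : Finite ↥(normalizerIn S Q) := finite_of_le (normalizerIn_le S Q)
  exact surj_of_inj_of_card_le D.φ D.inj D.val hcard

theorem mem_centralizerIn_of_φ_mem (g : ↥(normalizerIn S P)) (hg : D.φ g ∈ centralizerIn S Q) :
    (g : Ω) ∈ centralizerIn S P := by
  rw [mem_centralizerIn_iff]
  refine ⟨normalizerIn_le S P g.2, fun x hx => ?_⟩
  have hgN : (g : Ω) ∈ Subgroup.normalizer (P : Set Ω) := g.2.2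
  have hx' : (g : Ω) * x * (g : Ω)⁻¹ ∈ P := (Subgroup.mem_normalizer_iff.mp hgN _).mp hx
  have h1 := D.φ_conj g ⟨x, hx⟩ hx'
  have h2 : D.φ g * (D.e ⟨x, hx⟩ : Ω) * (D.φ g)⁻¹ = (D.e ⟨x, hx⟩ : Ω) := by
    have := (mem_centralizerIn_iff.mp hg).2 _ (D.e ⟨x, hx⟩).2
    rw [← this, mul_inv_cancel_right]
  rw [h2] at h1
  have h3 : (⟨(g : Ω) * x * (g : Ω)⁻¹, hx'⟩ : P) = ⟨x, hx⟩ := D.e.injective (Subtype.ext h1)
  have h4 : (g : Ω) * x * (g : Ω)⁻¹ = x := congrArg Subtype.val h3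
  calc x * (g : Ω) = (g : Ω) * x * (g : Ω)⁻¹ * g := by rw [h4]
    _ = g * x := by group

theorem φ_mem_centralizerIn (g : ↥(normalizerIn S P)) (hg : (g : Ω) ∈ centralizerIn S P) :
    D.φ g ∈ centralizerIn S Q := by
  rw [mem_centralizerIn_iff]
  refine ⟨hom_apply_mem F D.mem _, fun y hy => ?_⟩
  obtain ⟨x, hx⟩ : ∃ x : P, ((D.e x : Q) : Ω) = y := ⟨D.e.symm ⟨y, hy⟩, by simp⟩
  rw [← hx, e_apply, ← map_mul, ← map_mul]
  congr 1
  apply Subtype.ext
  exact (mem_centralizerIn_iff.mp hg).2 x x.2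

include D in
/-- (a1) If `Q` is fully automized and `|N_S(Q)| ≤ |N_S(P)|` then `P` is fully automized. -/
theorem fullyAutomized [Finite S] {p : ℕ} [Fact p.Prime] (hQ : F.IsFullyAutomized p Q)
    (hcard : Nat.card (normalizerIn S Q) ≤ Nat.card (normalizerIn S P)) : F.IsFullyAutomized p P := by
  refine ⟨D.le, ?_⟩
  obtain ⟨-, R, hR⟩ := hQ
  have : Finite P := finite_of_le D.le
  have : Finite Q := finite_of_le D.leQ
  -- the isomorphism `Aut_F(P) → Aut_F(Q)`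
  let ϕ : ↥(F.autGroup P) →* ↥(F.autGroup Q) :=
    ((MulAut.congr D.e).toMonoidHom.comp (F.autGroup P).subtype).codRestrict (F.autGroup Q)
      (fun α => congr_mem_autGroup F D.e_isFIso α.2)
  have hϕinj : Function.Injective ϕ := by
    intro a b hab
    have h1 : MulAut.congr D.e (a : MulAut P) = MulAut.congr D.e (b : MulAut P) := congrArg Subtype.val hab
    exact Subtype.ext ((MulAut.congr D.e).injective h1)
  have hϕsurj : ∀ β : ↥(F.autGroup Q), β ∈ ϕ.range := by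
    intro β
    have hβ : (MulAut.congr D.e).symm (β : MulAut Q) ∈ F.autGroup P := by
      rw [← congr_mem_autGroup_iff F D.e_isFIso, MulEquiv.apply_symm_apply]
      exact β.2
    refine ⟨⟨_, hβ⟩, ?_⟩
    apply Subtype.ext
    show MulAut.congr D.e ((MulAut.congr D.e).symm (β : MulAut Q)) = β
    exact MulEquiv.apply_symm_apply _ _
  refine ⟨R.comapOfInjective ϕ hϕinj (fun β _ => hϕsurj β), ?_⟩
  rw [Sylow.coe_comapOfInjective]
  ext α
  rw [Subgroup.mem_comap, hR, Subgroup.mem_subgroupOf, Subgroup.mem_subgroupOf]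
  show MulAut.congr D.e (α : MulAut P) ∈ autInducedBy S Q ↔ (α : MulAut P) ∈ autInducedBy S P
  constructor
  · intro h
    obtain ⟨k, hkS, hkN, hk⟩ := (mem_autInducedBy_iff' S Q _).mp h
    obtain ⟨g, hg⟩ := D.surj hcard k ⟨hkS, hkN⟩
    have hgN : (g : Ω) ∈ Subgroup.normalizer (P : Set Ω) := g.2.2
    have hgS : (g : Ω) ∈ S := normalizerIn_le S P g.2
    rw [mem_autInducedBy_iff' S P]
    refine ⟨g, hgS, hgN, ?_⟩
    apply (MulAut.congr D.e).injective
    rw [hk]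
    ext y
    rw [D.congr_normalizerMonoidHom g hgN y, hg]
    rfl
  · exact D.autS_map_le _

include D in
/-- (a2) If `|N_S(Q)| ≤ |N_S(P)|` then `|C_S(Q)| ≤ |C_S(P)|`. -/
theorem card_centralizerIn_le [Finite S]
    (hcard : Nat.card (normalizerIn S Q) ≤ Nat.card (normalizerIn S P)) :
    Nat.card (centralizerIn S Q) ≤ Nat.card (centralizerIn S P) := by
  have : Finite ↥(centralizerIn S P) := finite_of_le (centralizerIn_le S P)
  apply Nat.card_le_card_of_surjective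
    (fun c : centralizerIn S P => (⟨D.φ ⟨c, centralizerIn_le_normalizerIn S P c.2⟩,
      D.φ_mem_centralizerIn _ c.2⟩ : centralizerIn S Q))
  intro c
  obtain ⟨g, hg⟩ := D.surj hcard c (centralizerIn_le_normalizerIn S Q c.2)
  have hgc : (g : Ω) ∈ centralizerIn S P := D.mem_centralizerIn_of_φ_mem g (by rw [hg]; exact c.2)
  refine ⟨⟨g, hgc⟩, ?_⟩
  apply Subtype.ext
  exact hg

include D in
/-- (b) If `Q` is receptive and `|C_S(Q)| ≤ |C_S(P)|` then `P` is receptive. -/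
theorem receptive [Finite S] (hQ : F.IsReceptive Q)
    (hcard : Nat.card (centralizerIn S Q) ≤ Nat.card (centralizerIn S P)) : F.IsReceptive P := by
  refine ⟨D.le, fun R ψ hψ hψr => ?_⟩
  have : Finite P := finite_of_le D.le
  have hψP : ∀ x : R, ψ x ∈ P := fun x => by rw [← hψr]; exact ⟨x, rfl⟩
  let θ : R →* Ω := D.φP.comp (ψ.codRestrict P hψP)
  have hθ : θ ∈ F.Hom R := F.comp_mem hψ D.φP_mem hψP
  have hθapp : ∀ x : R, θ x = (D.e ⟨ψ x, hψP x⟩ : Ω) := fun x => rfl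
  have hθr : θ.range = Q := by
    ext z
    constructor
    · rintro ⟨x, rfl⟩
      rw [hθapp]
      exact (D.e _).2
    · intro hz
      obtain ⟨y, hy⟩ : ∃ y : P, ((D.e y : Q) : Ω) = z := ⟨D.e.symm ⟨z, hz⟩, by simp⟩
      have hyr : (y : Ω) ∈ ψ.range := by rw [hψr]; exact y.2
      obtain ⟨x, hx⟩ := hyr
      refine ⟨x, ?_⟩
      rw [hθapp, ← hy]
      congr 2
      exact Subtype.ext hx
  obtain ⟨θ', hθ', hθ'θ⟩ := hQ.2 R θ hθ hθr
  -- surjectivity on centralizers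
  have hsurjC : ∀ c ∈ centralizerIn S Q, ∃ c' : ↥(normalizerIn S P), D.φ c' = c := by
    have : Finite ↥(centralizerIn S Q) := finite_of_le (centralizerIn_le S Q)
    intro c hc
    obtain ⟨a, ha⟩ := surj_of_inj_of_card_le
      (D.φ.comp (Subgroup.inclusion (centralizerIn_le_normalizerIn S P)))
      (D.inj.comp (Subgroup.inclusion_injective _))
      (fun x => D.φ_mem_centralizerIn _ x.2) hcard c hc
    exact ⟨_, ha⟩
  have hRS : R ≤ S := hom_le F hψ
  -- the element `h` attached to `g ∈ N_ψ` normalizes `P`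
  have hnorm : ∀ (g h : Ω), g ∈ Subgroup.normalizer (R : Set Ω) →
      (∀ (x : R) (hx : g * (x : Ω) * g⁻¹ ∈ R), ψ ⟨g * x * g⁻¹, hx⟩ = h * ψ x * h⁻¹) →
      h ∈ Subgroup.normalizer (P : Set Ω) := by
    intro g h hgN hh
    apply mem_normalizer_of_conj_mem_finite
    intro y hy
    rw [← hψr] at hy
    obtain ⟨x, rfl⟩ := hy
    have hx : g * (x : Ω) * g⁻¹ ∈ R := (Subgroup.mem_normalizer_iff.mp hgN _).mp x.2
    rw [← hh x hx]
    exact hψP _
  -- transport of the conjugation relation to `θ`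
  have hθconj : ∀ (g h : Ω) (hgN : g ∈ Subgroup.normalizer (R : Set Ω)) (hhS : h ∈ S)
      (hh : ∀ (x : R) (hx : g * (x : Ω) * g⁻¹ ∈ R), ψ ⟨g * x * g⁻¹, hx⟩ = h * ψ x * h⁻¹)
      (x : R) (hx : g * (x : Ω) * g⁻¹ ∈ R),
      θ ⟨g * x * g⁻¹, hx⟩ = D.φ ⟨h, hhS, hnorm g h hgN hh⟩ * θ x * (D.φ ⟨h, hhS, hnorm g h hgN hh⟩)⁻¹ := by
    intro g h hgN hhS hh x hx
    rw [hθapp, hθapp]
    have hy : h * ψ x * h⁻¹ ∈ P := by rw [← hh x hx]; exact hψP _
    have h1 := D.φ_conj ⟨h, hhS, hnorm g h hgN hh⟩ ⟨ψ x, hψP x⟩ hy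
    rw [← h1]
    congr 2
    exact Subtype.ext (hh x hx)
  have hle : extender S R ψ ≤ extender S R θ := by
    intro g hg
    rw [mem_extender_iff] at hg ⊢
    obtain ⟨hgS, hgN, h, hhS, hh⟩ := hg
    exact ⟨hgS, hgN, D.φ ⟨h, hhS, hnorm g h hgN hh⟩, hom_apply_mem F D.mem _, hθconj g h hgN hhS hh⟩
  have hRext : R ≤ extender S R θ := le_extender hRS θ (hom_apply_mem F hθ)
  -- values of `θ'` on `N_ψ` lie in the range of `φ`
  have hval : ∀ g : ↥(extender S R ψ), (θ'.comp (Subgroup.inclusion hle)) g ∈ D.φ.range := by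
    intro g
    obtain ⟨hgS, hgN, h, hhS, hh⟩ := (mem_extender_iff S R ψ g).mp g.2
    have hc : (D.φ ⟨h, hhS, hnorm g h hgN hh⟩)⁻¹ * θ' (Subgroup.inclusion hle g) ∈ centralizerIn S Q := by
      rw [mem_centralizerIn_iff]
      refine ⟨S.mul_mem (S.inv_mem (hom_apply_mem F D.mem _)) (hom_apply_mem F hθ' _), fun y hy => ?_⟩
      rw [← hθr] at hy
      obtain ⟨x, rfl⟩ := hy
      have hx : (g : Ω) * (x : Ω) * (g : Ω)⁻¹ ∈ R := (Subgroup.mem_normalizer_iff.mp hgN _).mp x.2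
      have h1 := hθconj g h hgN hhS hh x hx
      -- `θ'` on `g x g⁻¹`
      have h2 : θ' ⟨(g : Ω) * x * (g : Ω)⁻¹, hRext hx⟩ = θ ⟨(g : Ω) * x * (g : Ω)⁻¹, hx⟩ := hθ'θ _ hx _
      have h3 : θ' ⟨x, hRext x.2⟩ = θ x := hθ'θ _ x.2 _
      have h4 : (⟨(g : Ω) * x * (g : Ω)⁻¹, hRext hx⟩ : ↥(extender S R θ)) =
          Subgroup.inclusion hle g * ⟨x, hRext x.2⟩ * (Subgroup.inclusion hle g)⁻¹ := Subtype.ext rfl
      rw [h4, map_mul, map_mul, map_inv, h3, h1] at h2
      -- now a group computation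
      have h5 : θ x * ((D.φ ⟨h, hhS, hnorm g h hgN hh⟩)⁻¹ * θ' (Subgroup.inclusion hle g)) =
          (D.φ ⟨h, hhS, hnorm g h hgN hh⟩)⁻¹ * (D.φ ⟨h, hhS, hnorm g h hgN hh⟩ * θ x *
            (D.φ ⟨h, hhS, hnorm g h hgN hh⟩)⁻¹) * θ' (Subgroup.inclusion hle g) := by group
      rw [h5, ← h2]
      group
    obtain ⟨c', hc'⟩ := hsurjC _ hc
    refine ⟨⟨h, hhS, hnorm g h hgN hh⟩ * c', ?_⟩
    rw [map_mul, hc']
    simp
  obtain ⟨φinv, hφinv, hφinvx⟩ := F.inv_mem D.mem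
  refine ⟨φinv.comp ((θ'.comp (Subgroup.inclusion hle)).codRestrict D.φ.range hval),
    F.comp_mem (inclusion_comp_mem F hle hθ') hφinv hval, fun x hxR hxN => ?_⟩
  show φinv ⟨θ' ⟨x, hle hxN⟩, _⟩ = ψ ⟨x, hxR⟩
  have h1 : θ' ⟨x, hle hxN⟩ = θ ⟨x, hxR⟩ := hθ'θ x hxR _
  have h2 := hφinvx (Subgroup.inclusion (le_normalizerIn D.le) ⟨ψ ⟨x, hxR⟩, hψP _⟩)
  rw [← show ((Subgroup.inclusion (le_normalizerIn D.le) ⟨ψ ⟨x, hxR⟩, hψP _⟩ : ↥(normalizerIn S P)) : Ω) =
    ψ ⟨x, hxR⟩ from rfl, ← h2]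
  congr 1
  apply Subtype.ext
  exact h1

end NormHom

/-- In a saturated system every subgroup of `S` admits a `NormHom` to a fully automized receptive conjugate. -/
theorem exists_normHom_of_saturated [Finite S] {p : ℕ} [Fact p.Prime] (hS : IsPGroup p S) (F : FusionSystem S)
    (hF : F.IsSaturated p) {P : Subgroup Ω} (hP : P ≤ S) :
    ∃ Q, F.IsConj P Q ∧ F.IsFullyAutomized p Q ∧ F.IsReceptive Q ∧ Nonempty (NormHom F P Q) := by
  obtain ⟨Q, hPQ, hQA, hQR⟩ := hF P hP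
  obtain ⟨φ, hφ, hval, hmap⟩ := exists_normalizer_hom hS F hQA hQR hPQ
  exact ⟨Q, hPQ, hQA, hQR, ⟨⟨φ, hφ, hval, hmap, hP⟩⟩⟩

theorem saturated_fn [Finite S] {p : ℕ} [Fact p.Prime] (hS : IsPGroup p S) (F : FusionSystem S)
    (hF : F.IsSaturated p) {P : Subgroup Ω} (hP : F.IsFullyNormalized P) :
    F.IsFullyCentralized P ∧ F.IsFullyAutomized p P := by
  obtain ⟨Q, hPQ, hQA, hQR, ⟨D⟩⟩ := exists_normHom_of_saturated hS F hF hP.1
  have hcard := hP.2 Q hPQ
  refine ⟨⟨hP.1, fun P' hPP' => ?_⟩, D.fullyAutomized hQA hcard⟩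
  have hQC := receptive_fullyCentralized F Q hQR
  exact (hQC.2 P' (isConj_trans F (isConj_symm F hPQ) hPP')).trans (D.card_centralizerIn_le hcard)

theorem saturated_fc [Finite S] {p : ℕ} [Fact p.Prime] (hS : IsPGroup p S) (F : FusionSystem S)
    (hF : F.IsSaturated p) {P : Subgroup Ω} (hP : F.IsFullyCentralized P) : F.IsReceptive P := by
  obtain ⟨Q, hPQ, hQA, hQR, ⟨D⟩⟩ := exists_normHom_of_saturated hS F hF hP.1
  exact D.receptive hQR (hP.2 Q hPQ)

theorem saturated_fn_receptive [Finite S] {p : ℕ} [Fact p.Prime] (hS : IsPGroup p S) (F : FusionSystem S)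
    (hF : F.IsSaturated p) {P : Subgroup Ω} (hP : F.IsFullyNormalized P) : F.IsReceptive P :=
  saturated_fc hS F hF (saturated_fn hS F hF hP).1

/-- Saturation is equivalent to the Sylow axiom plus the extension axiom. -/
theorem saturated_iff [Finite S] {p : ℕ} [Fact p.Prime] (hS : IsPGroup p S) (F : FusionSystem S) :
    F.IsSaturated p ↔ ((∀ P : Subgroup Ω, F.IsFullyNormalized P → F.IsFullyCentralized P ∧ F.IsFullyAutomized p P) ∧
      (∀ P : Subgroup Ω, F.IsFullyCentralized P → F.IsReceptive P)) := by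
  constructor
  · intro hF
    exact ⟨fun P hP => saturated_fn hS F hF hP, fun P hP => saturated_fc hS F hF hP⟩
  · rintro ⟨h1, h2⟩ P hP
    obtain ⟨Q, hPQ, hQN⟩ := exists_fullyNormalized_conj F hP
    obtain ⟨hQC, hQA⟩ := h1 Q hQN
    exact ⟨Q, hPQ, hQA, h2 Q hQC⟩

end Cfsg.Agent.Lib.Helper26
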