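import Mathlib

/-!
Stability groups: automorphisms of a group acting trivially on the factors of a chain of `p`-subgroups
have `p`-power order.
-/

set_option autoImplicit false

namespace Cfsg.Agent.Lib.Helper26

variable {P : Type*} [Group P]

/-- Iterating: if `x⁻¹ α(x) ∈ N` for all `x ∈ M` and `N ≤ M`, the same holds for all powers of `α`. -/
theorem stab_pow_mem {α : MulAut P} {N M : Subgroup P} (hNM : N ≤ M)
    (h : ∀ x ∈ M, x⁻¹ * α x ∈ N) (j : ℕ) : ∀ x ∈ M, x⁻¹ * (α ^ j) x ∈ N := by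
  induction j with
  | zero => intro x _; simp
  | succ j ih =>
    intro x hx
    have h1 := ih x hx
    have hxM : (α ^ j) x ∈ M := by
      have : (α ^ j) x = x * (x⁻¹ * (α ^ j) x) := by simp
      rw [this]
      exact M.mul_mem hx (hNM h1)
    have h2 := h _ hxM
    have : x⁻¹ * (α ^ (j + 1)) x = (x⁻¹ * (α ^ j) x) * (((α ^ j) x)⁻¹ * α ((α ^ j) x)) := by
      rw [pow_succ']
      simp [MulAut.mul_apply]
    rw [this]
    exact N.mul_mem h1 h2

/-- One step of the stability argument. -/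
theorem stab_step {α : MulAut P} {N M : Subgroup P} [Finite N] (hNM : N ≤ M)
    (h : ∀ x ∈ M, x⁻¹ * α x ∈ N) (m : ℕ) (hfix : ∀ x ∈ N, (α ^ m) x = x) :
    ∀ x ∈ M, (α ^ (m * Nat.card N)) x = x := by
  intro x hx
  set β := α ^ m with hβ
  have hc : x⁻¹ * β x ∈ N := stab_pow_mem hNM h m x hx
  set c := x⁻¹ * β x with hcdef
  have hβx : β x = x * c := by simp [hcdef]
  have hβc : β c = c := hfix c hc
  have hpow : ∀ j : ℕ, (β ^ j) x = x * c ^ j := by
    intro j
    induction j with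
    | zero => simp
    | succ j ih =>
      rw [pow_succ', MulAut.mul_apply, ih, map_mul, map_pow, hβx, hβc, pow_succ', mul_assoc]
  rw [pow_mul, hpow]
  have : c ^ Nat.card N = 1 := by
    have := pow_card_eq_one' (G := N) (x := ⟨c, hc⟩)
    exact congrArg Subtype.val this
  rw [this, mul_one]

/-- The chain version: if `α` acts trivially on each factor `T (i+1) / T i` of a monotone chain of finite
`p`-subgroups and some `p`-power of `α` fixes `T 0` pointwise, then for each `i` some `p`-power of `α` fixes `T i`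
pointwise. -/
theorem stab_chain {p : ℕ} {α : MulAut P} (T : ℕ → Subgroup P) (hmono : Monotone T)
    (hfin : ∀ i, Finite (T i)) (hp : ∀ i, ∃ m, Nat.card (T i) = p ^ m)
    (hbase : ∃ k : ℕ, ∀ x ∈ T 0, (α ^ (p ^ k)) x = x)
    (hstep : ∀ i, ∀ x ∈ T (i + 1), x⁻¹ * α x ∈ T i) (i : ℕ) :
    ∃ k : ℕ, ∀ x ∈ T i, (α ^ (p ^ k)) x = x := by
  induction i with
  | zero => exact hbase
  | succ i ih =>
    obtain ⟨k, hk⟩ := ih
    obtain ⟨m, hm⟩ := hp i
    refine ⟨k + m, ?_⟩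
    have := hfin i
    have h1 := stab_step (hmono (Nat.le_succ i)) (hstep i) (p ^ k) hk
    rw [hm, ← pow_add] at h1
    exact h1

/-- The automorphisms stabilizing a chain: each term is invariant and the action on each factor is trivial. -/
def chainStab (T : ℕ → Subgroup P) (hmono : Monotone T) : Subgroup (MulAut P) where
  carrier := {α | (∀ i x, x ∈ T i ↔ α x ∈ T i) ∧ ∀ i, ∀ x ∈ T (i + 1), x⁻¹ * α x ∈ T i}
  one_mem' := by
    refine ⟨fun i x => Iff.rfl, fun i x _ => ?_⟩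
    simp
  mul_mem' := by
    rintro α β ⟨hα1, hα2⟩ ⟨hβ1, hβ2⟩
    refine ⟨fun i x => ?_, fun i x hx => ?_⟩
    · rw [MulAut.mul_apply, ← hα1, ← hβ1]
    · have h1 := hβ2 i x hx
      have hβx : β x ∈ T (i + 1) := (hβ1 _ _).mp hx
      have h2 := hα2 i _ hβx
      have : x⁻¹ * (α * β) x = (x⁻¹ * β x) * ((β x)⁻¹ * α (β x)) := by
        simp [MulAut.mul_apply]
      rw [this]
      exact (T i).mul_mem h1 h2
  inv_mem' := by
    rintro α ⟨hα1, hα2⟩
    have hinv : ∀ i x, x ∈ T i ↔ α⁻¹ x ∈ T i := by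
      intro i x
      rw [hα1 i (α⁻¹ x)]
      simp
    refine ⟨hinv, fun i x hx => ?_⟩
    have hy : α⁻¹ x ∈ T (i + 1) := (hinv _ _).mp hx
    have h1 := hα2 i _ hy
    have h2 : α (α⁻¹ x) = x := by simp
    rw [h2] at h1
    have := (T i).inv_mem h1
    simpa using this

theorem mem_chainStab (T : ℕ → Subgroup P) (hmono : Monotone T) (α : MulAut P) :
    α ∈ chainStab T hmono ↔
      (∀ i x, x ∈ T i ↔ α x ∈ T i) ∧ ∀ i, ∀ x ∈ T (i + 1), x⁻¹ * α x ∈ T i := Iff.rfl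

/-- The chain stabilizer inside a group `A` of automorphisms preserving the chain is normal in `A`. -/
theorem chainStab_inf_normal (T : ℕ → Subgroup P) (hmono : Monotone T) (A : Subgroup (MulAut P))
    (hinv : ∀ γ ∈ A, ∀ i x, x ∈ T i ↔ γ x ∈ T i) :
    ((chainStab T hmono ⊓ A).subgroupOf A).Normal := by
  constructor
  rintro ⟨α, hαA⟩ hα ⟨γ, hγ⟩
  rw [Subgroup.mem_subgroupOf] at hα ⊢
  obtain ⟨⟨hα1, hα2⟩, -⟩ := hα
  refine ⟨?_, A.mul_mem (A.mul_mem hγ hαA) (A.inv_mem hγ)⟩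
  show γ * α * γ⁻¹ ∈ chainStab T hmono
  have hγinv : ∀ i x, x ∈ T i ↔ γ⁻¹ x ∈ T i := hinv _ (A.inv_mem hγ)
  refine ⟨fun i x => ?_, fun i x hx => ?_⟩
  · rw [MulAut.mul_apply, MulAut.mul_apply, ← hinv γ hγ, ← hα1, ← hγinv]
  · have hy : γ⁻¹ x ∈ T (i + 1) := (hγinv _ _).mp hx
    have h1 := hα2 i _ hy
    have h2 := (hinv γ hγ i _).mp h1
    have : γ ((γ⁻¹ x)⁻¹ * α (γ⁻¹ x)) = x⁻¹ * (γ * α * γ⁻¹) x := by
      simp [MulAut.mul_apply]
    rw [this] at h2
    exact h2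

/-- A group of chain-stabilizing automorphisms (with `p`-power action on the bottom term and the chain reaching the
top) is a `p`-group. -/
theorem isPGroup_of_chainStab {p : ℕ} (T : ℕ → Subgroup P) (hmono : Monotone T)
    (hfin : ∀ i, Finite (T i)) (hp : ∀ i, ∃ m, Nat.card (T i) = p ^ m) (n : ℕ) (hn : T n = ⊤)
    (X : Subgroup (MulAut P)) (hX : X ≤ chainStab T hmono)
    (hbase : ∀ α ∈ X, ∃ k : ℕ, ∀ x ∈ T 0, (α ^ (p ^ k)) x = x) : IsPGroup p X := by
  rintro ⟨α, hα⟩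
  obtain ⟨k, hk⟩ := stab_chain T hmono hfin hp (hbase α hα) (hX hα).2 n
  refine ⟨k, ?_⟩
  apply Subtype.ext
  show α ^ (p ^ k) = 1
  ext x
  exact hk x (hn ▸ Subgroup.mem_top x)

end Cfsg.Agent.Lib.Helper26
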