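import Cfsg.Agent.Lib.Helper26.FSNormalCrit
import Cfsg.Agent.Lib.Helper26.Stability

/-!
Normality criteria via chains of strongly closed subgroups (stability group argument).
-/

set_option autoImplicit false

namespace Cfsg.Agent.Lib.Helper26

open Cfsg Cfsg.FusionSystem
open scoped commutatorElement

variable {Ω : Type*} [Group Ω] {S : Subgroup Ω}

/-- In a radical subgroup, a normal `p`-subgroup of `Aut_F(P)` consists of inner automorphisms. -/
theorem le_inn_of_radical (F : FusionSystem S) {p : ℕ} {P : Subgroup Ω} (hr : F.IsRadical p P)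
    (B : Subgroup (MulAut P)) (hBle : B ≤ F.autGroup P) (hBn : (B.subgroupOf (F.autGroup P)).Normal)
    (hBp : IsPGroup p B) : B ≤ Inn P := by
  have h1 : B.subgroupOf (F.autGroup P) ≤ pCore p (F.autGroup P) :=
    le_sSup ⟨hBn, hBp.comap_subtype⟩
  intro β hβ
  rw [← hr.2]
  exact ⟨⟨β, hBle hβ⟩, h1 hβ, rfl⟩

/-- A strongly closed subgroup is normalized by `S`. -/
theorem le_normalizer_of_stronglyClosed (F : FusionSystem S) {Q : Subgroup Ω} (hQ : F.StronglyClosed Q) :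
    S ≤ Subgroup.normalizer (Q : Set Ω) := by
  intro s hs
  apply mem_normalizer_of_conj_mem
  · intro y hy
    exact hQ.2 Q le_rfl _ (F.conj_mem hQ.1 hs) ⟨y, hy⟩
  · intro y hy
    have := hQ.2 Q le_rfl _ (F.conj_mem hQ.1 (S.inv_mem hs)) ⟨y, hy⟩
    simpa [conjHom_apply] using this

theorem stronglyClosed_bot (F : FusionSystem S) : F.StronglyClosed ⊥ := by
  refine ⟨bot_le, fun R hR φ _ x => ?_⟩
  have : (x : Ω) = 1 := Subgroup.mem_bot.mp (hR x.2)
  have hx : x = 1 := Subtype.ext this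
  rw [hx, map_one]
  exact Subgroup.one_mem _

theorem stronglyClosed_top (F : FusionSystem S) : F.StronglyClosed S :=
  ⟨le_rfl, fun _ _ _ hφ x => (F.le_of_mem hφ).2 x⟩

/-- **Key lemma.** If every automorphism of a centric radical `P` induced by `N_Q(P)` lies in a normal
`p`-subgroup of `Aut_F(P)`, then `Q ≤ P`. -/
theorem le_of_centric_radical_of_aut_mem [Finite S] {p : ℕ} [Fact p.Prime] (hS : IsPGroup p S)
    (F : FusionSystem S) {P Q : Subgroup Ω} (hc : F.IsCentric P) (hr : F.IsRadical p P) (hQS : Q ≤ S)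
    (hQn : S ≤ Subgroup.normalizer (Q : Set Ω)) (X : Subgroup (MulAut P)) (hXle : X ≤ F.autGroup P)
    (hXn : (X.subgroupOf (F.autGroup P)).Normal) (hXp : IsPGroup p X)
    (hX : ∀ q ∈ Q, ∀ hq : q ∈ Subgroup.normalizer (P : Set Ω), P.normalizerMonoidHom ⟨q, hq⟩ ∈ X) :
    Q ≤ P := by
  by_contra hQP
  have hPS : P ≤ S := hc.1
  have hPQS : P ⊔ Q ≤ S := sup_le hPS hQS
  have hfin : Finite ↥(P ⊔ Q) := finite_of_le hPQS
  have hpg : IsPGroup p ↥(P ⊔ Q) := hS.to_le hPQS
  have hne : P ≠ P ⊔ Q := fun h => hQP (h ▸ le_sup_right)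
  obtain ⟨g, hgN, hgP⟩ := exists_mem_normalizerIn_not_mem hpg (le_sup_left : P ≤ P ⊔ Q) hne
  have hgPQ : g ∈ P ⊔ Q := normalizerIn_le _ _ hgN
  have hgN' : g ∈ Subgroup.normalizer (P : Set Ω) := hgN.2
  have hgPQ' : g ∈ ((P ⊔ Q : Subgroup Ω) : Set Ω) := hgPQ
  rw [Subgroup.coe_mul_of_left_le_normalizer_right P Q (hPS.trans hQn)] at hgPQ'
  obtain ⟨x, hx, q, hq, rfl⟩ := hgPQ'
  have hqN : q ∈ Subgroup.normalizer (P : Set Ω) := by
    have : q = x⁻¹ * (x * q) := by simp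
    rw [this]
    exact Subgroup.mul_mem _ (Subgroup.inv_mem _ (Subgroup.le_normalizer hx)) hgN'
  have hqP : q ∉ P := fun h => hgP (P.mul_mem hx h)
  have hinn := le_inn_of_radical F hr X hXle hXn hXp (hX q hq hqN)
  exact hqP (mem_of_normalizerMonoidHom_mem_inn F hc (hQS hq) hqN hinn)

theorem mem_iff_aut_mem_of_stronglyClosed [Finite S] (F : FusionSystem S) {Q P : Subgroup Ω}
    (hQ : F.StronglyClosed Q) (hPS : P ≤ S) {α : MulAut P} (hα : α ∈ F.autGroup P) (x : P) :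
    x ∈ Q.subgroupOf P ↔ α x ∈ Q.subgroupOf P := by
  have h := map_aut_eq_of_stronglyClosed F hQ hPS hα
  constructor
  · intro hx
    rw [← h]
    exact ⟨x, hx, rfl⟩
  · intro hx
    rw [← h] at hx
    obtain ⟨y, hy, hyx⟩ := hx
    have : y = x := α.injective hyx
    rw [← this]
    exact hy

/-- **Chain criterion for normality** (general ℕ-indexed form). -/
theorem isNormal_of_nat_chain [Finite S] {p : ℕ} [Fact p.Prime] (hS : IsPGroup p S) (F : FusionSystem S)
    (hF : F.IsSaturated p) (Q : Subgroup Ω) (Qn : ℕ → Subgroup Ω) (hmono : Monotone Qn)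
    (hsc : ∀ i, F.StronglyClosed (Qn i)) (hcomm : ∀ i, ⁅Q, Qn (i + 1)⁆ ≤ Qn i) (N : ℕ) (hN : Qn N = S)
    (hQ : F.StronglyClosed Q)
    (hbase : ∀ P : Subgroup Ω, F.IsCentric P → F.IsRadical p P → ∀ α ∈ F.autGroup P,
      ∃ k : ℕ, ∀ x : P, (x : Ω) ∈ Qn 0 → (α ^ (p ^ k)) x = x) :
    F.IsNormal Q := by
  rw [isNormal_iff_stronglyClosed_le_centric_radical hS F hF]
  refine ⟨hQ, fun P hc hr => ?_⟩
  have hPS : P ≤ S := hc.1
  have hfinP : Finite P := finite_of_le hPS
  have hPp : IsPGroup p P := hS.to_le hPS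
  let T : ℕ → Subgroup P := fun i => (Qn i).subgroupOf P
  have hTmono : Monotone T := fun i j hij x hx => hmono hij hx
  have hTfin : ∀ i, Finite (T i) := fun i => inferInstance
  have hTp : ∀ i, ∃ m, Nat.card (T i) = p ^ m := fun i =>
    IsPGroup.iff_card.mp (hPp.to_subgroup (T i))
  have hTN : T N = ⊤ := by
    show (Qn N).subgroupOf P = ⊤
    rw [hN]
    exact Subgroup.subgroupOf_eq_top.mpr hPS
  have hinv : ∀ γ ∈ F.autGroup P, ∀ i x, x ∈ T i ↔ γ x ∈ T i := fun γ hγ i x =>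
    mem_iff_aut_mem_of_stronglyClosed F (hsc i) hPS hγ x
  have hXn := chainStab_inf_normal T hTmono (F.autGroup P) hinv
  have hXp : IsPGroup p ↥(chainStab T hTmono ⊓ F.autGroup P) :=
    isPGroup_of_chainStab T hTmono hTfin hTp N hTN _ inf_le_left
      (fun α hα => by
        obtain ⟨k, hk⟩ := hbase P hc hr α hα.2
        exact ⟨k, fun x hx => hk x hx⟩)
  apply le_of_centric_radical_of_aut_mem hS F hc hr hQ.1 (le_normalizer_of_stronglyClosed F hQ)
    (chainStab T hTmono ⊓ F.autGroup P) inf_le_right hXn hXp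
  intro q hq hqN
  have hqA : P.normalizerMonoidHom ⟨q, hqN⟩ ∈ F.autGroup P :=
    autInducedBy_le_autGroup F hPS (normalizerMonoidHom_mem_autInducedBy (hQ.1 hq) hqN)
  refine ⟨⟨hinv _ hqA, fun i x hx => ?_⟩, hqA⟩
  show ((x⁻¹ * P.normalizerMonoidHom ⟨q, hqN⟩ x : P) : Ω) ∈ Qn i
  have h1 : ((x⁻¹ * P.normalizerMonoidHom ⟨q, hqN⟩ x : P) : Ω) = ⁅(x : Ω)⁻¹, q⁆ := by
    show (x : Ω)⁻¹ * (q * x * q⁻¹) = (x : Ω)⁻¹ * q * ((x : Ω)⁻¹)⁻¹ * q⁻¹
    simp [mul_assoc]
  rw [h1]
  apply hcomm i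
  rw [Subgroup.commutator_comm]
  have hx' : (x : Ω)⁻¹ ∈ Qn (i + 1) := Subgroup.inv_mem _ hx
  exact Subgroup.commutator_mem_commutator hx' hq

end Cfsg.Agent.Lib.Helper26

namespace Cfsg.Agent.Lib.Helper26

open Cfsg Cfsg.FusionSystem
open scoped commutatorElement

variable {Ω : Type*} [Group Ω] {S : Subgroup Ω}

theorem commutator_le_of_le_normalizer {Q T : Subgroup Ω} (h : T ≤ Subgroup.normalizer (Q : Set Ω)) :
    ⁅Q, T⁆ ≤ Q := by
  rw [Subgroup.commutator_le]
  intro q hq t ht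
  have h1 : t * q⁻¹ * t⁻¹ ∈ Q := (Subgroup.mem_normalizer_iff.mp (h ht) _).mp (Q.inv_mem hq)
  have : ⁅q, t⁆ = q * (t * q⁻¹ * t⁻¹) := by
    simp [commutatorElement_def, mul_assoc]
  rw [this]
  exact Q.mul_mem hq h1

/-- Chain criterion, `Fin`-indexed form (direction ⇐ of S5088). -/
theorem isNormal_of_fin_chain [Finite S] {p : ℕ} [Fact p.Prime] (hS : IsPGroup p S) (F : FusionSystem S)
    (hF : F.IsSaturated p) (Q : Subgroup Ω) (n : ℕ) (Qs : Fin (n + 1) → Subgroup Ω) (h0 : Qs 0 = ⊥)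
    (hlast : Qs (Fin.last n) = Q) (hmono : Monotone Qs)
    (h : ∀ i : Fin n, F.StronglyClosed (Qs i.succ) ∧ ⁅Q, Qs i.succ⁆ ≤ Qs (Fin.castSucc i)) :
    F.IsNormal Q := by
  rcases Nat.eq_zero_or_pos n with rfl | hn
  · have : Q = ⊥ := by rw [← hlast, ← h0]; rfl
    rw [this]
    exact isNormal_bot F
  have hQsc : F.StronglyClosed Q := by
    have := (h ⟨n - 1, by omega⟩).1
    have e : (⟨n - 1, by omega⟩ : Fin n).succ = Fin.last n := by
      apply Fin.ext
      simp only [Fin.val_succ, Fin.val_last]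
      omega
    rw [e, hlast] at this
    exact this
  have hQS : Q ≤ S := hQsc.1
  have hle_last : ∀ i : Fin (n + 1), Qs i ≤ Q := fun i => hlast ▸ hmono (Fin.le_last i)
  let Qn : ℕ → Subgroup Ω := fun i => if hi : i ≤ n then Qs ⟨i, Nat.lt_succ_of_le hi⟩ else S
  have hQn_le : ∀ i (hi : i ≤ n), Qn i = Qs ⟨i, Nat.lt_succ_of_le hi⟩ := fun i hi => dif_pos hi
  have hQn_gt : ∀ i, ¬ i ≤ n → Qn i = S := fun i hi => dif_neg hi
  apply isNormal_of_nat_chain hS F hF Q Qn ?_ ?_ ?_ (n + 1) (hQn_gt _ (by omega)) hQsc ?_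
  · -- monotone
    intro i j hij
    by_cases hj : j ≤ n
    · rw [hQn_le i (hij.trans hj), hQn_le j hj]
      exact hmono (Fin.mk_le_mk.mpr hij)
    · rw [hQn_gt j hj]
      by_cases hi : i ≤ n
      · rw [hQn_le i hi]
        exact (hle_last _).trans hQS
      · rw [hQn_gt i hi]
  · -- strongly closed
    intro i
    by_cases hi : i ≤ n
    · rw [hQn_le i hi]
      rcases Nat.eq_zero_or_pos i with rfl | hpos
      · have : (⟨0, Nat.lt_succ_of_le hi⟩ : Fin (n + 1)) = 0 := rfl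
        rw [this, h0]
        exact stronglyClosed_bot F
      · have := (h ⟨i - 1, by omega⟩).1
        have e : (⟨i - 1, by omega⟩ : Fin n).succ = ⟨i, Nat.lt_succ_of_le hi⟩ := by
          apply Fin.ext
          simp only [Fin.val_succ]
          omega
        rw [e] at this
        exact this
    · rw [hQn_gt i hi]
      exact stronglyClosed_top F
  · -- commutators
    intro i
    by_cases hi : i + 1 ≤ n
    · rw [hQn_le (i + 1) hi, hQn_le i (by omega)]
      exact (h ⟨i, by omega⟩).2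
    · rw [hQn_gt (i + 1) hi]
      have h1 : ⁅Q, S⁆ ≤ Q := commutator_le_of_le_normalizer (le_normalizer_of_stronglyClosed F hQsc)
      by_cases hi' : i ≤ n
      · have hin : i = n := by omega
        subst hin
        rw [hQn_le i le_rfl]
        have : (⟨i, Nat.lt_succ_of_le le_rfl⟩ : Fin (i + 1)) = Fin.last i := rfl
        rw [this, hlast]
        exact h1
      · rw [hQn_gt i hi']
        exact h1.trans hQS
  · -- base
    intro P _ _ α _
    refine ⟨0, fun x hx => ?_⟩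
    rw [hQn_le 0 (Nat.zero_le n)] at hx
    have e : (⟨0, Nat.lt_succ_of_le (Nat.zero_le n)⟩ : Fin (n + 1)) = 0 := rfl
    rw [e, h0] at hx
    have : x = 1 := Subtype.ext (Subgroup.mem_bot.mp hx)
    rw [this, map_one]

/-- Terms of the lower central series of a subgroup normal in the system are normal in the system. -/
theorem isNormal_lowerCentralSeries (F : FusionSystem S) {Q : Subgroup Ω} (hQ : F.IsNormal Q) (k : ℕ) :
    F.IsNormal (Q.lowerCentralSeries k) := by
  apply isNormal_of_characteristic F Q _ hQ (Subgroup.lowerCentralSeries_le_self Q k)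
  have h1 : (Q.lowerCentralSeries k).subgroupOf Q = (⊤ : Subgroup Q).lowerCentralSeries k := by
    rw [← Subgroup.top_subtype_lowerCentralSeries]
    exact Subgroup.comap_map_eq_self_of_injective Q.subtype_injective _
  rw [h1]
  infer_instance

/-- Direction ⇒ of S5088: the reversed lower central series. -/
theorem exists_fin_chain_of_isNormal [Finite S] {p : ℕ} [Fact p.Prime] (hS : IsPGroup p S) (F : FusionSystem S)
    (Q : Subgroup Ω) (hQ : F.IsNormal Q) :
    ∃ (n : ℕ) (Qs : Fin (n + 1) → Subgroup Ω), Qs 0 = ⊥ ∧ Qs (Fin.last n) = Q ∧ Monotone Qs ∧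
      ∀ i : Fin n, F.StronglyClosed (Qs i.succ) ∧ ⁅Q, Qs i.succ⁆ ≤ Qs (Fin.castSucc i) := by
  have hfin : Finite Q := finite_of_le hQ.1
  have hnil : Group.IsNilpotent Q := (hS.to_le hQ.1).isNilpotent
  obtain ⟨c, hc⟩ := (Subgroup.isNilpotent_iff_lowerCentralSeries Q).mp hnil
  refine ⟨c, fun i => Q.lowerCentralSeries (c - i), ?_, ?_, ?_, ?_⟩
  · show Q.lowerCentralSeries (c - 0) = ⊥
    rw [Nat.sub_zero, hc]
  · show Q.lowerCentralSeries (c - c) = Q
    rw [Nat.sub_self]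
    rfl
  · intro i j hij
    apply Subgroup.lowerCentralSeries_antitone
    have : (i : ℕ) ≤ j := hij
    omega
  · intro i
    refine ⟨stronglyClosed_of_isNormal F (isNormal_lowerCentralSeries F hQ _), ?_⟩
    show ⁅Q, Q.lowerCentralSeries (c - (i.succ : ℕ))⁆ ≤ Q.lowerCentralSeries (c - (Fin.castSucc i : ℕ))
    have hi : (i : ℕ) < c := i.2
    have e1 : c - (Fin.castSucc i : ℕ) = (c - (i.succ : ℕ)) + 1 := by
      simp only [Fin.val_castSucc, Fin.val_succ]
      omega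
    rw [e1, Subgroup.lowerCentralSeries_succ, Subgroup.commutator_comm]

/-- S5088. -/
theorem isNormal_iff_fin_chain [Finite S] {p : ℕ} [Fact p.Prime] (hS : IsPGroup p S) (F : FusionSystem S)
    (hF : F.IsSaturated p) (Q : Subgroup Ω) :
    F.IsNormal Q ↔ ∃ (n : ℕ) (Qs : Fin (n + 1) → Subgroup Ω), Qs 0 = ⊥ ∧ Qs (Fin.last n) = Q ∧ Monotone Qs ∧
      ∀ i : Fin n, F.StronglyClosed (Qs i.succ) ∧ ⁅Q, Qs i.succ⁆ ≤ Qs (Fin.castSucc i) := by
  constructor
  · exact exists_fin_chain_of_isNormal hS F Q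
  · rintro ⟨n, Qs, h0, hlast, hmono, h⟩
    exact isNormal_of_fin_chain hS F hF Q n Qs h0 hlast hmono h

end Cfsg.Agent.Lib.Helper26
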