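import Cfsg.Agent.Lib.Helper26.FSSolvable
import Cfsg.Agent.Lib.Helper26.FSChain

/-!
S5158: a solvable saturated fusion system is constrained.
-/

set_option autoImplicit false

namespace Cfsg.Agent.Lib.Helper26

open Cfsg Cfsg.FusionSystem
open scoped commutatorElement

variable {Ω : Type*} [Group Ω] {S : Subgroup Ω}

/-- The centralizer in `S` of a subgroup normal in the system is strongly closed. -/
theorem centralizerIn_stronglyClosed_of_isNormal (F : FusionSystem S) {Q : Subgroup Ω} (hQ : F.IsNormal Q) :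
    F.StronglyClosed (centralizerIn S Q) := by
  refine ⟨centralizerIn_le S Q, fun R hR φ hφ x => ?_⟩
  obtain ⟨ψ, hψ, hψφ, hψQ⟩ := hQ.2 R φ hφ
  rw [mem_centralizerIn_iff]
  refine ⟨hom_apply_mem F hφ x, fun q hq => ?_⟩
  obtain ⟨y, hyQ, hy⟩ := ((map_subgroupOf_eq_iff ψ).mp hψQ).2 q hq
  rw [← hψφ x, ← hy, ← map_mul, ← map_mul]
  congr 1
  apply Subtype.ext
  show (y : Ω) * (x : Ω) = (x : Ω) * (y : Ω)
  exact (mem_centralizerIn_iff.mp (hR x.2)).2 _ hyQ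

theorem stronglyClosed_inf (F : FusionSystem S) {A B : Subgroup Ω} (hA : F.StronglyClosed A)
    (hB : F.StronglyClosed B) : F.StronglyClosed (A ⊓ B) :=
  ⟨inf_le_left.trans hA.1, fun R hR φ hφ x =>
    ⟨hA.2 R (hR.trans inf_le_left) φ hφ x, hB.2 R (hR.trans inf_le_right) φ hφ x⟩⟩

/-- A subgroup normal in the system containing its centralizer in `S` is centric. -/
theorem isCentric_of_isNormal_of_centralizerIn_le [Finite S] (F : FusionSystem S) {Q : Subgroup Ω}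
    (hQ : F.IsNormal Q) (hC : centralizerIn S Q ≤ Q) : F.IsCentric Q := by
  refine ⟨hQ.1, ?_⟩
  rintro Q' ⟨φ, hφ, rfl⟩
  have hsc := stronglyClosed_of_isNormal F hQ
  have hfin : Finite Q := finite_of_le hQ.1
  have hle : φ.range ≤ Q := by
    rintro _ ⟨x, rfl⟩
    exact hsc.2 Q le_rfl φ hφ x
  have heq : φ.range = Q := by
    apply Subgroup.eq_of_le_of_card_ge hle
    have : Nat.card Q = Nat.card φ.range :=
      Nat.card_congr (MonoidHom.ofInjective (F.injective_of_mem hφ)).toEquiv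
    omega
  rw [heq]
  exact hC

theorem commutatorElement_mul_mul_of_commute {q₁ a₁ q₂ a₂ : Ω} (h12 : a₁ * q₂ = q₂ * a₁) (h21 : a₂ * q₁ = q₁ * a₂)
    (h11 : a₁ * q₁ = q₁ * a₁) (h22 : a₂ * q₂ = q₂ * a₂) :
    ⁅q₁ * a₁, q₂ * a₂⁆ = ⁅q₁, q₂⁆ * ⁅a₁, a₂⁆ := by
  have e1 : a₁ * q₂ = q₂ * a₁ := h12
  have i11 : a₁⁻¹ * q₁⁻¹ = q₁⁻¹ * a₁⁻¹ := by
    rw [← mul_inv_rev, ← mul_inv_rev, h11]
  have i22 : a₂⁻¹ * q₂⁻¹ = q₂⁻¹ * a₂⁻¹ := by
    rw [← mul_inv_rev, ← mul_inv_rev, h22]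
  have i12 : a₁ * q₂⁻¹ = q₂⁻¹ * a₁ := by
    rw [eq_inv_mul_iff_mul_eq, ← mul_assoc, ← h12, mul_assoc, mul_inv_cancel, mul_one]
  have i21 : a₂ * q₁⁻¹ = q₁⁻¹ * a₂ := by
    rw [eq_inv_mul_iff_mul_eq, ← mul_assoc, ← h21, mul_assoc, mul_inv_cancel, mul_one]
  have j12 : a₁⁻¹ * q₂⁻¹ = q₂⁻¹ * a₁⁻¹ := by
    rw [← mul_inv_rev, ← mul_inv_rev, h12]
  rw [commutatorElement_def, commutatorElement_def, commutatorElement_def, mul_inv_rev, mul_inv_rev]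
  -- q₁ a₁ q₂ a₂ a₁⁻¹ q₁⁻¹ a₂⁻¹ q₂⁻¹ = q₁ q₂ q₁⁻¹ q₂⁻¹ a₁ a₂ a₁⁻¹ a₂⁻¹
  calc q₁ * a₁ * (q₂ * a₂) * (a₁⁻¹ * q₁⁻¹) * (a₂⁻¹ * q₂⁻¹)
      = q₁ * (a₁ * q₂) * a₂ * (a₁⁻¹ * q₁⁻¹) * (a₂⁻¹ * q₂⁻¹) := by simp only [mul_assoc]
    _ = q₁ * (q₂ * a₁) * a₂ * (q₁⁻¹ * a₁⁻¹) * (q₂⁻¹ * a₂⁻¹) := by rw [e1, i11, i22]
    _ = q₁ * q₂ * a₁ * (a₂ * q₁⁻¹) * a₁⁻¹ * (q₂⁻¹ * a₂⁻¹) := by simp only [mul_assoc]
    _ = q₁ * q₂ * a₁ * (q₁⁻¹ * a₂) * a₁⁻¹ * (q₂⁻¹ * a₂⁻¹) := by rw [i21]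
    _ = q₁ * q₂ * (a₁ * q₁⁻¹) * a₂ * (a₁⁻¹ * q₂⁻¹) * a₂⁻¹ := by simp only [mul_assoc]
    _ = q₁ * q₂ * (q₁⁻¹ * a₁) * a₂ * (q₂⁻¹ * a₁⁻¹) * a₂⁻¹ := by
        rw [j12]
        congr 4
        rw [eq_inv_mul_iff_mul_eq, ← mul_assoc, ← h11, mul_assoc, mul_inv_cancel, mul_one]
    _ = q₁ * q₂ * q₁⁻¹ * a₁ * (a₂ * q₂⁻¹) * a₁⁻¹ * a₂⁻¹ := by simp only [mul_assoc]
    _ = q₁ * q₂ * q₁⁻¹ * a₁ * (q₂⁻¹ * a₂) * a₁⁻¹ * a₂⁻¹ := by
        congr 3
        rw [eq_inv_mul_iff_mul_eq, ← mul_assoc, ← h22, mul_assoc, mul_inv_cancel, mul_one]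
    _ = q₁ * q₂ * q₁⁻¹ * (a₁ * q₂⁻¹) * a₂ * a₁⁻¹ * a₂⁻¹ := by simp only [mul_assoc]
    _ = q₁ * q₂ * q₁⁻¹ * (q₂⁻¹ * a₁) * a₂ * a₁⁻¹ * a₂⁻¹ := by rw [i12]
    _ = q₁ * q₂ * q₁⁻¹ * q₂⁻¹ * (a₁ * a₂ * a₁⁻¹ * a₂⁻¹) := by simp only [mul_assoc]

theorem exists_mul_of_mem_sup_left {Q A : Subgroup Ω} (hA : A ≤ Subgroup.normalizer (Q : Set Ω)) {r : Ω}
    (hr : r ∈ Q ⊔ A) : ∃ q ∈ Q, ∃ a ∈ A, r = q * a := by
  have hr' : r ∈ ((Q ⊔ A : Subgroup Ω) : Set Ω) := hr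
  rw [Subgroup.coe_mul_of_right_le_normalizer_left Q A hA] at hr'
  obtain ⟨q, hq, a, ha, rfl⟩ := hr'
  exact ⟨q, hq, a, ha, rfl⟩

/-- S5158: a solvable saturated fusion system is constrained. -/
theorem constrained_of_solvable [Finite S] (p : ℕ) [Fact p.Prime] (hS : IsPGroup p S) (F : FusionSystem S)
    (hF : F.IsSaturated p) (h : F.IsSolvableSystem) : F.IsConstrained p := by
  have hQ := core_isNormal F
  refine ⟨hF, F.core, hQ, ?_⟩
  apply isCentric_of_isNormal_of_centralizerIn_le F hQ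
  by_contra hcon
  obtain ⟨n, T, hT0, hTlast, hTmono, hTsc, hTcomm⟩ := (solvable_iff_chain p hS F hF).mp h
  have hQsc := stronglyClosed_of_isNormal F hQ
  have hCsc := centralizerIn_stronglyClosed_of_isNormal F hQ
  have h0 : (fun i => T i ⊓ centralizerIn S F.core) 0 ≤ F.core := by
    show T 0 ⊓ centralizerIn S F.core ≤ F.core
    rw [hT0]
    exact inf_le_left.trans bot_le
  have hl : ¬ (fun i => T i ⊓ centralizerIn S F.core) (Fin.last n) ≤ F.core := by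
    show ¬ T (Fin.last n) ⊓ centralizerIn S F.core ≤ F.core
    rw [hTlast, inf_eq_right.mpr (centralizerIn_le S F.core)]
    exact hcon
  obtain ⟨j, hj1, hj2⟩ := exists_step_not_le (fun i => T i ⊓ centralizerIn S F.core) h0 hl
  have hj1' : T (Fin.castSucc j) ⊓ centralizerIn S F.core ≤ F.core := hj1
  have hj2' : ¬ T j.succ ⊓ centralizerIn S F.core ≤ F.core := hj2
  have hAsc : F.StronglyClosed (T j.succ ⊓ centralizerIn S F.core) := stronglyClosed_inf F (hTsc _) hCsc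
  have hAC : ∀ a ∈ T j.succ ⊓ centralizerIn S F.core, ∀ q ∈ F.core, a * q = q * a := by
    intro a ha q hq
    exact ((mem_centralizerIn_iff.mp ha.2).2 q hq).symm
  have hAcomm : ⁅T j.succ ⊓ centralizerIn S F.core, T j.succ ⊓ centralizerIn S F.core⁆ ≤ F.core := by
    refine le_trans ?_ hj1'
    apply le_inf
    · exact (Subgroup.commutator_mono inf_le_left inf_le_left).trans (hTcomm j)
    · rw [Subgroup.commutator_le]
      intro a ha b hb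
      rw [commutatorElement_def]
      exact Subgroup.mul_mem _ (Subgroup.mul_mem _ (Subgroup.mul_mem _ ha.2 hb.2) (Subgroup.inv_mem _ ha.2))
        (Subgroup.inv_mem _ hb.2)
  have hAn : T j.succ ⊓ centralizerIn S F.core ≤ Subgroup.normalizer (F.core : Set Ω) :=
    hAsc.1.trans (le_normalizer_of_stronglyClosed F hQsc)
  have hRsc : F.StronglyClosed (F.core ⊔ (T j.succ ⊓ centralizerIn S F.core)) :=
    stronglyClosed_sup hS F hF _ _ hQsc hAsc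
  -- the chain
  obtain ⟨m, Qs, hQs0, hQslast, hQsmono, hQs⟩ := exists_fin_chain_of_isNormal hS F F.core hQ
  have hRn : F.IsNormal (F.core ⊔ (T j.succ ⊓ centralizerIn S F.core)) := by
    apply isNormal_of_fin_chain hS F hF _ (m + 1)
      (Fin.snoc Qs (F.core ⊔ (T j.succ ⊓ centralizerIn S F.core)) : Fin (m + 2) → Subgroup Ω)
    · have : (0 : Fin (m + 2)) = Fin.castSucc (0 : Fin (m + 1)) := rfl
      rw [this, Fin.snoc_castSucc]
      exact hQs0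
    · rw [Fin.snoc_last]
    · rw [Fin.monotone_iff_le_succ]
      intro i
      refine Fin.lastCases ?_ (fun i' => ?_) i
      · have e : (Fin.last m).succ = Fin.last (m + 1) := rfl
        rw [e, Fin.snoc_last, Fin.snoc_castSucc, hQslast]
        exact le_sup_left
      · rw [Fin.succ_castSucc, Fin.snoc_castSucc, Fin.snoc_castSucc]
        exact hQsmono (Fin.castSucc_le_succ i')
    · intro i
      refine Fin.lastCases ?_ (fun i' => ?_) i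
      · have e : (Fin.last m).succ = Fin.last (m + 1) := rfl
        rw [e, Fin.snoc_last, Fin.snoc_castSucc, hQslast]
        refine ⟨hRsc, ?_⟩
        rw [Subgroup.commutator_le]
        intro r₁ hr₁ r₂ hr₂
        obtain ⟨q₁, hq₁, a₁, ha₁, rfl⟩ := exists_mul_of_mem_sup_left hAn hr₁
        obtain ⟨q₂, hq₂, a₂, ha₂, rfl⟩ := exists_mul_of_mem_sup_left hAn hr₂
        rw [commutatorElement_mul_mul_of_commute (hAC a₁ ha₁ q₂ hq₂) (hAC a₂ ha₂ q₁ hq₁) (hAC a₁ ha₁ q₁ hq₁)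
          (hAC a₂ ha₂ q₂ hq₂)]
        refine Subgroup.mul_mem _ ?_ (hAcomm (Subgroup.commutator_mem_commutator ha₁ ha₂))
        rw [commutatorElement_def]
        exact Subgroup.mul_mem _ (Subgroup.mul_mem _ (Subgroup.mul_mem _ hq₁ hq₂) (Subgroup.inv_mem _ hq₁))
          (Subgroup.inv_mem _ hq₂)
      · rw [Fin.succ_castSucc, Fin.snoc_castSucc, Fin.snoc_castSucc]
        refine ⟨(hQs i').1, ?_⟩
        rw [Subgroup.commutator_le]
        intro r hr x hx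
        obtain ⟨q, hq, a, ha, rfl⟩ := exists_mul_of_mem_sup_left hAn hr
        have hxQ : x ∈ F.core := hQslast ▸ hQsmono (Fin.le_last _) hx
        have hax : a * x = x * a := hAC a ha x hxQ
        have e : ⁅q * a, x⁆ = ⁅q, x⁆ := by
          rw [commutatorElement_def, commutatorElement_def, mul_inv_rev]
          calc q * a * x * (a⁻¹ * q⁻¹) * x⁻¹ = q * (a * x) * a⁻¹ * q⁻¹ * x⁻¹ := by simp only [mul_assoc]
            _ = q * (x * a) * a⁻¹ * q⁻¹ * x⁻¹ := by rw [hax]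
            _ = q * x * q⁻¹ * x⁻¹ := by simp only [mul_assoc, mul_inv_cancel_left]
        rw [e]
        exact (hQs i').2 (Subgroup.commutator_mem_commutator hq hx)
  have hle : F.core ⊔ (T j.succ ⊓ centralizerIn S F.core) ≤ F.core := le_sSup hRn
  exact hj2' (le_sup_right.trans hle)

end Cfsg.Agent.Lib.Helper26
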