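import Cfsg.Agent.Lib.Helper26.AbRankTwoE

/-!
Finite abelian `p`-groups of rank two, part F: the main theorem.  A finite abelian `p`-group with `|H/Φ(H)| ≤ p²`
admitting a group of automorphisms of order divisible by `p` with trivial `p`-core is elementary abelian of order `p²`
or (for `p ≤ 3`) homocyclic of rank two.
-/

set_option autoImplicit false

namespace Cfsg.Agent.Lib.Helper26

section Main

variable {H : Type*} [CommGroup H] [Finite H] {p : ℕ} [Fact p.Prime]

theorem abelian_rank_two (hH : IsPGroup p H) {A : Subgroup (MulAut H)} (hdvd : p ∣ Nat.card A)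
    (hcore : ∀ N : Subgroup A, N.Normal → IsPGroup p N → N = ⊥) (hrk : (agemo p H 1).index ≤ p ^ 2) :
    ((∀ h : H, h ^ p = 1) ∧ Nat.card H = p ^ 2) ∨
      (p ≤ 3 ∧ ∃ k : ℕ, Nonempty (H ≃* Multiplicative (ZMod (p ^ k) × ZMod (p ^ k)))) := by
  have hpp : p.Prime := Fact.out
  obtain ⟨⟨u, huA⟩, hord⟩ := exists_prime_orderOf_dvd_card' p hdvd
  have hu : u ^ p = 1 := by
    have := pow_orderOf_eq_one (⟨u, huA⟩ : A)
    rw [hord] at this
    exact congrArg Subtype.val this
  have hne : u ≠ 1 := by
    intro h1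
    have : (⟨u, huA⟩ : A) = 1 := Subtype.ext h1
    rw [this, orderOf_one] at hord
    exact hpp.one_lt.ne hord
  obtain ⟨d, hd⟩ := hH.index (agemo p H 1)
  have hd2 : d ≤ 2 := by
    rw [hd] at hrk
    exact (Nat.pow_le_pow_iff_right hpp.one_lt).mp hrk
  have htopinv : ∀ γ ∈ A, ∀ x, x ∈ (⊤ : Subgroup H) ↔ γ x ∈ (⊤ : Subgroup H) :=
    fun γ _ x => ⟨fun _ => Subgroup.mem_top _, fun _ => Subgroup.mem_top _⟩
  interval_cases d
  · -- index 1
    exfalso
    apply hne
    rw [pow_zero, Subgroup.index_eq_one] at hd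
    apply eq_one_of_chain3 hH hcore (M := ⊤) le_top htopinv huA (fun x => Subgroup.mem_top _)
    intro x _
    rw [hd]
    exact Subgroup.mem_top _
  · -- index p
    exfalso
    apply hne
    have hc : Nat.card (⊤ : Subgroup H) = p * Nat.card (agemo p H 1) := by
      rw [Subgroup.card_top, ← Subgroup.card_mul_index (agemo p H 1), hd, pow_one, mul_comm]
    apply eq_one_of_chain3 hH hcore (M := ⊤) le_top htopinv huA (fun x => Subgroup.mem_top _)
    exact triv_on_section (⊤ : Subgroup H) (agemo p H 1) le_top hc u (htopinv u huA) (agemo_aut u 1) hu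
  · -- index p²
    have hex := exists_agemo_eq_bot hH
    classical
    obtain ⟨k, hk⟩ : ∃ k, k = Nat.find hex := ⟨_, rfl⟩
    have hkbot : agemo p H k = ⊥ := hk ▸ Nat.find_spec hex
    have hmin : ∀ j < k, agemo p H j ≠ ⊥ := fun j hj => Nat.find_min hex (hk ▸ hj)
    by_cases hcase : ∀ i < k, Mi p H i = agemo p H 1
    · have hcard := card_of_Mi hd hkbot hcase
      have hk0 : k ≠ 0 := by
        rintro rfl
        rw [Nat.mul_zero, pow_zero] at hcard
        have h1 := Subgroup.card_mul_index (agemo p H 1)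
        rw [hcard, hd] at h1
        have h2 : 1 < p ^ 2 := Nat.one_lt_pow (by norm_num) hpp.one_lt
        have h3 : p ^ 2 ∣ 1 := Dvd.intro_left _ h1
        have := Nat.le_of_dvd Nat.one_pos h3
        omega
      by_cases hk1 : k = 1
      · left
        subst hk1
        refine ⟨fun h => ?_, by rw [hcard]⟩
        have : h ^ p ∈ agemo p H 1 := mem_agemo.mpr ⟨h, by rw [pow_one]⟩
        rw [hkbot, Subgroup.mem_bot] at this
        exact this
      · by_cases hp3 : p ≤ 3
        · right
          exact ⟨hp3, k, exists_iso_homocyclic hH hkbot hcard (by rw [frattini_eq_agemo hH]; exact hd)⟩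
        · exfalso
          apply hne
          have hp5 : 5 ≤ p := by
            have h4 : p ≠ 4 := by
              rintro rfl
              exact absurd hpp (by norm_num)
            omega
          exact eq_one_of_homocyclic hH hp5 hcore hd (hcase 1 (by omega)) huA hu
    · exfalso
      apply hne
      push Not at hcase
      obtain ⟨i, hi, hMi⟩ := hcase
      have hle := agemo_one_le_Mi (H := H) p i
      have htop := Mi_ne_top hkbot (hmin i hi)
      obtain ⟨hc1, hc2⟩ := card_mid hH hle (Ne.symm hMi) htop hd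
      have hMinv : ∀ γ ∈ A, ∀ x, x ∈ Mi p H i ↔ γ x ∈ Mi p H i := fun γ _ x => Mi_aut γ i x
      apply eq_one_of_chain3 hH hcore hle hMinv huA
      · have := triv_on_section (⊤ : Subgroup H) (Mi p H i) le_top hc2 u (htopinv u huA) (hMinv u huA) hu
        exact fun x => this x (Subgroup.mem_top x)
      · exact triv_on_section (Mi p H i) (agemo p H 1) hle hc1 u (hMinv u huA) (agemo_aut u 1) hu

end Main

/-- Version for a `Group` with a commutativity hypothesis, stated with the Frattini subgroup. -/
theorem abelian_rank_two' {H : Type*} [Group H] [Finite H] {p : ℕ} [Fact p.Prime]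
    (hcomm : ∀ a b : H, a * b = b * a) (hH : IsPGroup p H) {A : Subgroup (MulAut H)} (hdvd : p ∣ Nat.card A)
    (hcore : ∀ N : Subgroup A, N.Normal → IsPGroup p N → N = ⊥) (hrk : (frattini H).index ≤ p ^ 2) :
    ((∀ h : H, h ^ p = 1) ∧ Nat.card H = p ^ 2) ∨
      (p ≤ 3 ∧ ∃ k : ℕ, Nonempty (H ≃* Multiplicative (ZMod (p ^ k) × ZMod (p ^ k)))) := by
  letI : CommGroup H := { ‹Group H› with mul_comm := hcomm }
  have hrk' : (agemo p H 1).index ≤ p ^ 2 := by
    rw [← frattini_eq_agemo hH]
    exact hrk
  exact abelian_rank_two (H := H) hH hdvd hcore hrk'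

end Cfsg.Agent.Lib.Helper26
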