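import Cfsg.Agent.Lib.Helper26.EssChain
import Cfsg.Agent.Lib.Helper26.AbRankTwoF
import Cfsg.Agent.Lib.Helper23.Class2
import Cfsg.Agent.Lib.Helper2.QuatGen
import Cfsg.Prelude.Def_Transfer

/-!
Groups of order `p³` carrying `EssData`: part A (chains of length three, abelian case, structure of the nonabelian
case).
-/

set_option autoImplicit false
universe u

namespace Cfsg.Agent.Lib.Helper26

open Cfsg
open scoped commutatorElement

section

variable {H : Type u} [Group H]

/-- The chain `⊥ ≤ T₁ ≤ T₂ ≤ ⊤`. -/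
def chain4 (T1 T2 : Subgroup H) : ℕ → Subgroup H
  | 0 => ⊥
  | 1 => T1
  | 2 => T2
  | _ => ⊤

theorem chain4_mono {T1 T2 : Subgroup H} (h : T1 ≤ T2) : Monotone (chain4 T1 T2) := by
  apply monotone_nat_of_le_succ
  intro n
  match n with
  | 0 => exact bot_le
  | 1 => exact h
  | 2 => exact le_top
  | (n + 3) => exact le_rfl

variable [Finite H] {p : ℕ} [Fact p.Prime]

theorem isPGroup_of_card_cube (hcard : Nat.card H = p ^ 3) : IsPGroup p H := IsPGroup.of_card hcard

/-- No invariant chain `⊥ < T₁ < T₂ < ⊤` with orders `1, p, p², p³`. -/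
theorem EssData.no_chain4 {A : Subgroup (MulAut H)} (hd : EssData p H A) (hcard : Nat.card H = p ^ 3)
    (T1 T2 : Subgroup H) (h12 : T1 ≤ T2) (hc1 : Nat.card T1 = p) (hc2 : Nat.card T2 = p ^ 2)
    (hinv1 : ∀ γ ∈ A, ∀ x, x ∈ T1 ↔ γ x ∈ T1) (hinv2 : ∀ γ ∈ A, ∀ x, x ∈ T2 ↔ γ x ∈ T2) : False := by
  apply hd.no_chain (isPGroup_of_card_cube hcard) (chain4 T1 T2) (chain4_mono h12) rfl 3 rfl
  · intro γ hγ i x
    match i with
    | 0 =>
      show x ∈ (⊥ : Subgroup H) ↔ γ x ∈ (⊥ : Subgroup H)
      rw [Subgroup.mem_bot, Subgroup.mem_bot, map_eq_one_iff γ γ.injective]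
    | 1 => exact hinv1 γ hγ x
    | 2 => exact hinv2 γ hγ x
    | (n + 3) => exact ⟨fun _ => Subgroup.mem_top _, fun _ => Subgroup.mem_top _⟩
  · intro i
    match i with
    | 0 =>
      left
      show Nat.card T1 = p * Nat.card (⊥ : Subgroup H)
      rw [hc1, Subgroup.card_bot, mul_one]
    | 1 =>
      left
      show Nat.card T2 = p * Nat.card T1
      rw [hc1, hc2, pow_two]
    | 2 =>
      left
      show Nat.card (⊤ : Subgroup H) = p * Nat.card T2
      rw [Subgroup.card_top, hcard, hc2, pow_succ, mul_comm]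
    | (n + 3) =>
      right
      rfl

/-- Characteristic subgroups are invariant. -/
theorem char_inv (K : Subgroup H) [hK : K.Characteristic] (γ : MulAut H) (x : H) : x ∈ K ↔ γ x ∈ K := by
  have := hK.fixed γ
  constructor
  · intro hx
    have h2 : x ∈ K.comap γ.toMonoidHom := by rw [this]; exact hx
    exact h2
  · intro hx
    rw [← this]
    exact hx

/-- The abelian case: elementary abelian. -/
theorem EssData.elementary_of_comm {A : Subgroup (MulAut H)} (hd : EssData p H A) (hcard : Nat.card H = p ^ 3)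
    (hcomm : ∀ a b : H, a * b = b * a) : ∀ x : H, x ^ p = 1 := by
  have hpp : p.Prime := Fact.out
  have hH := isPGroup_of_card_cube (H := H) hcard
  obtain ⟨hdvd, hcore⟩ := hd.of_comm hcomm
  by_cases hfr : frattini H = ⊥
  · intro x
    have := (Cfsg.Agent.S0012.result p hH).2 x
    rw [hfr, Subgroup.mem_bot] at this
    exact this
  · exfalso
    have hidx : (frattini H).index ≤ p ^ 2 := by
      obtain ⟨a, ha⟩ := (hH.to_subgroup (frattini H)).exists_card_eq
      have ha0 : a ≠ 0 := by
        rintro rfl
        rw [pow_zero] at ha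
        exact hfr (Subgroup.card_eq_one.mp ha)
      have h1 := Subgroup.card_mul_index (frattini H)
      rw [ha, hcard] at h1
      have ha3 : a ≤ 3 := by
        have : p ^ a ∣ p ^ 3 := Dvd.intro _ h1
        exact (Nat.pow_dvd_pow_iff_le_right hpp.one_lt).mp this
      have h2 : (frattini H).index = p ^ (3 - a) := by
        have h3 : p ^ 3 = p ^ a * p ^ (3 - a) := by rw [← pow_add]; congr 1; omega
        rw [h3] at h1
        exact Nat.eq_of_mul_eq_mul_left (pow_pos hpp.pos a) h1
      rw [h2]
      exact Nat.pow_le_pow_right hpp.pos (by omega)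
    rcases abelian_rank_two' hcomm hH hdvd hcore hidx with ⟨-, h2⟩ | ⟨-, k, ⟨e⟩⟩
    · rw [hcard] at h2
      have := Nat.pow_right_injective hpp.two_le h2
      omega
    · haveI : NeZero (p ^ k) := ⟨pow_ne_zero _ hpp.ne_zero⟩
      have h2 := Nat.card_congr e.toEquiv
      rw [hcard, Nat.card_congr Multiplicative.toAdd, Nat.card_prod, Nat.card_zmod, ← pow_add] at h2
      have := Nat.pow_right_injective hpp.two_le h2
      omega

end

section Nonabelian

variable {H : Type u} [Group H] [Finite H] {p : ℕ} [Fact p.Prime]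

/-- The centre of a nonabelian group of order `p³` has order `p`. -/
theorem card_center_of_cube (hcard : Nat.card H = p ^ 3) (hna : ¬ ∀ a b : H, a * b = b * a) :
    Nat.card (Subgroup.center H) = p := by
  have hpp : p.Prime := Fact.out
  have hH := isPGroup_of_card_cube (H := H) hcard
  haveI : Nontrivial H := by
    by_contra h
    rw [not_nontrivial_iff_subsingleton] at h
    exact hna (fun a b => Subsingleton.elim _ _)
  have hnt : Nontrivial (Subgroup.center H) := hH.center_nontrivial
  obtain ⟨a, ha⟩ := (hH.to_subgroup (Subgroup.center H)).exists_card_eq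
  have h1 := Subgroup.card_mul_index (Subgroup.center H)
  rw [ha, hcard] at h1
  have ha3 : a ≤ 3 := by
    have : p ^ a ∣ p ^ 3 := Dvd.intro _ h1
    exact (Nat.pow_dvd_pow_iff_le_right hpp.one_lt).mp this
  have ha0 : a ≠ 0 := by
    rintro rfl
    rw [pow_zero] at ha
    have := (Subgroup.card_eq_one.mp ha)
    rw [this] at hnt
    exact not_nontrivial _ hnt
  have ha3' : a ≠ 3 := by
    rintro rfl
    have htop : Subgroup.center H = ⊤ := by
      apply Subgroup.eq_top_of_card_eq
      rw [ha, hcard]
    apply hna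
    intro x y
    have hy : y ∈ Subgroup.center H := htop ▸ Subgroup.mem_top y
    exact Subgroup.mem_center_iff.mp hy x
  have ha2 : a ≠ 2 := by
    rintro rfl
    have hidx : (Subgroup.center H).index = p := by
      have h3 : p ^ 3 = p ^ 2 * p := by rw [pow_succ]
      rw [h3] at h1
      exact Nat.eq_of_mul_eq_mul_left (pow_pos hpp.pos 2) h1
    have hq : Nat.card (H ⧸ Subgroup.center H) = p := hidx
    haveI : IsCyclic (H ⧸ Subgroup.center H) := isCyclic_of_prime_card hq
    apply hna
    exact commutative_of_cyclic_center_quotient (QuotientGroup.mk' (Subgroup.center H))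
      (by rw [QuotientGroup.ker_mk'])
  have : a = 1 := by omega
  rw [ha, this, pow_one]

/-- Structure of a nonabelian group of order `p³`. -/
theorem cube_structure (hcard : Nat.card H = p ^ 3) (hna : ¬ ∀ a b : H, a * b = b * a) :
    (∀ a b : H, ⁅a, b⁆ ∈ Subgroup.center H) ∧ (∀ x : H, x ^ p ∈ Subgroup.center H) ∧
      IsExtraspecial p H := by
  have hpp : p.Prime := Fact.out
  have hH := isPGroup_of_card_cube (H := H) hcard
  have hZ := card_center_of_cube hcard hna
  have hq : Nat.card (H ⧸ Subgroup.center H) = p ^ 2 := by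
    have h1 := Subgroup.card_mul_index (Subgroup.center H)
    rw [hZ, hcard] at h1
    have h3 : p ^ 3 = p * p ^ 2 := by rw [pow_succ, mul_comm]
    rw [h3] at h1
    exact Nat.eq_of_mul_eq_mul_left hpp.pos h1
  have hqc : IsMulCommutative (H ⧸ Subgroup.center H) := IsPGroup.isMulCommutative_of_card_eq_prime_sq hq
  have hcomm : ∀ a b : H, ⁅a, b⁆ ∈ Subgroup.center H := by
    intro a b
    rw [← QuotientGroup.eq_one_iff, commutatorElement_def]
    simp only [QuotientGroup.mk_mul, QuotientGroup.mk_inv]
    have := isMulCommutative_iff.mp hqc (a : H ⧸ Subgroup.center H) (b : H ⧸ Subgroup.center H)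
    rw [this]
    group
  have hpow : ∀ x : H, x ^ p ∈ Subgroup.center H := by
    intro x
    rw [← QuotientGroup.eq_one_iff, QuotientGroup.mk_pow]
    have hord : orderOf (x : H ⧸ Subgroup.center H) ∣ p ^ 2 := hq ▸ orderOf_dvd_natCard _
    obtain ⟨k, hk, hk2⟩ := (Nat.dvd_prime_pow hpp).mp hord
    have hk2' : k ≠ 2 := by
      rintro rfl
      have hcyc : IsCyclic (H ⧸ Subgroup.center H) := isCyclic_of_orderOf_eq_card _ (by rw [hk2, hq])
      apply hna
      exact commutative_of_cyclic_center_quotient (QuotientGroup.mk' (Subgroup.center H))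
        (by rw [QuotientGroup.ker_mk'])
    apply orderOf_dvd_iff_pow_eq_one.mp
    rw [hk2]
    have : k ≤ 1 := by omega
    calc p ^ k ∣ p ^ 1 := Nat.pow_dvd_pow p this
      _ = p := pow_one p
  have hcle : commutator H ≤ Subgroup.center H := by
    rw [commutator_def, Subgroup.commutator_le]
    intro a _ b _
    exact hcomm a b
  have hcne : commutator H ≠ ⊥ := by
    intro hbot
    apply hna
    intro a b
    have : ⁅a, b⁆ ∈ commutator H := Subgroup.commutator_mem_commutator (Subgroup.mem_top a) (Subgroup.mem_top b)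
    rw [hbot, Subgroup.mem_bot, commutatorElement_eq_one_iff_mul_comm] at this
    exact this
  have hceq : commutator H = Subgroup.center H := by
    apply Subgroup.eq_of_le_of_card_ge hcle
    rw [hZ]
    obtain ⟨a, ha⟩ := (hH.to_subgroup (commutator H)).exists_card_eq
    rw [ha]
    have ha0 : a ≠ 0 := by
      rintro rfl
      rw [pow_zero] at ha
      exact hcne (Subgroup.card_eq_one.mp ha)
    calc p = p ^ 1 := (pow_one p).symm
      _ ≤ p ^ a := Nat.pow_le_pow_right hpp.pos (by omega)
  have hfeq : frattini H = Subgroup.center H := by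
    apply le_antisymm
    · exact Cfsg.Agent.S0013.result p hH (Subgroup.center H) hcle hpow
    · rw [← hceq]
      exact (Cfsg.Agent.S0012.result p hH).1
  exact ⟨hcomm, hpow, ⟨hH, hfeq, hceq⟩, hZ⟩

end Nonabelian

end Cfsg.Agent.Lib.Helper26
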