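import Mathlib
import Cfsg.Prelude.Def_BlockRank
import Cfsg.Agent.Lib.Helper27.DODefs
import Cfsg.Agent.Lib.Helper27.BlkAlgDefs2
import Cfsg.Agent.Lib.Helper17.FPTFULL

set_option autoImplicit false

namespace Cfsg.Agent.Lib.Helper26.DODEFP

open Cfsg Cfsg.Agent.Lib.Helper8.DOM Cfsg.Agent.Lib.Helper27.DO

universe u

theorem isDefectGroup_of_pos {G : Type u} [Group G] [Finite G] {p : ℕ} [Fact p.Prime]
    {M : Ideal AlgInt} (hM : IsPModular p M) (P : Subgroup G) (hP : Nat.card P = p)
    (hSyl : ¬ p ∣ P.index) (B : Set (IrrCharacter G)) (hB : IsPBlock M B)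
    (hd : 0 < blockDefect p B) : IsDefectGroup p M B P := by
  classical
  let _ := Fintype.ofFinite G
  have hp : p.Prime := Fact.out
  have hPp : IsPGroup p P := IsPGroup.of_card (n := 1) (by rw [hP, pow_one])
  have hcard := Cfsg.Agent.Lib.Helper17.FPTFULL.card_eq_of_not_dvd_index P hPp hSyl
  have ha : (Nat.card G).factorization p = 1 := by
    rw [hP] at hcard
    have h2 : p ^ 1 = p ^ (Nat.card G).factorization p := by rw [pow_one]; exact hcard
    exact (Nat.pow_right_injective hp.two_le h2).symm
  have hle : blockDefect p B ≤ (Nat.card G).factorization p := by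
    unfold blockDefect
    exact Nat.sub_le _ _
  have hfull : blockDefect p B = (Nat.card G).factorization p := by omega
  exact Cfsg.Agent.Lib.Helper17.FPTFULL.isDefectGroup_of_full_defect hM B hB hfull P hPp hSyl

end Cfsg.Agent.Lib.Helper26.DODEFP
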