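import Cfsg.Agent.Lib.Helper26.FSSurjImage
import Cfsg.Agent.Lib.Helper16.PCore

/-!
S5103: a fusion system with a model is constrained (and saturated).
-/

set_option autoImplicit false

namespace Cfsg.Agent.Lib.Helper26

open Cfsg Cfsg.FusionSystem

section Realized

variable {Ω : Type*} [Group Ω] {S : Subgroup Ω} {G : Type*} [Group G]

/-- The inverse of `ι` on its range, as a homomorphism into the ambient group of `S`. -/
noncomputable def realInv (ι : S →* G) (hinj : Function.Injective ι) : ι.range →* Ω :=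
  S.subtype.comp (MonoidHom.ofInjective hinj).symm.toMonoidHom

theorem realInv_mem (ι : S →* G) (hinj : Function.Injective ι) (t : ι.range) : realInv ι hinj t ∈ S :=
  SetLike.coe_mem _

theorem ι_realInv (ι : S →* G) (hinj : Function.Injective ι) (t : ι.range) :
    ι ⟨realInv ι hinj t, realInv_mem ι hinj t⟩ = t := by
  have h1 : ι ((MonoidHom.ofInjective hinj).symm t) =
      ((MonoidHom.ofInjective hinj ((MonoidHom.ofInjective hinj).symm t) : ι.range) : G) :=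
    (MonoidHom.ofInjective_apply hinj).symm
  rw [MulEquiv.apply_symm_apply] at h1
  exact h1

theorem realInv_ι (ι : S →* G) (hinj : Function.Injective ι) (s : S) :
    realInv ι hinj ⟨ι s, ⟨s, rfl⟩⟩ = s := by
  have h1 : (⟨ι s, ⟨s, rfl⟩⟩ : ι.range) = MonoidHom.ofInjective hinj s := by
    apply Subtype.ext
    rw [MonoidHom.ofInjective_apply]
  show (((MonoidHom.ofInjective hinj).symm ⟨ι s, ⟨s, rfl⟩⟩ : S) : Ω) = s
  rw [h1, MulEquiv.symm_apply_apply]

theorem realInv_injective (ι : S →* G) (hinj : Function.Injective ι) : Function.Injective (realInv ι hinj) := by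
  intro a b hab
  have h1 : (⟨realInv ι hinj a, realInv_mem ι hinj a⟩ : S) = ⟨realInv ι hinj b, realInv_mem ι hinj b⟩ :=
    Subtype.ext hab
  have h2 := congrArg ι h1
  rw [ι_realInv, ι_realInv] at h2
  exact Subtype.ext h2

/-- A realized system is the image of the group fusion system under the inverse of `ι`. -/
theorem realized_isSurjectiveMorphism (F : FusionSystem S) (ι : S →* G) (hreal : F.IsRealizedBy ι) :
    (groupFusionSystem ι.range).IsSurjectiveMorphism F (realInv ι hreal.1) := by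
  obtain ⟨hinj, hreal⟩ := hreal
  refine ⟨⟨fun t => realInv_mem ι hinj t, ?_⟩, ?_, ?_⟩
  · -- maps of the group system induce maps of `F`
    rintro P₀ φ₀ ⟨hP₀, hφ₀T, g, hg⟩
    have hQP' : ∀ y : P₀, realInv ι hinj ⟨y, hP₀ y.2⟩ ∈ imageAlong (realInv ι hinj) P₀ := fun y =>
      (mem_imageAlong_iff _ P₀ _).mpr ⟨⟨y, hP₀ y.2⟩, y.2, rfl⟩
    have hsurj : ∀ z ∈ imageAlong (realInv ι hinj) P₀, ∃ y : P₀, realInv ι hinj ⟨y, hP₀ y.2⟩ = z := by
      intro z hz
      obtain ⟨s, hs, hsz⟩ := (mem_imageAlong_iff _ P₀ z).mp hz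
      exact ⟨⟨s, hs⟩, hsz⟩
    have hker : ∀ y : P₀, realInv ι hinj ⟨y, hP₀ y.2⟩ = 1 → realInv ι hinj ⟨φ₀ y, hφ₀T y⟩ = 1 := by
      intro y hy
      have h1 : (⟨(y : G), hP₀ y.2⟩ : ι.range) = 1 := realInv_injective ι hinj (by rw [hy, map_one])
      have h2 : y = 1 := Subtype.ext (congrArg (fun z : ι.range => (z : G)) h1)
      have h3 : (⟨φ₀ y, hφ₀T y⟩ : ι.range) = 1 := by
        apply Subtype.ext
        show φ₀ y = 1
        rw [h2, map_one]
      rw [h3, map_one]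
    obtain ⟨φ, hφ⟩ := exists_induced (realInv ι hinj) hP₀ φ₀ hφ₀T (imageAlong (realInv ι hinj) P₀) hQP' hsurj hker
    have hPS : imageAlong (realInv ι hinj) P₀ ≤ S := by
      rintro _ ⟨s, -, rfl⟩
      exact realInv_mem ι hinj s
    have hφS : ∀ x : imageAlong (realInv ι hinj) P₀, φ x ∈ S := by
      rintro ⟨z, hz⟩
      obtain ⟨y, rfl⟩ := hsurj z hz
      rw [hφ y]
      exact realInv_mem ι hinj _
    refine ⟨φ, ?_, hP₀, hφ₀T, hQP', hφ⟩
    rw [hreal _ hPS φ hφS]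
    refine ⟨g, ?_⟩
    rintro ⟨z, hz⟩
    obtain ⟨y, rfl⟩ := hsurj z hz
    have h1 : (⟨φ ⟨realInv ι hinj ⟨y, hP₀ y.2⟩, hz⟩, hφS _⟩ : S) =
        ⟨realInv ι hinj ⟨φ₀ y, hφ₀T y⟩, realInv_mem ι hinj _⟩ := Subtype.ext (hφ y)
    rw [h1, ι_realInv, ι_realInv]
    exact hg y
  · -- surjectivity
    apply le_antisymm
    · rintro _ ⟨t, rfl⟩
      exact realInv_mem ι hinj t
    · intro s hs
      exact ⟨⟨ι ⟨s, hs⟩, ⟨⟨s, hs⟩, rfl⟩⟩, realInv_ι ι hinj ⟨s, hs⟩⟩
  · -- lifting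
    intro P hP φ hφ
    have hφS : ∀ x : P, φ x ∈ S := fun x => hom_apply_mem F hφ x
    obtain ⟨g, hg⟩ := (hreal P hP φ hφS).mp hφ
    have hP₀ := preimageAlong_le (realInv ι hinj) P
    have hmem : ∀ t : (preimageAlong (realInv ι hinj) P : Subgroup G),
        ∃ ht : (t : G) ∈ ι.range, realInv ι hinj ⟨t, ht⟩ ∈ P := fun t =>
      (mem_preimageAlong_iff _ P _).mp t.2
    have hconj : ∀ t : (preimageAlong (realInv ι hinj) P : Subgroup G),
        g * (t : G) * g⁻¹ = ι ⟨φ ⟨realInv ι hinj ⟨t, hP₀ t.2⟩, (hmem t).2⟩, hφS _⟩ := by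
      intro t
      rw [hg, ι_realInv]
    have hconjT : ∀ t : (preimageAlong (realInv ι hinj) P : Subgroup G),
        conjHom (preimageAlong (realInv ι hinj) P) g t ∈ ι.range := by
      intro t
      rw [conjHom_apply, hconj t]
      exact ⟨_, rfl⟩
    refine ⟨conjHom _ g, ⟨hP₀, hconjT, g, fun _ => rfl⟩, hP₀, hconjT, fun t => (hmem t).2, fun t => ?_⟩
    have h1 : (⟨conjHom (preimageAlong (realInv ι hinj) P) g t, hconjT t⟩ : ι.range) =
        ⟨ι ⟨φ ⟨realInv ι hinj ⟨t, hP₀ t.2⟩, (hmem t).2⟩, hφS _⟩, ⟨_, rfl⟩⟩ := Subtype.ext (hconj t)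
    rw [h1, realInv_ι]

/-- A system realized on a Sylow `p`-subgroup of a finite group is saturated. -/
theorem saturated_of_realized [Finite S] [Finite G] (p : ℕ) [Fact p.Prime] (F : FusionSystem S) (ι : S →* G)
    (hreal : F.IsRealizedBy ι) (T : Sylow p G) (hT : (T : Subgroup G) = ι.range) : F.IsSaturated p := by
  have hsat : (groupFusionSystem ι.range).IsSaturated p := hT ▸ groupFS_saturated T
  have hpT : IsPGroup p ι.range := hT ▸ T.isPGroup'
  exact surj_saturated p hpT (groupFusionSystem ι.range) hsat F (realInv ι hreal.1)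
    (realized_isSurjectiveMorphism F ι hreal)

end Realized

section Model

variable {Ω : Type*} [Group Ω] {S : Subgroup Ω} {G : Type*} [Group G]

/-- The preimage in `S` of a subgroup of `G`, as a subgroup of the ambient group of `S`. -/
def pullSub (ι : S →* G) (N : Subgroup G) : Subgroup Ω := (N.comap ι).map S.subtype

theorem pullSub_le (ι : S →* G) (N : Subgroup G) : pullSub ι N ≤ S := Subgroup.map_subtype_le _

theorem mem_pullSub (ι : S →* G) (N : Subgroup G) (s : S) : (s : Ω) ∈ pullSub ι N ↔ ι s ∈ N := by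
  constructor
  · rintro ⟨s', hs', h⟩
    have : s' = s := Subtype.ext h
    rw [← this]
    exact hs'
  · intro h
    exact ⟨s, h, rfl⟩

theorem isNormal_pullSub_of_realized (F : FusionSystem S) (ι : S →* G) (hreal : F.IsRealizedBy ι)
    (N : Subgroup G) [hN : N.Normal] (hNT : N ≤ ι.range) : F.IsNormal (pullSub ι N) := by
  obtain ⟨hinj, hreal⟩ := hreal
  refine ⟨pullSub_le ι N, fun P φ hφ => ?_⟩
  have hPS : P ≤ S := hom_le F hφ
  have hφS : ∀ x : P, φ x ∈ S := fun x => hom_apply_mem F hφ x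
  obtain ⟨g, hg⟩ := (hreal P hPS φ hφS).mp hφ
  have hRS : P ⊔ pullSub ι N ≤ S := sup_le hPS (pullSub_le ι N)
  have hle : P ⊔ pullSub ι N ≤ pullSub ι (ι.range.comap (MulAut.conj g).toMonoidHom) := by
    apply sup_le
    · intro x hx
      refine (mem_pullSub ι _ ⟨x, hPS hx⟩).mpr ?_
      show g * ι ⟨x, hPS hx⟩ * g⁻¹ ∈ ι.range
      rw [← hg ⟨x, hx⟩]
      exact ⟨_, rfl⟩
    · intro x hx
      have hxS := pullSub_le ι N hx
      refine (mem_pullSub ι _ ⟨x, hxS⟩).mpr ?_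
      show g * ι ⟨x, hxS⟩ * g⁻¹ ∈ ι.range
      exact hNT (hN.conj_mem _ ((mem_pullSub ι N ⟨x, hxS⟩).mp hx) g)
  have hmemT : ∀ y : (P ⊔ pullSub ι N : Subgroup Ω),
      ((MulAut.conj g).toMonoidHom.comp (ι.comp (Subgroup.inclusion hRS))) y ∈ ι.range := by
    intro y
    exact (mem_pullSub ι _ ⟨y, hRS y.2⟩).mp (hle y.2)
  let ψ : (P ⊔ pullSub ι N : Subgroup Ω) →* Ω := (realInv ι hinj).comp
    (((MulAut.conj g).toMonoidHom.comp (ι.comp (Subgroup.inclusion hRS))).codRestrict ι.range hmemT)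
  have hψS : ∀ y, ψ y ∈ S := fun y => realInv_mem ι hinj _
  have hψι : ∀ y : (P ⊔ pullSub ι N : Subgroup Ω), ι ⟨ψ y, hψS y⟩ = g * ι ⟨y, hRS y.2⟩ * g⁻¹ := by
    intro y
    exact ι_realInv ι hinj _
  have hψF : ψ ∈ F.Hom (P ⊔ pullSub ι N) := (hreal _ hRS ψ hψS).mpr ⟨g, hψι⟩
  refine ⟨ψ, hψF, fun x => ?_, ?_⟩
  · have h1 : ι ⟨ψ (Subgroup.inclusion le_sup_left x), hψS _⟩ = ι ⟨φ x, hφS x⟩ := by
      rw [hψι, hg]
      rfl
    exact congrArg Subtype.val (hinj h1)
  · ext z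
    constructor
    · rintro ⟨y, hy, rfl⟩
      have hy' : (y : Ω) ∈ pullSub ι N := hy
      refine (mem_pullSub ι N ⟨ψ y, hψS y⟩).mpr ?_
      rw [hψι]
      exact hN.conj_mem _ ((mem_pullSub ι N ⟨y, hRS y.2⟩).mp hy') g
    · intro hz
      have hzS := pullSub_le ι N hz
      have hzN := (mem_pullSub ι N ⟨z, hzS⟩).mp hz
      have hc : g⁻¹ * ι ⟨z, hzS⟩ * g ∈ N := by
        have := hN.conj_mem _ hzN g⁻¹
        rwa [inv_inv] at this
      obtain ⟨s', hs'⟩ := hNT hc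
      have hs'N : (s' : Ω) ∈ pullSub ι N := (mem_pullSub ι N s').mpr (by rw [hs']; exact hc)
      refine ⟨⟨s', Subgroup.mem_sup_right hs'N⟩, hs'N, ?_⟩
      have h1 : ι ⟨ψ ⟨s', Subgroup.mem_sup_right hs'N⟩, hψS _⟩ = ι ⟨z, hzS⟩ := by
        rw [hψι]
        have : (⟨((⟨s', Subgroup.mem_sup_right hs'N⟩ : (P ⊔ pullSub ι N : Subgroup Ω)) : Ω), hRS (Subgroup.mem_sup_right hs'N)⟩ : S) = s' := rfl
        rw [this, hs']
        group
      exact congrArg Subtype.val (hinj h1)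

theorem isCentric_pullSub_of_realized [Finite S] (F : FusionSystem S) (ι : S →* G) (hreal : F.IsRealizedBy ι)
    (N : Subgroup G) [hN : N.Normal] (hNT : N ≤ ι.range)
    (hcent : Subgroup.centralizer (N : Set G) ≤ N) : F.IsCentric (pullSub ι N) := by
  obtain ⟨hinj, hreal⟩ := hreal
  refine ⟨pullSub_le ι N, ?_⟩
  rintro Q₁ ⟨φ, hφ, rfl⟩
  have hQS := pullSub_le ι N
  have hφS : ∀ x : pullSub ι N, φ x ∈ S := fun x => hom_apply_mem F hφ x
  obtain ⟨g, hg⟩ := (hreal _ hQS φ hφS).mp hφ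
  have hrange : φ.range = pullSub ι N := by
    apply le_antisymm
    · rintro _ ⟨x, rfl⟩
      refine (mem_pullSub ι N ⟨φ x, hφS x⟩).mpr ?_
      rw [hg]
      exact hN.conj_mem _ ((mem_pullSub ι N ⟨x, hQS x.2⟩).mp x.2) g
    · intro z hz
      have hzS := hQS hz
      have hzN := (mem_pullSub ι N ⟨z, hzS⟩).mp hz
      have hc : g⁻¹ * ι ⟨z, hzS⟩ * g ∈ N := by
        have := hN.conj_mem _ hzN g⁻¹
        rwa [inv_inv] at this
      obtain ⟨s', hs'⟩ := hNT hc
      have hs'N : (s' : Ω) ∈ pullSub ι N := (mem_pullSub ι N s').mpr (by rw [hs']; exact hc)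
      refine ⟨⟨s', hs'N⟩, ?_⟩
      have h1 : ι ⟨φ ⟨s', hs'N⟩, hφS _⟩ = ι ⟨z, hzS⟩ := by
        rw [hg]
        have : (⟨((⟨s', hs'N⟩ : pullSub ι N) : Ω), hQS hs'N⟩ : S) = s' := rfl
        rw [this, hs']
        group
      exact congrArg Subtype.val (hinj h1)
  rw [hrange]
  intro x hx
  obtain ⟨hxS, hxc⟩ := mem_centralizerIn_iff.mp hx
  refine (mem_pullSub ι N ⟨x, hxS⟩).mpr (hcent ?_)
  rw [Subgroup.mem_centralizer_iff]
  intro c hc
  obtain ⟨s, rfl⟩ := hNT hc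
  have hsN : (s : Ω) ∈ pullSub ι N := (mem_pullSub ι N s).mpr hc
  have h1 := hxc s hsN
  have h2 : s * ⟨x, hxS⟩ = ⟨x, hxS⟩ * s := Subtype.ext h1
  rw [← map_mul, ← map_mul, h2]

/-- S5103. -/
theorem constrained_of_model [Finite S] (p : ℕ) [Fact p.Prime] (F : FusionSystem S) (ι : S →* G)
    (hG : F.IsModel p G ι) : F.IsConstrained p := by
  obtain ⟨hfin, hreal, ⟨T, hT⟩, hcent⟩ := hG
  refine ⟨saturated_of_realized p F ι hreal T hT, pullSub ι (pCore p G), ?_, ?_⟩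
  · have hOT : pCore p G ≤ ι.range := hT ▸ Cfsg.Agent.Lib.Helper16.pCore_le_sylow T
    exact isNormal_pullSub_of_realized F ι hreal (pCore p G) hOT
  · have hOT : pCore p G ≤ ι.range := hT ▸ Cfsg.Agent.Lib.Helper16.pCore_le_sylow T
    exact isCentric_pullSub_of_realized F ι hreal (pCore p G) hOT hcent

end Model

end Cfsg.Agent.Lib.Helper26
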