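import Cfsg.Agent.Lib.Helper26.ModelG
import Cfsg.Agent.Lib.Helper26.FSModel

/-!
Model theorem, uniqueness.
-/

set_option autoImplicit false
set_option linter.unusedSectionVars false
set_option linter.unusedVariables false

namespace Cfsg.Agent.Lib.Helper26.ModelThm

open Cfsg Cfsg.FusionSystem Cfsg.Agent.Lib.Helper26 IndExt
open scoped IsMulCommutative

variable {Ω : Type*} [Group Ω] {S : Subgroup Ω} {p : ℕ} {F : FusionSystem S}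

/-- Normality of `Q` in terms of `F`-maps. -/
theorem IsFMap.exists_extension_of_isNormal {N : Subgroup ↥S} {θ : ↥S → ↥S} (hθ : IsFMap F N θ)
    {Q : Subgroup Ω} (hQ : F.IsNormal Q) :
    ∃ θ' : ↥S → ↥S, IsFMap F (N ⊔ Q.subgroupOf S) θ' ∧ (∀ x ∈ N, θ' x = θ x) ∧
      ∀ x : ↥S, (x : Ω) ∈ Q → ((θ' x : ↥S) : Ω) ∈ Q := by
  obtain ⟨φ, hφF, hφ⟩ := hθ
  obtain ⟨ψ, hψF, hψφ, hψQ⟩ := hQ.2 _ φ hφF
  obtain ⟨θ', hθ', hθ'ψ⟩ := isFMap_of_hom F hψF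
  have hle : N ⊔ Q.subgroupOf S ≤ (N.map S.subtype ⊔ Q).subgroupOf S := by
    apply sup_le
    · intro x hx
      rw [Subgroup.mem_subgroupOf]
      exact (le_sup_left : N.map S.subtype ≤ _) (Subgroup.mem_map_of_mem S.subtype hx)
    · intro x hx
      rw [Subgroup.mem_subgroupOf]
      exact (le_sup_right : Q ≤ N.map S.subtype ⊔ Q) hx
  refine ⟨θ', hθ'.mono hle, ?_, ?_⟩
  · intro x hx
    apply Subtype.ext
    have hx' : (x : Ω) ∈ N.map S.subtype := Subgroup.mem_map_of_mem S.subtype hx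
    rw [hθ'ψ x ((le_sup_left : N.map S.subtype ≤ _) hx'), ← hφ x hx, ← hψφ ⟨x, hx'⟩]
    rfl
  · intro x hx
    rw [hθ'ψ x ((le_sup_right : Q ≤ N.map S.subtype ⊔ Q) hx)]
    have : ψ ⟨x, (le_sup_right : Q ≤ N.map S.subtype ⊔ Q) hx⟩ ∈ (Q.subgroupOf (N.map S.subtype ⊔ Q)).map ψ :=
      ⟨_, (show _ ∈ Q.subgroupOf (N.map S.subtype ⊔ Q) from Subgroup.mem_subgroupOf.mpr hx), rfl⟩
    rwa [hψQ] at this

section Model

variable {G : Type*} [Group G] {ι : ↥S →* G}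

/-- In a model, the image of a normal subgroup of the system is normal. -/
theorem map_normal_of_isNormal [Finite ↥S] [Fact p.Prime] (hM : F.IsModel p G ι) {Q : Subgroup Ω}
    (hQ : F.IsNormal Q) : ((Q.subgroupOf S).map ι).Normal := by
  classical
  obtain ⟨hfin, hreal, ⟨T, hT⟩, hcent⟩ := hM
  have hUT : pCore p G ≤ ι.range := hT ▸ Cfsg.Agent.Lib.Helper16.pCore_le_sylow T
  have hUn : (pCore p G).Normal := inferInstance
  have hSQ : S ≤ Subgroup.normalizer (Q : Set Ω) :=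
    le_normalizer_of_stronglyClosed F (stronglyClosed_of_isNormal F hQ)
  constructor
  rintro _ ⟨x, hx, rfl⟩ g
  have hxQ : (x : Ω) ∈ Q := hx
  set Us : Subgroup ↥S := (pCore p G).comap ι with hUs
  have hex : ∀ y ∈ Us, ∃ y' : ↥S, ι y' = g * ι y * g⁻¹ := by
    intro y hy
    have : g * ι y * g⁻¹ ∈ pCore p G := hUn.conj_mem _ hy g
    exact hUT this
  let θ : ↥S → ↥S := fun y => if hy : y ∈ Us then Classical.choose (hex y hy) else 1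
  have hθ : ∀ y ∈ Us, ι (θ y) = g * ι y * g⁻¹ := by
    intro y hy
    simp only [θ, dif_pos hy]
    exact Classical.choose_spec (hex y hy)
  have hθF : IsFMap F Us θ := isFMap_of_conj hreal Us θ g hθ
  obtain ⟨θ', hθ'F, hθ'θ, hθ'Q⟩ := hθF.exists_extension_of_isNormal hQ
  obtain ⟨g', hg'⟩ := exists_conj_of_isFMap hreal hθ'F
  have hc : g'⁻¹ * g ∈ Subgroup.centralizer ((pCore p G : Subgroup G) : Set G) := by
    rw [Subgroup.mem_centralizer_iff]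
    intro u hu
    obtain ⟨y, rfl⟩ := hUT hu
    have hy : y ∈ Us := hu
    have e1 := hg' y ((le_sup_left : Us ≤ Us ⊔ Q.subgroupOf S) hy)
    rw [hθ'θ y hy, hθ y hy] at e1
    calc ι y * (g'⁻¹ * g) = g'⁻¹ * (g' * ι y * g'⁻¹) * g := by group
      _ = g'⁻¹ * (g * ι y * g⁻¹) * g := by rw [e1]
      _ = g'⁻¹ * g * ι y := by group
  obtain ⟨s, hs⟩ := hUT (hcent hc)
  have hg : g = g' * ι s := by rw [hs]; group
  have hcQ : ((s * x * s⁻¹ : ↥S) : Ω) ∈ Q :=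
    (Subgroup.mem_normalizer_iff.mp (hSQ s.2) x).mp hxQ
  have hcN : s * x * s⁻¹ ∈ Us ⊔ Q.subgroupOf S := (le_sup_right : Q.subgroupOf S ≤ _) hcQ
  refine ⟨θ' (s * x * s⁻¹), hθ'Q _ hcQ, ?_⟩
  rw [hg' _ hcN, hg, map_mul, map_mul, map_inv]
  group

theorem isPGroup_map_subgroupOf (hS : IsPGroup p S) (Q : Subgroup Ω) : IsPGroup p ((Q.subgroupOf S).map ι) :=
  (hS.to_subgroup (Q.subgroupOf S)).map ι

theorem map_pullSub_eq (N : Subgroup G) (hN : N ≤ ι.range) : ((pullSub ι N).subgroupOf S).map ι = N := by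
  ext g
  constructor
  · rintro ⟨x, hx, rfl⟩
    exact (mem_pullSub ι N x).mp hx
  · intro hg
    obtain ⟨x, rfl⟩ := hN hg
    exact ⟨x, (mem_pullSub ι N x).mpr hg, rfl⟩

end Model

/-- The preimages of `O_p` in two models coincide. -/
theorem pullSub_pCore_le [Finite ↥S] [Fact p.Prime] (hS : IsPGroup p S) {G₁ G₂ : Type*} [Group G₁] [Group G₂]
    {ι₁ : ↥S →* G₁} {ι₂ : ↥S →* G₂} (h₁ : F.IsModel p G₁ ι₁) (h₂ : F.IsModel p G₂ ι₂) :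
    pullSub ι₁ (pCore p G₁) ≤ pullSub ι₂ (pCore p G₂) := by
  obtain ⟨hfin₁, hreal₁, ⟨T₁, hT₁⟩, hcent₁⟩ := h₁
  have hUT₁ : pCore p G₁ ≤ ι₁.range := hT₁ ▸ Cfsg.Agent.Lib.Helper16.pCore_le_sylow T₁
  have hQ₁ : F.IsNormal (pullSub ι₁ (pCore p G₁)) := isNormal_pullSub_of_realized F ι₁ hreal₁ (pCore p G₁) hUT₁
  have hn := map_normal_of_isNormal h₂ hQ₁
  have hle : ((pullSub ι₁ (pCore p G₁)).subgroupOf S).map ι₂ ≤ pCore p G₂ :=
    Cfsg.Agent.Lib.Helper16.le_pCore hn (isPGroup_map_subgroupOf hS _)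
  intro x hx
  have hxS : x ∈ S := pullSub_le ι₁ _ hx
  have : ι₂ ⟨x, hxS⟩ ∈ pCore p G₂ := hle ⟨⟨x, hxS⟩, hx, rfl⟩
  exact (mem_pullSub ι₂ (pCore p G₂) ⟨x, hxS⟩).mpr this

/-- Model theorem, uniqueness. -/
theorem model_unique [Finite ↥S] [Fact p.Prime] (hS : IsPGroup p S) {G₁ G₂ : Type*} [Group G₁] [Group G₂]
    (ι₁ : ↥S →* G₁) (ι₂ : ↥S →* G₂) (h₁ : F.IsModel p G₁ ι₁) (h₂ : F.IsModel p G₂ ι₂) :
    ∃ φ : G₁ ≃* G₂, ∀ x : ↥S, φ (ι₁ x) = ι₂ x := by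
  have hQeq : pullSub ι₁ (pCore p G₁) = pullSub ι₂ (pCore p G₂) :=
    le_antisymm (pullSub_pCore_le hS h₁ h₂) (pullSub_pCore_le hS h₂ h₁)
  set Q := pullSub ι₁ (pCore p G₁) with hQdef
  obtain ⟨hfin₁, hreal₁, ⟨T₁, hT₁⟩, hcent₁⟩ := h₁
  obtain ⟨hfin₂, hreal₂, ⟨T₂, hT₂⟩, hcent₂⟩ := h₂
  have hUT₁ : pCore p G₁ ≤ ι₁.range := hT₁ ▸ Cfsg.Agent.Lib.Helper16.pCore_le_sylow T₁
  have hUT₂ : pCore p G₂ ≤ ι₂.range := hT₂ ▸ Cfsg.Agent.Lib.Helper16.pCore_le_sylow T₂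
  have hsat : F.IsSaturated p := saturated_of_realized p F ι₁ hreal₁ T₁ hT₁
  have hQn : F.IsNormal Q := isNormal_pullSub_of_realized F ι₁ hreal₁ (pCore p G₁) hUT₁
  have hQc : F.IsCentric Q := isCentric_pullSub_of_realized F ι₁ hreal₁ (pCore p G₁) hUT₁ hcent₁
  have h : Setup p F Q := ⟨hS, hsat, hQn, hQc⟩
  have hfinQ : Finite ↥Q := finite_of_le h.le
  have hm₁ : (Q.subgroupOf S).map ι₁ = pCore p G₁ := map_pullSub_eq _ hUT₁
  have hm₂ : (Q.subgroupOf S).map ι₂ = pCore p G₂ := by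
    rw [hQeq]
    exact map_pullSub_eq _ hUT₂
  have hN₁ : ((Q.subgroupOf S).map ι₁).Normal := by rw [hm₁]; infer_instance
  have hN₂ : ((Q.subgroupOf S).map ι₂).Normal := by rw [hm₂]; infer_instance
  have hC₁ : Subgroup.centralizer (((Q.subgroupOf S).map ι₁ : Subgroup G₁) : Set G₁) ≤ (Q.subgroupOf S).map ι₁ := by
    rw [hm₁]; exact hcent₁
  have hC₂ : Subgroup.centralizer (((Q.subgroupOf S).map ι₂ : Subgroup G₂) : Set G₂) ≤ (Q.subgroupOf S).map ι₂ := by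
    rw [hm₂]; exact hcent₂
  obtain ⟨Φ₁, hΦ₁⟩ := exists_iso_of_realized h hreal₁ hN₁ hC₁
  obtain ⟨Φ₂, hΦ₂⟩ := exists_iso_of_realized h hreal₂ hN₂ hC₂
  refine ⟨Φ₁.symm.trans Φ₂, fun x => ?_⟩
  rw [MulEquiv.trans_apply, ← hΦ₁ x, MulEquiv.symm_apply_apply, hΦ₂ x]

end Cfsg.Agent.Lib.Helper26.ModelThm
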