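import Mathlib
import Cfsg.Agent.Lib.Helper1.PGroup
import Cfsg.Agent.Lib.Helper16.Frattini

/-!
Group-theoretic preliminaries for the "normal Tate" argument (S5222):

* Burnside: an automorphism of a finite `p`-group acting trivially on the Frattini quotient has `p`-power order;
* the action of `MulAut R` on `R ⧸ Φ(R)`;
* restriction of an action to an invariant subgroup;
* the transfer into a normal subgroup evaluated on elements of that subgroup.
-/

set_option autoImplicit false
set_option linter.unusedSectionVars false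
set_option linter.style.haveILetI false

namespace Cfsg.Agent.Lib.Helper26

open scoped commutatorElement

section Burnside

variable {R : Type*} [Group R]

/-- A characteristic subgroup is stable under automorphisms. -/
theorem char_apply_mem (N : Subgroup R) [hN : N.Characteristic] (α : MulAut R) {x : R} (hx : x ∈ N) :
    α x ∈ N := by
  have := (Subgroup.characteristic_iff_map_eq.mp hN) α
  have h2 : α x ∈ N.map α.toMonoidHom := ⟨x, hx, rfl⟩
  rwa [this] at h2

/-- Powers of an automorphism acting trivially modulo a characteristic subgroup act trivially modulo it. -/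
theorem pow_triv_mod_char (N : Subgroup R) [hN : N.Characteristic] (α : MulAut R)
    (h : ∀ x : R, x⁻¹ * α x ∈ N) (n : ℕ) : ∀ x : R, x⁻¹ * (α ^ n) x ∈ N := by
  induction n with
  | zero =>
    intro x
    simp
  | succ n ih =>
    intro x
    have e : x⁻¹ * (α ^ (n + 1)) x = (x⁻¹ * α x) * α (x⁻¹ * (α ^ n) x) := by
      rw [pow_succ', MulAut.mul_apply, map_mul, map_inv]
      group
    rw [e]
    exact N.mul_mem (h x) (char_apply_mem N α (ih x))

/-- An automorphism of prime order `q ≠ p` of a finite `p`-group acting trivially on the Frattini quotient is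
trivial. -/
theorem eq_one_of_prime_order_of_frattini [Finite R] {p q : ℕ} [Fact p.Prime] [hq : Fact q.Prime]
    (hR : IsPGroup p R) (hpq : p ≠ q) (β : MulAut R) (hβ : β ^ q = 1)
    (h : ∀ x : R, x⁻¹ * β x ∈ frattini R) : β = 1 := by
  classical
  have hpp : p.Prime := Fact.out
  -- the fixed subgroup
  let C : Subgroup R :=
    { carrier := {x | β x = x}
      one_mem' := map_one β
      mul_mem' := fun {a b} ha hb => by
        show β (a * b) = a * b
        rw [map_mul, ha, hb]
      inv_mem' := fun {a} ha => by
        show β a⁻¹ = a⁻¹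
        rw [map_inv, ha] }
  have key : ∀ x : R, ∃ y : R, β y = y ∧ x⁻¹ * y ∈ frattini R := by
    intro x
    let X := {y : R // x⁻¹ * y ∈ frattini R}
    haveI : Fintype X := Fintype.ofFinite X
    have hmem : ∀ (n : ℕ) (y : X), x⁻¹ * (β ^ n) (y : R) ∈ frattini R := by
      intro n y
      have e : x⁻¹ * (β ^ n) (y : R) = (x⁻¹ * (β ^ n) x) * (β ^ n) (x⁻¹ * (y : R)) := by
        rw [map_mul, map_inv]
        group
      rw [e]
      exact (frattini R).mul_mem (pow_triv_mod_char (frattini R) β h n x)
        (char_apply_mem (frattini R) (β ^ n) y.2)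
    let f : X → X := fun y => ⟨β (y : R), by simpa using hmem 1 y⟩
    have hfinj : Function.Injective f := by
      intro a b hab
      apply Subtype.ext
      exact β.injective (congrArg Subtype.val hab)
    let σ : Equiv.Perm X := Equiv.ofBijective f (Finite.injective_iff_bijective.mp hfinj)
    have hσ : ∀ (n : ℕ) (y : X), ((σ ^ n) y : R) = (β ^ n) (y : R) := by
      intro n
      induction n with
      | zero => intro y; simp
      | succ n ih =>
        intro y
        rw [pow_succ', Equiv.Perm.mul_apply, pow_succ', MulAut.mul_apply, ← ih y]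
        rfl
    have hσq : σ ^ q ^ 1 = 1 := by
      rw [pow_one]
      ext y
      rw [hσ q y, hβ]
      rfl
    have hcard : Fintype.card X = Nat.card (frattini R) := by
      rw [← Nat.card_eq_fintype_card]
      apply Nat.card_congr
      refine ⟨fun y => ⟨x⁻¹ * (y : R), y.2⟩, fun z => ⟨x * (z : R), by simp⟩, ?_, ?_⟩
      · intro y
        apply Subtype.ext
        simp
      · intro z
        apply Subtype.ext
        simp
    obtain ⟨k, hk⟩ := IsPGroup.iff_card.mp (hR.to_subgroup (frattini R))
    have hnd : ¬ q ∣ Fintype.card X := by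
      rw [hcard, hk]
      intro hd
      have := (Nat.prime_dvd_prime_iff_eq hq.out hpp).mp (hq.out.dvd_of_dvd_pow hd)
      exact hpq this.symm
    obtain ⟨a, ha⟩ := Equiv.Perm.exists_fixed_point_of_prime hnd hσq
    refine ⟨(a : R), ?_, a.2⟩
    have := congrArg Subtype.val ha
    exact this
  have hsup : C ⊔ frattini R = ⊤ := by
    rw [eq_top_iff]
    intro x _
    obtain ⟨y, hy, hxy⟩ := key x
    have e : x = y * (x⁻¹ * y)⁻¹ := by group
    rw [e]
    exact Subgroup.mul_mem_sup (show y ∈ C from hy) ((frattini R).inv_mem hxy)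
  have hC : C = ⊤ := frattini_nongenerating hsup
  ext x
  have hx : x ∈ C := by rw [hC]; trivial
  exact hx

/-- **Burnside.** An automorphism of a finite `p`-group acting trivially on the Frattini quotient has
`p`-power order. -/
theorem exists_pow_eq_one_of_frattini [Finite R] {p : ℕ} [Fact p.Prime]
    (hR : IsPGroup p R) (α : MulAut R) (h : ∀ x : R, x⁻¹ * α x ∈ frattini R) :
    ∃ k : ℕ, α ^ (p ^ k) = 1 := by
  have hpp : p.Prime := Fact.out
  have hn : orderOf α ≠ 0 := (orderOf_pos α).ne'
  obtain ⟨k, m, hm, hkm⟩ := Nat.exists_eq_pow_mul_and_not_dvd hn p hpp.ne_one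
  refine ⟨k, ?_⟩
  set γ := α ^ (p ^ k) with hγ
  have hγm : γ ^ m = 1 := by
    rw [hγ, ← pow_mul, ← hkm]
    exact pow_orderOf_eq_one α
  by_contra hne
  have hord : orderOf γ ≠ 1 := fun h1 => hne (orderOf_eq_one_iff.mp h1)
  obtain ⟨q, hq, hqd⟩ := Nat.exists_prime_and_dvd hord
  haveI : Fact q.Prime := ⟨hq⟩
  have hqm : q ∣ m := hqd.trans (orderOf_dvd_of_pow_eq_one hγm)
  have hpq : p ≠ q := by
    rintro rfl
    exact hm hqm
  obtain ⟨d, hd⟩ := hqd
  set β := γ ^ d with hβ
  have hβq : β ^ q = 1 := by
    rw [hβ, ← pow_mul, mul_comm, ← hd]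
    exact pow_orderOf_eq_one γ
  have hβtriv : ∀ x : R, x⁻¹ * β x ∈ frattini R := by
    have : β = α ^ (p ^ k * d) := by rw [hβ, hγ, pow_mul]
    rw [this]
    exact pow_triv_mod_char (frattini R) α h _
  have hβ1 := eq_one_of_prime_order_of_frattini hR hpq β hβq hβtriv
  have hdvd : orderOf γ ∣ d := orderOf_dvd_of_pow_eq_one (hβ ▸ hβ1)
  have hd0 : d ≠ 0 := by
    rintro rfl
    rw [mul_zero] at hd
    exact (orderOf_pos γ).ne' hd
  have hle := Nat.le_of_dvd (Nat.pos_of_ne_zero hd0) hdvd
  rw [hd] at hle
  have : 2 * d ≤ q * d := Nat.mul_le_mul_right d hq.two_le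
  omega

end Burnside

section FrattiniQuotient

variable {R : Type*} [Group R]

/-- The automorphism of `R ⧸ Φ(R)` induced by an automorphism of `R`. -/
noncomputable def fqAut (α : MulAut R) : MulAut (R ⧸ frattini R) :=
  QuotientGroup.congr (frattini R) (frattini R) α
    ((Subgroup.characteristic_iff_map_eq.mp (frattini_characteristic (G := R))) α)

theorem fqAut_mk (α : MulAut R) (x : R) :
    fqAut α (QuotientGroup.mk x : R ⧸ frattini R) = QuotientGroup.mk (α x) := rfl

/-- The action of `MulAut R` on `R ⧸ Φ(R)`. -/
noncomputable def fqHom : MulAut R →* MulAut (R ⧸ frattini R) where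
  toFun := fqAut
  map_one' := by
    ext y
    induction y using QuotientGroup.induction_on with
    | H x => rfl
  map_mul' := fun α β => by
    ext y
    induction y using QuotientGroup.induction_on with
    | H x => rfl

theorem fqHom_mk (α : MulAut R) (x : R) :
    fqHom α (QuotientGroup.mk x : R ⧸ frattini R) = QuotientGroup.mk (α x) := rfl

/-- The Frattini quotient of a finite `p`-group is commutative. -/
theorem fq_comm [Finite R] {p : ℕ} [Fact p.Prime] (hR : IsPGroup p R) (a b : R ⧸ frattini R) :
    a * b = b * a := by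
  induction a using QuotientGroup.induction_on with
  | H x =>
    induction b using QuotientGroup.induction_on with
    | H y =>
      rw [← QuotientGroup.mk_mul, ← QuotientGroup.mk_mul, QuotientGroup.eq]
      have h1 : ⁅y⁻¹, x⁻¹⁆ ∈ frattini R :=
        Cfsg.Agent.Lib.Helper1.IsPGroup.commutator_le_frattini hR
          (Subgroup.commutator_mem_commutator (Subgroup.mem_top _) (Subgroup.mem_top _))
      have e : (x * y)⁻¹ * (y * x) = ⁅y⁻¹, x⁻¹⁆ := by
        rw [commutatorElement_def]
        group
      rw [e]
      exact h1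

/-- The Frattini quotient of a finite `p`-group has exponent `p`. -/
theorem fq_pow [Finite R] {p : ℕ} [Fact p.Prime] (hR : IsPGroup p R) (a : R ⧸ frattini R) :
    a ^ p = 1 := by
  induction a using QuotientGroup.induction_on with
  | H x =>
    rw [← QuotientGroup.mk_pow, QuotientGroup.eq_one_iff]
    exact Cfsg.Agent.Lib.Helper1.IsPGroup.pow_mem_frattini hR x

/-- The commutative group structure on the Frattini quotient of a finite `p`-group. -/
@[reducible] noncomputable def fqCommGroup [Finite R] {p : ℕ} [Fact p.Prime] (hR : IsPGroup p R) :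
    CommGroup (R ⧸ frattini R) :=
  { (inferInstance : Group (R ⧸ frattini R)) with mul_comm := fq_comm hR }

/-- Inner automorphisms act trivially on the Frattini quotient of a finite `p`-group. -/
theorem fqHom_conj [Finite R] {p : ℕ} [Fact p.Prime] (hR : IsPGroup p R) (r : R) :
    fqHom (MulAut.conj r) = 1 := by
  ext y
  induction y using QuotientGroup.induction_on with
  | H x =>
    rw [fqHom_mk]
    show (QuotientGroup.mk (r * x * r⁻¹) : R ⧸ frattini R) = QuotientGroup.mk x
    rw [QuotientGroup.eq]
    have h1 : ⁅r, x⁻¹⁆ ∈ frattini R :=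
      Cfsg.Agent.Lib.Helper1.IsPGroup.commutator_le_frattini hR
        (Subgroup.commutator_mem_commutator (Subgroup.mem_top _) (Subgroup.mem_top _))
    have e : (r * x * r⁻¹)⁻¹ * x = ⁅r, x⁻¹⁆ := by
      rw [commutatorElement_def]
      group
    rw [e]
    exact h1

end FrattiniQuotient

section RestrictAct

variable {G₀ : Type*} [Group G₀] {M : Type*} [Group M]

/-- Restriction of an action by automorphisms to an invariant subgroup. -/
def restrictAct (ρ : G₀ →* MulAut M) (Y : Subgroup M) (hY : ∀ g : G₀, ∀ y ∈ Y, ρ g y ∈ Y) :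
    G₀ →* MulAut Y where
  toFun g :=
    { toFun := fun y => ⟨ρ g y, hY g y y.2⟩
      invFun := fun y => ⟨ρ g⁻¹ y, hY g⁻¹ y y.2⟩
      left_inv := fun y => by
        apply Subtype.ext
        show ρ g⁻¹ (ρ g y) = y
        rw [map_inv]
        exact MulAut.inv_apply_self M (ρ g) y
      right_inv := fun y => by
        apply Subtype.ext
        show ρ g (ρ g⁻¹ y) = y
        rw [map_inv]
        exact MulAut.apply_inv_self M (ρ g) y
      map_mul' := fun a b => by
        apply Subtype.ext
        show ρ g (a * b : M) = ρ g a * ρ g b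
        exact map_mul _ _ _ }
  map_one' := by
    ext y
    show ρ 1 (y : M) = y
    rw [map_one]
    rfl
  map_mul' := fun g h => by
    ext y
    show ρ (g * h) (y : M) = ρ g (ρ h y)
    rw [map_mul]
    rfl

@[simp] theorem restrictAct_apply (ρ : G₀ →* MulAut M) (Y : Subgroup M) (hY : ∀ g : G₀, ∀ y ∈ Y, ρ g y ∈ Y)
    (g : G₀) (y : Y) : ((restrictAct ρ Y hY g y : Y) : M) = ρ g y := rfl

end RestrictAct

section TransferNormal

open Subgroup Subgroup.leftTransversals

variable {G : Type*} [Group G] {H : Subgroup G} {A : Type*} [CommGroup A]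

/-- The transfer into a normal subgroup of finite index, evaluated on an element of that subgroup. -/
theorem transfer_normal [hH : H.Normal] [H.FiniteIndex] [Fintype (G ⧸ H)] (ϕ : H →* A) (h : G) (hh : h ∈ H) :
    MonoidHom.transfer ϕ h =
      ∏ q : G ⧸ H, ϕ ⟨q.out⁻¹ * h * q.out, by
        have := hH.conj_mem h hh q.out⁻¹
        simpa using this⟩ := by
  classical
  let T : H.LeftTransversal :=
    ⟨Set.range (Quotient.out : G ⧸ H → G), isComplement_range_left (fun q => Quotient.out_eq' q)⟩
  have hT : ∀ q : G ⧸ H, ((T.2.leftQuotientEquiv q : T.1) : G) = q.out :=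
    fun q => IsComplement.leftQuotientEquiv_apply (fun q => Quotient.out_eq' q) q
  have hsmul : ∀ q : G ⧸ H, h⁻¹ • q = q := by
    intro q
    induction q using QuotientGroup.induction_on with
    | H x =>
      show (QuotientGroup.mk (h⁻¹ * x) : G ⧸ H) = QuotientGroup.mk x
      rw [QuotientGroup.eq]
      have := hH.conj_mem h hh x⁻¹
      have e : (h⁻¹ * x)⁻¹ * x = x⁻¹ * h * x⁻¹⁻¹ := by group
      rw [e]
      exact this
  rw [MonoidHom.transfer_def ϕ T h]
  unfold diff
  simp only
  refine Finset.prod_congr ?_ ?_
  · ext q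
    simp
  · intro q _
    congr 1
    apply Subtype.ext
    simp only
    rw [smul_apply_eq_smul_apply_inv_smul, hsmul q, hT q, smul_eq_mul, mul_assoc]

end TransferNormal

end Cfsg.Agent.Lib.Helper26
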