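import Mathlib
import Cfsg.Prelude.Def_GeometricClasses
import Cfsg.Agent.Lib.Lead.OEQF

/-!
helper26: OMEGA-EVEN market OE-ROWS (lead, `notes/OmEven_rows_leaves.lean`), Block T: T4' `nd_sup`, T4 `typeOn_sup`,
T8 `typeOn_top_of_dec` (+ local `typeOn_of_isometric26`, `typeOn_bot26`, `perp26`).
-/

set_option autoImplicit false
set_option linter.unusedSectionVars false
set_option linter.unusedVariables false

namespace Cfsg.Agent.Lib.Helper26.OELeaf

open Cfsg Cfsg.Geo Matrix Module QuadraticMap Cfsg.Agent.Lib.Lead.OE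

section generic
variable {ι : Type} [Fintype ι] [DecidableEq ι] {F : Type*} [Field F] [Fintype F]
  (Q : QuadraticForm F (ι → F))

/-- T4' (exact signature of `notes/OmEven_rows_leaves.lean`) -/
theorem nd_sup {A B : Submodule F (ι → F)} (hA : IsNondegenerateOn (polar ⇑Q) A)
    (hB : IsNondegenerateOn (polar ⇑Q) B) (horth : AreOrthogonalFor (polar ⇑Q) A B) :
    IsNondegenerateOn (polar ⇑Q) (A ⊔ B) := by
  have horth' : ∀ b ∈ B, ∀ a ∈ A, polar ⇑Q b a = 0 := by
    intro b hb a ha
    rw [polar_comm]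
    exact horth a ha b hb
  intro w hw hw0
  obtain ⟨a, ha, b, hb, rfl⟩ := Submodule.mem_sup.1 hw
  by_cases ha0 : a = 0
  · have hb0 : b ≠ 0 := by
      rintro rfl
      apply hw0
      rw [ha0, add_zero]
    obtain ⟨⟨x, hx, hxb⟩, ⟨y, hy, hby⟩⟩ := hB b hb hb0
    refine ⟨⟨x, Submodule.mem_sup_right hx, ?_⟩, ⟨y, Submodule.mem_sup_right hy, ?_⟩⟩
    · rw [polar_add_right, horth' x hx a ha, zero_add]
      exact hxb
    · rw [polar_add_left, horth a ha y hy, zero_add]
      exact hby
  · obtain ⟨⟨x, hx, hxa⟩, ⟨y, hy, hay⟩⟩ := hA a ha ha0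
    refine ⟨⟨x, Submodule.mem_sup_left hx, ?_⟩, ⟨y, Submodule.mem_sup_left hy, ?_⟩⟩
    · rw [polar_add_right, horth x hx b hb, add_zero]
      exact hxa
    · rw [polar_add_left, horth' b hb y hy, add_zero]
      exact hay

lemma inf_eq_bot_of_orth26 {A B : Submodule F (ι → F)} (hA : IsNondegenerateOn (polar ⇑Q) A)
    (horth : AreOrthogonalFor (polar ⇑Q) A B) : A ⊓ B = ⊥ := by
  rw [eq_bot_iff]
  intro x hx
  rw [Submodule.mem_bot]
  by_contra hx0
  obtain ⟨⟨y, hy, hyx⟩, -⟩ := hA x hx.1 hx0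
  exact hyx (horth y hy x hx.2)

/-- T4 (exact signature of `notes/OmEven_rows_leaves.lean`) -/
theorem typeOn_sup {A B : Submodule F (ι → F)} (hA : IsNondegenerateOn (polar ⇑Q) A)
    (hB : IsNondegenerateOn (polar ⇑Q) B) (horth : AreOrthogonalFor (polar ⇑Q) A B) {ε ε' : ℤ}
    (hεA : TypeOn Q A ε) (hεB : TypeOn Q B ε') : TypeOn Q (A ⊔ B) (ε * ε') := by
  obtain ⟨m, hm, hTA⟩ := hεA
  obtain ⟨m', hm', hTB⟩ := hεB
  have hinf := inf_eq_bot_of_orth26 Q hA horth
  refine ⟨m + m', ?_, ?_⟩
  · have := Submodule.finrank_sup_add_finrank_inf_eq A B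
    rw [hinf, finrank_bot, hm, hm'] at this
    omega
  · have hprod := hTA.prod hTB
    let φ : A × B → ↥(A ⊔ B) := fun p =>
      ⟨(p.1 : ι → F) + (p.2 : ι → F), Submodule.add_mem _ (Submodule.mem_sup_left p.1.2) (Submodule.mem_sup_right p.2.2)⟩
    have hφ : Function.Bijective φ := by
      constructor
      · rintro ⟨⟨a, ha⟩, ⟨b, hb⟩⟩ ⟨⟨a', ha'⟩, ⟨b', hb'⟩⟩ h
        have h' : a + b = a' + b' := congrArg Subtype.val h
        have hd : a - a' = b' - b := by
          have : a - a' - (b' - b) = (a + b) - (a' + b') := by abel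
          rw [← sub_eq_zero, this, h', sub_self]
        have hmem : a - a' ∈ A ⊓ B := ⟨A.sub_mem ha ha', hd ▸ B.sub_mem hb' hb⟩
        rw [hinf, Submodule.mem_bot] at hmem
        have haa : a = a' := sub_eq_zero.1 hmem
        have hbb : b = b' := by
          rw [hmem] at hd
          exact (sub_eq_zero.1 hd.symm).symm
        subst haa
        subst hbb
        rfl
      · rintro ⟨w, hw⟩
        obtain ⟨a, ha, b, hb, rfl⟩ := Submodule.mem_sup.1 hw
        exact ⟨(⟨a, ha⟩, ⟨b, hb⟩), rfl⟩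
    refine hprod.congr (Equiv.ofBijective φ hφ) ?_
    rintro ⟨⟨a, ha⟩, ⟨b, hb⟩⟩
    show Q (a + b) = Q a + Q b
    have hpol : polar ⇑Q a b = 0 := horth a ha b hb
    unfold polar at hpol
    linear_combination hpol

/-- T5 (local copy): isometric subspaces have the same type -/
theorem typeOn_of_isometric26 {A B : Submodule F (ι → F)} (hiso : AreIsometricFor ⇑Q A B) {ε : ℤ}
    (h : TypeOn Q A ε) : TypeOn Q B ε := by
  obtain ⟨e, he⟩ := hiso
  obtain ⟨m, hm, hT⟩ := h
  refine ⟨m, ?_, hT.congr e.toEquiv he⟩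
  rw [← hm]
  exact e.finrank_eq.symm

/-- the zero subspace has type `+1` -/
theorem typeOn_bot26 : TypeOn Q ⊥ 1 := by
  refine ⟨0, by simp, ?_⟩
  constructor
  · have : Nat.card {v : (⊥ : Submodule F (ι → F)) // Q (v : ι → F) = 0} = 1 := by
      rw [Nat.card_eq_one_iff_unique]
      refine ⟨⟨fun x y => Subtype.ext (Subsingleton.elim _ _)⟩, ⟨⟨0, ?_⟩⟩⟩
      show Q ((0 : (⊥ : Submodule F (ι → F))) : ι → F) = 0
      rw [Submodule.coe_zero, QuadraticMap.map_zero]
    rw [this]
    simp
  · intro c hc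
    have : Nat.card {v : (⊥ : Submodule F (ι → F)) // Q (v : ι → F) = c} = 0 := by
      rw [Nat.card_eq_zero]
      left
      constructor
      rintro ⟨v, hv⟩
      rw [Subsingleton.elim v 0, Submodule.coe_zero, QuadraticMap.map_zero] at hv
      exact hc hv.symm
    rw [this]
    simp

/-- the orthogonal complement for the polar form, as a submodule -/
def perp26 (A : Submodule F (ι → F)) : Submodule F (ι → F) where
  carrier := {v | ∀ u ∈ A, polar ⇑Q u v = 0}
  add_mem' := by
    intro x y hx hy u hu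
    rw [polar_add_right, hx u hu, hy u hu, add_zero]
  zero_mem' := by
    intro u hu
    simp [polar]
  smul_mem' := by
    intro c x hx u hu
    rw [polar_smul_right, hx u hu, smul_zero]

/-- T8 (exact signature of `notes/OmEven_rows_leaves.lean`) -/
theorem typeOn_top_of_dec {t k : ℕ} {D : Fin t → Submodule F (ι → F)}
    (hD : IsOrthogonalMDecomposition ⇑Q k D) (hk : Even k) (i₀ : Fin t) {ε : ℤ}
    (hε : TypeOn Q (D i₀) ε) : TypeOn Q ⊤ (ε ^ t) := by
  classical
  have hall : ∀ i, TypeOn Q (D i) ε := fun i => typeOn_of_isometric26 Q (hD.isometric i₀ i) hε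
  have key : ∀ s : Finset (Fin t), TypeOn Q (⨆ i ∈ s, D i) (ε ^ s.card) ∧
      IsNondegenerateOn (polar ⇑Q) (⨆ i ∈ s, D i) := by
    intro s
    induction s using Finset.induction_on with
    | empty =>
      simp only [Finset.notMem_empty, iSup_false, iSup_bot, Finset.card_empty, pow_zero]
      refine ⟨typeOn_bot26 Q, ?_⟩
      intro w hw hw0
      exact absurd ((Submodule.mem_bot F).1 hw) hw0
    | insert a s ha ih =>
      rw [Finset.iSup_insert, Finset.card_insert_of_notMem ha, pow_succ']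
      have horth : AreOrthogonalFor (polar ⇑Q) (D a) (⨆ i ∈ s, D i) := by
        have hle : (⨆ i ∈ s, D i) ≤ perp26 Q (D a) := by
          apply iSup_le
          intro i
          apply iSup_le
          intro hi
          intro v hv u hu
          have hne : a ≠ i := fun h => ha (h ▸ hi)
          exact hD.decomp.orthogonal a i hne u hu v hv
        intro u hu v hv
        exact hle hv u hu
      exact ⟨typeOn_sup Q (hD.decomp.nondegenerate a) ih.2 horth (hall a) ih.1,
        nd_sup Q (hD.decomp.nondegenerate a) ih.2 horth⟩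
  have h := (key Finset.univ).1
  rw [Finset.card_univ, Fintype.card_fin] at h
  have htop : (⨆ i ∈ (Finset.univ : Finset (Fin t)), D i) = ⊤ := by
    simp only [Finset.mem_univ, iSup_pos]
    exact hD.decomp.decomp.iSup_eq_top
  rw [htop] at h
  exact h

end generic

end Cfsg.Agent.Lib.Helper26.OELeaf
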