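import Mathlib
import Cfsg.Prelude.Def_GeometricClasses
import Cfsg.Agent.Lib.Lead.OEQF
import Cfsg.Agent.Lib.Helper12.OETypeA

/-!
helper26: OMEGA-EVEN market OE-ROWS (lead, `notes/OmEven_rows_leaves.lean`), Block T: T6 `isometric_of_typeOn`
(on helper15's `univ_plus` / `univ_minus` and helper12's `restrictQF`).
-/

set_option autoImplicit false
set_option linter.unusedSectionVars false
set_option linter.unusedVariables false

namespace Cfsg.Agent.Lib.Helper26.OELeaf

open Cfsg Cfsg.Geo Matrix Module QuadraticMap Cfsg.Agent.Lib.Lead.OE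
open Cfsg.Agent.Lib.Helper12.OELeaf (restrictQF restrictQF_apply restrictQF_nondeg)

section generic
variable {ι : Type} [Fintype ι] [DecidableEq ι] {F : Type*} [Field F] [Fintype F]
  (Q : QuadraticForm F (ι → F))

/-- T6 (exact signature of `notes/OmEven_rows_leaves.lean`) -/
theorem isometric_of_typeOn {A B : Submodule F (ι → F)} (hA : IsNondegenerateOn (polar ⇑Q) A)
    (hB : IsNondegenerateOn (polar ⇑Q) B) {ε : ℤ} (hε : ε = 1 ∨ ε = -1) (h : TypeOn Q A ε)
    (h' : TypeOn Q B ε) (hdim : finrank F A = finrank F B) : AreIsometricFor ⇑Q A B := by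
  obtain ⟨m, hm, hTA⟩ := h
  obtain ⟨m', hm', hTB⟩ := h'
  have hmm : m = m' := by omega
  subst hmm
  have hTA' : Cfsg.Agent.Lib.Helper15.QuadType.HasType ε m (⇑(restrictQF Q A)) := hTA
  have hTB' : Cfsg.Agent.Lib.Helper15.QuadType.HasType ε m (⇑(restrictQF Q B)) := hTB
  rcases Nat.eq_zero_or_pos m with rfl | hpos
  · rw [mul_zero] at hm hm'
    have hsA : Subsingleton A := Module.finrank_zero_iff.1 hm
    have hsB : Subsingleton B := Module.finrank_zero_iff.1 hm'
    refine ⟨LinearEquiv.ofSubsingleton A B, ?_⟩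
    intro w
    rw [Subsingleton.elim w 0, Subsingleton.elim (LinearEquiv.ofSubsingleton A B 0) 0]
    rfl
  · rcases hε with rfl | rfl
    · obtain ⟨bA, hbA⟩ := Cfsg.Agent.Lib.Helper15.QuadType.univ_plus (restrictQF Q A) (restrictQF_nondeg Q hA)
        m hpos hm hTA'
      obtain ⟨bB, hbB⟩ := Cfsg.Agent.Lib.Helper15.QuadType.univ_plus (restrictQF Q B) (restrictQF_nondeg Q hB)
        m hpos hm' hTB'
      refine ⟨bA.equivFun.trans bB.equivFun.symm, ?_⟩
      intro w
      have h1 := hbB (bA.equivFun.trans bB.equivFun.symm w)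
      have h2 := hbA w
      rw [restrictQF_apply] at h1 h2
      rw [← h1, ← h2, LinearEquiv.trans_apply, LinearEquiv.apply_symm_apply]
    · obtain ⟨k, rfl⟩ : ∃ k, m = k + 1 := ⟨m - 1, by omega⟩
      obtain ⟨a, c, hac⟩ := Cfsg.Agent.Lib.Helper15.QuadType.exists_aniso (F := F)
      obtain ⟨bA, hbA⟩ := Cfsg.Agent.Lib.Helper15.QuadType.univ_minus (restrictQF Q A) (restrictQF_nondeg Q hA)
        k hm hTA' hac
      obtain ⟨bB, hbB⟩ := Cfsg.Agent.Lib.Helper15.QuadType.univ_minus (restrictQF Q B) (restrictQF_nondeg Q hB)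
        k hm' hTB' hac
      refine ⟨bA.equivFun.trans bB.equivFun.symm, ?_⟩
      intro w
      have h1 := hbB (bA.equivFun.trans bB.equivFun.symm w)
      have h2 := hbA w
      rw [restrictQF_apply] at h1 h2
      rw [← h1, ← h2, LinearEquiv.trans_apply, LinearEquiv.apply_symm_apply]

end generic

end Cfsg.Agent.Lib.Helper26.OELeaf
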