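import Cfsg.Agent.Lib.Helper26.FSSubsystem

/-!
`foc(F) = hyp(F) [S, S]` for saturated `F` (S5092).
-/

set_option autoImplicit false

namespace Cfsg.Agent.Lib.Helper26

open Cfsg Cfsg.FusionSystem
open scoped commutatorElement

variable {Ω : Type*} [Group Ω] {S : Subgroup Ω}

theorem mem_hyperfocal_of (F : FusionSystem S) (p : ℕ) {P : Subgroup Ω} (hP : P ≤ S) (α : F.autGroup P)
    (hα : α ∈ pResidual p (F.autGroup P)) (x : P) :
    (x : Ω)⁻¹ * ((α : MulAut P) x : P) ∈ F.hyperfocalSubgroup p :=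
  Subgroup.subset_closure ⟨P, α, x, hP, hα, rfl⟩

theorem mem_focal_of (F : FusionSystem S) {P : Subgroup Ω} {φ : P →* Ω} (hφ : φ ∈ F.Hom P) (x : P) :
    (x : Ω)⁻¹ * φ x ∈ F.focalSubgroup :=
  Subgroup.subset_closure ⟨P, φ, x, hφ, rfl⟩

/-- The predicate "`x⁻¹ φ(x) ∈ H` for all `x`" for a subgroup `H ≥ [S,S]`. -/
def focalPred (F : FusionSystem S) (H : Subgroup Ω) (hH : ⁅S, S⁆ ≤ H) : HomPred F where
  C P φ := ∀ x : P, (x : Ω)⁻¹ * φ x ∈ H
  conj := by
    intro P g hP hg x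
    apply hH
    have : (x : Ω)⁻¹ * conjHom P g x = ⁅(x : Ω)⁻¹, g⁆ := by
      rw [conjHom_apply, commutatorElement_def]
      simp [mul_assoc]
    rw [this]
    exact Subgroup.commutator_mem_commutator (S.inv_mem (hP x.2)) hg
  comp := by
    intro P Q φ ψ _ _ hφ hψ h x
    have h1 := hφ x
    have h2 := hψ ⟨φ x, h x⟩
    have : (x : Ω)⁻¹ * (ψ.comp (φ.codRestrict Q h)) x = ((x : Ω)⁻¹ * φ x) * ((φ x)⁻¹ * ψ ⟨φ x, h x⟩) := by
      simp [mul_assoc]
    rw [this]
    exact H.mul_mem h1 h2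
  inv := by
    intro P φ _ hφ ψ _ hψx
    rintro ⟨_, x, rfl⟩
    have h1 := hφ x
    have h2 : ψ ⟨φ x, ⟨x, rfl⟩⟩ = (x : Ω) := hψx x
    show (φ x)⁻¹ * ψ ⟨φ x, _⟩ ∈ H
    rw [h2]
    have := H.inv_mem h1
    simpa using this

theorem focal_eq [Finite S] {p : ℕ} [Fact p.Prime] (hS : IsPGroup p S) (F : FusionSystem S)
    (hF : F.IsSaturated p) :
    F.focalSubgroup = F.hyperfocalSubgroup p ⊔ ⁅(S : Subgroup Ω), (S : Subgroup Ω)⁆ := by
  apply le_antisymm
  · -- `foc ≤ hyp [S,S]` by Alperin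
    set H := F.hyperfocalSubgroup p ⊔ ⁅(S : Subgroup Ω), (S : Subgroup Ω)⁆ with hH
    have key := (focalPred F H le_sup_right).forall_of_aut hS hF ?_
    · unfold focalSubgroup
      rw [Subgroup.closure_le]
      rintro _ ⟨P, φ, x, hφ, rfl⟩
      exact key P φ hφ x
    · intro P hP α hα x
      have hPn : F.IsFullyNormalized P := by
        rcases hP with rfl | hP
        · exact top_fullyNormalized F
        · exact hP.2.1
      have hPS : P ≤ S := hPn.1
      obtain ⟨β, hβ, s, hsS, hsN, hαβ⟩ := exists_mul_pResidual_autS hS F hF hPn ⟨α, hα⟩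
      show (x : Ω)⁻¹ * ((α x : P) : Ω) ∈ H
      have hα' : α = (β : MulAut P) * P.normalizerMonoidHom ⟨s, hsN⟩ := hαβ
      set y : P := P.normalizerMonoidHom ⟨s, hsN⟩ x with hy
      have hyv : (y : Ω) = s * x * s⁻¹ := rfl
      have h1 : (x : Ω)⁻¹ * (y : Ω) ∈ H := by
        apply Subgroup.mem_sup_right
        have : (x : Ω)⁻¹ * (y : Ω) = ⁅(x : Ω)⁻¹, s⁆ := by
          rw [hyv, commutatorElement_def]
          simp [mul_assoc]
        rw [this]
        exact Subgroup.commutator_mem_commutator (S.inv_mem (hPS x.2)) hsS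
      have h2 : (y : Ω)⁻¹ * (((β : MulAut P) y : P) : Ω) ∈ H :=
        Subgroup.mem_sup_left (mem_hyperfocal_of F p hPS β hβ y)
      have : (x : Ω)⁻¹ * ((α x : P) : Ω) = ((x : Ω)⁻¹ * (y : Ω)) * ((y : Ω)⁻¹ * (((β : MulAut P) y : P) : Ω)) := by
        rw [hα', MulAut.mul_apply, ← hy]
        simp [mul_assoc]
      rw [this]
      exact H.mul_mem h1 h2
  · apply sup_le
    · unfold hyperfocalSubgroup
      rw [Subgroup.closure_le]
      rintro _ ⟨P, α, x, hP, -, rfl⟩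
      exact mem_focal_of F ((mem_autGroup_iff F hP _).mp α.2) x
    · rw [Subgroup.commutator_le]
      intro a ha b hb
      have := mem_focal_of F (F.conj_mem (le_refl S) hb) ⟨a⁻¹, S.inv_mem ha⟩
      have e : ((⟨a⁻¹, S.inv_mem ha⟩ : S) : Ω)⁻¹ * conjHom S b ⟨a⁻¹, S.inv_mem ha⟩ = ⁅a, b⁆ := by
        rw [conjHom_apply, commutatorElement_def]
        simp [mul_assoc]
      rw [e] at this
      exact this

end Cfsg.Agent.Lib.Helper26
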