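import Cfsg.Agent.Lib.Helper26.FSSatEquiv
set_option autoImplicit false

/-!
Alperin's fusion theorem (helper26's library).
-/

namespace Cfsg.Agent.Lib.Helper26

open Cfsg Cfsg.FusionSystem

variable {Ω : Type*} [Group Ω] {S : Subgroup Ω}

/-- Normalizers grow: a proper subgroup of the finite `p`-group `S` is properly contained in its normalizer in `S`. -/
theorem exists_mem_normalizerIn_not_mem [Finite S] {p : ℕ} [Fact p.Prime] (hS : IsPGroup p S) {P : Subgroup Ω}
    (hP : P ≤ S) (hne : P ≠ S) : ∃ g ∈ normalizerIn S P, g ∉ P := by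
  have : Group.IsNilpotent S := hS.isNilpotent
  have hlt : P.subgroupOf S < ⊤ := by
    rw [lt_top_iff_ne_top]
    intro h
    apply hne
    apply le_antisymm hP
    intro x hx
    have : (⟨x, hx⟩ : S) ∈ P.subgroupOf S := by rw [h]; trivial
    exact this
  have hnc := Group.normalizerCondition_of_isNilpotent (G := S) _ hlt
  obtain ⟨x, hxN, hxP⟩ := SetLike.exists_of_lt hnc
  have hxN' : (x : Ω) ∈ Subgroup.normalizer (P : Set Ω) := ?_
  · exact ⟨x, ⟨x.2, hxN'⟩, hxP⟩
  rw [Subgroup.mem_normalizer_iff] at hxN ⊢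
  intro y
  constructor
  · intro hy
    have := (hxN ⟨y, hP hy⟩).mp hy
    exact this
  · intro hy
    have hyS : y ∈ S := by
      have h1 : (x : Ω)⁻¹ * ((x : Ω) * y * (x : Ω)⁻¹) * (x : Ω) ∈ S :=
        S.mul_mem (S.mul_mem (S.inv_mem x.2) (hP hy)) x.2
      simpa [mul_assoc] using h1
    exact (hxN ⟨y, hyS⟩).mpr hy

/-- In a centric subgroup, an element of `N_S(P)` inducing an inner automorphism of `P` lies in `P`. -/
theorem mem_of_normalizerMonoidHom_mem_inn (F : FusionSystem S) {P : Subgroup Ω} (hc : F.IsCentric P) {g : Ω}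
    (hgS : g ∈ S) (hgN : g ∈ Subgroup.normalizer (P : Set Ω)) (h : P.normalizerMonoidHom ⟨g, hgN⟩ ∈ Inn P) :
    g ∈ P := by
  obtain ⟨y, hy⟩ := h
  have hcent : (y : Ω)⁻¹ * g ∈ centralizerIn S P := by
    rw [mem_centralizerIn_iff]
    refine ⟨S.mul_mem (S.inv_mem (hc.1 y.2)) hgS, fun x hx => ?_⟩
    have := congrArg (fun α : MulAut P => ((α ⟨x, hx⟩ : P) : Ω)) hy
    simp only [MulAut.conj_apply] at this
    have h2 : (y : Ω) * x * (y : Ω)⁻¹ = g * x * g⁻¹ := this
    calc x * ((y : Ω)⁻¹ * g) = (y : Ω)⁻¹ * ((y : Ω) * x * (y : Ω)⁻¹) * g := by group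
      _ = (y : Ω)⁻¹ * (g * x * g⁻¹) * g := by rw [h2]
      _ = (y : Ω)⁻¹ * g * x := by group
  have h3 := hc.2 P (isConj_refl F hc.1) hcent
  have : g = (y : Ω) * ((y : Ω)⁻¹ * g) := by group
  rw [this]
  exact P.mul_mem y.2 h3

/-- If `α ∈ Aut_F(P)` (with `P` receptive) has an extender strictly larger than `P`, and all maps of `F` on
subgroups larger than `P` are maps of `E`, then `α ∈ Aut_E(P)`. -/
theorem mem_autGroup_of_extender [Finite S] (F E : FusionSystem S) {P : Subgroup Ω} (hRec : F.IsReceptive P)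
    (IH : ∀ R : Subgroup Ω, R ≤ S → Nat.card P < Nat.card R → F.Hom R ⊆ E.Hom R)
    {α : MulAut P} (hα : α ∈ F.autGroup P) {g : Ω} (hg : g ∈ extender S P (equivHom (α : P ≃* P)))
    (hgP : g ∉ P) : α ∈ E.autGroup P := by
  have hPS : P ≤ S := hRec.1
  have hαF : equivHom (α : P ≃* P) ∈ F.Hom P := (mem_autGroup_iff F hPS α).mp hα
  obtain ⟨ψ, hψ, hψα⟩ := hRec.2 P (equivHom (α : P ≃* P)) hαF (equivHom_range _)
  have hPN : P ≤ extender S P (equivHom (α : P ≃* P)) := le_extender hPS _ (hom_apply_mem F hαF)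
  have hNS : extender S P (equivHom (α : P ≃* P)) ≤ S := (extender_le S P _).trans (normalizerIn_le S P)
  have hfin : Finite ↥(extender S P (equivHom (α : P ≃* P))) := finite_of_le hNS
  have hlt : Nat.card P < Nat.card ↥(extender S P (equivHom (α : P ≃* P))) := by
    have hle := Subgroup.card_le_of_le hPN
    rcases hle.lt_or_eq with h | h
    · exact h
    · exfalso
      have := Subgroup.eq_of_le_of_card_ge hPN h.ge
      rw [this] at hgP
      exact hgP hg
  have hψE := IH _ hNS hlt hψ
  have hres := inclusion_comp_mem E hPN hψE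
  rw [mem_autGroup_iff E hPS]
  have : P.subtype.comp (α : P ≃* P).toMonoidHom = ψ.comp (Subgroup.inclusion hPN) := by
    ext x
    exact (hψα x x.2 (hPN x.2)).symm
  rw [this]
  exact hres

theorem prankLE_zero_of_eq_bot {X : Type*} [Group X] {p : ℕ} {U : Subgroup X} (h : U = ⊥) : PRankLE p 0 U := by
  subst h
  intro A _ _
  rw [pow_zero]
  have : Subsingleton (⊥ : Subgroup X) := inferInstance
  have : Subsingleton ↥A := by
    constructor
    intro a b
    apply Subtype.ext
    exact Subsingleton.elim (a : (⊥ : Subgroup X)) b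
  exact le_of_eq Nat.card_unique

/-- The key step of Alperin's theorem: for a fully normalized centric non-essential proper subgroup `P`, if all
maps of `F` on larger subgroups belong to `E` then `Aut_F(P) ≤ Aut_E(P)`. -/
theorem autGroup_le_of_not_essential [Finite S] {p : ℕ} [Fact p.Prime] (hS : IsPGroup p S) (F : FusionSystem S)
    (hF : F.IsSaturated p) (E : FusionSystem S) {P : Subgroup Ω} (hFN : F.IsFullyNormalized P)
    (hcen : F.IsCentric P) (hne : P ≠ S) (hness : ¬ F.IsEssential p P)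
    (IH : ∀ R : Subgroup Ω, R ≤ S → Nat.card P < Nat.card R → F.Hom R ⊆ E.Hom R) :
    F.autGroup P ≤ E.autGroup P := by
  have hPS : P ≤ S := hFN.1
  have hRec := saturated_fn_receptive hS F hF hFN
  obtain ⟨-, R, hR⟩ := (saturated_fn hS F hF hFN).2
  have hfinP : Finite P := finite_of_le hPS
  have hI : ((Inn P).subgroupOf (F.autGroup P)).Normal := inferInstance
  let π := QuotientGroup.mk' ((Inn P).subgroupOf (F.autGroup P))
  have hπ : Function.Surjective π := QuotientGroup.mk'_surjective _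
  let T : Sylow p (↥(F.autGroup P) ⧸ (Inn P).subgroupOf (F.autGroup P)) := R.mapSurjective hπ
  have hT : T.toSubgroup = R.toSubgroup.map π := rfl
  -- description of elements of `R`
  have hRmem : ∀ β : ↥(F.autGroup P), β ∈ (R : Subgroup ↥(F.autGroup P)) →
      ∃ (g : Ω) (hgS : g ∈ S) (hgN : g ∈ Subgroup.normalizer (P : Set Ω)),
        (β : MulAut P) = P.normalizerMonoidHom ⟨g, hgN⟩ := by
    intro β hβ
    rw [hR, Subgroup.mem_subgroupOf] at hβ
    obtain ⟨g, hgS, hgN, h⟩ := (mem_autInducedBy_iff' S P _).mp hβ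
    exact ⟨g, hgS, hgN, h⟩
  -- the subgroup of `Aut_F(P)` of elements lying in `Aut_E(P)`
  let H' : Subgroup ↥(F.autGroup P) := (E.autGroup P).subgroupOf (F.autGroup P)
  have hIH' : (Inn P).subgroupOf (F.autGroup P) ≤ H' := by
    intro α hα
    exact inn_le_autGroup E hPS hα
  have key : ∀ U : Subgroup (↥(F.autGroup P) ⧸ (Inn P).subgroupOf (F.autGroup P)), U ≤ T → U ≠ ⊥ →
      Subgroup.normalizer (U : Set _) ≤ H'.map π := by
    intro U hUT hU xbar hxbar
    obtain ⟨α, rfl⟩ := hπ xbar
    obtain ⟨ubar, hubar1⟩ := (Subgroup.ne_bot_iff_exists_ne_one).mp hU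
    have hubar' : (ubar : _ ⧸ _) ∈ U := ubar.2
    have hubar1' : (ubar : ↥(F.autGroup P) ⧸ (Inn P).subgroupOf (F.autGroup P)) ≠ 1 := by
      intro h; apply hubar1; exact Subtype.ext h
    have h1 : (ubar : _ ⧸ _) ∈ T.toSubgroup := hUT hubar'
    rw [hT] at h1
    obtain ⟨β, hβR, hβ⟩ := h1
    have h2 : π α * ubar * (π α)⁻¹ ∈ T.toSubgroup := hUT ((Subgroup.mem_normalizer_iff.mp hxbar _).mp hubar')
    rw [hT] at h2
    obtain ⟨γ, hγR, hγ⟩ := h2
    obtain ⟨g, hgS, hgN, hβg⟩ := hRmem β hβR
    obtain ⟨h, hhS, hhN, hγh⟩ := hRmem γ hγR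
    -- `γ⁻¹ * (α β α⁻¹)` is inner
    have h3 : γ⁻¹ * (α * β * α⁻¹) ∈ (Inn P).subgroupOf (F.autGroup P) := by
      rw [← QuotientGroup.eq]
      show π γ = π (α * β * α⁻¹)
      rw [hγ, map_mul, map_mul, map_inv, hβ]
    obtain ⟨y, hy⟩ := h3
    -- `g` lies in the extender of `α`
    have hgext : g ∈ extender S P (equivHom ((α : MulAut P) : P ≃* P)) := by
      rw [mem_extender_iff]
      refine ⟨hgS, hgN, h * y, S.mul_mem hhS (hPS y.2), fun x hx => ?_⟩
      have h4 : (α : MulAut P) * (β : MulAut P) * (α : MulAut P)⁻¹ = (γ : MulAut P) * MulAut.conj y := by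
        have : ((γ⁻¹ * (α * β * α⁻¹) : ↥(F.autGroup P)) : MulAut P) = MulAut.conj y := hy.symm
        have h5 : ((γ⁻¹ * (α * β * α⁻¹) : ↥(F.autGroup P)) : MulAut P) =
            (γ : MulAut P)⁻¹ * ((α : MulAut P) * (β : MulAut P) * (α : MulAut P)⁻¹) := rfl
        rw [h5] at this
        rw [← this]
        group
      have h6 := congrArg (fun θ : MulAut P => ((θ ((α : MulAut P) x) : P) : Ω)) h4
      simp only [MulAut.mul_apply, MulAut.inv_apply_self, MulAut.conj_apply] at h6
      rw [hβg, hγh] at h6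
      show (((α : MulAut P) ⟨g * x * g⁻¹, hx⟩ : P) : Ω) = h * y * (((α : MulAut P) x : P) : Ω) * (h * y)⁻¹
      have h7 : (P.normalizerMonoidHom ⟨g, hgN⟩) x = ⟨g * x * g⁻¹, hx⟩ := Subtype.ext rfl
      rw [h7] at h6
      rw [h6]
      show h * ((y : Ω) * (((α : MulAut P) x : P) : Ω) * (y : Ω)⁻¹) * h⁻¹ = _
      group
    have hgP : g ∉ P := by
      intro hgP
      apply hubar1'
      rw [← hβ]
      show π β = 1
      rw [QuotientGroup.mk'_apply, QuotientGroup.eq_one_iff, Subgroup.mem_subgroupOf, hβg]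
      exact ⟨⟨g, hgP⟩, by ext x; rfl⟩
    have hαE : (α : MulAut P) ∈ E.autGroup P := mem_autGroup_of_extender F E hRec IH α.2 hgext hgP
    exact ⟨α, hαE, rfl⟩
  have hΓ : kGeneratedCore p 1 T.toSubgroup ≤ H'.map π := by
    unfold kGeneratedCore
    apply iSup_le
    rintro ⟨Q, hQT, hQr⟩
    apply key Q hQT
    intro hQ
    exact hQr (prankLE_zero_of_eq_bot hQ)
  -- `p` divides the order of `Out_F(P)`
  have hpdvd : p ∣ Nat.card (↥(F.autGroup P) ⧸ (Inn P).subgroupOf (F.autGroup P)) := by
    obtain ⟨g, hgN, hgP⟩ := exists_mem_normalizerIn_not_mem hS hPS hne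
    have hgS : g ∈ S := normalizerIn_le S P hgN
    have hgN' : g ∈ Subgroup.normalizer (P : Set Ω) := hgN.2
    have hβF : P.normalizerMonoidHom ⟨g, hgN'⟩ ∈ F.autGroup P :=
      autInducedBy_le_autGroup F hPS (normalizerMonoidHom_mem_autInducedBy hgS hgN')
    have hβR : (⟨_, hβF⟩ : ↥(F.autGroup P)) ∈ (R : Subgroup _) := by
      rw [hR, Subgroup.mem_subgroupOf]
      exact normalizerMonoidHom_mem_autInducedBy hgS hgN'
    have hβT : π ⟨_, hβF⟩ ∈ T.toSubgroup := by rw [hT]; exact ⟨_, hβR, rfl⟩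
    have hβ1 : π ⟨_, hβF⟩ ≠ 1 := by
      intro h
      rw [QuotientGroup.mk'_apply, QuotientGroup.eq_one_iff, Subgroup.mem_subgroupOf] at h
      exact hgP (mem_of_normalizerMonoidHom_mem_inn F hcen hgS hgN' h)
    have hTne : T.toSubgroup ≠ ⊥ := by
      intro h
      rw [h, Subgroup.mem_bot] at hβT
      exact hβ1 hβT
    have hTcard : p ∣ Nat.card T.toSubgroup := by
      obtain ⟨n, hn⟩ := IsPGroup.iff_card.mp T.isPGroup'
      have hn0 : n ≠ 0 := by
        rintro rfl
        rw [pow_zero] at hn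
        exact hTne ((Subgroup.card_eq_one).mp hn)
      rw [hn]
      exact dvd_pow_self p hn0
    exact hTcard.trans (Subgroup.card_subgroup_dvd_card _)
  have htop : kGeneratedCore p 1 T.toSubgroup = ⊤ := by
    by_contra h
    exact hness ⟨hcen, hFN, hI, kGeneratedCore p 1 T.toSubgroup, hpdvd, h, T, le_rfl⟩
  have hmap : H'.map π = ⊤ := top_le_iff.mp (htop ▸ hΓ)
  intro α hα
  have h1 : π ⟨α, hα⟩ ∈ H'.map π := by rw [hmap]; trivial
  obtain ⟨η, hηH, hη⟩ := h1
  have h2 : η⁻¹ * ⟨α, hα⟩ ∈ (Inn P).subgroupOf (F.autGroup P) := by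
    rw [← QuotientGroup.eq]
    exact hη
  have h3 : (⟨α, hα⟩ : ↥(F.autGroup P)) ∈ H' := by
    have := H'.mul_mem hηH (hIH' h2)
    simpa using this
  exact h3

theorem card_lt_card_normalizerIn [Finite S] {p : ℕ} [Fact p.Prime] (hS : IsPGroup p S) {P : Subgroup Ω}
    (hP : P ≤ S) (hne : P ≠ S) : Nat.card P < Nat.card (normalizerIn S P) := by
  obtain ⟨g, hgN, hgP⟩ := exists_mem_normalizerIn_not_mem hS hP hne
  have hfin : Finite ↥(normalizerIn S P) := finite_of_le (normalizerIn_le S P)
  have hle := Subgroup.card_le_of_le (le_normalizerIn hP)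
  rcases hle.lt_or_eq with h | h
  · exact h
  · exfalso
    have := Subgroup.eq_of_le_of_card_ge (le_normalizerIn hP) h.ge
    rw [this] at hgP
    exact hgP hgN

/-- **Alperin–Goldschmidt fusion theorem.** -/
theorem alperin [Finite S] {p : ℕ} [Fact p.Prime] (hS : IsPGroup p S) (F : FusionSystem S)
    (hF : F.IsSaturated p) (E : FusionSystem S)
    (hE : ∀ P : Subgroup Ω, (P = S ∨ F.IsEssential p P) → F.autGroup P ≤ E.autGroup P) :
    ∀ P : Subgroup Ω, F.Hom P ⊆ E.Hom P := by
  have main : ∀ d : ℕ, ∀ P : Subgroup Ω, P ≤ S → Nat.card S - Nat.card P = d → F.Hom P ⊆ E.Hom P := by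
    intro d
    induction d using Nat.strong_induction_on with
    | _ d ih =>
      intro P hP hd φ hφ
      have IH : ∀ R : Subgroup Ω, R ≤ S → Nat.card P < Nat.card R → F.Hom R ⊆ E.Hom R := by
        intro R hR hlt
        have hRS : Nat.card R ≤ Nat.card S := Subgroup.card_le_of_le hR
        exact ih (Nat.card S - Nat.card R) (by omega) R hR rfl
      have hfinP : Finite P := finite_of_le hP
      by_cases hPS : P = S
      · subst hPS
        have hr : φ.range = P := by
          apply Subgroup.eq_of_le_of_card_ge (range_le F hφ)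
          rw [Nat.card_congr (MonoidHom.ofInjective (F.injective_of_mem hφ)).toEquiv]
        have hα : (homEquiv F hφ hr : MulAut P) ∈ F.autGroup P := by
          rw [mem_autGroup_iff_isFIso F le_rfl]
          exact homEquiv_isFIso F hφ hr
        have hαE := hE P (Or.inl rfl) hα
        rw [mem_autGroup_iff_isFIso E le_rfl] at hαE
        have : equivHom (homEquiv F hφ hr) = φ := equivHom_homEquiv F hφ hr
        rw [← this]
        exact hαE
      · -- automorphism groups of fully normalized subgroups of the same order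
        have hAut : ∀ Pst : Subgroup Ω, F.IsFullyNormalized Pst → Nat.card Pst = Nat.card P →
            F.autGroup Pst ≤ E.autGroup Pst := by
          intro Pst hFN hcard
          have hne : Pst ≠ S := by
            rintro rfl
            exact hPS (Subgroup.eq_of_le_of_card_ge hP hcard.le)
          have IH' : ∀ R : Subgroup Ω, R ≤ S → Nat.card Pst < Nat.card R → F.Hom R ⊆ E.Hom R := by
            intro R hR hlt
            exact IH R hR (hcard ▸ hlt)
          by_cases hess : F.IsEssential p Pst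
          · exact hE Pst (Or.inr hess)
          by_cases hcen : F.IsCentric Pst
          · exact autGroup_le_of_not_essential hS F hF E hFN hcen hne hess IH'
          · have hFC := (saturated_fn hS F hF hFN).1
            have hRec := saturated_fn_receptive hS F hF hFN
            have hnle : ¬ centralizerIn S Pst ≤ Pst := fun h => hcen (centric_of_fullyCentralized F Pst hFC h)
            obtain ⟨c, hc, hcP⟩ := SetLike.not_le_iff_exists.mp hnle
            intro α hα
            exact mem_autGroup_of_extender F E hRec IH' hα (centralizerIn_le_extender Pst _ hc) hcP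
        obtain ⟨Pst, hPPst, hFN⟩ := exists_fullyNormalized_conj F hP
        have hFA := (saturated_fn hS F hF hFN).2
        have hRec := saturated_fn_receptive hS F hF hFN
        have hPQ : F.IsConj P φ.range := ⟨φ, hφ, rfl⟩
        have hQS : φ.range ≤ S := range_le F hφ
        have hQPst : F.IsConj φ.range Pst := isConj_trans F (isConj_symm F hPQ) hPPst
        obtain ⟨χ₁, hχ₁, hv₁, hm₁⟩ := exists_normalizer_hom hS F hFA hRec hPPst
        obtain ⟨χ₂, hχ₂, hv₂, hm₂⟩ := exists_normalizer_hom hS F hFA hRec hQPst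
        let D₁ : NormHom F P Pst := ⟨χ₁, hχ₁, hv₁, hm₁, hP⟩
        let D₂ : NormHom F φ.range Pst := ⟨χ₂, hχ₂, hv₂, hm₂, hQS⟩
        let eφ : P ≃* φ.range := homEquiv F hφ rfl
        have hcardQ : Nat.card φ.range = Nat.card P := (Nat.card_congr eφ.toEquiv).symm
        have hQne : φ.range ≠ S := by
          intro h
          apply hPS
          apply Subgroup.eq_of_le_of_card_ge hP
          rw [← hcardQ, h]
        have hχ₁E : χ₁ ∈ E.Hom (normalizerIn S P) :=
          IH _ (normalizerIn_le S P) (card_lt_card_normalizerIn hS hP hPS) hχ₁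
        have hχ₂E : χ₂ ∈ E.Hom (normalizerIn S φ.range) :=
          IH _ (normalizerIn_le S _) (hcardQ ▸ card_lt_card_normalizerIn hS hQS hQne) hχ₂
        have he₁F : IsFIso F D₁.e := D₁.e_isFIso
        have he₂F : IsFIso F D₂.e := D₂.e_isFIso
        have he₁E : IsFIso E D₁.e := inclusion_comp_mem E (le_normalizerIn hP) hχ₁E
        have he₂E : IsFIso E D₂.e := inclusion_comp_mem E (le_normalizerIn hQS) hχ₂E
        have heφF : IsFIso F eφ := homEquiv_isFIso F hφ rfl
        let α : MulAut Pst := D₁.e.symm.trans (eφ.trans D₂.e)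
        have hαF : α ∈ F.autGroup Pst := by
          rw [mem_autGroup_iff_isFIso F hFN.1]
          exact he₁F.symm.trans (heφF.trans he₂F)
        have hcardPst : Nat.card Pst = Nat.card P := (Nat.card_congr D₁.e.toEquiv).symm
        have hαE : IsFIso E (α : Pst ≃* Pst) :=
          (mem_autGroup_iff_isFIso E hFN.1 α).mp (hAut Pst hFN hcardPst hαF)
        have heq : eφ = D₁.e.trans ((α : Pst ≃* Pst).trans D₂.e.symm) := by
          ext x
          simp [α]
        have heφE : IsFIso E eφ := by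
          rw [heq]
          exact he₁E.trans (hαE.trans he₂E.symm)
        have : equivHom eφ = φ := equivHom_homEquiv F hφ rfl
        rw [← this]
        exact heφE
  intro P φ hφ
  exact main _ P (hom_le F hφ) rfl hφ

end Cfsg.Agent.Lib.Helper26
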