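import Cfsg.Agent.Lib.Helper26.FSAlperin
set_option autoImplicit false

/-!
Criteria for normal / central subgroups via Alperin's theorem (helper26's library).
-/

namespace Cfsg.Agent.Lib.Helper26

open Cfsg Cfsg.FusionSystem

variable {Ω : Type*} [Group Ω] {S : Subgroup Ω}

theorem fusionSystem_ext {F E : FusionSystem S} (h : ∀ P : Subgroup Ω, F.Hom P = E.Hom P) : F = E := by
  cases F; cases E
  simp only [FusionSystem.mk.injEq]
  funext P
  exact h P

/-- Transport of a fusion system along an equality of the underlying subgroups. -/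
def castSystem {T : Subgroup Ω} (h : T = S) (E : FusionSystem T) : FusionSystem S := h ▸ E

theorem castSystem_hom {T : Subgroup Ω} (h : T = S) (E : FusionSystem T) (P : Subgroup Ω) :
    (castSystem h E).Hom P = E.Hom P := by
  subst h; rfl

theorem normalizerIn_self (S : Subgroup Ω) : normalizerIn S S = S :=
  le_antisymm inf_le_left (fun _ hx => ⟨hx, Subgroup.le_normalizer hx⟩)

theorem top_fullyNormalized [Finite S] (F : FusionSystem S) : F.IsFullyNormalized S := by
  refine ⟨le_rfl, fun Q _ => ?_⟩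
  rw [normalizerIn_self]
  exact Subgroup.card_le_of_le (normalizerIn_le S Q)

theorem normalizerIn_eq_of_le_normalizer {Q : Subgroup Ω} (h : S ≤ Subgroup.normalizer (Q : Set Ω)) :
    normalizerIn S Q = S := le_antisymm inf_le_left (le_inf le_rfl h)

/-- A subgroup normal in the system is strongly closed. -/
theorem stronglyClosed_of_isNormal (F : FusionSystem S) {Q : Subgroup Ω} (hQ : F.IsNormal Q) :
    F.StronglyClosed Q := by
  refine ⟨hQ.1, fun R hRQ φ hφ x => ?_⟩
  obtain ⟨ψ, hψ, hψφ, hψQ⟩ := hQ.2 R φ hφ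
  rw [← hψφ x]
  have := ((map_subgroupOf_eq_iff ψ).mp hψQ).1 (Subgroup.inclusion le_sup_left x) (hRQ x.2)
  exact this

/-- An automorphism in `Aut_F(P)` maps a strongly closed subgroup `Q ≤ P` onto itself. -/
theorem map_aut_eq_of_stronglyClosed [Finite S] (F : FusionSystem S) {Q P : Subgroup Ω}
    (hQ : F.StronglyClosed Q) (hPS : P ≤ S) {α : MulAut P} (hα : α ∈ F.autGroup P) :
    (Q.subgroupOf P).map α.toMonoidHom = Q.subgroupOf P := by
  have hfin : Finite P := finite_of_le hPS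
  have hle : ∀ β : MulAut P, β ∈ F.autGroup P → (Q.subgroupOf P).map β.toMonoidHom ≤ Q.subgroupOf P := by
    intro β hβ
    rintro _ ⟨y, hy, rfl⟩
    rw [Subgroup.mem_subgroupOf]
    have hβF := (mem_autGroup_iff F hPS β).mp hβ
    -- restrict to `Q ⊓ P`
    have hres := inclusion_comp_mem F (inf_le_right : Q ⊓ P ≤ P) hβF
    have := hQ.2 (Q ⊓ P) inf_le_left _ hres ⟨y, hy, y.2⟩
    exact this
  apply le_antisymm (hle α hα)
  intro y hy
  have h1 := hle α⁻¹ ((F.autGroup P).inv_mem hα) ⟨y, hy, rfl⟩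
  exact ⟨α⁻¹ y, h1, by simp⟩

/-- **Normality criterion (Alperin form).** -/
theorem isNormal_of_forall_aut [Finite S] {p : ℕ} [Fact p.Prime] (hS : IsPGroup p S) (F : FusionSystem S)
    (hF : F.IsSaturated p) (Q : Subgroup Ω)
    (h : ∀ P : Subgroup Ω, (P = S ∨ F.IsEssential p P) →
      (Q ≤ P ∧ ∀ α ∈ F.autGroup P, (Q.subgroupOf P).map α.toMonoidHom = Q.subgroupOf P)) :
    F.IsNormal Q := by
  have hQS : Q ≤ S := (h S (Or.inl rfl)).1
  -- `Q` is normal in `S`
  have hQn : S ≤ Subgroup.normalizer (Q : Set Ω) := by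
    intro s hs
    have hα : (MulAut.conj (⟨s, hs⟩ : S)) ∈ F.autGroup S :=
      inn_le_autGroup F le_rfl ⟨⟨s, hs⟩, rfl⟩
    have key : ∀ t (ht : t ∈ S), ∀ y ∈ Q, t * y * t⁻¹ ∈ Q := by
      intro t ht y hy
      have hα : (MulAut.conj (⟨t, ht⟩ : S)) ∈ F.autGroup S := inn_le_autGroup F le_rfl ⟨⟨t, ht⟩, rfl⟩
      have h1 := (h S (Or.inl rfl)).2 _ hα
      have h2 : (MulAut.conj (⟨t, ht⟩ : S)) ⟨y, hQS hy⟩ ∈ (Q.subgroupOf S).map (MulAut.conj (⟨t, ht⟩ : S)).toMonoidHom :=
        ⟨⟨y, hQS hy⟩, hy, rfl⟩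
      rw [h1] at h2
      exact h2
    apply mem_normalizer_of_conj_mem (key s hs)
    intro y hy
    have := key s⁻¹ (S.inv_mem hs) y hy
    simpa using this
  have hN : normalizerIn S Q = S := normalizerIn_eq_of_le_normalizer hQn
  let E : FusionSystem S := castSystem hN (normalizerSystem F Q hQS)
  have hEhom : ∀ P, E.Hom P = F.normalizerHom Q P := fun P => castSystem_hom hN _ P
  have hAlp := alperin hS F hF E (by
    intro P hP α hα
    obtain ⟨hQP, hQα⟩ := h P hP
    have hPS : P ≤ S := by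
      rcases hP with rfl | hP
      · exact le_rfl
      · exact hP.1.1
    rw [mem_autGroup_iff E hPS, hEhom]
    have hαF := (mem_autGroup_iff F hPS α).mp hα
    have hle : P ⊔ Q ≤ P := sup_le le_rfl hQP
    refine ⟨hαF, hN.symm ▸ hPS, fun x => hN.symm ▸ hom_apply_mem F hαF x,
      (P.subtype.comp α.toMonoidHom).comp (Subgroup.inclusion hle), inclusion_comp_mem F hle hαF, fun x => rfl, ?_⟩
    rw [map_subgroupOf_eq_iff]
    have hQα' := hQα α hα
    constructor
    · intro y hy
      have : α (Subgroup.inclusion hle y) ∈ (Q.subgroupOf P).map α.toMonoidHom := ⟨_, hy, rfl⟩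
      rw [hQα'] at this
      exact this
    · intro z hz
      have : (⟨z, hQP hz⟩ : P) ∈ (Q.subgroupOf P).map α.toMonoidHom := by rw [hQα']; exact hz
      obtain ⟨w, hw, hwz⟩ := this
      refine ⟨⟨w, le_sup_left (a := P) (b := Q) w.2⟩, hw, ?_⟩
      exact congrArg Subtype.val hwz)
  refine ⟨hQS, fun P φ hφ => ?_⟩
  have := hAlp P hφ
  rw [hEhom] at this
  exact this.2.2.2

/-- **Centrality criterion (Alperin form).** -/
theorem isCentral_of_forall_aut [Finite S] {p : ℕ} [Fact p.Prime] (hS : IsPGroup p S) (F : FusionSystem S)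
    (hF : F.IsSaturated p) (Q : Subgroup Ω)
    (h : ∀ P : Subgroup Ω, (P = S ∨ F.IsEssential p P) →
      (Q ≤ P ∧ ∀ α ∈ F.autGroup P, ∀ x : P, (x : Ω) ∈ Q → α x = x)) :
    F.IsCentral Q := by
  have hQS : Q ≤ S := (h S (Or.inl rfl)).1
  -- `Q` is central in `S`
  have hQc : S ≤ Subgroup.centralizer (Q : Set Ω) := by
    intro s hs
    rw [Subgroup.mem_centralizer_iff]
    intro y hy
    have hα : (MulAut.conj (⟨s, hs⟩ : S)) ∈ F.autGroup S := inn_le_autGroup F le_rfl ⟨⟨s, hs⟩, rfl⟩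
    have h1 := (h S (Or.inl rfl)).2 _ hα ⟨y, hQS hy⟩ hy
    have h2 : s * y * s⁻¹ = y := congrArg Subtype.val h1
    calc y * s = s * y * s⁻¹ * s := by rw [h2]
      _ = s * y := by group
  have hN : centralizerIn S Q = S := le_antisymm inf_le_left (le_inf le_rfl hQc)
  let E : FusionSystem S := castSystem hN (centralizerSystem F Q hQS)
  have hEhom : ∀ P, E.Hom P = F.centralizerHom Q P := fun P => castSystem_hom hN _ P
  have hAlp := alperin hS F hF E (by
    intro P hP α hα
    obtain ⟨hQP, hQα⟩ := h P hP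
    have hPS : P ≤ S := by
      rcases hP with rfl | hP
      · exact le_rfl
      · exact hP.1.1
    rw [mem_autGroup_iff E hPS, hEhom]
    have hαF := (mem_autGroup_iff F hPS α).mp hα
    have hle : P ⊔ Q ≤ P := sup_le le_rfl hQP
    refine ⟨hαF, hN.symm ▸ hPS, fun x => hN.symm ▸ hom_apply_mem F hαF x,
      (P.subtype.comp α.toMonoidHom).comp (Subgroup.inclusion hle), inclusion_comp_mem F hle hαF, fun x => rfl, ?_⟩
    intro x
    have := hQα α hα ⟨x, hQP x.2⟩ x.2
    exact congrArg Subtype.val this)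
  refine ⟨hQS, fun P φ hφ => ?_⟩
  have := hAlp P hφ
  rw [hEhom] at this
  exact this.2.2.2

/-- Essential subgroups are centric and radical, so they contain `Z(S)`-type subgroups; here: they contain every
subgroup of `S` centralized by `S`. -/
theorem le_of_essential_of_le_centralizer (F : FusionSystem S) {p : ℕ} {P Q : Subgroup Ω} (hP : F.IsEssential p P)
    (hQS : Q ≤ S) (hQc : S ≤ Subgroup.centralizer (Q : Set Ω)) : Q ≤ P := by
  have hc := hP.1
  intro q hq
  apply hc.2 P (isConj_refl F hc.1)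
  rw [mem_centralizerIn_iff]
  refine ⟨hQS hq, fun x hx => ?_⟩
  have := Subgroup.mem_centralizer_iff.mp (hQc (hc.1 hx)) q hq
  exact this.symm

/-- Elements of a subgroup central in the system have singleton conjugacy classes; conversely (saturated case). -/
theorem isCentral_iff_conjElt [Finite S] {p : ℕ} [Fact p.Prime] (hS : IsPGroup p S) (F : FusionSystem S)
    (hF : F.IsSaturated p) (Q : Subgroup Ω) :
    F.IsCentral Q ↔ (Q ≤ S ∧ ∀ x ∈ Q, ∀ y : Ω, F.IsConjElt x y → y = x) := by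
  constructor
  · intro hQ
    refine ⟨hQ.1, fun x hx y hxy => ?_⟩
    obtain ⟨φ, hφ, rfl⟩ := hxy
    obtain ⟨ψ, hψ, hψφ, hψQ⟩ := hQ.2 _ φ hφ
    rw [← hψφ ⟨x, Subgroup.mem_zpowers x⟩]
    have := hψQ ⟨x, hx⟩
    exact this
  · rintro ⟨hQS, hQ⟩
    -- conjugation by elements of `S` fixes `Q` pointwise
    have hQc : S ≤ Subgroup.centralizer (Q : Set Ω) := by
      intro s hs
      rw [Subgroup.mem_centralizer_iff]
      intro y hy
      have hzS : Subgroup.zpowers y ≤ S := by
        rw [Subgroup.zpowers_le]; exact hQS hy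
      have h1 := hQ y hy (s * y * s⁻¹) ⟨conjHom (Subgroup.zpowers y) s, F.conj_mem hzS hs, rfl⟩
      calc y * s = s * y * s⁻¹ * s := by rw [h1]
        _ = s * y := by group
    apply isCentral_of_forall_aut hS F hF Q
    intro P hP
    have hPS : P ≤ S := by
      rcases hP with rfl | hP
      · exact le_rfl
      · exact hP.1.1
    have hQP : Q ≤ P := by
      rcases hP with rfl | hP
      · exact hQS
      · exact le_of_essential_of_le_centralizer F hP hQS hQc
    refine ⟨hQP, fun α hα x hx => ?_⟩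
    have hαF := (mem_autGroup_iff F hPS α).mp hα
    have hz : Subgroup.zpowers (x : Ω) ≤ P := by
      rw [Subgroup.zpowers_le]; exact x.2
    have hres := inclusion_comp_mem F hz hαF
    have := hQ x hx _ ⟨_, hres, rfl⟩
    apply Subtype.ext
    exact this

/-- A subgroup normal in the system lies in every centric radical subgroup. -/
theorem le_of_isNormal_of_centric_radical [Finite S] {p : ℕ} [Fact p.Prime] (hS : IsPGroup p S)
    (F : FusionSystem S) {Q P : Subgroup Ω} (hQ : F.IsNormal Q) (hc : F.IsCentric P) (hr : F.IsRadical p P) :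
    Q ≤ P := by
  by_contra hQP
  have hPS : P ≤ S := hc.1
  have hPQS : P ⊔ Q ≤ S := sup_le hPS hQ.1
  have hfin : Finite ↥(P ⊔ Q) := finite_of_le hPQS
  have hpg : IsPGroup p ↥(P ⊔ Q) := hS.to_le hPQS
  have hne : P ≠ P ⊔ Q := fun h => hQP (h ▸ le_sup_right)
  obtain ⟨g, hgN, hgP⟩ := exists_mem_normalizerIn_not_mem hpg (le_sup_left : P ≤ P ⊔ Q) hne
  have hgPQ : g ∈ P ⊔ Q := normalizerIn_le _ _ hgN
  have hgN' : g ∈ Subgroup.normalizer (P : Set Ω) := hgN.2
  -- the automorphisms of `P` induced by `P ⊔ Q`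
  let B : Subgroup (MulAut P) := autInducedBy (P ⊔ Q) P
  have hBle : B ≤ F.autGroup P := by
    intro α hα
    obtain ⟨k, hk, hkα⟩ := (mem_autInducedBy_iff _ _ α).mp hα
    exact autInducedBy_le_autGroup F hPS ((mem_autInducedBy_iff _ _ α).mpr ⟨k, hPQS hk, hkα⟩)
  have hBp : IsPGroup p B := autInducedBy_isPGroup hpg P
  have hBn : (B.subgroupOf (F.autGroup P)).Normal := by
    constructor
    intro β hβ α
    rw [Subgroup.mem_subgroupOf] at hβ ⊢
    obtain ⟨k, hk, hkN, hkβ⟩ := (mem_autInducedBy_iff' _ _ _).mp hβ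
    have hαF := (mem_autGroup_iff F hPS (α : MulAut P)).mp α.2
    obtain ⟨ψ, hψ, hψα, hψQ⟩ := hQ.2 P _ hαF
    have hψk : ψ ⟨k, hk⟩ ∈ P ⊔ Q := by
      have := ext_apply_mem_sup _ ψ hψα hψQ ⟨k, hk⟩
      have hrng : (P.subtype.comp (((α : MulAut P) : P ≃* P).toMonoidHom)).range = P :=
        equivHom_range _
      rw [hrng] at this
      exact this
    rw [mem_autInducedBy_iff]
    refine ⟨ψ ⟨k, hk⟩, hψk, fun x => ?_⟩
    show (((α : MulAut P) ((β : MulAut P) ((α : MulAut P)⁻¹ x)) : P) : Ω) = _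
    rw [hkβ]
    set y : P := (α : MulAut P)⁻¹ x with hy
    have hky : k * (y : Ω) * k⁻¹ ∈ P := (Subgroup.mem_normalizer_iff.mp hkN _).mp y.2
    have h1 : (P.normalizerMonoidHom ⟨k, hkN⟩) y = ⟨k * y * k⁻¹, hky⟩ := Subtype.ext rfl
    rw [h1]
    have h2 := hψα ⟨k * y * k⁻¹, hky⟩
    have h3 : (Subgroup.inclusion (le_sup_left : P ≤ P ⊔ Q) ⟨k * y * k⁻¹, hky⟩) =
        ⟨k, hk⟩ * Subgroup.inclusion le_sup_left y * ⟨k, hk⟩⁻¹ := Subtype.ext rfl
    rw [h3, map_mul, map_mul, map_inv, hψα y] at h2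
    have h4 : ((α : MulAut P) y : P) = x := by rw [hy]; simp
    have h5 : (P.subtype.comp (((α : MulAut P) : P ≃* P).toMonoidHom)) y = (x : Ω) := by
      show (((α : MulAut P) y : P) : Ω) = x
      rw [h4]
    rw [h5] at h2
    exact h2.symm
  -- hence `B ≤ Inn P`
  have hBinn : B ≤ Inn P := by
    have h1 : B.subgroupOf (F.autGroup P) ≤ pCore p (F.autGroup P) :=
      le_sSup ⟨hBn, hBp.comap_subtype⟩
    intro β hβ
    rw [← hr.2]
    exact ⟨⟨β, hBle hβ⟩, h1 hβ, rfl⟩
  have hβ : P.normalizerMonoidHom ⟨g, hgN'⟩ ∈ B := normalizerMonoidHom_mem_autInducedBy hgPQ hgN'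
  exact hgP (mem_of_normalizerMonoidHom_mem_inn F hc (hPQS hgPQ) hgN' (hBinn hβ))

/-- `Q ⊴ F` iff `Q` is strongly closed and contained in every centric radical subgroup. -/
theorem isNormal_iff_stronglyClosed_le_centric_radical [Finite S] {p : ℕ} [Fact p.Prime] (hS : IsPGroup p S)
    (F : FusionSystem S) (hF : F.IsSaturated p) (Q : Subgroup Ω) :
    F.IsNormal Q ↔ (F.StronglyClosed Q ∧ ∀ P : Subgroup Ω, F.IsCentric P → F.IsRadical p P → Q ≤ P) := by
  constructor
  · intro hQ
    exact ⟨stronglyClosed_of_isNormal F hQ, fun P hc hr => le_of_isNormal_of_centric_radical hS F hQ hc hr⟩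
  · rintro ⟨hsc, hle⟩
    apply isNormal_of_forall_aut hS F hF Q
    intro P hP
    have hPS : P ≤ S := by
      rcases hP with rfl | hP
      · exact le_rfl
      · exact hP.1.1
    refine ⟨?_, fun α hα => map_aut_eq_of_stronglyClosed F hsc hPS hα⟩
    rcases hP with rfl | hP
    · exact hsc.1
    · exact hle P hP.1 (radical_of_essential hS F P hP)

/-- `Q ⊴ F` iff `Q ≤ P` and `Q` is `Aut_F(P)`-invariant for `P = S` and every essential `P`. -/
theorem isNormal_iff_forall_aut [Finite S] {p : ℕ} [Fact p.Prime] (hS : IsPGroup p S)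
    (F : FusionSystem S) (hF : F.IsSaturated p) (Q : Subgroup Ω) :
    F.IsNormal Q ↔ ∀ P : Subgroup Ω, (P = S ∨ F.IsEssential p P) →
      (Q ≤ P ∧ ∀ α ∈ F.autGroup P, (Q.subgroupOf P).map α.toMonoidHom = Q.subgroupOf P) := by
  constructor
  · intro hQ P hP
    have hsc := stronglyClosed_of_isNormal F hQ
    have hPS : P ≤ S := by
      rcases hP with rfl | hP
      · exact le_rfl
      · exact hP.1.1
    refine ⟨?_, fun α hα => map_aut_eq_of_stronglyClosed F hsc hPS hα⟩
    rcases hP with rfl | hP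
    · exact hQ.1
    · exact le_of_isNormal_of_centric_radical hS F hQ hP.1 (radical_of_essential hS F P hP)
  · exact isNormal_of_forall_aut hS F hF Q

end Cfsg.Agent.Lib.Helper26
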