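import Cfsg.Agent.Lib.Helper26.FSInvariant
import Cfsg.Agent.Lib.Helper26.FSAlperin
import Cfsg.Agent.Lib.Helper26.FSChain
import Cfsg.Agent.Lib.Helper27.FSSubgroupSat

/-!
S5119: invariance (with the Frattini condition) is equivalent to strong invariance.
-/

set_option autoImplicit false

namespace Cfsg.Agent.Lib.Helper26

open Cfsg Cfsg.FusionSystem

variable {Ω : Type*} [Group Ω] {S T : Subgroup Ω}

theorem autInv_of_strongInv {E : FusionSystem T} {F : FusionSystem S} (hT : T ≤ S) (h : StrongInv E F) :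
    AutInv E F := by
  intro P hPT φ hφ α hα
  have hψ : T.subtype.comp α.toMonoidHom ∈ F.Hom T := (mem_autGroup_iff F hT α).mp hα
  obtain ⟨χ, hχ, hχ'⟩ := h P T hPT le_rfl φ hφ (hom_apply_mem E hφ) _ hψ
  exact ⟨χ, hχ, fun x hφx hαx => hχ' x hαx⟩

/-- Conjugation by an element of `S` on a subgroup of the strongly closed `T` is decomposable. -/
theorem dec_conjHom {E : FusionSystem T} {F : FusionSystem S} (hT : F.StronglyClosed T) {P : Subgroup Ω}
    (hPT : P ≤ T) {s : Ω} (hs : s ∈ S) : Dec E F P (conjHom P s) := by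
  have hsN : s ∈ Subgroup.normalizer (T : Set Ω) := le_normalizer_of_stronglyClosed F hT hs
  have hα : T.normalizerMonoidHom ⟨s, hsN⟩ ∈ F.autGroup T :=
    autInducedBy_le_autGroup F hT.1 (normalizerMonoidHom_mem_autInducedBy hs hsN)
  exact dec_of_aut hPT hα (fun x => rfl)

/-- The decomposable automorphisms of `Q` in `Aut_F(Q)`. -/
def decAutSubgroup (E : FusionSystem T) (F : FusionSystem S) (hinv : AutInv E F) (Q : Subgroup Ω) (hQT : Q ≤ T) :
    Subgroup ↥(F.autGroup Q) where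
  carrier := {γ | DecI E F ((γ : MulAut Q) : Q ≃* Q)}
  one_mem' := decI_of_isFIso (isFIso_refl E hQT)
  mul_mem' := by
    intro a b ha hb
    exact DecI.trans hinv hb ha
  inv_mem' := by
    intro a ha
    exact DecI.symm hinv ha

open Cfsg.Agent.Lib.Helper27 in
/-- Step 3: automorphisms of a fully normalized proper subgroup of `T` are decomposable. -/
theorem decI_aut_of_fullyNormalized [Finite S] {p : ℕ} [Fact p.Prime] (hS : IsPGroup p S) (F : FusionSystem S)
    (hF : F.IsSaturated p) (E : FusionSystem T) (hT : F.StronglyClosed T)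
    (hSI : StrongInv E F) {Q : Subgroup Ω} (hQT : Q ≤ T) (hQne : Q ≠ T) (hQn : F.IsFullyNormalized Q)
    (IH : ∀ R : Subgroup Ω, R ≤ T → Nat.card Q < Nat.card R → ∀ φ ∈ F.Hom R, Dec E F R φ) :
    ∀ γ ∈ F.autGroup Q, DecI E F (γ : Q ≃* Q) := by
  have hinv : AutInv E F := autInv_of_strongInv hT.1 hSI
  have hQS : Q ≤ S := hQn.1
  have hfinQ : Finite Q := finite_of_le hQS
  have hfinT : Finite T := finite_of_le hT.1
  have hTp : IsPGroup p T := hS.to_le hT.1
  let K := decAutSubgroup E F hinv Q hQT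
  -- the normal closure of `Aut_T(Q)`
  let AutT : Subgroup ↥(F.autGroup Q) := (autInducedBy T Q).subgroupOf (F.autGroup Q)
  let N' : Subgroup ↥(F.autGroup Q) := Subgroup.normalClosure (AutT : Set ↥(F.autGroup Q))
  have hN'n : N'.Normal := Subgroup.normalClosure_normal
  have hN'K : N' ≤ K := by
    show Subgroup.closure (Group.conjugatesOfSet (AutT : Set ↥(F.autGroup Q))) ≤ K
    rw [Subgroup.closure_le]
    intro γ hγ
    obtain ⟨a, ha, hac⟩ := Group.mem_conjugatesOfSet_iff.mp hγ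
    obtain ⟨c, hc⟩ := isConj_iff.mp hac
    have ha' : (a : MulAut Q) ∈ autInducedBy T Q := ha
    obtain ⟨t, htT, htN, hta⟩ := (mem_autInducedBy_iff' T Q _).mp ha'
    -- strong invariance applied to `c_t` and `c`
    have hφ : conjHom Q t ∈ E.Hom Q := E.conj_mem hQT htT
    have hφQ : ∀ x : Q, conjHom Q t x ∈ Q := fun x => (Subgroup.mem_normalizer_iff.mp htN _).mp x.2
    have hψ : equivHom ((c : MulAut Q) : Q ≃* Q) ∈ F.Hom Q := (mem_autGroup_iff F hQS _).mp c.2
    obtain ⟨χ, hχ, hχ'⟩ := hSI Q Q le_rfl hQT (conjHom Q t) hφ hφQ _ hψ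
    have heq : (Q.subgroupOf Q).map (equivHom ((c : MulAut Q) : Q ≃* Q)) = Q := by
      rw [Subgroup.subgroupOf_self, ← MonoidHom.range_eq_map, equivHom_range]
    show DecI E F ((γ : MulAut Q) : Q ≃* Q)
    apply decI_of_isFIso
    have h1 := hom_congr E heq hχ
    have h2 : equivHom ((γ : MulAut Q) : Q ≃* Q) = χ.comp (Subgroup.inclusion heq.ge) := by
      ext y
      have hγ' : (γ : MulAut Q) = (c : MulAut Q) * (a : MulAut Q) * (c : MulAut Q)⁻¹ := by
        rw [← hc]; rfl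
      obtain ⟨x, rfl⟩ : ∃ x : Q, (c : MulAut Q) x = y := ⟨(c : MulAut Q)⁻¹ y, by simp⟩
      have h3 := hχ' x ((Subgroup.inclusion heq.ge ((c : MulAut Q) x)).2)
      show (((γ : MulAut Q) ((c : MulAut Q) x) : Q) : Ω) = χ (Subgroup.inclusion heq.ge ((c : MulAut Q) x))
      rw [hγ']
      simp only [MulAut.mul_apply, MulAut.inv_apply_self]
      rw [hta]
      exact h3.symm
    unfold IsFIso
    rw [h2]
    exact h1
  -- the Sylow subgroup
  obtain ⟨-, R, hR⟩ := (saturated_fn hS F hF hQn).2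
  have hRec := saturated_fn_receptive hS F hF hQn
  obtain ⟨U, hU⟩ := sylowIn_inf_of_normal R N'
  have hfrat := Sylow.normalizer_sup_eq_top U
  have hUmap : (U : Subgroup ↥N').map N'.subtype = (R : Subgroup ↥(F.autGroup Q)) ⊓ N' := by
    rw [hU]
    exact Subgroup.map_subgroupOf_eq_of_le inf_le_right
  rw [hUmap] at hfrat
  -- the normalizer of `R ⊓ N'` consists of decomposable automorphisms
  have hNK : Subgroup.normalizer (((R : Subgroup ↥(F.autGroup Q)) ⊓ N' : Subgroup ↥(F.autGroup Q)) : Set ↥(F.autGroup Q))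
      ≤ K := by
    intro γ hγ
    have hNT : normalizerIn T Q ≤ extender S Q (equivHom ((γ : MulAut Q) : Q ≃* Q)) := by
      intro t ht
      have htT : t ∈ T := ht.1
      have htN : t ∈ Subgroup.normalizer (Q : Set Ω) := ht.2
      have haF : Q.normalizerMonoidHom ⟨t, htN⟩ ∈ F.autGroup Q :=
        autInducedBy_le_autGroup F hQS (normalizerMonoidHom_mem_autInducedBy (hT.1 htT) htN)
      have haR : (⟨_, haF⟩ : ↥(F.autGroup Q)) ∈ (R : Subgroup ↥(F.autGroup Q)) := by
        rw [hR, Subgroup.mem_subgroupOf]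
        exact normalizerMonoidHom_mem_autInducedBy (hT.1 htT) htN
      have haN : (⟨_, haF⟩ : ↥(F.autGroup Q)) ∈ N' := by
        apply Subgroup.subset_normalClosure
        show (⟨_, haF⟩ : ↥(F.autGroup Q)) ∈ AutT
        rw [Subgroup.mem_subgroupOf]
        exact normalizerMonoidHom_mem_autInducedBy htT htN
      have h1 := (Subgroup.mem_normalizer_iff.mp hγ _).mp ⟨haR, haN⟩
      have h2 : (γ * ⟨_, haF⟩ * γ⁻¹ : ↥(F.autGroup Q)) ∈ (R : Subgroup ↥(F.autGroup Q)) := h1.1
      rw [hR, Subgroup.mem_subgroupOf] at h2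
      obtain ⟨h, hhS, hh⟩ := (mem_autInducedBy_iff S Q _).mp h2
      rw [mem_extender_iff]
      refine ⟨hT.1 htT, htN, h, hhS, fun x hx => ?_⟩
      have h3 := hh ((γ : MulAut Q) x)
      have h4 : ((γ * ⟨_, haF⟩ * γ⁻¹ : ↥(F.autGroup Q)) : MulAut Q) ((γ : MulAut Q) x) =
          (γ : MulAut Q) ⟨t * x * t⁻¹, hx⟩ := by
        show (γ : MulAut Q) ((Q.normalizerMonoidHom ⟨t, htN⟩) ((γ : MulAut Q)⁻¹ ((γ : MulAut Q) x))) = _
        rw [MulAut.inv_apply_self]
        rfl
      rw [h4] at h3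
      exact h3
    obtain ⟨ψ, hψ, hψγ⟩ := hRec.2 Q (equivHom ((γ : MulAut Q) : Q ≃* Q)) ((mem_autGroup_iff F hQS _).mp γ.2)
      (equivHom_range _)
    have hlt : Nat.card Q < Nat.card ↥(normalizerIn T Q) := card_lt_card_normalizerIn hTp hQT hQne
    have hdec := IH (normalizerIn T Q) (normalizerIn_le T Q) hlt _ (inclusion_comp_mem F hNT hψ)
    have hdec' := hdec.restrict (le_normalizerIn hQT)
    show DecI E F ((γ : MulAut Q) : Q ≃* Q)
    refine hdec'.congr (fun x => ?_)
    exact (hψγ x x.2 (hNT (le_normalizerIn hQT x.2))).symm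
  intro γ hγ
  have htop : (⟨γ, hγ⟩ : ↥(F.autGroup Q)) ∈ (⊤ : Subgroup ↥(F.autGroup Q)) := Subgroup.mem_top _
  rw [← hfrat] at htop
  exact (sup_le hNK hN'K) htop

/-- Strong invariance implies the Frattini condition. -/
theorem dec_of_strongInv [Finite S] {p : ℕ} [Fact p.Prime] (hS : IsPGroup p S) (F : FusionSystem S)
    (hF : F.IsSaturated p) (E : FusionSystem T) (hT : F.StronglyClosed T) (hSI : StrongInv E F) :
    ∀ P : Subgroup Ω, P ≤ T → ∀ φ ∈ F.Hom P, Dec E F P φ := by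
  have hinv : AutInv E F := autInv_of_strongInv hT.1 hSI
  have hfinT : Finite T := finite_of_le hT.1
  have hTp : IsPGroup p T := hS.to_le hT.1
  have main : ∀ d : ℕ, ∀ P : Subgroup Ω, P ≤ T → Nat.card T - Nat.card P = d →
      ∀ φ ∈ F.Hom P, Dec E F P φ := by
    intro d
    induction d using Nat.strong_induction_on with
    | _ d ih =>
      intro P hP hd φ hφ
      have IH : ∀ R : Subgroup Ω, R ≤ T → Nat.card P < Nat.card R → ∀ φ ∈ F.Hom R, Dec E F R φ := by
        intro R hR hlt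
        have hRT : Nat.card R ≤ Nat.card T := Subgroup.card_le_of_le hR
        exact ih (Nat.card T - Nat.card R) (by omega) R hR rfl
      have hPS : P ≤ S := hP.trans hT.1
      have hfinP : Finite P := finite_of_le hPS
      by_cases hPT : P = T
      · subst hPT
        have hr : φ.range = P := by
          apply Subgroup.eq_of_le_of_card_ge
          · rintro _ ⟨x, rfl⟩
            exact hT.2 P le_rfl φ hφ x
          · rw [Nat.card_congr (MonoidHom.ofInjective (F.injective_of_mem hφ)).toEquiv]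
        have hα : (homEquiv F hφ hr : MulAut P) ∈ F.autGroup P := by
          rw [mem_autGroup_iff_isFIso F hT.1]
          exact homEquiv_isFIso F hφ hr
        exact dec_of_aut le_rfl hα (fun x => rfl)
      · obtain ⟨Pst, hPPst, hFN⟩ := exists_fullyNormalized_conj F hPS
        have hPstT : Pst ≤ T := by
          obtain ⟨θ, hθ, rfl⟩ := hPPst
          rintro _ ⟨x, rfl⟩
          exact hT.2 P hP θ hθ x
        have hFA := (saturated_fn hS F hF hFN).2
        have hRec := saturated_fn_receptive hS F hF hFN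
        have hPQ : F.IsConj P φ.range := ⟨φ, hφ, rfl⟩
        have hQT : φ.range ≤ T := by
          rintro _ ⟨x, rfl⟩
          exact hT.2 P hP φ hφ x
        have hQS : φ.range ≤ S := hQT.trans hT.1
        have hQPst : F.IsConj φ.range Pst := isConj_trans F (isConj_symm F hPQ) hPPst
        obtain ⟨χ₁, hχ₁, hv₁, hm₁⟩ := exists_normalizer_hom hS F hFA hRec hPPst
        obtain ⟨χ₂, hχ₂, hv₂, hm₂⟩ := exists_normalizer_hom hS F hFA hRec hQPst
        let D₁ : NormHom F P Pst := ⟨χ₁, hχ₁, hv₁, hm₁, hPS⟩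
        let D₂ : NormHom F φ.range Pst := ⟨χ₂, hχ₂, hv₂, hm₂, hQS⟩
        let eφ : P ≃* φ.range := homEquiv F hφ rfl
        have hcardQ : Nat.card φ.range = Nat.card P := (Nat.card_congr eφ.toEquiv).symm
        have hcardPst : Nat.card Pst = Nat.card P := (Nat.card_congr D₁.e.toEquiv).symm
        have hQne : φ.range ≠ T := by
          intro h
          apply hPT
          apply Subgroup.eq_of_le_of_card_ge hP
          rw [← hcardQ, h]
        have hPstne : Pst ≠ T := by
          intro h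
          apply hPT
          apply Subgroup.eq_of_le_of_card_ge hP
          rw [← hcardPst, h]
        have he₁ : DecI E F D₁.e := by
          have hlt := card_lt_card_normalizerIn hTp hP hPT
          have hle : normalizerIn T P ≤ normalizerIn S P := inf_le_inf_right _ hT.1
          have h1 := IH (normalizerIn T P) (normalizerIn_le T P) hlt _ (inclusion_comp_mem F hle hχ₁)
          have h2 := h1.restrict (le_normalizerIn hP)
          exact h2.congr (fun x => rfl)
        have he₂ : DecI E F D₂.e := by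
          have hlt := card_lt_card_normalizerIn hTp hQT hQne
          rw [hcardQ] at hlt
          have hle : normalizerIn T φ.range ≤ normalizerIn S φ.range := inf_le_inf_right _ hT.1
          have h1 := IH (normalizerIn T φ.range) (normalizerIn_le T _) hlt _ (inclusion_comp_mem F hle hχ₂)
          have h2 := h1.restrict (le_normalizerIn hQT)
          exact h2.congr (fun x => rfl)
        have hAut := decI_aut_of_fullyNormalized hS F hF E hT hSI hPstT hPstne hFN
          (fun R hR hlt => IH R hR (hcardPst ▸ hlt))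
        let α : MulAut Pst := D₁.e.symm.trans (eφ.trans D₂.e)
        have hαF : α ∈ F.autGroup Pst := by
          rw [mem_autGroup_iff_isFIso F hFN.1]
          exact D₁.e_isFIso.symm.trans ((homEquiv_isFIso F hφ rfl).trans D₂.e_isFIso)
        have hαD := hAut α hαF
        have heq : eφ = D₁.e.trans ((α : Pst ≃* Pst).trans D₂.e.symm) := by
          ext x
          simp [α]
        have h3 : DecI E F eφ := by
          rw [heq]
          exact he₁.trans hinv (hαD.trans hinv (he₂.symm hinv))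
        exact h3.congr (fun x => rfl)
  intro P hP φ hφ
  exact main _ P hP rfl φ hφ

/-- Invariance and the Frattini condition imply strong invariance. -/
theorem strongInv_of_invariant {E : FusionSystem T} {F : FusionSystem S} (hinv : AutInv E F)
    (hfrat : ∀ P : Subgroup Ω, P ≤ T → ∀ φ ∈ F.Hom P, Dec E F P φ) : StrongInv E F := by
  intro P Q hPQ hQT φ hφ hφQ ψ hψ
  obtain ⟨α, hα, ψ₀, hψ₀, hψα⟩ := hfrat Q hQT ψ hψ
  have hψ₀T : ∀ y : Q, ψ₀ y ∈ T := hom_apply_mem E hψ₀
  have hψ₀P : ψ₀.comp (Subgroup.inclusion hPQ) ∈ E.Hom P := inclusion_comp_mem E hPQ hψ₀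
  obtain ⟨ι, hι, hιx⟩ := E.inv_mem hψ₀P
  have hιP : ∀ z, ι z ∈ P := by
    rintro ⟨_, x, rfl⟩
    rw [hιx]
    exact x.2
  have h1 : φ.comp (ι.codRestrict P hιP) ∈ E.Hom _ := E.comp_mem hι hφ hιP
  have h1Q : ∀ z, (φ.comp (ι.codRestrict P hιP)) z ∈ Q := fun z => hφQ _
  have h2 : ψ₀.comp ((φ.comp (ι.codRestrict P hιP)).codRestrict Q h1Q) ∈ E.Hom _ := E.comp_mem h1 hψ₀ h1Q
  have hrT : (ψ₀.comp (Subgroup.inclusion hPQ)).range ≤ T := range_le E hψ₀P
  obtain ⟨χ, hχ, hχ'⟩ := hinv.exists hrT h2 hα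
  have hsub : (P.subgroupOf Q).map ψ ≤ imgAut α (ψ₀.comp (Subgroup.inclusion hPQ)).range := by
    rintro _ ⟨y, hy, rfl⟩
    rw [hψα y (hψ₀T y)]
    exact apply_mem_imgAut α ⟨ψ₀ y, hψ₀T y⟩ ⟨⟨y, hy⟩, rfl⟩
  refine ⟨χ.comp (Subgroup.inclusion hsub), inclusion_comp_mem E hsub hχ, fun x hx => ?_⟩
  have h3 := hχ' ⟨ψ₀ (Subgroup.inclusion hPQ x), hψ₀T _⟩ ⟨x, rfl⟩ (apply_mem_imgAut α _ ⟨x, rfl⟩)
  have e1 : ι.codRestrict P hιP ⟨(ψ₀.comp (Subgroup.inclusion hPQ)) x, ⟨x, rfl⟩⟩ = x :=
    Subtype.ext (hιx x)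
  have e2 : (ψ₀.comp ((φ.comp (ι.codRestrict P hιP)).codRestrict Q h1Q))
      ⟨(ψ₀.comp (Subgroup.inclusion hPQ)) x, ⟨x, rfl⟩⟩ = ψ₀ ⟨φ x, hφQ x⟩ := by
    show ψ₀ ⟨φ (ι.codRestrict P hιP ⟨(ψ₀.comp (Subgroup.inclusion hPQ)) x, ⟨x, rfl⟩⟩), _⟩ = _
    congr 2
    rw [e1]
  have e3 : (⟨(ψ₀.comp ((φ.comp (ι.codRestrict P hιP)).codRestrict Q h1Q))
      ⟨(ψ₀.comp (Subgroup.inclusion hPQ)) x, ⟨x, rfl⟩⟩, hom_apply_mem E h2 _⟩ : T) =
      ⟨ψ₀ ⟨φ x, hφQ x⟩, hψ₀T _⟩ := Subtype.ext e2
  have h4 : χ ⟨((α ⟨ψ₀ (Subgroup.inclusion hPQ x), hψ₀T _⟩ : T) : Ω), apply_mem_imgAut α _ ⟨x, rfl⟩⟩ =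
      ((α ⟨ψ₀ ⟨φ x, hφQ x⟩, hψ₀T _⟩ : T) : Ω) := by
    rw [← e3]
    exact h3
  rw [hψα ⟨φ x, hφQ x⟩ (hψ₀T _), ← h4]
  show χ (Subgroup.inclusion hsub ⟨ψ (Subgroup.inclusion hPQ x), hx⟩) = _
  congr 1
  apply Subtype.ext
  exact hψα (Subgroup.inclusion hPQ x) (hψ₀T _)

/-- S5119. -/
theorem isInvariantIn_iff_strongInv [Finite S] (p : ℕ) [Fact p.Prime] (hS : IsPGroup p S) (F : FusionSystem S)
    (hF : F.IsSaturated p) (E : FusionSystem T) (hE : E.IsSubsystemOf F) (hT : F.StronglyClosed T) :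
    E.IsInvariantIn F ↔ StrongInv E F := by
  constructor
  · rintro ⟨-, -, hinv, hfrat⟩
    exact strongInv_of_invariant hinv hfrat
  · intro hSI
    exact ⟨hE, hT, autInv_of_strongInv hT.1 hSI, dec_of_strongInv hS F hF E hT hSI⟩

end Cfsg.Agent.Lib.Helper26
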