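import Cfsg.Agent.Lib.Helper26.FSNormalCrit
import Cfsg.Agent.Lib.Helper26.FSFocal
import Cfsg.Agent.Lib.Helper27.FSPrimeToP

/-!
Fusion-system tools used for systems over `p`-groups whose centre has index `p²`: extension and restriction of
automorphisms, `p'`-powers of elements of `Aut_F(S)`, and criteria phrased inside the group `↥S`.
-/

set_option autoImplicit false
set_option linter.unusedSectionVars false

namespace Cfsg.Agent.Lib.Helper26

open Cfsg Cfsg.FusionSystem
open scoped commutatorElement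

variable {Ω : Type*} [Group Ω] {S : Subgroup Ω}

/-- A subgroup stable under a group of automorphisms is mapped onto itself. -/
theorem map_eq_of_invariant {H : Type*} [Group H] (A : Subgroup (MulAut H)) (K : Subgroup H)
    (h : ∀ α ∈ A, ∀ x ∈ K, α x ∈ K) {α : MulAut H} (hα : α ∈ A) : K.map α.toMonoidHom = K := by
  apply le_antisymm
  · rintro _ ⟨x, hx, rfl⟩
    exact h α hα x hx
  · intro y hy
    exact ⟨α⁻¹ y, h α⁻¹ (A.inv_mem hα) y hy, MulAut.apply_inv_self H α y⟩

/-- Extension of an automorphism of a fully normalized subgroup normal in `S` that normalizes `Aut_S(P)`. -/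
theorem exists_extension [Finite S] {p : ℕ} [Fact p.Prime] (hS : IsPGroup p S) (F : FusionSystem S)
    (hF : F.IsSaturated p) {P : Subgroup Ω} (hPn : F.IsFullyNormalized P)
    (hSN : S ≤ Subgroup.normalizer (P : Set Ω)) {ν : MulAut P} (hν : ν ∈ F.autGroup P)
    (hnorm : ∀ α ∈ autInducedBy S P, ν * α * ν⁻¹ ∈ autInducedBy S P) :
    ∃ νh ∈ F.autGroup S, ∀ x : P, νh (Subgroup.inclusion hPn.1 x) = Subgroup.inclusion hPn.1 (ν x) := by
  have hPS : P ≤ S := hPn.1
  have hRec := saturated_fn_receptive hS F hF hPn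
  have hνF : equivHom (ν : P ≃* P) ∈ F.Hom P := (mem_autGroup_iff F hPS ν).mp hν
  obtain ⟨ψ, hψ, hψν⟩ := hRec.2 P (equivHom (ν : P ≃* P)) hνF (equivHom_range _)
  have hext : S ≤ extender S P (equivHom (ν : P ≃* P)) := by
    intro g hg
    rw [mem_extender_iff]
    refine ⟨hg, hSN hg, ?_⟩
    have h1 := hnorm _ (normalizerMonoidHom_mem_autInducedBy hg (hSN hg))
    obtain ⟨h, hh, hα⟩ := (mem_autInducedBy_iff S P _).mp h1
    refine ⟨h, hh, fun x hx => ?_⟩
    have h2 := hα (ν x)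
    rw [MulAut.mul_apply, MulAut.mul_apply, MulAut.inv_apply_self] at h2
    rw [equivHom_apply, equivHom_apply, ← h2]
    rfl
  have hψS : ψ.comp (Subgroup.inclusion hext) ∈ F.Hom S := inclusion_comp_mem F hext hψ
  have hr : (ψ.comp (Subgroup.inclusion hext)).range = S := by
    apply Subgroup.eq_of_le_of_card_ge (range_le F hψS)
    rw [Nat.card_congr (MonoidHom.ofInjective (F.injective_of_mem hψS)).toEquiv]
  refine ⟨homEquiv F hψS hr, ?_, fun x => ?_⟩
  · rw [mem_autGroup_iff_isFIso F le_rfl]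
    exact homEquiv_isFIso F hψS hr
  · apply Subtype.ext
    have := hψν x.1 x.2 (hext (hPS x.2))
    exact this

/-- Restriction of an automorphism of `S` in the system to an invariant subgroup. -/
theorem exists_restriction [Finite S] (F : FusionSystem S) {P : Subgroup Ω} (hPS : P ≤ S) {β : MulAut S}
    (hβ : β ∈ F.autGroup S) (hinv : ∀ x : P, ((β (Subgroup.inclusion hPS x) : S) : Ω) ∈ P) :
    ∃ δ ∈ F.autGroup P, ∀ x : P, Subgroup.inclusion hPS (δ x) = β (Subgroup.inclusion hPS x) := by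
  have hfinP : Finite P := finite_of_le hPS
  have hβF : equivHom (β : S ≃* S) ∈ F.Hom S := (mem_autGroup_iff F le_rfl β).mp hβ
  have hφ : (equivHom (β : S ≃* S)).comp (Subgroup.inclusion hPS) ∈ F.Hom P := inclusion_comp_mem F hPS hβF
  have hr : ((equivHom (β : S ≃* S)).comp (Subgroup.inclusion hPS)).range = P := by
    apply Subgroup.eq_of_le_of_card_ge
    · rintro _ ⟨x, rfl⟩
      exact hinv x
    · rw [Nat.card_congr (MonoidHom.ofInjective (F.injective_of_mem hφ)).toEquiv]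
  refine ⟨homEquiv F hφ hr, ?_, fun x => ?_⟩
  · rw [mem_autGroup_iff_isFIso F hPS]
    exact homEquiv_isFIso F hφ hr
  · apply Subtype.ext
    rfl

/-- Some `p'`-power of an element of `Aut_F(S)` is inner. -/
theorem exists_pow_mem_inn [Finite S] {p : ℕ} [Fact p.Prime] (hS : IsPGroup p S) (F : FusionSystem S)
    (hF : F.IsSaturated p) {β : MulAut S} (hβ : β ∈ F.autGroup S) : ∃ m : ℕ, ¬ p ∣ m ∧ β ^ m ∈ Inn S := by
  have hpp : p.Prime := Fact.out
  have hn : orderOf β ≠ 0 := (orderOf_pos β).ne'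
  obtain ⟨e, m, hm, hem⟩ := Nat.exists_eq_pow_mul_and_not_dvd hn p hpp.ne_one
  refine ⟨m, hm, ?_⟩
  have hpow : (β ^ m) ^ (p ^ e) = 1 := by
    rw [← pow_mul, mul_comm, ← hem]
    exact pow_orderOf_eq_one β
  have hBp : IsPGroup p (Subgroup.zpowers (β ^ m)) := by
    rintro ⟨x, hx⟩
    refine ⟨e, ?_⟩
    obtain ⟨k, rfl⟩ := Subgroup.mem_zpowers_iff.mp hx
    apply Subtype.ext
    show ((β ^ m) ^ k) ^ (p ^ e) = 1
    rw [← zpow_natCast, ← zpow_mul, mul_comm, zpow_mul, zpow_natCast, hpow, one_zpow]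
  have hFA := (saturated_fn hS F hF (top_fullyNormalized F)).2
  have hle : Subgroup.zpowers (β ^ m) ≤ F.autGroup S :=
    Subgroup.zpowers_le.mpr ((F.autGroup S).pow_mem hβ m)
  obtain ⟨χ, -, hχ⟩ := exists_conj_mem_autInducedBy F hFA _ hle hBp
  have h1 : χ * β ^ m * χ⁻¹ ∈ Inn S :=
    Cfsg.Agent.Lib.Helper27.autInducedBy_self_le_inn' (hχ _ (Subgroup.mem_zpowers _))
  have h2 := (Cfsg.innNormal S).conj_mem _ h1 χ⁻¹
  have e1 : χ⁻¹ * (χ * β ^ m * χ⁻¹) * χ⁻¹⁻¹ = β ^ m := by group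
  rwa [e1] at h2

/-- A subgroup of `↥S` invariant under `Aut_F(S)` and under `Aut_F(P)` for the essential `P` (all containing
it) is trivial if `O_p(F) = 1`. -/
theorem eq_bot_of_core [Finite S] {p : ℕ} [Fact p.Prime] (hS : IsPGroup p S) (F : FusionSystem S)
    (hF : F.IsSaturated p) (hcore : F.core = ⊥) (Q : Subgroup S)
    (hB : ∀ β ∈ F.autGroup S, ∀ x ∈ Q, β x ∈ Q)
    (hE : ∀ (P : Subgroup Ω) (hP : F.IsEssential p P), (∀ x ∈ Q, (x : Ω) ∈ P) ∧
      ∀ δ ∈ F.autGroup P, ∀ y : P, Subgroup.inclusion hP.1.1 y ∈ Q → Subgroup.inclusion hP.1.1 (δ y) ∈ Q) :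
    Q = ⊥ := by
  have hmem : ∀ (P : Subgroup Ω) (hPS : P ≤ S) (y : P),
      y ∈ (Q.map S.subtype).subgroupOf P ↔ Subgroup.inclusion hPS y ∈ Q := by
    intro P hPS y
    rw [Subgroup.mem_subgroupOf]
    constructor
    · rintro ⟨x, hx, hxy⟩
      have : x = Subgroup.inclusion hPS y := Subtype.ext hxy
      rwa [← this]
    · intro h
      exact ⟨_, h, rfl⟩
  have hN : F.IsNormal (Q.map S.subtype) := by
    apply isNormal_of_forall_aut hS F hF
    intro P hP
    have hPS : P ≤ S := by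
      rcases hP with rfl | hP
      · exact le_rfl
      · exact hP.1.1
    have hinv : ∀ δ ∈ F.autGroup P, ∀ y : P, Subgroup.inclusion hPS y ∈ Q → Subgroup.inclusion hPS (δ y) ∈ Q := by
      rcases hP with rfl | hP
      · intro δ hδ y hy
        have e : ∀ w : P, Subgroup.inclusion hPS w = w := fun w => Subtype.ext rfl
        rw [e] at hy ⊢
        exact hB δ hδ y hy
      · exact (hE P hP).2
    refine ⟨?_, fun α hα => ?_⟩
    · rcases hP with rfl | hP
      · rintro _ ⟨x, -, rfl⟩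
        exact x.2
      · rintro _ ⟨x, hx, rfl⟩
        exact (hE P hP).1 x hx
    · apply map_eq_of_invariant (F.autGroup P) _ _ hα
      intro δ hδ y hy
      rw [hmem P hPS] at hy ⊢
      exact hinv δ hδ y hy
  have hle : Q.map S.subtype ≤ F.core := le_sSup hN
  rw [hcore, le_bot_iff, Subgroup.map_eq_bot_iff_of_injective _ S.subtype_injective] at hle
  exact hle

/-- If the hyperfocal subgroup is `S`, a subgroup of `↥S` containing the commutators and all `x⁻¹ α(x)` for
`α ∈ Aut_F(P)`, `P = S` or essential, is everything. -/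
theorem eq_top_of_focal [Finite S] {p : ℕ} [Fact p.Prime] (hS : IsPGroup p S) (F : FusionSystem S)
    (hF : F.IsSaturated p) (hhyp : F.hyperfocalSubgroup p = S) (H : Subgroup S)
    (hcomm : ∀ x y : S, ⁅x, y⁆ ∈ H)
    (hB : ∀ β ∈ F.autGroup S, ∀ g : S, g⁻¹ * β g ∈ H)
    (hE : ∀ (P : Subgroup Ω) (hP : F.IsEssential p P), ∀ δ ∈ F.autGroup P, ∀ y : P,
      (Subgroup.inclusion hP.1.1 y)⁻¹ * Subgroup.inclusion hP.1.1 (δ y) ∈ H) : H = ⊤ := by
  have hle : ⁅(S : Subgroup Ω), S⁆ ≤ H.map S.subtype := by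
    rw [Subgroup.commutator_le]
    intro a ha b hb
    exact ⟨⁅(⟨a, ha⟩ : S), ⟨b, hb⟩⁆, hcomm _ _, rfl⟩
  have key := (focalPred F (H.map S.subtype) hle).forall_of_aut hS hF (by
    intro P hP α hα x
    show (x : Ω)⁻¹ * ((α x : P) : Ω) ∈ H.map S.subtype
    rcases hP with rfl | hP
    · exact ⟨x⁻¹ * α x, hB α hα x, rfl⟩
    · exact ⟨_, hE P hP α hα x, rfl⟩)
  rw [eq_top_iff]
  intro s _
  have hs : (s : Ω) ∈ F.hyperfocalSubgroup p := by rw [hhyp]; exact s.2
  have hle2 : F.hyperfocalSubgroup p ≤ H.map S.subtype := by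
    unfold hyperfocalSubgroup
    rw [Subgroup.closure_le]
    rintro _ ⟨P, α, x, hP, -, rfl⟩
    exact key P _ ((mem_autGroup_iff F hP _).mp α.2) x
  obtain ⟨y, hy, hys⟩ := hle2 hs
  have : y = s := Subtype.ext hys
  rwa [← this]

end Cfsg.Agent.Lib.Helper26
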