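import Cfsg.Agent.Lib.Helper26.FSFactor

/-!
S5132: existence of the factor system modulo a strongly closed subgroup.
-/

set_option autoImplicit false

namespace Cfsg.Agent.Lib.Helper26

open Cfsg Cfsg.FusionSystem

section Build

variable {Ω : Type*} [Group Ω] {S : Subgroup Ω} {Ω' : Type*} [Group Ω'] {S' : Subgroup Ω'}

/-- The set of maps of the factor system with source `P'`. -/
def factorHom (F : FusionSystem S) (θ : S →* Ω') (S' : Subgroup Ω') (P' : Subgroup Ω') : Set (P' →* Ω') :=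
  {φ' | P' ≤ S' ∧ ∃ φ ∈ F.Hom (preimageAlong θ P'), InducedAlong θ φ φ'}

theorem exists_preimage_elt (θ : S →* Ω') (hrange : θ.range = S') {P' : Subgroup Ω'} (hP' : P' ≤ S')
    (z : Ω') (hz : z ∈ P') : ∃ y : (preimageAlong θ P' : Subgroup Ω), θ ⟨y, preimageAlong_le θ P' y.2⟩ = z := by
  have hzS' : z ∈ θ.range := hrange ▸ hP' hz
  obtain ⟨s, hs⟩ := hzS'
  have hsP : (s : Ω) ∈ preimageAlong θ P' := by
    rw [mem_preimageAlong_iff]
    exact ⟨s.2, by rw [Subtype.coe_eta, hs]; exact hz⟩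
  exact ⟨⟨s, hsP⟩, hs⟩

theorem factorHom_le (F : FusionSystem S) (θ : S →* Ω') (hrange : θ.range = S') {P' : Subgroup Ω'}
    {φ' : P' →* Ω'} (h : φ' ∈ factorHom F θ S' P') : P' ≤ S' ∧ ∀ x : P', φ' x ∈ S' := by
  obtain ⟨hP', φ, hφ, hP, hφS, hPP', hind⟩ := h
  refine ⟨hP', fun x' => ?_⟩
  obtain ⟨y, hy⟩ := exists_preimage_elt θ hrange hP' x' x'.2
  have e : x' = ⟨θ ⟨y, hP y.2⟩, hPP' y⟩ := Subtype.ext hy.symm
  rw [e, hind]
  rw [← hrange]
  exact ⟨_, rfl⟩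

theorem factorHom_injective (F : FusionSystem S) {S₀ : Subgroup Ω} (hS₀ : F.StronglyClosed S₀) (θ : S →* Ω')
    (hker : ∀ s : S, θ s = 1 ↔ (s : Ω) ∈ S₀) (hrange : θ.range = S') {P' : Subgroup Ω'}
    {φ' : P' →* Ω'} (h : φ' ∈ factorHom F θ S' P') : Function.Injective φ' := by
  obtain ⟨hP', φ, hφ, hP, hφS, hPP', hind⟩ := h
  rw [injective_iff_map_eq_one]
  intro x' hx'
  obtain ⟨y, hy⟩ := exists_preimage_elt θ hrange hP' x' x'.2
  have e : x' = ⟨θ ⟨y, hP y.2⟩, hPP' y⟩ := Subtype.ext hy.symm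
  rw [e, hind, hker] at hx'
  have h1 := mem_of_apply_mem_of_stronglyClosed F hS₀ hφ y hx'
  have h2 : θ ⟨y, hP y.2⟩ = 1 := (hker _).mpr h1
  rw [e]
  exact Subtype.ext h2

theorem factorHom_conj (F : FusionSystem S) (θ : S →* Ω') (hrange : θ.range = S') {P' : Subgroup Ω'} {g' : Ω'}
    (hP' : P' ≤ S') (hg' : g' ∈ S') : conjHom P' g' ∈ factorHom F θ S' P' := by
  have hg'r : g' ∈ θ.range := hrange ▸ hg'
  obtain ⟨g, rfl⟩ := hg'r
  have hPS := preimageAlong_le θ P'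
  have hconjS : ∀ x : (preimageAlong θ P' : Subgroup Ω), conjHom (preimageAlong θ P') (g : Ω) x ∈ S := fun x =>
    S.mul_mem (S.mul_mem g.2 (hPS x.2)) (S.inv_mem g.2)
  refine ⟨hP', conjHom (preimageAlong θ P') g, F.conj_mem hPS g.2, hPS, hconjS,
    fun x => ((mem_preimageAlong_iff θ P' x).mp x.2).2, fun x => ?_⟩
  have e : (⟨conjHom (preimageAlong θ P') (g : Ω) x, hconjS x⟩ : S) = g * ⟨x, hPS x.2⟩ * g⁻¹ := rfl
  rw [e, map_mul, map_mul, map_inv]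
  rfl

theorem factorHom_comp (F : FusionSystem S) (θ : S →* Ω') {P' Q' : Subgroup Ω'} {φ' : P' →* Ω'}
    {ψ' : Q' →* Ω'} (hφ' : φ' ∈ factorHom F θ S' P') (hψ' : ψ' ∈ factorHom F θ S' Q') (h : ∀ x : P', φ' x ∈ Q') :
    ψ'.comp (φ'.codRestrict Q' h) ∈ factorHom F θ S' P' := by
  obtain ⟨hP', φ, hφ, hP, hφS, hPP', hind⟩ := hφ'
  obtain ⟨hQ', ψ, hψ, hQ, hψS, hQQ', hindψ⟩ := hψ'
  have h0 : ∀ y : (preimageAlong θ P' : Subgroup Ω), φ y ∈ preimageAlong θ Q' := by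
    intro y
    rw [mem_preimageAlong_iff]
    refine ⟨hφS y, ?_⟩
    rw [← hind y]
    exact h _
  refine ⟨hP', ψ.comp (φ.codRestrict _ h0), F.comp_mem hφ hψ h0, hP, fun x => hψS _, hPP', fun x => ?_⟩
  have h1 := hindψ ⟨φ x, h0 x⟩
  show ψ' ⟨φ' ⟨θ ⟨x, hP x.2⟩, hPP' x⟩, h _⟩ = θ ⟨ψ ⟨φ x, h0 x⟩, hψS _⟩
  rw [← h1]
  congr 1
  exact Subtype.ext (hind x)

theorem factorHom_inv [Finite S] (F : FusionSystem S) {S₀ : Subgroup Ω} (hS₀ : F.StronglyClosed S₀) (θ : S →* Ω')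
    (hker : ∀ s : S, θ s = 1 ↔ (s : Ω) ∈ S₀) (hrange : θ.range = S') {P' : Subgroup Ω'}
    {φ' : P' →* Ω'} (h : φ' ∈ factorHom F θ S' P') :
    ∃ ψ' ∈ factorHom F θ S' φ'.range, ∀ x : P', ψ' ⟨φ' x, ⟨x, rfl⟩⟩ = (x : Ω') := by
  have hinj := factorHom_injective F hS₀ θ hker hrange h
  have hle := factorHom_le F θ hrange h
  obtain ⟨hP', φ, hφ, hP, hφS, hPP', hind⟩ := h
  have hrS' : φ'.range ≤ S' := by
    rintro _ ⟨x, rfl⟩
    exact hle.2 x
  have hS₀P : S₀ ≤ preimageAlong θ P' := by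
    intro t ht
    rw [mem_preimageAlong_iff]
    refine ⟨hS₀.1 ht, ?_⟩
    rw [(hker _).mpr ht]
    exact P'.one_mem
  -- the full preimage of the image is the image of the full preimage
  have hR : φ.range = preimageAlong θ φ'.range := by
    apply le_antisymm
    · rintro _ ⟨y, rfl⟩
      rw [mem_preimageAlong_iff]
      refine ⟨hφS y, ?_⟩
      rw [← hind y]
      exact ⟨_, rfl⟩
    · intro z hz
      obtain ⟨hzS, x', hx'⟩ := (mem_preimageAlong_iff θ _ z).mp hz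
      obtain ⟨y, hy⟩ := exists_preimage_elt θ hrange hP' x' x'.2
      have e : x' = ⟨θ ⟨y, hP y.2⟩, hPP' y⟩ := Subtype.ext hy.symm
      rw [e, hind] at hx'
      have h1 : θ (⟨φ y, hφS y⟩⁻¹ * ⟨z, hzS⟩) = 1 := by
        rw [map_mul, map_inv, hx']; simp
      have h2 : (φ y)⁻¹ * z ∈ S₀ := (hker _).mp h1
      obtain ⟨y', -, hy'⟩ := exists_preimage_of_stronglyClosed F hS₀ hS₀P hφ _ h2
      refine ⟨y * y', ?_⟩
      rw [map_mul, hy']
      simp
  obtain ⟨ψ, hψ, hψφ⟩ := F.inv_mem hφ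
  have hψ₁ := hom_congr F hR hψ
  have hRS := preimageAlong_le θ φ'.range
  refine ⟨P'.subtype.comp (MonoidHom.ofInjective hinj).symm.toMonoidHom,
    ⟨hrS', _, hψ₁, hRS, fun z => hom_apply_mem F hψ₁ z, fun z => ((mem_preimageAlong_iff θ _ z).mp z.2).2, ?_⟩, ?_⟩
  · intro z
    have hz : (z : Ω) ∈ φ.range := by rw [hR]; exact z.2
    obtain ⟨y, hy⟩ := hz
    have h1 : (ψ.comp (Subgroup.inclusion hR.ge)) z = y := by
      have : Subgroup.inclusion hR.ge z = ⟨φ y, ⟨y, rfl⟩⟩ := Subtype.ext hy.symm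
      show ψ (Subgroup.inclusion hR.ge z) = y
      rw [this, hψφ]
    have h2 : (⟨θ ⟨z, hRS z.2⟩, ((mem_preimageAlong_iff θ _ z).mp z.2).2⟩ : φ'.range) =
        MonoidHom.ofInjective hinj ⟨θ ⟨y, hP y.2⟩, hPP' y⟩ := by
      apply Subtype.ext
      rw [MonoidHom.ofInjective_apply, hind]
      show θ ⟨(z : Ω), _⟩ = θ ⟨φ y, _⟩
      congr 2
      exact hy.symm
    show ((MonoidHom.ofInjective hinj).symm ⟨θ ⟨z, hRS z.2⟩, _⟩ : Ω') = _
    rw [h2, MulEquiv.symm_apply_apply]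
    show θ ⟨y, hP y.2⟩ = θ ⟨(ψ.comp (Subgroup.inclusion hR.ge)) z, _⟩
    congr 2
    exact h1.symm
  · intro x
    have h2 : (⟨φ' x, ⟨x, rfl⟩⟩ : φ'.range) = MonoidHom.ofInjective hinj x := by
      apply Subtype.ext
      rw [MonoidHom.ofInjective_apply]
    show ((MonoidHom.ofInjective hinj).symm ⟨φ' x, _⟩ : Ω') = _
    rw [h2, MulEquiv.symm_apply_apply]

/-- The factor system along `θ`. -/
def factorSystem [Finite S] (F : FusionSystem S) {S₀ : Subgroup Ω} (hS₀ : F.StronglyClosed S₀) (θ : S →* Ω')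
    (hker : ∀ s : S, θ s = 1 ↔ (s : Ω) ∈ S₀) (hrange : θ.range = S') : FusionSystem S' where
  Hom P' := factorHom F θ S' P'
  le_of_mem h := factorHom_le F θ hrange h
  injective_of_mem h := factorHom_injective F hS₀ θ hker hrange h
  conj_mem hP' hg' := factorHom_conj F θ hrange hP' hg'
  comp_mem hφ' hψ' h := factorHom_comp F θ hφ' hψ' h
  inv_mem h := factorHom_inv F hS₀ θ hker hrange h

theorem factorSystem_isFactorSystem [Finite S] (F : FusionSystem S) {S₀ : Subgroup Ω} (hS₀ : F.StronglyClosed S₀)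
    (θ : S →* Ω') (hker : ∀ s : S, θ s = 1 ↔ (s : Ω) ∈ S₀) (hrange : θ.range = S') :
    F.IsFactorSystem S₀ θ (factorSystem F hS₀ θ hker hrange) :=
  ⟨hS₀.1, hker, hrange, fun _ _ => Iff.rfl⟩

/-- S5132. -/
theorem exists_factorSystem_quotient [Finite S] (F : FusionSystem S) (S₀ : Subgroup Ω) (hS₀ : F.StronglyClosed S₀)
    [(S₀.subgroupOf S).Normal] :
    ∃ E : FusionSystem (⊤ : Subgroup (S ⧸ S₀.subgroupOf S)),
      F.IsFactorSystem S₀ (QuotientGroup.mk' (S₀.subgroupOf S)) E := by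
  have hker : ∀ s : S, QuotientGroup.mk' (S₀.subgroupOf S) s = 1 ↔ (s : Ω) ∈ S₀ := by
    intro s
    rw [QuotientGroup.mk'_apply, QuotientGroup.eq_one_iff]
    exact Subgroup.mem_subgroupOf
  have hrange : (QuotientGroup.mk' (S₀.subgroupOf S)).range = ⊤ :=
    MonoidHom.range_eq_top.mpr (QuotientGroup.mk'_surjective _)
  exact ⟨factorSystem F hS₀ _ hker hrange, factorSystem_isFactorSystem F hS₀ _ hker hrange⟩

end Build

end Cfsg.Agent.Lib.Helper26
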