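import Cfsg.Agent.Lib.Helper26.FSSylow
set_option autoImplicit false

/-!
Centric, radical and essential subgroups (helper26's library).
-/

namespace Cfsg.Agent.Lib.Helper26

open Cfsg Cfsg.FusionSystem

variable {Ω : Type*} [Group Ω] {S : Subgroup Ω}

/-- A fully centralized subgroup containing its centralizer in `S` is centric. -/
theorem centric_of_fullyCentralized [Finite S] (F : FusionSystem S) (U : Subgroup Ω) (hU : F.IsFullyCentralized U)
    (hC : centralizerIn S U ≤ U) : F.IsCentric U := by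
  refine ⟨hU.1, fun Q hUQ => ?_⟩
  obtain ⟨e, he⟩ := (isConj_iff_exists_isFIso F).mp hUQ
  have hQS : Q ≤ S := he.le_right
  have hZQ : Q ⊓ Subgroup.centralizer (Q : Set Ω) ≤ centralizerIn S Q := inf_le_inf_right _ hQS
  have hcard1 := hU.2 Q hUQ
  -- injection `C_S(U) → Z(Q)`
  have hmem : ∀ c : centralizerIn S U, ((e ⟨c, hC c.2⟩ : Q) : Ω) ∈ Q ⊓ Subgroup.centralizer (Q : Set Ω) := by
    intro c
    refine Subgroup.mem_inf.mpr ⟨(e _).2, ?_⟩
    rw [Subgroup.mem_centralizer_iff]
    intro y hy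
    obtain ⟨x, hx⟩ : ∃ x : U, ((e x : Q) : Ω) = y := ⟨e.symm ⟨y, hy⟩, by simp⟩
    have hcx : x * ⟨c, hC c.2⟩ = ⟨c, hC c.2⟩ * x := by
      apply Subtype.ext
      exact (mem_centralizerIn_iff.mp c.2).2 x x.2
    have := congrArg (fun z : U => ((e z : Q) : Ω)) hcx
    rw [← hx]
    simpa using this
  have hfin : Finite ↥(centralizerIn S Q) := finite_of_le (centralizerIn_le S Q)
  have hfin2 : Finite ↥(Q ⊓ Subgroup.centralizer (Q : Set Ω)) := finite_of_le (hZQ.trans (centralizerIn_le S Q))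
  have hcard2 : Nat.card (centralizerIn S U) ≤ Nat.card ↥(Q ⊓ Subgroup.centralizer (Q : Set Ω)) := by
    apply Nat.card_le_card_of_injective
      (fun c : centralizerIn S U => (⟨_, hmem c⟩ : ↥(Q ⊓ Subgroup.centralizer (Q : Set Ω))))
    intro a b hab
    have h1 : ((e ⟨a, hC a.2⟩ : Q) : Ω) = ((e ⟨b, hC b.2⟩ : Q) : Ω) :=
      congrArg (fun z : ↥(Q ⊓ Subgroup.centralizer (Q : Set Ω)) => (z : Ω)) hab
    have h2 : e ⟨a, hC a.2⟩ = e ⟨b, hC b.2⟩ := Subtype.ext h1
    have h3 := e.injective h2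
    apply Subtype.ext
    exact congrArg (fun z : U => (z : Ω)) h3
  have heq : Q ⊓ Subgroup.centralizer (Q : Set Ω) = centralizerIn S Q :=
    Subgroup.eq_of_le_of_card_ge hZQ (hcard1.trans hcard2)
  rw [← heq]
  exact inf_le_left

/-- A finite group with a strongly `p`-embedded subgroup has no nontrivial normal `p`-subgroup. -/
theorem eq_bot_of_normal_of_stronglyPEmbedded {X : Type*} [Group X] [Finite X] {p : ℕ} [Fact p.Prime]
    (E : Subgroup X) (hE : IsStronglyPEmbedded p E) (N : Subgroup X) [N.Normal] (hN : IsPGroup p N) : N = ⊥ := by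
  by_contra hne
  obtain ⟨-, hEtop, T, hT⟩ := hE
  have hNT : N ≤ T := hN.le_sylow_of_normal T
  apply hEtop
  rw [eq_top_iff]
  refine le_trans ?_ hT
  have hnorm : Subgroup.normalizer (N : Set X) = ⊤ := Subgroup.normalizer_eq_top_iff.mpr inferInstance
  rw [← hnorm]
  unfold kGeneratedCore
  have hrank : ¬ PRankLE p (1 - 1) N := by
    intro hr
    -- an element of order `p` in `N`
    have hcard : p ∣ Nat.card N := by
      obtain ⟨n, hn⟩ := IsPGroup.iff_card.mp hN
      have hn0 : n ≠ 0 := by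
        rintro rfl
        rw [pow_zero] at hn
        exact hne ((Subgroup.card_eq_one).mp hn)
      rw [hn]
      exact dvd_pow_self p hn0
    obtain ⟨g, hg⟩ := exists_prime_orderOf_dvd_card' p hcard
    have h1 := hr (Subgroup.zpowers g) inferInstance (by
      intro a ha
      obtain ⟨k, rfl⟩ := Subgroup.mem_zpowers_iff.mp ha
      rw [← zpow_natCast, ← zpow_mul, mul_comm, zpow_mul, zpow_natCast, ← hg, pow_orderOf_eq_one, one_zpow])
    rw [Nat.card_zpowers, hg] at h1
    have := (Fact.out : p.Prime).one_lt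
    simp at h1
    omega
  exact le_iSup (fun Q : {Q : Subgroup X // Q ≤ (T : Subgroup X) ∧ ¬ PRankLE p (1 - 1) Q} =>
    Subgroup.normalizer ((Q : Subgroup X) : Set X)) ⟨N, hNT, hrank⟩

/-- `Inn(P) ≤ Aut_S(P)` for `P ≤ S`. -/
theorem inn_le_autInducedBy {P : Subgroup Ω} (hP : P ≤ S) : Inn P ≤ autInducedBy S P := by
  rintro _ ⟨g, rfl⟩
  rw [mem_autInducedBy_iff]
  exact ⟨g, hP g.2, fun x => rfl⟩

theorem inn_le_autGroup (F : FusionSystem S) {P : Subgroup Ω} (hP : P ≤ S) : Inn P ≤ F.autGroup P :=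
  (inn_le_autInducedBy hP).trans (autInducedBy_le_autGroup F hP)

theorem inn_isPGroup {p : ℕ} (hS : IsPGroup p S) {P : Subgroup Ω} (hP : P ≤ S) : IsPGroup p (Inn P) := by
  have hPp : IsPGroup p P := hS.to_le hP
  have : Inn P = (⊤ : Subgroup P).map (MulAut.conj : P →* MulAut P) := by
    rw [← MonoidHom.range_eq_map]
  rw [this]
  exact (IsPGroup.of_equiv hPp Subgroup.topEquiv.symm).map _

/-- An essential subgroup is radical. -/
theorem radical_of_essential [Finite S] {p : ℕ} [Fact p.Prime] (hS : IsPGroup p S) (F : FusionSystem S)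
    (P : Subgroup Ω) (hP : F.IsEssential p P) : F.IsRadical p P := by
  obtain ⟨hc, -, hnorm, E, hE⟩ := hP
  have hPS : P ≤ S := hc.1
  have : Finite P := finite_of_le hPS
  refine ⟨hPS, ?_⟩
  have hInnLe := inn_le_autGroup F hPS
  apply le_antisymm
  · -- `O_p(Aut_F(P)) ≤ Inn(P)`
    have hcore : pCore p (F.autGroup P) ≤ (Inn P).subgroupOf (F.autGroup P) := by
      apply sSup_le
      rintro N ⟨hNn, hNp⟩
      have hmapn : (N.map (QuotientGroup.mk' ((Inn P).subgroupOf (F.autGroup P)))).Normal :=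
        hNn.map _ (QuotientGroup.mk'_surjective _)
      have hmapp : IsPGroup p (N.map (QuotientGroup.mk' ((Inn P).subgroupOf (F.autGroup P)))) := hNp.map _
      have := eq_bot_of_normal_of_stronglyPEmbedded E hE _ hmapp
      rw [Subgroup.map_eq_bot_iff, QuotientGroup.ker_mk'] at this
      exact this
    intro x hx
    obtain ⟨y, hy, rfl⟩ := hx
    exact hcore hy
  · intro x hx
    refine ⟨⟨x, hInnLe hx⟩, ?_, rfl⟩
    have hmem : (Inn P).subgroupOf (F.autGroup P) ∈ {N : Subgroup (F.autGroup P) | N.Normal ∧ IsPGroup p N} := by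
      refine ⟨hnorm, ?_⟩
      exact (inn_isPGroup hS hPS).comap_subtype
    exact (le_sSup hmem) hx

end Cfsg.Agent.Lib.Helper26
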