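import Cfsg.Agent.Lib.Helper26.GT4
import Cfsg.Agent.Lib.Helper26.Stability
import Cfsg.Agent.Lib.Helper26.FSSolvableConstrained
import Cfsg.Agent.Lib.Helper26.FSChain
import Cfsg.Agent.Lib.Helper26.FSEssential

/-!
Glauberman–Thompson for fusion systems, part 5: if the quotient by the core is inner, the core is centric.
-/

set_option autoImplicit false
set_option linter.unusedSectionVars false
set_option linter.unusedVariables false

namespace Cfsg.Agent.Lib.Helper26.GT

open Cfsg Cfsg.FusionSystem Cfsg.Agent.Lib.Helper26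

section StepC

variable {Ω : Type*} [Group Ω] {S : Subgroup Ω} {Ω' : Type*} [Group Ω'] {S' : Subgroup Ω'}

/-- In an inner system over a `p`-group the automorphism groups are `p`-groups. -/
theorem pow_eq_one_of_inner {p : ℕ} (hS' : IsPGroup p S') (E : FusionSystem S')
    (hE : ∀ P, E.Hom P = (innerFusionSystem S').Hom P) {P' : Subgroup Ω'} (hP' : P' ≤ S') {a : MulAut P'}
    (ha : a ∈ E.autGroup P') : ∃ k : ℕ, a ^ p ^ k = 1 := by
  have h1 := (mem_autGroup_iff E hP' a).mp ha
  rw [hE P'] at h1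
  obtain ⟨-, g, hg, hga⟩ := h1
  have h2 : a ∈ autInducedBy S' P' := (mem_autInducedBy_iff S' P' a).mpr ⟨g, hg, hga⟩
  obtain ⟨k, hk⟩ := autInducedBy_isPGroup hS' P' ⟨a, h2⟩
  exact ⟨k, congrArg Subtype.val hk⟩

/-- C1: a `p'`-automorphism of a full preimage fixing the kernel pointwise is trivial, if the image system is inner. -/
theorem eq_one_of_fix_ker [Finite ↥S] {p : ℕ} [Fact p.Prime] (hS : IsPGroup p S) (hS' : IsPGroup p S')
    (F : FusionSystem S) (E : FusionSystem S') (θ : S →* Ω') (hθ : F.IsSurjectiveMorphism E θ)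
    (hE : ∀ P, E.Hom P = (innerFusionSystem S').Hom P) {P' : Subgroup Ω'} (hP' : P' ≤ S')
    {α : MulAut ↥(preimageAlong θ P')} (hα : α ∈ F.autGroup (preimageAlong θ P'))
    (hfix : ∀ y : ↥(preimageAlong θ P'), (y : Ω) ∈ kerAlong θ → α y = y) (hαp : (orderOf α).Coprime p) :
    α = 1 := by
  have hPS : preimageAlong θ P' ≤ S := preimageAlong_le θ P'
  have hfinP : Finite ↥(preimageAlong θ P') := finite_of_le hPS
  obtain ⟨a', ha', hind⟩ := exists_induced_aut F E θ hθ hP' α hα
  have hπ := projHom_surjective θ hθ.2.1 hP'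
  obtain ⟨k, hk⟩ := pow_eq_one_of_inner hS' E hE hP' ha'
  have h1 : orderOf a' ∣ p ^ k := orderOf_dvd_of_pow_eq_one hk
  have h2 : orderOf a' ∣ orderOf α := ind_orderOf_dvd (projHom θ P') hπ hind
  have h3 : (orderOf a').Coprime (p ^ k) := (hαp.coprime_dvd_left h2).pow_right k
  have h4 : orderOf a' = 1 := Nat.Coprime.eq_one_of_dvd h3 h1
  have h5 : a' = 1 := orderOf_eq_one_iff.mp h4
  -- `α` acts trivially modulo the kernel
  set N : Subgroup ↥(preimageAlong θ P') := (kerAlong θ).subgroupOf (preimageAlong θ P') with hN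
  have hstep : ∀ x ∈ (⊤ : Subgroup ↥(preimageAlong θ P')), x⁻¹ * α x ∈ N := by
    intro x _
    rw [hN, Subgroup.mem_subgroupOf]
    have h6 : projHom θ P' (x⁻¹ * α x) = 1 := by
      rw [map_mul, map_inv, hind, h5]
      simp
    have h7 : θ ⟨((x⁻¹ * α x : ↥(preimageAlong θ P')) : Ω), hPS (SetLike.coe_mem _)⟩ = 1 := by
      rw [← projHom_coe, h6]
      rfl
    exact (mem_kerAlong θ _).mp h7
  have hfixN : ∀ x ∈ N, (α ^ 1) x = x := by
    intro x hx
    rw [pow_one]
    exact hfix x (Subgroup.mem_subgroupOf.mp hx)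
  have hfinN : Finite ↥N := inferInstance
  have h8 := stab_step (le_top : N ≤ ⊤) hstep 1 hfixN
  rw [one_mul] at h8
  have h9 : α ^ Nat.card N = 1 := by
    ext x
    exact congrArg Subtype.val (h8 x (Subgroup.mem_top x))
  have hNp : IsPGroup p N := (hS.to_le hPS).to_subgroup N
  obtain ⟨j, hj⟩ := hNp.exists_card_eq
  rw [hj] at h9
  have h10 : orderOf α ∣ p ^ j := orderOf_dvd_of_pow_eq_one h9
  have h11 : orderOf α = 1 := Nat.Coprime.eq_one_of_dvd (hαp.pow_right j) h10
  exact orderOf_eq_one_iff.mp h11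

/-- The automorphisms in the system fixing the kernel pointwise. -/
def fixKer (F : FusionSystem S) (θ : S →* Ω') (P : Subgroup Ω) : Subgroup (MulAut ↥P) where
  carrier := {α | α ∈ F.autGroup P ∧ ∀ y : ↥P, (y : Ω) ∈ kerAlong θ → α y = y}
  one_mem' := ⟨one_mem _, fun y _ => rfl⟩
  mul_mem' := fun {a b} ha hb => ⟨mul_mem ha.1 hb.1, fun y hy => by rw [MulAut.mul_apply, hb.2 y hy, ha.2 y hy]⟩
  inv_mem' := fun {a} ha => ⟨inv_mem ha.1, fun y hy => by
    have h := ha.2 y hy
    calc a⁻¹ y = a⁻¹ (a y) := by rw [h]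
      _ = y := by simp⟩

theorem mem_fixKer (F : FusionSystem S) (θ : S →* Ω') (P : Subgroup Ω) (α : MulAut ↥P) :
    α ∈ fixKer F θ P ↔ α ∈ F.autGroup P ∧ ∀ y : ↥P, (y : Ω) ∈ kerAlong θ → α y = y := Iff.rfl

theorem fixKer_normal [Finite ↥S] (F : FusionSystem S) (E : FusionSystem S') (θ : S →* Ω')
    (hθ : F.IsSurjectiveMorphism E θ) {P : Subgroup Ω} (hPS : P ≤ S) :
    ((fixKer F θ P).subgroupOf (F.autGroup P)).Normal := by
  have hsc := kerAlong_stronglyClosed F E θ hθ
  constructor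
  rintro ⟨α, hαA⟩ hα ⟨γ, hγ⟩
  rw [Subgroup.mem_subgroupOf] at hα ⊢
  refine ⟨(F.autGroup P).mul_mem ((F.autGroup P).mul_mem hγ hαA) ((F.autGroup P).inv_mem hγ), fun y hy => ?_⟩
  show (γ * α * γ⁻¹) y = y
  have h1 := map_aut_eq_of_stronglyClosed F hsc hPS ((F.autGroup P).inv_mem hγ)
  have h2 : γ⁻¹ y ∈ (kerAlong θ).subgroupOf P := by
    rw [← h1]
    exact Subgroup.mem_map_of_mem _ (Subgroup.mem_subgroupOf.mpr hy)
  rw [MulAut.mul_apply, MulAut.mul_apply, hα.2 _ (Subgroup.mem_subgroupOf.mp h2), MulAut.apply_inv_self]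

/-- C2: the automorphisms fixing the kernel pointwise form a `p`-group, if the image system is inner. -/
theorem fixKer_isPGroup [Finite ↥S] {p : ℕ} [Fact p.Prime] (hS : IsPGroup p S) (hS' : IsPGroup p S')
    (F : FusionSystem S) (E : FusionSystem S') (θ : S →* Ω') (hθ : F.IsSurjectiveMorphism E θ)
    (hE : ∀ P, E.Hom P = (innerFusionSystem S').Hom P) {P' : Subgroup Ω'} (hP' : P' ≤ S') :
    IsPGroup p (fixKer F θ (preimageAlong θ P')) := by
  have hPS : preimageAlong θ P' ≤ S := preimageAlong_le θ P'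
  have hfinP : Finite ↥(preimageAlong θ P') := finite_of_le hPS
  have hp : p.Prime := Fact.out
  rintro ⟨α, hα⟩
  obtain ⟨k, m, hm, hkm⟩ := Nat.exists_eq_pow_mul_and_not_dvd (orderOf_pos α).ne' p hp.ne_one
  refine ⟨k, Subtype.ext ?_⟩
  show α ^ p ^ k = 1
  have hβ : α ^ p ^ k ∈ fixKer F θ (preimageAlong θ P') := Subgroup.pow_mem _ hα _
  have h1 : (α ^ p ^ k) ^ m = 1 := by
    rw [← pow_mul, ← hkm, pow_orderOf_eq_one]
  have h2 : orderOf (α ^ p ^ k) ∣ m := orderOf_dvd_of_pow_eq_one h1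
  have h3 : m.Coprime p := ((Nat.Prime.coprime_iff_not_dvd hp).mpr hm).symm
  exact eq_one_of_fix_ker hS hS' F E θ hθ hE hP' hβ.1 hβ.2 (h3.coprime_dvd_left h2)

/-- C3: elements of `S` normalizing a centric radical full preimage and centralizing the kernel lie in it. -/
theorem mem_of_centralizes_ker [Finite ↥S] {p : ℕ} [Fact p.Prime] (hS : IsPGroup p S) (hS' : IsPGroup p S')
    (F : FusionSystem S) (E : FusionSystem S') (θ : S →* Ω') (hθ : F.IsSurjectiveMorphism E θ)
    (hE : ∀ P, E.Hom P = (innerFusionSystem S').Hom P) {P' : Subgroup Ω'} (hP' : P' ≤ S')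
    (hc : F.IsCentric (preimageAlong θ P')) (hr : F.IsRadical p (preimageAlong θ P')) {c : Ω}
    (hcS : c ∈ S) (hcN : c ∈ Subgroup.normalizer ((preimageAlong θ P' : Subgroup Ω) : Set Ω))
    (hcC : ∀ x ∈ kerAlong θ, x * c = c * x) : c ∈ preimageAlong θ P' := by
  have hPS : preimageAlong θ P' ≤ S := preimageAlong_le θ P'
  apply mem_of_normalizerMonoidHom_mem_inn F hc hcS hcN
  have hK := le_inn_of_radical F hr (fixKer F θ (preimageAlong θ P')) (fun α hα => hα.1)
    (fixKer_normal F E θ hθ hPS) (fixKer_isPGroup hS hS' F E θ hθ hE hP')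
  apply hK
  refine ⟨autInducedBy_le_autGroup F hPS (normalizerMonoidHom_mem_autInducedBy hcS hcN), fun y hy => ?_⟩
  apply Subtype.ext
  show c * (y : Ω) * c⁻¹ = y
  rw [← hcC _ hy]
  group

theorem kerAlong_eq (θ : S →* Ω') {Q : Subgroup Ω} (hQS : Q ≤ S) (hker : ∀ s : S, θ s = 1 ↔ (s : Ω) ∈ Q) :
    kerAlong θ = Q := by
  ext y
  constructor
  · intro hy
    have hyS := kerAlong_le θ hy
    exact (hker ⟨y, hyS⟩).mp ((mem_kerAlong θ ⟨y, hyS⟩).mpr hy)
  · intro hy
    exact (mem_kerAlong θ ⟨y, hQS hy⟩).mp ((hker ⟨y, hQS hy⟩).mpr hy)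

/-- Step C: if the quotient by a normal subgroup `Q` is inner then `Q C_S(Q)` is normal in the system. -/
theorem isNormal_sup_centralizerIn [Finite ↥S] {p : ℕ} [Fact p.Prime] (hS : IsPGroup p S) (hS' : IsPGroup p S')
    (F : FusionSystem S) (hF : F.IsSaturated p) (E : FusionSystem S') (θ : S →* Ω')
    (hθ : F.IsSurjectiveMorphism E θ) (hE : ∀ P, E.Hom P = (innerFusionSystem S').Hom P)
    {Q : Subgroup Ω} (hQ : F.IsNormal Q) (hker : ∀ s : S, θ s = 1 ↔ (s : Ω) ∈ Q) :
    F.IsNormal (Q ⊔ centralizerIn S Q) := by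
  have hQS : Q ≤ S := hQ.1
  have hkerQ := kerAlong_eq θ hQS hker
  have hCS : centralizerIn S Q ≤ S := centralizerIn_le S Q
  have hCsc := centralizerIn_stronglyClosed_of_isNormal F hQ
  have hQsc := stronglyClosed_of_isNormal F hQ
  have hinv : ∀ P : Subgroup Ω, P ≤ S → Q ≤ P → centralizerIn S Q ≤ P → ∀ α ∈ F.autGroup P,
      ((Q ⊔ centralizerIn S Q).subgroupOf P).map α.toMonoidHom = (Q ⊔ centralizerIn S Q).subgroupOf P := by
    intro P hPS hQP hCP α hα
    rw [Subgroup.subgroupOf_sup hQP hCP, Subgroup.map_sup, map_aut_eq_of_stronglyClosed F hQsc hPS hα,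
      map_aut_eq_of_stronglyClosed F hCsc hPS hα]
  apply isNormal_of_forall_aut hS F hF
  intro P hP
  rcases hP with rfl | hP
  · exact ⟨sup_le hQS hCS, hinv P le_rfl hQS hCS⟩
  · have hc := hP.1
    have hr := radical_of_essential hS F P hP
    have hQP := le_of_isNormal_of_centric_radical hS F hQ hc hr
    have hPS : P ≤ S := hc.1
    have hpre : preimageAlong θ (imageAlong θ P) = P := by
      rw [preimageAlong_imageAlong θ hQS hker hPS]
      exact sup_eq_left.mpr hQP
    have hP'S' : imageAlong θ P ≤ S' := by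
      intro z hz
      obtain ⟨s, -, rfl⟩ := (mem_imageAlong_iff θ P z).mp hz
      exact hθ.1.1 s
    have hCP : centralizerIn S Q ≤ P := by
      by_contra hCP
      have hTS : P ⊔ centralizerIn S Q ≤ S := sup_le hPS hCS
      have hfinT : Finite ↥(P ⊔ centralizerIn S Q) := finite_of_le hTS
      have hne : P ≠ P ⊔ centralizerIn S Q := by
        intro h
        apply hCP
        rw [h]
        exact le_sup_right
      obtain ⟨g, hgN, hgP⟩ := exists_mem_normalizerIn_not_mem (hS.to_le hTS) (le_sup_left : P ≤ P ⊔ centralizerIn S Q) hne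
      have hLE : P ≤ Subgroup.normalizer ((centralizerIn S Q : Subgroup Ω) : Set Ω) :=
        hPS.trans (le_normalizer_of_stronglyClosed F hCsc)
      have hg : g ∈ ((P ⊔ centralizerIn S Q : Subgroup Ω) : Set Ω) := hgN.1
      rw [Subgroup.coe_mul_of_left_le_normalizer_right P _ hLE] at hg
      obtain ⟨x, hx, c, hcC, rfl⟩ := Set.mem_mul.mp hg
      have hcN : c ∈ Subgroup.normalizer (P : Set Ω) := by
        have h1 : c = x⁻¹ * (x * c) := by group
        rw [h1]
        exact Subgroup.mul_mem _ (Subgroup.inv_mem _ (Subgroup.le_normalizer hx)) hgN.2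
      have hcP : c ∉ P := fun h => hgP (P.mul_mem hx h)
      apply hcP
      obtain ⟨hcS, hcc⟩ := mem_centralizerIn_iff.mp hcC
      have hcN' : c ∈ Subgroup.normalizer ((preimageAlong θ (imageAlong θ P) : Subgroup Ω) : Set Ω) := by
        rw [hpre]; exact hcN
      have hc' : F.IsCentric (preimageAlong θ (imageAlong θ P)) := by rw [hpre]; exact hc
      have hr' : F.IsRadical p (preimageAlong θ (imageAlong θ P)) := by rw [hpre]; exact hr
      have := mem_of_centralizes_ker hS hS' F E θ hθ hE hP'S' hc' hr' hcS hcN'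
        (fun x hx => hcc x (hkerQ ▸ hx))
      rw [hpre] at this
      exact this
    exact ⟨sup_le hQP hCP, hinv P hPS hQP hCP⟩

/-- If the quotient by the core is inner, then the core is centric. -/
theorem core_isCentric_of_factor_inner [Finite ↥S] {p : ℕ} [Fact p.Prime] (hS : IsPGroup p S) (hS' : IsPGroup p S')
    (F : FusionSystem S) (hF : F.IsSaturated p) (E : FusionSystem S') (θ : S →* Ω')
    (hθ : F.IsSurjectiveMorphism E θ) (hE : ∀ P, E.Hom P = (innerFusionSystem S').Hom P)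
    (hker : ∀ s : S, θ s = 1 ↔ (s : Ω) ∈ F.core) : F.IsCentric F.core := by
  have hQ := core_isNormal F
  have h1 := isNormal_sup_centralizerIn hS hS' F hF E θ hθ hE hQ hker
  have h2 : F.core ⊔ centralizerIn S F.core ≤ F.core := le_sSup h1
  exact isCentric_of_isNormal_of_centralizerIn_le F hQ (le_sup_right.trans h2)

end StepC

end Cfsg.Agent.Lib.Helper26.GT
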