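import Cfsg.Agent.Lib.Helper26.FSBasic
set_option autoImplicit false

/-!
Subgroups normal / central in a fusion system (helper26's library).
-/

namespace Cfsg.Agent.Lib.Helper26

open Cfsg Cfsg.FusionSystem

variable {Ω : Type*} [Group Ω] {S : Subgroup Ω}

/-- The automorphism of `Q` induced by an injective map `ψ` on `R ≥ Q` with `ψ(Q) = Q`. -/
noncomputable def restrictAut {R Q : Subgroup Ω} (ψ : R →* Ω) (hinj : Function.Injective ψ) (hQR : Q ≤ R)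
    (h : (Q.subgroupOf R).map ψ = Q) : MulAut Q :=
  MulEquiv.ofBijective
    ((ψ.comp (Subgroup.inclusion hQR)).codRestrict Q (fun q => by
      have : ψ (Subgroup.inclusion hQR q) ∈ (Q.subgroupOf R).map ψ :=
        ⟨Subgroup.inclusion hQR q, by simp [Subgroup.mem_subgroupOf], rfl⟩
      rw [h] at this
      exact this))
    (by
      constructor
      · intro a b hab
        have h1 : ψ (Subgroup.inclusion hQR a) = ψ (Subgroup.inclusion hQR b) := congrArg Subtype.val hab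
        exact Subgroup.inclusion_injective hQR (hinj h1)
      · intro q
        have hq : (q : Ω) ∈ (Q.subgroupOf R).map ψ := by rw [h]; exact q.2
        obtain ⟨r, hr, hrq⟩ := hq
        refine ⟨⟨r, hr⟩, ?_⟩
        apply Subtype.ext
        show ψ (Subgroup.inclusion hQR ⟨r, hr⟩) = q
        rw [← hrq]
        rfl)

theorem restrictAut_apply {R Q : Subgroup Ω} (ψ : R →* Ω) (hinj : Function.Injective ψ) (hQR : Q ≤ R)
    (h : (Q.subgroupOf R).map ψ = Q) (q : Q) :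
    ((restrictAut ψ hinj hQR h q : Q) : Ω) = ψ (Subgroup.inclusion hQR q) := rfl

theorem isNormal_le (F : FusionSystem S) {Q : Subgroup Ω} (h : F.IsNormal Q) : Q ≤ S := h.1

theorem isNormal_bot (F : FusionSystem S) : F.IsNormal ⊥ := by
  refine ⟨bot_le, fun P φ hφ => ?_⟩
  have hle : P ⊔ ⊥ ≤ P := by simp
  refine ⟨φ.comp (Subgroup.inclusion hle), inclusion_comp_mem F hle hφ, fun x => ?_, ?_⟩
  · show φ _ = φ x
    congr 1
  · rw [Subgroup.bot_subgroupOf, Subgroup.map_bot]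

theorem isCentral_bot (F : FusionSystem S) : F.IsCentral ⊥ := by
  refine ⟨bot_le, fun P φ hφ => ?_⟩
  have hle : P ⊔ ⊥ ≤ P := by simp
  refine ⟨φ.comp (Subgroup.inclusion hle), inclusion_comp_mem F hle hφ, fun x => ?_, ?_⟩
  · show φ _ = φ x
    congr 1
  · rintro ⟨x, hx⟩
    have : x = 1 := Subgroup.mem_bot.mp hx
    subst this
    show φ _ = 1
    exact map_one φ

theorem map_subgroupOf_of_extends {R₁ R₂ A : Subgroup Ω} (h12 : R₁ ≤ R₂) (hA : A ≤ R₁) (ψ₁ : R₁ →* Ω)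
    (ψ₂ : R₂ →* Ω) (hext : ∀ x : R₁, ψ₂ (Subgroup.inclusion h12 x) = ψ₁ x) :
    (A.subgroupOf R₂).map ψ₂ = (A.subgroupOf R₁).map ψ₁ := by
  ext z
  constructor
  · rintro ⟨y, hy, rfl⟩
    refine ⟨⟨y, hA hy⟩, hy, ?_⟩
    rw [← hext]
    rfl
  · rintro ⟨y, hy, rfl⟩
    exact ⟨Subgroup.inclusion h12 y, hy, hext y⟩

theorem map_subgroupOf_sup {R A B : Subgroup Ω} (hA : A ≤ R) (hB : B ≤ R) (ψ : R →* Ω) :
    ((A ⊔ B).subgroupOf R).map ψ = (A.subgroupOf R).map ψ ⊔ (B.subgroupOf R).map ψ := by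
  rw [Subgroup.subgroupOf_sup hA hB, Subgroup.map_sup]

/-- The join of two subgroups normal in the system is normal in the system. -/
theorem isNormal_sup (F : FusionSystem S) {Q₁ Q₂ : Subgroup Ω} (h₁ : F.IsNormal Q₁) (h₂ : F.IsNormal Q₂) :
    F.IsNormal (Q₁ ⊔ Q₂) := by
  refine ⟨sup_le h₁.1 h₂.1, fun P φ hφ => ?_⟩
  obtain ⟨ψ₁, hψ₁, hψ₁φ, hψ₁Q⟩ := h₁.2 P φ hφ
  obtain ⟨ψ₂, hψ₂, hψ₂ψ₁, hψ₂Q⟩ := h₂.2 (P ⊔ Q₁) ψ₁ hψ₁
  have hle : P ⊔ (Q₁ ⊔ Q₂) ≤ P ⊔ Q₁ ⊔ Q₂ := by rw [sup_assoc]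
  refine ⟨ψ₂.comp (Subgroup.inclusion hle), inclusion_comp_mem F hle hψ₂, fun x => ?_, ?_⟩
  · rw [← hψ₁φ x, ← hψ₂ψ₁]
    rfl
  · have e1 : ((Q₁ ⊔ Q₂).subgroupOf (P ⊔ (Q₁ ⊔ Q₂))).map (ψ₂.comp (Subgroup.inclusion hle)) =
        ((Q₁ ⊔ Q₂).subgroupOf (P ⊔ Q₁ ⊔ Q₂)).map ψ₂ :=
      (map_subgroupOf_of_extends hle le_sup_right _ ψ₂ (fun x => rfl)).symm
    have hQ₁ : Q₁ ≤ P ⊔ Q₁ ⊔ Q₂ := le_sup_right.trans le_sup_left
    have hQ₂ : Q₂ ≤ P ⊔ Q₁ ⊔ Q₂ := le_sup_right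
    rw [e1, map_subgroupOf_sup hQ₁ hQ₂, hψ₂Q,
      map_subgroupOf_of_extends le_sup_left le_sup_right ψ₁ ψ₂ hψ₂ψ₁, hψ₁Q]

theorem isCentral_le (F : FusionSystem S) {Q : Subgroup Ω} (h : F.IsCentral Q) : Q ≤ S := h.1

/-- The join of two subgroups central in the system is central in the system. -/
theorem isCentral_sup (F : FusionSystem S) {Q₁ Q₂ : Subgroup Ω} (h₁ : F.IsCentral Q₁) (h₂ : F.IsCentral Q₂) :
    F.IsCentral (Q₁ ⊔ Q₂) := by
  refine ⟨sup_le h₁.1 h₂.1, fun P φ hφ => ?_⟩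
  obtain ⟨ψ₁, hψ₁, hψ₁φ, hψ₁Q⟩ := h₁.2 P φ hφ
  obtain ⟨ψ₂, hψ₂, hψ₂ψ₁, hψ₂Q⟩ := h₂.2 (P ⊔ Q₁) ψ₁ hψ₁
  have hle : P ⊔ (Q₁ ⊔ Q₂) ≤ P ⊔ Q₁ ⊔ Q₂ := by rw [sup_assoc]
  refine ⟨ψ₂.comp (Subgroup.inclusion hle), inclusion_comp_mem F hle hψ₂, fun x => ?_, ?_⟩
  · rw [← hψ₁φ x, ← hψ₂ψ₁]
    rfl
  · -- the fixed points of `ψ₂` form a subgroup containing `Q₁` and `Q₂`
    have hQ₁ : Q₁ ≤ P ⊔ Q₁ ⊔ Q₂ := le_sup_right.trans le_sup_left
    have hQ₂ : Q₂ ≤ P ⊔ Q₁ ⊔ Q₂ := le_sup_right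
    let Fix : Subgroup Ω :=
      { carrier := {z | ∃ hz : z ∈ P ⊔ Q₁ ⊔ Q₂, ψ₂ ⟨z, hz⟩ = z}
        one_mem' := ⟨Subgroup.one_mem _, map_one ψ₂⟩
        mul_mem' := by
          rintro a b ⟨ha, ha'⟩ ⟨hb, hb'⟩
          refine ⟨Subgroup.mul_mem _ ha hb, ?_⟩
          have : (⟨a * b, Subgroup.mul_mem _ ha hb⟩ : ↥(P ⊔ Q₁ ⊔ Q₂)) = ⟨a, ha⟩ * ⟨b, hb⟩ := rfl
          rw [this, map_mul, ha', hb']
        inv_mem' := by
          rintro a ⟨ha, ha'⟩
          refine ⟨Subgroup.inv_mem _ ha, ?_⟩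
          have : (⟨a⁻¹, Subgroup.inv_mem _ ha⟩ : ↥(P ⊔ Q₁ ⊔ Q₂)) = ⟨a, ha⟩⁻¹ := rfl
          rw [this, map_inv, ha'] }
    have h1 : Q₁ ≤ Fix := by
      intro z hz
      refine ⟨hQ₁ hz, ?_⟩
      have hz' : z ∈ P ⊔ Q₁ := (le_sup_right : Q₁ ≤ P ⊔ Q₁) hz
      have := hψ₂ψ₁ ⟨z, hz'⟩
      have h3 := hψ₁Q ⟨z, hz⟩
      have h4 : ψ₂ ⟨z, hQ₁ hz⟩ = ψ₁ ⟨z, hz'⟩ := by rw [← this]; rfl
      rw [h4]
      exact h3
    have h2 : Q₂ ≤ Fix := by
      intro z hz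
      exact ⟨hQ₂ hz, hψ₂Q ⟨z, hz⟩⟩
    intro x
    obtain ⟨hx, hx'⟩ := (sup_le h1 h2) x.2
    exact hx'

/-- For finite `S`, there is a largest subgroup normal in the system. -/
theorem exists_largest_normal [Finite S] (F : FusionSystem S) :
    ∃ Q₀ : Subgroup Ω, F.IsNormal Q₀ ∧ ∀ Q, F.IsNormal Q → Q ≤ Q₀ := by
  have key : ∀ d : ℕ, ∀ Q : Subgroup Ω, F.IsNormal Q → Nat.card S - Nat.card Q = d →
      ∃ Q₀ : Subgroup Ω, F.IsNormal Q₀ ∧ ∀ Q, F.IsNormal Q → Q ≤ Q₀ := by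
    intro d
    induction d using Nat.strong_induction_on with
    | _ d ih =>
      intro Q hQ hd
      by_cases hmax : ∀ Q', F.IsNormal Q' → Q' ≤ Q
      · exact ⟨Q, hQ, hmax⟩
      · push Not at hmax
        obtain ⟨Q', hQ', hnle⟩ := hmax
        have hsup := isNormal_sup F hQ hQ'
        have hlt : Q < Q ⊔ Q' := lt_of_le_of_ne le_sup_left (fun h => hnle (h ▸ le_sup_right))
        have hfin : Finite ↥(Q ⊔ Q') := Finite.of_injective (Subgroup.inclusion hsup.1) (Subgroup.inclusion_injective _)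
        have hcard : Nat.card Q < Nat.card ↥(Q ⊔ Q') := by
          have hle := Subgroup.card_le_of_le hlt.le
          rcases hle.lt_or_eq with h | h
          · exact h
          · exfalso
            have : Q = Q ⊔ Q' := by
              apply Subgroup.eq_of_le_of_card_ge hlt.le
              exact h.ge
            exact hlt.ne this
        have hS : Nat.card ↥(Q ⊔ Q') ≤ Nat.card S := Subgroup.card_le_of_le hsup.1
        exact ih (Nat.card S - Nat.card ↥(Q ⊔ Q')) (by omega) (Q ⊔ Q') hsup rfl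
  exact key _ ⊥ (isNormal_bot F) rfl

theorem core_isNormal [Finite S] (F : FusionSystem S) : F.IsNormal F.core := by
  obtain ⟨Q₀, hQ₀, hmax⟩ := exists_largest_normal F
  have : F.core = Q₀ := by
    apply le_antisymm
    · exact sSup_le hmax
    · exact le_sSup hQ₀
  rw [this]
  exact hQ₀

/-- For finite `S`, there is a largest subgroup central in the system. -/
theorem exists_largest_central [Finite S] (F : FusionSystem S) :
    ∃ Q₀ : Subgroup Ω, F.IsCentral Q₀ ∧ ∀ Q, F.IsCentral Q → Q ≤ Q₀ := by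
  have key : ∀ d : ℕ, ∀ Q : Subgroup Ω, F.IsCentral Q → Nat.card S - Nat.card Q = d →
      ∃ Q₀ : Subgroup Ω, F.IsCentral Q₀ ∧ ∀ Q, F.IsCentral Q → Q ≤ Q₀ := by
    intro d
    induction d using Nat.strong_induction_on with
    | _ d ih =>
      intro Q hQ hd
      by_cases hmax : ∀ Q', F.IsCentral Q' → Q' ≤ Q
      · exact ⟨Q, hQ, hmax⟩
      · push Not at hmax
        obtain ⟨Q', hQ', hnle⟩ := hmax
        have hsup := isCentral_sup F hQ hQ'
        have hlt : Q < Q ⊔ Q' := lt_of_le_of_ne le_sup_left (fun h => hnle (h ▸ le_sup_right))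
        have hfin : Finite ↥(Q ⊔ Q') := Finite.of_injective (Subgroup.inclusion hsup.1) (Subgroup.inclusion_injective _)
        have hcard : Nat.card Q < Nat.card ↥(Q ⊔ Q') := by
          have hle := Subgroup.card_le_of_le hlt.le
          rcases hle.lt_or_eq with h | h
          · exact h
          · exfalso
            have : Q = Q ⊔ Q' := by
              apply Subgroup.eq_of_le_of_card_ge hlt.le
              exact h.ge
            exact hlt.ne this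
        have hS : Nat.card ↥(Q ⊔ Q') ≤ Nat.card S := Subgroup.card_le_of_le hsup.1
        exact ih (Nat.card S - Nat.card ↥(Q ⊔ Q')) (by omega) (Q ⊔ Q') hsup rfl
  exact key _ ⊥ (isCentral_bot F) rfl

theorem center_isCentral [Finite S] (F : FusionSystem S) : F.IsCentral F.center := by
  obtain ⟨Q₀, hQ₀, hmax⟩ := exists_largest_central F
  have : F.center = Q₀ := by
    apply le_antisymm
    · exact sSup_le hmax
    · exact le_sSup hQ₀
  rw [this]
  exact hQ₀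

/-- A characteristic subgroup of a subgroup normal in the system is normal in the system. -/
theorem isNormal_of_characteristic (F : FusionSystem S) (Q U : Subgroup Ω) (hQ : F.IsNormal Q) (hUQ : U ≤ Q)
    (hU : (U.subgroupOf Q).Characteristic) : F.IsNormal U := by
  refine ⟨hUQ.trans hQ.1, fun P φ hφ => ?_⟩
  obtain ⟨ψ, hψ, hψφ, hψQ⟩ := hQ.2 P φ hφ
  have hle : P ⊔ U ≤ P ⊔ Q := sup_le_sup_left hUQ P
  refine ⟨ψ.comp (Subgroup.inclusion hle), inclusion_comp_mem F hle hψ, fun x => ?_, ?_⟩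
  · rw [← hψφ x]
    rfl
  · have e1 : (U.subgroupOf (P ⊔ U)).map (ψ.comp (Subgroup.inclusion hle)) = (U.subgroupOf (P ⊔ Q)).map ψ :=
      (map_subgroupOf_of_extends hle le_sup_right _ ψ (fun x => rfl)).symm
    rw [e1]
    let α : MulAut Q := restrictAut ψ (F.injective_of_mem hψ) le_sup_right hψQ
    have hα : (U.subgroupOf Q).map α.toMonoidHom = U.subgroupOf Q :=
      Subgroup.characteristic_iff_map_eq.mp hU α
    ext z
    constructor
    · rintro ⟨y, hy, rfl⟩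
      have hyQ : (y : Ω) ∈ Q := hUQ hy
      have : α ⟨y, hyQ⟩ ∈ (U.subgroupOf Q).map α.toMonoidHom := ⟨⟨y, hyQ⟩, hy, rfl⟩
      rw [hα] at this
      exact this
    · intro hz
      have hzQ : z ∈ Q := hUQ hz
      have : (⟨z, hzQ⟩ : Q) ∈ (U.subgroupOf Q).map α.toMonoidHom := by rw [hα]; exact hz
      obtain ⟨w, hw, hwz⟩ := this
      refine ⟨Subgroup.inclusion le_sup_right w, hw, ?_⟩
      have := congrArg Subtype.val hwz
      exact this

end Cfsg.Agent.Lib.Helper26
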