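import Cfsg.Agent.Lib.Helper26.FSChain

/-!
S5125: a strongly closed `Q` with `Q₁ ⊴ F`, `Q/Q₁` abelian and `Aut_F(Q₁)` a `p`-group is normal in `F`.
-/

set_option autoImplicit false

namespace Cfsg.Agent.Lib.Helper26

open Cfsg Cfsg.FusionSystem
open scoped commutatorElement

variable {Ω : Type*} [Group Ω] {S : Subgroup Ω}

theorem aut_pow_restrict {P Q₁ : Subgroup Ω} (hle : Q₁ ≤ P) (α : MulAut P) (β : MulAut Q₁)
    (h : ∀ y : Q₁, ((β y : Q₁) : Ω) = ((α (Subgroup.inclusion hle y) : P) : Ω)) (j : ℕ) :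
    ∀ y : Q₁, (((β ^ j) y : Q₁) : Ω) = (((α ^ j) (Subgroup.inclusion hle y) : P) : Ω) := by
  induction j with
  | zero => intro y; rfl
  | succ j ih =>
    intro y
    have e : Subgroup.inclusion hle ((β ^ j) y) = (α ^ j) (Subgroup.inclusion hle y) :=
      Subtype.ext (ih y)
    rw [pow_succ', pow_succ', MulAut.mul_apply, MulAut.mul_apply, h, e]

theorem isNormal_of_abelian_quotient [Finite S] {p : ℕ} [Fact p.Prime] (hS : IsPGroup p S) (F : FusionSystem S)
    (hF : F.IsSaturated p) (Q Q₁ : Subgroup Ω) (hQ : F.StronglyClosed Q) (hQ₁Q : Q₁ ≤ Q) (hQ₁ : F.IsNormal Q₁)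
    (hab : ⁅Q, Q⁆ ≤ Q₁) (hAut : IsPGroup p ↥(F.autGroup Q₁)) : F.IsNormal Q := by
  have hQ₁sc := stronglyClosed_of_isNormal F hQ₁
  have hQS_comm : ⁅Q, S⁆ ≤ Q := commutator_le_of_le_normalizer (le_normalizer_of_stronglyClosed F hQ)
  let Qn : ℕ → Subgroup Ω := fun i => if i = 0 then Q₁ else if i = 1 then Q else S
  have h0 : Qn 0 = Q₁ := rfl
  have h1 : Qn 1 = Q := rfl
  have h2 : ∀ i, 2 ≤ i → Qn i = S := by
    intro i hi
    show (if i = 0 then Q₁ else if i = 1 then Q else S) = S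
    rw [if_neg (by omega), if_neg (by omega)]
  apply isNormal_of_nat_chain hS F hF Q Qn ?_ ?_ ?_ 2 (h2 2 le_rfl) hQ ?_
  · apply monotone_nat_of_le_succ
    intro i
    rcases i with _ | _ | i
    · rw [h0, h1]; exact hQ₁Q
    · rw [h1, h2 2 le_rfl]; exact hQ.1
    · rw [h2 _ (by omega), h2 _ (by omega)]
  · intro i
    rcases i with _ | _ | i
    · exact hQ₁sc
    · exact hQ
    · rw [h2 _ (by omega)]; exact stronglyClosed_top F
  · intro i
    rcases i with _ | _ | i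
    · rw [h0, h1]; exact hab
    · rw [h1, h2 2 le_rfl]; exact hQS_comm
    · rw [h2 _ (by omega), h2 _ (by omega)]; exact hQS_comm.trans hQ.1
  · intro P hc hr α hα
    rw [h0]
    have hPS : P ≤ S := hc.1
    have hQ₁P : Q₁ ≤ P := le_of_isNormal_of_centric_radical hS F hQ₁ hc hr
    have hαF := (mem_autGroup_iff F hPS α).mp hα
    have hmap : (Q₁.subgroupOf P).map (P.subtype.comp α.toMonoidHom) = Q₁ := by
      rw [← Subgroup.map_map, map_aut_eq_of_stronglyClosed F hQ₁sc hPS hα]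
      exact Subgroup.map_subgroupOf_eq_of_le hQ₁P
    set β := restrictAut (P.subtype.comp α.toMonoidHom) (F.injective_of_mem hαF) hQ₁P hmap with hβ
    have hβF : β ∈ F.autGroup Q₁ := by
      rw [mem_autGroup_iff F hQ₁.1]
      exact inclusion_comp_mem F hQ₁P hαF
    obtain ⟨k, hk⟩ := hAut ⟨β, hβF⟩
    have hk' : β ^ (p ^ k) = 1 := congrArg Subtype.val hk
    refine ⟨k, fun x hx => ?_⟩
    have := aut_pow_restrict hQ₁P α β (fun y => rfl) (p ^ k) ⟨x, hx⟩
    rw [hk'] at this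
    apply Subtype.ext
    exact this.symm

end Cfsg.Agent.Lib.Helper26
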