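import Cfsg.Agent.Lib.Helper26.FSFactorHyp
import Cfsg.Agent.Lib.Helper26.FSNormalExt

/-!
S5198: elements of the hyperfocal subgroup act on a strongly closed subgroup `T` as elements of
`O^p(Aut_F(T)) Inn(T)`.
-/

set_option autoImplicit false

namespace Cfsg.Agent.Lib.Helper26

open Cfsg Cfsg.FusionSystem

/-- There is `m ≡ 1 (mod n)` with `b ^ m` of order prime to `p`, for `n` prime to `p`. -/
theorem exists_pow_pprime {A : Type*} [Group A] [Finite A] (p : ℕ) [hp : Fact p.Prime] (b : A) (n : ℕ)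
    (hn : Nat.Coprime n p) : ∃ m : ℕ, m ≡ 1 [MOD n] ∧ Nat.Coprime (orderOf (b ^ m)) p := by
  obtain ⟨k, s, hs, hks⟩ := Nat.exists_eq_pow_mul_and_not_dvd (orderOf_pos b).ne' p hp.out.ne_one
  have hcop : Nat.Coprime n (p ^ k) := Nat.Coprime.pow_right k hn
  obtain ⟨m, hm1, hm2⟩ := Nat.chineseRemainder hcop 1 0
  refine ⟨m, hm1, ?_⟩
  have hdvd : p ^ k ∣ m := (Nat.modEq_zero_iff_dvd).mp hm2
  have h1 : orderOf (b ^ m) ∣ s := by
    apply orderOf_dvd_of_pow_eq_one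
    rw [← pow_mul]
    apply orderOf_dvd_iff_pow_eq_one.mp
    rw [hks]
    exact Nat.mul_dvd_mul hdvd dvd_rfl
  have h2 : Nat.Coprime s p := ((Nat.Prime.coprime_iff_not_dvd hp.out).mpr hs).symm
  exact Nat.Coprime.coprime_dvd_left h1 h2

section

variable {Ω : Type*} [Group Ω] {S : Subgroup Ω}

/-- The elements of the ambient group acting on `T` as an element of `B`. -/
def actSubgroup (T : Subgroup Ω) (B : Subgroup (MulAut T)) : Subgroup Ω where
  carrier := {x | ∃ α ∈ B, ∀ t : T, ((α t : T) : Ω) = x * t * x⁻¹}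
  one_mem' := ⟨1, B.one_mem, fun t => by simp⟩
  mul_mem' := by
    rintro x y ⟨α, hα, hαx⟩ ⟨β, hβ, hβy⟩
    refine ⟨α * β, B.mul_mem hα hβ, fun t => ?_⟩
    rw [MulAut.mul_apply, hαx, hβy]
    group
  inv_mem' := by
    rintro x ⟨α, hα, hαx⟩
    refine ⟨α⁻¹, B.inv_mem hα, fun t => ?_⟩
    have h := hαx (α⁻¹ t)
    rw [MulAut.apply_inv_self] at h
    calc ((α⁻¹ t : T) : Ω) = x⁻¹ * (x * ((α⁻¹ t : T) : Ω) * x⁻¹) * x := by group
      _ = x⁻¹ * t * x⁻¹⁻¹ := by rw [← h, inv_inv]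

theorem mem_actSubgroup {T : Subgroup Ω} {B : Subgroup (MulAut T)} {x : Ω} :
    x ∈ actSubgroup T B ↔ ∃ α ∈ B, ∀ t : T, ((α t : T) : Ω) = x * t * x⁻¹ := Iff.rfl

/-- The acting group `O^p(Aut_F(T)) Inn(T)`. -/
def hypActGroup (F : FusionSystem S) (p : ℕ) (T : Subgroup Ω) : Subgroup (MulAut T) :=
  (pResidual p ↥(F.autGroup T)).map (F.autGroup T).subtype ⊔ Inn ↥T

theorem mem_actSubgroup_of_mem (F : FusionSystem S) (p : ℕ) {T : Subgroup Ω} {t₀ : Ω} (ht₀ : t₀ ∈ T) :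
    t₀ ∈ actSubgroup T (hypActGroup F p T) := by
  refine ⟨MulAut.conj ⟨t₀, ht₀⟩, Subgroup.mem_sup_right ⟨⟨t₀, ht₀⟩, rfl⟩, fun t => ?_⟩
  rfl

/-- Powers of an automorphism congruent to `g` modulo `T` are congruent to the powers of `g`. -/
theorem pow_congr_mod {P R T : Subgroup Ω} (hPR : P ≤ R) (hTR : T ≤ R) (g : MulAut P) (β : MulAut R)
    (hβT : ∀ y : R, (y : Ω) ∈ T → ((β y : R) : Ω) ∈ T)
    (h : ∀ u : P, ((g u : P) : Ω)⁻¹ * ((β (Subgroup.inclusion hPR u) : R) : Ω) ∈ T) (m : ℕ) :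
    ∀ u : P, (((g ^ m) u : P) : Ω)⁻¹ * (((β ^ m) (Subgroup.inclusion hPR u) : R) : Ω) ∈ T := by
  induction m with
  | zero => intro u; simp
  | succ m ih =>
    intro u
    rw [pow_succ', pow_succ', MulAut.mul_apply, MulAut.mul_apply]
    have h1 := ih u
    have h2 := h ((g ^ m) u)
    -- β (β^m u) = β (g^m u * t) with t ∈ T
    set t : R := (Subgroup.inclusion hPR ((g ^ m) u))⁻¹ * (β ^ m) (Subgroup.inclusion hPR u) with ht
    have htT : (t : Ω) ∈ T := h1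
    have e : (β ^ m) (Subgroup.inclusion hPR u) = Subgroup.inclusion hPR ((g ^ m) u) * t := by
      rw [ht]; group
    rw [e, map_mul]
    have h3 := hβT t htT
    have e2 : ((g ((g ^ m) u) : P) : Ω)⁻¹ *
        ((β (Subgroup.inclusion hPR ((g ^ m) u)) * β t : R) : Ω) =
        (((g ((g ^ m) u) : P) : Ω)⁻¹ * ((β (Subgroup.inclusion hPR ((g ^ m) u)) : R) : Ω)) * ((β t : R) : Ω) := by
      rw [Subgroup.coe_mul, mul_assoc]
    rw [e2]
    exact T.mul_mem h2 h3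

/-- Generator lemma. -/
theorem hyp_gen_mem_actSubgroup [Finite S] {p : ℕ} [Fact p.Prime] (hS : IsPGroup p S) (F : FusionSystem S)
    (hF : F.IsSaturated p) (T : Subgroup Ω) (hT : F.StronglyClosed T) {P : Subgroup Ω} (hPS : P ≤ S)
    (g : F.autGroup P) (hg : Nat.Coprime (orderOf g) p) (y : P) :
    (y : Ω)⁻¹ * (((g : MulAut P) y : P) : Ω) ∈ actSubgroup T (hypActGroup F p T) := by
  have hgF := (mem_autGroup_iff F hPS (g : MulAut P)).mp g.2
  obtain ⟨ψ, hψ, hψx⟩ := extMod_all hS F hF hT P _ hgF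
  have hRS : P ⊔ T ≤ S := sup_le hPS hT.1
  have hfinR : Finite (P ⊔ T : Subgroup Ω) := finite_of_le hRS
  have hnormT := le_normalizer_of_stronglyClosed F hT
  have hψR : ∀ z : (P ⊔ T : Subgroup Ω), ψ z ∈ P ⊔ T := by
    intro z
    obtain ⟨u, t, rfl⟩ := exists_mul_of_mem_sup' (hPS.trans hnormT) z
    rw [map_mul]
    apply Subgroup.mul_mem
    · have h1 := hψx u
      have h2 : ψ (Subgroup.inclusion le_sup_left u) =
          (((g : MulAut P) u : P) : Ω) * ((((g : MulAut P) u : P) : Ω)⁻¹ * ψ (Subgroup.inclusion le_sup_left u)) := by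
        group
      rw [h2]
      exact Subgroup.mul_mem _ (Subgroup.mem_sup_left (SetLike.coe_mem _)) (Subgroup.mem_sup_right h1)
    · exact Subgroup.mem_sup_right (apply_mem_of_stronglyClosed F hT hψ _ t.2)
  have hrange : ψ.range = P ⊔ T := range_eq_of_le ψ (F.injective_of_mem hψ) hψR
  let β₁ : MulAut (P ⊔ T : Subgroup Ω) := homEquiv F hψ hrange
  have hβ₁F : β₁ ∈ F.autGroup (P ⊔ T) := by
    rw [mem_autGroup_iff_isFIso F hRS]
    exact homEquiv_isFIso F hψ hrange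
  obtain ⟨m, hm1, hmcop⟩ := exists_pow_pprime p (⟨β₁, hβ₁F⟩ : F.autGroup (P ⊔ T)) (orderOf g) hg
  -- the `p'`-automorphism `β`
  set b : F.autGroup (P ⊔ T) := (⟨β₁, hβ₁F⟩ : F.autGroup (P ⊔ T)) ^ m with hb
  have hbcoe : ((b : F.autGroup (P ⊔ T)) : MulAut (P ⊔ T : Subgroup Ω)) = β₁ ^ m := rfl
  have hβ₁T : ∀ z : (P ⊔ T : Subgroup Ω), (z : Ω) ∈ T → ((β₁ z : (P ⊔ T : Subgroup Ω)) : Ω) ∈ T := by
    intro z hz
    exact apply_mem_of_stronglyClosed F hT hψ z hz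
  have hcongr := pow_congr_mod (le_sup_left : P ≤ P ⊔ T) (le_sup_right : T ≤ P ⊔ T) (g : MulAut P) β₁ hβ₁T
    (fun u => hψx u) m
  have hgm : (g : MulAut P) ^ m = (g : MulAut P) := by
    have h1 : g ^ m = g := by
      have : g ^ m = g ^ 1 := (pow_eq_pow_iff_modEq).mpr hm1
      rw [this, pow_one]
    have := congrArg Subtype.val h1
    exact this
  rw [hgm] at hcongr
  -- split the generator
  set y' : (P ⊔ T : Subgroup Ω) := Subgroup.inclusion le_sup_left y with hy'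
  have hsplit : (y : Ω)⁻¹ * (((g : MulAut P) y : P) : Ω) =
      ((y' : Ω)⁻¹ * (((β₁ ^ m) y' : (P ⊔ T : Subgroup Ω)) : Ω)) *
        ((((g : MulAut P) y : P) : Ω)⁻¹ * (((β₁ ^ m) y' : (P ⊔ T : Subgroup Ω)) : Ω))⁻¹ := by
    have : (y' : Ω) = y := rfl
    rw [this]
    group
  rw [hsplit]
  apply Subgroup.mul_mem
  · -- the main part
    have hbF := (mem_autGroup_iff F hRS (b : MulAut (P ⊔ T : Subgroup Ω))).mp b.2
    have hmapT : (T.subgroupOf (P ⊔ T)).map ((P ⊔ T).subtype.comp (b : MulAut (P ⊔ T : Subgroup Ω)).toMonoidHom) = T := by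
      rw [← Subgroup.map_map, map_aut_eq_of_stronglyClosed F hT hRS b.2]
      exact Subgroup.map_subgroupOf_eq_of_le le_sup_right
    set β₀ : MulAut T := restrictAut ((P ⊔ T).subtype.comp (b : MulAut (P ⊔ T : Subgroup Ω)).toMonoidHom)
      (F.injective_of_mem hbF) le_sup_right hmapT with hβ₀
    have hβ₀F : β₀ ∈ F.autGroup T := by
      rw [mem_autGroup_iff F hT.1]
      exact inclusion_comp_mem F le_sup_right hbF
    have hβ₀apply : ∀ t : T, ((β₀ t : T) : Ω) =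
        (((b : MulAut (P ⊔ T : Subgroup Ω)) (Subgroup.inclusion le_sup_right t) : (P ⊔ T : Subgroup Ω)) : Ω) :=
      fun t => rfl
    -- order of β₀ is prime to p
    have hβ₀ord : Nat.Coprime (orderOf (⟨β₀, hβ₀F⟩ : F.autGroup T)) p := by
      apply Nat.Coprime.coprime_dvd_left _ hmcop
      apply orderOf_dvd_of_pow_eq_one
      apply Subtype.ext
      show β₀ ^ orderOf b = 1
      ext t
      have h1 := aut_pow_restrict (le_sup_right : T ≤ P ⊔ T) (b : MulAut (P ⊔ T : Subgroup Ω)) β₀ hβ₀apply (orderOf b) t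
      have h2 : (b : MulAut (P ⊔ T : Subgroup Ω)) ^ orderOf b = 1 := by
        have := congrArg Subtype.val (pow_orderOf_eq_one b)
        exact this
      rw [h2] at h1
      exact h1
    have hβ₀res : (⟨β₀, hβ₀F⟩ : F.autGroup T) ∈ pResidual p ↥(F.autGroup T) := Subgroup.subset_closure hβ₀ord
    -- conjugation by y' on T
    have hy'S : (y' : Ω) ∈ S := hRS y'.2
    have hy'N : (y' : Ω) ∈ Subgroup.normalizer (T : Set Ω) := hnormT hy'S
    set cy : MulAut T := Subgroup.normalizerMonoidHom T ⟨(y' : Ω), hy'N⟩ with hcy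
    have hcyapply : ∀ t : T, ((cy t : T) : Ω) = (y' : Ω) * t * (y' : Ω)⁻¹ := fun t => rfl
    have hcyF : cy ∈ F.autGroup T := by
      apply autInducedBy_le_autGroup F hT.1
      rw [mem_autInducedBy_iff]
      exact ⟨(y' : Ω), hy'S, hcyapply⟩
    have hnormal := Cfsg.Agent.Lib.Helper8.pResidual_normal p ↥(F.autGroup T)
    have hconj : (⟨cy, hcyF⟩ : F.autGroup T)⁻¹ * ⟨β₀, hβ₀F⟩ * (⟨cy, hcyF⟩ : F.autGroup T)⁻¹⁻¹ ∈
        pResidual p ↥(F.autGroup T) := hnormal.conj_mem _ hβ₀res _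
    have hmem : (⟨cy, hcyF⟩ : F.autGroup T)⁻¹ * ⟨β₀, hβ₀F⟩ * (⟨cy, hcyF⟩ : F.autGroup T)⁻¹⁻¹ *
        (⟨β₀, hβ₀F⟩ : F.autGroup T)⁻¹ ∈ pResidual p ↥(F.autGroup T) :=
      Subgroup.mul_mem _ hconj (Subgroup.inv_mem _ hβ₀res)
    refine ⟨cy⁻¹ * β₀ * cy * β₀⁻¹, Subgroup.mem_sup_left ⟨_, hmem, ?_⟩, fun t => ?_⟩
    · simp
    · -- pointwise computation
      simp only [MulAut.mul_apply]
      set s : T := β₀⁻¹ t with hs
      have hs' : β₀ s = t := by rw [hs, MulAut.apply_inv_self]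
      -- cy s = y' s y'⁻¹
      have h1 : ((cy s : T) : Ω) = (y' : Ω) * s * (y' : Ω)⁻¹ := hcyapply s
      -- β₀ (cy s) = b (y' * s * y'⁻¹)
      have h2 : ((β₀ (cy s) : T) : Ω) =
          (((b : MulAut (P ⊔ T : Subgroup Ω)) y' : (P ⊔ T : Subgroup Ω)) : Ω) * t *
            (((b : MulAut (P ⊔ T : Subgroup Ω)) y' : (P ⊔ T : Subgroup Ω)) : Ω)⁻¹ := by
        rw [hβ₀apply]
        have e : Subgroup.inclusion (le_sup_right : T ≤ P ⊔ T) (cy s) =
            y' * Subgroup.inclusion (le_sup_right : T ≤ P ⊔ T) s * y'⁻¹ := Subtype.ext h1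
        rw [e, map_mul, map_mul, map_inv]
        have e2 : (((b : MulAut (P ⊔ T : Subgroup Ω)) (Subgroup.inclusion (le_sup_right : T ≤ P ⊔ T) s) :
            (P ⊔ T : Subgroup Ω)) : Ω) = t := by
          rw [← hβ₀apply, hs']
        rw [Subgroup.coe_mul, Subgroup.coe_mul, Subgroup.coe_inv, e2]
      -- cy⁻¹ u = y'⁻¹ u y'
      have h3 : ∀ u : T, ((cy⁻¹ u : T) : Ω) = (y' : Ω)⁻¹ * u * (y' : Ω) := by
        intro u
        have := hcyapply (cy⁻¹ u)
        rw [MulAut.apply_inv_self] at this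
        rw [this]
        group
      rw [h3, h2, hbcoe]
      group
  · apply Subgroup.inv_mem
    exact mem_actSubgroup_of_mem F p (hcongr y)

/-- S5198. -/
theorem hyperfocal_le_actSubgroup [Finite S] (p : ℕ) [Fact p.Prime] (hS : IsPGroup p S) (F : FusionSystem S)
    (hF : F.IsSaturated p) (T : Subgroup Ω) (hT : F.StronglyClosed T) :
    ∀ x ∈ F.hyperfocalSubgroup p, ∃ α ∈ ((pResidual p ↥(F.autGroup T)).map (F.autGroup T).subtype ⊔ Inn ↥T :
      Subgroup (MulAut ↥T)), ∀ t : ↥T, ((α t : ↥T) : Ω) = x * (t : Ω) * x⁻¹ := by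
  have hle : F.hyperfocalSubgroup p ≤ actSubgroup T (hypActGroup F p T) := by
    unfold FusionSystem.hyperfocalSubgroup
    rw [Subgroup.closure_le]
    rintro x ⟨P, α, y, hPS, hα, rfl⟩
    exact pResidual_induction (F.autGroup P) _
      (fun g hg y => hyp_gen_mem_actSubgroup hS F hF T hT hPS g hg y) α hα y
  intro x hx
  exact hle hx

end

end Cfsg.Agent.Lib.Helper26
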