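import Cfsg.Agent.Lib.Helper26.FSHypAction
import Cfsg.Agent.Lib.Helper26.FSGroup

/-!
S5093: the hyperfocal subgroup theorem, `hyp(F_S(G)) = S ∩ O^p(G)`.
-/

set_option autoImplicit false

namespace Cfsg.Agent.Lib.Helper26

open Cfsg Cfsg.FusionSystem
open scoped commutatorElement

section PGroupTools

/-- A normal subgroup of a finite `p`-group supplementing the commutator subgroup is the whole group. -/
theorem eq_top_of_sup_commutator_eq_top {P : Type*} [Group P] [Finite P] {p : ℕ} [Fact p.Prime] (hP : IsPGroup p P)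
    (N : Subgroup P) [N.Normal] (h : N ⊔ commutator P = ⊤) : N = ⊤ := by
  by_contra hN
  have hnil : Group.IsNilpotent (P ⧸ N) := (hP.to_quotient N).isNilpotent
  have hsol : Group.IsSolvable (P ⧸ N) := inferInstance
  have hnt : Nontrivial (P ⧸ N) := by
    rw [QuotientGroup.nontrivial_iff]
    exact hN
  have hlt := Group.IsSolvable.commutator_lt_top_of_nontrivial (P ⧸ N)
  have h1 : (N ⊔ commutator P).map (QuotientGroup.mk' N) = ⊤ := by
    rw [h]
    exact Subgroup.map_top_of_surjective _ (QuotientGroup.mk'_surjective N)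
  rw [Subgroup.map_sup, QuotientGroup.map_mk'_self, bot_sup_eq, commutator_def, Subgroup.map_commutator,
    Subgroup.map_top_of_surjective _ (QuotientGroup.mk'_surjective N), ← commutator_def] at h1
  exact absurd h1 hlt.ne

/-- Subgroup form. -/
theorem le_of_le_sup_commutator {G : Type*} [Group G] {p : ℕ} [Fact p.Prime] (S₀ H : Subgroup G) [Finite S₀]
    (hS₀ : IsPGroup p S₀) (hH : H ≤ S₀) (hnorm : S₀ ≤ Subgroup.normalizer (H : Set G))
    (h : S₀ ≤ H ⊔ ⁅S₀, S₀⁆) : S₀ ≤ H := by
  have hN : (H.subgroupOf S₀).Normal := Subgroup.normal_subgroupOf_of_le_normalizer hnorm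
  have hcomm : ⁅S₀, S₀⁆ ≤ S₀ := Subgroup.commutator_le.mpr (fun a ha b hb =>
    S₀.mul_mem (S₀.mul_mem (S₀.mul_mem ha hb) (S₀.inv_mem ha)) (S₀.inv_mem hb))
  have h1 : H.subgroupOf S₀ ⊔ commutator S₀ = ⊤ := by
    have e : commutator S₀ = (⁅S₀, S₀⁆).subgroupOf S₀ := by
      apply Subgroup.map_injective S₀.subtype_injective
      rw [Subgroup.map_subtype_commutator, Subgroup.map_subgroupOf_eq_of_le hcomm]
    rw [e, ← Subgroup.subgroupOf_sup hH hcomm, eq_top_iff]
    intro x _
    rw [Subgroup.mem_subgroupOf]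
    exact h x.2
  have h2 := eq_top_of_sup_commutator_eq_top hS₀ (H.subgroupOf S₀) h1
  intro x hx
  have : (⟨x, hx⟩ : S₀) ∈ H.subgroupOf S₀ := by rw [h2]; trivial
  exact this

theorem pResidual_le_ker' {G H : Type*} [Group G] [Group H] {p : ℕ} [Fact p.Prime]
    (hH : IsPGroup p H) (f : G →* H) : Cfsg.pResidual p G ≤ f.ker := by
  unfold Cfsg.pResidual
  rw [Subgroup.closure_le]
  intro g hg
  have hg' : Nat.Coprime (orderOf g) p := hg
  rw [SetLike.mem_coe, MonoidHom.mem_ker]
  obtain ⟨k, hk⟩ := hH (f g)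
  have h1 : orderOf (f g) ∣ p ^ k := orderOf_dvd_of_pow_eq_one hk
  have h2 : orderOf (f g) ∣ orderOf g := orderOf_map_dvd f g
  have h3 : orderOf (f g) ∣ 1 := by
    have := Nat.dvd_gcd h2 h1
    rwa [Nat.Coprime.pow_right k hg'] at this
  exact orderOf_eq_one_iff.mp (Nat.dvd_one.mp h3)

theorem pResidual_pResidual_eq_top (p : ℕ) (G : Type*) [Group G] : pResidual p ↥(pResidual p G) = ⊤ := by
  rw [eq_top_iff]
  rintro ⟨k, hk⟩ -
  have key : ∀ (k : G) (hk : k ∈ Subgroup.closure {g : G | Nat.Coprime (orderOf g) p}),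
      (⟨k, hk⟩ : ↥(pResidual p G)) ∈ pResidual p ↥(pResidual p G) := by
    intro k hk
    induction hk using Subgroup.closure_induction with
    | mem x hx =>
      apply Subgroup.subset_closure
      have h1 : orderOf (⟨x, Subgroup.subset_closure hx⟩ : ↥(pResidual p G)) = orderOf x :=
        Subgroup.orderOf_mk _ _
      show Nat.Coprime (orderOf (⟨x, _⟩ : ↥(pResidual p G))) p
      rw [h1]
      exact hx
    | one => exact Subgroup.one_mem _
    | mul a b ha hb iha ihb =>
      have : (⟨a * b, Subgroup.mul_mem _ ha hb⟩ : ↥(pResidual p G)) = ⟨a, ha⟩ * ⟨b, hb⟩ := rfl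
      rw [this]
      exact Subgroup.mul_mem _ iha ihb
    | inv a ha iha =>
      have : (⟨a⁻¹, Subgroup.inv_mem _ ha⟩ : ↥(pResidual p G)) = ⟨a, ha⟩⁻¹ := rfl
      rw [this]
      exact Subgroup.inv_mem _ iha
  exact key k hk

/-- A Sylow `p`-subgroup of a group generated by `p'`-elements equals its focal subgroup. -/
theorem focalSubgroup_eq_of_pResidual_eq_top {K : Type*} [Group K] [Finite K] {p : ℕ} [Fact p.Prime] (P : Sylow p K)
    (h : pResidual p K = ⊤) : (P : Subgroup K).focalSubgroup = P := by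
  have hQ : IsPGroup p (↥(P : Subgroup K) ⧸ (P : Subgroup K).focalSubgroupOf) :=
    P.2.to_quotient (P : Subgroup K).focalSubgroupOf
  have hker : (P : Subgroup K).transferFocal.ker = ⊤ := by
    rw [eq_top_iff, ← h]
    exact pResidual_le_ker' hQ _
  have hsurj := Subgroup.transferFocal_surjective P
  have htop : (P : Subgroup K).focalSubgroupOf = ⊤ := by
    rw [eq_top_iff]
    intro x _
    obtain ⟨k, hk⟩ := hsurj (QuotientGroup.mk x)
    have h1 : (P : Subgroup K).transferFocal k = 1 := by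
      have : k ∈ (P : Subgroup K).transferFocal.ker := by rw [hker]; trivial
      exact this
    rw [h1] at hk
    exact (QuotientGroup.eq_one_iff x).mp hk.symm
  rw [← Subgroup.map_focalSubgroupOf, htop, ← MonoidHom.range_eq_map, Subgroup.range_subtype]

end PGroupTools

section GroupHyp

variable {G : Type*} [Group G]

/-- A `p'`-automorphism in `Aut_G(P)` is induced by a `p'`-element. -/
theorem exists_pprime_conj [Finite G] (p : ℕ) [Fact p.Prime] {S P : Subgroup G} (hPS : P ≤ S)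
    (g : (groupFusionSystem S).autGroup P) (hg : Nat.Coprime (orderOf g) p) :
    ∃ n : G, Nat.Coprime (orderOf n) p ∧ ∀ x : P, (((g : MulAut P) x : P) : G) = n * x * n⁻¹ := by
  have h1 : (g : MulAut P) ∈ autInducedBy ⊤ P := by
    rw [← groupFS_autGroup_eq hPS]
    exact g.2
  rw [mem_autInducedBy_iff] at h1
  obtain ⟨n, -, hn⟩ := h1
  obtain ⟨m, hm1, hmcop⟩ := exists_pow_pprime p n (orderOf g) hg
  refine ⟨n ^ m, hmcop, fun x => ?_⟩
  have h2 := aut_pow_apply_of_conj (g : MulAut P) n hn m x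
  have hgm : (g : MulAut P) ^ m = (g : MulAut P) := by
    have h1 : g ^ m = g := by
      have : g ^ m = g ^ 1 := (pow_eq_pow_iff_modEq).mpr hm1
      rw [this, pow_one]
    have := congrArg Subtype.val h1
    exact this
  rw [hgm] at h2
  exact h2

/-- Commutators with normalizing `p'`-elements lie in the hyperfocal subgroup. -/
theorem comm_mem_hyperfocal [Finite G] (p : ℕ) [Fact p.Prime] {S R : Subgroup G} (hRS : R ≤ S) (n : G)
    (hn : n ∈ Subgroup.normalizer (R : Set G)) (hcop : Nat.Coprime (orderOf n) p) (x : G) (hx : x ∈ R) :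
    x⁻¹ * (n * x * n⁻¹) ∈ (groupFusionSystem S).hyperfocalSubgroup p := by
  set β : MulAut R := R.normalizerMonoidHom ⟨n, hn⟩ with hβ
  have hβapply : ∀ y : R, ((β y : R) : G) = n * y * n⁻¹ := fun y => rfl
  have hβF : β ∈ (groupFusionSystem S).autGroup R := by
    rw [groupFS_autGroup_eq hRS]
    exact normalizerMonoidHom_mem_autInducedBy (Subgroup.mem_top n) hn
  have hord : Nat.Coprime (orderOf (⟨β, hβF⟩ : (groupFusionSystem S).autGroup R)) p := by
    apply Nat.Coprime.coprime_dvd_left _ hcop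
    apply orderOf_dvd_of_pow_eq_one
    apply Subtype.ext
    show β ^ orderOf n = 1
    ext y
    rw [aut_pow_apply_of_conj β n hβapply, pow_orderOf_eq_one]
    simp
  exact mem_hyperfocal_of (groupFusionSystem S) p hRS ⟨β, hβF⟩ (Subgroup.subset_closure hord) ⟨x, hx⟩

/-- `hyp(F_S(G)) ≤ S ∩ O^p(G)`. -/
theorem groupFS_hyperfocal_le [Finite G] (p : ℕ) [Fact p.Prime] (S : Subgroup G) :
    (groupFusionSystem S).hyperfocalSubgroup p ≤ S ⊓ pResidual p G := by
  unfold FusionSystem.hyperfocalSubgroup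
  rw [Subgroup.closure_le]
  rintro y ⟨P, α, x, hPS, hα, rfl⟩
  refine pResidual_induction ((groupFusionSystem S).autGroup P) (S ⊓ pResidual p G) (fun g hg x => ?_) α hα x
  refine ⟨S.mul_mem (S.inv_mem (hPS x.2)) (hPS (SetLike.coe_mem _)), ?_⟩
  obtain ⟨n, hncop, hn⟩ := exists_pprime_conj p hPS g hg
  rw [hn x]
  have hnK : n ∈ pResidual p G := Subgroup.subset_closure hncop
  have hnormal := Cfsg.Agent.Lib.Helper8.pResidual_normal p G
  have h1 : (x : G)⁻¹ * n * (x : G)⁻¹⁻¹ ∈ pResidual p G := hnormal.conj_mem n hnK _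
  have e : (x : G)⁻¹ * (n * x * n⁻¹) = ((x : G)⁻¹ * n * (x : G)⁻¹⁻¹) * n⁻¹ := by group
  rw [e]
  exact Subgroup.mul_mem _ h1 (Subgroup.inv_mem _ hnK)

/-- `S ∩ K` is a Sylow `p`-subgroup of the normal subgroup `K`. -/
theorem exists_sylow_inf_normal [Finite G] {p : ℕ} [Fact p.Prime] (S : Sylow p G) (K : Subgroup G) [hK : K.Normal] :
    ∃ R : Sylow p K, (R : Subgroup K) = (S : Subgroup G).subgroupOf K := by
  have h := (sylowIn_iff_card (p := p) (H := K) (A := (S : Subgroup G) ⊓ K) inf_le_right).mpr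
    ⟨S.isPGroup'.to_le inf_le_left, fun B hBK hB => ?_⟩
  · obtain ⟨R, hR⟩ := h
    exact ⟨R, by rw [hR, Subgroup.inf_subgroupOf_right]⟩
  · obtain ⟨g, hg⟩ := exists_conj_le_sylow S hB
    rw [← card_map_conj B g]
    apply Subgroup.card_le_of_le
    apply le_inf hg
    rintro _ ⟨x, hx, rfl⟩
    exact hK.conj_mem x (hBK hx) g

/-- S5093: the hyperfocal subgroup theorem. -/
theorem groupFS_hyperfocal_eq [Finite G] (p : ℕ) [Fact p.Prime] (S : Sylow p G) :
    (groupFusionSystem (S : Subgroup G)).hyperfocalSubgroup p = (S : Subgroup G) ⊓ pResidual p G := by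
  refine le_antisymm (groupFS_hyperfocal_le p (S : Subgroup G)) ?_
  have hKn : (pResidual p G).Normal := Cfsg.Agent.Lib.Helper8.pResidual_normal p G
  obtain ⟨P₀, hP₀⟩ := exists_sylow_inf_normal S (pResidual p G)
  have hF₀ := groupFS_saturated P₀
  have hfoc := focal_eq P₀.isPGroup' (groupFusionSystem (P₀ : Subgroup ↥(pResidual p G))) hF₀
  have h5 : (P₀ : Subgroup ↥(pResidual p G)).focalSubgroup = P₀ :=
    focalSubgroup_eq_of_pResidual_eq_top P₀ (pResidual_pResidual_eq_top p G)
  have h6 : (P₀ : Subgroup ↥(pResidual p G)).focalSubgroup ≤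
      (groupFusionSystem (P₀ : Subgroup ↥(pResidual p G))).focalSubgroup := by
    rw [Subgroup.focalSubgroup_def, Subgroup.closure_le]
    rintro g ⟨hgP, x, hxP, u, rfl⟩
    have hy : x⁻¹ ∈ (P₀ : Subgroup ↥(pResidual p G)) := Subgroup.inv_mem _ hxP
    have huy : u * x⁻¹ * u⁻¹ ∈ (P₀ : Subgroup ↥(pResidual p G)) := by
      have e : u * x⁻¹ * u⁻¹ = x⁻¹ * ⁅x, u⁆ := by rw [commutatorElement_def]; group
      rw [e]
      exact Subgroup.mul_mem _ hy hgP
    have hR : Subgroup.zpowers x⁻¹ ≤ (P₀ : Subgroup ↥(pResidual p G)) := (Subgroup.zpowers_le).mpr hy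
    have hφ : conjHom (Subgroup.zpowers x⁻¹) u ∈
        (groupFusionSystem (P₀ : Subgroup ↥(pResidual p G))).Hom (Subgroup.zpowers x⁻¹) := by
      rw [mem_groupFS_hom]
      refine ⟨hR, fun z => ?_, u, fun z => rfl⟩
      obtain ⟨k, hk⟩ := Subgroup.mem_zpowers_iff.mp z.2
      show u * (z : ↥(pResidual p G)) * u⁻¹ ∈ (P₀ : Subgroup ↥(pResidual p G))
      rw [← hk, ← conj_zpow]
      exact Subgroup.zpow_mem _ huy k
    have := mem_focal_of _ hφ ⟨x⁻¹, Subgroup.mem_zpowers _⟩
    have e : ((⟨x⁻¹, Subgroup.mem_zpowers _⟩ : Subgroup.zpowers x⁻¹) : ↥(pResidual p G))⁻¹ *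
        conjHom (Subgroup.zpowers x⁻¹) u ⟨x⁻¹, Subgroup.mem_zpowers _⟩ = ⁅x, u⁆ := by
      show (x⁻¹)⁻¹ * (u * x⁻¹ * u⁻¹) = ⁅x, u⁆
      rw [commutatorElement_def]; group
    rw [e] at this
    exact this
  have h8 : (groupFusionSystem (P₀ : Subgroup ↥(pResidual p G))).hyperfocalSubgroup p ≤
      ((groupFusionSystem (S : Subgroup G)).hyperfocalSubgroup p).subgroupOf (pResidual p G) := by
    unfold FusionSystem.hyperfocalSubgroup
    rw [Subgroup.closure_le]
    rintro y ⟨R, α, x, hRP, hα, rfl⟩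
    refine pResidual_induction ((groupFusionSystem (P₀ : Subgroup ↥(pResidual p G))).autGroup R) _
      (fun g hg x => ?_) α hα x
    obtain ⟨u, hucop, hu⟩ := exists_pprime_conj p hRP g hg
    rw [hu x, Subgroup.mem_subgroupOf]
    have hunorm : u ∈ Subgroup.normalizer (R : Set ↥(pResidual p G)) := mem_normalizer_of_aut (g : MulAut R) u hu
    have hRS : R.map (pResidual p G).subtype ≤ (S : Subgroup G) := by
      rintro _ ⟨r, hr, rfl⟩
      have : r ∈ (P₀ : Subgroup ↥(pResidual p G)) := hRP hr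
      rw [hP₀, Subgroup.mem_subgroupOf] at this
      exact this
    have hn : (u : G) ∈ Subgroup.normalizer ((R.map (pResidual p G).subtype : Subgroup G) : Set G) :=
      Subgroup.le_normalizer_map _ ⟨u, hunorm, rfl⟩
    have hcop' : Nat.Coprime (orderOf (u : G)) p := by rw [Subgroup.orderOf_coe]; exact hucop
    have := comm_mem_hyperfocal p hRS (u : G) hn hcop' ((x : ↥(pResidual p G)) : G) ⟨x, x.2, rfl⟩
    exact this
  -- assemble
  have h9 : (S : Subgroup G) ⊓ pResidual p G ≤ (groupFusionSystem (S : Subgroup G)).hyperfocalSubgroup p ⊔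
      ⁅(S : Subgroup G) ⊓ pResidual p G, (S : Subgroup G) ⊓ pResidual p G⁆ := by
    intro x hx
    have hxP : (⟨x, hx.2⟩ : ↥(pResidual p G)) ∈ (P₀ : Subgroup ↥(pResidual p G)) := by
      rw [hP₀, Subgroup.mem_subgroupOf]
      exact hx.1
    have h10 : (⟨x, hx.2⟩ : ↥(pResidual p G)) ∈
        ((groupFusionSystem (S : Subgroup G)).hyperfocalSubgroup p).subgroupOf (pResidual p G) ⊔
          ⁅(P₀ : Subgroup ↥(pResidual p G)), (P₀ : Subgroup ↥(pResidual p G))⁆ := by
      have h11 : (⟨x, hx.2⟩ : ↥(pResidual p G)) ∈ (P₀ : Subgroup ↥(pResidual p G)).focalSubgroup := by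
        rw [h5]; exact hxP
      have h12 := h6 h11
      rw [hfoc] at h12
      exact (sup_le_sup_right h8 _) h12
    have h13 : x ∈ (((groupFusionSystem (S : Subgroup G)).hyperfocalSubgroup p).subgroupOf (pResidual p G) ⊔
          ⁅(P₀ : Subgroup ↥(pResidual p G)), (P₀ : Subgroup ↥(pResidual p G))⁆).map (pResidual p G).subtype :=
      ⟨_, h10, rfl⟩
    rw [Subgroup.map_sup, Subgroup.map_commutator, hP₀, Subgroup.subgroupOf_map_subtype,
      Subgroup.subgroupOf_map_subtype] at h13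
    have hle : (groupFusionSystem (S : Subgroup G)).hyperfocalSubgroup p ⊓ pResidual p G ⊔
        ⁅(S : Subgroup G) ⊓ pResidual p G, (S : Subgroup G) ⊓ pResidual p G⁆ ≤
        (groupFusionSystem (S : Subgroup G)).hyperfocalSubgroup p ⊔
        ⁅(S : Subgroup G) ⊓ pResidual p G, (S : Subgroup G) ⊓ pResidual p G⁆ :=
      sup_le_sup_right inf_le_left _
    exact hle h13
  have hSpg : IsPGroup p (S : Subgroup G) := S.isPGroup'
  have hsc := hyperfocal_stronglyClosed hSpg (groupFusionSystem (S : Subgroup G)) (groupFS_saturated S)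
  have hnormH := le_normalizer_of_stronglyClosed (groupFusionSystem (S : Subgroup G)) hsc
  exact le_of_le_sup_commutator (p := p) _ _ (hSpg.to_le inf_le_left) (groupFS_hyperfocal_le p (S : Subgroup G))
    (inf_le_left.trans hnormH) h9

end GroupHyp

end Cfsg.Agent.Lib.Helper26
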