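import Cfsg.Agent.Lib.Helper26.FSSubsystem
import Cfsg.Agent.Lib.Helper26.FSAlperin
import Cfsg.Agent.Lib.Helper26.FSHyperfocalGroup
import Cfsg.Agent.Lib.Helper26.FSHypAction
import Cfsg.Agent.Lib.Helper27.FSSubgroupSat

/-!
S5139: the `p`-residual subsystem of `F_S(G)` is `F_{S ∩ O^p(G)}(O^p(G))`.
-/

set_option autoImplicit false

namespace Cfsg.Agent.Lib.Helper26

open Cfsg Cfsg.FusionSystem

section General

variable {Ω : Type*} [Group Ω] {S : Subgroup Ω}

/-- A saturated system is contained in any system (over the same group) whose automorphism groups contain the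
`p`-residuals of its automorphism groups. -/
theorem subsystem_of_pResidual_aut_le [Finite S] {p : ℕ} [Fact p.Prime] (hS : IsPGroup p S) (E₁ : FusionSystem S)
    (h₁ : E₁.IsSaturated p) (E₂ : FusionSystem S)
    (h : ∀ P : Subgroup Ω, P ≤ S →
      (pResidual p (E₁.autGroup P)).map (E₁.autGroup P).subtype ≤ E₂.autGroup P) :
    ∀ P : Subgroup Ω, E₁.Hom P ⊆ E₂.Hom P := by
  apply alperin hS E₁ h₁ E₂
  intro P hP
  have hFN : E₁.IsFullyNormalized P := by
    rcases hP with rfl | hP
    · exact top_fullyNormalized E₁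
    · exact hP.2.1
  intro α hα
  obtain ⟨β, hβ, s, hsS, hsN, hαeq⟩ := exists_mul_pResidual_autS hS E₁ h₁ hFN ⟨α, hα⟩
  have e : α = (β : MulAut P) * P.normalizerMonoidHom ⟨s, hsN⟩ := hαeq
  rw [e]
  apply Subgroup.mul_mem
  · exact h P hFN.1 ⟨β, hβ, rfl⟩
  · exact autInducedBy_le_autGroup E₂ hFN.1 (normalizerMonoidHom_mem_autInducedBy hsS hsN)

theorem castSystem_autGroup {T : Subgroup Ω} (h : T = S) (E : FusionSystem T) (P : Subgroup Ω) :
    (castSystem h E).autGroup P = E.autGroup P := by
  subst h; rfl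

theorem castSystem_isSaturated {T : Subgroup Ω} (h : T = S) (E : FusionSystem T) (p : ℕ) (hE : E.IsSaturated p) :
    (castSystem h E).IsSaturated p := by
  subst h; exact hE

/-- Monotonicity of the `p`-residual of automorphism groups. -/
theorem pResidual_autGroup_mono {T : Subgroup Ω} (E : FusionSystem T) (F : FusionSystem S) (p : ℕ) (P : Subgroup Ω)
    (hle : E.autGroup P ≤ F.autGroup P) :
    (pResidual p (E.autGroup P)).map (E.autGroup P).subtype ≤
      (pResidual p (F.autGroup P)).map (F.autGroup P).subtype := by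
  have h1 := map_pResidual_le_of_injective p (Subgroup.inclusion hle) (Subgroup.inclusion_injective hle)
  rintro _ ⟨β, hβ, rfl⟩
  exact ⟨Subgroup.inclusion hle β, h1 ⟨β, hβ, rfl⟩, rfl⟩

theorem autGroup_le_of_subsystem {T : Subgroup Ω} (E : FusionSystem T) (F : FusionSystem S)
    (hEF : E.IsSubsystemOf F) {P : Subgroup Ω} (hPT : P ≤ T) : E.autGroup P ≤ F.autGroup P := by
  have hTS : T ≤ S := hom_le F (hEF T (subtype_mem E le_rfl))
  intro α hα
  rw [mem_autGroup_iff F (hPT.trans hTS)]
  exact hEF P ((mem_autGroup_iff E hPT α).mp hα)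

end General

section Group

variable {G : Type*} [Group G]

/-- The `p`-residual of `Aut_G(P)` is induced by `O^p(G)`. -/
theorem pResidual_autInducedBy_le [Finite G] (p : ℕ) [Fact p.Prime] (P : Subgroup G) :
    (pResidual p (autInducedBy (⊤ : Subgroup G) P)).map (autInducedBy (⊤ : Subgroup G) P).subtype ≤
      autInducedBy (pResidual p G) P := by
  unfold pResidual
  rw [MonoidHom.map_closure, Subgroup.closure_le]
  rintro _ ⟨α, hα, rfl⟩
  have hα' : Nat.Coprime (orderOf α) p := hα
  obtain ⟨g, -, hg⟩ := (mem_autInducedBy_iff _ _ _).mp α.2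
  obtain ⟨m, hm1, hm2⟩ := exists_pow_pprime p g (orderOf α) hα'
  show (α : MulAut P) ∈ autInducedBy (Subgroup.closure {g : G | Nat.Coprime (orderOf g) p}) P
  rw [mem_autInducedBy_iff]
  refine ⟨g ^ m, Subgroup.subset_closure hm2, fun x => ?_⟩
  have e1 : α ^ m = α := by
    have := (pow_eq_pow_iff_modEq (x := α) (n := m) (m := 1)).mpr hm1
    rw [this, pow_one]
  have e2 : ((α : MulAut P) ^ m) = (α : MulAut P) := by
    have := congrArg Subtype.val e1
    simpa using this
  rw [← aut_pow_apply_of_conj (α : MulAut P) g hg m x, e2]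

theorem pResidual_groupFS_autGroup_le [Finite G] (p : ℕ) [Fact p.Prime] {S P : Subgroup G} (hP : P ≤ S) :
    (pResidual p ((groupFusionSystem S).autGroup P)).map ((groupFusionSystem S).autGroup P).subtype ≤
      autInducedBy (pResidual p G) P := by
  rw [groupFS_autGroup_eq hP]
  exact pResidual_autInducedBy_le p P

theorem subFS_isSubsystemOf_groupFS (H S : Subgroup G) :
    (fusionSystemOfSubgroup H (S ⊓ H) inf_le_right).IsSubsystemOf (groupFusionSystem S) := by
  rintro P φ ⟨hP, hφ, g, -, hg⟩
  exact ⟨hP.trans inf_le_left, fun x => (hφ x).1, g, hg⟩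

open Cfsg.Agent.Lib.Helper27 in
/-- S5139. -/
theorem pResidual_groupFS_eq [Finite G] (p : ℕ) [Fact p.Prime] (S : Sylow p G)
    (E : FusionSystem ((groupFusionSystem (S : Subgroup G)).hyperfocalSubgroup p))
    (hE : (groupFusionSystem (S : Subgroup G)).IsPResidual p E) :
    ∃ h : (S : Subgroup G) ⊓ pResidual p G ≤ pResidual p G, ∀ P : Subgroup G,
      E.Hom P = (fusionSystemOfSubgroup (pResidual p G) ((S : Subgroup G) ⊓ pResidual p G) h).Hom P := by
  refine ⟨inf_le_right, fun P => ?_⟩
  have hTT' := groupFS_hyperfocal_eq p S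
  have : (pResidual p G).Normal := Cfsg.Agent.Lib.Helper8.pResidual_normal p G
  have hE'sat : (fusionSystemOfSubgroup (pResidual p G) ((S : Subgroup G) ⊓ pResidual p G) inf_le_right).IsSaturated p :=
    subFS_saturated inf_le_right (sylowIn_inf_of_normal S (pResidual p G))
  obtain ⟨hEsat, hEF, hhyp, hEidx⟩ := hE
  have hT'p : IsPGroup p ↥((S : Subgroup G) ⊓ pResidual p G) := S.isPGroup'.to_le inf_le_left
  have hTp : IsPGroup p ↥((groupFusionSystem (S : Subgroup G)).hyperfocalSubgroup p) :=
    S.isPGroup'.to_le (hTT'.le.trans inf_le_left)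
  have hfinT : Finite ↥((groupFusionSystem (S : Subgroup G)).hyperfocalSubgroup p) := inferInstance
  have hE'F := subFS_isSubsystemOf_groupFS (pResidual p G) (S : Subgroup G)
  apply Set.Subset.antisymm
  · have := subsystem_of_pResidual_aut_le hTp E hEsat (castSystem hTT'.symm
      (fusionSystemOfSubgroup (pResidual p G) ((S : Subgroup G) ⊓ pResidual p G) inf_le_right)) ?_ P
    · rwa [castSystem_hom] at this
    · intro R hR
      rw [castSystem_autGroup]
      have hR' : R ≤ (S : Subgroup G) ⊓ pResidual p G := hR.trans hTT'.le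
      refine (pResidual_autGroup_mono E (groupFusionSystem (S : Subgroup G)) p R
        (autGroup_le_of_subsystem E _ hEF hR)).trans ?_
      rw [subFS_autGroup_eq inf_le_right hR']
      exact pResidual_groupFS_autGroup_le p (hR'.trans inf_le_left)
  · have := subsystem_of_pResidual_aut_le hT'p
      (fusionSystemOfSubgroup (pResidual p G) ((S : Subgroup G) ⊓ pResidual p G) inf_le_right) hE'sat
      (castSystem hTT' E) ?_ P
    · rwa [castSystem_hom] at this
    · intro R hR
      rw [castSystem_autGroup]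
      have hR' : R ≤ (groupFusionSystem (S : Subgroup G)).hyperfocalSubgroup p := hR.trans hTT'.ge
      exact (pResidual_autGroup_mono _ (groupFusionSystem (S : Subgroup G)) p R
        (autGroup_le_of_subsystem _ _ hE'F hR)).trans (hEidx R hR')

end Group

end Cfsg.Agent.Lib.Helper26
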