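import Cfsg.Agent.Lib.Helper26.GT7
import Cfsg.Agent.Lib.Helper26.FSPResidualGroup

/-!
Glauberman–Thompson for fusion systems, part 8: a non-inner saturated system (`p` odd) contains a non-inner constrained
subsystem over the same `p`-group.
-/

set_option autoImplicit false
set_option linter.unusedSectionVars false
set_option linter.unusedVariables false

namespace Cfsg.Agent.Lib.Helper26.GT

open Cfsg Cfsg.FusionSystem Cfsg.Agent.Lib.Helper26

universe u

section Measure

variable {Ω : Type*} [Group Ω] (S : Subgroup Ω)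

theorem finite_subgroups_le [Finite ↥S] : {P : Subgroup Ω | P ≤ S}.Finite := by
  have hfin : {a : Set Ω | a ⊆ (S : Set Ω)}.Finite := (Set.toFinite (S : Set Ω)).finite_subsets
  have h := Set.Finite.preimage (f := fun P : Subgroup Ω => (P : Set Ω))
    (fun a _ b _ hab => SetLike.coe_injective hab) hfin
  exact h

variable {S}

/-- The measure: the sum of the orders of the automorphism groups. -/
noncomputable def mu [Finite ↥S] (E : FusionSystem S) : ℕ :=
  ∑ P ∈ (finite_subgroups_le S).toFinset, Nat.card (E.autGroup P)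

theorem mu_lt [Finite ↥S] {p : ℕ} [Fact p.Prime] (hS : IsPGroup p S) (E' E : FusionSystem S)
    (hE : E.IsSaturated p) (hle : E' ≤ E) (hne : ¬ E ≤ E') : mu E' < mu E := by
  have hmono : ∀ P : Subgroup Ω, P ≤ S → E'.autGroup P ≤ E.autGroup P := fun P hP =>
    autGroup_le_of_subsystem E' E hle hP
  have hfinA : ∀ P : Subgroup Ω, P ≤ S → Finite (MulAut ↥P) := by
    intro P hP
    have : Finite ↥P := finite_of_le hP
    infer_instance
  unfold mu
  apply Finset.sum_lt_sum
  · intro P hP
    have hPS : P ≤ S := (Set.Finite.mem_toFinset _).mp hP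
    have := hfinA P hPS
    exact Subgroup.card_le_of_le (hmono P hPS)
  · by_contra hall
    push Not at hall
    apply hne
    apply alperin hS E hE E'
    intro P hP
    have hPS : P ≤ S := by
      rcases hP with rfl | hP
      · exact le_rfl
      · exact hP.1.1
    have := hfinA P hPS
    have h1 := hall P ((Set.Finite.mem_toFinset _).mpr hPS)
    have h2 := Subgroup.eq_of_le_of_card_ge (hmono P hPS) h1
    rw [h2]

end Measure

section Constrained

variable {Ω : Type u} [Group Ω] {S : Subgroup Ω}

/-- If the quotient by the core is not inner, some normal subgroup of `S` strictly larger than the core is bad. -/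
theorem exists_bad_normal_of_factor_not_inner [Finite ↥S] {p : ℕ} [Fact p.Prime] (hp2 : p ≠ 2) (hS : IsPGroup p S)
    (F : FusionSystem S) (hF : F.IsSaturated p) (hcoreS : F.core ≠ S) [hn : (F.core.subgroupOf S).Normal]
    (E : FusionSystem (⊤ : Subgroup (↥S ⧸ F.core.subgroupOf S)))
    (hfac : F.IsFactorSystem F.core (QuotientGroup.mk' (F.core.subgroupOf S)) E)
    (hE : ¬ ∀ P, E.Hom P = (innerFusionSystem (⊤ : Subgroup (↥S ⧸ F.core.subgroupOf S))).Hom P) :
    ∃ X : Subgroup Ω, X ≤ S ∧ normalizerIn S X = S ∧ Bad F p X ∧ Nat.card F.core < Nat.card X := by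
  have hQn := core_isNormal F
  have hQS : F.core ≤ S := hQn.1
  have hQsc := stronglyClosed_of_isNormal F hQn
  have hfinQ : Finite ↥F.core := finite_of_le hQS
  set θ := QuotientGroup.mk' (F.core.subgroupOf S) with hθdef
  have hθ := factorSystem_isSurjectiveMorphism hS F hF F.core hQsc θ E hfac
  have hEsat := surj_saturated p hS F hF E θ hθ
  have hpT : IsPGroup p (⊤ : Subgroup (↥S ⧸ F.core.subgroupOf S)) :=
    (hS.to_quotient (F.core.subgroupOf S)).to_subgroup ⊤
  have hbadE := bad_zj_of_not_inner hp2 hpT E hEsat hE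
  have hbadX := Bad.lift F E θ hθ hbadE
  set X := preimageAlong θ (centerThompsonAOf (⊤ : Subgroup (↥S ⧸ F.core.subgroupOf S))) with hXdef
  have hXS : X ≤ S := preimageAlong_le θ _
  have hXN : normalizerIn S X = S := by
    apply normalizerIn_eq_of_le_normalizer
    intro g hg
    apply mem_normalizer_preimageAlong θ hg
    apply zj_normalizer_le
    apply Subgroup.mem_normalizer_iff.mpr
    intro h
    simp
  have hQX : F.core ≤ X := by
    intro y hy
    rw [hXdef, mem_preimageAlong_iff]
    refine ⟨hQS hy, ?_⟩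
    rw [(hfac.2.1 ⟨y, hQS hy⟩).mpr hy]
    exact Subgroup.one_mem _
  refine ⟨X, hXS, hXN, hbadX, ?_⟩
  have hfinX : Finite ↥X := finite_of_le hXS
  rcases (Subgroup.card_le_of_le hQX).lt_or_eq with h | h
  · exact h
  · exfalso
    have hXQ : X = F.core := (Subgroup.eq_of_le_of_card_ge hQX h.ge).symm
    have htop : (⊤ : Subgroup (↥S ⧸ F.core.subgroupOf S)) ≠ ⊥ := by
      intro h1
      apply hcoreS
      apply le_antisymm hQS
      intro s hs
      have h2 : θ ⟨s, hs⟩ ∈ (⊤ : Subgroup (↥S ⧸ F.core.subgroupOf S)) := Subgroup.mem_top _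
      rw [h1, Subgroup.mem_bot] at h2
      exact (hfac.2.1 ⟨s, hs⟩).mp h2
    have hzj := zj_ne_bot (⊤ : Subgroup (↥S ⧸ F.core.subgroupOf S)) hpT htop
    apply hzj
    rw [eq_bot_iff]
    intro z hz
    obtain ⟨s, rfl⟩ := QuotientGroup.mk'_surjective (F.core.subgroupOf S) z
    have h3 : (s : Ω) ∈ X := by
      rw [hXdef, mem_preimageAlong_iff]
      exact ⟨s.2, hz⟩
    rw [hXQ] at h3
    rw [Subgroup.mem_bot]
    exact (hfac.2.1 s).mpr h3

/-- Either a saturated non-inner system is constrained, or it has a proper saturated non-inner subsystem over `S`. -/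
theorem constrained_or_exists_smaller [Finite ↥S] {p : ℕ} [Fact p.Prime] (hp2 : p ≠ 2) (hS : IsPGroup p S)
    (E : FusionSystem S) (hE : E.IsSaturated p) :
    E.IsConstrained p ∨ ∃ N : FusionSystem S, N ≤ E ∧ ¬ E ≤ N ∧ N.IsSaturated p ∧
      ¬ ∀ P : Subgroup Ω, N.Hom P = (innerFusionSystem S).Hom P := by
  have hQn := core_isNormal E
  have hQsc := stronglyClosed_of_isNormal E hQn
  by_cases hcoreS : E.core = S
  · left
    refine ⟨hE, E.core, hQn, ?_⟩
    apply isCentric_of_isNormal_of_centralizerIn_le E hQn
    intro x hx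
    rw [hcoreS]
    exact centralizerIn_le S _ hx
  have hn : (E.core.subgroupOf S).Normal := normal_subgroupOf_of_stronglyClosed E hQsc
  set θ := QuotientGroup.mk' (E.core.subgroupOf S) with hθdef
  set Ebar := factorSystem E hQsc θ (quot_ker E.core) (quot_range E.core) with hEdef
  have hfac : E.IsFactorSystem E.core θ Ebar :=
    factorSystem_isFactorSystem E hQsc θ (quot_ker E.core) (quot_range E.core)
  by_cases hin : ∀ P, Ebar.Hom P = (innerFusionSystem (⊤ : Subgroup (↥S ⧸ E.core.subgroupOf S))).Hom P
  · left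
    have hθ := factorSystem_isSurjectiveMorphism hS E hE E.core hQsc θ Ebar hfac
    have hpT : IsPGroup p (⊤ : Subgroup (↥S ⧸ E.core.subgroupOf S)) :=
      (hS.to_quotient (E.core.subgroupOf S)).to_subgroup ⊤
    exact ⟨hE, E.core, hQn, core_isCentric_of_factor_inner hS hpT E hE Ebar θ hθ hin hfac.2.1⟩
  · right
    obtain ⟨X, hXS, hXN, hbadX, hcard⟩ := exists_bad_normal_of_factor_not_inner hp2 hS E hE hcoreS Ebar hfac hin
    have hXfn := isFullyNormalized_of_normalizerIn_eq E hXS hXN
    have hNsys := normalizerSystem_isNormalizerSystem E X hXS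
    have hNsat := normalizerSystem_saturated hS E hE hXfn _ hNsys
    have hNne := not_inner_of_bad hS E hbadX _ hNsys
    refine ⟨castSystem hXN (normalizerSystem E X hXS), ?_, ?_, castSystem_isSaturated hXN _ p hNsat, ?_⟩
    · intro P
      rw [castSystem_hom]
      exact normalizerSystem_isSubsystemOf E hXS P
    · intro hle
      have hXnormal : E.IsNormal X := by
        refine ⟨hXS, fun P φ hφ => ?_⟩
        have h1 := hle P hφ
        rw [castSystem_hom, hNsys P] at h1
        exact h1.2.2.2
      have hXle : X ≤ E.core := le_sSup hXnormal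
      have hfinc : Finite ↥E.core := finite_of_le hQn.1
      have := Subgroup.card_le_of_le hXle
      omega
    · intro hall
      apply hNne
      intro P
      have h1 := hall P
      rw [castSystem_hom] at h1
      rw [h1]
      exact (congrArg (fun T : Subgroup Ω => (innerFusionSystem T).Hom P) hXN).symm

/-- S5332: a non-inner saturated system (`p` odd) contains a non-inner constrained subsystem over `S`. -/
theorem exists_constrained_not_inner [Finite ↥S] {p : ℕ} [Fact p.Prime] (hp2 : p ≠ 2) (hS : IsPGroup p S)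
    (F : FusionSystem S) (hF : F.IsSaturated p)
    (hne : ¬ ∀ P : Subgroup Ω, F.Hom P = (innerFusionSystem S).Hom P) :
    ∃ E : FusionSystem S, E ≤ F ∧ E.IsConstrained p ∧
      ¬ ∀ P : Subgroup Ω, E.Hom P = (innerFusionSystem S).Hom P := by
  have key : ∀ n : ℕ, ∀ E : FusionSystem S, E ≤ F → E.IsSaturated p →
      (¬ ∀ P : Subgroup Ω, E.Hom P = (innerFusionSystem S).Hom P) → mu E = n →
      ∃ E' : FusionSystem S, E' ≤ F ∧ E'.IsConstrained p ∧
        ¬ ∀ P : Subgroup Ω, E'.Hom P = (innerFusionSystem S).Hom P := by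
    intro n
    induction n using Nat.strong_induction_on with
    | _ n ih =>
      intro E hEF hE hEne hn
      rcases constrained_or_exists_smaller hp2 hS E hE with hc | ⟨N, hNE, hEN, hNsat, hNne⟩
      · exact ⟨E, hEF, hc, hEne⟩
      · have hlt := mu_lt hS N E hE hNE hEN
        exact ih (mu N) (hn ▸ hlt) N (fun P => (hNE P).trans (hEF P)) hNsat hNne rfl
  exact key _ F (fun P => subset_rfl) hF hne rfl

end Constrained

end Cfsg.Agent.Lib.Helper26.GT
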