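import Mathlib
import Cfsg.Prelude.Def_ClassicalGeometry
import Cfsg.Prelude.Def_GeometricClasses
import Cfsg.Agent.Lib.Helper2.SOTDefs
import Cfsg.Agent.Lib.Helper2.SOTGDefs
import Cfsg.Agent.Lib.Helper4.SOTS
import Cfsg.Agent.Lib.Helper7.SpTN
import Cfsg.Agent.Lib.Helper27.SOTLADefs
import Cfsg.Agent.Lib.Helper25.SpTK
import Cfsg.Agent.Lib.Helper27.SOTLAU5
import Cfsg.Agent.Lib.Helper11.SOTLAU4a

/-!
S5666 (LA) leaves P2: `SX_stv` (move `SX M w` along a symplectic transvection of the middle space) and `SX_mono`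
(transitivity on the non-zero vectors of the middle space), exact signatures of notes/S5666_LA_leaves.lean.
By-products: `stv_val_apply26`, `Jm_mulVec_mid`, `blockDiag_stv`, `pr_mid`, `exists_sf_mid`.
-/

set_option autoImplicit false
set_option linter.unusedSectionVars false
set_option linter.unusedVariables false

namespace Cfsg.Agent.Lib.Helper26.SOTLALeaf
open Matrix
open Cfsg.Agent.Lib.Helper25.Tens Cfsg.Agent.Lib.Helper25.SpT Cfsg.Agent.Lib.Helper19.OSub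
open Cfsg.Agent.Lib.Helper2.SOT Cfsg.Agent.Lib.Helper27.SOTLA
open scoped Kronecker

variable {F : Type*} [Field F] [Fintype F] {a b : ℕ} {G : Matrix (Fin b) (Fin b) F}
  {M : Subgroup (GL (Idx a b) F)}

/-- entries of a symplectic transvection -/
lemma stv_val_apply26 {n : ℕ} (y : Fin n → F) (c : F) (i j : Fin n) :
    ((stv y c : GL (Fin n) F) : Matrix (Fin n) (Fin n) F) i j =
      (if i = j then 1 else 0) + c * y i * ∑ l, Jm n j l * y l := by
  unfold stv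
  rw [tv_val, Matrix.add_apply, Matrix.one_apply, Matrix.vecMulVec_apply]
  simp only [Pi.smul_apply, smul_eq_mul, sfv, Matrix.mulVec, dotProduct]

/-- `(J w)_o = 0 = (J w)_o'` for `w` in the middle space -/
lemma Jm_mulVec_mid (ea : Even a) {o o' : Fin a} (ho : o.val = 0) (ho' : o'.val = 1)
    (w : Fin a → F) (hw : w o = 0 ∧ w o' = 0) :
    (∑ l, (Jm a : Matrix (Fin a) (Fin a) F) o l * w l) = 0 ∧
      (∑ l, (Jm a : Matrix (Fin a) (Fin a) F) o' l * w l) = 0 := by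
  have hpo : pr ea o = o' := by
    apply Fin.ext
    rw [pr_val_even ea o (by omega)]; omega
  have hpo' : pr ea o' = o := by
    rw [← hpo, pr_pr]
  constructor
  · apply Finset.sum_eq_zero
    intro l _
    by_cases hl : l = pr ea o
    · rw [hl, hpo, hw.2, mul_zero]
    · rw [Jm_eq_zero_of_ne ea o l hl, zero_mul]
  · apply Finset.sum_eq_zero
    intro l _
    by_cases hl : l = pr ea o'
    · rw [hl, hpo', hw.1, mul_zero]
    · rw [Jm_eq_zero_of_ne ea o' l hl, zero_mul]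

/-- a symplectic transvection with centre in the middle space is block-diagonal -/
lemma blockDiag_stv (ea : Even a) {o o' : Fin a} (ho : o.val = 0) (ho' : o'.val = 1)
    (w : Fin a → F) (hw : w o = 0 ∧ w o' = 0) (c : F) :
    BlockDiag o o' ((stv w c : GL (Fin a) F) : Matrix (Fin a) (Fin a) F) := by
  obtain ⟨h1, h2⟩ := Jm_mulVec_mid ea ho ho' w hw
  have hoo' : o ≠ o' := by
    intro e; rw [e] at ho; omega
  refine ⟨?_, ?_, ?_, ?_, ?_⟩
  · rw [stv_val_apply26, h1]; simp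
  · rw [stv_val_apply26, h2]; simp
  · rw [stv_val_apply26, h2, if_neg hoo']; simp
  · rw [stv_val_apply26, h1, if_neg (Ne.symm hoo')]; simp
  · intro i hi hi'
    refine ⟨?_, ?_, ?_, ?_⟩
    · rw [stv_val_apply26, h1, if_neg hi]; simp
    · rw [stv_val_apply26, h2, if_neg hi']; simp
    · rw [stv_val_apply26, hw.1, if_neg (Ne.symm hi)]; simp
    · rw [stv_val_apply26, hw.2, if_neg (Ne.symm hi')]; simp

/-- (P2a) move: `SX M w ⊆ SX M (τ w)`, `τ = stv w' c`, `w' ∈ A₀`. -/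
theorem SX_stv (h : MCtx a b G M) {o o' : Fin a} (ho : o.val = 0) (ho' : o'.val = 1)
    (w w' : Fin a → F) (hw : w o = 0 ∧ w o' = 0) (hw' : w' o = 0 ∧ w' o' = 0) (c : F)
    {κ : Matrix (Fin b) (Fin b) F} (hκ : κ ∈ SX o o' M w) :
    κ ∈ SX o o' M (((stv w' c : GL (Fin a) F) : Matrix (Fin a) (Fin a) F) *ᵥ w) := by
  obtain ⟨ρ, Ξ, hρ, t, htM, ht⟩ := hκ
  have hoo' : o ≠ o' := by
    intro e; rw [e] at ho; omega
  have hθ : Mid o o' (fun i => w i • κ) := by
    constructor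
    · show w o • κ = 0
      rw [hw.1, zero_smul]
    · show w o' • κ = 0
      rw [hw.2, zero_smul]
  have hα := blockDiag_stv h.ea ho ho' w' hw' c
  have hkM : (kel (stv w' c) (1 : GL (Fin b) F) : GL (Idx a b) F) ∈ M := by
    apply Cfsg.Agent.Lib.Helper27.SOTLALeaf.kel_mem_M h (stv w' c) 1 1 1 (by ring)
    · intro x x'; rw [stv_sf, one_mul]
    · intro y y'; simp
  obtain ⟨-, hρ', hconj⟩ := Cfsg.Agent.Lib.Helper11.SOTLALeaf.kel_conj_uMat hoo' (stv w' c) (1 : GL (Fin b) F) hα (Ξ := Ξ) hθ hρ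
  refine ⟨(fun l => ∑ j, ((stv w' c)⁻¹ : GL (Fin a) F).val j l •
      (((1 : GL (Fin b) F) : Matrix (Fin b) (Fin b) F) * ρ j *
        (((1 : GL (Fin b) F)⁻¹ : GL (Fin b) F) : Matrix (Fin b) (Fin b) F))),
    (((1 : GL (Fin b) F) : Matrix (Fin b) (Fin b) F) * Ξ *
        (((1 : GL (Fin b) F)⁻¹ : GL (Fin b) F) : Matrix (Fin b) (Fin b) F)), hρ',
    kel (stv w' c) (1 : GL (Fin b) F) * t * (kel (stv w' c) (1 : GL (Fin b) F))⁻¹,
    M.mul_mem (M.mul_mem hkM htM) (M.inv_mem hkM), ?_⟩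
  rw [Units.val_mul, Units.val_mul, ht, hconj]
  congr 1
  funext k
  simp only [Units.val_one, inv_one, one_mul, mul_one, Matrix.mulVec, dotProduct]
  rw [Finset.sum_smul]
  apply Finset.sum_congr rfl
  intro i _
  rw [smul_smul]

/-- the partner of a middle index is a middle index -/
lemma pr_mid (ea : Even a) {o o' : Fin a} (ho : o.val = 0) (ho' : o'.val = 1) {i : Fin a}
    (hi : i ≠ o) (hi' : i ≠ o') : pr ea i ≠ o ∧ pr ea i ≠ o' := by
  have hpo : pr ea o = o' := by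
    apply Fin.ext
    rw [pr_val_even ea o (by omega)]; omega
  have hpo' : pr ea o' = o := by
    rw [← hpo, pr_pr]
  constructor
  · intro e
    apply hi'
    rw [← pr_pr ea i, e, hpo]
  · intro e
    apply hi
    rw [← pr_pr ea i, e, hpo']

/-- non-degeneracy of `sf` on the middle space -/
lemma exists_sf_mid (ea : Even a) {o o' : Fin a} (ho : o.val = 0) (ho' : o'.val = 1)
    (w : Fin a → F) (hw : w o = 0 ∧ w o' = 0) (hw0 : w ≠ 0) :
    ∃ t : Fin a → F, (t o = 0 ∧ t o' = 0) ∧ sf w t ≠ 0 := by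
  obtain ⟨i, hi⟩ := Function.ne_iff.mp hw0
  have hio : i ≠ o := by
    intro e; rw [e] at hi; exact hi hw.1
  have hio' : i ≠ o' := by
    intro e; rw [e] at hi; exact hi hw.2
  obtain ⟨h1, h2⟩ := pr_mid ea ho ho' hio hio'
  refine ⟨Pi.single (pr ea i) 1, ⟨?_, ?_⟩, ?_⟩
  · rw [Pi.single_eq_of_ne (Ne.symm h1)]
  · rw [Pi.single_eq_of_ne (Ne.symm h2)]
  · rw [sf_skew, sf_single_left' ea, pr_pr]
    have h := Jm_pr_ne_zero (F := F) ea (pr ea i)
    rw [pr_pr] at h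
    exact neg_ne_zero.2 (mul_ne_zero h hi)

/-- (P2b) transitivity of the transvections `stv w' c`, `w' ∈ A₀`, on `A₀ ∖ 0`; so `SX M w₁ ⊆ SX M w₂`. -/
theorem SX_mono (h : MCtx a b G M) (h4 : 4 ≤ a) {o o' : Fin a} (ho : o.val = 0) (ho' : o'.val = 1)
    (w₁ w₂ : Fin a → F) (hw₁ : w₁ o = 0 ∧ w₁ o' = 0) (hw₂ : w₂ o = 0 ∧ w₂ o' = 0) (h1 : w₁ ≠ 0)
    (h2 : w₂ ≠ 0) : SX o o' M w₁ ⊆ SX o o' M w₂ := by
  -- one step
  have step : ∀ u y : Fin a → F, (u o = 0 ∧ u o' = 0) → (y o = 0 ∧ y o' = 0) → sf u y ≠ 0 →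
      SX o o' M u ⊆ SX o o' M y := by
    intro u y hu hy huy κ hκ
    have hyu : (y - u) o = 0 ∧ (y - u) o' = 0 := by
      constructor
      · rw [Pi.sub_apply, hy.1, hu.1, sub_zero]
      · rw [Pi.sub_apply, hy.2, hu.2, sub_zero]
    have := SX_stv h ho ho' u (y - u) hu hyu (sf u y)⁻¹ hκ
    rwa [Cfsg.Agent.Lib.Helper7.SpTLeaf.sp_trans_one u y huy] at this
  by_cases h0 : sf w₁ w₂ ≠ 0
  · exact step w₁ w₂ hw₁ hw₂ h0
  · rw [not_not] at h0
    obtain ⟨t, ht, ht1, ht2⟩ : ∃ t : Fin a → F, (t o = 0 ∧ t o' = 0) ∧ sf w₁ t ≠ 0 ∧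
        sf t w₂ ≠ 0 := by
      obtain ⟨t1, ht1m, ht1⟩ := exists_sf_mid h.ea ho ho' w₁ hw₁ h1
      obtain ⟨t2, ht2m, ht2⟩ := exists_sf_mid h.ea ho ho' w₂ hw₂ h2
      by_cases e1 : sf t1 w₂ ≠ 0
      · exact ⟨t1, ht1m, ht1, e1⟩
      · rw [not_not] at e1
        by_cases e2 : sf w₁ t2 ≠ 0
        · refine ⟨t2, ht2m, e2, ?_⟩
          rw [sf_skew]
          exact neg_ne_zero.2 ht2
        · rw [not_not] at e2
          refine ⟨t1 + t2, ⟨?_, ?_⟩, ?_, ?_⟩
          · rw [Pi.add_apply, ht1m.1, ht2m.1, add_zero]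
          · rw [Pi.add_apply, ht1m.2, ht2m.2, add_zero]
          · rw [sf_add_right, e2, add_zero]
            exact ht1
          · rw [sf_add_left, e1, zero_add, sf_skew]
            exact neg_ne_zero.2 ht2
    exact (step w₁ t hw₁ ht ht1).trans (step t w₂ ht hw₂ ht2)

end Cfsg.Agent.Lib.Helper26.SOTLALeaf
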