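import Mathlib
import Cfsg.Prelude.Def_ClassicalGeometry
import Cfsg.Prelude.Def_GeometricClasses
import Cfsg.Agent.Lib.Helper2.SOTDefs
import Cfsg.Agent.Lib.Helper2.SOTGDefs
import Cfsg.Agent.Lib.Helper4.SOTS
import Cfsg.Agent.Lib.Helper7.SpTN
import Cfsg.Agent.Lib.Helper27.SOTLADefs
import Cfsg.Agent.Lib.Helper6.SOTLAU1
import Cfsg.Agent.Lib.Helper27.SOTLAU5
import Cfsg.Agent.Lib.Helper11.SOTLAU4a
import Cfsg.Agent.Lib.Helper26.SOTLAP2

/-!
S5666 (LA) leaf P1: `isolate` (conjugate a `U`-form element by `kA e_k c`, `k` middle, and divide: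
`θ_{pr k} ∈ SX M e_k`), exact signature of notes/S5666_LA_leaves.lean.  By-product: `Jm_pr_sq`.
-/

set_option autoImplicit false
set_option linter.unusedSectionVars false
set_option linter.unusedVariables false

namespace Cfsg.Agent.Lib.Helper26.SOTLALeaf
open Matrix
open Cfsg.Agent.Lib.Helper25.Tens Cfsg.Agent.Lib.Helper25.SpT Cfsg.Agent.Lib.Helper19.OSub
open Cfsg.Agent.Lib.Helper2.SOT Cfsg.Agent.Lib.Helper27.SOTLA
open scoped Kronecker

variable {F : Type*} [Field F] [Fintype F] {a b : ℕ} {G : Matrix (Fin b) (Fin b) F}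
  {M : Subgroup (GL (Idx a b) F)}

/-- `J(pr k, k)² = 1` -/
lemma Jm_pr_sq (ea : Even a) (k : Fin a) :
    (Jm a : Matrix (Fin a) (Fin a) F) (pr ea k) k * Jm a (pr ea k) k = 1 := by
  have h := Jm_pr (F := F) ea (pr ea k)
  rw [pr_pr] at h
  rw [h]
  split_ifs <;> ring

/-- (P1) isolate. -/
theorem isolate (h : MCtx a b G M) {o o' : Fin a} (ho : o.val = 0) (ho' : o'.val = 1)
    {θ ρ : Fin a → Matrix (Fin b) (Fin b) F} {Ξ : Matrix (Fin b) (Fin b) F}
    (hθ : Mid o o' θ) (hρ : Mid o o' ρ) (hM : InM M (uMat o o' θ ρ Ξ)) (k : Fin a) (hk : k ≠ o)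
    (hk' : k ≠ o') : θ (pr h.ea k) ∈ SX o o' M (Pi.single k (1 : F)) := by
  have hoo' : o ≠ o' := by
    intro e; rw [e] at ho; omega
  obtain ⟨t, htM, ht⟩ := hM
  set c : F := (Jm a : Matrix (Fin a) (Fin a) F) (pr h.ea k) k with hc
  have hek : (Pi.single k (1 : F) : Fin a → F) o = 0 ∧ (Pi.single k (1 : F) : Fin a → F) o' = 0 :=
    ⟨Pi.single_eq_of_ne (Ne.symm hk) _, Pi.single_eq_of_ne (Ne.symm hk') _⟩
  have hα := blockDiag_stv h.ea ho ho' (Pi.single k (1 : F)) hek c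
  have hkM : (kA (Pi.single k (1 : F)) c : GL (Idx a b) F) ∈ M := Cfsg.Agent.Lib.Helper27.SOTLALeaf.kA_mem_M h _ _
  obtain ⟨hθ', hρ', hconj⟩ := Cfsg.Agent.Lib.Helper11.SOTLALeaf.kel_conj_uMat hoo' (stv (Pi.single k (1 : F)) c) (1 : GL (Fin b) F) hα
    (Ξ := Ξ) hθ hρ
  have h1 : InM M (uMat o o'
      (fun k' => ∑ i, ((stv (Pi.single k (1 : F)) c : GL (Fin a) F) : Matrix (Fin a) (Fin a) F) k' i •
        (((1 : GL (Fin b) F) : Matrix (Fin b) (Fin b) F) * θ i *
          (((1 : GL (Fin b) F)⁻¹ : GL (Fin b) F) : Matrix (Fin b) (Fin b) F)))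
      (fun l => ∑ j, ((stv (Pi.single k (1 : F)) c)⁻¹ : GL (Fin a) F).val j l •
        (((1 : GL (Fin b) F) : Matrix (Fin b) (Fin b) F) * ρ j *
          (((1 : GL (Fin b) F)⁻¹ : GL (Fin b) F) : Matrix (Fin b) (Fin b) F)))
      (((1 : GL (Fin b) F) : Matrix (Fin b) (Fin b) F) * Ξ *
          (((1 : GL (Fin b) F)⁻¹ : GL (Fin b) F) : Matrix (Fin b) (Fin b) F))) := by
    refine ⟨kA (Pi.single k (1 : F)) c * t * (kA (Pi.single k (1 : F)) c)⁻¹,
      M.mul_mem (M.mul_mem hkM htM) (M.inv_mem hkM), ?_⟩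
    rw [Units.val_mul, Units.val_mul, ht]
    exact hconj
  have h2 : InM M (uMat o o' (-θ) (-ρ) (-Ξ + ∑ j, ρ j * θ j)) :=
    Cfsg.Agent.Lib.Helper6.SOTLALeaf.inM_uMat_inv hoo' hθ hρ ⟨t, htM, ht⟩
  have hnθ : Mid o o' (-θ) := by
    constructor
    · show -θ o = 0
      rw [hθ.1, neg_zero]
    · show -θ o' = 0
      rw [hθ.2, neg_zero]
  have hnρ : Mid o o' (-ρ) := by
    constructor
    · show -ρ o = 0
      rw [hρ.1, neg_zero]
    · show -ρ o' = 0
      rw [hρ.2, neg_zero]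
  have h3 := Cfsg.Agent.Lib.Helper6.SOTLALeaf.inM_uMat_mul hoo' hθ' hρ' hnθ hnρ h1 h2
  have hMid : Mid o o' ((fun l => ∑ j, ((stv (Pi.single k (1 : F)) c)⁻¹ : GL (Fin a) F).val j l •
        (((1 : GL (Fin b) F) : Matrix (Fin b) (Fin b) F) * ρ j *
          (((1 : GL (Fin b) F)⁻¹ : GL (Fin b) F) : Matrix (Fin b) (Fin b) F))) + -ρ) := by
    constructor
    · show _ + -ρ o = 0
      rw [hρ.1, neg_zero, add_zero]
      exact hρ'.1
    · show _ + -ρ o' = 0
      rw [hρ.2, neg_zero, add_zero]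
      exact hρ'.2
  have hfun : ((fun k' => ∑ i, ((stv (Pi.single k (1 : F)) c : GL (Fin a) F) : Matrix (Fin a) (Fin a) F) k' i •
        (((1 : GL (Fin b) F) : Matrix (Fin b) (Fin b) F) * θ i *
          (((1 : GL (Fin b) F)⁻¹ : GL (Fin b) F) : Matrix (Fin b) (Fin b) F))) + -θ) =
      (fun i => (Pi.single k (1 : F) : Fin a → F) i • θ (pr h.ea k)) := by
    funext i
    simp only [Pi.add_apply, Pi.neg_apply, Units.val_one, inv_one, one_mul, mul_one]
    -- `Σ_j α i j • θ_j - θ_i = δ_ik • θ_{pr k}`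
    have hsum : ∀ j : Fin a, (∑ l, (Jm a : Matrix (Fin a) (Fin a) F) j l *
        (Pi.single k (1 : F) : Fin a → F) l) = Jm a j k := by
      intro j
      rw [Finset.sum_eq_single k]
      · rw [Pi.single_eq_same, mul_one]
      · intro l _ hl
        rw [Pi.single_eq_of_ne hl, mul_zero]
      · intro hh; exact absurd (Finset.mem_univ k) hh
    have hexp : ∑ j, ((stv (Pi.single k (1 : F)) c : GL (Fin a) F) : Matrix (Fin a) (Fin a) F) i j • θ j
        = θ i + (c * (Pi.single k (1 : F) : Fin a → F) i * Jm a (pr h.ea k) k) • θ (pr h.ea k) := by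
      have : ∀ j, ((stv (Pi.single k (1 : F)) c : GL (Fin a) F) : Matrix (Fin a) (Fin a) F) i j • θ j =
          (if i = j then θ j else 0) +
            (c * (Pi.single k (1 : F) : Fin a → F) i * Jm a j k) • θ j := by
        intro j
        rw [stv_val_apply26, hsum, add_smul]
        congr 1
        split_ifs <;> simp
      simp_rw [this]
      rw [Finset.sum_add_distrib, Finset.sum_ite_eq Finset.univ i (fun j => θ j),
        if_pos (Finset.mem_univ i)]
      congr 1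
      rw [Finset.sum_eq_single (pr h.ea k)]
      · intro j _ hj
        have : (Jm a : Matrix (Fin a) (Fin a) F) j k = 0 := by
          apply Jm_eq_zero_of_ne h.ea j k
          intro e
          apply hj
          rw [e, pr_pr]
        rw [this, mul_zero, zero_smul]
      · intro hh; exact absurd (Finset.mem_univ _) hh
    rw [hexp, ← hc, mul_right_comm, Jm_pr_sq h.ea k, one_mul]
    abel
  rw [hfun] at h3
  exact ⟨_, _, hMid, h3⟩

end Cfsg.Agent.Lib.Helper26.SOTLALeaf
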