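import Mathlib
import Cfsg.Prelude.Def_ClassicalGeometry
import Cfsg.Prelude.Def_GeometricClasses
import Cfsg.Agent.Lib.Helper5.SpMax
import Cfsg.Agent.Lib.Helper2.SpSubDefs
import Cfsg.Agent.Lib.Helper2.SpSubBasic

/-!
# S5650 leaf N2 (helper26), core: a transvection of `M` whose centre is orthogonal to a rational
vector has a rational centre (up to a scalar).  The leaves B3, N1, T2 enter as hypotheses.
-/

set_option autoImplicit false
set_option linter.unusedVariables false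
set_option linter.unusedSectionVars false

open Cfsg Matrix Cfsg.Agent.Lib.Helper5 Cfsg.Agent.Lib.Helper5.SpMax Cfsg.Agent.Lib.Helper2.SpSub

namespace Cfsg.Agent.Lib.Helper26.SpSubLeaf

variable {F : Type*} [Field F] {m : ℕ}

/-- partner index -/
def par : Fin m ⊕ Fin m → Fin m ⊕ Fin m
  | Sum.inl i => Sum.inr i
  | Sum.inr i => Sum.inl i

/-- sign of an index -/
def sgn (F : Type*) [Field F] : Fin m ⊕ Fin m → F
  | Sum.inl _ => -1
  | Sum.inr _ => 1

theorem par_par (u : Fin m ⊕ Fin m) : par (par u) = u := by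
  cases u <;> rfl

theorem sgn_ne_zero (u : Fin m ⊕ Fin m) : sgn F u ≠ 0 := by
  cases u <;> simp [sgn]

theorem B_single (u : Fin m ⊕ Fin m) (x : Fin m ⊕ Fin m → F) :
    sympForm m F (Pi.single u 1) x = sgn F u * x (par u) := by
  cases u with
  | inl i =>
    have := B_left_ee (F := F) i x
    unfold ee at this
    rw [this]; simp [sgn, par]
  | inr i =>
    have := B_left_ff (F := F) i x
    unfold ff at this
    rw [this]; simp [sgn, par]

/-- Step 2: a vector orthogonal to all rational vectors of `a^⊥` is a multiple of `a`. -/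
theorem dep_of_orth (F₀ : Subfield F) {a y : Fin m ⊕ Fin m → F} (ha : RatV F₀ a) (ha0 : a ≠ 0)
    (h : ∀ b, RatV F₀ b → sympForm m F a b = 0 → sympForm m F b y = 0) : ∃ θ : F, y = θ • a := by
  classical
  obtain ⟨u₀, hu₀⟩ : ∃ k, a k ≠ 0 := by
    by_contra hh
    apply ha0
    funext k
    by_contra hk
    exact hh ⟨k, hk⟩
  set astar : Fin m ⊕ Fin m → F := Pi.single (par u₀) 1 with hastar
  set β : F := sympForm m F astar a with hβ
  have hβ0 : β ≠ 0 := by
    rw [hβ, hastar, B_single, par_par]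
    exact mul_ne_zero (sgn_ne_zero _) hu₀
  have hβr : β ∈ F₀ := ratV_sympForm (ratV_single _) ha
  refine ⟨sympForm m F astar y / β, ?_⟩
  set θ : F := sympForm m F astar y / β with hθ
  funext v
  -- use u = par v
  set u := par v with hu
  set κ : F := sympForm m F (Pi.single u 1) a / β with hκ
  have hκr : κ ∈ F₀ := F₀.div_mem (ratV_sympForm (ratV_single _) ha) hβr
  have hb : RatV F₀ (Pi.single u 1 - κ • astar) :=
    ratV_sub (ratV_single _) (ratV_smul hκr (ratV_single _))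
  have hab : sympForm m F a (Pi.single u 1 - κ • astar) = 0 := by
    rw [sympForm_sub_right, sympForm_smul_right, sympForm_swap (u := a) (v := Pi.single u 1),
      sympForm_swap (u := a) (v := astar), ← hβ, hκ]
    field_simp
    ring
  have h1 := h _ hb hab
  rw [sympForm_sub_left, sympForm_smul_left, sub_eq_zero] at h1
  -- B(ε_u, y) = κ B(astar, y) = θ B(ε_u, a)
  have h2 : sympForm m F (Pi.single u 1) y = θ * sympForm m F (Pi.single u 1) a := by
    rw [h1, hκ, hθ]
    field_simp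
  rw [B_single, B_single, hu, par_par] at h2
  have h3 : y v = θ * a v := by
    have hs := sgn_ne_zero (F := F) (par v)
    have : sgn F (par v) * y v = sgn F (par v) * (θ * a v) := by rw [h2]; ring
    exact mul_left_cancel₀ hs this
  rw [h3]
  simp [Pi.smul_apply]

theorem ee_ne_zero (i : Fin m) : (ee i : Fin m ⊕ Fin m → F) ≠ 0 := by
  intro h
  have := congrFun h (Sum.inl i)
  simp [ee] at this

theorem ee_apply_inl (i j : Fin m) : (ee i : Fin m ⊕ Fin m → F) (Sum.inl j) = if j = i then 1 else 0 := by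
  unfold ee
  by_cases h : j = i
  · subst h; simp
  · have : (Sum.inl j : Fin m ⊕ Fin m) ≠ Sum.inl i := fun e => h (Sum.inl.inj e)
    simp [h]

/-- (N2) core. -/
theorem ratC_core {F₀ : Subfield F} (hm : 3 ≤ m) {M : Subgroup (GL (Fin m ⊕ Fin m) F)}
    (h : Ctx F₀ M)
    (hB3 : ∀ {a b y : Fin m ⊕ Fin m → F}, sympForm m F a b = 0 → sympForm m F a y = 0 → ∀ c : F,
      tvc y c * Sab a b 1 * (tvc y c)⁻¹ * (Sab a b 1)⁻¹ =
        Sab a ((c * sympForm m F b y) • y) 1 * tvc a (-(c * sympForm m F b y ^ 2)))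
    (hN1 : ∀ {a w : Fin m ⊕ Fin m → F}, RatV F₀ a → a ≠ 0 → sympForm m F a w = 0 → ∀ {ν : F},
      Sab a w 1 * tvc a ν ∈ M → ∃ (r : Fin m ⊕ Fin m → F) (θ : F), RatV F₀ r ∧ w = r + θ • a)
    (hT2 : ∀ {i j : Fin m}, i ≠ j → ∀ {a d : Fin m ⊕ Fin m → F}, RatV F₀ a → RatV F₀ d →
      sympForm m F a d = 0 → (∀ s t : F, s • a + t • d = 0 → s = 0 ∧ t = 0) →
      ∃ g ∈ H0 m F₀, mv g (ee i) = a ∧ mv g (ee j) = d)
    {y : Fin m ⊕ Fin m → F} {c : F} (hc0 : c ≠ 0) (hT : tvc y c ∈ M)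
    {a : Fin m ⊕ Fin m → F} (ha : RatV F₀ a) (ha0 : a ≠ 0) (hya : sympForm m F y a = 0) :
    ∃ (μ : F) (r : Fin m ⊕ Fin m → F), RatV F₀ r ∧ y = μ • r := by
  have hay : sympForm m F a y = 0 := by rw [sympForm_swap, hya, neg_zero]
  by_cases hall : ∀ b, RatV F₀ b → sympForm m F a b = 0 → sympForm m F b y = 0
  · obtain ⟨θ, hθ⟩ := dep_of_orth F₀ ha ha0 hall
    exact ⟨θ, a, ha, hθ⟩
  push Not at hall
  obtain ⟨b, hb, hab, hby⟩ := hall
  set μ : F := c * sympForm m F b y with hμ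
  have hμ0 : μ ≠ 0 := mul_ne_zero hc0 hby
  have hSab : Sab a b 1 ∈ M := h.le (Sab_mem_H0 ha hb F₀.one_mem)
  have h1 : Sab a (μ • y) 1 * tvc a (-(c * sympForm m F b y ^ 2)) ∈ M := by
    rw [← hB3 hab hay c]
    exact M.mul_mem (M.mul_mem (M.mul_mem hT hSab) (M.inv_mem hT)) (M.inv_mem hSab)
  have haμy : sympForm m F a (μ • y) = 0 := by rw [sympForm_smul_right, hay, mul_zero]
  obtain ⟨r, θ, hr, hyr⟩ := hN1 ha ha0 haμy h1
  have hr_eq : r = μ • y - θ • a := by rw [hyr]; abel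
  have hra : sympForm m F r a = 0 := by
    rw [hr_eq, sympForm_sub_left, sympForm_smul_left, sympForm_smul_left, hya, sympForm_self]
    ring
  have hy_eq : y = μ⁻¹ • (r + θ • a) := by
    rw [← hyr, smul_smul, inv_mul_cancel₀ hμ0, one_smul]
  by_cases hdep : ∃ s t : F, (s ≠ 0 ∨ t ≠ 0) ∧ s • r + t • a = 0
  · obtain ⟨s, t, hst, e⟩ := hdep
    have hs : s ≠ 0 := by
      intro hs0
      subst hs0
      rw [zero_smul, zero_add] at e
      rcases hst with h0 | h0
      · exact h0 rfl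
      · rcases smul_eq_zero.1 e with h' | h'
        · exact h0 h'
        · exact ha0 h'
    have hr' : r = (-(t / s)) • a := by
      have : s • r = (-t) • a := by
        rw [neg_smul]; exact eq_neg_of_add_eq_zero_left e
      calc r = s⁻¹ • (s • r) := by rw [smul_smul, inv_mul_cancel₀ hs, one_smul]
        _ = s⁻¹ • ((-t) • a) := by rw [this]
        _ = (-(t / s)) • a := by rw [smul_smul]; congr 1; field_simp
    refine ⟨μ⁻¹ * (-(t / s) + θ), a, ha, ?_⟩
    rw [hy_eq, hr', ← add_smul, smul_smul]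
  · have hind : ∀ s t : F, s • r + t • a = 0 → s = 0 ∧ t = 0 := by
      intro s t e
      by_contra hcon
      apply hdep
      refine ⟨s, t, ?_, e⟩
      by_contra hh
      push Not at hh
      exact hcon hh
    let i1 : Fin m := ⟨0, by omega⟩
    let i2 : Fin m := ⟨1, by omega⟩
    let i3 : Fin m := ⟨2, by omega⟩
    have h12 : i1 ≠ i2 := by intro e; simpa [i1, i2] using congrArg Fin.val e
    have h13 : i1 ≠ i3 := by intro e; simpa [i1, i3] using congrArg Fin.val e
    have h23 : i2 ≠ i3 := by intro e; simpa [i2, i3] using congrArg Fin.val e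
    obtain ⟨g, hg, hg1, hg2⟩ := hT2 h12 hr ha hra hind
    have hgM : g ∈ M := h.le hg
    have hgsp : g ∈ spGL m F := h.le_sp hgM
    set y₁ : Fin m ⊕ Fin m → F := ee i1 + θ • ee i2 with hy₁
    have hgy₁ : mv g y₁ = μ • y := by
      rw [hy₁, mv_add, mv_smul, hg1, hg2, hyr]
    set c₁ : F := c / μ ^ 2 with hc₁
    have hc₁0 : c₁ ≠ 0 := div_ne_zero hc0 (pow_ne_zero _ hμ0)
    have hT' : tvc (μ • y) c₁ ∈ M := by
      rw [tvc_smul]
      have : μ ^ 2 * c₁ = c := by rw [hc₁]; field_simp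
      rw [this]; exact hT
    have hT₁ : tvc y₁ c₁ ∈ M := by
      have hinv : g⁻¹ ∈ spGL m F := (spGL m F).inv_mem hgsp
      have e := conj_tvc hinv (μ • y) c₁
      have e2 : ((g⁻¹ : GL (Fin m ⊕ Fin m) F) : Matrix (Fin m ⊕ Fin m) (Fin m ⊕ Fin m) F) *ᵥ (μ • y)
          = y₁ := by
        have := mv_inv_mv g y₁
        rw [hgy₁] at this
        exact this
      rw [e2, inv_inv] at e
      rw [← e]
      exact M.mul_mem (M.mul_mem (M.inv_mem hgM) hT') hgM
    have hab' : sympForm m F (ee i3 : Fin m ⊕ Fin m → F) (ff i2) = 0 := by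
      rw [B_ee_ff, if_neg (Ne.symm h23)]
    have hay' : sympForm m F (ee i3 : Fin m ⊕ Fin m → F) y₁ = 0 := by
      rw [hy₁, sympForm_add_right, sympForm_smul_right, B_ee_ee, B_ee_ee]; ring
    have hfy : sympForm m F (ff i2 : Fin m ⊕ Fin m → F) y₁ = θ := by
      rw [hy₁, sympForm_add_right, sympForm_smul_right, B_ff_ee, B_ff_ee, if_neg (Ne.symm h12),
        if_pos rfl]
      ring
    have hSab' : Sab (ee i3 : Fin m ⊕ Fin m → F) (ff i2) 1 ∈ M :=
      h.le (Sab_mem_H0 (ratV_ee i3) (ratV_ff i2) F₀.one_mem)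
    have h2 : Sab (ee i3) ((c₁ * θ) • y₁) 1 * tvc (ee i3) (-(c₁ * θ ^ 2)) ∈ M := by
      have e := hB3 hab' hay' c₁
      rw [hfy] at e
      rw [← e]
      exact M.mul_mem (M.mul_mem (M.mul_mem hT₁ hSab') (M.inv_mem hT₁)) (M.inv_mem hSab')
    have hay'' : sympForm m F (ee i3 : Fin m ⊕ Fin m → F) ((c₁ * θ) • y₁) = 0 := by
      rw [sympForm_smul_right, hay', mul_zero]
    obtain ⟨r', θ', hr', hyr'⟩ := hN1 (ratV_ee i3) (ee_ne_zero i3) hay'' h2
    have hξ : c₁ * θ ∈ F₀ := by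
      have e := congrFun hyr' (Sum.inl i1)
      have e1 : (ee i1 : Fin m ⊕ Fin m → F) (Sum.inl i1) = 1 := by rw [ee_apply_inl, if_pos rfl]
      have e2 : (ee i2 : Fin m ⊕ Fin m → F) (Sum.inl i1) = 0 := by rw [ee_apply_inl, if_neg h12]
      have e3 : (ee i3 : Fin m ⊕ Fin m → F) (Sum.inl i1) = 0 := by rw [ee_apply_inl, if_neg h13]
      simp only [Pi.smul_apply, Pi.add_apply, hy₁, smul_eq_mul, e1, e2, e3, mul_zero, add_zero,
        mul_one] at e
      rw [e]; exact hr' _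
    have hξθ : c₁ * θ * θ ∈ F₀ := by
      have e := congrFun hyr' (Sum.inl i2)
      have e1 : (ee i1 : Fin m ⊕ Fin m → F) (Sum.inl i2) = 0 := by
        rw [ee_apply_inl, if_neg (Ne.symm h12)]
      have e2 : (ee i2 : Fin m ⊕ Fin m → F) (Sum.inl i2) = 1 := by rw [ee_apply_inl, if_pos rfl]
      have e3 : (ee i3 : Fin m ⊕ Fin m → F) (Sum.inl i2) = 0 := by rw [ee_apply_inl, if_neg h23]
      simp only [Pi.smul_apply, Pi.add_apply, hy₁, smul_eq_mul, e1, e2, e3, mul_zero, add_zero,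
        zero_add, mul_one] at e
      rw [e]; exact hr' _
    have hθ : θ ∈ F₀ := by
      by_cases hθ0 : θ = 0
      · rw [hθ0]; exact F₀.zero_mem
      · have hne : c₁ * θ ≠ 0 := mul_ne_zero hc₁0 hθ0
        have : θ = (c₁ * θ * θ) / (c₁ * θ) := by field_simp
        rw [this]; exact F₀.div_mem hξθ hξ
    exact ⟨μ⁻¹, r + θ • a, ratV_add hr (ratV_smul hθ ha), hy_eq⟩

end Cfsg.Agent.Lib.Helper26.SpSubLeaf
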