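/-
helper26: leaf B of helper1's S4130 project (Chillag-Herzog, squarefree class sizes): a nontrivial finite
solvable group with all class sizes squarefree has a normal subgroup of prime order.
-/
import Mathlib
import Cfsg.Prelude.Def_Solvable
import Cfsg.Prelude.Def_SolvableStructure
import Cfsg.Agent.Lib.Helper1.SqfDefs
import Cfsg.Agent.Lib.Helper1.MinNormal

set_option autoImplicit false
set_option linter.style.haveILetI false

namespace Cfsg.Agent.Lib.Helper26.SqfLeaf

open Subgroup Cfsg.Agent.Lib.Helper1.Sqf Cfsg.Agent.Lib.Helper1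

section chom

variable {G : Type*} [Group G] (M : Subgroup G) [hMn : M.Normal]
  (hab : ∀ a ∈ M, ∀ b ∈ M, a * b = b * a)

/-- the commutator map `m ↦ g m g⁻¹ m⁻¹` on an abelian normal subgroup -/
def cHom (g : G) : M →* M where
  toFun m := ⟨g * m * g⁻¹ * (m : G)⁻¹, M.mul_mem (hMn.conj_mem m m.2 g) (M.inv_mem m.2)⟩
  map_one' := by
    apply Subtype.ext
    simp
  map_mul' a b := by
    apply Subtype.ext
    have hB : g * b * g⁻¹ * (b : G)⁻¹ ∈ M :=
      M.mul_mem (hMn.conj_mem b b.2 g) (M.inv_mem b.2)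
    have hc := hab (a : G)⁻¹ (M.inv_mem a.2) _ hB
    change g * ((a : G) * b) * g⁻¹ * ((a : G) * b)⁻¹ =
      g * a * g⁻¹ * (a : G)⁻¹ * (g * b * g⁻¹ * (b : G)⁻¹)
    calc g * ((a : G) * b) * g⁻¹ * ((a : G) * b)⁻¹
        = g * a * g⁻¹ * ((g * b * g⁻¹ * (b : G)⁻¹) * (a : G)⁻¹) := by group
      _ = g * a * g⁻¹ * ((a : G)⁻¹ * (g * b * g⁻¹ * (b : G)⁻¹)) := by rw [hc]
      _ = g * a * g⁻¹ * (a : G)⁻¹ * (g * b * g⁻¹ * (b : G)⁻¹) := by group

theorem cHom_apply (g : G) (m : M) : ((cHom M hab g m : M) : G) = g * m * g⁻¹ * (m : G)⁻¹ := rfl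

theorem mem_ker_cHom (g : G) (m : M) : m ∈ (cHom M hab g).ker ↔ g * m = m * g := by
  rw [MonoidHom.mem_ker, Subtype.ext_iff, cHom_apply, Subgroup.coe_one]
  constructor
  · intro h
    calc g * m = (g * m * g⁻¹ * (m : G)⁻¹) * m * g := by group
      _ = m * g := by rw [h, one_mul]
  · intro h
    calc g * m * g⁻¹ * (m : G)⁻¹ = (g * m) * g⁻¹ * (m : G)⁻¹ := by group
      _ = 1 := by rw [h]; group

theorem ker_cHom (g : G) :
    (cHom M hab g).ker = (centralizer ({g} : Set G)).subgroupOf M := by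
  ext m
  rw [mem_ker_cHom, mem_subgroupOf, mem_centralizer_singleton_iff]
  exact eq_comm

end chom

theorem eq_of_card_prime_of_mem {A : Type*} [Group A] (r : ℕ) (hr : r.Prime) (K K' : Subgroup A)
    [Finite K] [Finite K'] (hK : Nat.card K = r) (hK' : Nat.card K' = r) (ℓ : A) (h1 : ℓ ∈ K)
    (h2 : ℓ ∈ K') (hℓ : ℓ ≠ 1) : K = K' := by
  have key : ∀ (L : Subgroup A) [Finite L], Nat.card L = r → ℓ ∈ L → zpowers ℓ = L := by
    intro L _ hL hmem
    have hle : zpowers ℓ ≤ L := (zpowers_le).mpr hmem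
    have hdvd : orderOf ℓ ∣ r := hL ▸ Subgroup.orderOf_dvd_natCard L hmem
    have hord : orderOf ℓ = r := by
      rcases (Nat.dvd_prime hr).mp hdvd with h | h
      · exact absurd (orderOf_eq_one_iff.mp h) hℓ
      · exact h
    haveI : Finite (zpowers ℓ) := Finite.of_injective (Subgroup.inclusion hle)
      (Subgroup.inclusion_injective hle)
    apply Subgroup.eq_of_le_of_card_ge hle
    rw [Nat.card_zpowers, hord, hL]
  rw [← key K hK h1, ← key K' hK' h2]

section main

variable {G : Type*} [Group G] [Finite G] (M : Subgroup G) [hMn : M.Normal]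
  (hab : ∀ a ∈ M, ∀ b ∈ M, a * b = b * a) (r : ℕ) [hr : Fact r.Prime]
  (hexp : ∀ x ∈ M, x ^ r = 1) (h : SF G)

include hexp h in
theorem card_range_cHom (g : G) :
    Nat.card (cHom M hab g).range = 1 ∨ Nat.card (cHom M hab g).range = r := by
  have h1 : Nat.card (cHom M hab g).range ∣ (centralizer ({g} : Set G)).index := by
    rw [← Subgroup.index_ker, ker_cHom]
    exact relIndex_centralizer_dvd M g
  have hsq : Squarefree (Nat.card (cHom M hab g).range) := (h g).squarefree_of_dvd h1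
  have hp : IsPGroup r M := fun x => ⟨1, by
    rw [pow_one]
    exact Subtype.ext (by simpa using hexp x x.2)⟩
  obtain ⟨k, hk⟩ := hp.exists_card_eq
  have h2 : Nat.card (cHom M hab g).range ∣ r ^ k := hk ▸ Subgroup.card_subgroup_dvd_card _
  obtain ⟨i, -, hci⟩ := (Nat.dvd_prime_pow hr.out).mp h2
  rw [hci] at hsq ⊢
  rcases i with _ | _ | i
  · left; simp
  · right; simp
  · exfalso
    have hdvd : r * r ∣ r ^ (i + 2) := ⟨r ^ i, by ring⟩
    have hu := hsq r hdvd
    exact hr.out.one_lt.ne' (Nat.isUnit_iff.mp hu)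

include hexp h in
theorem card_range_of_moves (g : G) (hg : ∃ m ∈ M, g * m ≠ m * g) :
    Nat.card (cHom M hab g).range = r := by
  rcases card_range_cHom M hab r hexp h g with h1 | h1
  · exfalso
    obtain ⟨m, hm, hgm⟩ := hg
    have hbot := Subgroup.card_eq_one.mp h1
    have hmem : cHom M hab g ⟨m, hm⟩ ∈ (cHom M hab g).range := ⟨_, rfl⟩
    rw [hbot, Subgroup.mem_bot] at hmem
    exact hgm ((mem_ker_cHom M hab g ⟨m, hm⟩).mp hmem)
  · exact h1

omit [Finite G] in
theorem range_inv_le (g : G) : (cHom M hab g⁻¹).range ≤ (cHom M hab g).range := by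
  rintro _ ⟨m, rfl⟩
  have hm1 : g⁻¹ * (m : G)⁻¹ * g ∈ M := by
    have := hMn.conj_mem _ (M.inv_mem m.2) g⁻¹
    simpa using this
  have hm2 : g⁻¹ * (m : G) * g ∈ M := by
    have := hMn.conj_mem _ m.2 g⁻¹
    simpa using this
  refine ⟨⟨g⁻¹ * (m : G)⁻¹ * g, hm1⟩, ?_⟩
  apply Subtype.ext
  rw [cHom_apply, cHom_apply]
  have hc := hab (m : G)⁻¹ (M.inv_mem m.2) (g⁻¹ * m * g) hm2
  calc g * (g⁻¹ * (m : G)⁻¹ * g) * g⁻¹ * (g⁻¹ * (m : G)⁻¹ * g)⁻¹
      = (m : G)⁻¹ * (g⁻¹ * m * g) := by group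
    _ = (g⁻¹ * m * g) * (m : G)⁻¹ := hc
    _ = g⁻¹ * m * g⁻¹⁻¹ * (m : G)⁻¹ := by group

include hexp h in
theorem ker_eq_or_range_eq (g g' : G) (hg : ∃ m ∈ M, g * m ≠ m * g)
    (hg' : ∃ m ∈ M, g' * m ≠ m * g') :
    (cHom M hab g).ker = (cHom M hab g').ker ∨ (cHom M hab g).range = (cHom M hab g').range := by
  by_contra hcon
  push Not at hcon
  obtain ⟨hker, hrange⟩ := hcon
  have hr1 := card_range_of_moves M hab r hexp h g hg
  have hr2 := card_range_of_moves M hab r hexp h g' hg'
  have hr2' : 2 ≤ r := hr.out.two_le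
  -- an element fixed by `g * g'` but not by both
  have hex : ∃ m : M, m ∈ (cHom M hab (g * g')).ker ∧
      ¬ (m ∈ (cHom M hab g).ker ∧ m ∈ (cHom M hab g').ker) := by
    by_contra hno
    push Not at hno
    have key : ∀ g₀ : G, Nat.card (cHom M hab g₀).range = r →
        (cHom M hab (g * g')).ker ≤ (cHom M hab g₀).ker →
        (cHom M hab (g * g')).ker = (cHom M hab g₀).ker := by
      intro g₀ hr0 hle
      apply Subgroup.eq_of_le_of_card_ge hle
      have e1 := Subgroup.card_mul_index (cHom M hab (g * g')).ker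
      have e2 := Subgroup.card_mul_index (cHom M hab g₀).ker
      rw [Subgroup.index_ker] at e1 e2
      rw [hr0] at e2
      have hpos : 0 < Nat.card (cHom M hab g₀).ker := Nat.card_pos
      rcases card_range_cHom M hab r hexp h (g * g') with h1 | h1
      · rw [h1, mul_one] at e1
        have hle' := Subgroup.card_le_of_le hle
        rw [e1, ← e2] at hle'
        nlinarith
      · rw [h1] at e1
        have : Nat.card (cHom M hab (g * g')).ker * r = Nat.card (cHom M hab g₀).ker * r := by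
          rw [e1, e2]
        exact le_of_eq (Nat.eq_of_mul_eq_mul_right (by omega) this).symm
    have k1 := key g hr1 (fun m hm => (hno m hm).1)
    have k2 := key g' hr2 (fun m hm => (hno m hm).2)
    exact hker (k1.symm.trans k2)
  obtain ⟨m, hm, hnot⟩ := hex
  rw [mem_ker_cHom] at hm
  -- the common element
  have hconj : g' * (m : G) * g'⁻¹ = g⁻¹ * m * g := by
    calc g' * (m : G) * g'⁻¹ = g⁻¹ * (g * g' * m) * g'⁻¹ := by group
      _ = g⁻¹ * (m * (g * g')) * g'⁻¹ := by rw [hm]
      _ = g⁻¹ * m * g := by group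
  have heq : cHom M hab g' m = cHom M hab g⁻¹ m := by
    apply Subtype.ext
    rw [cHom_apply, cHom_apply, hconj, inv_inv]
  have hne : cHom M hab g' m ≠ 1 := by
    intro h1
    apply hnot
    have h2 : cHom M hab g⁻¹ m = 1 := heq ▸ h1
    refine ⟨?_, h1⟩
    have h3 : g⁻¹ * (m : G) = m * g⁻¹ := (mem_ker_cHom M hab g⁻¹ m).mp h2
    rw [mem_ker_cHom]
    calc g * (m : G) = g * (m * g⁻¹) * g := by group
      _ = g * (g⁻¹ * m) * g := by rw [h3]
      _ = m * g := by group
  apply hrange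
  exact (eq_of_card_prime_of_mem r hr.out _ _ hr2 hr1 (cHom M hab g' m) ⟨m, rfl⟩
    (range_inv_le M hab g (heq ▸ ⟨m, rfl⟩)) hne).symm

end main

/-- **Leaf B of S4130**: a nontrivial finite solvable group all of whose class sizes are squarefree
has a normal subgroup of prime order (in fact every minimal normal subgroup has prime order). -/
theorem exists_normal_prime_card {G : Type*} [Group G] [Finite G] [Nontrivial G]
    (h : SF G) (hs : Group.IsSolvable G) : ∃ N : Subgroup G, N.Normal ∧ (Nat.card N).Prime := by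
  classical
  obtain ⟨M, hM⟩ := exists_isMinNormal (G := G)
  have hcomm := hM.isMulCommutative
  obtain ⟨r, hr, hexp⟩ := hM.exists_prime_pow_eq_one
  obtain ⟨hMn, hM1, hmin⟩ := hM
  haveI := hMn
  haveI : Fact r.Prime := ⟨hr⟩
  have hab : ∀ a ∈ M, ∀ b ∈ M, a * b = b * a := fun a ha b hb =>
    congrArg Subtype.val (mul_comm' (⟨a, ha⟩ : M) ⟨b, hb⟩)
  refine ⟨M, hMn, ?_⟩
  suffices hcard : Nat.card M = r by rw [hcard]; exact hr
  by_cases hcen : ∀ g : G, ∀ m ∈ M, g * m = m * g
  · -- `M` is central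
    obtain ⟨⟨z, hzM⟩, hz1⟩ := (Subgroup.ne_bot_iff_exists_ne_one).mp hM1
    have hz1' : z ≠ 1 := fun e => hz1 (Subtype.ext e)
    have hzn : (zpowers z).Normal := by
      refine ⟨fun y hy g => ?_⟩
      have hyM : y ∈ M := (zpowers_le.mpr hzM) hy
      have : g * y * g⁻¹ = y := by rw [hcen g y hyM, mul_inv_cancel_right]
      rw [this]
      exact hy
    rcases hmin (zpowers z) hzn (zpowers_le.mpr hzM) with h0 | h0
    · exfalso
      have := Subgroup.mem_zpowers z
      rw [h0, Subgroup.mem_bot] at this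
      exact hz1' this
    · rw [← h0, Nat.card_zpowers]
      exact orderOf_eq_prime (hexp z hzM) hz1'
  · push Not at hcen
    obtain ⟨g₀, m₀, hm₀, hgm₀⟩ := hcen
    have hmv₀ : ∃ m ∈ M, g₀ * m ≠ m * g₀ := ⟨m₀, hm₀, hgm₀⟩
    have hr0 := card_range_of_moves M hab r hexp h g₀ hmv₀
    -- conjugates of moving elements are moving
    have hmvconj : ∀ g x : G, (∃ m ∈ M, g * m ≠ m * g) →
        ∃ m ∈ M, (x * g * x⁻¹) * m ≠ m * (x * g * x⁻¹) := by
      rintro g x ⟨m, hm, hgm⟩
      refine ⟨x * m * x⁻¹, hMn.conj_mem m hm x, fun e => hgm ?_⟩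
      calc g * m = x⁻¹ * ((x * g * x⁻¹) * (x * m * x⁻¹)) * x := by group
        _ = x⁻¹ * ((x * m * x⁻¹) * (x * g * x⁻¹)) * x := by rw [e]
        _ = m * g := by group
    by_cases hallker : ∀ g : G, (∃ m ∈ M, g * m ≠ m * g) →
        (cHom M hab g).ker = (cHom M hab g₀).ker
    · -- all moving elements have the same fixed subgroup: it is normal, hence trivial
      have hHn : (((cHom M hab g₀).ker).map M.subtype).Normal := by
        refine ⟨fun y hy x => ?_⟩
        obtain ⟨m, hm, rfl⟩ := hy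
        have hxm : x * (m : G) * x⁻¹ ∈ M := hMn.conj_mem m m.2 x
        refine ⟨⟨x * (m : G) * x⁻¹, hxm⟩, ?_, rfl⟩
        have hmv := hmvconj g₀ x⁻¹ hmv₀
        have hk := hallker _ hmv
        have hm' : m ∈ (cHom M hab (x⁻¹ * g₀ * x⁻¹⁻¹)).ker := hk ▸ hm
        rw [mem_ker_cHom] at hm'
        rw [SetLike.mem_coe, mem_ker_cHom]
        change g₀ * (x * (m : G) * x⁻¹) = x * (m : G) * x⁻¹ * g₀
        calc g₀ * (x * (m : G) * x⁻¹) = x * ((x⁻¹ * g₀ * x⁻¹⁻¹) * m) * x⁻¹ := by group
          _ = x * (m * (x⁻¹ * g₀ * x⁻¹⁻¹)) * x⁻¹ := by rw [hm']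
          _ = x * (m : G) * x⁻¹ * g₀ := by group
      have hHle : ((cHom M hab g₀).ker).map M.subtype ≤ M := by
        rintro _ ⟨m, -, rfl⟩
        exact m.2
      rcases hmin _ hHn hHle with h0 | h0
      · have hkb : (cHom M hab g₀).ker = ⊥ := by
          rw [← Subgroup.map_eq_bot_iff_of_injective _ M.subtype_injective]
          exact h0
        have := Subgroup.index_ker (cHom M hab g₀)
        rw [hkb, Subgroup.index_bot, hr0] at this
        exact this
      · exfalso
        have : m₀ ∈ ((cHom M hab g₀).ker).map M.subtype := by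
          rw [h0]
          exact hm₀
        obtain ⟨m, hm, hmm⟩ := this
        rw [SetLike.mem_coe, mem_ker_cHom] at hm
        have hmm' : (m : G) = m₀ := hmm
        rw [hmm'] at hm
        exact hgm₀ hm
    · -- two moving elements with different fixed subgroups: all commutator subgroups coincide
      push Not at hallker
      obtain ⟨g₁, hmv₁, hk₁⟩ := hallker
      have hrange₁ : (cHom M hab g₁).range = (cHom M hab g₀).range :=
        (ker_eq_or_range_eq M hab r hexp h g₁ g₀ hmv₁ hmv₀).resolve_left hk₁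
      have hall : ∀ g : G, (∃ m ∈ M, g * m ≠ m * g) →
          (cHom M hab g).range = (cHom M hab g₀).range := by
        intro g hmv
        rcases ker_eq_or_range_eq M hab r hexp h g g₀ hmv hmv₀ with hk | hrg
        · rcases ker_eq_or_range_eq M hab r hexp h g g₁ hmv hmv₁ with hk' | hrg'
          · exact absurd (hk'.symm.trans hk) hk₁
          · exact hrg'.trans hrange₁
        · exact hrg
      have hLn : (((cHom M hab g₀).range).map M.subtype).Normal := by
        refine ⟨fun y hy x => ?_⟩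
        obtain ⟨_, ⟨m, rfl⟩, rfl⟩ := hy
        have hxm : x * (m : G) * x⁻¹ ∈ M := hMn.conj_mem m m.2 x
        have hmv := hmvconj g₀ x hmv₀
        have hrg := hall _ hmv
        have hmem : cHom M hab (x * g₀ * x⁻¹) ⟨x * (m : G) * x⁻¹, hxm⟩ ∈
            (cHom M hab g₀).range := hrg ▸ ⟨_, rfl⟩
        refine ⟨_, hmem, ?_⟩
        change (x * g₀ * x⁻¹) * (x * (m : G) * x⁻¹) * (x * g₀ * x⁻¹)⁻¹ * (x * (m : G) * x⁻¹)⁻¹ =
          x * (g₀ * (m : G) * g₀⁻¹ * (m : G)⁻¹) * x⁻¹
        group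
      have hLle : ((cHom M hab g₀).range).map M.subtype ≤ M := by
        rintro _ ⟨m, -, rfl⟩
        exact m.2
      have hLcard : Nat.card (((cHom M hab g₀).range).map M.subtype) = r := by
        rw [Subgroup.card_map_of_injective M.subtype_injective, hr0]
      rcases hmin _ hLn hLle with h0 | h0
      · exfalso
        rw [h0, Subgroup.card_bot] at hLcard
        exact hr.one_lt.ne hLcard
      · rw [← h0, hLcard]

end Cfsg.Agent.Lib.Helper26.SqfLeaf
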