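import Mathlib
import Cfsg.Agent.Lib.Helper20.AschDefs

/-!
S5630 (Aschbacher), block (A23), leaf NL `normalizer_le_tensor`: an invertible matrix normalising `M_s(F) ⊗ 1` is a
Kronecker product (Skolem–Noether for `M_s(F)` by matrix units, then the centraliser of `M_s(F) ⊗ 1` is `1 ⊗ M_k(F)`).
-/

set_option autoImplicit false
set_option linter.unusedSectionVars false
set_option linter.unusedVariables false

namespace Cfsg.Agent.Lib.Helper26.AschLeaf
open Matrix Cfsg.Geo Cfsg.Agent.Lib.Helper20.Asch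
open scoped Kronecker

section pure
variable {F : Type*} [Field F] {ι κ : Type*} [Fintype ι] [DecidableEq ι] [Fintype κ] [DecidableEq κ]

/-- `A ↦ A ⊗ 1` is injective -/
lemma kron_one_inj [Nonempty κ] {A B : Matrix ι ι F}
    (h : A ⊗ₖ (1 : Matrix κ κ F) = B ⊗ₖ (1 : Matrix κ κ F)) : A = B := by
  obtain ⟨u⟩ := ‹Nonempty κ›
  ext i j
  have := congrFun (congrFun h (i, u)) (j, u)
  simpa [kronecker_apply] using this

/-- a matrix commuting with all `E_{jl} ⊗ 1` is of the form `1 ⊗ b` -/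
lemma eq_one_kron_of_commute (i0 : ι) (C : Matrix (ι × κ) (ι × κ) F)
    (hC : ∀ j l : ι, C * (Matrix.single j l (1 : F) ⊗ₖ (1 : Matrix κ κ F)) =
      (Matrix.single j l (1 : F) ⊗ₖ (1 : Matrix κ κ F)) * C) :
    C = (1 : Matrix ι ι F) ⊗ₖ (Matrix.of fun u v => C (i0, u) (i0, v)) := by
  -- entries of the two products
  have hL : ∀ (j l r c : ι) (u v : κ),
      (C * (Matrix.single j l (1 : F) ⊗ₖ (1 : Matrix κ κ F))) (r, u) (c, v) =
        if l = c then C (r, u) (j, v) else 0 := by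
    intro j l r c u v
    rw [Matrix.mul_apply, Fintype.sum_prod_type]
    simp only [kronecker_apply, Matrix.single_apply, Matrix.one_apply]
    rw [Finset.sum_eq_single j]
    · rw [Finset.sum_eq_single v]
      · by_cases h : l = c <;> simp [h]
      · intro x _ hx
        simp [hx]
      · intro h; exact absurd (Finset.mem_univ _) h
    · intro m _ hm
      apply Finset.sum_eq_zero
      intro x _
      simp [Ne.symm hm]
    · intro h; exact absurd (Finset.mem_univ _) h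
  have hR : ∀ (j l r c : ι) (u v : κ),
      ((Matrix.single j l (1 : F) ⊗ₖ (1 : Matrix κ κ F)) * C) (r, u) (c, v) =
        if j = r then C (l, u) (c, v) else 0 := by
    intro j l r c u v
    rw [Matrix.mul_apply, Fintype.sum_prod_type]
    simp only [kronecker_apply, Matrix.single_apply, Matrix.one_apply]
    rw [Finset.sum_eq_single l]
    · rw [Finset.sum_eq_single u]
      · by_cases h : j = r <;> simp [h]
      · intro x _ hx
        simp [Ne.symm hx]
      · intro h; exact absurd (Finset.mem_univ _) h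
    · intro m _ hm
      apply Finset.sum_eq_zero
      intro x _
      simp [Ne.symm hm]
    · intro h; exact absurd (Finset.mem_univ _) h
  ext ⟨l, u⟩ ⟨c, v⟩
  have h := congrFun (congrFun (hC i0 l) (i0, u)) (c, v)
  rw [hL, hR, if_pos rfl] at h
  rw [kronecker_apply, Matrix.one_apply, Matrix.of_apply, ← h]
  by_cases hlc : l = c
  · subst hlc
    simp
  · simp [hlc]

/-- Skolem–Noether by matrix units + centraliser: a matrix normalising `M_ι(F) ⊗ 1` is a Kronecker product -/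
theorem kron_of_normalizes [Nonempty ι] [Nonempty κ]
    (G Gi : Matrix (ι × κ) (ι × κ) F) (h1 : G * Gi = 1) (h2 : Gi * G = 1)
    (hG : ∀ A : Matrix ι ι F, ∃ A' : Matrix ι ι F,
      G * (A ⊗ₖ (1 : Matrix κ κ F)) * Gi = A' ⊗ₖ (1 : Matrix κ κ F)) :
    ∃ (a : Matrix ι ι F) (b : Matrix κ κ F), IsUnit a.det ∧ IsUnit b.det ∧ G = a ⊗ₖ b := by
  classical
  obtain ⟨i0⟩ := ‹Nonempty ι›
  choose φ hφ using hG
  -- `φ` is multiplicative and `φ 0 = 0`
  have φ_mul : ∀ A B, φ (A * B) = φ A * φ B := by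
    intro A B
    apply kron_one_inj (κ := κ)
    rw [← hφ, ← one_mul (1 : Matrix κ κ F), mul_kronecker_mul, one_mul,
      ← mul_one (1 : Matrix κ κ F), mul_kronecker_mul (φ A) (φ B), mul_one, ← hφ A, ← hφ B]
    calc G * (A ⊗ₖ (1 : Matrix κ κ F) * B ⊗ₖ (1 : Matrix κ κ F)) * Gi
        = G * A ⊗ₖ (1 : Matrix κ κ F) * (1 : Matrix (ι × κ) (ι × κ) F) *
            B ⊗ₖ (1 : Matrix κ κ F) * Gi := by
          rw [mul_one]; simp only [Matrix.mul_assoc]
      _ = G * A ⊗ₖ (1 : Matrix κ κ F) * Gi * (G * B ⊗ₖ (1 : Matrix κ κ F) * Gi) := by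
          rw [← h2]; simp only [Matrix.mul_assoc]
  have φ_zero : φ 0 = 0 := by
    apply kron_one_inj (κ := κ)
    rw [← hφ, zero_kronecker, Matrix.mul_zero, Matrix.zero_mul]
  -- intertwining relation
  have hGφ : ∀ A, G * (A ⊗ₖ (1 : Matrix κ κ F)) = (φ A ⊗ₖ (1 : Matrix κ κ F)) * G := by
    intro A
    rw [← hφ, Matrix.mul_assoc, h2, Matrix.mul_one]
  -- `φ (E i0 i0) ≠ 0`
  have hE0 : φ (Matrix.single i0 i0 (1 : F)) ≠ 0 := by
    intro h0
    have h3 := hφ (Matrix.single i0 i0 (1 : F))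
    rw [h0, zero_kronecker] at h3
    have h4 : (Matrix.single i0 i0 (1 : F)) ⊗ₖ (1 : Matrix κ κ F) = 0 := by
      calc (Matrix.single i0 i0 (1 : F)) ⊗ₖ (1 : Matrix κ κ F)
          = (Gi * G) * (Matrix.single i0 i0 (1 : F)) ⊗ₖ (1 : Matrix κ κ F) * (Gi * G) := by
            rw [h2, Matrix.one_mul, Matrix.mul_one]
        _ = Gi * (G * (Matrix.single i0 i0 (1 : F)) ⊗ₖ (1 : Matrix κ κ F) * Gi) * G := by
            simp only [Matrix.mul_assoc]
        _ = 0 := by rw [h3, Matrix.mul_zero, Matrix.zero_mul]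
    obtain ⟨u⟩ := ‹Nonempty κ›
    have := congrFun (congrFun h4 (i0, u)) (i0, u)
    simp at this
  -- a vector `w'` in the image of `φ (E i0 i0)`
  obtain ⟨w, hw⟩ : ∃ w : ι → F, φ (Matrix.single i0 i0 (1 : F)) *ᵥ w ≠ 0 := by
    by_contra hcon
    rw [not_exists] at hcon
    have hcon : ∀ x : ι → F, φ (Matrix.single i0 i0 (1 : F)) *ᵥ x = 0 := fun x => not_not.1 (hcon x)
    apply hE0
    ext r c
    have := congrFun (hcon (Pi.single c 1)) r
    simpa using this
  set w' : ι → F := φ (Matrix.single i0 i0 (1 : F)) *ᵥ w with hw'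
  have hw'fix : φ (Matrix.single i0 i0 (1 : F)) *ᵥ w' = w' := by
    rw [hw', Matrix.mulVec_mulVec, ← φ_mul, Matrix.single_mul_single_same, mul_one]
  -- the intertwiner `a`
  set a : Matrix ι ι F := Matrix.of fun r i => (φ (Matrix.single i i0 (1 : F)) *ᵥ w') r with ha
  have hacol : ∀ i, a *ᵥ (Pi.single i 1) = φ (Matrix.single i i0 (1 : F)) *ᵥ w' := by
    intro i
    funext r
    simp [ha]
  have haE : ∀ j l, a * Matrix.single j l (1 : F) = φ (Matrix.single j l (1 : F)) * a := by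
    intro j l
    ext r i
    have hr : (φ (Matrix.single j l (1 : F)) * a) r i =
        (φ (Matrix.single j l (1 : F)) *ᵥ (a *ᵥ (Pi.single i 1))) r := by
      rw [Matrix.mulVec_mulVec]
      simp
    rw [hr, hacol, Matrix.mulVec_mulVec, ← φ_mul]
    by_cases hli : l = i
    · subst hli
      rw [Matrix.single_mul_single_same, mul_one, Matrix.mul_single_apply_same, mul_one]
      simp [ha]
    · rw [Matrix.single_mul_single_of_ne _ _ _ _ hli, φ_zero, Matrix.zero_mulVec,
        Matrix.mul_single_apply_of_ne _ _ _ _ _ (Ne.symm hli)]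
      rfl
  -- `a` is invertible
  have hadet : IsUnit a.det := by
    rw [isUnit_iff_ne_zero]
    intro hdet
    obtain ⟨v, hv0, hv⟩ := (Matrix.exists_mulVec_eq_zero_iff).2 hdet
    obtain ⟨j, hj⟩ : ∃ j, v j ≠ 0 := by
      by_contra hcon
      rw [not_exists] at hcon
      exact hv0 (funext fun j => not_not.1 (hcon j))
    have h3 : (a * Matrix.single i0 j (1 : F)) *ᵥ v = v j • w' := by
      rw [← Matrix.mulVec_mulVec, Matrix.single_mulVec_eq, one_mul, Matrix.mulVec_smul, hacol, hw'fix]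
    have h4 : (a * Matrix.single i0 j (1 : F)) *ᵥ v = 0 := by
      rw [haE, ← Matrix.mulVec_mulVec, hv, Matrix.mulVec_zero]
    rw [h3] at h4
    rcases smul_eq_zero.1 h4 with h | h
    · exact hj h
    · exact hw h
  have hai1 : a⁻¹ * a = 1 := Matrix.nonsing_inv_mul a hadet
  have hai2 : a * a⁻¹ = 1 := Matrix.mul_nonsing_inv a hadet
  -- `E ai = ai φE`
  have haiE : ∀ j l, Matrix.single j l (1 : F) * a⁻¹ = a⁻¹ * φ (Matrix.single j l (1 : F)) := by
    intro j l
    calc Matrix.single j l (1 : F) * a⁻¹ = a⁻¹ * (a * Matrix.single j l (1 : F)) * a⁻¹ := by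
          rw [← Matrix.mul_assoc, hai1, Matrix.one_mul]
      _ = a⁻¹ * φ (Matrix.single j l (1 : F)) := by
          rw [haE, Matrix.mul_assoc, Matrix.mul_assoc, hai2, Matrix.mul_one]
  -- the centralising matrix
  set C : Matrix (ι × κ) (ι × κ) F := (a⁻¹ ⊗ₖ (1 : Matrix κ κ F)) * G with hCdef
  have hCc : ∀ j l : ι, C * (Matrix.single j l (1 : F) ⊗ₖ (1 : Matrix κ κ F)) =
      (Matrix.single j l (1 : F) ⊗ₖ (1 : Matrix κ κ F)) * C := by
    intro j l
    rw [hCdef, Matrix.mul_assoc, hGφ, ← Matrix.mul_assoc, ← Matrix.mul_assoc,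
      ← mul_kronecker_mul, ← mul_kronecker_mul, ← haiE, mul_one]
  have hCeq := eq_one_kron_of_commute i0 C hCc
  set b : Matrix κ κ F := Matrix.of fun u v => C (i0, u) (i0, v) with hb
  have hGab : G = a ⊗ₖ b := by
    calc G = (a ⊗ₖ (1 : Matrix κ κ F)) * C := by
          rw [hCdef, ← Matrix.mul_assoc, ← mul_kronecker_mul, hai2, mul_one, one_kronecker_one,
            Matrix.one_mul]
      _ = a ⊗ₖ b := by
          rw [hCeq, ← mul_kronecker_mul, Matrix.mul_one, Matrix.one_mul]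
  refine ⟨a, b, hadet, ?_, hGab⟩
  -- `b` is invertible
  have hGdet : IsUnit G.det := by
    have : G.det * Gi.det = 1 := by rw [← Matrix.det_mul, h1, Matrix.det_one]
    exact IsUnit.of_mul_eq_one _ this
  rw [hGab, det_kronecker] at hGdet
  rw [isUnit_iff_ne_zero] at hGdet ⊢
  intro hb0
  apply hGdet
  rw [hb0, zero_pow (Fintype.card_pos.ne'), mul_zero]

end pure

variable {F : Type*} [Field F] [Fintype F] {n : ℕ} {H N : Subgroup (GL (Fin n) F)}

/-- every matrix is a `conjR` -/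
lemma conjR_surj {κ : Type} [Fintype κ] [DecidableEq κ] (e : Fin n ≃ κ) (P : GL (Fin n) F)
    (T : Matrix (Fin n) (Fin n) F) :
    conjR e P (Matrix.reindex e e (((P⁻¹ : GL (Fin n) F) : Matrix (Fin n) (Fin n) F) * T *
      (P : Matrix (Fin n) (Fin n) F))) = T := by
  unfold conjR
  have h1 : (P : Matrix (Fin n) (Fin n) F) * ((P⁻¹ : GL (Fin n) F) : Matrix (Fin n) (Fin n) F) = 1 := by
    rw [← Units.val_mul, mul_inv_cancel, Units.val_one]
  have h3 : Matrix.reindex e.symm e.symm (Matrix.reindex e e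
      (((P⁻¹ : GL (Fin n) F) : Matrix (Fin n) (Fin n) F) * T * (P : Matrix (Fin n) (Fin n) F))) =
      ((P⁻¹ : GL (Fin n) F) : Matrix (Fin n) (Fin n) F) * T * (P : Matrix (Fin n) (Fin n) F) := by
    ext i j
    simp [Matrix.reindex_apply, Matrix.submatrix_apply]
  rw [h3]
  calc (P : Matrix (Fin n) (Fin n) F) * (((P⁻¹ : GL (Fin n) F) : Matrix (Fin n) (Fin n) F) * T *
        (P : Matrix (Fin n) (Fin n) F)) * ((P⁻¹ : GL (Fin n) F) : Matrix (Fin n) (Fin n) F)
      = ((P : Matrix (Fin n) (Fin n) F) * ((P⁻¹ : GL (Fin n) F) : Matrix (Fin n) (Fin n) F)) * T *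
        ((P : Matrix (Fin n) (Fin n) F) * ((P⁻¹ : GL (Fin n) F) : Matrix (Fin n) (Fin n) F)) := by
        simp only [Matrix.mul_assoc]
    _ = T := by rw [h1, Matrix.one_mul, Matrix.mul_one]

/-- NL (NORMALISER LEMMA): an invertible matrix normalising `M_s(F) ⊗ 1` is a Kronecker product
(Skolem–Noether for `M_s(F)` by matrix units, then the centraliser of `M_s(F) ⊗ 1` is `1 ⊗ M_k(F)`). -/
theorem normalizer_le_tensor {s k : ℕ} (e : Fin n ≃ Fin s × Fin k) (P g : GL (Fin n) F)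
    (hg : ∀ A : Matrix (Fin s) (Fin s) F, ∃ A' : Matrix (Fin s) (Fin s) F,
      (g : Matrix (Fin n) (Fin n) F) * conjR e P (A ⊗ₖ (1 : Matrix (Fin k) (Fin k) F)) *
        ((g⁻¹ : GL (Fin n) F) : Matrix (Fin n) (Fin n) F) =
          conjR e P (A' ⊗ₖ (1 : Matrix (Fin k) (Fin k) F))) :
    g ∈ tensorProductSubgroup s k e P := by
  rw [mem_tensorProductSubgroup_iff]
  -- degenerate case `n = 0`
  rcases Nat.eq_zero_or_pos s with hs | hs
  · subst hs
    have : IsEmpty (Fin n) := e.isEmpty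
    exact ⟨1, 1, Subsingleton.elim _ _⟩
  rcases Nat.eq_zero_or_pos k with hk | hk
  · subst hk
    have : IsEmpty (Fin n) := e.isEmpty
    exact ⟨1, 1, Subsingleton.elim _ _⟩
  have : Nonempty (Fin s) := ⟨⟨0, hs⟩⟩
  have : Nonempty (Fin k) := ⟨⟨0, hk⟩⟩
  -- transport
  set G : Matrix (Fin s × Fin k) (Fin s × Fin k) F :=
    Matrix.reindex e e (((P⁻¹ : GL (Fin n) F) : Matrix (Fin n) (Fin n) F) *
      (g : Matrix (Fin n) (Fin n) F) * (P : Matrix (Fin n) (Fin n) F)) with hGdef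
  set Gi : Matrix (Fin s × Fin k) (Fin s × Fin k) F :=
    Matrix.reindex e e (((P⁻¹ : GL (Fin n) F) : Matrix (Fin n) (Fin n) F) *
      ((g⁻¹ : GL (Fin n) F) : Matrix (Fin n) (Fin n) F) * (P : Matrix (Fin n) (Fin n) F)) with hGidef
  have hcG : conjR e P G = (g : Matrix (Fin n) (Fin n) F) := conjR_surj e P _
  have hcGi : conjR e P Gi = ((g⁻¹ : GL (Fin n) F) : Matrix (Fin n) (Fin n) F) := conjR_surj e P _
  have h1 : G * Gi = 1 := by
    apply conjR_injective e P
    rw [conjR_mul, hcG, hcGi, conjR_one, ← Units.val_mul, mul_inv_cancel, Units.val_one]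
  have h2 : Gi * G = 1 := by
    apply conjR_injective e P
    rw [conjR_mul, hcG, hcGi, conjR_one, ← Units.val_mul, inv_mul_cancel, Units.val_one]
  have hG : ∀ A : Matrix (Fin s) (Fin s) F, ∃ A' : Matrix (Fin s) (Fin s) F,
      G * (A ⊗ₖ (1 : Matrix (Fin k) (Fin k) F)) * Gi = A' ⊗ₖ (1 : Matrix (Fin k) (Fin k) F) := by
    intro A
    obtain ⟨A', hA'⟩ := hg A
    refine ⟨A', ?_⟩
    apply conjR_injective e P
    rw [conjR_mul, conjR_mul, hcG, hcGi, hA']
  obtain ⟨a, b, ha, hb, hab⟩ := kron_of_normalizes G Gi h1 h2 hG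
  refine ⟨Matrix.nonsingInvUnit a ha, Matrix.nonsingInvUnit b hb, ?_⟩
  rw [← hcG, hab]
  rfl

end Cfsg.Agent.Lib.Helper26.AschLeaf
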