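import Mathlib
import Cfsg.Agent.Lib.Helper8.TW.Defs
import Cfsg.Agent.Lib.Helper20.AschA89WR
import Cfsg.Agent.Lib.Helper20.AschA89F2J

/-!
helper26: S5641 (C7 maximal in SL_n), block (T) toolkit of `notes/S5641_T_leaves.lean`: block TF (fibres), part A =
the small leaves TF1, TF2, TF3a, TF3b, TF6, TF7, TF8, TF9, TF12a, TF12b, TF13, TF14 (exact signatures) and own copies of
TS3, TS4, TS8 (`slot_mulVec_slice26`, `slot_mulVec_slice_ne26`, `fperm_mulVec26`).
-/

set_option autoImplicit false
set_option linter.unusedSectionVars false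
set_option linter.unusedVariables false

namespace Cfsg.Agent.Lib.Helper26.TWLeaf
open Matrix Cfsg.Geo Cfsg.Agent.Lib.Helper18.AschA89 Cfsg.Agent.Lib.Helper20.AschLeaf Cfsg.Agent.Lib.Helper8.TW

variable {F : Type*} [Field F] {t m : ℕ}

/-- summation over the line through `x` in direction `i` -/
lemma sum_line26 {M : Type*} [AddCommMonoid M] (i : Fin t) (x : Idx t m) (f : Idx t m → M) :
    (∑ z : Idx t m, if (∀ j, j ≠ i → x j = z j) then f z else 0) =
      ∑ b : Fin m, f (Function.update x i b) := by
  classical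
  rw [← Finset.sum_filter]
  have himg : (Finset.univ.filter fun z : Idx t m => ∀ j, j ≠ i → x j = z j) =
      Finset.univ.image (fun b : Fin m => Function.update x i b) := by
    ext z
    simp only [Finset.mem_filter, Finset.mem_univ, true_and, Finset.mem_image]
    constructor
    · intro hz
      refine ⟨z i, ?_⟩
      funext j
      by_cases hj : j = i
      · subst hj; simp
      · rw [Function.update_of_ne hj]; exact hz j hj
    · rintro ⟨b, rfl⟩ j hj
      rw [Function.update_of_ne hj]
  rw [himg, Finset.sum_image]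
  intro b _ b' _ hbb
  have := congrFun hbb i
  simpa using this

/-- entries of `slot i A *ᵥ v` -/
lemma slot_mulVec_apply26 (i : Fin t) (A : Matrix (Fin m) (Fin m) F) (v : Idx t m → F) (x : Idx t m) :
    (slot m t i A *ᵥ v) x = ∑ b, A (x i) b * v (Function.update x i b) := by
  classical
  calc (slot m t i A *ᵥ v) x
      = ∑ z : Idx t m, if (∀ j, j ≠ i → x j = z j) then A (x i) (z i) * v z else 0 := by
        simp only [Matrix.mulVec, dotProduct, slot_apply]
        apply Finset.sum_congr rfl
        intro z _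
        split_ifs <;> simp
    _ = ∑ b : Fin m, A (x i) (Function.update x i b i) * v (Function.update x i b) :=
        sum_line26 i x (fun z => A (x i) (z i) * v z)
    _ = ∑ b, A (x i) b * v (Function.update x i b) := by
        simp only [Function.update_self]

/-- own copy of TS3 -/
lemma slot_mulVec_slice26 (i : Fin t) (A : Matrix (Fin m) (Fin m) F) (v : Idx t m → F) (x : Idx t m) :
    slice i x (slot m t i A *ᵥ v) = A *ᵥ slice i x v := by
  funext a
  unfold slice
  rw [slot_mulVec_apply26]
  simp only [Matrix.mulVec, dotProduct, Function.update_self, Function.update_idem]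

/-- own copy of TS4 -/
lemma slot_mulVec_slice_ne26 (i j : Fin t) (hij : j ≠ i) (B : Matrix (Fin m) (Fin m) F)
    (v : Idx t m → F) (x : Idx t m) :
    slice i x (slot m t j B *ᵥ v) = ∑ b, B (x j) b • slice i (Function.update x j b) v := by
  funext a
  unfold slice
  rw [slot_mulVec_apply26, Finset.sum_apply]
  apply Finset.sum_congr rfl
  intro b _
  rw [Pi.smul_apply, smul_eq_mul, Function.update_of_ne hij, Function.update_comm hij.symm]

/-- own copy of TS8 -/
lemma fperm_mulVec26 (σ : Equiv.Perm (Fin t)) (v : Idx t m → F) (x : Idx t m) :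
    (fperm (F := F) m t σ *ᵥ v) x = v (x ∘ σ) := by
  classical
  simp only [Matrix.mulVec, dotProduct, fperm_apply]
  rw [Finset.sum_eq_single (x ∘ σ)]
  · rw [if_pos rfl, one_mul]
  · intro y _ hy
    rw [if_neg hy, zero_mul]
  · intro h; exact absurd (Finset.mem_univ _) h

/-- a vector is determined by its `i`-slices -/
lemma slice_self26 (i : Fin t) (x : Idx t m) (v : Idx t m → F) : slice i x v (x i) = v x := by
  unfold slice
  rw [Function.update_eq_self]

lemma ext_slice26 (i : Fin t) {v w : Idx t m → F} (h : ∀ x, slice i x v = slice i x w) : v = w := by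
  funext x
  rw [← slice_self26 i x v, ← slice_self26 i x w, h x]

/-- TF1 (S) -/
theorem fib_mono (i : Fin t) {S S' : Submodule F (Fin m → F)} (h : S ≤ S') : fib i S ≤ fib i S' := by
  intro v hv x
  exact h (hv x)

/-- TF2 (S) -/
theorem fib_inf (i : Fin t) (S S' : Submodule F (Fin m → F)) : fib i (S ⊓ S') = fib i S ⊓ fib i S' := by
  ext v
  rw [Submodule.mem_inf, mem_fib, mem_fib, mem_fib]
  constructor
  · intro h
    exact ⟨fun x => (h x).1, fun x => (h x).2⟩
  · rintro ⟨h1, h2⟩ x
    exact ⟨h1 x, h2 x⟩

/-- TF3a (S) -/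
theorem fib_top (i : Fin t) : fib i (⊤ : Submodule F (Fin m → F)) = ⊤ := by
  rw [eq_top_iff]
  intro v _ x
  exact Submodule.mem_top

/-- TF3b (S) -/
theorem fib_bot (i : Fin t) : fib i (⊥ : Submodule F (Fin m → F)) = ⊥ := by
  rw [eq_bot_iff]
  intro v hv
  rw [Submodule.mem_bot]
  apply ext_slice26 i
  intro x
  have := hv x
  rw [Submodule.mem_bot] at this
  rw [this]
  rfl

/-- TF6 (S) -/
theorem fib_le_iff (i : Fin t) (S S' : Submodule F (Fin m → F)) : fib i S ≤ fib i S' ↔ S ≤ S' := by
  classical
  constructor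
  · intro h a ha
    rcases Nat.eq_zero_or_pos m with hm | hm
    · subst hm
      have : a = 0 := Subsingleton.elim _ _
      rw [this]; exact S'.zero_mem
    · let x₀ : Idx t m := fun _ => ⟨0, hm⟩
      let v : Idx t m → F := fun x => if (∀ j, j ≠ i → x j = x₀ j) then a (x i) else 0
      have hsl : ∀ x, slice i x v = if (∀ j, j ≠ i → x j = x₀ j) then a else 0 := by
        intro x
        funext b
        have hcond : (∀ j, j ≠ i → Function.update x i b j = x₀ j) ↔ (∀ j, j ≠ i → x j = x₀ j) := by
          constructor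
          · intro h1 j hj
            have := h1 j hj
            rwa [Function.update_of_ne hj] at this
          · intro h1 j hj
            rw [Function.update_of_ne hj]; exact h1 j hj
        change (if (∀ j, j ≠ i → Function.update x i b j = x₀ j) then a (Function.update x i b i) else 0) = _
        by_cases hc : ∀ j, j ≠ i → x j = x₀ j
        · rw [if_pos (hcond.2 hc), if_pos hc, Function.update_self]
        · rw [if_neg (fun hh => hc (hcond.1 hh)), if_neg hc]
          rfl
      have hv : v ∈ fib i S := by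
        intro x
        rw [hsl x]
        split_ifs
        · exact ha
        · exact S.zero_mem
      have := h hv x₀
      rw [hsl x₀, if_pos (fun j _ => rfl)] at this
      exact this
  · exact fun h => fib_mono i h

/-- `slot i α * slot i α⁻¹ = 1` on vectors -/
lemma slot_inv_mulVec26 (i : Fin t) (α : GL (Fin m) F) (w : Idx t m → F) :
    slot m t i (α : Matrix (Fin m) (Fin m) F) *ᵥ
      (slot m t i ((α⁻¹ : GL (Fin m) F) : Matrix (Fin m) (Fin m) F) *ᵥ w) = w := by
  rw [Matrix.mulVec_mulVec, slot_mul, ← Units.val_mul, mul_inv_cancel, Units.val_one, slot_one,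
    Matrix.one_mulVec]

lemma mem_img26 {ι : Type} [Fintype ι] [DecidableEq ι] (g : GL ι F) (S : Submodule F (ι → F))
    (w : ι → F) : w ∈ img g S ↔ ∃ v ∈ S, (g : Matrix ι ι F) *ᵥ v = w := by
  unfold img
  rw [Submodule.mem_map]
  simp only [Matrix.toLin'_apply]

/-- TF7 (S) -/
theorem img_slot_fib (i : Fin t) (α : GL (Fin m) F) (S : Submodule F (Fin m → F)) :
    img (slotGL i α) (fib i S) = fib i (S.map (Matrix.toLin' (α : Matrix (Fin m) (Fin m) F))) := by
  apply le_antisymm
  · intro w hw
    rw [mem_img26] at hw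
    obtain ⟨v, hv, rfl⟩ := hw
    intro x
    rw [slotGL_val, slot_mulVec_slice26]
    exact Submodule.mem_map.2 ⟨slice i x v, hv x, by rw [Matrix.toLin'_apply]⟩
  · intro w hw
    rw [mem_img26]
    refine ⟨slot m t i ((α⁻¹ : GL (Fin m) F) : Matrix (Fin m) (Fin m) F) *ᵥ w, ?_, ?_⟩
    · intro x
      rw [slot_mulVec_slice26]
      obtain ⟨s, hs, hsw⟩ := Submodule.mem_map.1 (hw x)
      rw [Matrix.toLin'_apply] at hsw
      rw [← hsw, Matrix.mulVec_mulVec, ← Units.val_mul, inv_mul_cancel, Units.val_one,
        Matrix.one_mulVec]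
      exact hs
    · rw [slotGL_val]
      exact slot_inv_mulVec26 i α w

lemma slot_ne_mem_fib26 (i j : Fin t) (hij : j ≠ i) (B : Matrix (Fin m) (Fin m) F)
    (S : Submodule F (Fin m → F)) {v : Idx t m → F} (hv : v ∈ fib i S) :
    slot m t j B *ᵥ v ∈ fib i S := by
  intro x
  rw [slot_mulVec_slice_ne26 i j hij]
  apply Submodule.sum_mem
  intro b _
  exact S.smul_mem _ (hv _)

/-- TF8 (S) -/
theorem img_slot_fib_ne (i j : Fin t) (hij : j ≠ i) (β : GL (Fin m) F) (S : Submodule F (Fin m → F)) :
    img (slotGL j β) (fib i S) = fib i S := by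
  apply le_antisymm
  · intro w hw
    rw [mem_img26] at hw
    obtain ⟨v, hv, rfl⟩ := hw
    rw [slotGL_val]
    exact slot_ne_mem_fib26 i j hij _ S hv
  · intro w hw
    rw [mem_img26]
    refine ⟨slot m t j ((β⁻¹ : GL (Fin m) F) : Matrix (Fin m) (Fin m) F) *ᵥ w,
      slot_ne_mem_fib26 i j hij _ S hw, ?_⟩
    rw [slotGL_val]
    exact slot_inv_mulVec26 j β w

/-- TF9 (S) -/
theorem img_fperm_fib (σ : Equiv.Perm (Fin t)) (i : Fin t) (S : Submodule F (Fin m → F)) :
    img (wrFpermGL (F := F) m t σ) (fib i S) = fib (σ i) S := by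
  classical
  have hupd : ∀ (x : Idx t m) (a : Fin m),
      (Function.update x (σ i) a) ∘ σ = Function.update (x ∘ σ) i a := by
    intro x a
    funext j
    by_cases hj : j = i
    · subst hj; simp
    · have : σ j ≠ σ i := fun h => hj (σ.injective h)
      simp [Function.update_of_ne hj, Function.update_of_ne this]
  apply le_antisymm
  · intro w hw
    rw [mem_img26] at hw
    obtain ⟨v, hv, rfl⟩ := hw
    intro x
    have : slice (σ i) x ((wrFpermGL (F := F) m t σ : GL (Idx t m) F).1 *ᵥ v) = slice i (x ∘ σ) v := by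
      funext a
      unfold slice
      change (fperm (F := F) m t σ *ᵥ v) _ = _
      rw [fperm_mulVec26, hupd]
    rw [this]
    exact hv _
  · intro w hw
    rw [mem_img26]
    refine ⟨fperm (F := F) m t σ⁻¹ *ᵥ w, ?_, ?_⟩
    · intro x
      have : slice i x (fperm (F := F) m t σ⁻¹ *ᵥ w) = slice (σ i) (x ∘ ⇑σ⁻¹) w := by
        funext a
        unfold slice
        rw [fperm_mulVec26]
        congr 1
        funext j
        by_cases hj : j = σ i
        · subst hj; simp
        · have : σ⁻¹ j ≠ i := by
            intro h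
            apply hj
            rw [← h]; simp
          change Function.update x i a (σ⁻¹ j) = Function.update (x ∘ ⇑σ⁻¹) (σ i) a j
          rw [Function.update_of_ne this, Function.update_of_ne hj]
          rfl
      rw [this]
      exact hw _
    · funext x
      change (fperm (F := F) m t σ *ᵥ (fperm (F := F) m t σ⁻¹ *ᵥ w)) x = w x
      rw [fperm_mulVec26, fperm_mulVec26]
      congr 1
      funext j
      simp

/-- slices of `rootN i y η *ᵥ v` -/
lemma rootN_mulVec_slice26 (i : Fin t) (y η : Fin m → F) (v : Idx t m → F) (x : Idx t m) :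
    slice i x (rootN i y η *ᵥ v) = (η ⬝ᵥ slice i x v) • y := by
  unfold rootN
  rw [slot_mulVec_slice26]
  funext a
  simp only [Matrix.mulVec, dotProduct, Matrix.vecMulVec_apply, Pi.smul_apply, smul_eq_mul,
    Finset.sum_mul]
  apply Finset.sum_congr rfl
  intro b _
  ring

/-- a vector with `η ⬝ᵥ a₀ = 1` -/
lemma exists_dot_one26 (η : Fin m → F) (hη : η ≠ 0) : ∃ a₀ : Fin m → F, η ⬝ᵥ a₀ = 1 := by
  classical
  have : ∃ k, η k ≠ 0 := by
    by_contra h
    apply hη
    funext k
    by_contra hk
    exact h ⟨k, hk⟩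
  obtain ⟨k, hk⟩ := this
  refine ⟨Pi.single k (η k)⁻¹, ?_⟩
  rw [dotProduct_single, mul_inv_cancel₀ hk]

/-- TF12a (S) -/
theorem range_rootN (i : Fin t) (y η : Fin m → F) (hη : η ≠ 0) :
    LinearMap.range (Matrix.toLin' (rootN i y η)) = Wf i y := by
  classical
  apply le_antisymm
  · rintro w ⟨v, rfl⟩
    intro x
    rw [Matrix.toLin'_apply, rootN_mulVec_slice26]
    exact Submodule.smul_mem _ _ (Submodule.mem_span_singleton_self y)
  · intro w hw
    by_cases hy : y = 0
    · subst hy
      have : w ∈ fib i (⊥ : Submodule F (Fin m → F)) := by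
        have h0 : (F ∙ (0 : Fin m → F)) = ⊥ := Submodule.span_zero_singleton F
        unfold Wf at hw
        rwa [h0] at hw
      rw [fib_bot, Submodule.mem_bot] at this
      rw [this]
      exact Submodule.zero_mem _
    · obtain ⟨a₀, ha₀⟩ := exists_dot_one26 η hη
      obtain ⟨φ, hφ⟩ := exists_dot_one26 y hy
      rw [dotProduct_comm] at hφ
      refine ⟨slot m t i (Matrix.vecMulVec a₀ φ) *ᵥ w, ?_⟩
      rw [Matrix.toLin'_apply]
      apply ext_slice26 i
      intro x
      rw [rootN_mulVec_slice26, slot_mulVec_slice26]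
      obtain ⟨c, hc⟩ := Submodule.mem_span_singleton.1 (hw x)
      rw [← hc]
      have h1 : Matrix.vecMulVec a₀ φ *ᵥ (c • y) = c • a₀ := by
        funext a
        simp only [Matrix.mulVec, dotProduct, Matrix.vecMulVec_apply, Pi.smul_apply, smul_eq_mul]
        have : ∑ b, a₀ a * φ b * (c * y b) = c * a₀ a * (φ ⬝ᵥ y) := by
          simp only [dotProduct, Finset.mul_sum]
          apply Finset.sum_congr rfl
          intro b _; ring
        rw [this, hφ, mul_one]
      rw [h1, dotProduct_smul, ha₀, smul_eq_mul, mul_one]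

/-- TF12b (S) -/
theorem ker_rootN (i : Fin t) (y η : Fin m → F) (hy : y ≠ 0) :
    LinearMap.ker (Matrix.toLin' (rootN i y η)) = Cf i η := by
  ext v
  rw [LinearMap.mem_ker, Matrix.toLin'_apply]
  unfold Cf
  rw [mem_fib]
  constructor
  · intro h x
    rw [mem_kerF]
    have := rootN_mulVec_slice26 i y η v x
    rw [h] at this
    have h0 : slice i x (0 : Idx t m → F) = 0 := rfl
    rw [h0] at this
    rcases smul_eq_zero.1 this.symm with h1 | h1
    · exact h1
    · exact absurd h1 hy
  · intro h
    apply ext_slice26 i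
    intro x
    rw [rootN_mulVec_slice26]
    have := h x
    rw [mem_kerF] at this
    rw [this, zero_smul]
    rfl

/-- TF13 (S) -/
theorem finrank_kerF (η : Fin m → F) (hη : η ≠ 0) : Module.finrank F (kerF η) = m - 1 := by
  classical
  let f : (Fin m → F) →ₗ[F] F :=
    { toFun := fun a => η ⬝ᵥ a
      map_add' := fun a b => dotProduct_add η a b
      map_smul' := fun c a => by
        simp only [RingHom.id_apply]
        rw [dotProduct_smul] }
  have hker : kerF η = LinearMap.ker f := by
    ext a
    rfl
  have hsurj : Function.Surjective f := by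
    intro c
    obtain ⟨a₀, ha₀⟩ := exists_dot_one26 η hη
    refine ⟨c • a₀, ?_⟩
    change η ⬝ᵥ (c • a₀) = c
    rw [dotProduct_smul, ha₀, smul_eq_mul, mul_one]
  have h1 := LinearMap.finrank_range_add_finrank_ker f
  rw [LinearMap.range_eq_top.2 hsurj, finrank_top, Module.finrank_self, Module.finrank_fintype_fun_eq_card,
    Fintype.card_fin] at h1
  rw [hker]
  omega

/-- slices of a pure tensor -/
lemma slice_pt26 (i : Fin t) (x : Idx t m) (v : Fin t → Fin m → F) :
    slice i x (pt v) = (∏ j ∈ Finset.univ.erase i, v j (x j)) • v i := by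
  classical
  funext a
  unfold slice pt
  rw [Pi.smul_apply, smul_eq_mul, ← Finset.mul_prod_erase Finset.univ _ (Finset.mem_univ i),
    Function.update_self, mul_comm]
  congr 1
  apply Finset.prod_congr rfl
  intro j hj
  rw [Function.update_of_ne (Finset.ne_of_mem_erase hj)]

/-- TF14 (S) pure tensors and fibres -/
theorem pt_mem_fib (i : Fin t) (S : Submodule F (Fin m → F)) (v : Fin t → Fin m → F) (hv : ∀ j, v j ≠ 0) :
    pt v ∈ fib i S ↔ v i ∈ S := by
  classical
  constructor
  · intro h
    have hex : ∀ j, ∃ k, v j k ≠ 0 := by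
      intro j
      by_contra hh
      apply hv j
      funext k
      by_contra hk
      exact hh ⟨k, hk⟩
    choose x hx using hex
    have := h x
    rw [slice_pt26] at this
    have hne : (∏ j ∈ Finset.univ.erase i, v j (x j)) ≠ 0 :=
      Finset.prod_ne_zero_iff.2 (fun j _ => hx j)
    have h2 := S.smul_mem (∏ j ∈ Finset.univ.erase i, v j (x j))⁻¹ this
    rwa [smul_smul, inv_mul_cancel₀ hne, one_smul] at h2
  · intro h x
    rw [slice_pt26]
    exact S.smul_mem _ h

end Cfsg.Agent.Lib.Helper26.TWLeaf
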