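import Mathlib
import Cfsg.Agent.Lib.Helper8.TW.Defs
import Cfsg.Agent.Lib.Helper20.AschA89WR
import Cfsg.Agent.Lib.Helper20.AschA89F2J
import Cfsg.Agent.Lib.Helper26.TWFibA

/-!
helper26: S5641 (C7 maximal in SL_n), block (T) toolkit of `notes/S5641_T_leaves.lean`: block TF (fibres), part B =
TF4 `fib_sup`, TF5 `finrank_fib`, TF10 `finrank_fib_inf_fib` (box formula), TF11 `fib_eq_fib_iff` (exact signatures),
via coordinate subspaces `coord26 P`.
-/

set_option autoImplicit false
set_option linter.unusedSectionVars false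
set_option linter.unusedVariables false

namespace Cfsg.Agent.Lib.Helper26.TWLeaf
open Matrix Cfsg.Geo Cfsg.Agent.Lib.Helper18.AschA89 Cfsg.Agent.Lib.Helper20.AschLeaf Cfsg.Agent.Lib.Helper8.TW

variable {F : Type*} [Field F] {t m : ℕ}

/-- the coordinate subspace of the index set `P` -/
def coord26 {ι : Type*} (P : Finset ι) : Submodule F (ι → F) where
  carrier := {v | ∀ x, x ∉ P → v x = 0}
  add_mem' := by
    intro v w hv hw x hx
    rw [Pi.add_apply, hv x hx, hw x hx, add_zero]
  zero_mem' := fun _ _ => rfl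
  smul_mem' := by
    intro c v hv x hx
    rw [Pi.smul_apply, hv x hx, smul_zero]

lemma mem_coord26 {ι : Type*} (P : Finset ι) (v : ι → F) :
    v ∈ coord26 (F := F) P ↔ ∀ x, x ∉ P → v x = 0 := Iff.rfl

lemma coord26_inf {ι : Type*} [DecidableEq ι] (P Q : Finset ι) :
    coord26 (F := F) P ⊓ coord26 Q = coord26 (P ∩ Q) := by
  ext v
  rw [Submodule.mem_inf, mem_coord26, mem_coord26, mem_coord26]
  constructor
  · rintro ⟨h1, h2⟩ x hx
    rw [Finset.mem_inter, not_and_or] at hx
    rcases hx with hx | hx
    · exact h1 x hx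
    · exact h2 x hx
  · intro h
    exact ⟨fun x hx => h x (fun hh => hx (Finset.mem_inter.1 hh).1),
      fun x hx => h x (fun hh => hx (Finset.mem_inter.1 hh).2)⟩

/-- `coord26 P ≃ (P → F)` -/
noncomputable def coordEquiv26 {ι : Type*} [DecidableEq ι] (P : Finset ι) :
    coord26 (F := F) P ≃ₗ[F] (↥P → F) where
  toFun v := fun x => v.1 x.1
  map_add' := fun v w => rfl
  map_smul' := fun c v => rfl
  invFun g := ⟨fun x => if h : x ∈ P then g ⟨x, h⟩ else 0, fun x hx => dif_neg hx⟩
  left_inv := by
    intro v
    apply Subtype.ext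
    funext x
    by_cases hx : x ∈ P
    · simp only [dif_pos hx]
    · simp only [dif_neg hx]
      exact (v.2 x hx).symm
  right_inv := by
    intro g
    funext x
    simp only [dif_pos x.2]

lemma finrank_coord26 {ι : Type*} [DecidableEq ι] (P : Finset ι) :
    Module.finrank F (coord26 (F := F) P) = P.card := by
  rw [LinearEquiv.finrank_eq (coordEquiv26 (F := F) P), Module.finrank_fintype_fun_eq_card,
    Fintype.card_coe]

/-- a unit as a linear equivalence -/
noncomputable def glEquiv26 {ι : Type} [Fintype ι] [DecidableEq ι] (g : GL ι F) :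
    (ι → F) ≃ₗ[F] (ι → F) :=
  LinearEquiv.ofLinearMap (Matrix.toLin' (g : Matrix ι ι F)) (Matrix.toLin' ((g⁻¹ : GL ι F) : Matrix ι ι F))
    (by rw [← Matrix.toLin'_mul, ← Units.val_mul, mul_inv_cancel, Units.val_one, Matrix.toLin'_one])
    (by rw [← Matrix.toLin'_mul, ← Units.val_mul, inv_mul_cancel, Units.val_one, Matrix.toLin'_one])

lemma glEquiv26_coe {ι : Type} [Fintype ι] [DecidableEq ι] (g : GL ι F) :
    ((glEquiv26 g : (ι → F) ≃ₗ[F] (ι → F)) : (ι → F) →ₗ[F] (ι → F)) = Matrix.toLin' (g : Matrix ι ι F) := rfl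

lemma toLin'_injective26 {ι : Type} [Fintype ι] [DecidableEq ι] (g : GL ι F) :
    Function.Injective (Matrix.toLin' (g : Matrix ι ι F)) := by
  have := (glEquiv26 g).injective
  exact this

/-- own copy of TI4 -/
lemma finrank_img26 {ι : Type} [Fintype ι] [DecidableEq ι] (g : GL ι F) (S : Submodule F (ι → F)) :
    Module.finrank F (img g S) = Module.finrank F S := by
  unfold img
  rw [← glEquiv26_coe]
  exact LinearEquiv.finrank_map_eq (glEquiv26 g) S

/-- own copy of TI1 -/
lemma img_mul26 {ι : Type} [Fintype ι] [DecidableEq ι] (g h : GL ι F) (S : Submodule F (ι → F)) :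
    img (g * h) S = img g (img h S) := by
  unfold img
  rw [Units.val_mul, Matrix.toLin'_mul, Submodule.map_comp]

/-- own copy of TI5 -/
lemma img_inf26 {ι : Type} [Fintype ι] [DecidableEq ι] (g : GL ι F) (S S' : Submodule F (ι → F)) :
    img g (S ⊓ S') = img g S ⊓ img g S' := by
  unfold img
  exact Submodule.map_inf _ (toLin'_injective26 g)

/-- the fibre of a coordinate subspace is a coordinate subspace -/
lemma fib_coord26 (i : Fin t) (I : Finset (Fin m)) :
    fib i (coord26 (F := F) I) = coord26 (Finset.univ.filter (fun x : Idx t m => x i ∈ I)) := by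
  classical
  ext v
  rw [mem_fib, mem_coord26]
  constructor
  · intro h z hz
    have hz' : z i ∉ I := by
      intro hh
      apply hz
      rw [Finset.mem_filter]
      exact ⟨Finset.mem_univ _, hh⟩
    have := h z (z i) hz'
    unfold slice at this
    rwa [Function.update_eq_self] at this
  · intro h x k hk
    unfold slice
    apply h
    rw [Finset.mem_filter]
    rintro ⟨-, hh⟩
    rw [Function.update_self] at hh
    exact hk hh

/-- cardinality of a box with one constrained coordinate -/
lemma card_box_one26 (i : Fin t) (I : Finset (Fin m)) :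
    (Finset.univ.filter (fun x : Idx t m => x i ∈ I)).card = m ^ (t - 1) * I.card := by
  classical
  have h1 : (Finset.univ.filter (fun x : Idx t m => x i ∈ I)) =
      Fintype.piFinset (fun j : Fin t => if j = i then I else Finset.univ) := by
    ext x
    rw [Finset.mem_filter, Fintype.mem_piFinset]
    constructor
    · rintro ⟨-, hx⟩ j
      by_cases hj : j = i
      · subst hj; rw [if_pos rfl]; exact hx
      · rw [if_neg hj]; exact Finset.mem_univ _
    · intro h
      refine ⟨Finset.mem_univ _, ?_⟩
      have := h i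
      rwa [if_pos rfl] at this
  rw [h1, Fintype.card_piFinset, ← Finset.mul_prod_erase Finset.univ _ (Finset.mem_univ i), if_pos rfl,
    mul_comm]
  congr 1
  rw [Finset.prod_congr rfl (g := fun _ => m)]
  · rw [Finset.prod_const, Finset.card_erase_of_mem (Finset.mem_univ i), Finset.card_univ,
      Fintype.card_fin]
  · intro j hj
    rw [if_neg (Finset.ne_of_mem_erase hj), Finset.card_univ, Fintype.card_fin]

/-- cardinality of a box with two constrained coordinates -/
lemma card_box_two26 (i j : Fin t) (hij : i ≠ j) (I I' : Finset (Fin m)) :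
    ((Finset.univ.filter (fun x : Idx t m => x i ∈ I)) ∩
      (Finset.univ.filter (fun x : Idx t m => x j ∈ I'))).card = m ^ (t - 2) * I.card * I'.card := by
  classical
  have h1 : ((Finset.univ.filter (fun x : Idx t m => x i ∈ I)) ∩
      (Finset.univ.filter (fun x : Idx t m => x j ∈ I'))) =
      Fintype.piFinset (fun k : Fin t => if k = i then I else if k = j then I' else Finset.univ) := by
    ext x
    rw [Finset.mem_inter, Finset.mem_filter, Finset.mem_filter, Fintype.mem_piFinset]
    constructor
    · rintro ⟨⟨-, hx⟩, ⟨-, hx'⟩⟩ k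
      by_cases hk : k = i
      · subst hk; rw [if_pos rfl]; exact hx
      · rw [if_neg hk]
        by_cases hk' : k = j
        · subst hk'; rw [if_pos rfl]; exact hx'
        · rw [if_neg hk']; exact Finset.mem_univ _
    · intro h
      refine ⟨⟨Finset.mem_univ _, ?_⟩, ⟨Finset.mem_univ _, ?_⟩⟩
      · have := h i
        rwa [if_pos rfl] at this
      · have := h j
        rwa [if_neg (Ne.symm hij), if_pos rfl] at this
  have hj : j ∈ Finset.univ.erase i := Finset.mem_erase.2 ⟨Ne.symm hij, Finset.mem_univ _⟩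
  rw [h1, Fintype.card_piFinset, ← Finset.mul_prod_erase Finset.univ _ (Finset.mem_univ i), if_pos rfl,
    ← Finset.mul_prod_erase (Finset.univ.erase i) _ hj, if_neg (Ne.symm hij), if_pos rfl]
  rw [Finset.prod_congr rfl (g := fun _ => m)]
  · rw [Finset.prod_const, Finset.card_erase_of_mem hj, Finset.card_erase_of_mem (Finset.mem_univ i),
      Finset.card_univ, Fintype.card_fin]
    have : t - 1 - 1 = t - 2 := by omega
    rw [this]
    ring
  · intro k hk
    have hk1 : k ≠ j := Finset.ne_of_mem_erase hk
    have hk2 : k ≠ i := Finset.ne_of_mem_erase (Finset.mem_of_mem_erase hk)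
    rw [if_neg hk2, if_neg hk1, Finset.card_univ, Fintype.card_fin]

/-- every subspace of `F^m` is the image of a coordinate subspace under some `α ∈ GL_m` -/
lemma exists_coord_map26 (S : Submodule F (Fin m → F)) :
    ∃ (I : Finset (Fin m)) (α : GL (Fin m) F), I.card = Module.finrank F S ∧
      (coord26 (F := F) I).map (Matrix.toLin' (α : Matrix (Fin m) (Fin m) F)) = S := by
  classical
  have hd : Module.finrank F S ≤ (Finset.univ : Finset (Fin m)).card := by
    have := Submodule.finrank_le S
    rw [Module.finrank_fintype_fun_eq_card, Fintype.card_fin] at this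
    rw [Finset.card_univ, Fintype.card_fin]
    exact this
  obtain ⟨I, -, hI⟩ := Finset.exists_subset_card_eq hd
  obtain ⟨C₀, h₀⟩ := Submodule.exists_isCompl (coord26 (F := F) I)
  obtain ⟨C, h⟩ := Submodule.exists_isCompl S
  have hS₀ : Module.finrank F (coord26 (F := F) I) = Module.finrank F S := by
    rw [finrank_coord26, hI]
  have hC : Module.finrank F C₀ = Module.finrank F C := by
    have e1 := Submodule.finrank_add_eq_of_isCompl h₀
    have e2 := Submodule.finrank_add_eq_of_isCompl h
    omega
  let e₁ : coord26 (F := F) I ≃ₗ[F] S := LinearEquiv.ofFinrankEq _ _ hS₀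
  let e₂ : C₀ ≃ₗ[F] C := LinearEquiv.ofFinrankEq _ _ hC
  let φ : (Fin m → F) ≃ₗ[F] (Fin m → F) :=
    ((Submodule.prodEquivOfIsCompl _ _ h₀).symm.trans (e₁.prodCongr e₂)).trans
      (Submodule.prodEquivOfIsCompl _ _ h)
  have hφ : ∀ s₀ : coord26 (F := F) I, φ s₀.1 = (e₁ s₀).1 := by
    intro s₀
    change (Submodule.prodEquivOfIsCompl _ _ h)
      ((e₁.prodCongr e₂) ((Submodule.prodEquivOfIsCompl _ _ h₀).symm s₀.1)) = _
    rw [Submodule.prodEquivOfIsCompl_symm_apply_left]
    rw [LinearEquiv.prodCongr_apply, Submodule.coe_prodEquivOfIsCompl']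
    simp
  let α : GL (Fin m) F :=
    ⟨LinearMap.toMatrix' (φ : (Fin m → F) →ₗ[F] (Fin m → F)),
      LinearMap.toMatrix' (φ.symm : (Fin m → F) →ₗ[F] (Fin m → F)),
      by rw [← LinearMap.toMatrix'_comp, LinearEquiv.comp_coe, LinearEquiv.symm_trans_self,
        LinearEquiv.refl_toLinearMap, LinearMap.toMatrix'_id],
      by rw [← LinearMap.toMatrix'_comp, LinearEquiv.comp_coe, LinearEquiv.self_trans_symm,
        LinearEquiv.refl_toLinearMap, LinearMap.toMatrix'_id]⟩
  have hα : Matrix.toLin' (α : Matrix (Fin m) (Fin m) F) = (φ : (Fin m → F) →ₗ[F] (Fin m → F)) :=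
    Matrix.toLin'_toMatrix' _
  refine ⟨I, α, hI, ?_⟩
  rw [hα]
  apply le_antisymm
  · rintro w ⟨s₀, hs₀, rfl⟩
    have := hφ ⟨s₀, hs₀⟩
    change φ s₀ ∈ S
    rw [this]
    exact (e₁ ⟨s₀, hs₀⟩).2
  · intro s hs
    refine ⟨(e₁.symm ⟨s, hs⟩).1, (e₁.symm ⟨s, hs⟩).2, ?_⟩
    change φ (e₁.symm ⟨s, hs⟩).1 = s
    rw [hφ, LinearEquiv.apply_symm_apply]

/-- TF5 (M) -/
theorem finrank_fib (i : Fin t) (S : Submodule F (Fin m → F)) :
    Module.finrank F (fib i S) = m ^ (t - 1) * Module.finrank F S := by
  classical
  obtain ⟨I, α, hI, hS⟩ := exists_coord_map26 S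
  rw [← hS, ← img_slot_fib, finrank_img26, fib_coord26, finrank_coord26, card_box_one26, hS, hI]

/-- TF10 (L) BOX FORMULA -/
theorem finrank_fib_inf_fib (i j : Fin t) (hij : i ≠ j) (S S' : Submodule F (Fin m → F)) :
    Module.finrank F (fib i S ⊓ fib j S' : Submodule F (Idx t m → F)) =
      m ^ (t - 2) * Module.finrank F S * Module.finrank F S' := by
  classical
  obtain ⟨I, α, hI, hS⟩ := exists_coord_map26 S
  obtain ⟨I', α', hI', hS'⟩ := exists_coord_map26 S'
  have h1 : img (slotGL i α * slotGL j α') (fib i (coord26 (F := F) I)) = fib i S := by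
    rw [img_mul26, img_slot_fib_ne i j (Ne.symm hij), img_slot_fib, hS]
  have h2 : img (slotGL i α * slotGL j α') (fib j (coord26 (F := F) I')) = fib j S' := by
    rw [img_mul26, img_slot_fib, hS', img_slot_fib_ne j i hij]
  rw [← h1, ← h2, ← img_inf26, finrank_img26, fib_coord26, fib_coord26, coord26_inf, finrank_coord26,
    card_box_two26 i j hij, hI, hI']

/-- TF4 (M) -/
theorem fib_sup (i : Fin t) (S S' : Submodule F (Fin m → F)) : fib i (S ⊔ S') = fib i S ⊔ fib i S' := by
  classical
  have hle : fib i S ⊔ fib i S' ≤ fib i (S ⊔ S') :=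
    sup_le (fib_mono i le_sup_left) (fib_mono i le_sup_right)
  have h1 := Submodule.finrank_sup_add_finrank_inf_eq (fib i S) (fib i S')
  have h2 := Submodule.finrank_sup_add_finrank_inf_eq S S'
  rw [← fib_inf, finrank_fib, finrank_fib, finrank_fib] at h1
  have h3 : Module.finrank F (fib i S ⊔ fib i S' : Submodule F (Idx t m → F)) =
      Module.finrank F (fib i (S ⊔ S')) := by
    rw [finrank_fib]
    have h4 : m ^ (t - 1) * (Module.finrank F (S ⊔ S' : Submodule F (Fin m → F)) +
        Module.finrank F (S ⊓ S' : Submodule F (Fin m → F))) =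
        m ^ (t - 1) * (Module.finrank F S + Module.finrank F S') := by rw [h2]
    rw [mul_add, mul_add] at h4
    omega
  exact (Submodule.eq_of_le_of_finrank_eq hle h3).symm

/-- TF11 (M) -/
theorem fib_eq_fib_iff (i i' : Fin t) (S S' : Submodule F (Fin m → F)) (hS0 : S ≠ ⊥) (hS1 : S ≠ ⊤) :
    fib i S = fib i' S' ↔ i = i' ∧ S = S' := by
  classical
  constructor
  · intro h
    by_cases hii : i = i'
    · subst hii
      refine ⟨rfl, le_antisymm ?_ ?_⟩
      · exact (fib_le_iff i S S').1 (le_of_eq h)
      · exact (fib_le_iff i S' S).1 (le_of_eq h.symm)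
    · exfalso
      have hm : 0 < m := by
        rcases Nat.eq_zero_or_pos m with hm | hm
        · subst hm
          exfalso
          apply hS0
          rw [eq_bot_iff]
          intro a _
          rw [Submodule.mem_bot]
          exact Subsingleton.elim _ _
        · exact hm
      have ht : 2 ≤ t := by
        have h1 := i.2
        have h2 := i'.2
        have h3 : (i : ℕ) ≠ (i' : ℕ) := fun hh => hii (Fin.ext hh)
        omega
      have hdS : 0 < Module.finrank F S := by
        rw [Nat.pos_iff_ne_zero]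
        intro h0
        exact hS0 (Submodule.finrank_eq_zero.1 h0)
      have e1 : fib i S ⊓ fib i' S' = fib i S := by rw [← h, inf_idem]
      have e2 := finrank_fib_inf_fib i i' hii S S'
      rw [e1, finrank_fib] at e2
      have hpow : m ^ (t - 1) = m ^ (t - 2) * m := by
        have : t - 1 = (t - 2) + 1 := by omega
        rw [this, pow_succ]
      rw [hpow] at e2
      have hpos : 0 < m ^ (t - 2) * Module.finrank F S :=
        Nat.mul_pos (Nat.pow_pos hm) hdS
      have e3 : m ^ (t - 2) * Module.finrank F S * m =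
          m ^ (t - 2) * Module.finrank F S * Module.finrank F S' := by
        rw [← e2]; ring
      have e4 : m = Module.finrank F S' := Nat.eq_of_mul_eq_mul_left hpos e3
      have hS'top : S' = ⊤ := by
        apply Submodule.eq_top_of_finrank_eq
        rw [← e4, Module.finrank_fintype_fun_eq_card, Fintype.card_fin]
      rw [hS'top, fib_top] at h
      apply hS1
      rw [eq_top_iff, ← fib_le_iff i, h, fib_top]
  · rintro ⟨rfl, rfl⟩
    rfl

end Cfsg.Agent.Lib.Helper26.TWLeaf
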