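import Mathlib
import Cfsg.Prelude.Def_GeometricClasses
import Cfsg.Prelude.Def_LieClassical
import Cfsg.Agent.Lib.Helper8.TW.Defs
import Cfsg.Agent.Lib.Helper20.UTDefs
import Cfsg.Agent.Lib.Helper20.AschA89F2J
import Cfsg.Agent.Lib.Helper23.TWG1
import Cfsg.Agent.Lib.Helper7.UTTT
import Cfsg.Agent.Lib.Helper15.TT
import Cfsg.Agent.Lib.Helper5.TWU.Defs

/-!
helper26: S5672 (C7 unitary, `GU_k wr S_t < SU_n(q)`) part (A) = TRANSPORT.

From the model statement on `Idx t k → F` (all hermitian forms standard: `hv q x y = Σ x_a (y_a)^q`)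
to the frozen conclusion (model groups `GUV`, `SUV` of `Helper5.TWU.Defs`): an arbitrary unitary form `f₁` on `F^k`, `IsTensorPowerFormStructure`, `e`, `P`.

`φ := conj R ≫ glReindex e.symm ≫ conj P` with `R = P₁ ⊗ ... ⊗ P₁`, `P₁` an orthonormal basis of `f₁`;
`L x := P ((R x) ∘ e)` intertwines and is a similarity `herm (L x) (L y) = c * hv x y`.
Twin of helper7's `UTTLeaf.transportU` (S5670).
-/

set_option autoImplicit false
set_option linter.unusedSectionVars false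
set_option linter.unusedVariables false

namespace Cfsg.Agent.Lib.Helper26.TWUT
open Matrix Cfsg.Geo Cfsg.Agent.Lib.Helper20.AschLeaf
open Cfsg.Agent.Lib.Helper18.AschA89 (ptens ptens_apply)
open Cfsg.Agent.Lib.Helper8.TW (Idx Gstd SLV)
open Cfsg.Agent.Lib.Helper20.UT (hv cj)
open Cfsg.Agent.Lib.Helper5.TWU (GUV SUV)
open Cfsg.Agent.Lib.Helper7.UTTLeaf (glReindex_mulVec gl_inv_mulVec' gl_mulVec_inv' form_eq_gram)
open Cfsg.Agent.Lib.Helper15.TensLeaf (tt_isMaximalIn_map tt_map_specialLinear tt_det_glReindex tt_det_conj)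

variable {F : Type*} [Field F]

/-! ### the generic transport isomorphism -/

section gen
variable [Fintype F] {κ : Type} [Fintype κ] [DecidableEq κ] {n q : ℕ}

/-- the isomorphism `conj R ≫ glReindex e.symm ≫ conj P` -/
def tphi (e : Fin n ≃ κ) (P : GL (Fin n) F) (R : GL κ F) : GL κ F ≃* GL (Fin n) F :=
  (MulAut.conj R).trans ((Cfsg.Geo.glReindex (F := F) e.symm).trans (MulAut.conj P))

/-- the similarity `L x = P ((R x) ∘ e)` -/
def tL (e : Fin n ≃ κ) (P : GL (Fin n) F) (R : GL κ F) (x : κ → F) : Fin n → F :=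
  (P : Matrix (Fin n) (Fin n) F) *ᵥ ((((R : Matrix κ κ F)) *ᵥ x) ∘ e)

lemma tphi_mulVec (e : Fin n ≃ κ) (P : GL (Fin n) F) (R : GL κ F) (g : GL κ F) (x : κ → F) :
    ((tphi e P R g : GL (Fin n) F) : Matrix (Fin n) (Fin n) F) *ᵥ tL e P R x =
      tL e P R ((g : Matrix κ κ F) *ᵥ x) := by
  have h1 : tphi e P R g = P * Cfsg.Geo.glReindex (F := F) e.symm (R * g * R⁻¹) * P⁻¹ := rfl
  rw [h1]
  unfold tL
  rw [Units.val_mul, Units.val_mul, ← Matrix.mulVec_mulVec, ← Matrix.mulVec_mulVec, gl_inv_mulVec',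
    glReindex_mulVec, Units.val_mul, Units.val_mul, ← Matrix.mulVec_mulVec, ← Matrix.mulVec_mulVec,
    gl_inv_mulVec']

lemma tL_surjective (e : Fin n ≃ κ) (P : GL (Fin n) F) (R : GL κ F) (u : Fin n → F) :
    ∃ x, tL e P R x = u := by
  refine ⟨((R⁻¹ : GL κ F) : Matrix κ κ F) *ᵥ
    ((((P⁻¹ : GL (Fin n) F) : Matrix (Fin n) (Fin n) F) *ᵥ u) ∘ e.symm), ?_⟩
  unfold tL
  rw [gl_mulVec_inv']
  have : ((((P⁻¹ : GL (Fin n) F) : Matrix (Fin n) (Fin n) F) *ᵥ u) ∘ e.symm) ∘ e =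
      ((P⁻¹ : GL (Fin n) F) : Matrix (Fin n) (Fin n) F) *ᵥ u := by
    ext i
    simp
  rw [this, gl_mulVec_inv']

/-- `φ` maps the isometry group of `hv q` on `F^κ` onto `GU` -/
theorem map_pres (e : Fin n ≃ κ) (P : GL (Fin n) F) (R : GL κ F) (c : F) (hc : c ≠ 0)
    (hL : ∀ x y : κ → F, Cfsg.hermForm n F q (tL e P R x) (tL e P R y) = c * hv q x y) :
    (Cfsg.preserving (Units.coeHom (Matrix κ κ F)) (hv q)).map (tphi e P R).toMonoidHom =
      Cfsg.GU n F q := by
  have key : ∀ g : GL κ F, g ∈ Cfsg.preserving (Units.coeHom (Matrix κ κ F)) (hv q) ↔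
      tphi e P R g ∈ Cfsg.GU n F q := by
    intro g
    constructor
    · intro hg u v
      obtain ⟨x, rfl⟩ := tL_surjective e P R u
      obtain ⟨y, rfl⟩ := tL_surjective e P R v
      change Cfsg.hermForm n F q (((tphi e P R g : GL (Fin n) F) : Matrix (Fin n) (Fin n) F) *ᵥ _)
        (((tphi e P R g : GL (Fin n) F) : Matrix (Fin n) (Fin n) F) *ᵥ _) = _
      rw [tphi_mulVec, tphi_mulVec, hL, hL]
      congr 1
      exact hg x y
    · intro hg x y
      have h1 := hg (tL e P R x) (tL e P R y)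
      change Cfsg.hermForm n F q (((tphi e P R g : GL (Fin n) F) : Matrix (Fin n) (Fin n) F) *ᵥ _)
        (((tphi e P R g : GL (Fin n) F) : Matrix (Fin n) (Fin n) F) *ᵥ _) = _ at h1
      rw [tphi_mulVec, tphi_mulVec, hL, hL] at h1
      exact mul_left_cancel₀ hc h1
  ext x
  rw [Subgroup.mem_map]
  constructor
  · rintro ⟨g, hg, rfl⟩
    exact (key g).mp hg
  · intro hx
    refine ⟨(tphi e P R).symm x, ?_, by simp⟩
    rw [key, MulEquiv.apply_symm_apply]
    exact hx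

theorem map_SL (e : Fin n ≃ κ) (P : GL (Fin n) F) (R : GL κ F) :
    (Cfsg.Geo.specialLinear κ F).map (tphi e P R).toMonoidHom = Cfsg.Geo.specialLinear (Fin n) F := by
  apply tt_map_specialLinear
  intro g
  have h1 : tphi e P R g = MulAut.conj P (Cfsg.Geo.glReindex (F := F) e.symm (MulAut.conj R g)) :=
    rfl
  rw [h1, tt_det_conj, tt_det_glReindex, tt_det_conj]

end gen

/-! ### the tensor power of an orthonormal basis -/

section pow
variable {t k q : ℕ}

/-- the pure tensor of units, as a unit -/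
def ptGL (gs : Fin t → GL (Fin k) F) : GL (Idx t k) F :=
  ⟨ptens k t (fun j => ((gs j : GL (Fin k) F) : Matrix (Fin k) (Fin k) F)),
    ptens k t (fun j => (((gs j)⁻¹ : GL (Fin k) F) : Matrix (Fin k) (Fin k) F)),
    by
      rw [ptens_mul]
      simp only [← Units.val_mul, mul_inv_cancel, Units.val_one]
      exact ptens_one k t,
    by
      rw [ptens_mul]
      simp only [← Units.val_mul, inv_mul_cancel, Units.val_one]
      exact ptens_one k t⟩

lemma ptGL_val (gs : Fin t → GL (Fin k) F) :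
    ((ptGL gs : GL (Idx t k) F) : Matrix (Idx t k) (Idx t k) F) =
      ptens k t (fun j => ((gs j : GL (Fin k) F) : Matrix (Fin k) (Fin k) F)) := rfl

lemma ptGL_mem_G (gs : Fin t → GL (Fin k) F) : ptGL gs ∈ Gstd t k F :=
  Cfsg.Agent.Lib.Helper23.TWLeaf.ptens_mem_G gs _ rfl

/-- entrywise image of a pure tensor under a monoid hom of the field -/
lemma ptens_map_pow (gs : Fin t → Matrix (Fin k) (Fin k) F) :
    (ptens k t gs).map (fun x : F => x ^ q) = ptens k t (fun j => (gs j).map (fun x : F => x ^ q)) := by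
  ext x y
  rw [Matrix.map_apply, ptens_apply, ptens_apply, ← Finset.prod_pow]
  rfl

/-- the sesquilinear form of a matrix `M`: `Σ_a Σ_b x_a M_ab (y_b)^q` -/
lemma sesq_eq_dot {ι : Type} [Fintype ι] (M : Matrix ι ι F) (x y : ι → F) :
    ∑ a, ∑ b, x a * M a b * (y b) ^ q = x ⬝ᵥ (M *ᵥ cj q y) := by
  simp only [dotProduct, Matrix.mulVec, cj, Finset.mul_sum]
  apply Finset.sum_congr rfl
  intro a _
  apply Finset.sum_congr rfl
  intro b _
  ring

end pow

section fin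
variable [Fintype F] {t k q : ℕ}

/-- coordinatewise `q`-th power commutes with `mulVec` (`|F| = q²`, so `x ↦ x^q` is a ring hom) -/
lemma cj_mulVec {ι : Type} [Fintype ι] (hF : Fintype.card F = q ^ 2) (M : Matrix ι ι F) (y : ι → F) :
    cj q (M *ᵥ y) = (M.map (fun x : F => x ^ q)) *ᵥ cj q y := by
  funext a
  simp only [cj, Matrix.mulVec, dotProduct, Matrix.map_apply]
  have := map_sum (Cfsg.Agent.Lib.Helper5.HermBridge.frobQ hF) (fun b => M a b * y b) Finset.univ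
  simp only [Cfsg.Agent.Lib.Helper5.HermBridge.frobQ_apply] at this
  rw [this]
  apply Finset.sum_congr rfl
  intro b _
  rw [mul_pow]

/-- the Gram identity of an orthonormal basis: `P₁ᵀ G₁ P₁^(q) = 1` -/
lemma gram_onb (hF : Fintype.card F = q ^ 2) (f₁ : (Fin k → F) → (Fin k → F) → F)
    (hf₁ : Cfsg.Geo.IsUnitaryFormPow q f₁) (P₁ : GL (Fin k) F)
    (h₁ : ∀ x y : Fin k → F,
      f₁ ((P₁ : Matrix (Fin k) (Fin k) F) *ᵥ x) ((P₁ : Matrix (Fin k) (Fin k) F) *ᵥ y) = hv q x y) :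
    (P₁ : Matrix (Fin k) (Fin k) F)ᵀ * Cfsg.Geo.gramMatrix f₁ *
      (P₁ : Matrix (Fin k) (Fin k) F).map (fun x : F => x ^ q) = 1 := by
  classical
  have hq0 : q ≠ 0 := Cfsg.Agent.Lib.Helper7.UTTLeaf.q_ne_zero hF
  have key : ∀ x y : Fin k → F,
      x ⬝ᵥ (((P₁ : Matrix (Fin k) (Fin k) F)ᵀ * Cfsg.Geo.gramMatrix f₁ *
        (P₁ : Matrix (Fin k) (Fin k) F).map (fun x : F => x ^ q)) *ᵥ cj q y) = x ⬝ᵥ cj q y := by
    intro x y
    have h := h₁ x y
    rw [form_eq_gram hF f₁ hf₁, sesq_eq_dot, cj_mulVec hF] at h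
    rw [Cfsg.Agent.Lib.Helper20.UT.hv_eq_dot] at h
    rw [dotProduct_comm (cj q y) x] at h
    rw [← h, ← Matrix.mulVec_mulVec, ← Matrix.mulVec_mulVec, Matrix.dotProduct_mulVec,
      Matrix.vecMul_transpose]
  ext c d
  have h := key (Pi.single c 1) (Pi.single d 1)
  have hcj : cj q (Pi.single d (1 : F) : Fin k → F) = Pi.single d 1 := by
    funext i
    simp only [cj]
    by_cases hi : i = d
    · subst hi; simp
    · rw [Pi.single_eq_of_ne hi, zero_pow hq0]
  rw [hcj, Matrix.mulVec_single_one, single_one_dotProduct, single_one_dotProduct] at h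
  rw [Matrix.one_apply]
  simpa [Pi.single_apply, eq_comm] using h

/-- the tensor-power Gram form in orthonormal coordinates -/
theorem gramPow_ptGL (hF : Fintype.card F = q ^ 2) (f₁ : (Fin k → F) → (Fin k → F) → F)
    (hf₁ : Cfsg.Geo.IsUnitaryFormPow q f₁) (P₁ : GL (Fin k) F)
    (h₁ : ∀ x y : Fin k → F,
      f₁ ((P₁ : Matrix (Fin k) (Fin k) F) *ᵥ x) ((P₁ : Matrix (Fin k) (Fin k) F) *ᵥ y) = hv q x y)
    (x y : Idx t k → F) :
    ∑ a, ∑ b, ((ptGL (fun _ : Fin t => P₁) : GL (Idx t k) F).val *ᵥ x) a *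
        (∏ i, Cfsg.Geo.gramMatrix f₁ (a i) (b i)) *
        (((ptGL (fun _ : Fin t => P₁) : GL (Idx t k) F).val *ᵥ y) b) ^ q = hv q x y := by
  classical
  have hG : (fun a b : Idx t k => ∏ i, Cfsg.Geo.gramMatrix f₁ (a i) (b i)) =
      ptens k t (fun _ => Cfsg.Geo.gramMatrix f₁) := by
    funext a b
    rw [ptens_apply]
  have h0 : ∑ a, ∑ b, ((ptGL (fun _ : Fin t => P₁) : GL (Idx t k) F).val *ᵥ x) a *
        (∏ i, Cfsg.Geo.gramMatrix f₁ (a i) (b i)) *
        (((ptGL (fun _ : Fin t => P₁) : GL (Idx t k) F).val *ᵥ y) b) ^ q =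
      ∑ a, ∑ b, ((ptGL (fun _ : Fin t => P₁) : GL (Idx t k) F).val *ᵥ x) a *
        (ptens k t (fun _ => Cfsg.Geo.gramMatrix f₁)) a b *
        (((ptGL (fun _ : Fin t => P₁) : GL (Idx t k) F).val *ᵥ y) b) ^ q := by
    apply Finset.sum_congr rfl
    intro a _
    apply Finset.sum_congr rfl
    intro b _
    rw [ptens_apply]
  rw [h0, sesq_eq_dot, cj_mulVec hF, Matrix.mulVec_mulVec,
    ← Matrix.vecMul_transpose, ← Matrix.dotProduct_mulVec, Matrix.mulVec_mulVec]
  have hK : ((ptGL (fun _ : Fin t => P₁) : GL (Idx t k) F).val)ᵀ *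
      (ptens k t (fun _ => Cfsg.Geo.gramMatrix f₁) *
        ((ptGL (fun _ : Fin t => P₁) : GL (Idx t k) F).val).map (fun x : F => x ^ q)) = 1 := by
    change (ptens k t (fun _ : Fin t => (P₁ : Matrix (Fin k) (Fin k) F)))ᵀ *
      (ptens k t (fun _ => Cfsg.Geo.gramMatrix f₁) *
        (ptens k t (fun _ : Fin t => (P₁ : Matrix (Fin k) (Fin k) F))).map (fun x : F => x ^ q)) = 1
    rw [ptens_transpose, ptens_map_pow, ptens_mul, ptens_mul]
    have : (fun i : Fin t => (P₁ : Matrix (Fin k) (Fin k) F)ᵀ * (Cfsg.Geo.gramMatrix f₁ *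
        (P₁ : Matrix (Fin k) (Fin k) F).map (fun x : F => x ^ q))) = fun _ => 1 := by
      funext i
      rw [← Matrix.mul_assoc]
      exact gram_onb hF f₁ hf₁ P₁ h₁
    rw [this, ptens_one]
  rw [hK, Matrix.one_mulVec, Cfsg.Agent.Lib.Helper20.UT.hv_eq_dot, dotProduct_comm]

/-- the transporting isomorphism and its two images -/
theorem exists_transportW {n : ℕ} (hF : Fintype.card F = q ^ 2) (e : Fin n ≃ (Fin t → Fin k))
    (P : GL (Fin n) F) (f₁ : (Fin k → F) → (Fin k → F) → F)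
    (hf₁ : Cfsg.Geo.IsUnitaryFormPow q f₁)
    (hT : Cfsg.Geo.IsTensorPowerFormStructure (fun x : F => x ^ q) (Cfsg.hermForm n F q) f₁ e P) :
    ∃ φ : GL (Idx t k) F ≃* GL (Fin n) F,
      (Gstd t k F).map φ.toMonoidHom = Cfsg.Geo.tensorWreathSubgroup k t e P ∧
      (SUV t k q F).map φ.toMonoidHom = Cfsg.GU n F q ⊓ Cfsg.Geo.specialLinear (Fin n) F := by
  obtain ⟨P₁, hP₁⟩ := Cfsg.Agent.Lib.Helper7.UTTLeaf.exists_onb hF f₁ hf₁
  obtain ⟨c, hc, hTc⟩ := hT
  set R : GL (Idx t k) F := ptGL (fun _ : Fin t => P₁) with hR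
  have hRG : R ∈ Gstd t k F := ptGL_mem_G _
  have hL : ∀ x y : Idx t k → F,
      Cfsg.hermForm n F q (tL e P R x) (tL e P R y) = c * hv q x y := by
    intro x y
    unfold tL
    rw [hTc]
    congr 1
    exact gramPow_ptGL hF f₁ hf₁ P₁ hP₁ x y
  refine ⟨tphi e P R, ?_, ?_⟩
  · have h1 : (Gstd t k F).map (MulAut.conj R).toMonoidHom = Gstd t k F := by
      ext x
      rw [Subgroup.mem_map]
      constructor
      · rintro ⟨y, hy, rfl⟩
        change R * y * R⁻¹ ∈ Gstd t k F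
        exact (Gstd t k F).mul_mem ((Gstd t k F).mul_mem hRG hy) ((Gstd t k F).inv_mem hRG)
      · intro hx
        refine ⟨R⁻¹ * x * R, (Gstd t k F).mul_mem ((Gstd t k F).mul_mem
          ((Gstd t k F).inv_mem hRG) hx) hRG, ?_⟩
        change R * (R⁻¹ * x * R) * R⁻¹ = x
        group
    have h2 : (Gstd t k F).map (tphi e P R).toMonoidHom =
        ((Gstd t k F).map (MulAut.conj R).toMonoidHom).map
          ((Cfsg.Geo.glReindex (F := F) e.symm).trans (MulAut.conj P)).toMonoidHom := by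
      rw [Subgroup.map_map]
      rfl
    rw [h2, h1]
    unfold Cfsg.Geo.tensorWreathSubgroup
    rw [Subgroup.map_map]
    rfl
  · unfold SUV GUV
    rw [Subgroup.map_inf _ _ _ (tphi e P R).injective, map_pres e P R c hc hL, map_SL]

/-- **(A) transport of S5672**: the frozen conclusion from the model statement -/
theorem transportUW {n : ℕ} (hF : Fintype.card F = q ^ 2) (k t : ℕ) (e : Fin n ≃ (Fin t → Fin k))
    (P : GL (Fin n) F) (f₁ : (Fin k → F) → (Fin k → F) → F)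
    (hf₁ : Cfsg.Geo.IsUnitaryFormPow q f₁)
    (hT : Cfsg.Geo.IsTensorPowerFormStructure (fun x : F => x ^ q) (Cfsg.hermForm n F q) f₁ e P)
    (hcore : Cfsg.Geo.IsMaximalIn (SUV t k q F) (Gstd t k F ⊓ SUV t k q F)) :
    Cfsg.Geo.IsMaximalIn (Cfsg.GU n F q ⊓ Cfsg.Geo.specialLinear (Fin n) F)
      (Cfsg.Geo.tensorWreathSubgroup k t e P ⊓
        (Cfsg.GU n F q ⊓ Cfsg.Geo.specialLinear (Fin n) F)) := by
  obtain ⟨φ, hK, hG⟩ := exists_transportW hF e P f₁ hf₁ hT
  have key := tt_isMaximalIn_map φ hcore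
  rw [Subgroup.map_inf _ _ _ φ.injective, hK, hG] at key
  exact key

end fin

end Cfsg.Agent.Lib.Helper26.TWUT
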