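import Mathlib
import Cfsg.Agent.Lib.Helper26.TWUT
import Cfsg.Agent.Lib.Helper7.UTTP
import Cfsg.Agent.Lib.Helper28.SLMP7core

/-!
helper26: S5672 (C7 unitary) part (A), second half: PROPERNESS of the model (`G ∩ SU < SU`: the permutation
matrix of a 3-cycle of the standard basis is an isometry of determinant one that maps a decomposable vector
to a non-decomposable one) and the final wrapper `maximal_of_mainU` (main theorem of the model ⟹ frozen conclusion).
-/

set_option autoImplicit false
set_option linter.unusedSectionVars false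
set_option linter.unusedVariables false

namespace Cfsg.Agent.Lib.Helper26.TWUT
open Matrix Cfsg.Geo
open Cfsg.Agent.Lib.Helper8.TW (Idx Gstd SLV)
open Cfsg.Agent.Lib.Helper20.UT (hv)
open Cfsg.Agent.Lib.Helper5.TWU (GUV SUV DUV HU MainTU mem_GUV GUV_le_DUV)
open Cfsg.Agent.Lib.Helper7.UTTLeaf (permGL permGL_val permGL_apply mv_permGL hv_comp_perm)
open Cfsg.Agent.Lib.Helper28.SLMLeaf (DecT stabSet tensorWreathStandard_le_stab)

variable {F : Type*} [Field F] [Fintype F] {t k q : ℕ}

/-- the sum of two basis vectors whose indices differ in two positions is not decomposable -/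
lemma not_dec_two (z00 z11 z01 : Idx t k) (i1 : Fin t) (h0011 : z00 ≠ z11) (h0001 : z01 ≠ z00)
    (h1101 : z01 ≠ z11) (hoff : ∀ i, i ≠ i1 → z01 i = z00 i) (hat : z01 i1 = z11 i1) :
    (fun z : Idx t k => (if z = z00 then (1 : F) else 0) + (if z = z11 then 1 else 0)) ∉ DecT k t F := by
  classical
  rintro ⟨xs, hxs⟩
  have e00 := congrFun hxs z00
  have e11 := congrFun hxs z11
  have e01 := congrFun hxs z01
  simp only [if_neg h0011, if_neg h0011.symm, if_neg h0001, if_neg h1101, add_zero,
    zero_add, if_true] at e00 e11 e01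
  have hsplit : ∀ z : Fin t → Fin k, ∏ i, xs i (z i) = xs i1 (z i1) * ∏ i ∈ Finset.univ.erase i1, xs i (z i) :=
    fun z => (Finset.mul_prod_erase Finset.univ (fun i => xs i (z i)) (Finset.mem_univ i1)).symm
  rw [hsplit] at e00 e11 e01
  have hA : ∏ i ∈ Finset.univ.erase i1, xs i (z01 i) = ∏ i ∈ Finset.univ.erase i1, xs i (z00 i) := by
    refine Finset.prod_congr rfl fun i hi' => ?_
    have : i ≠ i1 := Finset.ne_of_mem_erase hi'
    rw [hoff i this]
  rw [hA, hat] at e01
  have h1 : xs i1 (z11 i1) ≠ 0 := by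
    intro h; rw [h, zero_mul] at e11; exact one_ne_zero e11
  have h2 : ∏ i ∈ Finset.univ.erase i1, xs i (z00 i) ≠ 0 := by
    intro h; rw [h, mul_zero] at e00; exact one_ne_zero e00
  exact mul_ne_zero h1 h2 e01.symm

/-- (TP) the C7 group is proper in `SU` of the model -/
theorem Gstd_SUV_lt (hk : 2 ≤ k) (ht : 2 ≤ t) : Gstd t k F ⊓ SUV t k q F < SUV t k q F := by
  classical
  refine lt_of_le_of_ne inf_le_right ?_
  intro heq
  let c0 : Fin k := ⟨0, by omega⟩
  let c1 : Fin k := ⟨1, by omega⟩
  let i0 : Fin t := ⟨0, by omega⟩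
  let i1 : Fin t := ⟨1, by omega⟩
  have hc : c0 ≠ c1 := by intro h; have := congrArg Fin.val h; simp [c0, c1] at this
  have hi : i0 ≠ i1 := by intro h; have := congrArg Fin.val h; simp [i0, i1] at this
  set z00 : Idx t k := fun _ => c0 with hz00
  set z11 : Idx t k := fun i => if i = i0 ∨ i = i1 then c1 else c0 with hz11
  set z01 : Idx t k := fun i => if i = i1 then c1 else c0 with hz01
  set z10 : Idx t k := fun i => if i = i0 then c1 else c0 with hz10
  have h0011 : z00 ≠ z11 := by
    intro h; have := congrFun h i0; simp [z00, z11] at this; exact hc this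
  have h0001 : z01 ≠ z00 := by
    intro h; have := congrFun h i1; simp [z00, z01] at this; exact hc this.symm
  have h1101 : z01 ≠ z11 := by
    intro h; have := congrFun h i0; simp [z11, z01, hi] at this; exact hc this
  have h0010 : z10 ≠ z00 := by
    intro h; have := congrFun h i0; simp [z00, z10] at this; exact hc this.symm
  have h1110 : z10 ≠ z11 := by
    intro h; have := congrFun h i1; simp [z11, z10, hi.symm] at this; exact hc this
  have h0110 : z01 ≠ z10 := by
    intro h; have := congrFun h i1; simp [z01, z10, hi.symm] at this; exact hc this.symm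
  -- the 3-cycle z11 ↦ z01 ↦ z10 ↦ z11
  set σ : Equiv.Perm (Idx t k) := Equiv.swap z11 z01 * Equiv.swap z01 z10 with hσ
  have hσ11 : σ z11 = z01 := by
    rw [hσ, Equiv.Perm.mul_apply, Equiv.swap_apply_of_ne_of_ne h1101.symm h1110.symm,
      Equiv.swap_apply_left]
  have hσ00 : σ z00 = z00 := by
    rw [hσ, Equiv.Perm.mul_apply, Equiv.swap_apply_of_ne_of_ne h0001.symm h0010.symm,
      Equiv.swap_apply_of_ne_of_ne h0011 h0001.symm]
  have hsign : Equiv.Perm.sign σ = 1 := by
    rw [hσ, map_mul, Equiv.Perm.sign_swap h1101.symm, Equiv.Perm.sign_swap h0110]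
    rfl
  have hg : (permGL σ : GL (Idx t k) F) ∈ SUV t k q F := by
    refine ⟨?_, ?_⟩
    · change (permGL σ : GL (Idx t k) F) ∈ GUV t k q F
      rw [mem_GUV]
      intro u v
      unfold Cfsg.Agent.Lib.Helper8.TW.mv
      have h1 := mv_permGL (F := F) σ u
      have h2 := mv_permGL (F := F) σ v
      unfold Cfsg.Agent.Lib.Helper20.UT.mv at h1 h2
      rw [h1, h2, hv_comp_perm]
    · change (permGL σ : GL (Idx t k) F) ∈ Cfsg.Geo.specialLinear (Idx t k) F
      rw [Cfsg.Agent.Lib.Helper25.Tens.mem_SLG_iff, permGL_val, Matrix.det_permutation, hsign]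
      simp
  have hgG : (permGL σ : GL (Idx t k) F) ∈ Gstd t k F := by
    rw [← heq] at hg
    exact hg.1
  have hstab := tensorWreathStandard_le_stab k t hgG
  -- the decomposable vector `e_{z00} + e_{z01}`
  let xs : Fin t → Fin k → F := fun i => if i = i1 then (Pi.single c0 1 + Pi.single c1 1) else Pi.single c0 1
  have hd : (fun z : Idx t k => ∏ i, xs i (z i)) ∈ DecT k t F := ⟨xs, rfl⟩
  have himg := (hstab _).2 hd
  have h1 := mv_permGL (F := F) σ (fun z : Idx t k => ∏ i, xs i (z i))
  unfold Cfsg.Agent.Lib.Helper20.UT.mv at h1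
  rw [h1] at himg
  -- `d z = [z = z00] + [z = z01]`
  have hdval : ∀ z : Idx t k, ∏ i, xs i (z i) =
      (if z = z00 then (1 : F) else 0) + (if z = z01 then 1 else 0) := by
    intro z
    by_cases hz : ∀ i, i ≠ i1 → z i = c0
    · have hprod : ∏ i, xs i (z i) = xs i1 (z i1) := by
        rw [← Finset.mul_prod_erase Finset.univ (fun i => xs i (z i)) (Finset.mem_univ i1)]
        have : ∏ i ∈ Finset.univ.erase i1, xs i (z i) = 1 := by
          apply Finset.prod_eq_one
          intro i hi'
          have hne : i ≠ i1 := Finset.ne_of_mem_erase hi'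
          simp only [xs, if_neg hne, hz i hne, Pi.single_eq_same]
        rw [this, mul_one]
      rw [hprod]
      simp only [xs, if_true, Pi.add_apply]
      by_cases h0 : z i1 = c0
      · have hz0 : z = z00 := by
          funext i
          by_cases hii : i = i1
          · rw [hii, h0]
          · exact hz i hii
        rw [if_pos hz0, hz0, if_neg h0001.symm, add_zero]
        simp [hz00, hc]
      · by_cases h1' : z i1 = c1
        · have hz1 : z = z01 := by
            funext i
            by_cases hii : i = i1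
            · rw [hii, h1']; simp [hz01]
            · rw [hz i hii]; simp [hz01, hii]
          rw [if_pos hz1, hz1, if_neg h0001, zero_add]
          simp [hz01, hc.symm]
        · have hz0 : z ≠ z00 := fun h => h0 (by rw [h])
          have hz1 : z ≠ z01 := fun h => h1' (by rw [h]; simp [hz01])
          rw [if_neg hz0, if_neg hz1, add_zero]
          simp [Pi.single_eq_of_ne h0, Pi.single_eq_of_ne h1']
    · push Not at hz
      obtain ⟨i, hii, hzi⟩ := hz
      have hz0 : z ≠ z00 := fun h => hzi (by rw [h])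
      have hz1 : z ≠ z01 := fun h => hzi (by rw [h]; simp [hz01, hii])
      rw [if_neg hz0, if_neg hz1, add_zero]
      apply Finset.prod_eq_zero (Finset.mem_univ i)
      simp only [xs, if_neg hii, Pi.single_eq_of_ne hzi]
  have hcomp : ((fun z : Idx t k => ∏ i, xs i (z i)) ∘ σ) =
      fun z : Idx t k => (if z = z00 then (1 : F) else 0) + (if z = z11 then 1 else 0) := by
    funext z
    simp only [Function.comp_apply]
    rw [hdval]
    have e1 : (σ z = z00) ↔ z = z00 := by
      constructor
      · intro h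
        apply σ.injective
        rw [h, hσ00]
      · intro h; rw [h, hσ00]
    have e2 : (σ z = z01) ↔ z = z11 := by
      constructor
      · intro h
        apply σ.injective
        rw [h, hσ11]
      · intro h; rw [h, hσ11]
    simp only [e1, e2]
  rw [hcomp] at himg
  refine not_dec_two z00 z11 z01 i1 h0011 h0001 h1101 ?_ ?_ himg
  · intro i hii
    simp [hz01, hz00, hii]
  · simp [hz01, hz11]

/-- **the model statement** in the shape asked for by helper5 (msg 4579): maximality of `G ∩ SU(V)` in `SU(V)`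
from the main theorem `MainTU` (properness included) -/
theorem model_max (hF : Fintype.card F = q ^ 2) (hk : 3 ≤ k) (ht : 2 ≤ t) (hex : ¬ (q = 2 ∧ k = 3))
    (hmain : MainTU t k q F) :
    Cfsg.Geo.IsMaximalIn (GUV t k q F ⊓ SLV t k F) (Gstd t k F ⊓ (GUV t k q F ⊓ SLV t k F)) := by
  refine ⟨Gstd_SUV_lt (by omega) ht, fun M hHM hMS => ?_⟩
  rcases hmain M hHM (hMS.trans (inf_le_left.trans GUV_le_DUV)) with h | h
  · left
    exact le_antisymm (le_inf h hMS) hHM
  · right
    exact le_antisymm hMS h

/-- **(A) the frozen conclusion of S5672 from the main theorem of the model** -/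
theorem maximal_of_mainTU {n : ℕ} (hF : Fintype.card F = q ^ 2) (k t : ℕ) (hk : 3 ≤ k) (ht : 2 ≤ t)
    (hex : ¬ (q = 2 ∧ k = 3))
    (e : Fin n ≃ (Fin t → Fin k)) (P : GL (Fin n) F) (f₁ : (Fin k → F) → (Fin k → F) → F)
    (hf₁ : Cfsg.Geo.IsUnitaryFormPow q f₁)
    (hT : Cfsg.Geo.IsTensorPowerFormStructure (fun x : F => x ^ q) (Cfsg.hermForm n F q) f₁ e P)
    (hmain : MainTU t k q F) :
    Cfsg.Geo.IsMaximalIn (Cfsg.GU n F q ⊓ Cfsg.Geo.specialLinear (Fin n) F)
      (Cfsg.Geo.tensorWreathSubgroup k t e P ⊓
        (Cfsg.GU n F q ⊓ Cfsg.Geo.specialLinear (Fin n) F)) :=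
  transportUW hF k t e P f₁ hf₁ hT (model_max hF hk ht hex hmain)

end Cfsg.Agent.Lib.Helper26.TWUT
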