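import Mathlib
import Cfsg.Prelude.Def_GeometricClasses
import Cfsg.Prelude.Def_ClassicalGeometry
import Cfsg.Agent.Lib.Helper26.TWUT
import Cfsg.Agent.Lib.Helper5.TWS.Defs
import Cfsg.Agent.Lib.Helper13.SpTSB
import Cfsg.Agent.Lib.Helper7.SOTT
import Cfsg.Agent.Lib.Helper26.TWUTP

/-!
helper26: S5668 (C7 symplectic, `Sp_k wr S_t < Sp_{k^t}(q)`) part (A) = TRANSPORT.

From the model statement on `Idx t k → F` (tensor power `sfT` of helper25's standard symplectic form `sf`)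
to the frozen conclusion: an arbitrary symplectic form `f₁` on `F^k`, `IsTensorPowerFormStructure id`, `e`, `P`.
`φ := conj R ≫ glReindex e.symm ≫ conj P` with `R = P₁ ⊗ ... ⊗ P₁`, `P₁` a symplectic basis of `f₁`.
Twin of `Helper26.TWUT` (S5672).
-/

set_option autoImplicit false
set_option linter.unusedSectionVars false
set_option linter.unusedVariables false

namespace Cfsg.Agent.Lib.Helper26.TWST
open Matrix Cfsg.Geo Cfsg.Agent.Lib.Helper20.AschLeaf
open Cfsg.Agent.Lib.Helper18.AschA89 (ptens ptens_apply)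
open Cfsg.Agent.Lib.Helper8.TW (Idx Gstd)
open Cfsg.Agent.Lib.Helper25.SpT (sf Jm)
open Cfsg.Agent.Lib.Helper5.TWS (JT sfT GSV)
open Cfsg.Agent.Lib.Helper26.TWUT (ptGL ptGL_val ptGL_mem_G)
open Cfsg.Agent.Lib.Helper7.SOTLeaf (glReindex_mulVec' gl_inv_mulVec'' gl_mulVec_inv'' bil_eq_dot)
open Cfsg.Agent.Lib.Helper15.TensLeaf (tt_isMaximalIn_map)

variable {F : Type*} [Field F]

/-! ### the generic transport isomorphism -/

section gen
variable {ι κ : Type} [Fintype ι] [DecidableEq ι] [Fintype κ] [DecidableEq κ]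

/-- the isomorphism `conj R ≫ glReindex e.symm ≫ conj P` -/
def sphi (e : ι ≃ κ) (P : GL ι F) (R : GL κ F) : GL κ F ≃* GL ι F :=
  (MulAut.conj R).trans ((Cfsg.Geo.glReindex (F := F) e.symm).trans (MulAut.conj P))

/-- the similarity `L x = P ((R x) ∘ e)` -/
def sL (e : ι ≃ κ) (P : GL ι F) (R : GL κ F) (x : κ → F) : ι → F :=
  (P : Matrix ι ι F) *ᵥ ((((R : Matrix κ κ F)) *ᵥ x) ∘ e)

lemma sphi_mulVec (e : ι ≃ κ) (P : GL ι F) (R : GL κ F) (g : GL κ F) (x : κ → F) :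
    ((sphi e P R g : GL ι F) : Matrix ι ι F) *ᵥ sL e P R x =
      sL e P R ((g : Matrix κ κ F) *ᵥ x) := by
  have h1 : sphi e P R g = P * Cfsg.Geo.glReindex (F := F) e.symm (R * g * R⁻¹) * P⁻¹ := rfl
  rw [h1]
  unfold sL
  rw [Units.val_mul, Units.val_mul, ← Matrix.mulVec_mulVec, ← Matrix.mulVec_mulVec,
    gl_inv_mulVec'', glReindex_mulVec', Units.val_mul, Units.val_mul, ← Matrix.mulVec_mulVec,
    ← Matrix.mulVec_mulVec, gl_inv_mulVec'']

lemma sL_surjective (e : ι ≃ κ) (P : GL ι F) (R : GL κ F) (u : ι → F) :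
    ∃ x, sL e P R x = u := by
  refine ⟨((R⁻¹ : GL κ F) : Matrix κ κ F) *ᵥ
    ((((P⁻¹ : GL ι F) : Matrix ι ι F) *ᵥ u) ∘ e.symm), ?_⟩
  unfold sL
  rw [gl_mulVec_inv'']
  have : ((((P⁻¹ : GL ι F) : Matrix ι ι F) *ᵥ u) ∘ e.symm) ∘ e =
      ((P⁻¹ : GL ι F) : Matrix ι ι F) *ᵥ u := by
    ext i
    simp
  rw [this, gl_mulVec_inv'']

/-- `φ` maps the isometry group of `f'` on `F^κ` onto the isometry group of `f` on `F^ι` -/
theorem map_pres (e : ι ≃ κ) (P : GL ι F) (R : GL κ F)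
    (f : (ι → F) → (ι → F) → F) (f' : (κ → F) → (κ → F) → F) (c : F) (hc : c ≠ 0)
    (hL : ∀ x y : κ → F, f (sL e P R x) (sL e P R y) = c * f' x y) :
    (Cfsg.preserving (Units.coeHom (Matrix κ κ F)) f').map (sphi e P R).toMonoidHom =
      Cfsg.preserving (Cfsg.glToMat ι F) f := by
  have key : ∀ g : GL κ F, g ∈ Cfsg.preserving (Units.coeHom (Matrix κ κ F)) f' ↔
      sphi e P R g ∈ Cfsg.preserving (Cfsg.glToMat ι F) f := by
    intro g
    constructor
    · intro hg u v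
      obtain ⟨x, rfl⟩ := sL_surjective e P R u
      obtain ⟨y, rfl⟩ := sL_surjective e P R v
      change f (((sphi e P R g : GL ι F) : Matrix ι ι F) *ᵥ _)
        (((sphi e P R g : GL ι F) : Matrix ι ι F) *ᵥ _) = _
      rw [sphi_mulVec, sphi_mulVec, hL, hL]
      congr 1
      exact hg x y
    · intro hg x y
      have h1 := hg (sL e P R x) (sL e P R y)
      change f (((sphi e P R g : GL ι F) : Matrix ι ι F) *ᵥ _)
        (((sphi e P R g : GL ι F) : Matrix ι ι F) *ᵥ _) = _ at h1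
      rw [sphi_mulVec, sphi_mulVec, hL, hL] at h1
      exact mul_left_cancel₀ hc h1
  ext x
  rw [Subgroup.mem_map]
  constructor
  · rintro ⟨g, hg, rfl⟩
    exact (key g).mp hg
  · intro hx
    refine ⟨(sphi e P R).symm x, ?_, by simp⟩
    rw [key, MulEquiv.apply_symm_apply]
    exact hx

end gen

/-! ### the tensor power of a symplectic basis -/

section pow
variable {t k : ℕ}

/-- the bilinear form of a matrix `M`: `Σ_a Σ_b x_a M_ab y_b` -/
lemma bil_eq_dot' {ι : Type} [Fintype ι] (M : Matrix ι ι F) (x y : ι → F) :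
    ∑ a, ∑ b, x a * M a b * id (y b) = x ⬝ᵥ (M *ᵥ y) := by
  simp only [dotProduct, Matrix.mulVec, Finset.mul_sum, id]
  apply Finset.sum_congr rfl
  intro a _
  apply Finset.sum_congr rfl
  intro b _
  ring

/-- the Gram identity of a symplectic basis: `P₁ᵀ G₁ P₁ = J` -/
lemma gram_sb (f₁ : (Fin k → F) → (Fin k → F) → F) (hf₁ : Cfsg.Geo.IsSymplecticForm f₁)
    (P₁ : GL (Fin k) F)
    (h₁ : ∀ x y : Fin k → F,
      f₁ ((P₁ : Matrix (Fin k) (Fin k) F) *ᵥ x) ((P₁ : Matrix (Fin k) (Fin k) F) *ᵥ y) = sf x y) :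
    (P₁ : Matrix (Fin k) (Fin k) F)ᵀ * Cfsg.Geo.gramMatrix f₁ *
      (P₁ : Matrix (Fin k) (Fin k) F) = (Jm k : Matrix (Fin k) (Fin k) F) := by
  classical
  have key : ∀ x y : Fin k → F,
      x ⬝ᵥ (((P₁ : Matrix (Fin k) (Fin k) F)ᵀ * Cfsg.Geo.gramMatrix f₁ *
        (P₁ : Matrix (Fin k) (Fin k) F)) *ᵥ y) = x ⬝ᵥ ((Jm k : Matrix (Fin k) (Fin k) F) *ᵥ y) := by
    intro x y
    have h := h₁ x y
    rw [bil_eq_dot f₁ hf₁.bilinear] at h
    change _ = sf x y
    rw [← h, ← Matrix.mulVec_mulVec, ← Matrix.mulVec_mulVec, Matrix.dotProduct_mulVec,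
      Matrix.vecMul_transpose]
  ext c d
  have h := key (Pi.single c 1) (Pi.single d 1)
  rw [Matrix.mulVec_single_one, single_one_dotProduct, Matrix.mulVec_single_one,
    single_one_dotProduct] at h
  simpa using h

/-- `JT` is the tensor power of `Jm` -/
lemma JT_eq_ptens : (JT t k F) = ptens k t (fun _ => (Jm k : Matrix (Fin k) (Fin k) F)) := by
  funext a b
  rw [ptens_apply]
  rfl

/-- the tensor-power Gram form in symplectic coordinates -/
theorem gramPow_ptGL (f₁ : (Fin k → F) → (Fin k → F) → F) (hf₁ : Cfsg.Geo.IsSymplecticForm f₁)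
    (P₁ : GL (Fin k) F)
    (h₁ : ∀ x y : Fin k → F,
      f₁ ((P₁ : Matrix (Fin k) (Fin k) F) *ᵥ x) ((P₁ : Matrix (Fin k) (Fin k) F) *ᵥ y) = sf x y)
    (x y : Idx t k → F) :
    ∑ a, ∑ b, ((ptGL (fun _ : Fin t => P₁) : GL (Idx t k) F).val *ᵥ x) a *
        (∏ i, Cfsg.Geo.gramMatrix f₁ (a i) (b i)) *
        id (((ptGL (fun _ : Fin t => P₁) : GL (Idx t k) F).val *ᵥ y) b) = sfT x y := by
  classical
  have h0 : ∑ a, ∑ b, ((ptGL (fun _ : Fin t => P₁) : GL (Idx t k) F).val *ᵥ x) a *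
        (∏ i, Cfsg.Geo.gramMatrix f₁ (a i) (b i)) *
        id (((ptGL (fun _ : Fin t => P₁) : GL (Idx t k) F).val *ᵥ y) b) =
      ∑ a, ∑ b, ((ptGL (fun _ : Fin t => P₁) : GL (Idx t k) F).val *ᵥ x) a *
        (ptens k t (fun _ => Cfsg.Geo.gramMatrix f₁)) a b *
        id (((ptGL (fun _ : Fin t => P₁) : GL (Idx t k) F).val *ᵥ y) b) := by
    apply Finset.sum_congr rfl
    intro a _
    apply Finset.sum_congr rfl
    intro b _
    rw [ptens_apply]
  rw [h0, bil_eq_dot', Matrix.mulVec_mulVec,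
    ← Matrix.vecMul_transpose, ← Matrix.dotProduct_mulVec, Matrix.mulVec_mulVec]
  have hK : ((ptGL (fun _ : Fin t => P₁) : GL (Idx t k) F).val)ᵀ *
      (ptens k t (fun _ => Cfsg.Geo.gramMatrix f₁) *
        ((ptGL (fun _ : Fin t => P₁) : GL (Idx t k) F).val)) = JT t k F := by
    change (ptens k t (fun _ : Fin t => (P₁ : Matrix (Fin k) (Fin k) F)))ᵀ *
      (ptens k t (fun _ => Cfsg.Geo.gramMatrix f₁) *
        (ptens k t (fun _ : Fin t => (P₁ : Matrix (Fin k) (Fin k) F)))) = JT t k F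
    rw [ptens_transpose, ptens_mul, ptens_mul, JT_eq_ptens]
    congr 1
    funext i
    rw [← Matrix.mul_assoc]
    exact gram_sb f₁ hf₁ P₁ h₁
  rw [hK]
  rfl

end pow

/-! ### the transporting isomorphism -/

section tr
variable {t k : ℕ}

/-- the transporting isomorphism and its two images -/
theorem exists_transportS {m : ℕ} (e : (Fin m ⊕ Fin m) ≃ (Fin t → Fin k))
    (P : GL (Fin m ⊕ Fin m) F) (f₁ : (Fin k → F) → (Fin k → F) → F)
    (hf₁ : Cfsg.Geo.IsSymplecticForm f₁)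
    (hT : Cfsg.Geo.IsTensorPowerFormStructure id (Cfsg.sympForm m F) f₁ e P) :
    Even k ∧ ∃ φ : GL (Idx t k) F ≃* GL (Fin m ⊕ Fin m) F,
      (Gstd t k F).map φ.toMonoidHom = Cfsg.Geo.tensorWreathSubgroup k t e P ∧
      (GSV t k F).map φ.toMonoidHom = Cfsg.spGL m F := by
  obtain ⟨hev, P₁, hP₁⟩ := Cfsg.Agent.Lib.Helper13.SpTLeaf.exists_symp_basis f₁ hf₁
  refine ⟨hev, ?_⟩
  obtain ⟨c, hc, hTc⟩ := hT
  set R : GL (Idx t k) F := ptGL (fun _ : Fin t => P₁) with hR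
  have hRG : R ∈ Gstd t k F := ptGL_mem_G _
  have hL : ∀ x y : Idx t k → F,
      Cfsg.sympForm m F (sL e P R x) (sL e P R y) = c * sfT x y := by
    intro x y
    unfold sL
    rw [hTc]
    congr 1
    exact gramPow_ptGL f₁ hf₁ P₁ hP₁ x y
  refine ⟨sphi e P R, ?_, ?_⟩
  · have h1 : (Gstd t k F).map (MulAut.conj R).toMonoidHom = Gstd t k F := by
      ext x
      rw [Subgroup.mem_map]
      constructor
      · rintro ⟨y, hy, rfl⟩
        change R * y * R⁻¹ ∈ Gstd t k F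
        exact (Gstd t k F).mul_mem ((Gstd t k F).mul_mem hRG hy) ((Gstd t k F).inv_mem hRG)
      · intro hx
        refine ⟨R⁻¹ * x * R, (Gstd t k F).mul_mem ((Gstd t k F).mul_mem
          ((Gstd t k F).inv_mem hRG) hx) hRG, ?_⟩
        change R * (R⁻¹ * x * R) * R⁻¹ = x
        group
    have h2 : (Gstd t k F).map (sphi e P R).toMonoidHom =
        ((Gstd t k F).map (MulAut.conj R).toMonoidHom).map
          ((Cfsg.Geo.glReindex (F := F) e.symm).trans (MulAut.conj P)).toMonoidHom := by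
      rw [Subgroup.map_map]
      rfl
    rw [h2, h1]
    unfold Cfsg.Geo.tensorWreathSubgroup
    rw [Subgroup.map_map]
    rfl
  · exact map_pres e P R (Cfsg.sympForm m F) sfT c hc hL

end tr

end Cfsg.Agent.Lib.Helper26.TWST
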