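import Mathlib
import Cfsg.Agent.Lib.Helper5.TWS.Defs
import Cfsg.Agent.Lib.Helper8.TW.Defs
import Cfsg.Agent.Lib.Helper23.TWG1
import Cfsg.Agent.Lib.Helper6.TWQ1
import Cfsg.Agent.Lib.Helper20.AschA89F2J
import Cfsg.Agent.Lib.Helper26.TWST

/-!
helper26: S5668 Stage II-B toolkit leaf T2 `slotGL_mem_HS` (no parity hypothesis on `k`): `α ∈ Sp(A)` at slot `i` lies in `H = G ∩ Isom(sfT)`.
Matrix proof: `(slot i α)ᵀ JT (slot i α) = ⊗ (…αᵀ J α…) = JT`.
-/

set_option autoImplicit false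
set_option linter.unusedSectionVars false
set_option linter.unusedVariables false

namespace Cfsg.Agent.Lib.Helper26.TWSIILeaf
open Matrix Cfsg.Geo Cfsg.Agent.Lib.Helper18.AschA89 Cfsg.Agent.Lib.Helper8.TW Cfsg.Agent.Lib.Helper5.TWS
open Cfsg.Agent.Lib.Helper25.SpT (sf Jm sfv)

variable {F : Type*} [Field F] [Fintype F] {t k : ℕ}

/-- the Gram identity of an isometry of `sf`: `αᵀ J α = J` -/
lemma gram_of_mem_GSA (α : GL (Fin k) F) (hα : α ∈ GSA k F) :
    (α : Matrix (Fin k) (Fin k) F)ᵀ * ((Jm k : Matrix (Fin k) (Fin k) F) *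
      (α : Matrix (Fin k) (Fin k) F)) = (Jm k : Matrix (Fin k) (Fin k) F) := by
  classical
  have key : ∀ x y : Fin k → F,
      x ⬝ᵥ (((α : Matrix (Fin k) (Fin k) F)ᵀ * ((Jm k : Matrix (Fin k) (Fin k) F) *
        (α : Matrix (Fin k) (Fin k) F))) *ᵥ y) = x ⬝ᵥ ((Jm k : Matrix (Fin k) (Fin k) F) *ᵥ y) := by
    intro x y
    have h := (mem_GSA.1 hα) x y
    change _ = sf x y
    rw [← h]
    unfold sf
    rw [← Matrix.mulVec_mulVec, ← Matrix.mulVec_mulVec, Matrix.dotProduct_mulVec,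
      Matrix.vecMul_transpose]
  ext c d
  have h := key (Pi.single c 1) (Pi.single d 1)
  rw [Matrix.mulVec_single_one, single_one_dotProduct, Matrix.mulVec_single_one,
    single_one_dotProduct] at h
  simpa using h

/-- a unit whose matrix `M` satisfies `Mᵀ JT M = JT` is an isometry of `sfT` -/
lemma mem_GSV_of_gram (g : GL (Idx t k) F)
    (h : (g : Matrix (Idx t k) (Idx t k) F)ᵀ * (JT t k F * (g : Matrix (Idx t k) (Idx t k) F)) = JT t k F) :
    g ∈ GSV t k F := by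
  rw [mem_GSV]
  intro u v
  unfold mv sfT
  rw [Matrix.mulVec_mulVec, ← Matrix.vecMul_transpose, ← Matrix.dotProduct_mulVec, Matrix.mulVec_mulVec, h]

/-- T2 -/
theorem slotGL_mem_HS (i : Fin t) (α : GL (Fin k) F) (hα : α ∈ GSA k F) : slotGL i α ∈ HS t k F := by
  classical
  refine ⟨Cfsg.Agent.Lib.Helper23.TWLeaf.slotGL_mem_G i α, ?_⟩
  apply mem_GSV_of_gram
  rw [slotGL_val, Cfsg.Agent.Lib.Helper6.TWQ.slot_eq_ptens, Cfsg.Agent.Lib.Helper20.AschLeaf.ptens_transpose,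
    Cfsg.Agent.Lib.Helper26.TWST.JT_eq_ptens, Cfsg.Agent.Lib.Helper20.AschLeaf.ptens_mul,
    Cfsg.Agent.Lib.Helper20.AschLeaf.ptens_mul]
  congr 1
  funext j
  by_cases hj : j = i
  · subst hj
    simp only [Function.update_self]
    exact gram_of_mem_GSA α hα
  · simp only [Function.update_of_ne hj, Matrix.transpose_one, Matrix.one_mul, Matrix.mul_one]

end Cfsg.Agent.Lib.Helper26.TWSIILeaf
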