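import Mathlib
import Cfsg.Agent.Lib.Helper5.TWS.Defs
import Cfsg.Agent.Lib.Helper8.TW.Defs
import Cfsg.Agent.Lib.Helper25.SpTK
import Cfsg.Agent.Lib.Helper12.TWIIBS
import Cfsg.Agent.Lib.Helper20.TWS3Perm
import Cfsg.Agent.Lib.Helper9.TWST
import Cfsg.Agent.Lib.Helper26.TWSIIT2

/-!
helper26: S5668 Stage II-B toolkit leaves T6 `exists_SpA_map` (Sp(A) transitive on non-zero vectors: one or two symplectic transvections),
T7 `exists_s_HS` (`H` transitive on fibres), T10 `exists_partner`, T12 `root_mem_HS`, T13 `exists_A0` (exact signatures of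
`notes/S5668_II_leaves.lean`).
-/

set_option autoImplicit false
set_option linter.unusedSectionVars false
set_option linter.unusedVariables false

namespace Cfsg.Agent.Lib.Helper26.TWSIILeaf
open Matrix Cfsg.Geo Cfsg.Agent.Lib.Helper18.AschA89 Cfsg.Agent.Lib.Helper20.AschLeaf Cfsg.Agent.Lib.Helper8.TW Cfsg.Agent.Lib.Helper5.TWS
open Cfsg.Agent.Lib.Helper25.SpT (sf Jm sfv stv stv_mulVec stv_sf sf_sub_right sf_self sf_skew sf_add_left sf_add_right
  exists_sf_ne_zero sf_smul_right sf_smul_left sf_sub_left)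

variable {F : Type*} [Field F] [Fintype F] {t k : ℕ}

/-- symplectic transvections are isometries -/
lemma stv_mem_GSA (y : Fin k → F) (c : F) : (stv y c : GL (Fin k) F) ∈ GSA k F := by
  rw [mem_GSA]
  intro a b
  exact stv_sf y c a b

/-- one symplectic transvection maps `u` to `y` when `sf u y ≠ 0` -/
lemma stv_map_one (u y : Fin k → F) (h : sf u y ≠ 0) :
    ((stv (y - u) (sf u y)⁻¹ : GL (Fin k) F) : Matrix (Fin k) (Fin k) F) *ᵥ u = y := by
  rw [stv_mulVec, sf_sub_right, sf_self, sub_zero, inv_mul_cancel₀ h, one_smul]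
  abel

/-- T6 -/
theorem exists_SpA_map (hk : Even k) (y y' : Fin k → F) (hy0 : y ≠ 0) (hy'0 : y' ≠ 0) :
    ∃ α : GL (Fin k) F, α ∈ GSA k F ∧ (α : Matrix (Fin k) (Fin k) F) *ᵥ y = y' := by
  by_cases h0 : sf y y' ≠ 0
  · exact ⟨_, stv_mem_GSA _ _, stv_map_one y y' h0⟩
  · rw [not_not] at h0
    obtain ⟨z, hz1, hz2⟩ : ∃ z : Fin k → F, sf y z ≠ 0 ∧ sf z y' ≠ 0 := by
      obtain ⟨t1, ht1⟩ := exists_sf_ne_zero hk hy0
      obtain ⟨t2, ht2⟩ := exists_sf_ne_zero hk hy'0
      by_cases h1 : sf t1 y' ≠ 0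
      · exact ⟨t1, ht1, h1⟩
      · rw [not_not] at h1
        by_cases h2 : sf y t2 ≠ 0
        · refine ⟨t2, h2, ?_⟩
          rw [sf_skew]
          exact neg_ne_zero.2 ht2
        · rw [not_not] at h2
          refine ⟨t1 + t2, ?_, ?_⟩
          · rw [sf_add_right, h2, add_zero]
            exact ht1
          · rw [sf_add_left, h1, zero_add, sf_skew]
            exact neg_ne_zero.2 ht2
    refine ⟨stv (y' - z) (sf z y')⁻¹ * stv (z - y) (sf y z)⁻¹,
      (GSA k F).mul_mem (stv_mem_GSA _ _) (stv_mem_GSA _ _), ?_⟩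
    rw [Units.val_mul, ← Matrix.mulVec_mulVec, stv_map_one _ z hz1, stv_map_one _ y' hz2]

/-- T7 -/
theorem exists_s_HS (hk : Even k) (i i' : Fin t) (y y' : Fin k → F) (hy0 : y ≠ 0) (hy'0 : y' ≠ 0) :
    ∃ s ∈ HS t k F, img s (Wf i y) = Wf i' y' := by
  obtain ⟨α, hα, hαy⟩ := exists_SpA_map hk y y' hy0 hy'0
  refine ⟨slotGL i' α * wrFpermGL (F := F) k t (Equiv.swap i i'),
    Subgroup.mul_mem _ (slotGL_mem_HS i' α hα) (Cfsg.Agent.Lib.Helper20.TWS3.wrFpermGL_mem_HS _), ?_⟩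
  rw [Cfsg.Agent.Lib.Helper12.TWIIBLeaf.img_mul', Cfsg.Agent.Lib.Helper12.TWIIBLeaf.img_fperm_Wf,
    Equiv.swap_apply_left, Cfsg.Agent.Lib.Helper12.TWIIBLeaf.img_slot_Wf, hαy]

/-- T10 -/
theorem exists_partner (hk : Even k) (y : Fin k → F) (hy0 : y ≠ 0) : ∃ y' : Fin k → F, sf y y' = 1 := by
  obtain ⟨z, hz⟩ := exists_sf_ne_zero hk hy0
  refine ⟨(sf y z)⁻¹ • z, ?_⟩
  rw [sf_smul_right, inv_mul_cancel₀ hz]

/-- T12 -/
theorem root_mem_HS (hk : Even k) (i : Fin t) (y : Fin k → F) (hy0 : y ≠ 0) (c : F) :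
    (srd hk i y hy0 : RD t k F).elt c ∈ HS t k F :=
  Cfsg.Agent.Lib.Helper9.TWST.elt_mem_HS hk (srd_RS hk i y hy0) c

/-- T13 -/
theorem exists_A0 (hk : Even k) (hk4 : 4 ≤ k) (y y' : Fin k → F) (hyy' : sf y y' = 1) :
    ∃ v : Fin k → F, v ≠ 0 ∧ sf v y = 0 ∧ sf v y' = 0 := by
  classical
  have hlt : Submodule.span F (({y, y'} : Finset (Fin k → F)) : Set (Fin k → F)) < ⊤ := by
    rw [lt_top_iff_ne_top]
    intro h
    have h1 := finrank_span_finset_le_card (R := F) ({y, y'} : Finset (Fin k → F))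
    unfold Set.finrank at h1
    rw [h, finrank_top, Module.finrank_fin_fun] at h1
    have h2 := Finset.card_le_two (a := y) (b := y')
    omega
  obtain ⟨a, -, ha⟩ := SetLike.exists_of_lt hlt
  have hy'y : sf y' y = -1 := by rw [sf_skew, hyy']
  refine ⟨a - sf a y' • y + sf a y • y', ?_, ?_, ?_⟩
  · intro h0
    apply ha
    have : a = sf a y' • y - sf a y • y' := by
      have := h0
      rw [← sub_eq_zero]
      rw [← this]
      abel
    rw [this]
    apply Submodule.sub_mem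
    · apply Submodule.smul_mem
      apply Submodule.subset_span
      simp
    · apply Submodule.smul_mem
      apply Submodule.subset_span
      simp
  · rw [sf_add_left, sf_sub_left, sf_smul_left, sf_smul_left, sf_self, hy'y]
    ring
  · rw [sf_add_left, sf_sub_left, sf_smul_left, sf_smul_left, sf_self, hyy']
    ring

end Cfsg.Agent.Lib.Helper26.TWSIILeaf
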