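import Mathlib
import Cfsg.Prelude.Def_Classical
import Cfsg.Prelude.Def_ClassicalGeometry
import Cfsg.Prelude.Def_GeometricClasses
import Cfsg.Agent.Lib.Helper5.SUMax
import Cfsg.Agent.Lib.Helper22.C3LDefs
import Cfsg.Agent.Lib.Helper22.C3LTool
import Cfsg.Agent.Lib.Helper16.C3uDefs

/-!
helper26: unitary C3 (cubic) market (helper16, `notes/C3u_leaves.lean`), packet W1:
`exists_iso`, `exists_partner`, `exists_iso_not_perp` (Witt-type facts for the hermitian `E`-space `(V, fE)`).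
Self-contained (own copies `st_ne_refl26`, `fE_nondeg26` of F1 / W0).  Generic tools: `exists_iso_in26`,
`exists_partner_in26` (inside an `E`-stable `F`-subspace `Z`), `exists_perp1_26`, `exists_perp3_26`.
-/

set_option autoImplicit false
set_option linter.unusedSectionVars false
set_option linter.unusedVariables false
set_option linter.style.haveILetI false

namespace Cfsg.Agent.Lib.Helper26.C3uLeaf
open Cfsg Matrix Module Cfsg.Agent.Lib.Helper5.SpMax Cfsg.Agent.Lib.Helper5.SUMax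
  Cfsg.Agent.Lib.Helper22.C3L Cfsg.Agent.Lib.Helper16.C3u

universe u
variable {F : Type u} [Field F] [Fintype F] {n q : ℕ} {E : Type u} [Field E] [Algebra F E]

local notation "𝕍" => (Fin n → F)
local notation "𝕄" => Matrix (Fin n) (Fin n) F
local notation "ℍ" => (Cfsg.GU n F q ⊓ Cfsg.Geo.specialLinear (Fin n) F)

/-! ## basic facts (own copies of F1, W0) -/

theorem one_lt_q26 (hF : Fintype.card F = q ^ 2) : 1 < q := by
  have h1 : 1 < Fintype.card F := Fintype.one_lt_card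
  rw [hF] at h1
  by_contra h
  have h' : q ≤ 1 := not_lt.mp h
  interval_cases q <;> simp at h1

/-- F1 (own copy): `st` is not the identity -/
theorem st_ne_refl26 (S : KU n q F E) (hF : Fintype.card F = q ^ 2) : S.st ≠ RingEquiv.refl E := by
  classical
  intro hst
  have hq := one_lt_q26 hF
  have hall : ∀ c : F, c ^ q = c := by
    intro c
    have h := S.st_alg c
    rw [hst] at h
    exact ((algebraMap F E).injective h).symm
  set P : Polynomial F := Polynomial.X ^ q - Polynomial.X with hP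
  have hP0 : P ≠ 0 := FiniteField.X_pow_card_sub_X_ne_zero F hq
  have hdeg : P.natDegree = q := FiniteField.X_pow_card_sub_X_natDegree_eq F hq
  have hsub : (Finset.univ : Finset F) ⊆ P.roots.toFinset := by
    intro y _
    rw [Multiset.mem_toFinset, Polynomial.mem_roots hP0, Polynomial.IsRoot, hP, Polynomial.eval_sub,
      Polynomial.eval_pow, Polynomial.eval_X, hall, sub_self]
  have h1 : Fintype.card F ≤ q := by
    calc Fintype.card F = (Finset.univ : Finset F).card := Finset.card_univ.symm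
      _ ≤ P.roots.toFinset.card := Finset.card_le_card hsub
      _ ≤ Multiset.card P.roots := Multiset.toFinset_card_le _
      _ ≤ P.natDegree := Polynomial.card_roots' P
      _ = q := hdeg
  rw [hF] at h1
  nlinarith

/-- W0 (own copy): `fE` is non-degenerate -/
theorem fE_nondeg26 (S : KU n q F E) (hF : Fintype.card F = q ^ 2) {x : 𝕍} (hx : x ≠ 0) :
    ∃ y, S.fE x y ≠ 0 := by
  classical
  have hq := one_lt_q26 hF
  obtain ⟨i, hi⟩ : ∃ i, x i ≠ 0 := by
    by_contra h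
    apply hx
    funext i
    by_contra hi
    exact h ⟨i, hi⟩
  refine ⟨Pi.single i 1, fun h0 => hi ?_⟩
  have h1 := S.form_eq' x (Pi.single i 1)
  rw [h0, map_zero] at h1
  unfold Cfsg.hermForm at h1
  rw [Finset.sum_eq_single i] at h1
  · simpa using h1
  · intro j _ hji
    rw [Pi.single_eq_of_ne hji, zero_pow (by omega), mul_zero]
  · intro h; exact absurd (Finset.mem_univ i) h

/-- `fE y x = 0 ↔ fE x y = 0` -/
theorem fE_symm_zero26 (S : KU n q F E) {x y : 𝕍} (h : S.fE x y = 0) : S.fE y x = 0 := by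
  rw [S.herm x y, h, map_zero]

/-! ## dimension counts -/

theorem exists_perp1_26 (S : KU n q F E) [FiniteDimensional F E] (h : finrank F E < n) (x : 𝕍) :
    ∃ y : 𝕍, y ≠ 0 ∧ S.fE y x = 0 := by
  have hlt : finrank F E < finrank F 𝕍 := by rw [Module.finrank_fin_fun]; exact h
  have hk := LinearMap.ker_ne_bot_of_finrank_lt (f := S.phi x) hlt
  obtain ⟨y, hy, hy0⟩ := (Submodule.ne_bot_iff _).mp hk
  exact ⟨y, hy0, LinearMap.mem_ker.mp hy⟩

theorem exists_perp3_26 (S : KU n q F E) [FiniteDimensional F E] (h : 3 * finrank F E < n)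
    (x₁ x₂ x₃ : 𝕍) :
    ∃ y : 𝕍, y ≠ 0 ∧ S.fE y x₁ = 0 ∧ S.fE y x₂ = 0 ∧ S.fE y x₃ = 0 := by
  have hlt : finrank F (E × E × E) < finrank F 𝕍 := by
    rw [Module.finrank_fin_fun, Module.finrank_prod, Module.finrank_prod]
    omega
  have hk := LinearMap.ker_ne_bot_of_finrank_lt
    (f := (S.phi x₁).prod ((S.phi x₂).prod (S.phi x₃))) hlt
  obtain ⟨y, hy, hy0⟩ := (Submodule.ne_bot_iff _).mp hk
  have hy' : ((S.phi x₁) y, ((S.phi x₂) y, (S.phi x₃) y)) = 0 := LinearMap.mem_ker.mp hy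
  rw [Prod.mk_eq_zero, Prod.mk_eq_zero] at hy'
  exact ⟨y, hy0, hy'.1, hy'.2.1, hy'.2.2⟩

/-! ## isotropic vectors and hyperbolic partners inside an `E`-stable subspace -/

/-- an isotropic vector inside an `E`-stable subspace in which every `x^⊥` is non-zero -/
theorem exists_iso_in26 (S : KU n q F E) (hF : Fintype.card F = q ^ 2) [FiniteDimensional F E]
    (Z : Submodule F 𝕍) (hZ : ∀ (e : E) (z : 𝕍), z ∈ Z → act S.ρ e z ∈ Z)
    (hdim : ∀ x : 𝕍, ∃ y ∈ Z, y ≠ 0 ∧ S.fE y x = 0) :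
    ∃ v ∈ Z, v ≠ 0 ∧ S.fE v v = 0 := by
  classical
  have hinv := S.st_st
  have hne := st_ne_refl26 S hF
  haveI : Finite E := Module.finite_of_finite F
  letI : Fintype E := Fintype.ofFinite E
  obtain ⟨x, hxZ, hx0, -⟩ := hdim 0
  by_cases hxx : S.fE x x = 0
  · exact ⟨x, hxZ, hx0, hxx⟩
  obtain ⟨y, hyZ, hy0, hyx⟩ := hdim x
  by_cases hyy : S.fE y y = 0
  · exact ⟨y, hyZ, hy0, hyy⟩
  have hfix : S.st (-(S.fE x x) / S.fE y y) = -(S.fE x x) / S.fE y y := by
    rw [map_div₀, map_neg, S.st_fE_self, S.st_fE_self]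
  have hr0 : -(S.fE x x) / S.fE y y ≠ 0 := div_ne_zero (neg_ne_zero.mpr hxx) hyy
  obtain ⟨z, hz⟩ := Cfsg.Agent.Lib.Helper5.UForm.norm_surj hinv hne _ hr0 hfix
  refine ⟨x + act S.ρ z y, Z.add_mem hxZ (hZ z y hyZ), ?_, ?_⟩
  · intro h0
    have h1 : S.fE (x + act S.ρ z y) x = S.fE x x := by
      rw [S.add_left, S.fE_act_left, hyx, mul_zero, add_zero]
    rw [h0, S.fE_zero_left] at h1
    exact hxx h1.symm
  · have hxy : S.fE x y = 0 := fE_symm_zero26 S hyx
    rw [S.add_left, S.fE_add_right, S.fE_add_right, S.fE_act_left, S.fE_act_left, S.fE_act_right,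
      S.fE_act_right, hyx, hxy]
    have h2 : z * (S.st z * S.fE y y) = - S.fE x x := by
      rw [← mul_assoc, hz]
      field_simp
    rw [h2]
    ring

/-- a hyperbolic partner inside an `E`-stable subspace -/
theorem exists_partner_in26 (S : KU n q F E) (hF : Fintype.card F = q ^ 2)
    (Z : Submodule F 𝕍) (hZ : ∀ (e : E) (z : 𝕍), z ∈ Z → act S.ρ e z ∈ Z) {v c : 𝕍}
    (hvZ : v ∈ Z) (hcZ : c ∈ Z) (hv : S.fE v v = 0) (hvc : S.fE v c ≠ 0) :
    ∃ w ∈ Z, S.fE w w = 0 ∧ S.fE v w = 1 := by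
  have hinv := S.st_st
  have hne := st_ne_refl26 S hF
  obtain ⟨y₁, hy₁⟩ : ∃ y₁ : 𝕍, y₁ = act S.ρ (S.st (S.fE v c)⁻¹) c := ⟨_, rfl⟩
  have h1 : S.fE v y₁ = 1 := by
    rw [hy₁, S.fE_act_right, hinv, inv_mul_cancel₀ hvc]
  have hy₁Z : y₁ ∈ Z := by rw [hy₁]; exact hZ _ _ hcZ
  have hfix : S.st (-(S.fE y₁ y₁)) = -(S.fE y₁ y₁) := by rw [map_neg, S.st_fE_self]
  obtain ⟨α, hα⟩ := Cfsg.Agent.Lib.Helper5.UForm.tr_surj hinv hne _ hfix
  refine ⟨y₁ + act S.ρ α v, Z.add_mem hy₁Z (hZ _ _ hvZ), ?_, ?_⟩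
  · have h1' : S.fE y₁ v = 1 := by rw [S.herm v y₁, h1, map_one]
    rw [S.add_left, S.fE_add_right, S.fE_add_right, S.fE_act_left, S.fE_act_left, S.fE_act_right,
      S.fE_act_right, hv, h1, h1']
    linear_combination hα
  · rw [S.fE_add_right, S.fE_act_right, hv, mul_zero, add_zero, h1]

/-! ## the leaves -/

/-- W1: there are non-zero isotropic vectors -/
theorem exists_iso (S : KU n q F E) (hF : Fintype.card F = q ^ 2) [FiniteDimensional F E]
    (hn : 2 * finrank F E ≤ n) : ∃ v : 𝕍, v ≠ 0 ∧ S.fE v v = 0 := by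
  have hpos : 0 < finrank F E := Module.finrank_pos
  obtain ⟨v, -, hv0, hv⟩ := exists_iso_in26 S hF ⊤ (fun _ _ _ => Submodule.mem_top) (fun x => by
    obtain ⟨y, hy0, hy⟩ := exists_perp1_26 S (by omega) x
    exact ⟨y, Submodule.mem_top, hy0, hy⟩)
  exact ⟨v, hv0, hv⟩

/-- W2: hyperbolic partner -/
theorem exists_partner (S : KU n q F E) (hF : Fintype.card F = q ^ 2) {v : 𝕍} (hv0 : v ≠ 0)
    (hv : S.fE v v = 0) : ∃ w : 𝕍, S.fE w w = 0 ∧ S.fE v w = 1 := by
  obtain ⟨c, hc⟩ := fE_nondeg26 S hF hv0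
  obtain ⟨w, -, hw, hvw⟩ := exists_partner_in26 S hF ⊤ (fun _ _ _ => Submodule.mem_top)
    (Submodule.mem_top (x := v)) (Submodule.mem_top (x := c)) hv hc
  exact ⟨w, hw, hvw⟩

/-- the projection of `y₀` into `{v, w}^⊥` for a hyperbolic pair `(v, w)` -/
theorem proj_pair26 (S : KU n q F E) {v w : 𝕍} (hv : S.fE v v = 0) (hw : S.fE w w = 0)
    (hvw : S.fE v w = 1) (y₀ : 𝕍) :
    S.fE (y₀ - act S.ρ (S.fE y₀ w) v - act S.ρ (S.fE y₀ v) w) v = 0 ∧
      S.fE (y₀ - act S.ρ (S.fE y₀ w) v - act S.ρ (S.fE y₀ v) w) w = 0 := by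
  have hwv : S.fE w v = 1 := by rw [S.herm v w, hvw, map_one]
  constructor
  · rw [S.fE_sub_left, S.fE_sub_left, S.fE_act_left, S.fE_act_left, hv, hwv]
    ring
  · rw [S.fE_sub_left, S.fE_sub_left, S.fE_act_left, S.fE_act_left, hw, hvw]
    ring

/-- `y + α v + w` is isotropic for a hyperbolic pair `(v, w)`, `y ⊥ v, w`, `α + st α = - fE y y` -/
theorem iso_of_pair26 (S : KU n q F E) {v w y : 𝕍} (hv : S.fE v v = 0) (hw : S.fE w w = 0)
    (hvw : S.fE v w = 1) (hyv : S.fE y v = 0) (hyw : S.fE y w = 0) {α : E}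
    (hα : α + S.st α = -(S.fE y y)) :
    S.fE (y + act S.ρ α v + w) (y + act S.ρ α v + w) = 0 := by
  have hwv : S.fE w v = 1 := by rw [S.herm v w, hvw, map_one]
  have hvy : S.fE v y = 0 := fE_symm_zero26 S hyv
  have hwy : S.fE w y = 0 := fE_symm_zero26 S hyw
  rw [S.add_left, S.add_left, S.fE_add_right, S.fE_add_right, S.fE_add_right, S.fE_add_right,
    S.fE_add_right, S.fE_add_right, S.fE_act_left, S.fE_act_left, S.fE_act_left, S.fE_act_right,
    S.fE_act_right, S.fE_act_right, hv, hw, hvw, hwv, hyv, hyw, hvy, hwy]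
  linear_combination hα

/-- W3: the isotropic vectors span: no non-zero vector is orthogonal to all of them -/
theorem exists_iso_not_perp (S : KU n q F E) (hF : Fintype.card F = q ^ 2)
    [FiniteDimensional F E] (hn : 2 * finrank F E ≤ n) {x : 𝕍} (hx : x ≠ 0) :
    ∃ a : 𝕍, S.fE a a = 0 ∧ S.fE x a ≠ 0 := by
  have hinv := S.st_st
  have hne := st_ne_refl26 S hF
  obtain ⟨v, hv0, hv⟩ := exists_iso S hF hn
  obtain ⟨w, hw, hvw⟩ := exists_partner S hF hv0 hv
  by_cases hxv : S.fE x v = 0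
  swap
  · exact ⟨v, hv, hxv⟩
  by_cases hxw : S.fE x w = 0
  swap
  · exact ⟨w, hw, hxw⟩
  obtain ⟨y₀, hy₀⟩ := fE_nondeg26 S hF hx
  obtain ⟨hyv, hyw⟩ := proj_pair26 S hv hw hvw y₀
  obtain ⟨y, hy⟩ : ∃ y : 𝕍, y = y₀ - act S.ρ (S.fE y₀ w) v - act S.ρ (S.fE y₀ v) w := ⟨_, rfl⟩
  rw [← hy] at hyv hyw
  have hxy : S.fE x y = S.fE x y₀ := by
    rw [hy, S.fE_sub_right, S.fE_sub_right, S.fE_act_right, S.fE_act_right, hxv, hxw]
    ring
  have hfix : S.st (-(S.fE y y)) = -(S.fE y y) := by rw [map_neg, S.st_fE_self]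
  obtain ⟨α, hα⟩ := Cfsg.Agent.Lib.Helper5.UForm.tr_surj hinv hne _ hfix
  refine ⟨y + act S.ρ α v + w, iso_of_pair26 S hv hw hvw hyv hyw hα, ?_⟩
  rw [S.fE_add_right, S.fE_add_right, S.fE_act_right, hxv, hxw, hxy]
  simpa using hy₀

end Cfsg.Agent.Lib.Helper26.C3uLeaf
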