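import Cfsg.Agent.Lib.Helper26.C3uW1

/-!
helper26: unitary C3 (cubic) market (helper16, `notes/C3u_leaves.lean`), leaf W4 `exists_iso_sep`:
an isotropic vector orthogonal to `w` but not to `w' ∉ E w` (`d ≥ 4`).
Tools: `mem_line_of_perp26` (`(w^⊥)^⊥ = E w`), `exists_hyp_pair_perp26` (a hyperbolic pair inside `w^⊥`).
-/

set_option autoImplicit false
set_option linter.unusedSectionVars false
set_option linter.unusedVariables false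
set_option linter.style.haveILetI false

namespace Cfsg.Agent.Lib.Helper26.C3uLeaf
open Cfsg Matrix Module Cfsg.Agent.Lib.Helper5.SpMax Cfsg.Agent.Lib.Helper5.SUMax
  Cfsg.Agent.Lib.Helper22.C3L Cfsg.Agent.Lib.Helper16.C3u

universe u
variable {F : Type u} [Field F] [Fintype F] {n q : ℕ} {E : Type u} [Field E] [Algebra F E]

local notation "𝕍" => (Fin n → F)
local notation "𝕄" => Matrix (Fin n) (Fin n) F
local notation "ℍ" => (Cfsg.GU n F q ⊓ Cfsg.Geo.specialLinear (Fin n) F)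

/-- a vector orthogonal to everything is zero -/
theorem eq_zero_of_perp_all26 (S : KU n q F E) (hF : Fintype.card F = q ^ 2) {x : 𝕍}
    (h : ∀ a, S.fE a x = 0) : x = 0 := by
  by_contra hx
  obtain ⟨y, hy⟩ := fE_nondeg26 S hF hx
  exact hy (fE_symm_zero26 S (h y))

/-- `(w^⊥)^⊥ = E w` -/
theorem mem_line_of_perp26 (S : KU n q F E) (hF : Fintype.card F = q ^ 2) {w w' : 𝕍} (hw : w ≠ 0)
    (h : ∀ a, S.fE a w = 0 → S.fE a w' = 0) : w' ∈ line S.ρ w := by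
  obtain ⟨y₀, hy₀⟩ := fE_nondeg26 S hF hw
  have hy₀' : S.fE y₀ w ≠ 0 := fun h0 => hy₀ (fE_symm_zero26 S h0)
  obtain ⟨y₁, hy₁⟩ : ∃ y₁ : 𝕍, y₁ = act S.ρ (S.fE y₀ w)⁻¹ y₀ := ⟨_, rfl⟩
  have h1 : S.fE y₁ w = 1 := by rw [hy₁, S.fE_act_left, inv_mul_cancel₀ hy₀']
  have hkey : ∀ a, S.fE a w' = S.fE a w * S.fE y₁ w' := by
    intro a
    have h0 : S.fE (a - act S.ρ (S.fE a w) y₁) w = 0 := by
      rw [S.fE_sub_left, S.fE_act_left, h1, mul_one, sub_self]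
    have h2 := h _ h0
    rw [S.fE_sub_left, S.fE_act_left] at h2
    exact sub_eq_zero.mp h2
  have hz : w' - act S.ρ (S.st (S.fE y₁ w')) w = 0 := by
    apply eq_zero_of_perp_all26 S hF
    intro a
    rw [S.fE_sub_right, S.fE_act_right, S.st_st, hkey a]
    ring
  rw [mem_line]
  exact ⟨S.st (S.fE y₁ w'), (sub_eq_zero.mp hz).symm⟩

/-- a hyperbolic pair inside `w^⊥` (`d ≥ 4`) -/
theorem exists_hyp_pair_perp26 (S : KU n q F E) (hF : Fintype.card F = q ^ 2)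
    [FiniteDimensional F E] (hn : 4 * finrank F E ≤ n) {w : 𝕍} (hw : w ≠ 0) :
    ∃ v₁ v₂ : 𝕍, S.fE v₁ w = 0 ∧ S.fE v₂ w = 0 ∧ S.fE v₁ v₁ = 0 ∧ S.fE v₂ v₂ = 0 ∧
      S.fE v₁ v₂ = 1 := by
  have hpos : 0 < finrank F E := Module.finrank_pos
  -- the auxiliary vector `u`
  obtain ⟨u, hproj⟩ : ∃ u : 𝕍, ∀ c : 𝕍, ∃ c' : 𝕍, S.fE c' w = 0 ∧ S.fE c' u = 0 ∧
      ∀ v : 𝕍, S.fE v w = 0 → S.fE v u = 0 → S.fE v c' = S.fE v c := by
    by_cases hww : S.fE w w = 0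
    · obtain ⟨u, hu, hwu⟩ := exists_partner S hF hw hww
      refine ⟨u, fun c => ⟨c - act S.ρ (S.fE c u) w - act S.ρ (S.fE c w) u, ?_, ?_, ?_⟩⟩
      · exact (proj_pair26 S hww hu hwu c).1
      · exact (proj_pair26 S hww hu hwu c).2
      · intro v hvw hvu
        rw [S.fE_sub_right, S.fE_sub_right, S.fE_act_right, S.fE_act_right, hvw, hvu]
        ring
    · refine ⟨w, fun c => ⟨c - act S.ρ (S.fE c w / S.fE w w) w, ?_, ?_, ?_⟩⟩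
      · rw [S.fE_sub_left, S.fE_act_left, div_mul_cancel₀ _ hww, sub_self]
      · rw [S.fE_sub_left, S.fE_act_left, div_mul_cancel₀ _ hww, sub_self]
      · intro v hvw _
        rw [S.fE_sub_right, S.fE_act_right, hvw]
        ring
  set Z : Submodule F 𝕍 := S.hyp w ⊓ S.hyp u with hZdef
  have hZmem : ∀ z : 𝕍, z ∈ Z ↔ S.fE z w = 0 ∧ S.fE z u = 0 := by
    intro z
    rw [hZdef, Submodule.mem_inf, S.mem_hyp, S.mem_hyp]
  have hZ : ∀ (e : E) (z : 𝕍), z ∈ Z → act S.ρ e z ∈ Z := by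
    intro e z hz
    rw [hZmem] at hz ⊢
    rw [S.fE_act_left, S.fE_act_left, hz.1, hz.2, mul_zero]
    exact ⟨rfl, rfl⟩
  have hdim : ∀ x : 𝕍, ∃ y ∈ Z, y ≠ 0 ∧ S.fE y x = 0 := by
    intro x
    obtain ⟨y, hy0, h1, h2, h3⟩ := exists_perp3_26 S (by omega) w u x
    exact ⟨y, (hZmem y).mpr ⟨h1, h2⟩, hy0, h3⟩
  obtain ⟨v₁, hv₁Z, hv₁0, hv₁⟩ := exists_iso_in26 S hF Z hZ hdim
  obtain ⟨c, hc⟩ := fE_nondeg26 S hF hv₁0
  obtain ⟨c', hc'w, hc'u, hc'⟩ := hproj c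
  have hv₁Z' := (hZmem v₁).mp hv₁Z
  have hvc' : S.fE v₁ c' ≠ 0 := by rw [hc' v₁ hv₁Z'.1 hv₁Z'.2]; exact hc
  obtain ⟨v₂, hv₂Z, hv₂, h12⟩ := exists_partner_in26 S hF Z hZ hv₁Z ((hZmem c').mpr ⟨hc'w, hc'u⟩)
    hv₁ hvc'
  exact ⟨v₁, v₂, hv₁Z'.1, ((hZmem v₂).mp hv₂Z).1, hv₁, hv₂, h12⟩

/-- W4: an isotropic vector orthogonal to `w` but not to `w' ∉ E w` (`d ≥ 4`) -/
theorem exists_iso_sep (S : KU n q F E) (hF : Fintype.card F = q ^ 2) [FiniteDimensional F E]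
    (hn : 4 * finrank F E ≤ n) {w w' : 𝕍} (hw : w ≠ 0) (hw' : w' ∉ line S.ρ w) :
    ∃ a : 𝕍, S.fE a a = 0 ∧ S.fE w a = 0 ∧ S.fE w' a ≠ 0 := by
  have hinv := S.st_st
  have hne := st_ne_refl26 S hF
  by_contra hcon
  have hall : ∀ a : 𝕍, S.fE a a = 0 → S.fE a w = 0 → S.fE w' a = 0 := by
    intro a h1 h2
    by_contra h3
    exact hcon ⟨a, h1, fE_symm_zero26 S h2, h3⟩
  obtain ⟨v₁, v₂, h1w, h2w, hv₁, hv₂, h12⟩ := exists_hyp_pair_perp26 S hF hn hw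
  have hw'1 : S.fE w' v₁ = 0 := hall v₁ hv₁ h1w
  have hw'2 : S.fE w' v₂ = 0 := hall v₂ hv₂ h2w
  apply hw'
  apply mem_line_of_perp26 S hF hw
  intro y hyw
  obtain ⟨hyv₁, hyv₂⟩ := proj_pair26 S hv₁ hv₂ h12 y
  obtain ⟨z, hz⟩ : ∃ z : 𝕍, z = y - act S.ρ (S.fE y v₂) v₁ - act S.ρ (S.fE y v₁) v₂ := ⟨_, rfl⟩
  rw [← hz] at hyv₁ hyv₂
  have hzw : S.fE z w = 0 := by
    rw [hz, S.fE_sub_left, S.fE_sub_left, S.fE_act_left, S.fE_act_left, hyw, h1w, h2w]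
    ring
  have hw'z : S.fE w' z = S.fE w' y := by
    rw [hz, S.fE_sub_right, S.fE_sub_right, S.fE_act_right, S.fE_act_right, hw'1, hw'2]
    ring
  have hfix : S.st (-(S.fE z z)) = -(S.fE z z) := by rw [map_neg, S.st_fE_self]
  obtain ⟨α, hα⟩ := Cfsg.Agent.Lib.Helper5.UForm.tr_surj hinv hne _ hfix
  have hiso := iso_of_pair26 S hv₁ hv₂ h12 hyv₁ hyv₂ hα
  have haw : S.fE (z + act S.ρ α v₁ + v₂) w = 0 := by
    rw [S.add_left, S.add_left, S.fE_act_left, hzw, h1w, h2w]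
    ring
  have h3 := hall _ hiso haw
  rw [S.fE_add_right, S.fE_add_right, S.fE_act_right, hw'1, hw'2, hw'z] at h3
  have h4 : S.fE w' y = 0 := by simpa using h3
  exact fE_symm_zero26 S h4

end Cfsg.Agent.Lib.Helper26.C3uLeaf
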