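import Cfsg.Agent.Lib.Helper27.SpMDefs
import Cfsg.Agent.Lib.Helper28.SLMDec
import Cfsg.Agent.Lib.Helper28.SLMP7core

/-!
helper26: SpnMax market (helper27, `notes/SpnMax_leaves.lean`), GENERIC properness leaves P4 `not_le_tensor`,
P7 `not_le_tensorWreath` (any index type, any subgroup transitive on the non-zero vectors).  Ports of helper28's
`SLMDec` / `SLMP7core` (whose `Dec2`, `kron_mulVec_dec`, `DecT`, `tensorWreathStandard_le_stab` are reused).
-/

set_option autoImplicit false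
set_option linter.unusedSectionVars false
set_option linter.unusedVariables false

namespace Cfsg.Agent.Lib.Helper26.SpMLeaf

open Cfsg Cfsg.Geo Matrix Module Cfsg.Agent.Lib.Helper27.SpM
open Cfsg.Agent.Lib.Helper28.SLMLeaf

variable {m : ℕ} {F : Type*} [Field F] [Fintype F]

section generic
variable {ι : Type} [Fintype ι] [DecidableEq ι] {G : Subgroup (GL ι F)}

section transport
variable {κ : Type} [Fintype κ] [DecidableEq κ]

/-- transport of vectors along `e` and `P` -/
def tau26 (e : ι ≃ κ) (P : GL ι F) (w : κ → F) : ι → F :=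
  (P : Matrix ι ι F) *ᵥ (fun i => w (e i))

lemma tau26_injective (e : ι ≃ κ) (P : GL ι F) : Function.Injective (tau26 (F := F) e P) := by
  intro w w' h
  unfold tau26 at h
  have h2 : ((P⁻¹ : GL ι F) : Matrix ι ι F) * (P : Matrix ι ι F) = 1 := by
    rw [← Units.val_mul, inv_mul_cancel, Units.val_one]
  have h3 := congrArg (fun x => ((P⁻¹ : GL ι F) : Matrix ι ι F) *ᵥ x) h
  simp only [Matrix.mulVec_mulVec, h2, Matrix.one_mulVec] at h3
  funext k
  have := congrFun h3 (e.symm k)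
  simpa using this

lemma tau26_ne_zero (e : ι ≃ κ) (P : GL ι F) {w : κ → F} (hw : w ≠ 0) : tau26 e P w ≠ 0 := by
  intro h
  apply hw
  apply tau26_injective e P
  rw [h]
  unfold tau26
  have : (fun i => (0 : κ → F) (e i)) = (0 : ι → F) := rfl
  rw [this, Matrix.mulVec_zero]

lemma conj_mulVec_tau26 (e : ι ≃ κ) (P : GL ι F) (g₀ : GL κ F) (w : κ → F) :
    ((P * glReindex e.symm g₀ * P⁻¹ : GL ι F) : Matrix ι ι F) *ᵥ tau26 e P w =
      tau26 e P ((g₀ : Matrix κ κ F) *ᵥ w) := by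
  have h2 : ((P⁻¹ : GL ι F) : Matrix ι ι F) * (P : Matrix ι ι F) = 1 := by
    rw [← Units.val_mul, inv_mul_cancel, Units.val_one]
  have hR : ((glReindex e.symm g₀ : GL ι F) : Matrix ι ι F) =
      (g₀ : Matrix κ κ F).submatrix e e := rfl
  unfold tau26
  rw [Units.val_mul, Units.val_mul, Matrix.mulVec_mulVec, mul_assoc, mul_assoc, h2, mul_one,
    ← Matrix.mulVec_mulVec, hR]
  congr 1
  funext i
  simp only [Matrix.mulVec, dotProduct, Matrix.submatrix_apply]
  exact (Equiv.sum_comp e (fun k => (g₀ : Matrix κ κ F) (e i) k * w k))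

/-- the generic "invariant set of vectors" argument -/
theorem not_le_of_invariant_set26 (hG : TransNZ G) (e : ι ≃ κ) (P : GL ι F)
    (S₀ : Subgroup (GL κ F)) (Dec : Set (κ → F))
    (hinv : ∀ g ∈ S₀, ∀ w ∈ Dec, (g : Matrix κ κ F) *ᵥ w ∈ Dec)
    {d₀ w₀ : κ → F} (hd : d₀ ∈ Dec) (hd0 : d₀ ≠ 0) (hw : w₀ ∉ Dec) (hw0 : w₀ ≠ 0) :
    ¬ G ≤ ((S₀.map (glReindex e.symm).toMonoidHom).map (MulAut.conj P).toMonoidHom) := by
  intro hle
  obtain ⟨g, hg, hgu⟩ := hG _ _ (tau26_ne_zero e P hd0) (tau26_ne_zero e P hw0)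
  obtain ⟨g₁, ⟨g₀, hg₀, rfl⟩, rfl⟩ := hle hg
  have hconj : ((MulAut.conj P).toMonoidHom ((glReindex e.symm).toMonoidHom g₀)) =
      P * glReindex e.symm g₀ * P⁻¹ := rfl
  rw [hconj, conj_mulVec_tau26] at hgu
  have := tau26_injective e P hgu
  apply hw
  rw [← this]
  exact hinv g₀ hg₀ d₀ hd

end transport

/-- P4.  The Kronecker subgroup preserves the set of decomposable vectors `x ⊗ y`; not every non-zero vector is decomposable. -/
theorem not_le_tensor (hG : TransNZ G) {n₁ n₂ : ℕ} (e : ι ≃ Fin n₁ × Fin n₂) (P : GL ι F) (h1 : 2 ≤ n₁) (h2 : 2 ≤ n₂) :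
    ¬ G ≤ tensorProductSubgroup n₁ n₂ e P := by
  let i0 : Fin n₁ := ⟨0, by omega⟩
  let i1 : Fin n₁ := ⟨1, by omega⟩
  let j0 : Fin n₂ := ⟨0, by omega⟩
  let j1 : Fin n₂ := ⟨1, by omega⟩
  have hi : i0 ≠ i1 := by intro h; have := congrArg Fin.val h; simp [i0, i1] at this
  have hj : j0 ≠ j1 := by intro h; have := congrArg Fin.val h; simp [j0, j1] at this
  let d₀ : Fin n₁ × Fin n₂ → F := fun p => (Pi.single i0 1 : Fin n₁ → F) p.1 * (Pi.single j0 1 : Fin n₂ → F) p.2
  let w₀ : Fin n₁ × Fin n₂ → F := fun p =>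
    (Pi.single i0 1 : Fin n₁ → F) p.1 * (Pi.single j0 1 : Fin n₂ → F) p.2 +
      (Pi.single i1 1 : Fin n₁ → F) p.1 * (Pi.single j1 1 : Fin n₂ → F) p.2
  refine not_le_of_invariant_set26 hG e P (kroneckerSubgroup n₁ n₂ F) (Dec2 n₁ n₂ F) ?_
    (d₀ := d₀) (w₀ := w₀) ⟨_, _, rfl⟩ ?_ ?_ ?_
  · rintro g ⟨a, b, hab⟩ w ⟨x, y, rfl⟩
    rw [hab]
    exact ⟨_, _, kron_mulVec_dec _ _ x y⟩
  · intro h
    have := congrFun h (i0, j0)
    simp [d₀] at this
  · rintro ⟨x, y, hxy⟩
    have h00 := congrFun hxy (i0, j0)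
    have h01 := congrFun hxy (i0, j1)
    have h11 := congrFun hxy (i1, j1)
    simp only [w₀, Pi.single_eq_same, Pi.single_eq_of_ne hi, Pi.single_eq_of_ne hi.symm,
      Pi.single_eq_of_ne hj, Pi.single_eq_of_ne hj.symm, mul_one, mul_zero, add_zero, zero_add] at h00 h01 h11
    have hx0 : x i0 ≠ 0 := by
      intro h; rw [h, zero_mul] at h00; exact one_ne_zero h00
    have hy1 : y j1 ≠ 0 := by
      intro h; rw [h, mul_zero] at h11; exact one_ne_zero h11
    exact mul_ne_zero hx0 hy1 h01.symm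
  · intro h
    have := congrFun h (i0, j0)
    simp [w₀, Pi.single_eq_of_ne hi] at this

/-- P7.  The tensor-wreath group preserves the set of decomposable vectors `x₁ ⊗ ... ⊗ x_t`. -/
theorem not_le_tensorWreath (hG : TransNZ G) {k t : ℕ} (e : ι ≃ (Fin t → Fin k)) (P : GL ι F) (hk : 2 ≤ k) (ht : 2 ≤ t) :
    ¬ G ≤ tensorWreathSubgroup k t e P := by
  let c0 : Fin k := ⟨0, by omega⟩
  let c1 : Fin k := ⟨1, by omega⟩
  let i0 : Fin t := ⟨0, by omega⟩
  let i1 : Fin t := ⟨1, by omega⟩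
  have hc : c0 ≠ c1 := by intro h; have := congrArg Fin.val h; simp [c0, c1] at this
  have hi : i0 ≠ i1 := by intro h; have := congrArg Fin.val h; simp [i0, i1] at this
  let z00 : Fin t → Fin k := fun _ => c0
  let z11 : Fin t → Fin k := fun i => if i = i0 ∨ i = i1 then c1 else c0
  let z01 : Fin t → Fin k := fun i => if i = i1 then c1 else c0
  have h0011 : z00 ≠ z11 := by
    intro h; have := congrFun h i0; simp [z00, z11] at this; exact hc this
  let d₀ : (Fin t → Fin k) → F := fun z => ∏ i, (Pi.single c0 1 : Fin k → F) (z i)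
  let w₀ : (Fin t → Fin k) → F := fun z => (if z = z00 then 1 else 0) + (if z = z11 then 1 else 0)
  refine not_le_of_invariant_set26 hG e P (tensorWreathStandard k t F) (DecT k t F) ?_
    (d₀ := d₀) (w₀ := w₀) ⟨_, rfl⟩ ?_ ?_ ?_
  · intro g hg w hw
    exact (tensorWreathStandard_le_stab k t hg w).2 hw
  · intro h
    have := congrFun h z00
    simp [d₀, z00] at this
  · rintro ⟨xs, hxs⟩
    have e00 := congrFun hxs z00
    have e11 := congrFun hxs z11
    have e01 := congrFun hxs z01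
    have h0001 : z01 ≠ z00 := by
      intro h; have := congrFun h i1; simp [z00, z01] at this; exact hc this.symm
    have h1101 : z01 ≠ z11 := by
      intro h; have := congrFun h i0; simp [z11, z01, hi] at this; exact hc this
    simp only [w₀, if_neg h0011, if_neg h0011.symm, if_neg h0001, if_neg h1101, add_zero,
      zero_add] at e00 e11 e01
    have hsplit : ∀ z : Fin t → Fin k, ∏ i, xs i (z i) = xs i1 (z i1) * ∏ i ∈ Finset.univ.erase i1, xs i (z i) :=
      fun z => (Finset.mul_prod_erase Finset.univ (fun i => xs i (z i)) (Finset.mem_univ i1)).symm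
    rw [hsplit] at e00 e11 e01
    have hA : ∏ i ∈ Finset.univ.erase i1, xs i (z01 i) = ∏ i ∈ Finset.univ.erase i1, xs i (z00 i) := by
      refine Finset.prod_congr rfl fun i hi' => ?_
      have : i ≠ i1 := Finset.ne_of_mem_erase hi'
      simp [z01, z00, this]
    have hB : xs i1 (z01 i1) = xs i1 (z11 i1) := by simp [z01, z11]
    rw [hA, hB] at e01
    have h1 : xs i1 (z11 i1) ≠ 0 := by
      intro h; rw [h, zero_mul] at e11; exact one_ne_zero e11
    have h2 : ∏ i ∈ Finset.univ.erase i1, xs i (z00 i) ≠ 0 := by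
      intro h; rw [h, mul_zero] at e00; exact one_ne_zero e00
    exact mul_ne_zero h1 h2 e01.symm
  · intro h
    have := congrFun h z00
    simp [w₀, h0011] at this

end generic

end Cfsg.Agent.Lib.Helper26.SpMLeaf
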