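import Mathlib
import Cfsg.Agent.Lib.Helper11.Su2Tools

/-! S2153 market "SU2": leaf S3D (`involution_cases`) and the calculus of `N = τ + 1` for an involution `τ`. -/

set_option autoImplicit false

namespace Cfsg.Agent.Lib.Helper26.Su2Leaf

open MulAction Pointwise Cfsg.Agent.Lib.Helper11.Su2

variable {F V G : Type*} [Field F] [AddCommGroup V] [Module F V] [Group G] [DistribMulAction G V]
variable (S : Setting F V G)

/-- `τ⁻¹ = τ` for an involution -/
theorem inv_eq_of_sq26 {τ : G} (hτ : τ * τ = 1) : τ⁻¹ = τ := inv_eq_of_mul_eq_one_right hτ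

/-- `τ • τ • z = z` -/
theorem smul_smul_invol26 {τ : G} (hτ : τ * τ = 1) (z : V) : τ • τ • z = z := by
  rw [← mul_smul, hτ, one_smul]

/-- `h (N z) z' = h z (N z')` for `N = τ + 1` -/
theorem h_N_comm {τ : G} (hτ : τ * τ = 1) (z z' : V) :
    S.h (τ • z + z) z' = S.h z (τ • z' + z') := by
  rw [S.h_add_left, S.h_add_right, S.h_smul_inv, inv_eq_of_sq26 hτ]

/-- `τ` fixes `N z` -/
theorem smul_N {τ : G} (hτ : τ * τ = 1) (z : V) : τ • (τ • z + z) = τ • z + z := by
  rw [smul_add, smul_smul_invol26 hτ, add_comm]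

include S in
/-- `N (N z) = 0` -/
theorem N_N {τ : G} (hτ : τ * τ = 1) (z : V) : τ • (τ • z + z) + (τ • z + z) = 0 := by
  rw [smul_N hτ]; exact S.vadd_self _

/-- `N z` is isotropic -/
theorem h_N_N {τ : G} (hτ : τ * τ = 1) (z : V) : S.h (τ • z + z) (τ • z + z) = 0 := by
  rw [h_N_comm S hτ, N_N S hτ, S.h_zero_right]

/-- `h (N z) z ∈ {0, 1}` -/
theorem h_N_self_mem {τ : G} (hτ : τ * τ = 1) (z : V) :
    S.h (τ • z + z) z = 0 ∨ S.h (τ • z + z) z = 1 := by
  have h1 : S.h (τ • z + z) z = S.h (τ • z + z) z * S.h (τ • z + z) z := by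
    conv_lhs => rw [h_N_comm S hτ]
    exact S.h_symm _ _
  have h2 : S.h (τ • z + z) z * (S.h (τ • z + z) z - 1) = 0 := by linear_combination -h1
  rcases mul_eq_zero.mp h2 with h3 | h3
  · left; exact h3
  · right; exact sub_eq_zero.mp h3

/-- LEAF S3D. -/
theorem involution_cases {τ : G} (hτ : τ * τ = 1) (hτ1 : τ ≠ 1) :
    (∃ y, y ≠ 0 ∧ S.h y y = 0 ∧ τ = S.tv y) ∨
      (∃ z1 z2, τ • z1 + z1 ≠ 0 ∧ S.h (τ • z1 + z1) z1 = 0 ∧ S.h (τ • z2 + z2) z2 = 1) := by
  by_cases hcase : ∃ z1 z2, τ • z1 + z1 ≠ 0 ∧ S.h (τ • z1 + z1) z1 = 0 ∧ S.h (τ • z2 + z2) z2 = 1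
  · exact Or.inr hcase
  left
  -- Step A: some `z2` with `η(z2,z2) = 1`
  have hA : ∃ z2, S.h (τ • z2 + z2) z2 = 1 := by
    by_contra hno
    push Not at hno
    have hdiag : ∀ z, S.h (τ • z + z) z = 0 := fun z =>
      (h_N_self_mem S hτ z).resolve_right (hno z)
    apply hτ1
    apply S.faithful
    intro z
    apply S.veq_of_add_eq_zero
    apply S.nondeg
    intro z'
    -- `e = h (N z) z'` has `tr e = 0` and `tr (om e) = 0`
    have key : ∀ z'' : V, S.h (τ • z + z) z'' + S.h (τ • z + z) z'' * S.h (τ • z + z) z'' = 0 := by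
      intro z''
      have h1 := hdiag (z + z'')
      have hN : τ • (z + z'') + (z + z'') = (τ • z + z) + (τ • z'' + z'') := by
        rw [smul_add]; abel
      rw [hN, S.h_add_left, S.h_add_right, S.h_add_right, hdiag z, hdiag z'', zero_add, add_zero,
        h_N_comm S hτ z'' z, S.h_symm (τ • z + z) z''] at h1
      exact h1
    have h1 := key z'
    have h2 := key ((S.om * S.om) • z')
    rw [S.h_smul_right, S.frob] at h2
    exact S.eq_zero_of_tr_mul h1 h2
  obtain ⟨z2, hz2⟩ := hA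
  -- every `z` with `N z ≠ 0` has `η(z,z) = 1`
  have hB : ∀ z, τ • z + z ≠ 0 → S.h (τ • z + z) z = 1 := by
    intro z hz
    rcases h_N_self_mem S hτ z with h0 | h1
    · exact absurd ⟨z, z2, hz, h0, hz2⟩ hcase
    · exact h1
  set y := τ • z2 + z2 with hy
  have hy0 : y ≠ 0 := by
    intro h0
    rw [h0, S.h_zero_left] at hz2
    exact zero_ne_one hz2
  have hyy : S.h y y = 0 := h_N_N S hτ z2
  refine ⟨y, hy0, hyy, ?_⟩
  apply S.ext_smul
  intro z
  rw [S.tv_smul hyy]
  -- `z' = z + λ z2` is fixed by `τ`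
  set lam := S.h z y with hlam
  have hz2y : S.h z2 y = 1 := by
    rw [S.h_symm y z2, hz2]; ring
  have hfix : τ • (z + lam • z2) + (z + lam • z2) = 0 := by
    by_contra hne
    obtain ⟨z', hz'⟩ : ∃ z' : V, z' = z + lam • z2 := ⟨_, rfl⟩
    rw [← hz'] at hne
    have h1 : S.h z' y = 0 := by
      rw [hz', S.h_add_left, S.h_smul_left, hz2y, mul_one]
      exact S.add_self _
    have h2 : S.h (τ • z' + z') z2 = 0 := by rw [h_N_comm S hτ, ← hy, h1]
    have h3 : S.h y z' = 0 := S.h_eq_zero_symm h1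
    have h4 : S.h (τ • z' + z') z' = 1 := hB z' hne
    have hN : τ • (z' + z2) + (z' + z2) = (τ • z' + z') + y := by
      rw [smul_add, hy]; abel
    have h5 : τ • (z' + z2) + (z' + z2) ≠ 0 := by
      intro h0
      have h6 : S.h (τ • (z' + z2) + (z' + z2)) z2 = 0 := by rw [h0, S.h_zero_left]
      rw [hN, S.h_add_left, h2, hz2, zero_add] at h6
      exact one_ne_zero h6
    have h7 := hB (z' + z2) h5
    rw [hN, S.h_add_left, S.h_add_right, S.h_add_right, h4, h2, h3, hz2] at h7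
    have h8 : (1 : F) + 1 = 0 := S.add_self 1
    have : (0 : F) = 1 := by linear_combination h7 - h8
    exact zero_ne_one this
  -- conclude
  have h9 : τ • z + z = lam • y := by
    have h10 : τ • (z + lam • z2) + (z + lam • z2) = (τ • z + z) + lam • y := by
      rw [smul_add, S.smul_fsmul, hy, smul_add]; abel
    rw [h10] at hfix
    exact S.veq_of_add_eq_zero hfix
  calc τ • z = (τ • z + z) + z := (S.vadd_add_cancel_right _ _).symm
    _ = lam • y + z := by rw [h9]
    _ = z + lam • y := add_comm _ _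

end Cfsg.Agent.Lib.Helper26.Su2Leaf
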