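import Mathlib
import Cfsg.Agent.Lib.Helper11.Su2Tools
import Cfsg.Agent.Lib.Helper26.Su2S3D

/-! S2153 market "SU2": leaf S3C (`card_centralizer_Qx_zero`, `card_centralizer_Qx_one`). -/

set_option autoImplicit false

namespace Cfsg.Agent.Lib.Helper26.Su2Leaf

open MulAction Pointwise Cfsg.Agent.Lib.Helper11.Su2 Cfsg.Agent.Lib.Helper26.Su2Leaf

variable {F V G : Type*} [Field F] [AddCommGroup V] [Module F V] [Group G] [DistribMulAction G V]
variable (S : Setting F V G)

/-- the scalars `0, 1` -/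
theorem card_zero_one26 : Nat.card {b : F // b = 0 ∨ b = 1} = 2 := by
  have h1 : {b : F | b = 0 ∨ b = 1} = {0, 1} := by
    ext b; simp
  have h2 : Nat.card {b : F // b = 0 ∨ b = 1} = ({b : F | b = 0 ∨ b = 1} : Set F).ncard :=
    (Nat.card_coe_set_eq _)
  rw [h2, h1]
  exact Set.ncard_pair (zero_ne_one)

include S in
/-- `N (a • z) = a • N z` -/
theorem N_fsmul (τ : G) (a : F) (z : V) : τ • (a • z) + a • z = a • (τ • z + z) := by
  rw [S.smul_fsmul, smul_add]

/-- `N (z + z') = N z + N z'` -/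
theorem N_add (τ : G) (z z' : V) : τ • (z + z') + (z + z') = (τ • z + z) + (τ • z' + z') := by
  rw [smul_add]; abel

/-- when `τ` centralizes `gq y w c` (`y = N z0`) -/
theorem conj_gq_eq_iff {τ : G} (hτ : τ * τ = 1) {z0 y : V} (hyz : y = τ • z0 + z0) (hy0 : y ≠ 0)
    (hy : S.h y y = 0) {w : V} {c : F} (hw : S.h w y = 0) (hc : c + c * c = S.h w w) :
    τ * S.gq y w c * τ⁻¹ = S.gq y w c ↔ (τ • w + w = 0 ∨ τ • w + w = y) := by
  have hτy : τ • y = y := by rw [hyz]; exact smul_N hτ z0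
  have hw' : S.h (τ • w) y = 0 := by
    have := S.iso τ w y
    rw [hτy] at this
    rw [this, hw]
  have hc' : c + c * c = S.h (τ • w) (τ • w) := by rw [S.iso, hc]
  rw [S.conj_gq τ hy hw hc, hτy, eq_comm, S.gq_eq_gq_iff hy0 hy hw hw' hc hc']
  constructor
  · rintro ⟨a, h1, h2⟩
    have h3 : a + a * a = 0 := by
      have : c + (a + a * a) = c + 0 := by rw [add_zero]; exact h2.symm
      exact add_left_cancel this
    rcases (S.tr_eq_zero_iff a).mp h3 with rfl | rfl
    · left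
      rw [h1, zero_smul, add_zero]; exact S.vadd_self _
    · right
      rw [h1, one_smul, add_comm w y, add_assoc, S.vadd_self, add_zero]
  · rintro (h1 | h1)
    · refine ⟨0, ?_, by ring⟩
      rw [zero_smul, add_zero]
      exact S.veq_of_add_eq_zero h1
    · refine ⟨1, ?_, ?_⟩
      · rw [one_smul, ← h1, add_comm (τ • w) w, ← add_assoc, S.vadd_self, zero_add]
      · have : (1 : F) + 1 * 1 = 0 := by rw [mul_one]; exact S.add_self 1
        rw [this, add_zero]

/-- the pairs `(w, c)` describing the centralizer of `τ` in `Q_y` -/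
def PC (τ : G) (y : V) : Type _ :=
  {p : V × F // S.h p.1 y = 0 ∧ p.2 + p.2 * p.2 = S.h p.1 p.1 ∧
    (τ • p.1 + p.1 = 0 ∨ τ • p.1 + p.1 = y)}

/-- the vectors `w ⊥ y` with `N w ∈ {0, y}` -/
def WC (τ : G) (y : V) : Type _ :=
  {w : V // S.h w y = 0 ∧ (τ • w + w = 0 ∨ τ • w + w = y)}

/-- Step 1: `(w, c) ↦ gq y w c` is 4-to-1 from `PC` onto the centralizer. -/
theorem card_PC_eq [Finite V] [Finite G] {τ : G} (hτ : τ * τ = 1) {z0 y : V}
    (hyz : y = τ • z0 + z0) (hy0 : y ≠ 0) (hy : S.h y y = 0) :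
    Nat.card (PC S τ y) = Nat.card {q : S.Qx hy // τ * (q : G) * τ⁻¹ = q} * 4 := by
  classical
  have hFfin : Finite F := S.finite_F
  have hNy : τ • y + y = 0 := by rw [hyz]; exact N_N S hτ z0
  -- representatives
  have hrep : ∀ q : {q : S.Qx hy // τ * (q : G) * τ⁻¹ = q}, ∃ p : V × F,
      S.h p.1 y = 0 ∧ p.2 + p.2 * p.2 = S.h p.1 p.1 ∧ ((q : S.Qx hy) : G) = S.gq y p.1 p.2 := by
    rintro ⟨⟨g, hg⟩, _⟩
    obtain ⟨w, c, h1, h2, h3⟩ := (S.mem_Qx hy).mp hg
    exact ⟨(w, c), h1, h2, h3⟩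
  choose r hr1 hr2 hr3 using hrep
  let f : {q : S.Qx hy // τ * (q : G) * τ⁻¹ = q} × F → PC S τ y := fun qa =>
    ⟨((r qa.1).1 + qa.2 • y, (r qa.1).2 + (qa.2 + qa.2 * qa.2)), by
      refine ⟨?_, ?_, ?_⟩
      · show S.h ((r qa.1).1 + qa.2 • y) y = 0
        rw [S.h_add_left, hr1, S.h_smul_left, hy, mul_zero, add_zero]
      · show ((r qa.1).2 + (qa.2 + qa.2 * qa.2)) + ((r qa.1).2 + (qa.2 + qa.2 * qa.2)) *
            ((r qa.1).2 + (qa.2 + qa.2 * qa.2)) = S.h ((r qa.1).1 + qa.2 • y) ((r qa.1).1 + qa.2 • y)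
        rw [S.h_self_add_smul hy (hr1 qa.1), S.tr_add, hr2]
        have h0 : (qa.2 + qa.2 * qa.2) + (qa.2 + qa.2 * qa.2) * (qa.2 + qa.2 * qa.2) = 0 := by
          rcases S.tr_mem qa.2 with h | h <;> rw [h]
          · ring
          · rw [mul_one]; exact S.add_self 1
        rw [h0, add_zero]
      · show τ • ((r qa.1).1 + qa.2 • y) + ((r qa.1).1 + qa.2 • y) = 0 ∨
            τ • ((r qa.1).1 + qa.2 • y) + ((r qa.1).1 + qa.2 • y) = y
        rw [N_add, N_fsmul S, hNy, smul_zero, add_zero]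
        have h1 := qa.1.2
        rw [hr3 qa.1] at h1
        exact (conj_gq_eq_iff S hτ hyz hy0 hy (hr1 qa.1) (hr2 qa.1)).mp h1⟩
  have hf : Function.Bijective f := by
    constructor
    · rintro ⟨q, a⟩ ⟨q', a'⟩ hqa
      have h1 := congrArg (fun p : PC S τ y => p.1) hqa
      simp only [f] at h1
      have h2 : (r q).1 + a • y = (r q').1 + a' • y := congrArg Prod.fst h1
      have h3 : (r q).2 + (a + a * a) = (r q').2 + (a' + a' * a') := congrArg Prod.snd h1
      have h4 : S.gq y ((r q).1 + a • y) ((r q).2 + (a + a * a)) =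
          S.gq y ((r q').1 + a' • y) ((r q').2 + (a' + a' * a')) := by rw [h2, h3]
      rw [S.gq_add_smul hy (hr1 q) (hr2 q), S.gq_add_smul hy (hr1 q') (hr2 q'), ← hr3, ← hr3] at h4
      have hqq : q = q' := Subtype.ext (Subtype.ext h4)
      subst hqq
      have h5 : a • y = a' • y := add_left_cancel h2
      have h6 : (a - a') • y = 0 := by rw [sub_smul, h5, sub_self]
      rcases smul_eq_zero.mp h6 with h7 | h7
      · rw [sub_eq_zero.mp h7]
      · exact absurd h7 hy0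
    · rintro ⟨⟨w, c⟩, hw, hc, hN⟩
      have hmem : S.gq y w c ∈ S.Qx hy := S.gq_mem_Qx hy hw hc
      have hcen : τ * S.gq y w c * τ⁻¹ = S.gq y w c :=
        (conj_gq_eq_iff S hτ hyz hy0 hy hw hc).mpr hN
      set q : {q : S.Qx hy // τ * (q : G) * τ⁻¹ = q} := ⟨⟨S.gq y w c, hmem⟩, hcen⟩ with hq
      have h1 : S.gq y (r q).1 (r q).2 = S.gq y w c := (hr3 q).symm
      obtain ⟨a, ha1, ha2⟩ := (S.gq_eq_gq_iff hy0 hy (hr1 q) hw (hr2 q) hc).mp h1
      refine ⟨(q, a), ?_⟩
      apply Subtype.ext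
      show ((r q).1 + a • y, (r q).2 + (a + a * a)) = (w, c)
      rw [← ha1, ← ha2]
  rw [← Nat.card_congr (Equiv.ofBijective f hf), Nat.card_prod, S.natCard_F]

/-- Step 2: each `w` carries exactly two values of `c`. -/
theorem card_PC_eq_two_mul [Finite V] (τ : G) (y : V) :
    Nat.card (PC S τ y) = Nat.card (WC S τ y) * 2 := by
  classical
  have hFfin : Finite F := S.finite_F
  have hc0 : ∀ w : WC S τ y, ∃ c : F, c + c * c = S.h w.1 w.1 := fun w =>
    S.exists_tr_eq (S.h_self_mem w.1)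
  choose c0 hc0 using hc0
  let g : WC S τ y × {b : F // b = 0 ∨ b = 1} → PC S τ y := fun wb =>
    ⟨(wb.1.1, c0 wb.1 + wb.2.1), by
      refine ⟨wb.1.2.1, ?_, wb.1.2.2⟩
      show (c0 wb.1 + wb.2.1) + (c0 wb.1 + wb.2.1) * (c0 wb.1 + wb.2.1) = S.h wb.1.1 wb.1.1
      rw [S.tr_add, hc0, (S.tr_eq_zero_iff _).mpr wb.2.2, add_zero]⟩
  have hg : Function.Bijective g := by
    constructor
    · rintro ⟨w, b⟩ ⟨w', b'⟩ hwb
      have h1 := congrArg (fun p : PC S τ y => p.1) hwb
      simp only [g] at h1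
      have h2 : w.1 = w'.1 := congrArg Prod.fst h1
      have hww : w = w' := Subtype.ext h2
      subst hww
      have h3 : c0 w + b.1 = c0 w + b'.1 := congrArg Prod.snd h1
      have h4 : b = b' := Subtype.ext (add_left_cancel h3)
      rw [h4]
    · rintro ⟨⟨w, c⟩, hw, hc, hN⟩
      set w' : WC S τ y := ⟨w, hw, hN⟩ with hw'
      rcases S.norm_unique (hc0 w') hc with h1 | h1
      · have h1' : c = c0 w' := h1
        refine ⟨(w', ⟨0, Or.inl rfl⟩), ?_⟩
        apply Subtype.ext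
        show (w, c0 w' + 0) = (w, c)
        rw [add_zero, h1']
      · have h1' : c = c0 w' + 1 := h1
        refine ⟨(w', ⟨1, Or.inr rfl⟩), ?_⟩
        apply Subtype.ext
        show (w, c0 w' + 1) = (w, c)
        rw [h1']
  rw [← Nat.card_congr (Equiv.ofBijective g hg), Nat.card_prod, card_zero_one26]

/-- fixed vectors are perpendicular to `y = N z0` -/
theorem h_fixed_perp {τ : G} (hτ : τ * τ = 1) {z0 y k : V} (hyz : y = τ • z0 + z0)
    (hk : τ • k + k = 0) : S.h k y = 0 := by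
  rw [hyz, ← h_N_comm S hτ, hk, S.h_zero_left]

/-- Step 3, case `h y z0 = 0`. -/
theorem card_WC_zero [Finite V] {τ : G} (hτ : τ * τ = 1) {z0 y : V} (hyz : y = τ • z0 + z0)
    (hy0 : y ≠ 0) (h0 : S.h y z0 = 0) :
    Nat.card (WC S τ y) = Nat.card {z : V // τ • z = z} * 2 := by
  classical
  have hFfin : Finite F := S.finite_F
  have hz0y : S.h z0 y = 0 := S.h_eq_zero_symm h0
  let g : {z : V // τ • z = z} × {b : F // b = 0 ∨ b = 1} → WC S τ y := fun kb =>
    ⟨kb.1.1 + kb.2.1 • z0, by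
      have hk : τ • kb.1.1 + kb.1.1 = 0 := by rw [kb.1.2]; exact S.vadd_self _
      refine ⟨?_, ?_⟩
      · rw [S.h_add_left, h_fixed_perp S hτ hyz hk, S.h_smul_left, hz0y, mul_zero, add_zero]
      · rw [N_add, hk, zero_add, N_fsmul S, ← hyz]
        rcases kb.2.2 with h | h <;> rw [h]
        · left; rw [zero_smul]
        · right; rw [one_smul]⟩
  have hg : Function.Bijective g := by
    constructor
    · rintro ⟨k, b⟩ ⟨k', b'⟩ hkb
      have h1 : k.1 + b.1 • z0 = k'.1 + b'.1 • z0 := congrArg (fun p : WC S τ y => p.1) hkb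
      have hk : τ • k.1 + k.1 = 0 := by rw [k.2]; exact S.vadd_self _
      have hk' : τ • k'.1 + k'.1 = 0 := by rw [k'.2]; exact S.vadd_self _
      have h2 : τ • (k.1 + b.1 • z0) + (k.1 + b.1 • z0) = τ • (k'.1 + b'.1 • z0) + (k'.1 + b'.1 • z0) := by
        rw [h1]
      rw [N_add, N_add, hk, hk', zero_add, zero_add, N_fsmul S, N_fsmul S, ← hyz] at h2
      have h3 : (b.1 - b'.1) • y = 0 := by rw [sub_smul, h2, sub_self]
      have h4 : b.1 = b'.1 := by
        rcases smul_eq_zero.mp h3 with h | h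
        · exact sub_eq_zero.mp h
        · exact absurd h hy0
      have h5 : b = b' := Subtype.ext h4
      subst h5
      have h6 : k = k' := Subtype.ext (add_right_cancel h1)
      rw [h6]
    · rintro ⟨w, hw, hN⟩
      rcases hN with hN | hN
      · refine ⟨(⟨w, S.veq_of_add_eq_zero hN⟩, ⟨0, Or.inl rfl⟩), ?_⟩
        apply Subtype.ext
        show w + (0 : F) • z0 = w
        rw [zero_smul, add_zero]
      · have h1 : τ • (w + z0) + (w + z0) = 0 := by
          rw [N_add, hN, ← hyz]; exact S.vadd_self _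
        refine ⟨(⟨w + z0, S.veq_of_add_eq_zero h1⟩, ⟨1, Or.inr rfl⟩), ?_⟩
        apply Subtype.ext
        show w + z0 + (1 : F) • z0 = w
        rw [one_smul, S.vadd_add_cancel_right]
  rw [← Nat.card_congr (Equiv.ofBijective g hg), Nat.card_prod, card_zero_one26]

/-- Step 3, case `h y z0 = 1`. -/
theorem card_WC_one [Finite V] {τ : G} (hτ : τ * τ = 1) {z0 y : V} (hyz : y = τ • z0 + z0)
    (h1 : S.h y z0 = 1) :
    Nat.card (WC S τ y) = Nat.card {z : V // τ • z = z} := by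
  have hz0y : S.h z0 y = 1 := S.h_eq_one_symm h1
  let g : {z : V // τ • z = z} → WC S τ y := fun k =>
    ⟨k.1, by
      have hk : τ • k.1 + k.1 = 0 := by rw [k.2]; exact S.vadd_self _
      exact ⟨h_fixed_perp S hτ hyz hk, Or.inl hk⟩⟩
  have hg : Function.Bijective g := by
    constructor
    · rintro k k' hkk
      exact Subtype.ext (congrArg (fun p : WC S τ y => p.1) hkk)
    · rintro ⟨w, hw, hN⟩
      rcases hN with hN | hN
      · exact ⟨⟨w, S.veq_of_add_eq_zero hN⟩, rfl⟩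
      · exfalso
        have h2 : τ • (w + z0) + (w + z0) = 0 := by
          rw [N_add, hN, ← hyz]; exact S.vadd_self _
        have h3 := h_fixed_perp S hτ hyz h2
        rw [S.h_add_left, hw, hz0y, zero_add] at h3
        exact one_ne_zero h3
  rw [← Nat.card_congr (Equiv.ofBijective g hg)]

/-- LEAF S3C (zero). -/
theorem card_centralizer_Qx_zero [Finite V] [Finite G] {τ : G} (hτ : τ * τ = 1) {z0 y : V}
    (hyz : y = τ • z0 + z0) (hy0 : y ≠ 0) (hy : S.h y y = 0) (h0 : S.h y z0 = 0) :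
    Nat.card {q : S.Qx hy // τ * (q : G) * τ⁻¹ = q} = Nat.card {z : V // τ • z = z} := by
  have h1 := card_PC_eq S hτ hyz hy0 hy
  have h2 := card_PC_eq_two_mul S τ y
  have h3 := card_WC_zero S hτ hyz hy0 h0
  omega

/-- LEAF S3C (one). -/
theorem card_centralizer_Qx_one [Finite V] [Finite G] {τ : G} (hτ : τ * τ = 1) {z0 y : V}
    (hyz : y = τ • z0 + z0) (hy0 : y ≠ 0) (hy : S.h y y = 0) (h1 : S.h y z0 = 1) :
    2 * Nat.card {q : S.Qx hy // τ * (q : G) * τ⁻¹ = q} = Nat.card {z : V // τ • z = z} := by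
  have h2 := card_PC_eq S hτ hyz hy0 hy
  have h3 := card_PC_eq_two_mul S τ y
  have h4 := card_WC_one S hτ hyz h1
  omega

end Cfsg.Agent.Lib.Helper26.Su2Leaf
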