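import Mathlib

/-!
helper26: S4411 (prime divisors of automizers of `p`-subgroups move to subgroups normal in a Sylow `p`-subgroup):
the three small definitions used by the frozen leaf statements of `notes/S4411_leaves.lean`.
-/

set_option autoImplicit false

namespace Cfsg.Agent.Lib.Helper26.AUTQ

/-- `y` is a `q`-element: its order is a power of `q`. -/
def QElt {G : Type*} [Group G] (q : ℕ) (y : G) : Prop := ∃ k : ℕ, orderOf y = q ^ k

/-- Some `q`-element of `N_G(H)` does not centralize `H` (for a finite group: `q` divides `|N_G(H) : C_G(H)|`). -/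
def Aq {G : Type*} [Group G] (q : ℕ) (H : Subgroup G) : Prop :=
  ∃ y ∈ Subgroup.normalizer (H : Set G), QElt q y ∧ y ∉ Subgroup.centralizer (H : Set G)

/-- The exponent of `p` in `|N_G(H)|`. -/
noncomputable def nP {G : Type*} [Group G] (p : ℕ) (H : Subgroup G) : ℕ :=
  (Nat.card (Subgroup.normalizer (H : Set G))).factorization p

theorem qElt_one {G : Type*} [Group G] (q : ℕ) : QElt q (1 : G) := ⟨0, by simp⟩

theorem QElt.pow {G : Type*} [Group G] {q : ℕ} [hq : Fact q.Prime] {y : G} (h : QElt q y) (n : ℕ) :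
    QElt q (y ^ n) := by
  obtain ⟨k, hk⟩ := h
  have hdvd : orderOf (y ^ n) ∣ q ^ k := by
    rw [← hk]; exact orderOf_pow_dvd n
  obtain ⟨j, -, hj⟩ := (Nat.dvd_prime_pow hq.out).mp hdvd
  exact ⟨j, hj⟩

theorem QElt.map {G G' : Type*} [Group G] [Group G'] {q : ℕ} [hq : Fact q.Prime] {y : G} (h : QElt q y)
    (f : G →* G') : QElt q (f y) := by
  obtain ⟨k, hk⟩ := h
  have hdvd : orderOf (f y) ∣ q ^ k := by
    rw [← hk]; exact orderOf_map_dvd f y
  obtain ⟨j, -, hj⟩ := (Nat.dvd_prime_pow hq.out).mp hdvd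
  exact ⟨j, hj⟩

theorem qElt_coe_iff {G : Type*} [Group G] {q : ℕ} {X : Subgroup G} (y : X) :
    QElt q (y : G) ↔ QElt q y := by
  unfold QElt
  rw [Subgroup.orderOf_coe]

end Cfsg.Agent.Lib.Helper26.AUTQ
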