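import Mathlib
import Cfsg.Prelude.Def_BlockRank
import Cfsg.Agent.Lib.Helper27.DODefs

set_option autoImplicit false

namespace Cfsg.Agent.Lib.Helper26.DOSETUP

open Cfsg Cfsg.Agent.Lib.Helper8.DOM Cfsg.Agent.Lib.Helper27.DO
open scoped ComplexConjugate

universe u

variable {G : Type u} [Group G] {p : ℕ} [Fact p.Prime]

omit [Fact p.Prime] in
theorem orderOf_gen (P : Subgroup G) (hP : Nat.card P = p) (x0 : G)
    (hx0 : P = Subgroup.zpowers x0) : orderOf x0 = p := by
  rw [← hP, hx0, Nat.card_zpowers]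

theorem pow_val_mul (x0 : G) (h : orderOf x0 = p) (a b : ZMod p) :
    x0 ^ (a * b).val = x0 ^ (a.val * b.val) := by
  rw [ZMod.val_mul]
  have := pow_mod_orderOf x0 (a.val * b.val)
  rw [h] at this
  exact this

theorem unit_unique (x0 : G) (h : orderOf x0 = p) (u v : (ZMod p)ˣ)
    (huv : x0 ^ (u : ZMod p).val = x0 ^ (v : ZMod p).val) : u = v := by
  rw [pow_inj_mod, h, Nat.mod_eq_of_lt (ZMod.val_lt _), Nat.mod_eq_of_lt (ZMod.val_lt _)] at huv
  exact Units.ext (ZMod.val_injective p huv)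

theorem exists_unit (P : Subgroup G) (x0 : G) (hx0 : P = Subgroup.zpowers x0)
    (h : orderOf x0 = p) (n : G) (hn : n ∈ Nz P) :
    ∃ u : (ZMod p)ˣ, n * x0 * n⁻¹ = x0 ^ (u : ZMod p).val := by
  have hp : p.Prime := Fact.out
  have hx0P : x0 ∈ P := by rw [hx0]; exact Subgroup.mem_zpowers x0
  have hmem : n * x0 * n⁻¹ ∈ P := (Subgroup.mem_normalizer_iff.mp hn x0).mp hx0P
  rw [hx0] at hmem
  obtain ⟨k, hk⟩ := Subgroup.mem_zpowers_iff.mp hmem
  have hkval : x0 ^ ((k : ZMod p).val) = x0 ^ k := by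
    rw [← zpow_natCast, ZMod.val_intCast, ← h, zpow_mod_orderOf]
  have hk0 : (k : ZMod p) ≠ 0 := by
    intro h0
    rw [h0, ZMod.val_zero, pow_zero] at hkval
    rw [← hkval] at hk
    have : x0 = 1 := by
      have h5 : n⁻¹ * (n * x0 * n⁻¹) * n = n⁻¹ * 1 * n := by rw [← hk]
      rw [show n⁻¹ * (n * x0 * n⁻¹) * n = x0 by group] at h5
      rw [h5]; group
    rw [this, orderOf_one] at h
    exact hp.one_lt.ne h
  refine ⟨Units.mk0 (k : ZMod p) hk0, ?_⟩
  rw [Units.val_mk0, hkval, hk]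

end Cfsg.Agent.Lib.Helper26.DOSETUP

namespace Cfsg.Agent.Lib.Helper26.DOSETUP

open Cfsg Cfsg.Agent.Lib.Helper8.DOM Cfsg.Agent.Lib.Helper27.DO

universe u

theorem exists_E {G : Type u} [Group G] [Finite G] {p : ℕ} [Fact p.Prime] (P : Subgroup G) (hP : Nat.card P = p) (x0 : G)
    (hx0 : P = Subgroup.zpowers x0)
    (T : Subgroup G) (hCT : Cz P ≤ T) (hTN : T ≤ Nz P) :
    ∃ E : Subgroup (ZMod p)ˣ,
      (∀ u : (ZMod p)ˣ, u ∈ E ↔ ∃ n ∈ T, n * x0 * n⁻¹ = x0 ^ (u : ZMod p).val) ∧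
      Nat.card E = (Cz P).relIndex T := by
  have hp : p.Prime := Fact.out
  have ho := orderOf_gen P hP x0 hx0
  have hex : ∀ n : T, ∃ u : (ZMod p)ˣ, (n : G) * x0 * (n : G)⁻¹ = x0 ^ (u : ZMod p).val :=
    fun n => exists_unit P x0 hx0 ho n (hTN n.2)
  choose f hf using hex
  have hmul : ∀ a b : T, f (a * b) = f a * f b := by
    intro a b
    apply unit_unique x0 ho
    rw [← hf (a * b), Units.val_mul, pow_val_mul x0 ho, pow_mul, ← hf a]
    have : ((a : G) * x0 * (a : G)⁻¹) ^ (f b : ZMod p).val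
        = (a : G) * x0 ^ (f b : ZMod p).val * (a : G)⁻¹ := by
      rw [conj_pow]
    rw [this, ← hf b]
    push_cast
    group
  let φ : T →* (ZMod p)ˣ := MonoidHom.mk' f hmul
  have hφ : ∀ n : T, φ n = f n := fun _ => rfl
  refine ⟨φ.range, ?_, ?_⟩
  · intro u
    constructor
    · rintro ⟨n, rfl⟩
      exact ⟨n, n.2, by rw [hφ]; exact hf n⟩
    · rintro ⟨n, hn, hnu⟩
      refine ⟨⟨n, hn⟩, ?_⟩
      rw [hφ]
      apply unit_unique x0 ho
      rw [← hnu]
      exact (hf ⟨n, hn⟩).symm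
  · rw [← Subgroup.index_ker]
    have hker : φ.ker = (Cz P).subgroupOf T := by
      ext n
      rw [MonoidHom.mem_ker, Subgroup.mem_subgroupOf, hφ]
      constructor
      · intro h1
        have h2 := hf n
        rw [h1, Units.val_one, ZMod.val_one_eq_one_mod, Nat.mod_eq_of_lt hp.one_lt, pow_one] at h2
        rw [hx0, Subgroup.mem_centralizer_iff]
        intro y hy
        obtain ⟨k, rfl⟩ := Subgroup.mem_zpowers_iff.mp hy
        have h3 : (n : G) * x0 = x0 * (n : G) := by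
          calc (n : G) * x0 = ((n : G) * x0 * (n : G)⁻¹) * (n : G) := by group
            _ = x0 * (n : G) := by rw [h2]
        exact ((Commute.zpow_right (show Commute (n : G) x0 from h3) k).eq).symm
      · intro hc
        apply unit_unique x0 ho
        rw [← hf n, Units.val_one, ZMod.val_one_eq_one_mod, Nat.mod_eq_of_lt hp.one_lt, pow_one]
        have hx0P : x0 ∈ (P : Set G) := by rw [hx0]; exact Subgroup.mem_zpowers x0
        have := (Subgroup.mem_centralizer_iff.mp hc) x0 hx0P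
        rw [← this]; group
    rw [hker]
    rfl

end Cfsg.Agent.Lib.Helper26.DOSETUP
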