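import Mathlib

/-!
# S3390 (fixity-2 transitive groups, Sylow 2-subgroups): shared definitions
-/

set_option autoImplicit false

namespace Cfsg.Agent.Lib.Helper26.F2

open MulAction Subgroup

/-- "fixity ≤ 2" in the form used by all S3390 leaves: no nonidentity element fixes three distinct
points. -/
def Fix3 (G : Type*) [Group G] (Ω : Type*) [MulAction G Ω] : Prop :=
  ∀ g : G, g ≠ 1 → ∀ a b c : Ω, a ≠ b → a ≠ c → b ≠ c → g • a = a → g • b = b → g • c = c → False

/-- `|P : P ∩ K| · |P ∩ K| = |P|`. -/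
theorem relIndex_mul_card_inf {G : Type*} [Group G] (P : Subgroup G) (K : Subgroup G) :
    (P ⊓ K).relIndex P * Nat.card ↥(P ⊓ K) = Nat.card ↥P := by
  have h := Subgroup.relIndex_mul_relIndex (⊥ : Subgroup G) (P ⊓ K) P bot_le inf_le_left
  rw [Subgroup.relIndex_bot_left, Subgroup.relIndex_bot_left] at h
  rw [mul_comm]; exact h

end Cfsg.Agent.Lib.Helper26.F2
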