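/-
helper26: vocabulary for S4017 (3u, finite_group_structure):
"p divides the order of every proper subgroup of mixed order (neither a q-group nor a q'-group);
 p > q^a - 1, or p = q^a - 1 with abelian Sylow p-subgroups  ==>  |G| = p^x q^y".
planner helper26; leaves in notes/S4017_leaves.lean.
-/
import Mathlib
import Cfsg.Prelude.Def_Local

set_option autoImplicit false

namespace Cfsg.Agent.Lib.Helper26.Mix

universe u

/-- the hypotheses of S4017 -/
structure Hyp (G : Type u) [Group G] (p q : ℕ) : Prop where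
  hp : p.Prime
  hq : q.Prime
  hpq : p ≠ q
  hp2 : p ≠ 2
  hpG : p ∣ Nat.card G
  hqG : q ∣ Nat.card G
  hmix : ∀ H : Subgroup G, H ≠ ⊤ → ¬ IsPGroup q H → q ∣ Nat.card H → p ∣ Nat.card H
  hlarge : q ^ (Nat.card G).factorization q - 1 < p ∨
      (p = q ^ (Nat.card G).factorization q - 1 ∧ ∀ P : Sylow p G, IsMulCommutative P)

/-- the conclusion of S4017 -/
def Concl (G : Type u) [Group G] (p q : ℕ) : Prop :=
  ∀ r : ℕ, r.Prime → r ∣ Nat.card G → r = p ∨ r = q

/-- the induction hypothesis: S4017 for all groups (in the same universe) of order `< n` -/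
def IH (p q n : ℕ) : Prop :=
  ∀ (G' : Type u) [Group G'] [Finite G'], Nat.card G' < n → Hyp G' p q → Concl G' p q

/-- every subgroup (the whole group included) whose order is divisible by `q` and which is not a
`q`-group has order divisible by `p` -/
def Viol (G : Type u) [Group G] (p q : ℕ) : Prop :=
  ∀ H : Subgroup G, q ∣ Nat.card H → ¬ IsPGroup q H → p ∣ Nat.card H

/-- there is a third prime -/
def Third (G : Type u) [Group G] (p q : ℕ) : Prop :=
  ∃ r : ℕ, r.Prime ∧ r ∣ Nat.card G ∧ r ≠ p ∧ r ≠ q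

/-- The critical configuration (`q = 2`, `p = 2^a - 1`): `Q` an elementary abelian Sylow `2`-subgroup of
order `2^a = p + 1`, `g` a `p`-element normalizing `Q` and permuting `Q \ 1` transitively; every proper
subgroup of even order is a `{2,p}`-group; `p`-subgroups are abelian. -/
structure Ctx (G : Type u) [Group G] (p a : ℕ) (Q : Subgroup G) (g : G) : Prop where
  hp : p.Prime
  hp2 : p ≠ 2
  ha : 2 ≤ a
  hpa : p + 1 = 2 ^ a
  hQcard : Nat.card Q = 2 ^ a
  hQsyl : (Nat.card G).factorization 2 = a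
  hQab : ∀ u ∈ Q, ∀ v ∈ Q, u * v = v * u
  hQexp : ∀ u ∈ Q, u * u = 1
  hgN : g ∈ Subgroup.normalizer (Q : Set G)
  hgp : ∃ k : ℕ, g ^ p ^ k = 1
  htrans : ∀ u ∈ Q, u ≠ 1 → ∀ v ∈ Q, v ≠ 1 → ∃ i : ℕ, g ^ i * u * (g ^ i)⁻¹ = v
  hstar : ∀ H : Subgroup G, H ≠ ⊤ → 2 ∣ Nat.card H →
    ∀ s : ℕ, s.Prime → s ∣ Nat.card H → s = 2 ∨ s = p
  hviol : Viol G p 2
  hab : ∀ S : Subgroup G, IsPGroup p S → ∀ x ∈ S, ∀ y ∈ S, x * y = y * x
  hpG : p ∣ Nat.card G

/-- `G` is simple (elementwise form) -/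
def Simple (G : Type u) [Group G] : Prop :=
  ∀ N : Subgroup G, N.Normal → N = ⊥ ∨ N = ⊤

/-- `Q` centralizes the cores `O(C_G(t))`, `t ∈ Q \ 1` -/
def Comm (G : Type u) [Group G] (Q : Subgroup G) : Prop :=
  ∀ t ∈ Q, t ≠ 1 → ∀ w ∈ Cfsg.centralizerPPrimeCore 2 t, ∀ u ∈ Q, w * u = u * w

end Cfsg.Agent.Lib.Helper26.Mix
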