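import Mathlib
import Cfsg.Prelude.Def_GeometricClasses
import Cfsg.Agent.Lib.Helper20.AschDefs
import Cfsg.Agent.Lib.Helper20.FCDefs
import Cfsg.Agent.Lib.Helper7.AschForms

/-!
helper26: FORM-CLIFFORD block (helper20's market, `notes/FC_leaves.lean`), leaves (A1) `exists_ladj`, (A2) `exists_radj`:
left and right adjoints of a matrix with respect to a reflexive non-degenerate `σ`-sesquilinear form, via the Gram matrix.
-/

set_option autoImplicit false
set_option linter.unusedSectionVars false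
set_option linter.unusedVariables false

namespace Cfsg.Agent.Lib.Helper26.FCLeaf
open Matrix Cfsg.Geo Cfsg.Agent.Lib.Helper20.Asch Cfsg.Agent.Lib.Helper20.FC
open Cfsg.Agent.Lib.Helper7.AschLeaf

variable {F : Type*} [Field F] [Fintype F] {n : ℕ}

/-- the Gram representation of an `RSForm` -/
lemma rsform_rep26 {σ : F →+* F} {f : (Fin n → F) → (Fin n → F) → F} (hf : RSForm σ f)
    (u v : Fin n → F) : f u v = u ⬝ᵥ gramF f *ᵥ vmap σ v :=
  rep_of σ f hf.add_left hf.smul_left hf.add_right hf.smul_right u v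

lemma rsform_gram_det26 {σ : F →+* F} {f : (Fin n → F) → (Fin n → F) → F} (hf : RSForm σ f) :
    (gramF f).det ≠ 0 :=
  gram_det_ne_zero' σ f (rsform_rep26 hf) hf.nondeg

lemma mulVec_dot26 (g : Matrix (Fin n) (Fin n) F) (u w : Fin n → F) :
    (g *ᵥ u) ⬝ᵥ w = u ⬝ᵥ gᵀ *ᵥ w := by
  rw [dotProduct_comm, Matrix.dotProduct_mulVec, ← Matrix.mulVec_transpose, dotProduct_comm]

/-- (A1) LEFT ADJOINT -/
theorem exists_ladj {σ : F →+* F} {f : (Fin n → F) → (Fin n → F) → F} (hf : RSForm σ f)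
    (T : Matrix (Fin n) (Fin n) F) :
    ∃ T' : Matrix (Fin n) (Fin n) F, ∀ u v, f (T' *ᵥ u) v = f u (T *ᵥ v) := by
  classical
  have hJ : IsUnit (gramF f).det := isUnit_iff_ne_zero.2 (rsform_gram_det26 hf)
  refine ⟨(gramF f * T.map σ * (gramF f)⁻¹)ᵀ, ?_⟩
  intro u v
  rw [rsform_rep26 hf, rsform_rep26 hf, mulVec_dot26, Matrix.transpose_transpose, Matrix.mulVec_mulVec,
    Matrix.mul_assoc, Matrix.nonsing_inv_mul _ hJ, Matrix.mul_one, vmap_mulVec, Matrix.mulVec_mulVec]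

/-- (A2) RIGHT ADJOINT -/
theorem exists_radj {σ : F →+* F} {f : (Fin n → F) → (Fin n → F) → F} (hf : RSForm σ f)
    (T : Matrix (Fin n) (Fin n) F) :
    ∃ T' : Matrix (Fin n) (Fin n) F, ∀ u v, f (T *ᵥ u) v = f u (T' *ᵥ v) := by
  classical
  have hJ : IsUnit (gramF f).det := isUnit_iff_ne_zero.2 (rsform_gram_det26 hf)
  have hsurj : Function.Surjective σ := Finite.injective_iff_surjective.1 σ.injective
  let B : Matrix (Fin n) (Fin n) F := (gramF f)⁻¹ * Tᵀ * gramF f
  let T' : Matrix (Fin n) (Fin n) F := Matrix.of fun i j => Classical.choose (hsurj (B i j))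
  have hT' : T'.map σ = B := by
    ext i j
    rw [Matrix.map_apply]
    exact Classical.choose_spec (hsurj (B i j))
  refine ⟨T', ?_⟩
  intro u v
  rw [rsform_rep26 hf, rsform_rep26 hf, mulVec_dot26, Matrix.mulVec_mulVec, vmap_mulVec,
    Matrix.mulVec_mulVec, hT']
  change _ = u ⬝ᵥ (gramF f * ((gramF f)⁻¹ * Tᵀ * gramF f)) *ᵥ vmap σ v
  rw [Matrix.mul_assoc, ← Matrix.mul_assoc (gramF f), Matrix.mul_nonsing_inv _ hJ, Matrix.one_mul]

end Cfsg.Agent.Lib.Helper26.FCLeaf
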