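import Mathlib
import Cfsg.Agent.Lib.Helper29.SpPrfDefs
import Cfsg.Agent.Lib.Helper20.AschA89Main
import Cfsg.Agent.Lib.Helper17.SpAschQ0
import Cfsg.Agent.Lib.Helper17.SpAschZ
import Cfsg.Agent.Lib.Helper28.SLMP7core

/-!
helper26: S5662 market PRF (helper29, `notes/S5662_PRF_leaves.lean`), leaves A5 `gram_ptens_of_adj`, A6 `wreath_data`.
-/

set_option autoImplicit false
set_option linter.unusedSectionVars false
set_option linter.unusedVariables false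

namespace Cfsg.Agent.Lib.Helper26.SpPrfLeaf
open Matrix Cfsg Cfsg.Geo Cfsg.Agent.Lib.Helper20.Asch Cfsg.Agent.Lib.Helper29.SpAsch
  Cfsg.Agent.Lib.Helper18.AschA89
open Cfsg.Agent.Lib.Helper20.AschLeaf
open scoped Kronecker

variable {F : Type*} [Field F] [Fintype F] {n m : ℕ} {J : Matrix (Fin n) (Fin n) F}
  {H N : Subgroup (GL (Fin n) F)}

/-- transpose of a slot matrix (local copy of A1) -/
lemma slot_transpose26 (s t : ℕ) (i : Fin t) (A : Matrix (Fin s) (Fin s) F) :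
    (slot s t i A)ᵀ = slot s t i Aᵀ := by
  ext x y
  rw [Matrix.transpose_apply, slot_apply, slot_apply, Matrix.transpose_apply]
  have : (∀ j, j ≠ i → y j = x j) ↔ (∀ j, j ≠ i → x j = y j) :=
    ⟨fun h j hj => (h j hj).symm, fun h j hj => (h j hj).symm⟩
  simp only [this]

/-- (A6) WREATH DATA (exact signature of `notes/S5662_PRF_leaves.lean`) -/
theorem wreath_data {s t : ℕ} (hs : 0 < s) (g gi : Matrix (Fin t → Fin s) (Fin t → Fin s) F)
    (h1 : g * gi = 1) (h2 : gi * g = 1) (σ : Equiv.Perm (Fin t))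
    (hg : ∀ i, ∀ A : Matrix (Fin s) (Fin s) F, ∃ A' : Matrix (Fin s) (Fin s) F,
      g * slot s t i A * gi = slot s t (σ i) A') :
    ∃ (c : F) (a : Fin t → Matrix (Fin s) (Fin s) F), c ≠ 0 ∧ (∀ i, IsUnit (a i).det) ∧
      g = c • (fperm s t σ * ptens s t a) := by
  have e1 : (fperm s t σ⁻¹ * g) * (gi * fperm s t σ) = 1 := by
    calc (fperm s t σ⁻¹ * g) * (gi * fperm s t σ) = fperm s t σ⁻¹ * (g * gi) * fperm s t σ := by
          simp only [mul_assoc]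
      _ = 1 := by rw [h1, mul_one, wr_fperm_inv_mul]
  have e2 : (gi * fperm s t σ) * (fperm s t σ⁻¹ * g) = 1 := by
    calc (gi * fperm s t σ) * (fperm s t σ⁻¹ * g) = gi * (fperm s t σ * fperm s t σ⁻¹) * g := by
          simp only [mul_assoc]
      _ = 1 := by rw [wr_fperm_mul_inv, mul_one, h2]
  have hn : ∀ i, ∀ A : Matrix (Fin s) (Fin s) F, ∃ A' : Matrix (Fin s) (Fin s) F,
      (fperm s t σ⁻¹ * g) * slot s t i A * (gi * fperm s t σ) = slot s t i A' := by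
    intro i A
    obtain ⟨A', hA'⟩ := hg i A
    refine ⟨A', ?_⟩
    calc (fperm s t σ⁻¹ * g) * slot s t i A * (gi * fperm s t σ)
        = fperm s t σ⁻¹ * (g * slot s t i A * gi) * fperm s t σ := by simp only [mul_assoc]
      _ = fperm s t σ⁻¹ * slot s t (σ i) A' * fperm s t (σ⁻¹)⁻¹ := by rw [hA', inv_inv]
      _ = slot s t (σ⁻¹ (σ i)) A' := wr_fperm_conj_slot s t σ⁻¹ (σ i) A'
      _ = slot s t i A' := by rw [Equiv.Perm.inv_def, Equiv.symm_apply_apply]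
  obtain ⟨c, a, hc, ha, hga⟩ := wr_pure_of_normalizes s hs t _ _ e1 e2 hn
  refine ⟨c, a, hc, ha, ?_⟩
  have : g = fperm s t σ * (fperm s t σ⁻¹ * g) := by
    rw [← mul_assoc, wr_fperm_mul_inv, one_mul]
  rw [this, hga, Matrix.mul_smul]

/-- (A5) A GRAM MATRIX WHOSE ADJOINT PRESERVES EVERY SLOT ALGEBRA IS A MULTIPLE OF A PURE TENSOR
(exact signature of `notes/S5662_PRF_leaves.lean`) -/
theorem gram_ptens_of_adj {s t : ℕ} (hs : 0 < s) (G' : Matrix (Fin t → Fin s) (Fin t → Fin s) F)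
    (hG' : G'.det ≠ 0)
    (hadj : ∀ i, ∀ A : Matrix (Fin s) (Fin s) F, ∃ A' : Matrix (Fin s) (Fin s) F,
      adjM G' (slot s t i A) = slot s t i A')
    (hinv : ∀ T : Matrix (Fin t → Fin s) (Fin t → Fin s) F, adjM G' (adjM G' T) = T) :
    ∃ (c : F) (G : Fin t → Matrix (Fin s) (Fin s) F), c ≠ 0 ∧ (∀ i, IsUnit (G i).det) ∧
      G' = c • ptens s t G := by
  have e1 : G' * G'⁻¹ = 1 := Matrix.mul_nonsing_inv G' (Ne.isUnit hG')
  have e2 : G'⁻¹ * G' = 1 := Matrix.nonsing_inv_mul G' (Ne.isUnit hG')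
  refine wr_pure_of_normalizes s hs t G' G'⁻¹ e1 e2 ?_
  intro i B
  obtain ⟨A₁, hA₁⟩ := hadj i B
  refine ⟨A₁ᵀ, ?_⟩
  have h3 : slot s t i B = G'⁻¹ * (slot s t i A₁)ᵀ * G' := by
    have := hinv (slot s t i B)
    rw [hA₁] at this
    rw [← this]
    rfl
  rw [h3, ← slot_transpose26]
  calc G' * (G'⁻¹ * (slot s t i A₁)ᵀ * G') * G'⁻¹
      = (G' * G'⁻¹) * (slot s t i A₁)ᵀ * (G' * G'⁻¹) := by simp only [mul_assoc]
    _ = (slot s t i A₁)ᵀ := by rw [e1, one_mul, mul_one]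

end Cfsg.Agent.Lib.Helper26.SpPrfLeaf
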