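import Mathlib
import Cfsg.Agent.Lib.Helper29.SpPrfDefs
import Cfsg.Agent.Lib.Helper20.AschA89Main
import Cfsg.Agent.Lib.Helper17.SpAschQ0
import Cfsg.Agent.Lib.Helper17.SpAschZ
import Cfsg.Agent.Lib.Helper28.SLMP7core
import Cfsg.Agent.Lib.Helper19.SpPrfA

/-!
helper26: S5662 market PRF (helper29, `notes/S5662_PRF_leaves.lean`), leaves A7 `congr_of_isometry`, E3 `symm_type`
(on helper19's A2 A3 A4).
-/

set_option autoImplicit false
set_option linter.unusedSectionVars false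
set_option linter.unusedVariables false

namespace Cfsg.Agent.Lib.Helper26.SpPrfLeaf
open Matrix Cfsg Cfsg.Geo Cfsg.Agent.Lib.Helper20.Asch Cfsg.Agent.Lib.Helper29.SpAsch
  Cfsg.Agent.Lib.Helper18.AschA89
open Cfsg.Agent.Lib.Helper20.AschLeaf
open scoped Kronecker

variable {F : Type*} [Field F] [Fintype F] {n m : ℕ} {J : Matrix (Fin n) (Fin n) F}
  {H N : Subgroup (GL (Fin n) F)}

/-- (A7) an isometry `c • fperm σ * ptens a` of `cJ • ptens G` gives similarities between the factors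
(exact signature of `notes/S5662_PRF_leaves.lean`) -/
theorem congr_of_isometry {s t : ℕ} (G a : Fin t → Matrix (Fin s) (Fin s) F) (hG : ∀ i, G i ≠ 0)
    (cJ c : F) (hcJ : cJ ≠ 0) (hc : c ≠ 0) (σ : Equiv.Perm (Fin t))
    (h : (c • (fperm s t σ * ptens s t a))ᵀ * (cJ • ptens s t G) * (c • (fperm s t σ * ptens s t a)) =
      cJ • ptens s t G) :
    ∀ i, ∃ d : F, d ≠ 0 ∧ (a i)ᵀ * G (σ i) * a i = d • G i := by
  have hconj : fperm s t σ⁻¹ * ptens s t G * fperm s t σ = ptens s t (fun j => G (σ j)) := by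
    have := Cfsg.Agent.Lib.Helper19.SpPrfLeaf.fperm_conj_ptens s t σ⁻¹ G
    rw [inv_inv] at this
    exact this
  have hmat : ptens s t (fun i => (a i)ᵀ) * fperm s t σ⁻¹ * ptens s t G * (fperm s t σ * ptens s t a) =
      ptens s t (fun j => (a j)ᵀ * G (σ j) * a j) := by
    calc ptens s t (fun i => (a i)ᵀ) * fperm s t σ⁻¹ * ptens s t G * (fperm s t σ * ptens s t a)
        = ptens s t (fun i => (a i)ᵀ) * (fperm s t σ⁻¹ * ptens s t G * fperm s t σ) * ptens s t a := by
          simp only [mul_assoc]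
      _ = ptens s t (fun j => (a j)ᵀ * G (σ j) * a j) := by
          rw [hconj, ptens_mul, ptens_mul]
  have hL : (c • (fperm s t σ * ptens s t a))ᵀ * (cJ • ptens s t G) * (c • (fperm s t σ * ptens s t a)) =
      (c * cJ * c) • ptens s t (fun j => (a j)ᵀ * G (σ j) * a j) := by
    rw [Matrix.transpose_smul, Matrix.transpose_mul, Cfsg.Agent.Lib.Helper19.SpPrfLeaf.fperm_transpose,
      ptens_transpose]
    simp only [Matrix.smul_mul, Matrix.mul_smul, smul_smul, hmat]
    congr 1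
    ring
  rw [hL] at h
  have hcc : c * cJ * c ≠ 0 := mul_ne_zero (mul_ne_zero hc hcJ) hc
  have h' : ptens s t (fun j => (a j)ᵀ * G (σ j) * a j) = ((c * cJ * c)⁻¹ * cJ) • ptens s t G := by
    have := congrArg (fun X => (c * cJ * c)⁻¹ • X) h
    simp only [smul_smul, inv_mul_cancel₀ hcc, one_smul] at this
    exact this
  obtain ⟨d, hd0, hd, -⟩ := Cfsg.Agent.Lib.Helper19.SpPrfLeaf.ptens_eq_smul_ptens
    (fun j => (a j)ᵀ * G (σ j) * a j) G _ (mul_ne_zero (inv_ne_zero hcc) hcJ) hG h'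
  intro i
  exact ⟨d i, hd0 i, hd i⟩

/-- (E3) THE SYMMETRY TYPE (exact signature of `notes/S5662_PRF_leaves.lean`) -/
theorem symm_type {s t : ℕ} (ht : 0 < t) (c : F) (hc : c ≠ 0) (G₀ : Matrix (Fin s) (Fin s) F) (hG₀ : G₀ ≠ 0)
    (M : Matrix (Fin t → Fin s) (Fin t → Fin s) F) (hM : Mᵀ = -M) (hgram : M = c • ptens s t (fun _ => G₀)) :
    ∃ ε : F, G₀ᵀ = ε • G₀ ∧ ε * ε = 1 ∧ ε ^ t = -1 := by
  have h1 : ptens s t (fun _ : Fin t => G₀ᵀ) = (-1 : F) • ptens s t (fun _ => G₀) := by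
    rw [hgram, Matrix.transpose_smul, ptens_transpose] at hM
    have := congrArg (fun X => c⁻¹ • X) hM
    simp only [smul_smul, smul_neg, inv_mul_cancel₀ hc, one_smul] at this
    rw [this, neg_smul, one_smul]
  obtain ⟨d, hd0, hd, hprod⟩ := Cfsg.Agent.Lib.Helper19.SpPrfLeaf.ptens_eq_smul_ptens
    (fun _ : Fin t => G₀ᵀ) (fun _ => G₀) (-1) (by simp) (fun _ => hG₀) h1
  obtain ⟨u, v, huv⟩ : ∃ u v, G₀ u v ≠ 0 := by
    by_contra hne
    apply hG₀
    ext u v
    by_contra huv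
    exact hne ⟨u, v, huv⟩
  have hcancel : ∀ x y : F, x • G₀ = y • G₀ → x = y := by
    intro x y hxy
    have := congrFun (congrFun hxy u) v
    simp only [Matrix.smul_apply, smul_eq_mul] at this
    exact mul_right_cancel₀ huv this
  set i₀ : Fin t := ⟨0, ht⟩ with hi₀
  have hall : ∀ i, d i = d i₀ := by
    intro i
    apply hcancel
    rw [← hd i, ← hd i₀]
  refine ⟨d i₀, hd i₀, ?_, ?_⟩
  · have h2 : G₀ = (d i₀ * d i₀) • G₀ := by
      have := congrArg Matrix.transpose (hd i₀)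
      simp only [Matrix.transpose_transpose, Matrix.transpose_smul] at this
      rw [hd i₀, smul_smul] at this
      exact this
    have := hcancel 1 (d i₀ * d i₀) (by rw [one_smul]; exact h2)
    exact this.symm
  · rw [← hprod]
    rw [Finset.prod_congr rfl (fun i _ => hall i), Finset.prod_const, Finset.card_univ, Fintype.card_fin]

end Cfsg.Agent.Lib.Helper26.SpPrfLeaf
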