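import Mathlib
import Cfsg.Prelude.Def_ClassicalGeometry
import Cfsg.Prelude.Def_GeometricClasses
import Cfsg.Agent.Lib.Helper5.TSMax
import Cfsg.Agent.Lib.Helper19.OSubDefs
import Cfsg.Agent.Lib.Helper19.OSubBasic

/-!
S5683 / S5702 (helper19's market), leaf N1 (`ratNS`) in core form: the leaves it depends on
(T1, T2, C1 = nr, RD, F1) enter as explicit hypotheses (`T1Stmt`, `T2Stmt`, `NRStmt`, `RDStmt`,
a frame).
-/

set_option autoImplicit false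
set_option linter.unusedSectionVars false
set_option linter.unusedVariables false

namespace Cfsg.Agent.Lib.Helper26.OSubLeaf
open Cfsg Matrix QuadraticMap Module Cfsg.Agent.Lib.Helper25.Siegel Cfsg.Agent.Lib.Helper19.OSub
open scoped commutatorElement

variable {ι : Type} [Fintype ι] [DecidableEq ι] {F : Type*} [Field F] [Fintype F]
  {F₀ : Subfield F} {Q : QuadraticForm F (ι → F)} {M : Subgroup (GL ι F)}

/-- statement of leaf T1 (`exists_H0_map_pt`) -/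
def T1Stmt (F₀ : Subfield F) (Q : QuadraticForm F (ι → F)) : Prop :=
  ∀ {a a' : ι → F}, RatV F₀ a → a ≠ 0 → Q a = 0 → RatV F₀ a' → a' ≠ 0 → Q a' = 0 →
    ∃ g ∈ H0 F₀ Q, (∀ x, RatV F₀ x → RatV F₀ (mv g x)) ∧ (∀ x, RatV F₀ x → RatV F₀ (mv g⁻¹ x)) ∧
      ∃ s ∈ F₀, s ≠ 0 ∧ mv g a = s • a'

/-- statement of leaf T2 (`exists_H0_map_pair`) -/
def T2Stmt (F₀ : Subfield F) (Q : QuadraticForm F (ι → F)) : Prop :=
  ∀ {a v a' v' : ι → F}, RatV F₀ a → RatV F₀ v → RatV F₀ a' → RatV F₀ v' → Q a = 0 → Q v = 0 →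
    Q a' = 0 → Q v' = 0 → polar Q a v = 0 → polar Q a' v' = 0 →
    LinearIndependent F ![a, v] → LinearIndependent F ![a', v'] →
    ∃ g ∈ H0 F₀ Q, (∀ x, RatV F₀ x → RatV F₀ (mv g x)) ∧ (∀ x, RatV F₀ x → RatV F₀ (mv g⁻¹ x)) ∧
      (∃ s ∈ F₀, s ≠ 0 ∧ mv g a = s • a') ∧ ∃ s' ∈ F₀, s' ≠ 0 ∧ mv g v = s' • v'

/-- statement of leaf C1 (`nr`) -/
def NRStmt (F₀ : Subfield F) (Q : QuadraticForm F (ι → F)) (M : Subgroup (GL ι F)) : Prop :=
  ∀ {u v : ι → F}, RatV F₀ u → RatV F₀ v → Q u = 0 → Q v = 0 → polar Q u v = 0 →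
    LinearIndependent F ![u, v] → ∀ {c : F}, rt Q u v c ∈ M → c ∈ F₀

/-- statement of leaf RD (`ratV_of_polar`) -/
def RDStmt (F₀ : Subfield F) (Q : QuadraticForm F (ι → F)) : Prop :=
  ∀ {r : ι → F}, (∀ x, RatV F₀ x → polar Q x r ∈ F₀) → RatV F₀ r

/-! ### frame bookkeeping -/

theorem fr_ef_same {k : ℕ} (fr : Frame F₀ Q k) (i : Fin k) : polar Q (fr.e i) (fr.f i) = 1 := by
  rw [fr.ef, if_pos rfl]

theorem fr_ef_ne {k : ℕ} (fr : Frame F₀ Q k) {i j : Fin k} (h : i ≠ j) :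
    polar Q (fr.e i) (fr.f j) = 0 := by
  rw [fr.ef, if_neg h]

theorem fr_fe_same {k : ℕ} (fr : Frame F₀ Q k) (i : Fin k) : polar Q (fr.f i) (fr.e i) = 1 := by
  rw [polar_comm, fr_ef_same]

theorem fr_fe_ne {k : ℕ} (fr : Frame F₀ Q k) {i j : Fin k} (h : i ≠ j) :
    polar Q (fr.f i) (fr.e j) = 0 := by
  rw [polar_comm, fr_ef_ne fr (Ne.symm h)]

theorem fr_e_ne_zero {k : ℕ} (fr : Frame F₀ Q k) (i : Fin k) : fr.e i ≠ 0 := by
  intro h
  have := fr_ef_same fr i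
  rw [h] at this
  simp at this

theorem fr_f_ne_zero {k : ℕ} (fr : Frame F₀ Q k) (i : Fin k) : fr.f i ≠ 0 := by
  intro h
  have := fr_ef_same fr i
  rw [h] at this
  simp at this

theorem fr_li_ee {k : ℕ} (fr : Frame F₀ Q k) {i j : Fin k} (h : i ≠ j) :
    LinearIndependent F ![fr.e i, fr.e j] := by
  rw [LinearIndependent.pair_iff]
  intro s t hst
  have h1 := congrArg (fun z => polar Q z (fr.f i)) hst
  have h2 := congrArg (fun z => polar Q z (fr.f j)) hst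
  simp only [polar_add_left, polar_smul_left, smul_eq_mul, fr_ef_same, fr_ef_ne fr h,
    fr_ef_ne fr (Ne.symm h)] at h1 h2
  constructor
  · simpa using h1
  · simpa using h2

/-- the commutator of two elements of a subgroup -/
theorem comm_mem {G : Type*} [Group G] (H : Subgroup G) {a b : G} (ha : a ∈ H) (hb : b ∈ H) :
    ⁅a, b⁆ ∈ H := by
  rw [commutatorElement_def]
  exact H.mul_mem (H.mul_mem (H.mul_mem ha hb) (H.inv_mem ha)) (H.inv_mem hb)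

/-- N1, the case `x = e₁`: the product of `w` with `e₁` is rational -/
theorem n1_e1 (h : Ctx F₀ Q M) (hNR : NRStmt F₀ Q M) (fr : Frame F₀ Q 6) {w : ι → F}
    (hQw : Q w = 0) (h0w : polar Q (fr.e 0) w = 0) (hM : rt Q (fr.e 0) w 1 ∈ M) :
    polar Q (fr.e 1) w ∈ F₀ := by
  have h1M : rt Q (fr.e 2) (fr.e 1) 1 ∈ M :=
    h.le (rt_mem_H0 h.toQCtx (fr.rat_e 2) (fr.rat_e 1) F₀.one_mem)
  have h2M : rt Q (fr.f 2) (fr.e 3) 1 ∈ M :=
    h.le (rt_mem_H0 h.toQCtx (fr.rat_f 2) (fr.rat_e 3) F₀.one_mem)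
  have c1 := rt_comm1 (Q := Q) (a := fr.e 0) (w := w) (u := fr.e 2) (v := fr.e 1) (fr.Qe 0) hQw
    (fr.Qe 2) (fr.Qe 1) h0w (fr.ee 0 2) (fr.ee 0 1) (fr.ee 2 1)
  have hb'M := comm_mem M hM h1M
  rw [c1] at hb'M
  obtain ⟨b', hb'⟩ : ∃ b', b' = polar Q (fr.e 1) w • fr.e 2 - polar Q (fr.e 2) w • fr.e 1 :=
    ⟨_, rfl⟩
  rw [← hb'] at hb'M
  have hQb' : Q b' = 0 := by
    rw [hb', sub_eq_add_neg, ← neg_smul, Cfsg.Agent.Lib.Helper25.MaxTS.Q_add,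
      QuadraticMap.map_smul, QuadraticMap.map_smul, fr.Qe 2, fr.Qe 1, polar_smul_left,
      polar_smul_right, fr.ee 2 1]
    simp
  have h0b' : polar Q (fr.e 0) b' = 0 := by
    rw [hb', polar_sub_right, polar_smul_right, polar_smul_right, fr.ee 0 2, fr.ee 0 1]
    simp
  have h02 : polar Q (fr.e 0) (fr.f 2) = 0 := fr_ef_ne fr (by decide)
  have h23 : polar Q (fr.f 2) (fr.e 3) = 0 := fr_fe_ne fr (by decide)
  have c2 := rt_comm1 (Q := Q) (a := fr.e 0) (w := b') (u := fr.f 2) (v := fr.e 3) (fr.Qe 0) hQb'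
    (fr.Qf 2) (fr.Qe 3) h0b' h02 (fr.ee 0 3) h23
  have h3M := comm_mem M hb'M h2M
  rw [c2] at h3M
  have e1 : polar Q (fr.e 3) b' = 0 := by
    rw [hb', polar_sub_right, polar_smul_right, polar_smul_right, fr.ee 3 2, fr.ee 3 1]
    simp
  have e2 : polar Q (fr.f 2) b' = polar Q (fr.e 1) w := by
    rw [hb', polar_sub_right, polar_smul_right, polar_smul_right, fr_fe_same,
      fr_fe_ne fr (by decide : (2 : Fin 6) ≠ 1)]
    simp
  rw [e1, e2, zero_smul, zero_sub, ← neg_smul,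
    rt_smul_right (fr.Qe 0) (fr.Qe 3) (fr.ee 0 3)] at h3M
  have := hNR (fr.rat_e 0) (fr.rat_e 3) (fr.Qe 0) (fr.Qe 3) (fr.ee 0 3)
    (fr_li_ee fr (by decide)) h3M
  rw [mul_one] at this
  have h' := F₀.neg_mem this
  rwa [neg_neg] at h'

/-- N1, rational singular `x ⊥ e₀`: the product with `w` is rational -/
theorem n1_sing (h : Ctx F₀ Q M) (hT2 : T2Stmt F₀ Q) (hNR : NRStmt F₀ Q M) (fr : Frame F₀ Q 6)
    {w : ι → F} (hQw : Q w = 0) (h0w : polar Q (fr.e 0) w = 0) (hM : rt Q (fr.e 0) w 1 ∈ M)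
    {x : ι → F} (hx : RatV F₀ x) (hQx : Q x = 0) (h0x : polar Q (fr.e 0) x = 0) :
    polar Q x w ∈ F₀ := by
  by_cases hli : LinearIndependent F ![fr.e 0, x]
  · obtain ⟨g, hgH, -, -, ⟨s, hs, hs0, hga⟩, s', hs', hs'0, hgx⟩ :=
      hT2 (fr.rat_e 0) hx (fr.rat_e 0) (fr.rat_e 1) (fr.Qe 0) hQx (fr.Qe 0) (fr.Qe 1) h0x
        (fr.ee 0 1) hli (fr_li_ee fr (by decide))
    have hgM : g ∈ M := h.le hgH
    have hgI : g ∈ Cfsg.isometryGroup F ⇑Q := omegaGL_le_iso (h.le_om hgM)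
    have hQgw : Q (mv g w) = 0 := by rw [iso_Q hgI, hQw]
    have h0gw : polar Q (fr.e 0) (mv g w) = 0 := by
      have := iso_polar hgI (fr.e 0) w
      rw [hga, polar_smul_left, h0w, smul_eq_mul] at this
      exact (mul_eq_zero.mp this).resolve_left hs0
    have hc : g * rt Q (fr.e 0) w 1 * g⁻¹ ∈ M := M.mul_mem (M.mul_mem hgM hM) (M.inv_mem hgM)
    rw [conj_rt hgI, hga, rt_smul_left (fr.Qe 0) hQgw h0gw,
      ← rt_smul_right (fr.Qe 0) hQgw h0gw] at hc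
    have hQw2 : Q (s • mv g w) = 0 := by rw [QuadraticMap.map_smul, hQgw, smul_zero]
    have h0w2 : polar Q (fr.e 0) (s • mv g w) = 0 := by
      rw [polar_smul_right, h0gw, smul_zero]
    have key := n1_e1 h hNR fr hQw2 h0w2 hc
    -- `B(e₁, s g w) = s s'⁻¹ B(x, w)`
    have e1 : polar Q (s' • fr.e 1) (mv g w) = polar Q x w := by
      rw [← hgx]; exact iso_polar hgI x w
    rw [polar_smul_left, smul_eq_mul] at e1
    rw [polar_smul_right, smul_eq_mul] at key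
    have : polar Q x w = s' * s⁻¹ * (s * polar Q (fr.e 1) (mv g w)) := by
      rw [← e1]; field_simp
    rw [this]
    exact F₀.mul_mem (F₀.mul_mem hs' (F₀.inv_mem hs)) key
  · rw [LinearIndependent.pair_iff' (fr_e_ne_zero fr 0)] at hli
    push Not at hli
    obtain ⟨a, ha⟩ := hli
    rw [← ha, polar_smul_left, h0w, smul_zero]
    exact F₀.zero_mem

/-- own copy of the decomposition SP, specialised: a rational `x ⊥ e₀` is
`s + c₂ f₁ + c₃ e₁` with `s` rational singular `⊥ e₀`, `c₂, c₃ ∈ F₀` -/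
theorem n1_decomp (h : QCtx F₀ Q) (fr : Frame F₀ Q 6) {x : ι → F} (hx : RatV F₀ x)
    (h0x : polar Q (fr.e 0) x = 0) :
    ∃ (s : ι → F) (c₂ c₃ : F), RatV F₀ s ∧ Q s = 0 ∧ polar Q (fr.e 0) s = 0 ∧ c₂ ∈ F₀ ∧ c₃ ∈ F₀ ∧
      x = s + c₂ • fr.f 1 + c₃ • fr.e 1 := by
  obtain ⟨β, hβ⟩ : ∃ β, β = polar Q (fr.f 1) x := ⟨_, rfl⟩
  obtain ⟨γ, hγ⟩ : ∃ γ, γ = polar Q (fr.e 1) x := ⟨_, rfl⟩
  have hβ0 : β ∈ F₀ := by rw [hβ]; exact ratV_polar h (fr.rat_f 1) hx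
  have hγ0 : γ ∈ F₀ := by rw [hγ]; exact ratV_polar h (fr.rat_e 1) hx
  obtain ⟨x'', hx''⟩ : ∃ x'', x'' = x - β • fr.e 1 - γ • fr.f 1 := ⟨_, rfl⟩
  have hx''r : RatV F₀ x'' := by
    rw [hx'']
    exact ratV_sub (ratV_sub hx (ratV_smul hβ0 (fr.rat_e 1))) (ratV_smul hγ0 (fr.rat_f 1))
  have hq : Q x'' ∈ F₀ := h.ratQ _ hx''r
  have h01 : polar Q (fr.e 0) (fr.f 1) = 0 := fr_ef_ne fr (by decide)
  have e1 : polar Q (fr.e 1) x'' = 0 := by
    rw [hx'', polar_sub_right, polar_sub_right, polar_smul_right, polar_smul_right, fr.ee 1 1,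
      fr_ef_same, ← hγ]
    simp
  have f1 : polar Q (fr.f 1) x'' = 0 := by
    rw [hx'', polar_sub_right, polar_sub_right, polar_smul_right, polar_smul_right, fr.ff 1 1,
      fr_fe_same, ← hβ]
    simp
  have e0 : polar Q (fr.e 0) x'' = 0 := by
    rw [hx'', polar_sub_right, polar_sub_right, polar_smul_right, polar_smul_right, fr.ee 0 1,
      h01, h0x]
    simp
  refine ⟨x'' + fr.f 1 - Q x'' • fr.e 1, γ - 1, β + Q x'', ?_, ?_, ?_, F₀.sub_mem hγ0 F₀.one_mem,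
    F₀.add_mem hβ0 hq, ?_⟩
  · exact ratV_sub (ratV_add hx''r (fr.rat_f 1)) (ratV_smul hq (fr.rat_e 1))
  · have : x'' + fr.f 1 - Q x'' • fr.e 1 = x'' + (fr.f 1 + (-Q x'') • fr.e 1) := by
      rw [neg_smul]; abel
    rw [this, Cfsg.Agent.Lib.Helper25.MaxTS.Q_add, Cfsg.Agent.Lib.Helper25.MaxTS.Q_add_smul,
      fr.Qf 1, fr.Qe 1, fr_fe_same, polar_add_right, polar_smul_right, polar_comm Q x'' (fr.f 1),
      polar_comm Q x'' (fr.e 1), e1, f1]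
    simp
  · rw [polar_sub_right, polar_add_right, polar_smul_right, e0, h01, fr.ee 0 1]
    simp
  · rw [hx'']
    module

/-- N1 in the special position `a = e₀` -/
theorem n1_std (h : Ctx F₀ Q M) (hT2 : T2Stmt F₀ Q) (hNR : NRStmt F₀ Q M) (hRD : RDStmt F₀ Q)
    (fr : Frame F₀ Q 6) {w : ι → F} (hQw : Q w = 0) (h0w : polar Q (fr.e 0) w = 0)
    (hM : rt Q (fr.e 0) w 1 ∈ M) : ∃ θ : F, RatV F₀ (w - θ • fr.e 0) := by
  -- products with rational vectors orthogonal to `e₀`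
  have hperp : ∀ x, RatV F₀ x → polar Q (fr.e 0) x = 0 → polar Q x w ∈ F₀ := by
    intro x hx h0x
    obtain ⟨s, c₂, c₃, hs, hQs, h0s, hc₂, hc₃, hxs⟩ := n1_decomp h.toQCtx fr hx h0x
    have h01 : polar Q (fr.e 0) (fr.f 1) = 0 := fr_ef_ne fr (by decide)
    rw [hxs, polar_add_left, polar_add_left, polar_smul_left, polar_smul_left, smul_eq_mul,
      smul_eq_mul]
    exact F₀.add_mem (F₀.add_mem (n1_sing h hT2 hNR fr hQw h0w hM hs hQs h0s)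
      (F₀.mul_mem hc₂ (n1_sing h hT2 hNR fr hQw h0w hM (fr.rat_f 1) (fr.Qf 1) h01)))
      (F₀.mul_mem hc₃ (n1_sing h hT2 hNR fr hQw h0w hM (fr.rat_e 1) (fr.Qe 1) (fr.ee 0 1)))
  refine ⟨polar Q (fr.f 0) w, hRD ?_⟩
  intro x hx
  have hb : polar Q (fr.e 0) x ∈ F₀ := ratV_polar h.toQCtx (fr.rat_e 0) hx
  have hx' : RatV F₀ (x - polar Q (fr.e 0) x • fr.f 0) := ratV_sub hx (ratV_smul hb (fr.rat_f 0))
  have h0x' : polar Q (fr.e 0) (x - polar Q (fr.e 0) x • fr.f 0) = 0 := by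
    rw [polar_sub_right, polar_smul_right, fr_ef_same]
    simp
  have := hperp _ hx' h0x'
  have e : polar Q x (w - polar Q (fr.f 0) w • fr.e 0)
      = polar Q (x - polar Q (fr.e 0) x • fr.f 0) w := by
    rw [polar_sub_right, polar_smul_right, polar_sub_left, polar_smul_left,
      polar_comm Q x (fr.e 0)]
    simp only [smul_eq_mul]
    ring
  rw [e]
  exact this

/-- N1 (core form) -/
theorem ratNS_of (h : Ctx F₀ Q M) (hT1 : T1Stmt F₀ Q) (hT2 : T2Stmt F₀ Q) (hNR : NRStmt F₀ Q M)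
    (hRD : RDStmt F₀ Q) (hF1 : Nonempty (Frame F₀ Q 6)) {a w : ι → F} (ha : RatV F₀ a)
    (ha0 : a ≠ 0) (hQa : Q a = 0) (hQw : Q w = 0) (haw : polar Q a w = 0)
    (hM : rt Q a w 1 ∈ M) : ∃ θ : F, RatV F₀ (w - θ • a) := by
  obtain ⟨fr⟩ := hF1
  obtain ⟨g, hgH, hgr, hgr', s, hs, hs0, hga⟩ :=
    hT1 ha ha0 hQa (fr.rat_e 0) (fr_e_ne_zero fr 0) (fr.Qe 0)
  have hgM : g ∈ M := h.le hgH
  have hgI : g ∈ Cfsg.isometryGroup F ⇑Q := omegaGL_le_iso (h.le_om hgM)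
  have hQgw : Q (mv g w) = 0 := by rw [iso_Q hgI, hQw]
  have h0gw : polar Q (fr.e 0) (mv g w) = 0 := by
    have := iso_polar hgI a w
    rw [hga, polar_smul_left, haw, smul_eq_mul] at this
    exact (mul_eq_zero.mp this).resolve_left hs0
  have hc : g * rt Q a w 1 * g⁻¹ ∈ M := M.mul_mem (M.mul_mem hgM hM) (M.inv_mem hgM)
  rw [conj_rt hgI, hga, rt_smul_left (fr.Qe 0) hQgw h0gw,
    ← rt_smul_right (fr.Qe 0) hQgw h0gw] at hc
  have hQw2 : Q (s • mv g w) = 0 := by rw [QuadraticMap.map_smul, hQgw, smul_zero]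
  have h0w2 : polar Q (fr.e 0) (s • mv g w) = 0 := by
    rw [polar_smul_right, h0gw, smul_zero]
  obtain ⟨θ', hθ'⟩ := n1_std h hT2 hNR hRD fr hQw2 h0w2 hc
  -- pull back by `g⁻¹`
  refine ⟨θ' * s⁻¹ * s⁻¹, ?_⟩
  have h1 := hgr' _ hθ'
  have hinv : mv g⁻¹ (fr.e 0) = s⁻¹ • a := by
    have : mv g⁻¹ (mv g a) = a := mv_inv_mv g a
    rw [hga, mv_smul] at this
    rw [← this, smul_smul, inv_mul_cancel₀ hs0, one_smul]
  rw [mv_sub, mv_smul, mv_smul, mv_inv_mv, hinv, smul_smul] at h1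
  have h2 := ratV_smul (F₀.inv_mem hs) h1
  have e : s⁻¹ • (s • w - (θ' * s⁻¹) • a) = w - (θ' * s⁻¹ * s⁻¹) • a := by
    rw [smul_sub, smul_smul, smul_smul, inv_mul_cancel₀ hs0, one_smul]
    congr 2
    ring
  rwa [e] at h2

end Cfsg.Agent.Lib.Helper26.OSubLeaf
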