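import Mathlib
import Cfsg.Prelude.Def_ClassicalGeometry
import Cfsg.Prelude.Def_GeometricClasses
import Cfsg.Agent.Lib.Helper5.TSMax
import Cfsg.Agent.Lib.Helper19.OSubDefs
import Cfsg.Agent.Lib.Helper19.OSubBasic
import Cfsg.Agent.Lib.Helper26.OSubN1

/-!
S5683 / S5702 (helper19's market), leaf L1a (`rat_on_perp`) in core form: T1, N1, F1 enter as
explicit hypotheses (`T1Stmt`, `N1Stmt`, a frame).
-/

set_option autoImplicit false
set_option linter.unusedSectionVars false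
set_option linter.unusedVariables false
set_option linter.unusedSimpArgs false

namespace Cfsg.Agent.Lib.Helper26.OSubLeaf
open Cfsg Matrix QuadraticMap Module Cfsg.Agent.Lib.Helper25.Siegel Cfsg.Agent.Lib.Helper19.OSub
open scoped commutatorElement

variable {ι : Type} [Fintype ι] [DecidableEq ι] {F : Type*} [Field F] [Fintype F]
  {F₀ : Subfield F} {Q : QuadraticForm F (ι → F)} {M : Subgroup (GL ι F)}

/-- statement of leaf N1 (`ratNS`) -/
def N1Stmt (F₀ : Subfield F) (Q : QuadraticForm F (ι → F)) (M : Subgroup (GL ι F)) : Prop :=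
  ∀ {a w : ι → F}, RatV F₀ a → a ≠ 0 → Q a = 0 → Q w = 0 → polar Q a w = 0 → rt Q a w 1 ∈ M →
    ∃ θ : F, RatV F₀ (w - θ • a)

/-! ### the scaled map `φ = l • g` -/

theorem phi_polar {g : GL ι F} (hgI : g ∈ Cfsg.isometryGroup F ⇑Q) (l : F) (x y : ι → F) :
    polar Q (l • mv g x) (l • mv g y) = l * l * polar Q x y := by
  rw [polar_smul_left, polar_smul_right, iso_polar hgI, smul_eq_mul, smul_eq_mul]
  ring

theorem phi_Q {g : GL ι F} (hgI : g ∈ Cfsg.isometryGroup F ⇑Q) (l : F) (x : ι → F) :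
    Q (l • mv g x) = l * l * Q x := by
  rw [QuadraticMap.map_smul, iso_Q hgI, smul_eq_mul]

theorem phi_polar_e {g : GL ι F} (hgI : g ∈ Cfsg.isometryGroup F ⇑Q) {l : F} (hl : l ≠ 0)
    {e : ι → F} (hge : mv g e = l • e) (x : ι → F) :
    polar Q (l • mv g x) e = polar Q x e := by
  calc polar Q (l • mv g x) e = polar Q (l • mv g x) (l⁻¹ • mv g e) := by
        rw [hge, smul_smul, inv_mul_cancel₀ hl, one_smul]
    _ = l * (l⁻¹ * polar Q (mv g x) (mv g e)) := by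
        rw [polar_smul_left, polar_smul_right, smul_eq_mul, smul_eq_mul]
    _ = polar Q x e := by
        rw [iso_polar hgI, ← mul_assoc, mul_inv_cancel₀ hl, one_mul]

/-- facts about the rational parts: if `φ x = x₀ + θ e`, `φ y = y₀ + θ' e` with `x, y ⊥ e` then
`B(x₀, y₀) = l² B(x, y)`, `B(e, x₀) = 0`, `Q x₀ = l² Q x` -/
theorem dec_facts {g : GL ι F} (hgI : g ∈ Cfsg.isometryGroup F ⇑Q) {l : F} (hl : l ≠ 0)
    {e : ι → F} (hQe : Q e = 0) (hge : mv g e = l • e) {x x₀ : ι → F} {θ : F}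
    (hx : l • mv g x = x₀ + θ • e) (hex : polar Q e x = 0) :
    polar Q e x₀ = 0 ∧ Q x₀ = l * l * Q x ∧
      ∀ {y y₀ : ι → F} {θ' : F}, l • mv g y = y₀ + θ' • e → polar Q e y = 0 →
        polar Q x₀ y₀ = l * l * polar Q x y := by
  have hee : polar Q e e = 0 := polar_self_sing hQe
  obtain ⟨px, hpx⟩ : ∃ px, px = l • mv g x := ⟨_, rfl⟩
  have hpxe : polar Q px e = 0 := by rw [hpx, phi_polar_e hgI hl hge, polar_comm, hex]
  have hepx : polar Q e px = 0 := by rw [polar_comm, hpxe]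
  have hQpx : Q px = l * l * Q x := by rw [hpx, phi_Q hgI]
  rw [← hpx] at hx
  have hx0 : x₀ = px - θ • e := by rw [hx]; abel
  have h1 : polar Q e x₀ = 0 := by
    rw [hx0, polar_sub_right, polar_smul_right, hee, hepx]
    simp
  refine ⟨h1, ?_, ?_⟩
  · have : x₀ = px + (-θ) • e := by rw [hx0, neg_smul]; abel
    rw [this, Cfsg.Agent.Lib.Helper25.MaxTS.Q_add_smul, hQpx, hQe, hpxe]
    ring
  · intro y y₀ θ' hy hey
    obtain ⟨py, hpy⟩ : ∃ py, py = l • mv g y := ⟨_, rfl⟩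
    have hpye : polar Q py e = 0 := by rw [hpy, phi_polar_e hgI hl hge, polar_comm, hey]
    have hepy : polar Q e py = 0 := by rw [polar_comm, hpye]
    have hpp : polar Q px py = l * l * polar Q x y := by rw [hpx, hpy, phi_polar hgI]
    rw [← hpy] at hy
    have hy0 : y₀ = py - θ' • e := by rw [hy]; abel
    rw [hx0, hy0]
    simp only [polar_sub_left, polar_sub_right, polar_smul_left, polar_smul_right, smul_eq_mul,
      hee, hpxe, hepy, hpp]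
    ring

/-- splitting a root element whose two vectors are perturbed by multiples of `e` -/
theorem rt_split {e c₀ v₀ : ι → F} (he : Q e = 0) (hc : Q c₀ = 0) (hv : Q v₀ = 0)
    (hec : polar Q e c₀ = 0) (hev : polar Q e v₀ = 0) (hcv : polar Q c₀ v₀ = 0) (θc θv lam : F) :
    rt Q (c₀ + θc • e) (v₀ + θv • e) lam
      = rt Q c₀ v₀ lam * rt Q e (lam • (θc • v₀ - θv • c₀)) 1 := by
  have hee : polar Q e e = 0 := polar_self_sing he
  have hcc : polar Q c₀ c₀ = 0 := polar_self_sing hc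
  have hvv : polar Q v₀ v₀ = 0 := polar_self_sing hv
  have hce : polar Q c₀ e = 0 := by rw [polar_comm, hec]
  have hve : polar Q v₀ e = 0 := by rw [polar_comm, hev]
  have hvc : polar Q v₀ c₀ = 0 := by rw [polar_comm, hcv]
  have hC : Q (c₀ + θc • e) = 0 := by
    rw [Cfsg.Agent.Lib.Helper25.MaxTS.Q_add_smul, hc, he, hce]; ring
  have hV : Q (v₀ + θv • e) = 0 := by
    rw [Cfsg.Agent.Lib.Helper25.MaxTS.Q_add_smul, hv, he, hve]; ring
  have hCV : polar Q (c₀ + θc • e) (v₀ + θv • e) = 0 := by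
    simp only [polar_add_left, polar_add_right, polar_smul_left, polar_smul_right, smul_eq_mul,
      hcv, hce, hev, hee]
    ring
  obtain ⟨y', hy'⟩ : ∃ y', y' = lam • (θc • v₀ - θv • c₀) := ⟨_, rfl⟩
  have hQy' : Q y' = 0 := by
    rw [hy', QuadraticMap.map_smul, sub_eq_add_neg, ← neg_smul,
      Cfsg.Agent.Lib.Helper25.MaxTS.Q_add, QuadraticMap.map_smul, QuadraticMap.map_smul, hv, hc,
      polar_smul_left, polar_smul_right, hvc]
    simp
  have hey' : polar Q e y' = 0 := by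
    rw [hy', polar_smul_right, polar_sub_right, polar_smul_right, polar_smul_right, hev, hec]
    simp
  rw [← hy']
  apply gl_ext
  intro x
  rw [mv_mul, mv_rt hC hV hCV, mv_rt hc hv hcv, mv_rt he hQy' hey', hy']
  simp only [polar_add_left, polar_add_right, polar_smul_right, polar_smul_left, polar_sub_right,
    polar_sub_left, smul_eq_mul, hee, hcc, hvv, hce, hve, hvc, hec, hev, hcv]
  module

/-- (i): the rational part of `φ v` for a rational singular `v ⊥ e` -/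
theorem l1a_dec (h : Ctx F₀ Q M) (hN1 : N1Stmt F₀ Q M) {e : ι → F} (he : RatV F₀ e)
    (he0 : e ≠ 0) (hQe : Q e = 0) {g : GL ι F} (hg : g ∈ M) {l : F} (hge : mv g e = l • e)
    {v : ι → F} (hv : RatV F₀ v) (hQv : Q v = 0) (hev : polar Q e v = 0) :
    ∃ (v₀ : ι → F) (θ : F), RatV F₀ v₀ ∧ l • mv g v = v₀ + θ • e := by
  have hgI : g ∈ Cfsg.isometryGroup F ⇑Q := omegaGL_le_iso (h.le_om hg)
  have hQgv : Q (mv g v) = 0 := by rw [iso_Q hgI, hQv]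
  have hegv : polar Q e (mv g v) = 0 := by
    by_cases hl : l = 0
    · exfalso
      rw [hl, zero_smul] at hge
      have : mv g e = mv g 0 := by rw [hge, mv_zero]
      exact he0 (mv_injective g this)
    · have := iso_polar hgI e v
      rw [hge, polar_smul_left, hev, smul_eq_mul] at this
      exact (mul_eq_zero.mp this).resolve_left hl
  have hrM : rt Q e v 1 ∈ M := h.le (rt_mem_H0 h.toQCtx he hv F₀.one_mem)
  have hc : g * rt Q e v 1 * g⁻¹ ∈ M := M.mul_mem (M.mul_mem hg hrM) (M.inv_mem hg)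
  rw [conj_rt hgI, hge, rt_smul_left hQe hQgv hegv, ← rt_smul_right hQe hQgv hegv] at hc
  have hQw : Q (l • mv g v) = 0 := by rw [QuadraticMap.map_smul, hQgv, smul_zero]
  have hew : polar Q e (l • mv g v) = 0 := by rw [polar_smul_right, hegv, smul_zero]
  obtain ⟨θ, hθ⟩ := hN1 he he0 hQe hQw hew hc
  exact ⟨l • mv g v - θ • e, θ, hθ, by abel⟩

theorem l_ne_zero {e : ι → F} (he0 : e ≠ 0) {g : GL ι F} {l : F} (hge : mv g e = l • e) :
    l ≠ 0 := by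
  intro hl
  rw [hl, zero_smul] at hge
  have : mv g e = mv g 0 := by rw [hge, mv_zero]
  exact he0 (mv_injective g this)

/-- (iii): `φ v` is rational if a rational hyperbolic pair `c, c'` is orthogonal to `e` and `v` -/
theorem l1a_key (h : Ctx F₀ Q M) (hN1 : N1Stmt F₀ Q M) {e : ι → F} (he : RatV F₀ e)
    (he0 : e ≠ 0) (hQe : Q e = 0) {g : GL ι F} (hg : g ∈ M) {l : F} (hge : mv g e = l • e)
    (hl2 : l * l ∈ F₀) {v c c' : ι → F} (hv : RatV F₀ v) (hQv : Q v = 0)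
    (hev : polar Q e v = 0) (hc : RatV F₀ c) (hQc : Q c = 0) (hec : polar Q e c = 0)
    (hc' : RatV F₀ c') (hQc' : Q c' = 0) (hec' : polar Q e c' = 0) (hcv : polar Q c v = 0)
    (hc'v : polar Q c' v = 0) (hcc' : polar Q c c' = 1) : RatV F₀ (l • mv g v) := by
  have hgI : g ∈ Cfsg.isometryGroup F ⇑Q := omegaGL_le_iso (h.le_om hg)
  have hl : l ≠ 0 := l_ne_zero he0 hge
  obtain ⟨v₀, θv, hv₀, hdv⟩ := l1a_dec h hN1 he he0 hQe hg hge hv hQv hev
  obtain ⟨c₀, θc, hc₀, hdc⟩ := l1a_dec h hN1 he he0 hQe hg hge hc hQc hec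
  obtain ⟨d₀, θd, hd₀, hdd⟩ := l1a_dec h hN1 he he0 hQe hg hge hc' hQc' hec'
  obtain ⟨hev₀, hQv₀, hpv⟩ := dec_facts hgI hl hQe hge hdv hev
  obtain ⟨hec₀, hQc₀, hpc⟩ := dec_facts hgI hl hQe hge hdc hec
  obtain ⟨hed₀, hQd₀, hpd⟩ := dec_facts hgI hl hQe hge hdd hec'
  rw [hQv, mul_zero] at hQv₀
  rw [hQc, mul_zero] at hQc₀
  have hc₀v₀ : polar Q c₀ v₀ = 0 := by rw [hpc hdv hev, hcv, mul_zero]
  have hd₀v₀ : polar Q d₀ v₀ = 0 := by rw [hpd hdv hev, hc'v, mul_zero]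
  have hd₀c₀ : polar Q d₀ c₀ = l * l := by rw [hpd hdc hec, polar_comm, hcc', mul_one]
  -- the conjugate of `rt c v 1`
  have hrM : rt Q c v 1 ∈ M := h.le (rt_mem_H0 h.toQCtx hc hv F₀.one_mem)
  have hcj : g * rt Q c v 1 * g⁻¹ ∈ M := M.mul_mem (M.mul_mem hg hrM) (M.inv_mem hg)
  have egc : mv g c = l⁻¹ • (c₀ + θc • e) := by
    rw [← hdc, smul_smul, inv_mul_cancel₀ hl, one_smul]
  have egv : mv g v = l⁻¹ • (v₀ + θv • e) := by
    rw [← hdv, smul_smul, inv_mul_cancel₀ hl, one_smul]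
  have hQC : Q (c₀ + θc • e) = 0 := by rw [← hdc, phi_Q hgI, hQc, mul_zero]
  have hQV : Q (v₀ + θv • e) = 0 := by rw [← hdv, phi_Q hgI, hQv, mul_zero]
  have hCV : polar Q (c₀ + θc • e) (v₀ + θv • e) = 0 := by
    rw [← hdc, ← hdv, phi_polar hgI, hcv, mul_zero]
  have hCV' : polar Q (c₀ + θc • e) (l⁻¹ • (v₀ + θv • e)) = 0 := by
    rw [polar_smul_right, hCV, smul_zero]
  have hQV' : Q (l⁻¹ • (v₀ + θv • e)) = 0 := by rw [QuadraticMap.map_smul, hQV, smul_zero]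
  rw [conj_rt hgI, egc, egv, rt_smul_left hQC hQV' hCV', rt_smul_right hQC hQV hCV,
    rt_split hQe hQc₀ hQv₀ hec₀ hev₀ hc₀v₀] at hcj
  obtain ⟨lam, hlam⟩ : ∃ lam, lam = l⁻¹ * (l⁻¹ * 1) := ⟨_, rfl⟩
  rw [← hlam] at hcj
  have hlam0 : lam ∈ F₀ := by
    have : lam = (l * l)⁻¹ := by rw [hlam, mul_one, mul_inv]
    rw [this]
    exact F₀.inv_mem hl2
  have hlaml : lam * (l * l) = 1 := by
    rw [hlam]; field_simp
  have h1M : rt Q c₀ v₀ lam ∈ M := h.le (rt_mem_H0 h.toQCtx hc₀ hv₀ hlam0)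
  have h2M : rt Q e (lam • (θc • v₀ - θv • c₀)) 1 ∈ M := by
    have := M.mul_mem (M.inv_mem h1M) hcj
    rwa [inv_mul_cancel_left] at this
  have hQy' : Q (lam • (θc • v₀ - θv • c₀)) = 0 := by
    rw [QuadraticMap.map_smul, sub_eq_add_neg, ← neg_smul,
      Cfsg.Agent.Lib.Helper25.MaxTS.Q_add, QuadraticMap.map_smul, QuadraticMap.map_smul, hQv₀,
      hQc₀, polar_smul_left, polar_smul_right, polar_comm Q v₀ c₀, hc₀v₀]
    simp
  have hey' : polar Q e (lam • (θc • v₀ - θv • c₀)) = 0 := by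
    rw [polar_smul_right, polar_sub_right, polar_smul_right, polar_smul_right, hev₀, hec₀]
    simp
  obtain ⟨θ', hθ'⟩ := hN1 he he0 hQe hQy' hey' h2M
  have hrat := ratV_polar h.toQCtx hd₀ hθ'
  have e1 : polar Q d₀ (lam • (θc • v₀ - θv • c₀) - θ' • e) = -θv := by
    simp only [polar_sub_right, polar_smul_right, smul_eq_mul, hd₀v₀, hd₀c₀, polar_comm Q d₀ e,
      hed₀]
    linear_combination (-θv) * hlaml
  rw [e1] at hrat
  have hθv : θv ∈ F₀ := by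
    have := F₀.neg_mem hrat
    rwa [neg_neg] at this
  rw [hdv]
  exact ratV_add hv₀ (ratV_smul hθv he)

/-- L1a in the standard position `a = e₀` -/
theorem l1a_std (h : Ctx F₀ Q M) (hN1 : N1Stmt F₀ Q M) (fr : Frame F₀ Q 6) {g : GL ι F}
    (hg : g ∈ M) {l : F} (hge : mv g (fr.e 0) = l • fr.e 0) :
    l ^ 2 ∈ F₀ ∧ ∀ x, RatV F₀ x → polar Q (fr.e 0) x = 0 → RatV F₀ (l • mv g x) := by
  have hgI : g ∈ Cfsg.isometryGroup F ⇑Q := omegaGL_le_iso (h.le_om hg)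
  have he0 := fr_e_ne_zero fr 0
  have hl : l ≠ 0 := l_ne_zero he0 hge
  have h01 : polar Q (fr.e 0) (fr.f 1) = 0 := fr_ef_ne fr (by decide)
  have h02 : polar Q (fr.e 0) (fr.f 2) = 0 := fr_ef_ne fr (by decide)
  -- (ii) `l² ∈ F₀`
  have hl2 : l * l ∈ F₀ := by
    obtain ⟨a₀, θ, ha₀, hda⟩ :=
      l1a_dec h hN1 (fr.rat_e 0) he0 (fr.Qe 0) hg hge (fr.rat_e 1) (fr.Qe 1) (fr.ee 0 1)
    obtain ⟨b₀, θ', hb₀, hdb⟩ :=
      l1a_dec h hN1 (fr.rat_e 0) he0 (fr.Qe 0) hg hge (fr.rat_f 1) (fr.Qf 1) h01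
    obtain ⟨-, -, hp⟩ := dec_facts hgI hl (fr.Qe 0) hge hda (fr.ee 0 1)
    have := hp hdb h01
    rw [fr_ef_same, mul_one] at this
    rw [← this]
    exact ratV_polar h.toQCtx ha₀ hb₀
  refine ⟨by rw [pow_two]; exact hl2, ?_⟩
  -- frame vectors
  have k := fun {v c c' : ι → F} => l1a_key h hN1 (fr.rat_e 0) he0 (fr.Qe 0) hg hge hl2
    (v := v) (c := c) (c' := c')
  have r0 : RatV F₀ (l • mv g (fr.e 0)) := by
    rw [hge, smul_smul]
    exact ratV_smul hl2 (fr.rat_e 0)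
  have re1 : RatV F₀ (l • mv g (fr.e 1)) :=
    k (fr.rat_e 1) (fr.Qe 1) (fr.ee 0 1) (fr.rat_e 2) (fr.Qe 2) (fr.ee 0 2) (fr.rat_f 2)
      (fr.Qf 2) h02 (fr.ee 2 1) (fr_fe_ne fr (by decide)) (fr_ef_same fr 2)
  have rf1 : RatV F₀ (l • mv g (fr.f 1)) :=
    k (fr.rat_f 1) (fr.Qf 1) h01 (fr.rat_e 2) (fr.Qe 2) (fr.ee 0 2) (fr.rat_f 2)
      (fr.Qf 2) h02 (fr_ef_ne fr (by decide)) (fr.ff 2 1) (fr_ef_same fr 2)
  have re2 : RatV F₀ (l • mv g (fr.e 2)) :=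
    k (fr.rat_e 2) (fr.Qe 2) (fr.ee 0 2) (fr.rat_e 1) (fr.Qe 1) (fr.ee 0 1) (fr.rat_f 1)
      (fr.Qf 1) h01 (fr.ee 1 2) (fr_fe_ne fr (by decide)) (fr_ef_same fr 1)
  have rf2 : RatV F₀ (l • mv g (fr.f 2)) :=
    k (fr.rat_f 2) (fr.Qf 2) h02 (fr.rat_e 1) (fr.Qe 1) (fr.ee 0 1) (fr.rat_f 1)
      (fr.Qf 1) h01 (fr_ef_ne fr (by decide)) (fr.ff 1 2) (fr_ef_same fr 1)
  intro x hx h0x
  -- coefficients of `x` along the frame
  obtain ⟨β₀, hβ₀⟩ : ∃ β, β = polar Q (fr.f 0) x := ⟨_, rfl⟩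
  obtain ⟨β₁, hβ₁⟩ : ∃ β, β = polar Q (fr.f 1) x := ⟨_, rfl⟩
  obtain ⟨γ₁, hγ₁⟩ : ∃ β, β = polar Q (fr.e 1) x := ⟨_, rfl⟩
  obtain ⟨β₂, hβ₂⟩ : ∃ β, β = polar Q (fr.f 2) x := ⟨_, rfl⟩
  obtain ⟨γ₂, hγ₂⟩ : ∃ β, β = polar Q (fr.e 2) x := ⟨_, rfl⟩
  have rβ₀ : β₀ ∈ F₀ := by rw [hβ₀]; exact ratV_polar h.toQCtx (fr.rat_f 0) hx
  have rβ₁ : β₁ ∈ F₀ := by rw [hβ₁]; exact ratV_polar h.toQCtx (fr.rat_f 1) hx
  have rγ₁ : γ₁ ∈ F₀ := by rw [hγ₁]; exact ratV_polar h.toQCtx (fr.rat_e 1) hx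
  have rβ₂ : β₂ ∈ F₀ := by rw [hβ₂]; exact ratV_polar h.toQCtx (fr.rat_f 2) hx
  have rγ₂ : γ₂ ∈ F₀ := by rw [hγ₂]; exact ratV_polar h.toQCtx (fr.rat_e 2) hx
  obtain ⟨n, hn⟩ : ∃ n, n = x - β₀ • fr.e 0 - β₁ • fr.e 1 - γ₁ • fr.f 1 - β₂ • fr.e 2
      - γ₂ • fr.f 2 := ⟨_, rfl⟩
  have rn : RatV F₀ n := by
    rw [hn]
    exact ratV_sub (ratV_sub (ratV_sub (ratV_sub (ratV_sub hx (ratV_smul rβ₀ (fr.rat_e 0)))
      (ratV_smul rβ₁ (fr.rat_e 1))) (ratV_smul rγ₁ (fr.rat_f 1))) (ratV_smul rβ₂ (fr.rat_e 2)))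
      (ratV_smul rγ₂ (fr.rat_f 2))
  have h12 : polar Q (fr.e 1) (fr.f 2) = 0 := fr_ef_ne fr (by decide)
  have h21 : polar Q (fr.e 2) (fr.f 1) = 0 := fr_ef_ne fr (by decide)
  have h10 : polar Q (fr.f 1) (fr.e 0) = 0 := fr_fe_ne fr (by decide)
  have h20 : polar Q (fr.f 2) (fr.e 0) = 0 := fr_fe_ne fr (by decide)
  have h12' : polar Q (fr.f 1) (fr.e 2) = 0 := fr_fe_ne fr (by decide)
  have h21' : polar Q (fr.f 2) (fr.e 1) = 0 := fr_fe_ne fr (by decide)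
  have n_e0 : polar Q (fr.e 0) n = 0 := by
    rw [hn]
    simp only [polar_sub_right, polar_smul_right, smul_eq_mul, fr.ee, h01, h02, h0x]
    ring
  have n_e1 : polar Q (fr.e 1) n = 0 := by
    rw [hn]
    simp only [polar_sub_right, polar_smul_right, smul_eq_mul, fr.ee, fr_ef_same, h12, ← hγ₁]
    ring
  have n_f1 : polar Q (fr.f 1) n = 0 := by
    rw [hn]
    simp only [polar_sub_right, polar_smul_right, smul_eq_mul, fr.ff, fr_fe_same, h10, h12',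
      ← hβ₁]
    ring
  have n_e2 : polar Q (fr.e 2) n = 0 := by
    rw [hn]
    simp only [polar_sub_right, polar_smul_right, smul_eq_mul, fr.ee, fr_ef_same, h21, ← hγ₂]
    ring
  have n_f2 : polar Q (fr.f 2) n = 0 := by
    rw [hn]
    simp only [polar_sub_right, polar_smul_right, smul_eq_mul, fr.ff, fr_fe_same, h20, h21',
      ← hβ₂]
    ring
  have rq : Q n ∈ F₀ := h.ratQ _ rn
  obtain ⟨v, hvdef⟩ : ∃ v, v = n + fr.f 1 - Q n • fr.e 1 := ⟨_, rfl⟩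
  have rv : RatV F₀ v := by
    rw [hvdef]
    exact ratV_sub (ratV_add rn (fr.rat_f 1)) (ratV_smul rq (fr.rat_e 1))
  have hQv : Q v = 0 := by
    have : v = n + (fr.f 1 + (-Q n) • fr.e 1) := by rw [hvdef, neg_smul]; abel
    rw [this, Cfsg.Agent.Lib.Helper25.MaxTS.Q_add, Cfsg.Agent.Lib.Helper25.MaxTS.Q_add_smul,
      fr.Qf 1, fr.Qe 1, fr_fe_same, polar_add_right, polar_smul_right, polar_comm Q n (fr.f 1),
      polar_comm Q n (fr.e 1), n_e1, n_f1]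
    simp
  have v_e0 : polar Q (fr.e 0) v = 0 := by
    rw [hvdef, polar_sub_right, polar_add_right, polar_smul_right, n_e0, h01, fr.ee 0 1]
    simp
  have v_e2 : polar Q (fr.e 2) v = 0 := by
    rw [hvdef, polar_sub_right, polar_add_right, polar_smul_right, n_e2, h21, fr.ee 2 1]
    simp
  have v_f2 : polar Q (fr.f 2) v = 0 := by
    rw [hvdef, polar_sub_right, polar_add_right, polar_smul_right, n_f2, fr.ff 2 1, h21']
    simp
  have rvφ : RatV F₀ (l • mv g v) :=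
    k rv hQv v_e0 (fr.rat_e 2) (fr.Qe 2) (fr.ee 0 2) (fr.rat_f 2) (fr.Qf 2) h02 v_e2 v_f2
      (fr_ef_same fr 2)
  have ex : x = β₀ • fr.e 0 + (β₁ + Q n) • fr.e 1 + (γ₁ - 1) • fr.f 1 + β₂ • fr.e 2
      + γ₂ • fr.f 2 + v := by
    rw [hvdef, hn]
    module
  have eφ : l • mv g x = β₀ • (l • mv g (fr.e 0)) + (β₁ + Q n) • (l • mv g (fr.e 1))
      + (γ₁ - 1) • (l • mv g (fr.f 1)) + β₂ • (l • mv g (fr.e 2))
      + γ₂ • (l • mv g (fr.f 2)) + l • mv g v := by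
    conv_lhs => rw [ex]
    simp only [mv_add, mv_smul, smul_add]
    module
  rw [eφ]
  exact ratV_add (ratV_add (ratV_add (ratV_add (ratV_add (ratV_smul rβ₀ r0)
    (ratV_smul (F₀.add_mem rβ₁ rq) re1)) (ratV_smul (F₀.sub_mem rγ₁ F₀.one_mem) rf1))
    (ratV_smul rβ₂ re2)) (ratV_smul rγ₂ rf2)) rvφ

/-- L1a (core form) -/
theorem rat_on_perp_of (h : Ctx F₀ Q M) (hT1 : T1Stmt F₀ Q) (hN1 : N1Stmt F₀ Q M)
    (hF1 : Nonempty (Frame F₀ Q 6)) {g : GL ι F} (hg : g ∈ M) {a : ι → F} (ha : RatV F₀ a)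
    (ha0 : a ≠ 0) (hQa : Q a = 0) {l : F} (hga : mv g a = l • a) :
    l ^ 2 ∈ F₀ ∧ ∀ x, RatV F₀ x → polar Q a x = 0 → RatV F₀ (l • mv g x) := by
  obtain ⟨fr⟩ := hF1
  obtain ⟨k, hkH, hkr, hkr', s, hs, hs0, hka⟩ :=
    hT1 ha ha0 hQa (fr.rat_e 0) (fr_e_ne_zero fr 0) (fr.Qe 0)
  have hkM : k ∈ M := h.le hkH
  have hkI : k ∈ Cfsg.isometryGroup F ⇑Q := omegaGL_le_iso (h.le_om hkM)
  have hinv : mv k⁻¹ (fr.e 0) = s⁻¹ • a := by
    have : mv k⁻¹ (mv k a) = a := mv_inv_mv k a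
    rw [hka, mv_smul] at this
    rw [← this, smul_smul, inv_mul_cancel₀ hs0, one_smul]
  have hg'M : k * g * k⁻¹ ∈ M := M.mul_mem (M.mul_mem hkM hg) (M.inv_mem hkM)
  have hg'e : mv (k * g * k⁻¹) (fr.e 0) = l • fr.e 0 := by
    rw [mv_mul, mv_mul, hinv, mv_smul, hga, mv_smul, mv_smul, hka, smul_smul, smul_smul]
    congr 1
    field_simp
  obtain ⟨h1, h2⟩ := l1a_std h hN1 fr hg'M hg'e
  refine ⟨h1, ?_⟩
  intro x hx hax
  have hkx : RatV F₀ (mv k x) := hkr x hx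
  have h0kx : polar Q (fr.e 0) (mv k x) = 0 := by
    have := iso_polar hkI a x
    rw [hka, polar_smul_left, hax, smul_eq_mul] at this
    exact (mul_eq_zero.mp this).resolve_left hs0
  have := hkr' _ (h2 _ hkx h0kx)
  rw [mv_smul, mv_mul, mv_mul, mv_inv_mv, mv_inv_mv] at this
  exact this

end Cfsg.Agent.Lib.Helper26.OSubLeaf
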