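import Mathlib
import Cfsg.Agent.Lib.Helper2.SOTDefs
import Cfsg.Agent.Lib.Helper27.SOTLADefs
import Cfsg.Agent.Lib.Helper13.OTUCalc
import Cfsg.Agent.Lib.Helper13.OTLADefs

/-!
helper26: S5681 / S5709 part (LA'), wave 1, leaves C6 `xL_conj`, `xLm_conj` of `notes/S5681_LA_leaves.lean`
(conjugation of the corner elements `Zm` by `1 ⊗ x_L(c)`, `1 ⊗ x_L^-(c)`).
-/

set_option autoImplicit false
set_option linter.unusedSectionVars false
set_option linter.unusedVariables false

namespace Cfsg.Agent.Lib.Helper26.OTLALeaf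
open Matrix
open Cfsg.Agent.Lib.Helper25.Tens Cfsg.Agent.Lib.Helper19.OSub
open Cfsg.Agent.Lib.Helper2.SOT Cfsg.Agent.Lib.Helper27.SOTLA Cfsg.Agent.Lib.Helper13.OTU
open Cfsg.Agent.Lib.Helper13.OTLA
open scoped Kronecker

variable {F : Type*} [Field F] [Fintype F] {a b : ℕ} {G₁ : Matrix (Fin a) (Fin a) F}
  {G₂ : Matrix (Fin b) (Fin b) F} {o o' p p' : Fin b} {Om M : Subgroup (GL (Idx a b) F)}

section generic
variable {R : Type*} [Ring R]

/-- `(1 + N) E (1 - N) = E + N E - E N - N E N` -/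
lemma conj_expand (N E : R) : (1 + N) * E * (1 - N) = E + N * E - E * N - N * E * N := by
  noncomm_ring

end generic

/-- conjugation of `A ⊗ E` by `1 ⊗ β` -/
lemma one_kron_conj (A : Matrix (Fin a) (Fin a) F) (β E βi : Matrix (Fin b) (Fin b) F) :
    ((1 : Matrix (Fin a) (Fin a) F) ⊗ₖ β) * (A ⊗ₖ E) * ((1 : Matrix (Fin a) (Fin a) F) ⊗ₖ βi) =
      A ⊗ₖ (β * E * βi) := by
  rw [← mul_kronecker_mul, ← mul_kronecker_mul, Matrix.one_mul, Matrix.mul_one]

/-- conjugation of `Zm` by `1 ⊗ β` in terms of the conjugated matrix units -/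
lemma Zm_conj_gen (β βi : Matrix (Fin b) (Fin b) F) (hβ : β * βi = 1)
    (κ₁ κ₂ σ τ : Matrix (Fin a) (Fin a) F) :
    ((1 : Matrix (Fin a) (Fin a) F) ⊗ₖ β) * Zm o o' p p' κ₁ κ₂ σ τ *
        ((1 : Matrix (Fin a) (Fin a) F) ⊗ₖ βi) =
      1 + κ₁ ⊗ₖ (β * Matrix.single o p (1 : F) * βi) + σ ⊗ₖ (β * Matrix.single o p' (1 : F) * βi) +
        τ ⊗ₖ (β * Matrix.single o' p (1 : F) * βi) + κ₂ ⊗ₖ (β * Matrix.single o' p' (1 : F) * βi) := by
  unfold Zm
  simp only [Matrix.mul_add, Matrix.add_mul, one_kron_conj]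
  rw [Matrix.mul_one, ← mul_kronecker_mul, Matrix.one_mul, hβ, one_kronecker_one]

/-- the inverse of `x_L(c)` -/
lemma xL_mul_neg (hA : Adp G₂ o o' p p') (c : F) :
    xL o o' p p' c * xL o o' p p' (-c) = 1 := by
  unfold xL
  have hN : (Matrix.single o o' (1 : F) - Matrix.single p' p (1 : F)) *
      (Matrix.single o o' (1 : F) - Matrix.single p' p (1 : F)) = 0 := by
    rw [Matrix.sub_mul, Matrix.mul_sub, Matrix.mul_sub,
      Matrix.single_mul_single_of_ne _ _ _ _ (Ne.symm hA.hoo'),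
      Matrix.single_mul_single_of_ne _ _ _ _ hA.ho'p',
      Matrix.single_mul_single_of_ne _ _ _ _ (Ne.symm hA.hop),
      Matrix.single_mul_single_of_ne _ _ _ _ hA.hpp']
    simp
  rw [Matrix.add_mul, Matrix.mul_add, Matrix.mul_add, Matrix.one_mul, Matrix.mul_one, Matrix.one_mul,
    Matrix.smul_mul, Matrix.mul_smul, hN]
  simp

/-- the inverse of `x_L^-(c)` -/
lemma xLm_mul_neg (hA : Adp G₂ o o' p p') (c : F) :
    xLm o o' p p' c * xLm o o' p p' (-c) = 1 := by
  unfold xLm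
  have hN : (Matrix.single o' o (1 : F) - Matrix.single p p' (1 : F)) *
      (Matrix.single o' o (1 : F) - Matrix.single p p' (1 : F)) = 0 := by
    rw [Matrix.sub_mul, Matrix.mul_sub, Matrix.mul_sub,
      Matrix.single_mul_single_of_ne _ _ _ _ hA.hoo',
      Matrix.single_mul_single_of_ne _ _ _ _ hA.hop,
      Matrix.single_mul_single_of_ne _ _ _ _ (Ne.symm hA.ho'p'),
      Matrix.single_mul_single_of_ne _ _ _ _ (Ne.symm hA.hpp')]
    simp
  rw [Matrix.add_mul, Matrix.mul_add, Matrix.mul_add, Matrix.one_mul, Matrix.mul_one, Matrix.one_mul,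
    Matrix.smul_mul, Matrix.mul_smul, hN]
  simp

/-- generic conjugation formula: `N = c (N₁ - N₂)` with `N₂ E = 0 = E N₁` -/
lemma conj_single_gen (c : F) (N₁ N₂ E : Matrix (Fin b) (Fin b) F) (h1 : N₂ * E = 0)
    (h2 : E * N₁ = 0) :
    (1 + c • (N₁ - N₂)) * E * (1 - c • (N₁ - N₂)) =
      E + c • (N₁ * E) + c • (E * N₂) + (c * c) • (N₁ * E * N₂) := by
  rw [conj_expand]
  have e1 : c • (N₁ - N₂) * E = c • (N₁ * E) := by
    rw [Matrix.smul_mul, Matrix.sub_mul, h1, sub_zero]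
  have e2 : E * c • (N₁ - N₂) = -(c • (E * N₂)) := by
    rw [Matrix.mul_smul, Matrix.mul_sub, h2, zero_sub, smul_neg]
  have e3 : c • (N₁ * E) * c • (N₁ - N₂) = -((c * c) • (N₁ * E * N₂)) := by
    rw [Matrix.smul_mul, Matrix.mul_smul, Matrix.mul_sub, Matrix.mul_assoc N₁ E N₁, h2,
      Matrix.mul_zero, zero_sub, smul_neg, smul_neg, smul_smul]
  rw [e1, e2, e3, sub_neg_eq_add, sub_neg_eq_add]

/-- `x_L(c) E_{k,l} x_L(-c)` for `k ∈ {o,o'}`, `l ∈ {p,p'}` -/
lemma xL_conj_single (hA : Adp G₂ o o' p p') (c : F) (k l : Fin b) (hk : k ≠ p) (hl : l ≠ o) :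
    xL o o' p p' c * Matrix.single k l (1 : F) * xL o o' p p' (-c) =
      Matrix.single k l (1 : F) + c • ((Matrix.single o o' (1 : F)) * Matrix.single k l (1 : F)) +
        c • (Matrix.single k l (1 : F) * Matrix.single p' p (1 : F)) +
        (c * c) • (Matrix.single o o' (1 : F) * Matrix.single k l (1 : F) *
          Matrix.single p' p (1 : F)) := by
  have e1 : xL o o' p p' c = 1 + c • (Matrix.single o o' (1 : F) - Matrix.single p' p (1 : F)) := rfl
  have e2 : xL o o' p p' (-c) =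
      1 - c • (Matrix.single o o' (1 : F) - Matrix.single p' p (1 : F)) := by
    unfold xL
    rw [neg_smul, ← sub_eq_add_neg]
  rw [e1, e2]
  exact conj_single_gen c _ _ _ (Matrix.single_mul_single_of_ne (1 : F) p' p k (Ne.symm hk) (1 : F))
    (Matrix.single_mul_single_of_ne (1 : F) k l o hl (1 : F))

/-- `x_L^-(c) E_{k,l} x_L^-(-c)` for `k ∈ {o,o'}`, `l ∈ {p,p'}` -/
lemma xLm_conj_single (hA : Adp G₂ o o' p p') (c : F) (k l : Fin b) (hk : k ≠ p') (hl : l ≠ o') :
    xLm o o' p p' c * Matrix.single k l (1 : F) * xLm o o' p p' (-c) =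
      Matrix.single k l (1 : F) + c • ((Matrix.single o' o (1 : F)) * Matrix.single k l (1 : F)) +
        c • (Matrix.single k l (1 : F) * Matrix.single p p' (1 : F)) +
        (c * c) • (Matrix.single o' o (1 : F) * Matrix.single k l (1 : F) *
          Matrix.single p p' (1 : F)) := by
  have e1 : xLm o o' p p' c = 1 + c • (Matrix.single o' o (1 : F) - Matrix.single p p' (1 : F)) := rfl
  have e2 : xLm o o' p p' (-c) =
      1 - c • (Matrix.single o' o (1 : F) - Matrix.single p p' (1 : F)) := by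
    unfold xLm
    rw [neg_smul, ← sub_eq_add_neg]
  rw [e1, e2]
  exact conj_single_gen c _ _ _ (Matrix.single_mul_single_of_ne (1 : F) p p' k (Ne.symm hk) (1 : F))
    (Matrix.single_mul_single_of_ne (1 : F) k l o' hl (1 : F))

/-- the inverse of `kel 1 β` -/
lemma kel_one_inv_val (β : GL (Fin b) F) :
    (kel (1 : GL (Fin a) F) β : GL (Idx a b) F)⁻¹.1 =
      (1 : Matrix (Fin a) (Fin a) F) ⊗ₖ (β⁻¹ : GL (Fin b) F).1 := by
  change ((1 : GL (Fin a) F)⁻¹ : GL (Fin a) F).1 ⊗ₖ (β⁻¹ : GL (Fin b) F).1 = _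
  rw [inv_one, Units.val_one]

/-- (C6a) plan (C5): conjugation of `Zm` by `1 ⊗ x_L(c)`, `x_L(c) = 1 + c (E_{o,o'} - E_{p',p})`, `x_L(c)⁻¹ = x_L(-c)`. -/
theorem xL_conj (hA : Adp G₂ o o' p p') (c : F) (β : GL (Fin b) F) (hβ : β.1 = xL o o' p p' c)
    (κ₁ κ₂ σ τ : Matrix (Fin a) (Fin a) F) :
    (kel (1 : GL (Fin a) F) β : GL (Idx a b) F).1 * Zm o o' p p' κ₁ κ₂ σ τ *
        (kel (1 : GL (Fin a) F) β : GL (Idx a b) F)⁻¹.1 =
      Zm o o' p p' (κ₁ + c • (σ + τ) + (c * c) • κ₂) κ₂ (σ + c • κ₂) (τ + c • κ₂) := by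
  have hinv : (β⁻¹ : GL (Fin b) F).1 = xL o o' p p' (-c) := by
    apply Units.inv_eq_of_mul_eq_one_right
    rw [hβ]
    exact xL_mul_neg hA c
  rw [kel_one_inv_val, kel_val, Units.val_one, hβ, hinv,
    Zm_conj_gen _ _ (xL_mul_neg hA c),
    xL_conj_single hA c o p hA.hop (Ne.symm hA.hop),
    xL_conj_single hA c o p' hA.hop (Ne.symm hA.hop'),
    xL_conj_single hA c o' p hA.ho'p (Ne.symm hA.hop),
    xL_conj_single hA c o' p' hA.ho'p (Ne.symm hA.hop')]
  -- evaluate the products of matrix units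
  have hA1 : Matrix.single o o' (1 : F) * Matrix.single o p (1 : F) = 0 :=
    Matrix.single_mul_single_of_ne (1 : F) o o' o (Ne.symm hA.hoo') (1 : F)
  have hA2 : Matrix.single o o' (1 : F) * Matrix.single o p' (1 : F) = 0 :=
    Matrix.single_mul_single_of_ne (1 : F) o o' o (Ne.symm hA.hoo') (1 : F)
  have hA3 : Matrix.single o o' (1 : F) * Matrix.single o' p (1 : F) = Matrix.single o p (1 : F) := by
    rw [Matrix.single_mul_single_same, mul_one]
  have hA4 : Matrix.single o o' (1 : F) * Matrix.single o' p' (1 : F) = Matrix.single o p' (1 : F) := by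
    rw [Matrix.single_mul_single_same, mul_one]
  have hB1 : Matrix.single o p (1 : F) * Matrix.single p' p (1 : F) = 0 :=
    Matrix.single_mul_single_of_ne (1 : F) o p p' hA.hpp' (1 : F)
  have hB2 : Matrix.single o p' (1 : F) * Matrix.single p' p (1 : F) = Matrix.single o p (1 : F) := by
    rw [Matrix.single_mul_single_same, mul_one]
  have hB3 : Matrix.single o' p (1 : F) * Matrix.single p' p (1 : F) = 0 :=
    Matrix.single_mul_single_of_ne (1 : F) o' p p' hA.hpp' (1 : F)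
  have hB4 : Matrix.single o' p' (1 : F) * Matrix.single p' p (1 : F) = Matrix.single o' p (1 : F) := by
    rw [Matrix.single_mul_single_same, mul_one]
  unfold Zm
  simp only [hA1, hA2, hA3, hA4, hB1, hB2, hB3, hB4, Matrix.zero_mul, smul_zero, add_zero,
    Matrix.kronecker_add, Matrix.add_kronecker, Matrix.kronecker_smul, Matrix.smul_kronecker, smul_add]
  abel

/-- (C6b) conjugation of `Zm` by `1 ⊗ x_L^-(c)`, `x_L^-(c) = 1 + c (E_{o',o} - E_{p,p'})`. -/
theorem xLm_conj (hA : Adp G₂ o o' p p') (c : F) (β : GL (Fin b) F) (hβ : β.1 = xLm o o' p p' c)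
    (κ₁ κ₂ σ τ : Matrix (Fin a) (Fin a) F) :
    (kel (1 : GL (Fin a) F) β : GL (Idx a b) F).1 * Zm o o' p p' κ₁ κ₂ σ τ *
        (kel (1 : GL (Fin a) F) β : GL (Idx a b) F)⁻¹.1 =
      Zm o o' p p' κ₁ (κ₂ + c • (σ + τ) + (c * c) • κ₁) (σ + c • κ₁) (τ + c • κ₁) := by
  have hinv : (β⁻¹ : GL (Fin b) F).1 = xLm o o' p p' (-c) := by
    apply Units.inv_eq_of_mul_eq_one_right
    rw [hβ]
    exact xLm_mul_neg hA c
  rw [kel_one_inv_val, kel_val, Units.val_one, hβ, hinv,
    Zm_conj_gen _ _ (xLm_mul_neg hA c),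
    xLm_conj_single hA c o p hA.hop' hA.ho'p.symm,
    xLm_conj_single hA c o p' hA.hop' hA.ho'p'.symm,
    xLm_conj_single hA c o' p hA.ho'p' hA.ho'p.symm,
    xLm_conj_single hA c o' p' hA.ho'p' hA.ho'p'.symm]
  -- evaluate the products of matrix units
  have hA1 : Matrix.single o' o (1 : F) * Matrix.single o p (1 : F) = Matrix.single o' p (1 : F) := by
    rw [Matrix.single_mul_single_same, mul_one]
  have hA2 : Matrix.single o' o (1 : F) * Matrix.single o p' (1 : F) = Matrix.single o' p' (1 : F) := by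
    rw [Matrix.single_mul_single_same, mul_one]
  have hA3 : Matrix.single o' o (1 : F) * Matrix.single o' p (1 : F) = 0 :=
    Matrix.single_mul_single_of_ne (1 : F) o' o o' hA.hoo' (1 : F)
  have hA4 : Matrix.single o' o (1 : F) * Matrix.single o' p' (1 : F) = 0 :=
    Matrix.single_mul_single_of_ne (1 : F) o' o o' hA.hoo' (1 : F)
  have hB1 : Matrix.single o p (1 : F) * Matrix.single p p' (1 : F) = Matrix.single o p' (1 : F) := by
    rw [Matrix.single_mul_single_same, mul_one]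
  have hB2 : Matrix.single o p' (1 : F) * Matrix.single p p' (1 : F) = 0 :=
    Matrix.single_mul_single_of_ne (1 : F) o p' p (Ne.symm hA.hpp') (1 : F)
  have hB3 : Matrix.single o' p (1 : F) * Matrix.single p p' (1 : F) = Matrix.single o' p' (1 : F) := by
    rw [Matrix.single_mul_single_same, mul_one]
  have hB4 : Matrix.single o' p' (1 : F) * Matrix.single p p' (1 : F) = 0 :=
    Matrix.single_mul_single_of_ne (1 : F) o' p' p (Ne.symm hA.hpp') (1 : F)
  unfold Zm
  simp only [hA1, hA2, hA3, hA4, hB1, hB2, hB3, hB4, Matrix.zero_mul, smul_zero, add_zero,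
    Matrix.kronecker_add, Matrix.add_kronecker, Matrix.kronecker_smul, Matrix.smul_kronecker, smul_add]
  abel

end Cfsg.Agent.Lib.Helper26.OTLALeaf
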