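import Mathlib
import Cfsg.Agent.Lib.Helper2.SOTDefs
import Cfsg.Agent.Lib.Helper27.SOTLADefs
import Cfsg.Agent.Lib.Helper13.OTUCalc
import Cfsg.Agent.Lib.Helper13.OTLADefs
import Cfsg.Agent.Lib.Helper1.SOTLAA7core
import Cfsg.Agent.Lib.Helper26.OTLAC6

/-!
helper26: S5681 / S5709 part (LA'), wave 1, block R1-2 of `notes/S5681_LA_leaves.lean`, CORE forms
(`InM_Zc_xL`, `InM_Zc_xLm`, `InM_Zc_kappa2`, `InM_Zc_kappa1` with the inputs (R1-0d), (R1-1) as hypotheses).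
-/

set_option autoImplicit false
set_option linter.unusedSectionVars false
set_option linter.unusedVariables false

namespace Cfsg.Agent.Lib.Helper26.OTLALeaf
open Matrix
open Cfsg.Agent.Lib.Helper25.Tens Cfsg.Agent.Lib.Helper19.OSub
open Cfsg.Agent.Lib.Helper2.SOT Cfsg.Agent.Lib.Helper27.SOTLA Cfsg.Agent.Lib.Helper13.OTU
open Cfsg.Agent.Lib.Helper13.OTLA
open scoped Kronecker

variable {F : Type*} [Field F] [Fintype F] {a b : ℕ} {G₁ : Matrix (Fin a) (Fin a) F}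
  {G₂ : Matrix (Fin b) (Fin b) F} {o o' p p' : Fin b} {Om M : Subgroup (GL (Idx a b) F)}

/-- `†` is additive -/
lemma adjB_add26 (σ τ : Matrix (Fin a) (Fin a) F) : adjB G₁ (σ + τ) = adjB G₁ σ + adjB G₁ τ := by
  unfold adjB
  rw [Matrix.transpose_add, Matrix.mul_add, Matrix.add_mul]

/-- skew-adjoint matrices satisfy `κ† = -κ` -/
lemma adjB_of_isSkewAdj (hn1 : G₁.det ≠ 0) {κ : Matrix (Fin a) (Fin a) F} (hκ : IsSkewAdj G₁ κ) :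
    adjB G₁ κ = -κ := by
  have hG : G₁⁻¹ * G₁ = 1 := Matrix.nonsing_inv_mul G₁ (isUnit_iff_ne_zero.2 hn1)
  have h1 : κᵀ * G₁ = -(G₁ * κ) := by
    have : G₁ * κ = -(κᵀ * G₁) := hκ
    rw [this, neg_neg]
  unfold adjB
  rw [Matrix.mul_assoc, h1, Matrix.mul_neg, ← Matrix.mul_assoc, hG, Matrix.one_mul]

/-- conjugation of an element of `M` by a Kronecker element of `Om` stays in `M` -/
lemma InM_conj_kel (h : LBase G₁ G₂ o o' p p' Om M) (β : GL (Fin b) F)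
    (hOm : (kel (1 : GL (Fin a) F) β : GL (Idx a b) F) ∈ Om) {X : Matrix (Idx a b) (Idx a b) F}
    (hX : InM M X) :
    InM M ((kel (1 : GL (Fin a) F) β : GL (Idx a b) F).1 * X *
      (kel (1 : GL (Fin a) F) β : GL (Idx a b) F)⁻¹.1) := by
  have hM : (kel (1 : GL (Fin a) F) β : GL (Idx a b) F) ∈ M := h.le ⟨kel_mem_KG 1 β, hOm⟩
  obtain ⟨t, ht, rfl⟩ := hX
  exact ⟨kel 1 β * t * (kel 1 β)⁻¹, M.mul_mem (M.mul_mem hM ht) (M.inv_mem hM), rfl⟩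

/-- (R1-2a), core form -/
theorem InM_Zc_xL_core (h : LBase G₁ G₂ o o' p p' Om M) (c : F)
    {κ₁ κ₂ σ : Matrix (Fin a) (Fin a) F} (hκ₂ : IsSkewAdj G₁ κ₂)
    (hZ : InM M (Zc G₁ o o' p p' κ₁ κ₂ σ)) :
    InM M (Zc G₁ o o' p p' (κ₁ + c • (σ - adjB G₁ σ) + (c * c) • κ₂) κ₂ (σ + c • κ₂)) := by
  obtain ⟨β, hβ, hOm⟩ := h.om_xL c
  have h1 := InM_conj_kel h β hOm hZ
  unfold Zc at h1 ⊢
  rw [xL_conj h.adp c β hβ] at h1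
  have e1 : σ + -adjB G₁ σ = σ - adjB G₁ σ := (sub_eq_add_neg _ _).symm
  have e2 : -adjB G₁ σ + c • κ₂ = -adjB G₁ (σ + c • κ₂) := by
    rw [adjB_add26, Cfsg.Agent.Lib.Helper1.SOTLALeaf.adjB_smul, adjB_of_isSkewAdj h.nd1 hκ₂, smul_neg,
      neg_add, neg_neg]
  rw [e1, e2] at h1
  exact h1

/-- (R1-2b), core form -/
theorem InM_Zc_xLm_core (h : LBase G₁ G₂ o o' p p' Om M) (c : F)
    {κ₁ κ₂ σ : Matrix (Fin a) (Fin a) F} (hκ₁ : IsSkewAdj G₁ κ₁)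
    (hZ : InM M (Zc G₁ o o' p p' κ₁ κ₂ σ)) :
    InM M (Zc G₁ o o' p p' κ₁ (κ₂ + c • (σ - adjB G₁ σ) + (c * c) • κ₁) (σ + c • κ₁)) := by
  obtain ⟨β, hβ, hOm⟩ := h.om_xLm c
  have h1 := InM_conj_kel h β hOm hZ
  unfold Zc at h1 ⊢
  rw [xLm_conj h.adp c β hβ] at h1
  have e1 : σ + -adjB G₁ σ = σ - adjB G₁ σ := (sub_eq_add_neg _ _).symm
  have e2 : -adjB G₁ σ + c • κ₁ = -adjB G₁ (σ + c • κ₁) := by
    rw [adjB_add26, Cfsg.Agent.Lib.Helper1.SOTLALeaf.adjB_smul, adjB_of_isSkewAdj h.nd1 hκ₁, smul_neg,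
      neg_add, neg_neg]
  rw [e1, e2] at h1
  exact h1

/-- the closure properties (R1-1) of `Σ` used below -/
structure SigmaClosed (G₁ : Matrix (Fin a) (Fin a) F) (o o' p p' : Fin b)
    (M : Subgroup (GL (Idx a b) F)) : Prop where
  add : ∀ {κ₁ κ₂ σ κ₁' κ₂' σ' : Matrix (Fin a) (Fin a) F}, InM M (Zc G₁ o o' p p' κ₁ κ₂ σ) →
    InM M (Zc G₁ o o' p p' κ₁' κ₂' σ') →
      InM M (Zc G₁ o o' p p' (κ₁ + κ₁') (κ₂ + κ₂') (σ + σ'))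
  neg : ∀ {κ₁ κ₂ σ : Matrix (Fin a) (Fin a) F}, InM M (Zc G₁ o o' p p' κ₁ κ₂ σ) →
    InM M (Zc G₁ o o' p p' (-κ₁) (-κ₂) (-σ))
  smul : ∀ (c : F) {κ₁ κ₂ σ : Matrix (Fin a) (Fin a) F}, InM M (Zc G₁ o o' p p' κ₁ κ₂ σ) →
    InM M (Zc G₁ o o' p p' (c • κ₁) (c • κ₂) (c • σ))

/-- (R1-2c), core form -/
theorem InM_Zc_kappa2_core (h : LBase G₁ G₂ o o' p p' Om M) (hS : SigmaClosed G₁ o o' p p' M)
    {κ₁ κ₂ σ : Matrix (Fin a) (Fin a) F} (hκ₂ : IsSkewAdj G₁ κ₂)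
    (hZ : InM M (Zc G₁ o o' p p' κ₁ κ₂ σ)) : InM M (Zc G₁ o o' p p' κ₂ 0 0) := by
  have h1 := hS.add (InM_Zc_xL_core h 1 hκ₂ hZ) (hS.neg hZ)
  have h2 := hS.add (InM_Zc_xL_core h (-1) hκ₂ hZ) (hS.neg hZ)
  have h3 := hS.add h1 h2
  have e1 : κ₁ + (1 : F) • (σ - adjB G₁ σ) + ((1 : F) * 1) • κ₂ + -κ₁ +
      (κ₁ + (-1 : F) • (σ - adjB G₁ σ) + ((-1 : F) * -1) • κ₂ + -κ₁) = (2 : F) • κ₂ := by
    module
  have e2 : κ₂ + -κ₂ + (κ₂ + -κ₂) = 0 := by abel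
  have e3 : σ + (1 : F) • κ₂ + -σ + (σ + (-1 : F) • κ₂ + -σ) = 0 := by module
  rw [e1, e2, e3] at h3
  have h4 := hS.smul (2 : F)⁻¹ h3
  rwa [smul_smul, inv_mul_cancel₀ h.two, one_smul, smul_zero] at h4

/-- (R1-2d), core form -/
theorem InM_Zc_kappa1_core (h : LBase G₁ G₂ o o' p p' Om M) (hS : SigmaClosed G₁ o o' p p' M)
    {κ₁ κ₂ σ : Matrix (Fin a) (Fin a) F} (hκ₁ : IsSkewAdj G₁ κ₁)
    (hZ : InM M (Zc G₁ o o' p p' κ₁ κ₂ σ)) : InM M (Zc G₁ o o' p p' 0 κ₁ 0) := by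
  have h1 := hS.add (InM_Zc_xLm_core h 1 hκ₁ hZ) (hS.neg hZ)
  have h2 := hS.add (InM_Zc_xLm_core h (-1) hκ₁ hZ) (hS.neg hZ)
  have h3 := hS.add h1 h2
  have e1 : κ₂ + (1 : F) • (σ - adjB G₁ σ) + ((1 : F) * 1) • κ₁ + -κ₂ +
      (κ₂ + (-1 : F) • (σ - adjB G₁ σ) + ((-1 : F) * -1) • κ₁ + -κ₂) = (2 : F) • κ₁ := by
    module
  have e2 : κ₁ + -κ₁ + (κ₁ + -κ₁) = 0 := by abel
  have e3 : σ + (1 : F) • κ₁ + -σ + (σ + (-1 : F) • κ₁ + -σ) = 0 := by module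
  rw [e1, e2, e3] at h3
  have h4 := hS.smul (2 : F)⁻¹ h3
  rwa [smul_smul, inv_mul_cancel₀ h.two, one_smul, smul_zero] at h4

end Cfsg.Agent.Lib.Helper26.OTLALeaf
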