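import Mathlib
import Cfsg.Agent.Lib.Helper2.SOTDefs
import Cfsg.Agent.Lib.Helper27.SOTLADefs
import Cfsg.Agent.Lib.Helper13.OTUCalc
import Cfsg.Agent.Lib.Helper13.OTLADefs
import Cfsg.Agent.Lib.Helper7.OTLAIso
import Cfsg.Agent.Lib.Helper15.OTLAR11
import Cfsg.Agent.Lib.Helper26.OTLAR12

/-!
helper26: S5681 / S5709 part (LA'), wave 1, block R1-2 of `notes/S5681_LA_leaves.lean`, EXACT signatures: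
`InM_Zc_xL`, `InM_Zc_xLm`, `InM_Zc_kappa2`, `InM_Zc_kappa1`.
-/

set_option autoImplicit false
set_option linter.unusedSectionVars false
set_option linter.unusedVariables false

namespace Cfsg.Agent.Lib.Helper26.OTLALeaf
open Matrix
open Cfsg.Agent.Lib.Helper25.Tens Cfsg.Agent.Lib.Helper19.OSub
open Cfsg.Agent.Lib.Helper2.SOT Cfsg.Agent.Lib.Helper27.SOTLA Cfsg.Agent.Lib.Helper13.OTU
open Cfsg.Agent.Lib.Helper13.OTLA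
open scoped Kronecker

variable {F : Type*} [Field F] [Fintype F] {a b : ℕ} {G₁ : Matrix (Fin a) (Fin a) F}
  {G₂ : Matrix (Fin b) (Fin b) F} {o o' p p' : Fin b} {Om M : Subgroup (GL (Idx a b) F)}

/-- (R1-0d), own copy: the `κ`-parts of an element of `Σ` are skew-adjoint -/
lemma InM_Zc_skew26 (h : LBase G₁ G₂ o o' p p' Om M) {κ₁ κ₂ σ : Matrix (Fin a) (Fin a) F}
    (hZ : InM M (Zc G₁ o o' p p' κ₁ κ₂ σ)) : IsSkewAdj G₁ κ₁ ∧ IsSkewAdj G₁ κ₂ :=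
  (Cfsg.Agent.Lib.Helper7.OTLALeaf.Zc_iso h.symm1 h.symm2 h.nd1 h.adp κ₁ κ₂ σ).1
    (Cfsg.Agent.Lib.Helper15.OTLALeaf.InM_iso h hZ)

/-- the closure properties (R1-1) of `Σ` -/
lemma sigmaClosed (h : LBase G₁ G₂ o o' p p' Om M) : SigmaClosed G₁ o o' p p' M :=
  ⟨fun hZ hZ' => Cfsg.Agent.Lib.Helper15.OTLALeaf.InM_Zc_add h hZ hZ',
    fun hZ => Cfsg.Agent.Lib.Helper15.OTLALeaf.InM_Zc_neg h hZ,
    fun c _ _ _ hZ => Cfsg.Agent.Lib.Helper15.OTLALeaf.InM_Zc_smul h c hZ⟩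

/-- (R1-2a) step (2): conjugation by `1 ⊗ x_L(c) ∈ M`. -/
theorem InM_Zc_xL (h : LBase G₁ G₂ o o' p p' Om M) (c : F)
    {κ₁ κ₂ σ : Matrix (Fin a) (Fin a) F} (hZ : InM M (Zc G₁ o o' p p' κ₁ κ₂ σ)) :
    InM M (Zc G₁ o o' p p' (κ₁ + c • (σ - adjB G₁ σ) + (c * c) • κ₂) κ₂ (σ + c • κ₂)) :=
  InM_Zc_xL_core h c (InM_Zc_skew26 h hZ).2 hZ

/-- (R1-2b) conjugation by `1 ⊗ x_L^-(c) ∈ M`. -/
theorem InM_Zc_xLm (h : LBase G₁ G₂ o o' p p' Om M) (c : F)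
    {κ₁ κ₂ σ : Matrix (Fin a) (Fin a) F} (hZ : InM M (Zc G₁ o o' p p' κ₁ κ₂ σ)) :
    InM M (Zc G₁ o o' p p' κ₁ (κ₂ + c • (σ - adjB G₁ σ) + (c * c) • κ₁) (σ + c • κ₁)) :=
  InM_Zc_xLm_core h c (InM_Zc_skew26 h hZ).1 hZ

/-- (R1-2c) `(κ₁,κ₂,σ) ∈ Σ ⟹ (κ₂,0,0) ∈ Σ`. -/
theorem InM_Zc_kappa2 (h : LBase G₁ G₂ o o' p p' Om M) {κ₁ κ₂ σ : Matrix (Fin a) (Fin a) F}
    (hZ : InM M (Zc G₁ o o' p p' κ₁ κ₂ σ)) : InM M (Zc G₁ o o' p p' κ₂ 0 0) :=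
  InM_Zc_kappa2_core h (sigmaClosed h) (InM_Zc_skew26 h hZ).2 hZ

/-- (R1-2d) `(κ₁,κ₂,σ) ∈ Σ ⟹ (0,κ₁,0) ∈ Σ`. -/
theorem InM_Zc_kappa1 (h : LBase G₁ G₂ o o' p p' Om M) {κ₁ κ₂ σ : Matrix (Fin a) (Fin a) F}
    (hZ : InM M (Zc G₁ o o' p p' κ₁ κ₂ σ)) : InM M (Zc G₁ o o' p p' 0 κ₁ 0) :=
  InM_Zc_kappa1_core h (sigmaClosed h) (InM_Zc_skew26 h hZ).1 hZ

end Cfsg.Agent.Lib.Helper26.OTLALeaf
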