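import Mathlib

/-!
Def-independent algebra lemmas for S5681 / S5709 part (LA'):
* `even_rank_of_skew`: a skew-symmetric matrix over a field of characteristic `≠ 2` has even rank;
* `even_rank_of_gram_skew`: the Gram form (`ν` skew w.r.t. an invertible Gram matrix `G`);
* `fibre_core`: the fibre lemma F on families of matrices with scalar products.
-/

set_option autoImplicit false

namespace Cfsg.Agent.Lib.Helper26.OTAlg
open Matrix

variable {F : Type*} [Field F]

/-- odd-size skew-symmetric matrices are singular (characteristic `≠ 2`) -/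
lemma det_eq_zero_of_skew_of_odd {m : Type*} [Fintype m] [DecidableEq m] (h2 : (2 : F) ≠ 0)
    (K : Matrix m m F) (hK : Kᵀ = -K) (hodd : Odd (Fintype.card m)) : K.det = 0 := by
  have h1 : K.det = (-1) ^ Fintype.card m * K.det := by
    conv_lhs => rw [← det_transpose, hK, det_neg]
  rw [hodd.neg_one_pow] at h1
  have h3 : (2 : F) * K.det = 0 := by linear_combination h1
  rcases mul_eq_zero.1 h3 with h | h
  · exact absurd h h2
  · exact h

/-- a skew-symmetric matrix over a field of characteristic `≠ 2` has even rank -/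
theorem even_rank_of_skew {n : Type*} [Fintype n] [DecidableEq n] (h2 : (2 : F) ≠ 0)
    (K : Matrix n n F) (hK : Kᵀ = -K) : Even K.rank := by
  classical
  obtain ⟨C, hC⟩ := Submodule.exists_isCompl (LinearMap.ker K.mulVecLin)
  -- `hC : IsCompl (ker K) C`
  have hdim : Module.finrank F C = K.rank := by
    have h1 := Submodule.finrank_add_eq_of_isCompl hC
    have h2' := LinearMap.finrank_range_add_finrank_ker K.mulVecLin
    rw [Matrix.rank]
    omega
  set r := Module.finrank F C with hr
  let bC : Module.Basis (Fin r) F C := Module.finBasis F C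
  let P : Matrix n (Fin r) F := Matrix.of fun i j => (bC j : n → F) i
  have hP : ∀ c : Fin r → F, P *ᵥ c = ((∑ j, c j • bC j : C) : n → F) := by
    intro c
    funext i
    simp only [mulVec, dotProduct, P, Matrix.of_apply]
    rw [Submodule.coe_sum, Finset.sum_apply]
    apply Finset.sum_congr rfl
    intro j _
    rw [Submodule.coe_smul, Pi.smul_apply, smul_eq_mul, mul_comm]
  set M : Matrix (Fin r) (Fin r) F := Pᵀ * K * P with hM
  have hMs : Mᵀ = -M := by
    rw [hM, transpose_mul, transpose_mul, transpose_transpose, hK, ← Matrix.mul_assoc]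
    simp
  by_contra hne
  have hodd : Odd r := by
    rw [← hdim] at hne
    exact Nat.not_even_iff_odd.1 hne
  have hdet : M.det = 0 :=
    det_eq_zero_of_skew_of_odd h2 M hMs (by simpa using hodd)
  obtain ⟨c, hc0, hc⟩ := (Matrix.exists_mulVec_eq_zero_iff).2 hdet
  -- the vector `x = P c ∈ C`
  set x : C := ∑ j, c j • bC j with hx
  have hPx : P *ᵥ c = (x : n → F) := hP c
  -- `Pᵀ *ᵥ (K *ᵥ x) = 0`
  have h3 : Pᵀ *ᵥ (K *ᵥ (x : n → F)) = 0 := by
    rw [← hPx, mulVec_mulVec, mulVec_mulVec]
    exact hc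
  -- every basis vector of `C` is orthogonal to `K x`
  have h4 : ∀ j, (bC j : n → F) ⬝ᵥ (K *ᵥ (x : n → F)) = 0 := by
    intro j
    have := congrFun h3 j
    simpa [mulVec, dotProduct, P, Matrix.of_apply, Matrix.transpose_apply] using this
  -- every vector of `C` is orthogonal to `K x`
  have h5 : ∀ y : C, (y : n → F) ⬝ᵥ (K *ᵥ (x : n → F)) = 0 := by
    intro y
    rw [← bC.sum_repr y, Submodule.coe_sum, sum_dotProduct]
    apply Finset.sum_eq_zero
    intro j _
    rw [Submodule.coe_smul, smul_dotProduct, h4 j, smul_zero]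
  -- every vector of the kernel is orthogonal to `K x`
  have h6 : ∀ k : n → F, K *ᵥ k = 0 → k ⬝ᵥ (K *ᵥ (x : n → F)) = 0 := by
    intro k hk
    rw [dotProduct_mulVec, ← mulVec_transpose, hK, neg_mulVec, hk, neg_zero, zero_dotProduct]
  -- hence `K x = 0`
  have h7 : K *ᵥ (x : n → F) = 0 := by
    have hall : ∀ v : n → F, v ⬝ᵥ (K *ᵥ (x : n → F)) = 0 := by
      intro v
      have hv : v ∈ LinearMap.ker K.mulVecLin ⊔ C := by
        rw [hC.sup_eq_top]
        exact Submodule.mem_top
      obtain ⟨k, hk, y, hy, rfl⟩ := Submodule.mem_sup.1 hv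
      rw [add_dotProduct, h6 k (by simpa using hk), h5 ⟨y, hy⟩, add_zero]
    funext i
    have := hall (Pi.single i 1)
    simpa using this
  -- so `x ∈ ker K ∩ C = 0`
  have h8 : (x : n → F) = 0 := by
    have hmem : (x : n → F) ∈ LinearMap.ker K.mulVecLin ⊓ C :=
      ⟨by simpa using h7, x.2⟩
    rw [hC.inf_eq_bot] at hmem
    exact (Submodule.mem_bot F).1 hmem
  have h9 : x = 0 := Subtype.ext h8
  -- linear independence of the basis
  have h10 : c = 0 := by
    funext j
    have := Fintype.linearIndependent_iff.1 bC.linearIndependent c (by rw [← hx, h9]) j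
    simpa using this
  exact hc0 h10

/-- Gram form: `ν` skew w.r.t. the invertible Gram matrix `G` has even rank -/
theorem even_rank_of_gram_skew {n : Type*} [Fintype n] [DecidableEq n] (h2 : (2 : F) ≠ 0)
    (G ν : Matrix n n F) (hG : IsUnit G.det) (hν : (G * ν)ᵀ = -(G * ν)) : Even ν.rank := by
  have h := even_rank_of_skew h2 (G * ν) hν
  rwa [Matrix.rank_mul_eq_right_of_isUnit_det G ν hG] at h

/-- fibre lemma, core form: two families of square matrices all of whose products `T i * S j` are
scalar, with one nonzero product, are proportional to `s⁻¹` resp. `s` for one invertible `s` -/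
theorem fibre_core {n ι κ : Type*} [Fintype n] [DecidableEq n]
    (T : ι → Matrix n n F) (S : κ → Matrix n n F)
    (h : ∀ i j, ∃ c : F, T i * S j = c • (1 : Matrix n n F))
    (i0 : ι) (j0 : κ) (h0 : T i0 * S j0 ≠ 0) :
    ∃ s : GL n F, (∀ i, ∃ c : F, T i = c • (s⁻¹).1) ∧ (∀ j, ∃ c : F, S j = c • s.1) := by
  obtain ⟨lam, hlam⟩ := h i0 j0
  have hlam0 : lam ≠ 0 := by
    rintro rfl
    rw [zero_smul] at hlam
    exact h0 hlam
  -- `S j0` is invertible with inverse `lam⁻¹ • T i0`
  have hleft : (lam⁻¹ • T i0) * S j0 = 1 := by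
    rw [Matrix.smul_mul, hlam, smul_smul, inv_mul_cancel₀ hlam0, one_smul]
  have hright : S j0 * (lam⁻¹ • T i0) = 1 := mul_eq_one_comm.1 hleft
  let s : GL n F := ⟨S j0, lam⁻¹ • T i0, hright, hleft⟩
  have hsinv : (s⁻¹).1 = lam⁻¹ • T i0 := rfl
  have hsval : s.1 = S j0 := rfl
  refine ⟨s, ?_, ?_⟩
  · intro i
    obtain ⟨c, hc⟩ := h i j0
    refine ⟨c, ?_⟩
    calc T i = T i * (s.1 * (s⁻¹).1) := by
          rw [← Units.val_mul, mul_inv_cancel, Units.val_one, mul_one]
      _ = (T i * S j0) * (s⁻¹).1 := by rw [hsval, Matrix.mul_assoc]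
      _ = c • (s⁻¹).1 := by rw [hc, Matrix.smul_mul, one_mul]
  · intro j
    obtain ⟨c, hc⟩ := h i0 j
    refine ⟨lam⁻¹ * c, ?_⟩
    calc S j = ((s⁻¹).1 * s.1)⁻¹ • S j := by
          rw [← Units.val_mul, inv_mul_cancel, Units.val_one, inv_one, one_smul]
      _ = s.1 * ((s⁻¹).1 * S j) := by
          rw [← Units.val_mul, inv_mul_cancel, Units.val_one, inv_one, one_smul,
            ← Matrix.mul_assoc, ← Units.val_mul, mul_inv_cancel, Units.val_one, one_mul]
      _ = s.1 * (lam⁻¹ • (T i0 * S j)) := by rw [hsinv, Matrix.smul_mul]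
      _ = (lam⁻¹ * c) • s.1 := by
          rw [hc, smul_smul, Matrix.mul_smul, mul_one]

end Cfsg.Agent.Lib.Helper26.OTAlg
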