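import Mathlib
import Cfsg.Agent.Lib.Helper2.SOTDefs
import Cfsg.Agent.Lib.Helper27.SOTLADefs
import Cfsg.Agent.Lib.Helper13.OTUCalc
import Cfsg.Agent.Lib.Helper13.OTLADefs
import Cfsg.Agent.Lib.Helper29.OTLAC0
import Cfsg.Agent.Lib.Helper29.OTLAC4
import Cfsg.Agent.Lib.Helper29.OTLAR2a
import Cfsg.Agent.Lib.Helper29.OTLAP0
import Cfsg.Agent.Lib.Helper13.OTLABUT
import Cfsg.Agent.Lib.Helper13.OTLABUTIso
import Cfsg.Agent.Lib.Helper26.OTAlg

/-!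
helper26: S5681 / S5709 part (LA'), block R2 of `notes/S5681_LA_leaves.lean`: leaf (R2-5b) `prod_ne_zero`,
and core forms of (R2-5a) `prod_scalar`, (R2-5c) `mid_Bt_shape`.
-/

set_option autoImplicit false
set_option linter.unusedSectionVars false
set_option linter.unusedVariables false

namespace Cfsg.Agent.Lib.Helper26.OTLALeaf
open Matrix
open Cfsg.Agent.Lib.Helper25.Tens Cfsg.Agent.Lib.Helper19.OSub
open Cfsg.Agent.Lib.Helper2.SOT Cfsg.Agent.Lib.Helper27.SOTLA Cfsg.Agent.Lib.Helper13.OTU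
open Cfsg.Agent.Lib.Helper13.OTLA
open Cfsg.Agent.Lib.Helper29.OTLALeaf Cfsg.Agent.Lib.Helper13.OTLALeaf
open scoped Kronecker

variable {F : Type*} [Field F] [Fintype F] {a b : ℕ} {G₁ : Matrix (Fin a) (Fin a) F}
  {G₂ : Matrix (Fin b) (Fin b) F} {o o' p p' : Fin b} {Om M : Subgroup (GL (Idx a b) F)}

/-- a middle index exists when `5 ≤ b` -/
lemma exists_mid26 (hb : 5 ≤ b) (o o' p p' : Fin b) : ∃ m : Fin b, cls o o' p p' m = 1 := by
  classical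
  have hcard : (({o, o', p, p'} : Finset (Fin b))).card < (Finset.univ : Finset (Fin b)).card := by
    rw [Finset.card_univ, Fintype.card_fin]
    calc (({o, o', p, p'} : Finset (Fin b))).card ≤ 4 := Finset.card_le_four
      _ < b := by omega
  obtain ⟨m, -, hm⟩ := Finset.exists_mem_notMem_of_card_lt_card hcard
  refine ⟨m, ?_⟩
  simp only [Finset.mem_insert, Finset.mem_singleton, not_or] at hm
  unfold cls
  rw [if_neg (by tauto), if_neg (by tauto)]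

/-- the middle part of `blk (X * Y) m m` for block upper triangular `X`, `Y` -/
lemma blk_mul_mid26 {X Y : Matrix (Idx a b) (Idx a b) F} (hX : BUT o o' p p' X)
    (hY : BUT o o' p p' Y) (m : Fin b) (hm : cls o o' p p' m = 1) (j : Fin b)
    (hj : cls o o' p p' j ≠ 1) : blk X m j * blk Y j m = 0 := by
  have h2 := cls_le_two (o := o) (o' := o') (p := p) (p' := p') j
  have : cls o o' p p' j = 0 ∨ cls o o' p p' j = 2 := by omega
  rcases this with h0 | h0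
  · rw [hX m j (by omega), zero_mul]
  · rw [hY j m (by omega), mul_zero]


/-- the conclusion of (P1a) `exists_yel`, as a hypothesis -/
def YelP (o o' p p' : Fin b) (G₂ : Matrix (Fin b) (Fin b) F) (M : Subgroup (GL (Idx a b) F)) : Prop :=
  ∀ v : Fin b → F, IsB0 o o' p p' v →
    ∃ y : GL (Idx a b) F, y ∈ M ∧ y ∈ KG a b F ∧ UL o o' p p' y.1 ∧
      (∀ m : Fin b, cls o o' p p' m = 1 → blk y.1 m p = v m • (1 : Matrix (Fin a) (Fin a) F)) ∧
      (∀ m : Fin b, cls o o' p p' m = 1 → blk y.1 m p' = 0) ∧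
      (∀ m : Fin b, cls o o' p p' m = 1 →
        blk y.1 o m = (-((G₂ *ᵥ v) m)) • (1 : Matrix (Fin a) (Fin a) F)) ∧
      (∀ m : Fin b, cls o o' p p' m = 1 → blk y.1 o' m = 0)

/-- the conclusion of (P1b) `exists_yel'`, as a hypothesis -/
def YelP' (o o' p p' : Fin b) (G₂ : Matrix (Fin b) (Fin b) F) (M : Subgroup (GL (Idx a b) F)) : Prop :=
  ∀ v : Fin b → F, IsB0 o o' p p' v →
    ∃ y : GL (Idx a b) F, y ∈ M ∧ y ∈ KG a b F ∧ UL o o' p p' y.1 ∧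
      (∀ m : Fin b, cls o o' p p' m = 1 → blk y.1 m p = 0) ∧
      (∀ m : Fin b, cls o o' p p' m = 1 → blk y.1 m p' = v m • (1 : Matrix (Fin a) (Fin a) F)) ∧
      (∀ m : Fin b, cls o o' p p' m = 1 → blk y.1 o m = 0) ∧
      (∀ m : Fin b, cls o o' p p' m = 1 →
        blk y.1 o' m = (-((G₂ *ᵥ v) m)) • (1 : Matrix (Fin a) (Fin a) F))

/-- `e_{m₀}` is in `B₀` for a middle index `m₀` -/
lemma isB0_single26 (hA : Adp G₂ o o' p p') (m₀ : Fin b) (hm₀ : cls o o' p p' m₀ = 1) :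
    IsB0 o o' p p' (Pi.single m₀ (1 : F)) := by
  obtain ⟨h1, h2, h3, h4⟩ := (cls_eq_one_iff hA m₀).1 hm₀
  refine ⟨?_, ?_, ?_, ?_⟩
  · exact Pi.single_eq_of_ne (Ne.symm h1) _
  · exact Pi.single_eq_of_ne (Ne.symm h2) _
  · exact Pi.single_eq_of_ne (Ne.symm h3) _
  · exact Pi.single_eq_of_ne (Ne.symm h4) _

/-- the `θ`-part of the conjugate of a `U`-form element whose `θ`-part is `E_{m₀,c₀}` -/
lemma conj_theta_single26 (hA : Adp G₂ o o' p p') {g : GL (Idx a b) F} (hg : BUT o o' p p' g.1)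
    (hg' : BUT o o' p p' g⁻¹.1) {X : Matrix (Idx a b) (Idx a b) F} (hU : UL o o' p p' X)
    (m₀ c₀ : Fin b) (hm₀ : cls o o' p p' m₀ = 1) (hc₀ : cls o o' p p' c₀ = 2)
    (hX : ∀ m' c' : Fin b, cls o o' p p' m' = 1 → cls o o' p p' c' = 2 →
      blk X m' c' = if m' = m₀ ∧ c' = c₀ then 1 else 0)
    (m c : Fin b) (hm : cls o o' p p' m = 1) (hc : cls o o' p p' c = 2) :
    blk (g.1 * X * g⁻¹.1) m c = blk g.1 m m₀ * blk g⁻¹.1 c₀ c := by
  classical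
  rw [BUT_conj_theta hA hg hg' hU m c hm hc]
  rw [Finset.sum_eq_single m₀]
  · rw [Finset.sum_eq_single c₀]
    · rw [if_pos ⟨hm₀, hc₀⟩, hX m₀ c₀ hm₀ hc₀, if_pos ⟨rfl, rfl⟩, mul_one]
    · intro c' _ hc'
      by_cases hcc : cls o o' p p' m₀ = 1 ∧ cls o o' p p' c' = 2
      · rw [if_pos hcc, hX m₀ c' hcc.1 hcc.2, if_neg (fun hh => hc' hh.2), mul_zero, zero_mul]
      · rw [if_neg hcc]
    · intro hh; exact absurd (Finset.mem_univ _) hh
  · intro m' _ hm'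
    apply Finset.sum_eq_zero
    intro c' _
    by_cases hcc : cls o o' p p' m' = 1 ∧ cls o o' p p' c' = 2
    · rw [if_pos hcc, hX m' c' hcc.1 hcc.2, if_neg (fun hh => hm' hh.1), mul_zero, zero_mul]
    · rw [if_neg hcc]
  · intro hh; exact absurd (Finset.mem_univ _) hh

/-- (R2-5a), core form: `exists_yel`, `exists_yel'` and (R1+) as hypotheses -/
theorem prod_scalar_core (h : LBase G₁ G₂ o o' p p' Om M)
    (hyel : YelP (a := a) o o' p p' G₂ M) (hyel' : YelP' (a := a) o o' p p' G₂ M)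
    (hR1p : ∀ x : GL (Idx a b) F, x ∈ M → UL o o' p p' x.1 → x ∈ KG a b F)
    {g : GL (Idx a b) F} (hg : g ∈ M) (hst : StabR o o' g.1) (m m₀ c₀ c : Fin b)
    (hm : cls o o' p p' m = 1) (hm₀ : cls o o' p p' m₀ = 1) (hc₀ : cls o o' p p' c₀ = 2)
    (hc : cls o o' p p' c = 2) : IsScal (blk g.1 m m₀ * blk g⁻¹.1 c₀ c) := by
  classical
  have hA := h.adp
  have hiso : IsIso G₁ G₂ g.1 := h.om_iso g (h.le_om hg)
  obtain ⟨hB, hB'⟩ := BUT_of_iso h.symm1 h.symm2 h.nd1 h.nd2 hA hiso hst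
  have hpp' : p ≠ p' := hA.hpp'
  have hv := isB0_single26 hA m₀ hm₀
  -- the element `u` with `θ`-part `E_{m₀,c₀}`
  have hu : ∃ u : GL (Idx a b) F, u ∈ M ∧ UL o o' p p' u.1 ∧
      ∀ m' c' : Fin b, cls o o' p p' m' = 1 → cls o o' p p' c' = 2 →
        blk u.1 m' c' = if m' = m₀ ∧ c' = c₀ then 1 else 0 := by
    rcases (cls_eq_two_iff hA c₀).1 hc₀ with rfl | rfl
    · obtain ⟨y, hyM, -, hyU, h1, h2, -, -⟩ := hyel _ hv
      refine ⟨y, hyM, hyU, ?_⟩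
      intro m' c' hm' hc'
      rcases (cls_eq_two_iff hA c').1 hc' with rfl | rfl
      · rw [h1 m' hm']
        by_cases hmm : m' = m₀
        · subst hmm
          rw [Pi.single_eq_same, one_smul, if_pos ⟨rfl, rfl⟩]
        · rw [Pi.single_eq_of_ne hmm, zero_smul, if_neg (fun hh => hmm hh.1)]
      · rw [h2 m' hm', if_neg (fun hh => hpp' hh.2.symm)]
    · obtain ⟨y, hyM, -, hyU, h1, h2, -, -⟩ := hyel' _ hv
      refine ⟨y, hyM, hyU, ?_⟩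
      intro m' c' hm' hc'
      rcases (cls_eq_two_iff hA c').1 hc' with rfl | rfl
      · rw [h1 m' hm', if_neg (fun hh => hpp' hh.2)]
      · rw [h2 m' hm']
        by_cases hmm : m' = m₀
        · subst hmm
          rw [Pi.single_eq_same, one_smul, if_pos ⟨rfl, rfl⟩]
        · rw [Pi.single_eq_of_ne hmm, zero_smul, if_neg (fun hh => hmm hh.1)]
  obtain ⟨u, huM, huU, huθ⟩ := hu
  have hxM : g * u * g⁻¹ ∈ M := M.mul_mem (M.mul_mem hg huM) (M.inv_mem hg)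
  have hxU : UL o o' p p' (g * u * g⁻¹).1 := by
    rw [Units.val_mul, Units.val_mul]
    exact BUT_conj_UL hA hB hB' huU
  have hxK : g * u * g⁻¹ ∈ KG a b F := hR1p _ hxM hxU
  have hsc := KG_uform hA hxK hxU m c
  rw [Units.val_mul, Units.val_mul,
    conj_theta_single26 hA hB hB' huU m₀ c₀ hm₀ hc₀ huθ m c hm hc] at hsc
  exact hsc

/-- (R2-5b) not all the products `δ-block × (γ*⁻¹)-block` vanish -/
theorem prod_ne_zero (hA : Adp G₂ o o' p p') (ha : 0 < a) (hb : 5 ≤ b) {g : GL (Idx a b) F}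
    (hg : BUT o o' p p' g.1) (hg' : BUT o o' p p' g⁻¹.1) :
    ∃ m m₀ c₀ c : Fin b, cls o o' p p' m = 1 ∧ cls o o' p p' m₀ = 1 ∧ cls o o' p p' c₀ = 2 ∧
      cls o o' p p' c = 2 ∧ blk g.1 m m₀ * blk g⁻¹.1 c₀ c ≠ 0 := by
  classical
  by_contra hcon
  have hall : ∀ m m₀ c₀ c : Fin b, cls o o' p p' m = 1 → cls o o' p p' m₀ = 1 →
      cls o o' p p' c₀ = 2 → cls o o' p p' c = 2 → blk g.1 m m₀ * blk g⁻¹.1 c₀ c = 0 := by
    intro m m₀ c₀ c h1 h2 h3 h4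
    by_contra hne
    exact hcon ⟨m, m₀, c₀, c, h1, h2, h3, h4, hne⟩
  obtain ⟨m₁, hm₁⟩ := exists_mid26 hb o o' p p'
  -- `Σ_j (g⁻¹)_{m₁,j} g_{j,m₁} = 1`
  have hinv : g⁻¹.1 * g.1 = 1 := by
    rw [← Units.val_mul, inv_mul_cancel, Units.val_one]
  have hinv' : g.1 * g⁻¹.1 = 1 := by
    rw [← Units.val_mul, mul_inv_cancel, Units.val_one]
  have h1 : ∑ j, blk g⁻¹.1 m₁ j * blk g.1 j m₁ = 1 := by
    rw [← blk_mul, hinv, blk_one, if_pos rfl]
  -- all `(g⁻¹)_{c₀,c}` vanish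
  have hz : ∀ c₀ c : Fin b, cls o o' p p' c₀ = 2 → cls o o' p p' c = 2 → blk g⁻¹.1 c₀ c = 0 := by
    intro c₀ c hc₀ hc
    calc blk g⁻¹.1 c₀ c = (∑ j, blk g⁻¹.1 m₁ j * blk g.1 j m₁) * blk g⁻¹.1 c₀ c := by
          rw [h1, one_mul]
      _ = ∑ j, blk g⁻¹.1 m₁ j * blk g.1 j m₁ * blk g⁻¹.1 c₀ c := by rw [Finset.sum_mul]
      _ = 0 := by
          apply Finset.sum_eq_zero
          intro j _
          by_cases hj : cls o o' p p' j = 1
          · rw [mul_assoc, hall j m₁ c₀ c hj hm₁ hc₀ hc, mul_zero]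
          · rw [blk_mul_mid26 hg' hg m₁ hm₁ j hj, zero_mul]
  -- contradiction at the block `(p,p)` of `g g⁻¹ = 1`
  have hp : cls o o' p p' p = 2 := (cls_eq_two_iff hA p).2 (Or.inl rfl)
  have h2 : ∑ j, blk g.1 p j * blk g⁻¹.1 j p = 1 := by
    rw [← blk_mul, hinv', blk_one, if_pos rfl]
  have h3 : ∑ j, blk g.1 p j * blk g⁻¹.1 j p = 0 := by
    apply Finset.sum_eq_zero
    intro j _
    by_cases hj : cls o o' p p' j = 2
    · rw [hz j p hj hp, mul_zero]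
    · have h2' := cls_le_two (o := o) (o' := o') (p := p) (p' := p') j
      rw [hg p j (by omega), zero_mul]
  rw [h3] at h2
  have : (0 : Matrix (Fin a) (Fin a) F) ⟨0, ha⟩ ⟨0, ha⟩ = (1 : Matrix (Fin a) (Fin a) F) ⟨0, ha⟩ ⟨0, ha⟩ := by
    rw [h2]
  simp at this

/-- (R2-5c), pure form: from the statements of (R2-5a) and (R2-5b) by the fibre lemma -/
theorem mid_Bt_shape_gen {g : GL (Idx a b) F}
    (hps : ∀ m m₀ c₀ c : Fin b, cls o o' p p' m = 1 → cls o o' p p' m₀ = 1 →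
      cls o o' p p' c₀ = 2 → cls o o' p p' c = 2 → IsScal (blk g.1 m m₀ * blk g⁻¹.1 c₀ c))
    (hpn : ∃ m m₀ c₀ c : Fin b, cls o o' p p' m = 1 ∧ cls o o' p p' m₀ = 1 ∧ cls o o' p p' c₀ = 2 ∧
      cls o o' p p' c = 2 ∧ blk g.1 m m₀ * blk g⁻¹.1 c₀ c ≠ 0) :
    ∃ s : GL (Fin a) F,
      (∀ m m₀ : Fin b, cls o o' p p' m = 1 → cls o o' p p' m₀ = 1 →
        ∃ c : F, blk g.1 m m₀ = c • s⁻¹.1) ∧
      (∀ c₀ c : Fin b, cls o o' p p' c₀ = 2 → cls o o' p p' c = 2 →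
        ∃ t : F, blk g⁻¹.1 c₀ c = t • s.1) := by
  obtain ⟨m, m₀, c₀, c, hm, hm₀, hc₀, hc, hne⟩ := hpn
  obtain ⟨s, hs1, hs2⟩ := Cfsg.Agent.Lib.Helper26.OTAlg.fibre_core
    (ι := {q : Fin b × Fin b // cls o o' p p' q.1 = 1 ∧ cls o o' p p' q.2 = 1})
    (κ := {q : Fin b × Fin b // cls o o' p p' q.1 = 2 ∧ cls o o' p p' q.2 = 2})
    (fun i => blk g.1 i.1.1 i.1.2) (fun j => blk g⁻¹.1 j.1.1 j.1.2)
    (fun i j => hps i.1.1 i.1.2 j.1.1 j.1.2 i.2.1 i.2.2 j.2.1 j.2.2)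
    ⟨(m, m₀), hm, hm₀⟩ ⟨(c₀, c), hc₀, hc⟩ hne
  refine ⟨s, ?_, ?_⟩
  · intro m m₀ hm hm₀
    exact hs1 ⟨(m, m₀), hm, hm₀⟩
  · intro c₀ c hc₀ hc
    exact hs2 ⟨(c₀, c), hc₀, hc⟩

/-- (R2-5c), core form: `exists_yel`, `exists_yel'` and (R1+) as hypotheses -/
theorem mid_Bt_shape_core (h : LBase G₁ G₂ o o' p p' Om M)
    (hyel : YelP (a := a) o o' p p' G₂ M) (hyel' : YelP' (a := a) o o' p p' G₂ M)
    (hR1p : ∀ x : GL (Idx a b) F, x ∈ M → UL o o' p p' x.1 → x ∈ KG a b F)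
    {g : GL (Idx a b) F} (hg : g ∈ M) (hst : StabR o o' g.1) :
    ∃ s : GL (Fin a) F,
      (∀ m m₀ : Fin b, cls o o' p p' m = 1 → cls o o' p p' m₀ = 1 →
        ∃ c : F, blk g.1 m m₀ = c • s⁻¹.1) ∧
      (∀ c₀ c : Fin b, cls o o' p p' c₀ = 2 → cls o o' p p' c = 2 →
        ∃ t : F, blk g⁻¹.1 c₀ c = t • s.1) := by
  have hiso : IsIso G₁ G₂ g.1 := h.om_iso g (h.le_om hg)
  obtain ⟨hB, hB'⟩ := BUT_of_iso h.symm1 h.symm2 h.nd1 h.nd2 h.adp hiso hst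
  exact mid_Bt_shape_gen
    (fun m m₀ c₀ c hm hm₀ hc₀ hc => prod_scalar_core h hyel hyel' hR1p hg hst m m₀ c₀ c hm hm₀ hc₀ hc)
    (prod_ne_zero h.adp (by have := h.ha; omega) h.hb hB hB')

end Cfsg.Agent.Lib.Helper26.OTLALeaf
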