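import Mathlib
import Cfsg.Agent.Lib.Helper2.SOTDefs
import Cfsg.Agent.Lib.Helper27.SOTLADefs
import Cfsg.Agent.Lib.Helper13.OTUCalc
import Cfsg.Agent.Lib.Helper13.OTLADefs

/-!
helper26: S5681 / S5709 part (LA'), block FC of `notes/S5681_LA_leaves.lean`: the rank lemmas
`rank_kron_one`, `rank_one_kron`, `rank_nL`, the nilpotency `conj_sub_one_sq` and `skew_of_orth_sq_zero`
(the latter with the missing hypothesis `Gᵀ = G` added).
-/

set_option autoImplicit false
set_option linter.unusedSectionVars false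
set_option linter.unusedVariables false

namespace Cfsg.Agent.Lib.Helper26.OTLALeaf
open Matrix
open Cfsg.Agent.Lib.Helper25.Tens Cfsg.Agent.Lib.Helper19.OSub
open Cfsg.Agent.Lib.Helper2.SOT Cfsg.Agent.Lib.Helper27.SOTLA Cfsg.Agent.Lib.Helper13.OTU
open Cfsg.Agent.Lib.Helper13.OTLA
open scoped Kronecker

section generic
variable {K : Type*} [Field K] {m n : Type*} [Fintype m] [DecidableEq m] [Fintype n] [DecidableEq n]

/-- rank of `A ⊗ 1` -/
theorem rank_kron_one_gen (A : Matrix m m K) :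
    (A ⊗ₖ (1 : Matrix n n K)).rank = A.rank * Fintype.card n := by
  classical
  obtain ⟨L, L', D, hD⟩ := Matrix.Pivot.exists_list_transvec_mul_mul_list_transvec_eq_diagonal A
  set P := (L.map Matrix.TransvectionStruct.toMatrix).prod with hP
  set Q := (L'.map Matrix.TransvectionStruct.toMatrix).prod with hQ
  have hPdet : IsUnit P.det := by
    rw [hP, Matrix.TransvectionStruct.det_toMatrix_prod]; exact isUnit_one
  have hQdet : IsUnit Q.det := by
    rw [hQ, Matrix.TransvectionStruct.det_toMatrix_prod]; exact isUnit_one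
  have hP1 : IsUnit (P ⊗ₖ (1 : Matrix n n K)).det := by
    rw [det_kronecker, Matrix.det_one, one_pow, mul_one]; exact hPdet.pow _
  have hQ1 : IsUnit (Q ⊗ₖ (1 : Matrix n n K)).det := by
    rw [det_kronecker, Matrix.det_one, one_pow, mul_one]; exact hQdet.pow _
  have hA : A.rank = (Matrix.diagonal D).rank := by
    rw [← hD, Matrix.rank_mul_eq_left_of_isUnit_det Q _ hQdet,
      Matrix.rank_mul_eq_right_of_isUnit_det P _ hPdet]
  have hk : (P ⊗ₖ (1 : Matrix n n K)) * (A ⊗ₖ (1 : Matrix n n K)) * (Q ⊗ₖ (1 : Matrix n n K)) =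
      Matrix.diagonal (fun x : m × n => D x.1) := by
    rw [← mul_kronecker_mul, ← mul_kronecker_mul, Matrix.one_mul, Matrix.one_mul, hD,
      ← Matrix.diagonal_one, diagonal_kronecker_diagonal]
    simp
  have hA1 : (A ⊗ₖ (1 : Matrix n n K)).rank = (Matrix.diagonal (fun x : m × n => D x.1)).rank := by
    rw [← hk, Matrix.rank_mul_eq_left_of_isUnit_det _ _ hQ1,
      Matrix.rank_mul_eq_right_of_isUnit_det _ _ hP1]
  rw [hA1, hA, Matrix.rank_diagonal, Matrix.rank_diagonal,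
    Fintype.card_congr (Equiv.prodSubtypeFstEquivSubtypeProd (p := fun i => D i ≠ 0) (β := n)),
    Fintype.card_prod]

/-- rank of `1 ⊗ B` -/
theorem rank_one_kron_gen (B : Matrix n n K) :
    ((1 : Matrix m m K) ⊗ₖ B).rank = Fintype.card m * B.rank := by
  classical
  obtain ⟨L, L', D, hD⟩ := Matrix.Pivot.exists_list_transvec_mul_mul_list_transvec_eq_diagonal B
  set P := (L.map Matrix.TransvectionStruct.toMatrix).prod with hP
  set Q := (L'.map Matrix.TransvectionStruct.toMatrix).prod with hQ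
  have hPdet : IsUnit P.det := by
    rw [hP, Matrix.TransvectionStruct.det_toMatrix_prod]; exact isUnit_one
  have hQdet : IsUnit Q.det := by
    rw [hQ, Matrix.TransvectionStruct.det_toMatrix_prod]; exact isUnit_one
  have hP1 : IsUnit ((1 : Matrix m m K) ⊗ₖ P).det := by
    rw [det_kronecker, Matrix.det_one, one_pow, one_mul]; exact hPdet.pow _
  have hQ1 : IsUnit ((1 : Matrix m m K) ⊗ₖ Q).det := by
    rw [det_kronecker, Matrix.det_one, one_pow, one_mul]; exact hQdet.pow _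
  have hB : B.rank = (Matrix.diagonal D).rank := by
    rw [← hD, Matrix.rank_mul_eq_left_of_isUnit_det Q _ hQdet,
      Matrix.rank_mul_eq_right_of_isUnit_det P _ hPdet]
  have hk : ((1 : Matrix m m K) ⊗ₖ P) * ((1 : Matrix m m K) ⊗ₖ B) * ((1 : Matrix m m K) ⊗ₖ Q) =
      Matrix.diagonal (fun x : m × n => D x.2) := by
    rw [← mul_kronecker_mul, ← mul_kronecker_mul, Matrix.one_mul, Matrix.one_mul, hD,
      ← Matrix.diagonal_one, diagonal_kronecker_diagonal]
    simp
  have hB1 : ((1 : Matrix m m K) ⊗ₖ B).rank = (Matrix.diagonal (fun x : m × n => D x.2)).rank := by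
    rw [← hk, Matrix.rank_mul_eq_left_of_isUnit_det _ _ hQ1,
      Matrix.rank_mul_eq_right_of_isUnit_det _ _ hP1]
  rw [hB1, hB, Matrix.rank_diagonal, Matrix.rank_diagonal,
    Fintype.card_congr ((Equiv.subtypeEquiv (p := fun x : m × n => D x.2 ≠ 0)
      (q := fun x : n × m => D x.1 ≠ 0) (Equiv.prodComm m n) (fun x => Iff.rfl)).trans
      (Equiv.prodSubtypeFstEquivSubtypeProd (p := fun i => D i ≠ 0) (β := m))),
    Fintype.card_prod, mul_comm]

end generic

variable {F : Type*} [Field F] [Fintype F] {a b : ℕ} {G₁ : Matrix (Fin a) (Fin a) F}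
  {G₂ : Matrix (Fin b) (Fin b) F} {o o' p p' : Fin b} {Om M : Subgroup (GL (Idx a b) F)}

/-- a unipotent isometry `1 + ν` with `ν² = 0` of a SYMMETRIC Gram matrix has `ν` skew-adjoint -/
theorem skew_of_orth_sq_zero {n : ℕ} {G ν : Matrix (Fin n) (Fin n) F} (hG : Gᵀ = G) (hν : ν * ν = 0)
    (h : IsOrthB G (1 + ν)) : (G * ν)ᵀ = -(G * ν) ∧ IsSkewAdj G ν := by
  have h0 : (1 + ν)ᵀ * G * (1 + ν) = G := h
  have h1 : νᵀ * G + G * ν + νᵀ * G * ν = 0 := by
    have e : (1 + ν)ᵀ * G * (1 + ν) = G + (νᵀ * G + G * ν + νᵀ * G * ν) := by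
      rw [Matrix.transpose_add, Matrix.transpose_one]
      noncomm_ring
    rw [e] at h0
    exact add_eq_left.1 h0
  have h2 : νᵀ * G * ν = 0 := by
    have e : (νᵀ * G + G * ν + νᵀ * G * ν) * ν = νᵀ * G * ν + G * (ν * ν) + νᵀ * G * (ν * ν) := by
      noncomm_ring
    rw [h1, hν, Matrix.mul_zero, Matrix.mul_zero, add_zero, add_zero, Matrix.zero_mul] at e
    exact e.symm
  rw [h2, add_zero] at h1
  have h3 : G * ν = -(νᵀ * G) := eq_neg_of_add_eq_zero_right h1
  refine ⟨?_, h3⟩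
  rw [Matrix.transpose_mul, hG, h3, neg_neg]

/-- (FC-0a) rank of a Kronecker product with `1`. -/
theorem rank_kron_one (ν : Matrix (Fin a) (Fin a) F) :
    (ν ⊗ₖ (1 : Matrix (Fin b) (Fin b) F) : Matrix (Idx a b) (Idx a b) F).rank = ν.rank * b := by
  have := rank_kron_one_gen (n := Fin b) ν
  rwa [Fintype.card_fin] at this

/-- (FC-0b) -/
theorem rank_one_kron (β : Matrix (Fin b) (Fin b) F) :
    ((1 : Matrix (Fin a) (Fin a) F) ⊗ₖ β : Matrix (Idx a b) (Idx a b) F).rank = a * β.rank := by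
  have := rank_one_kron_gen (m := Fin a) β
  rwa [Fintype.card_fin] at this

/-- (FC-0c) `n = E_{o,p'} - E_{o',p}` has rank `2`. -/
theorem rank_nL (hA : Adp G₂ o o' p p') : (nL o o' p p' : Matrix (Fin b) (Fin b) F).rank = 2 := by
  classical
  set τ : Equiv.Perm (Fin b) := (Equiv.swap o p') * (Equiv.swap o' p) with hτ
  have hτo : τ o = p' := by
    rw [hτ, Equiv.Perm.mul_apply, Equiv.swap_apply_of_ne_of_ne hA.hoo' hA.hop, Equiv.swap_apply_left]
  have hτo' : τ o' = p := by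
    rw [hτ, Equiv.Perm.mul_apply, Equiv.swap_apply_left,
      Equiv.swap_apply_of_ne_of_ne (Ne.symm hA.hop) hA.hpp']
  set w : Fin b → F := fun i => if i = o then 1 else if i = o' then -1 else 0 with hw
  have hsub : (nL o o' p p' : Matrix (Fin b) (Fin b) F).submatrix (Equiv.refl _) τ =
      Matrix.diagonal w := by
    ext i j
    have hL : (nL o o' p p' : Matrix (Fin b) (Fin b) F).submatrix (Equiv.refl _) τ i j =
        (if o = i ∧ p' = τ j then (1 : F) else 0) - (if o' = i ∧ p = τ j then (1 : F) else 0) := by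
      simp only [Matrix.submatrix_apply, Equiv.refl_apply, nL, Matrix.sub_apply, Matrix.single_apply]
    rw [hL, Matrix.diagonal_apply]
    by_cases h1 : o = i
    · have h2 : ¬ (o' = i) := fun h => hA.hoo' (h1.trans h.symm)
      by_cases h3 : i = j
      · have h4 : p' = τ j := by rw [← h3, ← h1, hτo]
        rw [if_pos ⟨h1, h4⟩, if_neg (fun h => h2 h.1), if_pos h3, hw]
        simp [h1.symm]
      · have h4 : ¬ (p' = τ j) := fun h => h3 (by rw [← h1]; exact τ.injective (hτo.trans h))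
        rw [if_neg (fun h => h4 h.2), if_neg (fun h => h2 h.1), if_neg h3, sub_zero]
    · by_cases h2 : o' = i
      · by_cases h3 : i = j
        · have h4 : p = τ j := by rw [← h3, ← h2, hτo']
          rw [if_neg (fun h => h1 h.1), if_pos ⟨h2, h4⟩, if_pos h3, hw]
          simp [h2.symm, Ne.symm hA.hoo']
        · have h4 : ¬ (p = τ j) := fun h => h3 (by rw [← h2]; exact τ.injective (hτo'.trans h))
          rw [if_neg (fun h => h1 h.1), if_neg (fun h => h4 h.2), if_neg h3, sub_zero]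
      · rw [if_neg (fun h => h1 h.1), if_neg (fun h => h2 h.1), sub_zero]
        by_cases h3 : i = j
        · rw [if_pos h3, hw]
          simp [Ne.symm h1, Ne.symm h2]
        · rw [if_neg h3]
  have hrank : (nL o o' p p' : Matrix (Fin b) (Fin b) F).rank = (Matrix.diagonal w).rank := by
    rw [← hsub, Matrix.rank_submatrix]
  rw [hrank, Matrix.rank_diagonal, Fintype.card_subtype]
  have hfilter : (Finset.univ.filter fun i => w i ≠ 0) = {o, o'} := by
    ext i
    simp only [Finset.mem_filter, Finset.mem_univ, true_and, Finset.mem_insert,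
      Finset.mem_singleton, hw]
    by_cases hio : i = o
    · simp [hio]
    · by_cases hio' : i = o'
      · simp [hio', Ne.symm hA.hoo']
      · simp [hio, hio']
  rw [hfilter, Finset.card_pair hA.hoo']

/-- the corner part of `Zm` squares to zero -/
lemma Zm_sub_one_sq (hA : Adp G₂ o o' p p') (κ₁ κ₂ σ τ : Matrix (Fin a) (Fin a) F) :
    (Zm o o' p p' κ₁ κ₂ σ τ - 1) * (Zm o o' p p' κ₁ κ₂ σ τ - 1) = 0 := by
  have e : Zm o o' p p' κ₁ κ₂ σ τ - 1 = κ₁ ⊗ₖ (Matrix.single o p (1 : F)) +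
      σ ⊗ₖ (Matrix.single o p' (1 : F)) + τ ⊗ₖ (Matrix.single o' p (1 : F)) +
      κ₂ ⊗ₖ (Matrix.single o' p' (1 : F)) := by
    unfold Zm
    abel
  rw [e]
  have h1 : ∀ (k l k' l' : Fin b) (X Y : Matrix (Fin a) (Fin a) F), l ≠ k' →
      (X ⊗ₖ (Matrix.single k l (1 : F))) * (Y ⊗ₖ (Matrix.single k' l' (1 : F))) = 0 := by
    intro k l k' l' X Y hne
    rw [← mul_kronecker_mul, Matrix.single_mul_single_of_ne (1 : F) k l k' hne (1 : F),
      kronecker_zero]
  simp only [Matrix.mul_add, Matrix.add_mul,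
    h1 o p o p _ _ (Ne.symm hA.hop), h1 o p o p' _ _ (Ne.symm hA.hop),
    h1 o p o' p _ _ (Ne.symm hA.ho'p), h1 o p o' p' _ _ (Ne.symm hA.ho'p),
    h1 o p' o p _ _ (Ne.symm hA.hop'), h1 o p' o p' _ _ (Ne.symm hA.hop'),
    h1 o p' o' p _ _ (Ne.symm hA.ho'p'), h1 o p' o' p' _ _ (Ne.symm hA.ho'p'),
    h1 o' p o p _ _ (Ne.symm hA.hop), h1 o' p o p' _ _ (Ne.symm hA.hop),
    h1 o' p o' p _ _ (Ne.symm hA.ho'p), h1 o' p o' p' _ _ (Ne.symm hA.ho'p),
    h1 o' p' o p _ _ (Ne.symm hA.hop'), h1 o' p' o p' _ _ (Ne.symm hA.hop'),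
    h1 o' p' o' p _ _ (Ne.symm hA.ho'p'), h1 o' p' o' p' _ _ (Ne.symm hA.ho'p'), add_zero]

/-- (FC-1) `(t - 1)² = 0`, hence `(k' - 1)² = 0` for every conjugate `k'` of `t`. -/
theorem conj_sub_one_sq (hA : Adp G₂ o o' p p') {m t : GL (Idx a b) F}
    (ht : t.1 = Zc G₁ o o' p p' 0 0 ((1 : F) • (1 : Matrix (Fin a) (Fin a) F))) :
    ((m⁻¹ * t * m).1 - 1) * ((m⁻¹ * t * m).1 - 1) = 0 := by
  have hsq : (t.1 - 1) * (t.1 - 1) = 0 := by
    rw [ht]
    exact Zm_sub_one_sq hA _ _ _ _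
  have h1 : (m⁻¹).1 * m.1 = 1 := by rw [← Units.val_mul, inv_mul_cancel, Units.val_one]
  have h2 : m.1 * (m⁻¹).1 = 1 := by rw [← Units.val_mul, mul_inv_cancel, Units.val_one]
  have e : (m⁻¹ * t * m).1 - 1 = (m⁻¹).1 * (t.1 - 1) * m.1 := by
    rw [Units.val_mul, Units.val_mul, Matrix.mul_sub, Matrix.sub_mul, Matrix.mul_one, h1]
  rw [e]
  calc (m⁻¹).1 * (t.1 - 1) * m.1 * ((m⁻¹).1 * (t.1 - 1) * m.1)
      = (m⁻¹).1 * ((t.1 - 1) * (m.1 * (m⁻¹).1) * (t.1 - 1)) * m.1 := by
        simp only [Matrix.mul_assoc]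
    _ = 0 := by rw [h2, Matrix.mul_one, hsq, Matrix.mul_zero, Matrix.zero_mul]

end Cfsg.Agent.Lib.Helper26.OTLALeaf
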