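import Mathlib
import Cfsg.Agent.Lib.Helper2.SOTDefs
import Cfsg.Agent.Lib.Helper27.SOTLADefs
import Cfsg.Agent.Lib.Helper13.OTUCalc
import Cfsg.Agent.Lib.Helper13.OTLADefs
import Cfsg.Agent.Lib.Helper7.OTLAZm
import Cfsg.Agent.Lib.Helper7.OTLAIso
import Cfsg.Agent.Lib.Helper29.OTLAP0
import Cfsg.Agent.Lib.Helper26.OTAlg
import Cfsg.Agent.Lib.Helper26.OTLAFC

/-!
helper26: S5681 / S5709 part (LA'), block FC of `notes/S5681_LA_leaves.lean`: leaf (FC-A) `fc_caseA`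
(the case `k' = α₂ ⊗ 1` is impossible), and own copies of (FC-0d) `orth_of_IsIso_kron_one/one_kron`.
-/

set_option autoImplicit false
set_option linter.unusedSectionVars false
set_option linter.unusedVariables false

namespace Cfsg.Agent.Lib.Helper26.OTLALeaf
open Matrix
open Cfsg.Agent.Lib.Helper25.Tens Cfsg.Agent.Lib.Helper19.OSub
open Cfsg.Agent.Lib.Helper2.SOT Cfsg.Agent.Lib.Helper27.SOTLA Cfsg.Agent.Lib.Helper13.OTU
open Cfsg.Agent.Lib.Helper13.OTLA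
open scoped Kronecker

variable {F : Type*} [Field F] [Fintype F] {a b : ℕ} {G₁ : Matrix (Fin a) (Fin a) F}
  {G₂ : Matrix (Fin b) (Fin b) F} {o o' p p' : Fin b} {Om M : Subgroup (GL (Idx a b) F)}

/-- `A ↦ A ⊗ 1` is injective (`0 < b`) -/
lemma kron_one_inj26 (hb : 0 < b) {A B : Matrix (Fin a) (Fin a) F}
    (h : A ⊗ₖ (1 : Matrix (Fin b) (Fin b) F) = B ⊗ₖ (1 : Matrix (Fin b) (Fin b) F)) : A = B := by
  ext i j
  have := congrFun (congrFun h (i, ⟨0, hb⟩)) (j, ⟨0, hb⟩)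
  simpa using this

/-- (FC-0d), adapted form: `α ⊗ 1` isometry ⟹ `α` isometry of `G₁` -/
lemma orth_of_IsIso_kron_one_adp (hA : Adp G₂ o o' p p') {α : Matrix (Fin a) (Fin a) F}
    (h : IsIso G₁ G₂ (α ⊗ₖ (1 : Matrix (Fin b) (Fin b) F))) : IsOrthB G₁ α := by
  have h0 : (α ⊗ₖ (1 : Matrix (Fin b) (Fin b) F))ᵀ * (G₁ ⊗ₖ G₂) *
      (α ⊗ₖ (1 : Matrix (Fin b) (Fin b) F)) = G₁ ⊗ₖ G₂ := h
  have hT : (α ⊗ₖ (1 : Matrix (Fin b) (Fin b) F))ᵀ = αᵀ ⊗ₖ (1 : Matrix (Fin b) (Fin b) F) := by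
    rw [← Matrix.kroneckerMap_transpose, Matrix.transpose_one]
  rw [hT, ← mul_kronecker_mul, ← mul_kronecker_mul, Matrix.one_mul, Matrix.mul_one] at h0
  have h1 := congrArg (fun X => blk X o p) h0
  simp only [blk_kron] at h1
  have hop : G₂ o p = 1 := by rw [hA.row_o p, if_pos rfl]
  rw [hop, one_smul, one_smul] at h1
  exact h1

/-- (FC-A) case `k' = α₂ ⊗ 1` is impossible. -/
theorem fc_caseA (h : LBase G₁ G₂ o o' p p' Om M) {m t : GL (Idx a b) F} (hm : m ∈ M)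
    (ht : t.1 = Zc G₁ o o' p p' 0 0 ((1 : F) • (1 : Matrix (Fin a) (Fin a) F)))
    (α₂ : Matrix (Fin a) (Fin a) F)
    (hk : (m⁻¹ * t * m).1 = α₂ ⊗ₖ (1 : Matrix (Fin b) (Fin b) F)) : False := by
  have hb0 : 0 < b := lt_of_lt_of_le (by norm_num) h.hb
  set ν : Matrix (Fin a) (Fin a) F := α₂ - 1 with hν
  have hα₂ : α₂ = 1 + ν := by rw [hν]; abel
  -- `k' - 1 = ν ⊗ 1`
  have e1 : (m⁻¹ * t * m).1 - 1 = ν ⊗ₖ (1 : Matrix (Fin b) (Fin b) F) := by
    rw [hk, hα₂, Matrix.add_kronecker, one_kronecker_one, add_sub_cancel_left]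
  -- `ν² = 0`
  have hsq := conj_sub_one_sq (G₁ := G₁) h.adp (m := m) ht
  rw [e1, ← mul_kronecker_mul, Matrix.one_mul] at hsq
  have hνν : ν * ν = 0 := kron_one_inj26 hb0 (by rw [hsq, zero_kronecker])
  -- the rank
  have h1 : (m⁻¹).1 * m.1 = 1 := by rw [← Units.val_mul, inv_mul_cancel, Units.val_one]
  have hmdet : IsUnit m.1.det := by
    have : m.1.det * (m⁻¹).1.det = 1 := by
      rw [← Matrix.det_mul, ← Units.val_mul, mul_inv_cancel, Units.val_one, Matrix.det_one]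
    exact IsUnit.of_mul_eq_one _ this
  have hmidet : IsUnit (m⁻¹).1.det := by
    have : (m⁻¹).1.det * m.1.det = 1 := by
      rw [← Matrix.det_mul, h1, Matrix.det_one]
    exact IsUnit.of_mul_eq_one _ this
  have hrank : ν.rank * b = 2 * a := by
    have e2 : (m⁻¹ * t * m).1 - 1 = (m⁻¹).1 * (t.1 - 1) * m.1 := by
      rw [Units.val_mul, Units.val_mul, Matrix.mul_sub, Matrix.sub_mul, Matrix.mul_one, h1]
    have e3 : t.1 - 1 = (1 : Matrix (Fin a) (Fin a) F) ⊗ₖ (nL o o' p p' : Matrix (Fin b) (Fin b) F) := by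
      rw [ht, Cfsg.Agent.Lib.Helper7.OTLALeaf.Zc_scalar_eq h.nd1, one_smul, Matrix.kronecker_add,
        one_kronecker_one, add_sub_cancel_left]
    rw [← rank_kron_one, ← e1, e2, Matrix.rank_mul_eq_left_of_isUnit_det _ _ hmdet,
      Matrix.rank_mul_eq_right_of_isUnit_det _ _ hmidet, e3, rank_one_kron, rank_nL h.adp, mul_comm]
  -- isometries
  have hisom : IsIso G₁ G₂ m.1 := h.om_iso m (h.le_om hm)
  have hskew0 : IsSkewAdj G₁ (0 : Matrix (Fin a) (Fin a) F) := by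
    unfold IsSkewAdj
    rw [Matrix.mul_zero, Matrix.transpose_zero, Matrix.zero_mul, neg_zero]
  have hisot : IsIso G₁ G₂ t.1 := by
    rw [ht]
    exact (Cfsg.Agent.Lib.Helper7.OTLALeaf.Zc_iso h.symm1 h.symm2 h.nd1 h.adp 0 0 _).2
      ⟨hskew0, hskew0⟩
  have hisok : IsIso G₁ G₂ (m⁻¹ * t * m).1 := by
    rw [Units.val_mul, Units.val_mul]
    exact Cfsg.Agent.Lib.Helper29.OTLALeaf.IsIso_mul
      (Cfsg.Agent.Lib.Helper29.OTLALeaf.IsIso_mul
        (Cfsg.Agent.Lib.Helper29.OTLALeaf.IsIso_inv m hisom) hisot) hisom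
  rw [hk] at hisok
  have horth : IsOrthB G₁ (1 + ν) := by
    rw [← hα₂]
    exact orth_of_IsIso_kron_one_adp h.adp hisok
  -- skew, even rank
  obtain ⟨hsk, -⟩ := skew_of_orth_sq_zero h.symm1 hνν horth
  obtain ⟨r, hr⟩ := Cfsg.Agent.Lib.Helper26.OTAlg.even_rank_of_gram_skew h.two G₁ ν
    (isUnit_iff_ne_zero.2 h.nd1) hsk
  apply h.ndvd
  refine ⟨r, ?_⟩
  have h2 : 2 * (b * r) = 2 * a := by
    rw [← hrank, hr]
    ring
  exact (Nat.eq_of_mul_eq_mul_left (by norm_num) h2).symm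

end Cfsg.Agent.Lib.Helper26.OTLALeaf
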