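/-
helper26: S2281 part (0), file A: a generic regularity criterion.  A matrix `D` that is strictly upper
triangular with respect to a position function `pos : ι → ℕ` (values `< N`) satisfies `D ^ N = 0`;
if moreover `pos` is injective and the superdiagonal entries along a chain `c 0, c 1, …, c (N-1)`
(`pos (c t) = t`) are nonzero, then `D ^ (N - 1) ≠ 0`.
-/
import Mathlib

set_option autoImplicit false

namespace Cfsg.Agent.Lib.Helper26.RegSp

open Matrix

variable {ι : Type*} [Fintype ι] [DecidableEq ι] {F : Type*} [Field F]

/-- entries of powers of a strictly `pos`-upper triangular matrix vanish below the `k`-th diagonal -/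
theorem pow_apply_eq_zero_of_pos (pos : ι → ℕ) (D : Matrix ι ι F)
    (hD : ∀ a b, ¬ pos a < pos b → D a b = 0) (k : ℕ) :
    ∀ a b : ι, pos b < pos a + k → (D ^ k) a b = 0 := by
  induction k with
  | zero =>
    intro a b h
    rw [pow_zero, Matrix.one_apply, if_neg]
    rintro rfl
    omega
  | succ k ih =>
    intro a b h
    rw [pow_succ, Matrix.mul_apply]
    apply Finset.sum_eq_zero
    intro x _
    by_cases hx : pos x < pos a + k
    · rw [ih a x hx, zero_mul]
    · rw [hD x b (by omega), mul_zero]

/-- `D ^ N = 0` when all positions are `< N` -/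
theorem pow_eq_zero_of_pos (pos : ι → ℕ) (D : Matrix ι ι F)
    (hD : ∀ a b, ¬ pos a < pos b → D a b = 0) (N : ℕ) (hN : ∀ a, pos a < N) : D ^ N = 0 := by
  ext a b
  rw [Matrix.zero_apply]
  apply pow_apply_eq_zero_of_pos pos D hD N a b
  have := hN b
  omega

/-- the entries along the chain are nonzero -/
theorem pow_chain_ne_zero (pos : ι → ℕ) (hinj : Function.Injective pos) (D : Matrix ι ι F)
    (hD : ∀ a b, ¬ pos a < pos b → D a b = 0) (N : ℕ) (c : ℕ → ι) (hc : ∀ t, t < N → pos (c t) = t)
    (hsd : ∀ t, t + 1 < N → D (c t) (c (t + 1)) ≠ 0) (k : ℕ) :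
    ∀ i, i + k < N → (D ^ k) (c i) (c (i + k)) ≠ 0 := by
  induction k with
  | zero =>
    intro i _
    rw [pow_zero, add_zero, Matrix.one_apply_eq]
    exact one_ne_zero
  | succ k ih =>
    intro i hi
    rw [pow_succ, Matrix.mul_apply]
    rw [Finset.sum_eq_single (c (i + k))]
    · have h1 := ih i (by omega)
      have h2 := hsd (i + k) (by omega)
      have e : i + (k + 1) = i + k + 1 := by omega
      rw [e]
      exact mul_ne_zero h1 h2
    · intro x _ hx
      by_cases hx1 : pos x < i + k
      · have : (D ^ k) (c i) x = 0 := by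
          apply pow_apply_eq_zero_of_pos pos D hD k
          rw [hc i (by omega)]
          exact hx1
        rw [this, zero_mul]
      · have hx2 : pos x ≠ i + k := by
          intro h
          apply hx
          apply hinj
          rw [h, hc (i + k) (by omega)]
        have : D x (c (i + (k + 1))) = 0 := by
          apply hD
          rw [hc (i + (k + 1)) hi]
          omega
        rw [this, mul_zero]
    · intro h
      exact absurd (Finset.mem_univ _) h

/-- **regularity criterion** -/
theorem regular_of_pos (pos : ι → ℕ) (hinj : Function.Injective pos) (D : Matrix ι ι F)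
    (hD : ∀ a b, ¬ pos a < pos b → D a b = 0) (N : ℕ) (hN : ∀ a, pos a < N) (c : ℕ → ι)
    (hc : ∀ t, t < N → pos (c t) = t) (hsd : ∀ t, t + 1 < N → D (c t) (c (t + 1)) ≠ 0) :
    IsNilpotent D ∧ D ^ (N - 1) ≠ 0 := by
  refine ⟨⟨N, pow_eq_zero_of_pos pos D hD N hN⟩, ?_⟩
  intro h
  rcases Nat.eq_zero_or_pos N with h0 | h0
  · -- `N = 0`: the index type is empty, impossible since `D ^ 0 = 1`... handled via `c`/`hN`
    subst h0
    have : IsEmpty ι := ⟨fun a => by have := hN a; omega⟩
    -- all matrices over an empty type are equal; `D ^ 0 = 1 = 0` is fine, so we need no contradiction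
    -- here: the claim `D ^ (0 - 1) ≠ 0` is false for empty `ι`; exclude by using `c 0`
    exact (this.false (c 0)).elim
  · have key := pow_chain_ne_zero pos hinj D hD N c hc hsd (N - 1) 0 (by omega)
    rw [h, Matrix.zero_apply] at key
    exact key rfl

end Cfsg.Agent.Lib.Helper26.RegSp
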