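/-
helper26: S2282 (2), file A.  The explicit regular unipotent element `u0` of helper16's antidiagonal unitary
group `UJ σ (d+1+d)`, built from helper13's three-block elements (`LO` Levi, `UO` unipotent radical):
`u0 = diag(T, 1, T^{-*}) · x_{ε_{d-1}}(α, β)`, `T` the all-ones upper triangular matrix, i.e.
`u0 e_j = Σ_{k ≤ j} e_k`, `u0 d = d + α Σ_k e_k`, `u0 f_l = f_l - σ α d + β Σ_k e_k` (`l` last),
`u0 f_i = f_i - f_{i+1}` (`i < l`).  Regularity (`u0_regular`) via the generic `RegSp.regular_of_pos`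
on the three-block index type.  Witt vectors `eJ i`, `dJ`, `fJ i` in `Fin (d+1+d) → K`.
-/
import Mathlib
import Cfsg.Agent.Lib.Helper13.LSUOdd
import Cfsg.Agent.Lib.Helper26.RegSpA

set_option autoImplicit false
set_option linter.unusedSimpArgs false
set_option linter.unusedVariables false
set_option linter.unusedSectionVars false

namespace Cfsg.Agent.Lib.Helper26.SUReg

open Matrix Cfsg.Agent.Lib.Helper16.FusSU Cfsg.Agent.Lib.Helper13.LSU

variable {K : Type*} [Field K] {d : ℕ}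

/-- the all-ones upper triangular matrix -/
def Tup (K : Type*) [Field K] (d : ℕ) : Matrix (Fin d) (Fin d) K :=
  Matrix.of fun i j => if i ≤ j then 1 else 0

/-- its inverse `1 - (superdiagonal)` -/
def Tinv (K : Type*) [Field K] (d : ℕ) : Matrix (Fin d) (Fin d) K :=
  Matrix.of fun i j => if i = j then 1 else if (i : ℕ) + 1 = (j : ℕ) then -1 else 0

theorem Tup_apply (i j : Fin d) : Tup K d i j = if i ≤ j then 1 else 0 := rfl

theorem Tinv_apply (i j : Fin d) :
    Tinv K d i j = if i = j then 1 else if (i : ℕ) + 1 = (j : ℕ) then -1 else 0 := rfl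

/-- row sums against `Tinv` -/
theorem sum_Tinv_mul (g : Fin d → K) (i : Fin d) :
    ∑ k, Tinv K d i k * g k =
      g i - (if h : (i : ℕ) + 1 < d then g ⟨(i : ℕ) + 1, h⟩ else 0) := by
  have hsplit : ∀ k : Fin d, Tinv K d i k * g k =
      (if k = i then g k else 0) - (if (i : ℕ) + 1 = (k : ℕ) then g k else 0) := by
    intro k
    rw [Tinv_apply]
    by_cases h1 : i = k
    · have h2 : ¬ ((i : ℕ) + 1 = (k : ℕ)) := by rw [h1]; omega
      rw [if_pos h1, if_pos h1.symm, if_neg h2, one_mul, sub_zero]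
    · have h1' : ¬ k = i := fun h => h1 h.symm
      by_cases h2 : (i : ℕ) + 1 = (k : ℕ)
      · rw [if_neg h1, if_pos h2, if_neg h1', if_pos h2, neg_one_mul, zero_sub]
      · rw [if_neg h1, if_neg h2, if_neg h1', if_neg h2, zero_mul, sub_zero]
  rw [Finset.sum_congr rfl (fun k _ => hsplit k), Finset.sum_sub_distrib]
  congr 1
  · rw [Finset.sum_ite_eq' Finset.univ i g, if_pos (Finset.mem_univ _)]
  · by_cases h : (i : ℕ) + 1 < d
    · rw [dif_pos h]
      have : ∀ k : Fin d, (if (i : ℕ) + 1 = (k : ℕ) then g k else 0) =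
          (if k = (⟨(i : ℕ) + 1, h⟩ : Fin d) then g k else 0) := by
        intro k
        have : ((i : ℕ) + 1 = (k : ℕ)) ↔ k = (⟨(i : ℕ) + 1, h⟩ : Fin d) := by
          constructor
          · intro hk; apply Fin.ext; exact hk.symm
          · intro hk; rw [hk]
        simp only [this]
      rw [Finset.sum_congr rfl (fun k _ => this k),
        Finset.sum_ite_eq' Finset.univ (⟨(i : ℕ) + 1, h⟩ : Fin d) g,
        if_pos (Finset.mem_univ _)]
    · rw [dif_neg h]
      apply Finset.sum_eq_zero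
      intro k _
      have := k.2
      rw [if_neg (by omega)]

theorem Tinv_mul_Tup : Tinv K d * Tup K d = 1 := by
  ext i j
  rw [Matrix.mul_apply, sum_Tinv_mul (fun k => Tup K d k j) i, Matrix.one_apply]
  simp only [Tup_apply, Fin.le_def, Fin.ext_iff]
  by_cases h : (i : ℕ) + 1 < d
  · rw [dif_pos h]
    show (if (i : ℕ) ≤ (j : ℕ) then (1 : K) else 0) - (if (i : ℕ) + 1 ≤ (j : ℕ) then 1 else 0) = _
    by_cases h1 : (i : ℕ) = (j : ℕ)
    · rw [if_pos (by omega), if_neg (by omega), if_pos h1, sub_zero]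
    · by_cases h2 : (i : ℕ) ≤ (j : ℕ)
      · rw [if_pos h2, if_pos (by omega), if_neg h1, sub_self]
      · rw [if_neg h2, if_neg (by omega), if_neg h1, sub_zero]
  · rw [dif_neg h, sub_zero]
    have := j.2
    by_cases h1 : (i : ℕ) = (j : ℕ)
    · rw [if_pos (by omega), if_pos h1]
    · rw [if_neg (by omega), if_neg h1]

theorem det_Tup : (Tup K d).det = 1 := by
  rw [Matrix.det_of_isUpperTriangular]
  · apply Finset.prod_eq_one
    intro i _
    rw [Tup_apply, if_pos le_rfl]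
  · intro i j hij
    rw [Tup_apply, if_neg]
    exact not_le.mpr hij

theorem det_Tinv : (Tinv K d).det = 1 := by
  have h := congrArg Matrix.det (Tinv_mul_Tup (K := K) (d := d))
  rw [Matrix.det_mul, det_Tup, mul_one, Matrix.det_one] at h
  exact h

/-! ### the matrix of `u0` in three-block form -/

variable (σ : K →+* K)

/-- the long parameter matrix `β E_{l,l}` -/
def Sm (l : Fin d) (β : K) : Matrix (Fin d) (Fin d) K :=
  Matrix.of fun i j => if i = l ∧ j = l then β else 0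

theorem Sm_apply (l : Fin d) (β : K) (i j : Fin d) :
    Sm l β i j = if i = l ∧ j = l then β else 0 := rfl

theorem hS_Sm (l : Fin d) {α β : K} (h : β + σ β + α * σ α = 0) :
    Sm l β + ct σ (Sm l β) + xx σ (Pi.single l α) (Pi.single l α) = 0 := by
  ext i j
  rw [Matrix.add_apply, Matrix.add_apply, ct_apply, Sm_apply, Sm_apply, xx_apply,
    Pi.single_apply, Pi.single_apply, Matrix.zero_apply]
  by_cases hi : i = l <;> by_cases hj : j = l <;> simp [hi, hj, h]

/-- the matrix of `u0` in three-block form: Levi part times Heisenberg part -/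
def M0 (l : Fin d) (α β : K) : Matrix (T3 d) (T3 d) K :=
  lT (Tup K d) 1 (ct σ (Tinv K d)) * uT σ (Pi.single l α) (Sm l β)

theorem M0_ee (l : Fin d) (α β : K) (i j : Fin d) :
    M0 σ l α β (Sum.inl (Sum.inl i)) (Sum.inl (Sum.inl j)) = if i ≤ j then 1 else 0 := by
  simp [M0, uT, lT, Matrix.mul_apply, Fintype.sum_sum_type, Matrix.one_apply, Tup_apply]

theorem M0_de (l : Fin d) (α β : K) (z : Fin 1) (j : Fin d) :
    M0 σ l α β (Sum.inl (Sum.inr z)) (Sum.inl (Sum.inl j)) = 0 := by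
  simp [M0, uT, lT, Matrix.mul_apply, Fintype.sum_sum_type, Matrix.one_apply]

theorem M0_fe (l : Fin d) (α β : K) (i j : Fin d) :
    M0 σ l α β (Sum.inr i) (Sum.inl (Sum.inl j)) = 0 := by
  simp [M0, uT, lT, Matrix.mul_apply, Fintype.sum_sum_type, Matrix.one_apply]

theorem M0_ed (l : Fin d) (hl : (l : ℕ) + 1 = d) (α β : K) (i : Fin d) (z : Fin 1) :
    M0 σ l α β (Sum.inl (Sum.inl i)) (Sum.inl (Sum.inr z)) = α := by
  have hil : i ≤ l := by rw [Fin.le_def]; have := i.2; omega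
  simp [M0, uT, lT, Matrix.mul_apply, Fintype.sum_sum_type, Matrix.one_apply, Tup_apply,
    Pi.single_apply, hil]

theorem M0_dd (l : Fin d) (α β : K) (z w : Fin 1) :
    M0 σ l α β (Sum.inl (Sum.inr z)) (Sum.inl (Sum.inr w)) = 1 := by
  obtain rfl : z = 0 := Subsingleton.elim _ _
  obtain rfl : w = 0 := Subsingleton.elim _ _
  simp [M0, uT, lT, Matrix.mul_apply, Fintype.sum_sum_type, Matrix.one_apply]

theorem M0_fd (l : Fin d) (α β : K) (i : Fin d) (z : Fin 1) :
    M0 σ l α β (Sum.inr i) (Sum.inl (Sum.inr z)) = 0 := by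
  simp [M0, uT, lT, Matrix.mul_apply, Fintype.sum_sum_type, Matrix.one_apply]

theorem M0_ef (l : Fin d) (hl : (l : ℕ) + 1 = d) (α β : K) (i j : Fin d) :
    M0 σ l α β (Sum.inl (Sum.inl i)) (Sum.inr j) = if j = l then β else 0 := by
  have hil : i ≤ l := by rw [Fin.le_def]; have := i.2; omega
  simp only [M0, uT, lT, Matrix.mul_apply, Fintype.sum_sum_type, Tup_apply, Sm_apply,
    Matrix.fromBlocks_apply₁₁, Matrix.fromBlocks_apply₁₂, Matrix.fromBlocks_apply₂₁,
    Matrix.fromBlocks_apply₂₂, Matrix.zero_apply, zero_mul, Finset.sum_const_zero, add_zero,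
    Matrix.fromRows_apply_inl, Matrix.of_apply]
  by_cases hj : j = l
  · subst hj
    rw [if_pos rfl, Finset.sum_eq_single j]
    · rw [if_pos hil, one_mul, if_pos ⟨rfl, rfl⟩]
    · intro b _ hb
      have h2 : ¬ (b = j ∧ j = j) := fun h => hb h.1
      rw [if_neg h2, mul_zero]
    · intro h
      exact absurd (Finset.mem_univ _) h
  · rw [if_neg hj]
    apply Finset.sum_eq_zero
    intro b _
    have h2 : ¬ (b = l ∧ j = l) := fun h => hj h.2
    rw [if_neg h2, mul_zero]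

theorem M0_df (l : Fin d) (α β : K) (z : Fin 1) (j : Fin d) :
    M0 σ l α β (Sum.inl (Sum.inr z)) (Sum.inr j) = if j = l then -σ α else 0 := by
  obtain rfl : z = 0 := Subsingleton.elim _ _
  by_cases hj : j = l <;>
  simp [M0, uT, lT, Matrix.mul_apply, Fintype.sum_sum_type, Matrix.one_apply, Pi.single_apply, hj]

theorem M0_ff (l : Fin d) (α β : K) (i j : Fin d) :
    M0 σ l α β (Sum.inr i) (Sum.inr j) =
      if j = i then 1 else if (j : ℕ) + 1 = (i : ℕ) then -1 else 0 := by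
  simp [M0, uT, lT, Matrix.mul_apply, Fintype.sum_sum_type, Matrix.one_apply, ct_apply,
    Tinv_apply, apply_ite σ]

/-! ### regularity in three-block form -/

/-- the position of a three-block index in the flag `e_0, …, e_{d-1}, d, f_{d-1}, …, f_0` -/
def pos3 (d : ℕ) : T3 d → ℕ
  | .inl (.inl i) => (i : ℕ)
  | .inl (.inr _) => d
  | .inr i => 2 * d - (i : ℕ)

theorem pos3_injective : Function.Injective (pos3 d) := by
  intro a b h
  rcases a with (i | z) | i <;> rcases b with (j | w) | j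
  · simp only [pos3] at h
    rw [Fin.ext h]
  · simp only [pos3] at h
    have := i.2
    omega
  · simp only [pos3] at h
    have := i.2
    have := j.2
    omega
  · simp only [pos3] at h
    have := j.2
    omega
  · rw [Subsingleton.elim z w]
  · simp only [pos3] at h
    have := j.2
    omega
  · simp only [pos3] at h
    have := i.2
    have := j.2
    omega
  · simp only [pos3] at h
    have := i.2
    omega
  · simp only [pos3] at h
    have := i.2
    have := j.2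
    have : (i : ℕ) = (j : ℕ) := by omega
    rw [Fin.ext this]

theorem pos3_lt (a : T3 d) : pos3 d a < 2 * d + 1 := by
  rcases a with (i | z) | i
  · simp only [pos3]
    have := i.2
    omega
  · simp only [pos3]
    omega
  · simp only [pos3]
    omega

/-- the chain `e_0, …, e_{d-1}, d, f_{d-1}, …, f_0` -/
def chain3 (d : ℕ) (t : ℕ) : T3 d :=
  if h : t < d then .inl (.inl ⟨t, h⟩)
  else if h2 : t = d then .inl (.inr 0)
  else if h3 : t ≤ 2 * d then .inr ⟨2 * d - t, by omega⟩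
  else .inl (.inr 0)

theorem pos3_chain3 (t : ℕ) (ht : t < 2 * d + 1) : pos3 d (chain3 d t) = t := by
  unfold chain3
  by_cases h : t < d
  · rw [dif_pos h]
    rfl
  · rw [dif_neg h]
    by_cases h2 : t = d
    · rw [dif_pos h2]
      exact h2.symm
    · rw [dif_neg h2, dif_pos (by omega : t ≤ 2 * d)]
      simp only [pos3]
      omega

/-- `M0 - 1` is strictly upper triangular for the flag -/
theorem M0_sub_one_upper (l : Fin d) (hl : (l : ℕ) + 1 = d) (α β : K) (a b : T3 d)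
    (hab : ¬ pos3 d a < pos3 d b) : (M0 σ l α β - 1) a b = 0 := by
  rw [Matrix.sub_apply, Matrix.one_apply]
  rcases a with (i | z) | i <;> rcases b with (j | w) | j
  · simp only [pos3] at hab
    rw [M0_ee]
    by_cases hij : i = j
    · rw [if_pos (le_of_eq hij), if_pos (by rw [hij]), sub_self]
    · have h1 : ¬ i ≤ j := by
        rw [Fin.le_def]
        have : (i : ℕ) ≠ (j : ℕ) := fun h => hij (Fin.ext h)
        omega
      have h2 : ¬ ((Sum.inl (Sum.inl i) : T3 d) = Sum.inl (Sum.inl j)) := by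
        intro h
        exact hij (Sum.inl_injective (Sum.inl_injective h))
      rw [if_neg h1, if_neg h2, sub_zero]
  · exfalso
    simp only [pos3] at hab
    have := i.2
    omega
  · exfalso
    simp only [pos3] at hab
    have := i.2
    have := j.2
    omega
  · rw [M0_de, if_neg (by simp), sub_zero]
  · rw [M0_dd, if_pos (by rw [Subsingleton.elim z w]), sub_self]
  · exfalso
    simp only [pos3] at hab
    have := j.2
    omega
  · rw [M0_fe, if_neg (by simp), sub_zero]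
  · rw [M0_fd, if_neg (by simp), sub_zero]
  · simp only [pos3] at hab
    rw [M0_ff]
    have := i.2
    have := j.2
    by_cases hij : j = i
    · rw [if_pos hij, if_pos (by rw [hij]), sub_self]
    · have h2 : ¬ ((Sum.inr i : T3 d) = Sum.inr j) := by
        intro h
        exact hij (Sum.inr_injective h).symm
      have h3 : ¬ ((j : ℕ) + 1 = (i : ℕ)) := by omega
      rw [if_neg hij, if_neg h3, if_neg h2, sub_zero]

/-- the superdiagonal entries of `M0 - 1` along the chain -/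
theorem M0_sub_one_chain (hσi : Function.Injective σ) (l : Fin d) (hl : (l : ℕ) + 1 = d)
    {α : K} (hα : α ≠ 0) (β : K) (t : ℕ) (ht : t + 1 < 2 * d + 1) :
    (M0 σ l α β - 1) (chain3 d t) (chain3 d (t + 1)) ≠ 0 := by
  rw [Matrix.sub_apply, Matrix.one_apply]
  have hne : chain3 d t ≠ chain3 d (t + 1) := by
    intro h
    have h1 := congrArg (pos3 d) h
    rw [pos3_chain3 t (by omega), pos3_chain3 (t + 1) ht] at h1
    omega
  rw [if_neg hne, sub_zero]
  unfold chain3
  by_cases h1 : t + 1 < d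
  · rw [dif_pos (by omega : t < d), dif_pos h1, M0_ee, if_pos]
    · exact one_ne_zero
    · rw [Fin.le_def]
      show t ≤ t + 1
      omega
  · by_cases h2 : t + 1 = d
    · rw [dif_pos (by omega : t < d), dif_neg h1, dif_pos h2, M0_ed σ l hl]
      exact hα
    · by_cases h3 : t = d
      · rw [dif_neg (by omega : ¬ t < d), dif_pos h3, dif_neg h1, dif_neg h2,
          dif_pos (by omega : t + 1 ≤ 2 * d), M0_df, if_pos]
        · intro h
          apply hα
          apply hσi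
          rw [map_zero]
          exact neg_eq_zero.mp h
        · apply Fin.ext
          show 2 * d - (t + 1) = (l : ℕ)
          omega
      · rw [dif_neg (by omega : ¬ t < d), dif_neg h3, dif_pos (by omega : t ≤ 2 * d),
          dif_neg h1, dif_neg h2, dif_pos (by omega : t + 1 ≤ 2 * d), M0_ff]
        have h4 : ¬ ((⟨2 * d - (t + 1), by omega⟩ : Fin d) = ⟨2 * d - t, by omega⟩) := by
          intro h
          have := congrArg Fin.val h
          simp only at this
          omega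
        rw [if_neg h4, if_pos]
        · exact neg_ne_zero.mpr one_ne_zero
        · show 2 * d - (t + 1) + 1 = 2 * d - t
          omega

/-- **regularity of `M0`** -/
theorem M0_regular (hσi : Function.Injective σ) (l : Fin d) (hl : (l : ℕ) + 1 = d)
    {α : K} (hα : α ≠ 0) (β : K) :
    IsNilpotent (M0 σ l α β - 1) ∧ (M0 σ l α β - 1) ^ (2 * d) ≠ 0 :=
  Cfsg.Agent.Lib.Helper26.RegSp.regular_of_pos (pos3 d) pos3_injective (M0 σ l α β - 1)
    (M0_sub_one_upper σ l hl α β) (2 * d + 1) pos3_lt (chain3 d)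
    (fun t ht => pos3_chain3 t ht) (M0_sub_one_chain σ hσi l hl hα β)

/-! ### the group element -/

theorem tr3_sub (M N : Matrix (T3 d) (T3 d) K) : tr3 (M - N) = tr3 M - tr3 N := rfl

theorem tr3_zero : tr3 (0 : Matrix (T3 d) (T3 d) K) = 0 := rfl

theorem tr3_pow (M : Matrix (T3 d) (T3 d) K) (k : ℕ) : tr3 (M ^ k) = tr3 M ^ k := by
  induction k with
  | zero => rw [pow_zero, pow_zero, tr3_one]
  | succ k ih => rw [pow_succ, pow_succ, ← tr3_mul, ih]

variable (hσ : ∀ x, σ (σ x) = x)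

/-- **the regular unipotent element** `u0 = diag(T, 1, T^{-*}) · x_{ε_{d-1}}(α, β)` of `UJ σ (d+1+d)` -/
def u0 (l : Fin d) {α β : K} (h : β + σ β + α * σ α = 0) : UJ σ (d + 1 + d) :=
  LO σ hσ (Tup K d) (Tinv K d) 1 Tinv_mul_Tup (by rw [map_one, mul_one])
      (by rw [det_Tup, det_Tinv, map_one, mul_one, mul_one]) *
    UO σ hσ (Pi.single l α) (Sm l β) (hS_Sm σ l h)

theorem u0_coe (l : Fin d) {α β : K} (h : β + σ β + α * σ α = 0) :
    (((u0 σ hσ l h : UJ σ (d + 1 + d)) : SpecialLinearGroup (Fin (d + 1 + d)) K) :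
      Matrix (Fin (d + 1 + d)) (Fin (d + 1 + d)) K) = tr3 (M0 σ l α β) := by
  show tr3 (lT (Tup K d) 1 (ct σ (Tinv K d))) * tr3 (uT σ (Pi.single l α) (Sm l β)) = _
  rw [tr3_mul]
  rfl

/-- **regularity of `u0`** -/
theorem u0_regular (l : Fin d) (hl : (l : ℕ) + 1 = d) {α β : K}
    (h : β + σ β + α * σ α = 0) (hα : α ≠ 0) :
    IsNilpotent ((((u0 σ hσ l h : UJ σ (d + 1 + d)) : SpecialLinearGroup (Fin (d + 1 + d)) K) :
      Matrix (Fin (d + 1 + d)) (Fin (d + 1 + d)) K) - 1) ∧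
    ((((u0 σ hσ l h : UJ σ (d + 1 + d)) : SpecialLinearGroup (Fin (d + 1 + d)) K) :
      Matrix (Fin (d + 1 + d)) (Fin (d + 1 + d)) K) - 1) ^ (d + 1 + d - 1) ≠ 0 := by
  have hσi : Function.Injective σ := fun x y hxy => by rw [← hσ x, ← hσ y, hxy]
  obtain ⟨⟨k, hk⟩, h2⟩ := M0_regular σ hσi l hl hα β
  have e : (((u0 σ hσ l h : UJ σ (d + 1 + d)) : SpecialLinearGroup (Fin (d + 1 + d)) K) :
      Matrix (Fin (d + 1 + d)) (Fin (d + 1 + d)) K) - 1 = tr3 (M0 σ l α β - 1) := by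
    rw [u0_coe, tr3_sub, tr3_one]
  rw [e]
  refine ⟨⟨k, by rw [← tr3_pow, hk, tr3_zero]⟩, ?_⟩
  have e2 : d + 1 + d - 1 = 2 * d := by omega
  rw [e2, ← tr3_pow]
  intro h0
  apply h2
  apply tr3_injective
  rw [h0, tr3_zero]

/-! ### vectors -/

/-- transport of three-block vectors to `Fin (d+1+d)` -/
def toJ (v : T3 d → K) : Fin (d + 1 + d) → K := fun r => v ((eO d).symm r)

theorem toJ_apply (v : T3 d → K) (a : T3 d) : toJ v (eO d a) = v a := by
  simp [toJ]

theorem toJ_injective : Function.Injective (toJ : (T3 d → K) → _) := by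
  intro v w h
  funext a
  rw [← toJ_apply v, ← toJ_apply w, h]

theorem toJ_add (v w : T3 d → K) : toJ (v + w) = toJ v + toJ w := rfl
theorem toJ_sub (v w : T3 d → K) : toJ (v - w) = toJ v - toJ w := rfl
theorem toJ_neg (v : T3 d → K) : toJ (-v) = -toJ v := rfl
theorem toJ_smul (c : K) (v : T3 d → K) : toJ (c • v) = c • toJ v := rfl
theorem toJ_zero : toJ (0 : T3 d → K) = 0 := rfl

theorem toJ_sum {ι : Type*} (s : Finset ι) (f : ι → T3 d → K) :
    toJ (∑ i ∈ s, f i) = ∑ i ∈ s, toJ (f i) := by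
  funext r
  simp only [toJ, Finset.sum_apply]

theorem tr3_mulVec (M : Matrix (T3 d) (T3 d) K) (v : T3 d → K) :
    tr3 M *ᵥ toJ v = toJ (M *ᵥ v) := by
  funext r
  obtain ⟨a, rfl⟩ := (eO d).surjective r
  rw [toJ_apply]
  simp only [Matrix.mulVec, dotProduct]
  rw [← Equiv.sum_comp (eO d)]
  apply Finset.sum_congr rfl
  intro b _
  rw [tr3_apply, toJ_apply]

theorem toJ_single (a : T3 d) (c : K) : toJ (Pi.single a c) = Pi.single (eO d a) c := by
  funext r
  obtain ⟨b, rfl⟩ := (eO d).surjective r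
  rw [toJ_apply, Pi.single_apply, Pi.single_apply]
  simp only [(eO d).injective.eq_iff]

theorem toJ_comp_sw3 (v : T3 d → K) : toJ (v ∘ sw3) = toJ v ∘ Fin.rev := by
  funext r
  obtain ⟨a, rfl⟩ := (eO d).surjective r
  rw [toJ_apply, Function.comp_apply, Function.comp_apply, eO_rev, toJ_apply]

/-- the Witt basis of the antidiagonal form -/
def e3 (i : Fin d) : T3 d → K := Pi.single (Sum.inl (Sum.inl i)) 1
/-- the anisotropic middle vector -/
def d3 : T3 d → K := Pi.single (Sum.inl (Sum.inr 0)) 1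
/-- the Witt basis, second half -/
def f3 (i : Fin d) : T3 d → K := Pi.single (Sum.inr i) 1

/-- `e_i` in `Fin (d+1+d) → K` -/
def eJ (i : Fin d) : Fin (d + 1 + d) → K := Pi.single (eO d (Sum.inl (Sum.inl i))) 1
/-- the middle vector in `Fin (d+1+d) → K` -/
def dJ : Fin (d + 1 + d) → K := Pi.single (eO d (Sum.inl (Sum.inr 0))) 1
/-- `f_i` in `Fin (d+1+d) → K` -/
def fJ (i : Fin d) : Fin (d + 1 + d) → K := Pi.single (eO d (Sum.inr i)) 1

theorem toJ_e3 (i : Fin d) : toJ (e3 i : T3 d → K) = eJ i := toJ_single _ _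
theorem toJ_d3 : toJ (d3 : T3 d → K) = dJ := toJ_single _ _
theorem toJ_f3 (i : Fin d) : toJ (f3 i : T3 d → K) = fJ i := toJ_single _ _

/-! ### evaluation of the basis vectors -/

theorem e3_e (k i : Fin d) : (e3 k : T3 d → K) (Sum.inl (Sum.inl i)) = if i = k then 1 else 0 := by
  unfold e3
  rw [Pi.single_apply]
  simp only [Sum.inl.injEq]

theorem e3_d (k : Fin d) (z : Fin 1) : (e3 k : T3 d → K) (Sum.inl (Sum.inr z)) = 0 := by
  unfold e3
  rw [Pi.single_apply, if_neg (by simp)]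

theorem e3_f (k i : Fin d) : (e3 k : T3 d → K) (Sum.inr i) = 0 := by
  unfold e3
  rw [Pi.single_apply, if_neg (by simp)]

theorem d3_e (i : Fin d) : (d3 : T3 d → K) (Sum.inl (Sum.inl i)) = 0 := by
  unfold d3
  rw [Pi.single_apply, if_neg (by simp)]

theorem d3_d (z : Fin 1) : (d3 : T3 d → K) (Sum.inl (Sum.inr z)) = 1 := by
  unfold d3
  rw [Pi.single_apply, if_pos (by rw [Subsingleton.elim z 0])]

theorem d3_f (i : Fin d) : (d3 : T3 d → K) (Sum.inr i) = 0 := by
  unfold d3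
  rw [Pi.single_apply, if_neg (by simp)]

theorem f3_e (k i : Fin d) : (f3 k : T3 d → K) (Sum.inl (Sum.inl i)) = 0 := by
  unfold f3
  rw [Pi.single_apply, if_neg (by simp)]

theorem f3_d (k : Fin d) (z : Fin 1) : (f3 k : T3 d → K) (Sum.inl (Sum.inr z)) = 0 := by
  unfold f3
  rw [Pi.single_apply, if_neg (by simp)]

theorem f3_f (k i : Fin d) : (f3 k : T3 d → K) (Sum.inr i) = if i = k then 1 else 0 := by
  unfold f3
  rw [Pi.single_apply]
  simp only [Sum.inr.injEq]

/-- `Σ_k e_k` -/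
def se3 : T3 d → K := ∑ k, e3 k
/-- `Σ_k f_k` -/
def sf3 : T3 d → K := ∑ k, f3 k

theorem se3_e (i : Fin d) : (se3 : T3 d → K) (Sum.inl (Sum.inl i)) = 1 := by
  unfold se3
  rw [Finset.sum_apply]
  simp only [e3_e]
  rw [Finset.sum_ite_eq Finset.univ i, if_pos (Finset.mem_univ _)]

theorem se3_d (z : Fin 1) : (se3 : T3 d → K) (Sum.inl (Sum.inr z)) = 0 := by
  unfold se3
  rw [Finset.sum_apply]
  simp only [e3_d, Finset.sum_const_zero]

theorem se3_f (i : Fin d) : (se3 : T3 d → K) (Sum.inr i) = 0 := by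
  unfold se3
  rw [Finset.sum_apply]
  simp only [e3_f, Finset.sum_const_zero]

/-- `e_{j+1}` (or `0`) -/
def en3 (j : Fin d) : T3 d → K := if h : (j : ℕ) + 1 < d then e3 ⟨(j : ℕ) + 1, h⟩ else 0
/-- `f_{j+1}` (or `0`) -/
def fn3 (j : Fin d) : T3 d → K := if h : (j : ℕ) + 1 < d then f3 ⟨(j : ℕ) + 1, h⟩ else 0

theorem fn3_e (j i : Fin d) : (fn3 j : T3 d → K) (Sum.inl (Sum.inl i)) = 0 := by
  unfold fn3
  split_ifs
  · rw [f3_e]
  · rfl

theorem fn3_d (j : Fin d) (z : Fin 1) : (fn3 j : T3 d → K) (Sum.inl (Sum.inr z)) = 0 := by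
  unfold fn3
  split_ifs
  · rw [f3_d]
  · rfl

theorem fn3_f (j i : Fin d) :
    (fn3 j : T3 d → K) (Sum.inr i) = if (j : ℕ) + 1 = (i : ℕ) then 1 else 0 := by
  unfold fn3
  have := i.2
  by_cases h : (j : ℕ) + 1 < d
  · rw [dif_pos h, f3_f]
    by_cases h2 : (j : ℕ) + 1 = (i : ℕ)
    · rw [if_pos h2, if_pos (Fin.ext h2.symm)]
    · rw [if_neg h2, if_neg]
      intro h3
      apply h2
      rw [h3]
  · rw [dif_neg h, Pi.zero_apply, if_neg (by omega)]

theorem fn3_of_lt (j : Fin d) (h : (j : ℕ) + 1 < d) : (fn3 j : T3 d → K) = f3 ⟨(j : ℕ) + 1, h⟩ := by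
  unfold fn3
  rw [dif_pos h]

theorem fn3_of_not_lt (j : Fin d) (h : ¬ (j : ℕ) + 1 < d) : (fn3 j : T3 d → K) = 0 := by
  unfold fn3
  rw [dif_neg h]

/-! ### the action of `M0` on the Witt basis -/

theorem M0_e3 (l : Fin d) (α β : K) (j : Fin d) :
    M0 σ l α β *ᵥ (e3 j) = ∑ k, (if k ≤ j then (1 : K) else 0) • e3 k := by
  have e : (e3 j : T3 d → K) = Pi.single (Sum.inl (Sum.inl j)) 1 := rfl
  rw [e, Matrix.mulVec_single_one]
  funext a
  rw [Finset.sum_apply]
  simp only [Pi.smul_apply, smul_eq_mul]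
  rcases a with (i | z) | i
  · show M0 σ l α β (Sum.inl (Sum.inl i)) (Sum.inl (Sum.inl j)) = _
    rw [M0_ee]
    simp only [e3_e, mul_ite, mul_one, mul_zero]
    rw [Finset.sum_ite_eq Finset.univ i, if_pos (Finset.mem_univ _)]
  · show M0 σ l α β (Sum.inl (Sum.inr z)) (Sum.inl (Sum.inl j)) = _
    rw [M0_de]
    simp only [e3_d, mul_zero, Finset.sum_const_zero]
  · show M0 σ l α β (Sum.inr i) (Sum.inl (Sum.inl j)) = _
    rw [M0_fe]
    simp only [e3_f, mul_zero, Finset.sum_const_zero]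

theorem M0_d3 (l : Fin d) (hl : (l : ℕ) + 1 = d) (α β : K) :
    M0 σ l α β *ᵥ d3 = d3 + α • se3 := by
  have e : (d3 : T3 d → K) = Pi.single (Sum.inl (Sum.inr 0)) 1 := rfl
  rw [e, Matrix.mulVec_single_one, ← e]
  funext a
  rw [Pi.add_apply, Pi.smul_apply, smul_eq_mul]
  rcases a with (i | z) | i
  · show M0 σ l α β (Sum.inl (Sum.inl i)) (Sum.inl (Sum.inr 0)) = _
    rw [M0_ed σ l hl, d3_e, se3_e, zero_add, mul_one]
  · show M0 σ l α β (Sum.inl (Sum.inr z)) (Sum.inl (Sum.inr 0)) = _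
    rw [M0_dd, d3_d, se3_d, mul_zero, add_zero]
  · show M0 σ l α β (Sum.inr i) (Sum.inl (Sum.inr 0)) = _
    rw [M0_fd, d3_f, se3_f, mul_zero, add_zero]

theorem M0_f3_last (l : Fin d) (hl : (l : ℕ) + 1 = d) (α β : K) :
    M0 σ l α β *ᵥ (f3 l) = f3 l - σ α • d3 + β • se3 := by
  have e : (f3 l : T3 d → K) = Pi.single (Sum.inr l) 1 := rfl
  rw [e, Matrix.mulVec_single_one, ← e]
  funext a
  rw [Pi.add_apply, Pi.sub_apply, Pi.smul_apply, Pi.smul_apply, smul_eq_mul, smul_eq_mul]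
  rcases a with (i | z) | i
  · show M0 σ l α β (Sum.inl (Sum.inl i)) (Sum.inr l) = _
    rw [M0_ef σ l hl, if_pos rfl, f3_e, d3_e, se3_e]
    ring
  · show M0 σ l α β (Sum.inl (Sum.inr z)) (Sum.inr l) = _
    rw [M0_df, if_pos rfl, f3_d, d3_d, se3_d]
    ring
  · show M0 σ l α β (Sum.inr i) (Sum.inr l) = _
    rw [M0_ff, f3_f, d3_f, se3_f]
    have := i.2
    by_cases h1 : l = i
    · rw [if_pos h1, if_pos h1.symm]
      ring
    · have h1' : ¬ i = l := fun h3 => h1 h3.symm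
      rw [if_neg h1, if_neg (by omega), if_neg h1']
      ring

theorem M0_f3 (l : Fin d) (hl : (l : ℕ) + 1 = d) (α β : K) (j : Fin d) (hj : j ≠ l) :
    M0 σ l α β *ᵥ (f3 j) = f3 j - fn3 j := by
  have e : (f3 j : T3 d → K) = Pi.single (Sum.inr j) 1 := rfl
  rw [e, Matrix.mulVec_single_one, ← e]
  funext a
  rw [Pi.sub_apply]
  rcases a with (i | z) | i
  · show M0 σ l α β (Sum.inl (Sum.inl i)) (Sum.inr j) = _
    rw [M0_ef σ l hl, if_neg hj, f3_e, fn3_e, sub_zero]
  · show M0 σ l α β (Sum.inl (Sum.inr z)) (Sum.inr j) = _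
    rw [M0_df, if_neg hj, f3_d, fn3_d, sub_zero]
  · show M0 σ l α β (Sum.inr i) (Sum.inr j) = _
    rw [M0_ff, f3_f, fn3_f]
    by_cases h1 : j = i
    · have h2 : ¬ ((j : ℕ) + 1 = (i : ℕ)) := by rw [h1]; omega
      rw [if_pos h1, if_pos h1.symm, if_neg h2, sub_zero]
    · have h1' : ¬ i = j := fun h3 => h1 h3.symm
      by_cases h2 : (j : ℕ) + 1 = (i : ℕ)
      · rw [if_neg h1, if_pos h2, if_neg h1', if_pos h2, zero_sub]
      · rw [if_neg h1, if_neg h2, if_neg h1', if_neg h2, sub_zero]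

theorem M0_e3_zero (l : Fin d) (α β : K) (i0 : Fin d) (h0 : (i0 : ℕ) = 0) :
    M0 σ l α β *ᵥ (e3 i0) = e3 i0 := by
  rw [M0_e3, Finset.sum_eq_single i0]
  · rw [if_pos le_rfl, one_smul]
  · intro k _ hk
    rw [if_neg, zero_smul]
    rw [Fin.le_def]
    have : (k : ℕ) ≠ (i0 : ℕ) := fun h => hk (Fin.ext h)
    omega
  · intro h
    exact absurd (Finset.mem_univ _) h

theorem M0_e3_succ (l : Fin d) (α β : K) (i j : Fin d) (hij : (j : ℕ) = (i : ℕ) + 1) :
    M0 σ l α β *ᵥ (e3 j) = M0 σ l α β *ᵥ (e3 i) + e3 j := by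
  rw [M0_e3, M0_e3]
  have hsplit : ∀ k : Fin d, (if k ≤ j then (1 : K) else 0) • (e3 k : T3 d → K) =
      (if k ≤ i then (1 : K) else 0) • e3 k + (if k = j then e3 k else 0) := by
    intro k
    simp only [Fin.le_def, Fin.ext_iff]
    by_cases h1 : (k : ℕ) ≤ (i : ℕ)
    · rw [if_pos (by omega), if_pos h1, if_neg (by omega), add_zero]
    · by_cases h2 : (k : ℕ) = (j : ℕ)
      · rw [if_pos (by omega), if_neg h1, if_pos h2, one_smul, zero_smul, zero_add]
      · rw [if_neg (by omega), if_neg h1, if_neg h2, zero_smul, add_zero]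
  rw [Finset.sum_congr rfl (fun k _ => hsplit k), Finset.sum_add_distrib,
    Finset.sum_ite_eq' Finset.univ j (fun k => (e3 k : T3 d → K)), if_pos (Finset.mem_univ _)]

theorem M0_f3_succ (l : Fin d) (hl : (l : ℕ) + 1 = d) (α β : K) (i j : Fin d)
    (hij : (j : ℕ) = (i : ℕ) + 1) :
    M0 σ l α β *ᵥ (f3 i) = f3 i - f3 j := by
  have hil : i ≠ l := by
    intro h
    rw [h] at hij
    have := j.2
    omega
  rw [M0_f3 σ l hl α β i hil, fn3_of_lt i (by have := j.2; omega)]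
  congr 2
  exact Fin.ext hij.symm

/-! ### the action of `u0` -/

/-- `Σ_k e_k` -/
def seJ : Fin (d + 1 + d) → K := ∑ k, eJ k
/-- `Σ_k f_k` -/
def sfJ : Fin (d + 1 + d) → K := ∑ k, fJ k

theorem toJ_se3 : toJ (se3 : T3 d → K) = seJ := by
  unfold se3 seJ
  rw [toJ_sum]
  simp only [toJ_e3]

theorem toJ_sf3 : toJ (sf3 : T3 d → K) = sfJ := by
  unfold sf3 sfJ
  rw [toJ_sum]
  simp only [toJ_f3]

theorem u0_mulVec (l : Fin d) {α β : K} (h : β + σ β + α * σ α = 0) (v : T3 d → K) :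
    (((u0 σ hσ l h : UJ σ (d + 1 + d)) : SpecialLinearGroup (Fin (d + 1 + d)) K) :
      Matrix (Fin (d + 1 + d)) (Fin (d + 1 + d)) K) *ᵥ toJ v = toJ (M0 σ l α β *ᵥ v) := by
  rw [u0_coe, tr3_mulVec]

theorem u0_eJ (l : Fin d) {α β : K} (h : β + σ β + α * σ α = 0) (j : Fin d) :
    (((u0 σ hσ l h : UJ σ (d + 1 + d)) : SpecialLinearGroup (Fin (d + 1 + d)) K) :
      Matrix (Fin (d + 1 + d)) (Fin (d + 1 + d)) K) *ᵥ eJ j =
      ∑ k, (if k ≤ j then (1 : K) else 0) • eJ k := by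
  rw [← toJ_e3, u0_mulVec, M0_e3, toJ_sum]
  simp only [toJ_smul, toJ_e3]

theorem u0_eJ_zero (l : Fin d) {α β : K} (h : β + σ β + α * σ α = 0) (i0 : Fin d)
    (h0 : (i0 : ℕ) = 0) :
    (((u0 σ hσ l h : UJ σ (d + 1 + d)) : SpecialLinearGroup (Fin (d + 1 + d)) K) :
      Matrix (Fin (d + 1 + d)) (Fin (d + 1 + d)) K) *ᵥ eJ i0 = eJ i0 := by
  rw [← toJ_e3, u0_mulVec, M0_e3_zero σ l α β i0 h0]

theorem u0_eJ_succ (l : Fin d) {α β : K} (h : β + σ β + α * σ α = 0) (i j : Fin d)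
    (hij : (j : ℕ) = (i : ℕ) + 1) :
    (((u0 σ hσ l h : UJ σ (d + 1 + d)) : SpecialLinearGroup (Fin (d + 1 + d)) K) :
      Matrix (Fin (d + 1 + d)) (Fin (d + 1 + d)) K) *ᵥ eJ j =
    (((u0 σ hσ l h : UJ σ (d + 1 + d)) : SpecialLinearGroup (Fin (d + 1 + d)) K) :
      Matrix (Fin (d + 1 + d)) (Fin (d + 1 + d)) K) *ᵥ eJ i + eJ j := by
  rw [← toJ_e3, ← toJ_e3, u0_mulVec, u0_mulVec, M0_e3_succ σ l α β i j hij, toJ_add]

theorem u0_dJ (l : Fin d) (hl : (l : ℕ) + 1 = d) {α β : K} (h : β + σ β + α * σ α = 0) :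
    (((u0 σ hσ l h : UJ σ (d + 1 + d)) : SpecialLinearGroup (Fin (d + 1 + d)) K) :
      Matrix (Fin (d + 1 + d)) (Fin (d + 1 + d)) K) *ᵥ dJ = dJ + α • seJ := by
  rw [← toJ_d3, u0_mulVec, M0_d3 σ l hl, toJ_add, toJ_smul, toJ_se3]

theorem u0_fJ_last (l : Fin d) (hl : (l : ℕ) + 1 = d) {α β : K} (h : β + σ β + α * σ α = 0) :
    (((u0 σ hσ l h : UJ σ (d + 1 + d)) : SpecialLinearGroup (Fin (d + 1 + d)) K) :
      Matrix (Fin (d + 1 + d)) (Fin (d + 1 + d)) K) *ᵥ fJ l = fJ l - σ α • dJ + β • seJ := by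
  rw [← toJ_f3, u0_mulVec, M0_f3_last σ l hl, toJ_add, toJ_sub, toJ_smul, toJ_smul, toJ_se3,
    toJ_d3]

theorem u0_fJ_succ (l : Fin d) (hl : (l : ℕ) + 1 = d) {α β : K} (h : β + σ β + α * σ α = 0)
    (i j : Fin d) (hij : (j : ℕ) = (i : ℕ) + 1) :
    (((u0 σ hσ l h : UJ σ (d + 1 + d)) : SpecialLinearGroup (Fin (d + 1 + d)) K) :
      Matrix (Fin (d + 1 + d)) (Fin (d + 1 + d)) K) *ᵥ fJ i = fJ i - fJ j := by
  rw [← toJ_f3, ← toJ_f3, u0_mulVec, M0_f3_succ σ l hl α β i j hij, toJ_sub]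

end Cfsg.Agent.Lib.Helper26.SUReg
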