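/-
helper26: S2282 (2), file B.  The reversal element `Jw = (det P) • P ∈ UJ σ (d+1+d)` (`P` the permutation
matrix of `Fin.rev`: `e_i ↔ f_i`, `d` fixed; the scalar `det P = ±1` repairs the determinant since the
dimension is odd), the opposite regular unipotent `w0 = Jw u0 Jw⁻¹` (matrix `P u0 P`), its action on the
Witt basis, the chain relations used by the cores (`(u0 w0) e_i = -e_{i+1}`, `w0 z' = e_l` for
`z' = e_l + σα d + σβ f_l`, `w0 (e_{l-1} + z') = e_{l-1}`), and the Gram relations of `eJ, dJ, fJ`.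
-/
import Mathlib
import Cfsg.Agent.Lib.Helper16.FusSUI
import Cfsg.Agent.Lib.Helper26.SURegA

set_option autoImplicit false
set_option linter.unusedSimpArgs false
set_option linter.unusedVariables false
set_option linter.unusedSectionVars false

namespace Cfsg.Agent.Lib.Helper26.SUReg

open Matrix Cfsg.Agent.Lib.Helper16.FusSU Cfsg.Agent.Lib.Helper13.LSU

variable {K : Type*} [Field K] {d : ℕ} {n : ℕ}

/-! ### the reversal element -/

/-- the permutation matrix of the index reversal -/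
def Prev (K : Type*) [Field K] (n : ℕ) : Matrix (Fin n) (Fin n) K :=
  (Fin.revPerm : Equiv.Perm (Fin n)).permMatrix K

theorem revPerm_mul_self : (Fin.revPerm : Equiv.Perm (Fin n)) * Fin.revPerm = 1 := by
  ext i
  simp

theorem revPerm_inv : (Fin.revPerm : Equiv.Perm (Fin n))⁻¹ = Fin.revPerm :=
  inv_eq_of_mul_eq_one_right revPerm_mul_self

theorem Prev_mul_Prev : Prev K n * Prev K n = 1 := by
  unfold Prev
  rw [← Matrix.permMatrix_mul, revPerm_mul_self, Matrix.permMatrix_one]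

theorem Prev_mulVec (v : Fin n → K) : Prev K n *ᵥ v = v ∘ Fin.rev := by
  unfold Prev
  rw [Matrix.permMatrix_mulVec]
  rfl

theorem adj_Prev (σ : K →+* K) : adj σ (Prev K n) = Prev K n := by
  unfold Prev
  rw [adj_permMatrix σ _ (fun j => rfl), revPerm_inv]

/-- the determinant of the reversal matrix (a sign) -/
def cJ (K : Type*) [Field K] (n : ℕ) : K := (Prev K n).det

theorem cJ_mul_self : cJ K n * cJ K n = 1 := by
  unfold cJ
  rw [← Matrix.det_mul, Prev_mul_Prev, Matrix.det_one]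

theorem cJ_eq : cJ K n = 1 ∨ cJ K n = -1 := mul_self_eq_one_iff.mp cJ_mul_self

theorem map_cJ (σ : K →+* K) : σ (cJ K n) = cJ K n := by
  rcases cJ_eq (K := K) (n := n) with h | h
  · rw [h, map_one]
  · rw [h, map_neg, map_one]

/-- the reversal element `e_i ↔ f_i` in `SL` (odd dimension: the scalar `det P` repairs the determinant) -/
def JwS (K : Type*) [Field K] (d : ℕ) : SpecialLinearGroup (Fin (d + 1 + d)) K :=
  ⟨cJ K (d + 1 + d) • Prev K (d + 1 + d), by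
    rw [Matrix.det_smul, Fintype.card_fin]
    show cJ K (d + 1 + d) ^ (d + 1 + d) * cJ K (d + 1 + d) = 1
    rw [← pow_succ]
    have e : d + 1 + d + 1 = 2 * (d + 1) := by ring
    rw [e, pow_mul, pow_two, cJ_mul_self, one_pow]⟩

theorem JwS_coe : ((JwS K d : SpecialLinearGroup (Fin (d + 1 + d)) K) :
    Matrix (Fin (d + 1 + d)) (Fin (d + 1 + d)) K) = cJ K (d + 1 + d) • Prev K (d + 1 + d) := rfl

variable (σ : K →+* K)

theorem JwS_mem : JwS K d ∈ UJ σ (d + 1 + d) := by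
  rw [mem_UJ, JwS_coe, adj_smul, adj_Prev, map_cJ, Matrix.smul_mul, Matrix.mul_smul, smul_smul,
    cJ_mul_self, one_smul, Prev_mul_Prev]

/-- the reversal element in `UJ` -/
def Jw (d : ℕ) : UJ σ (d + 1 + d) := ⟨JwS K d, JwS_mem σ⟩

theorem Jw_inv_coe : ((((Jw σ d)⁻¹ : UJ σ (d + 1 + d)) : SpecialLinearGroup (Fin (d + 1 + d)) K) :
    Matrix (Fin (d + 1 + d)) (Fin (d + 1 + d)) K) = cJ K (d + 1 + d) • Prev K (d + 1 + d) := by
  show ((JwS K d)⁻¹ : SpecialLinearGroup (Fin (d + 1 + d)) K).1 = _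
  have := UJ_inv_coe (JwS_mem σ (K := K) (d := d))
  rw [this, JwS_coe, adj_smul, adj_Prev, map_cJ]

variable (hσ : ∀ x, σ (σ x) = x)

/-- **the opposite regular unipotent element** `w0 = Jw u0 Jw⁻¹` -/
def w0 (l : Fin d) {α β : K} (h : β + σ β + α * σ α = 0) : UJ σ (d + 1 + d) :=
  Jw σ d * u0 σ hσ l h * (Jw σ d)⁻¹

theorem w0_coe (l : Fin d) {α β : K} (h : β + σ β + α * σ α = 0) :
    (((w0 σ hσ l h : UJ σ (d + 1 + d)) : SpecialLinearGroup (Fin (d + 1 + d)) K) :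
      Matrix (Fin (d + 1 + d)) (Fin (d + 1 + d)) K) =
    Prev K (d + 1 + d) * (((u0 σ hσ l h : UJ σ (d + 1 + d)) :
      SpecialLinearGroup (Fin (d + 1 + d)) K) : Matrix (Fin (d + 1 + d)) (Fin (d + 1 + d)) K) *
      Prev K (d + 1 + d) := by
  show (JwS K d).1 * (u0 σ hσ l h).1.1 * ((((Jw σ d)⁻¹ : UJ σ (d + 1 + d)) :
    SpecialLinearGroup (Fin (d + 1 + d)) K) : Matrix (Fin (d + 1 + d)) (Fin (d + 1 + d)) K) = _
  rw [Jw_inv_coe]
  show (cJ K (d + 1 + d) • Prev K (d + 1 + d)) * _ * _ = _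
  rw [Matrix.smul_mul, Matrix.smul_mul, Matrix.mul_smul, smul_smul, cJ_mul_self, one_smul]

/-! ### the swap on three-block vectors -/

theorem sw3_sw3 (a : T3 d) : sw3 (sw3 a) = a := by
  rcases a with (i | z) | i <;> rfl

/-- the swap `e_i ↔ f_i` on three-block vectors -/
def swv (v : T3 d → K) : T3 d → K := v ∘ sw3

theorem swv_add (v w : T3 d → K) : swv (v + w) = swv v + swv w := rfl
theorem swv_sub (v w : T3 d → K) : swv (v - w) = swv v - swv w := rfl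
theorem swv_neg (v : T3 d → K) : swv (-v) = -swv v := rfl
theorem swv_smul (c : K) (v : T3 d → K) : swv (c • v) = c • swv v := rfl

theorem swv_sum {ι : Type*} (s : Finset ι) (f : ι → T3 d → K) :
    swv (∑ i ∈ s, f i) = ∑ i ∈ s, swv (f i) := by
  funext r
  simp only [swv, Function.comp_apply, Finset.sum_apply]

theorem swv_single (a : T3 d) (c : K) : swv (Pi.single a c) = Pi.single (sw3 a) c := by
  funext b
  rw [swv, Function.comp_apply, Pi.single_apply, Pi.single_apply]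
  by_cases h : b = sw3 a
  · rw [if_pos h, if_pos (by rw [h, sw3_sw3])]
  · rw [if_neg h, if_neg]
    intro h'
    apply h
    rw [← h', sw3_sw3]

theorem swv_e3 (i : Fin d) : swv (e3 i : T3 d → K) = f3 i := swv_single _ _
theorem swv_f3 (i : Fin d) : swv (f3 i : T3 d → K) = e3 i := swv_single _ _
theorem swv_d3 : swv (d3 : T3 d → K) = d3 := swv_single _ _

theorem swv_se3 : swv (se3 : T3 d → K) = sf3 := by
  unfold se3 sf3
  rw [swv_sum]
  simp only [swv_e3]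

theorem swv_sf3 : swv (sf3 : T3 d → K) = se3 := by
  unfold se3 sf3
  rw [swv_sum]
  simp only [swv_f3]

theorem Prev_mulVec_toJ (v : T3 d → K) : Prev K (d + 1 + d) *ᵥ toJ v = toJ (swv v) := by
  rw [Prev_mulVec, swv, toJ_comp_sw3]

/-! ### the action of `w0` -/

theorem w0_mulVec (l : Fin d) {α β : K} (h : β + σ β + α * σ α = 0) (v : T3 d → K) :
    (((w0 σ hσ l h : UJ σ (d + 1 + d)) : SpecialLinearGroup (Fin (d + 1 + d)) K) :
      Matrix (Fin (d + 1 + d)) (Fin (d + 1 + d)) K) *ᵥ toJ v =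
      toJ (swv (M0 σ l α β *ᵥ swv v)) := by
  rw [w0_coe, ← Matrix.mulVec_mulVec, ← Matrix.mulVec_mulVec, Prev_mulVec_toJ, u0_mulVec,
    Prev_mulVec_toJ]

theorem w0_fJ (l : Fin d) {α β : K} (h : β + σ β + α * σ α = 0) (j : Fin d) :
    (((w0 σ hσ l h : UJ σ (d + 1 + d)) : SpecialLinearGroup (Fin (d + 1 + d)) K) :
      Matrix (Fin (d + 1 + d)) (Fin (d + 1 + d)) K) *ᵥ fJ j =
      ∑ k, (if k ≤ j then (1 : K) else 0) • fJ k := by
  rw [← toJ_f3, w0_mulVec, swv_f3, M0_e3, swv_sum, toJ_sum]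
  simp only [swv_smul, swv_e3, toJ_smul, toJ_f3]

theorem w0_fJ_zero (l : Fin d) {α β : K} (h : β + σ β + α * σ α = 0) (i0 : Fin d)
    (h0 : (i0 : ℕ) = 0) :
    (((w0 σ hσ l h : UJ σ (d + 1 + d)) : SpecialLinearGroup (Fin (d + 1 + d)) K) :
      Matrix (Fin (d + 1 + d)) (Fin (d + 1 + d)) K) *ᵥ fJ i0 = fJ i0 := by
  rw [← toJ_f3, w0_mulVec, swv_f3, M0_e3_zero σ l α β i0 h0, swv_e3]

theorem w0_fJ_succ (l : Fin d) {α β : K} (h : β + σ β + α * σ α = 0) (i j : Fin d)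
    (hij : (j : ℕ) = (i : ℕ) + 1) :
    (((w0 σ hσ l h : UJ σ (d + 1 + d)) : SpecialLinearGroup (Fin (d + 1 + d)) K) :
      Matrix (Fin (d + 1 + d)) (Fin (d + 1 + d)) K) *ᵥ fJ j =
    (((w0 σ hσ l h : UJ σ (d + 1 + d)) : SpecialLinearGroup (Fin (d + 1 + d)) K) :
      Matrix (Fin (d + 1 + d)) (Fin (d + 1 + d)) K) *ᵥ fJ i + fJ j := by
  rw [← toJ_f3, ← toJ_f3, w0_mulVec, w0_mulVec, swv_f3, swv_f3, M0_e3_succ σ l α β i j hij,
    swv_add, swv_e3, toJ_add]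

theorem w0_eJ_succ (l : Fin d) (hl : (l : ℕ) + 1 = d) {α β : K} (h : β + σ β + α * σ α = 0)
    (i j : Fin d) (hij : (j : ℕ) = (i : ℕ) + 1) :
    (((w0 σ hσ l h : UJ σ (d + 1 + d)) : SpecialLinearGroup (Fin (d + 1 + d)) K) :
      Matrix (Fin (d + 1 + d)) (Fin (d + 1 + d)) K) *ᵥ eJ i = eJ i - eJ j := by
  rw [← toJ_e3, ← toJ_e3, w0_mulVec, swv_e3, M0_f3_succ σ l hl α β i j hij, swv_sub, swv_f3,
    swv_f3, toJ_sub]

theorem w0_eJ_last (l : Fin d) (hl : (l : ℕ) + 1 = d) {α β : K} (h : β + σ β + α * σ α = 0) :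
    (((w0 σ hσ l h : UJ σ (d + 1 + d)) : SpecialLinearGroup (Fin (d + 1 + d)) K) :
      Matrix (Fin (d + 1 + d)) (Fin (d + 1 + d)) K) *ᵥ eJ l = eJ l - σ α • dJ + β • sfJ := by
  rw [← toJ_e3, w0_mulVec, swv_e3, M0_f3_last σ l hl, swv_add, swv_sub, swv_smul, swv_smul,
    swv_f3, swv_d3, swv_se3, toJ_add, toJ_sub, toJ_smul, toJ_smul, toJ_e3, toJ_d3, toJ_sf3]

theorem w0_dJ (l : Fin d) (hl : (l : ℕ) + 1 = d) {α β : K} (h : β + σ β + α * σ α = 0) :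
    (((w0 σ hσ l h : UJ σ (d + 1 + d)) : SpecialLinearGroup (Fin (d + 1 + d)) K) :
      Matrix (Fin (d + 1 + d)) (Fin (d + 1 + d)) K) *ᵥ dJ = dJ + α • sfJ := by
  rw [← toJ_d3, w0_mulVec, swv_d3, M0_d3 σ l hl, swv_add, swv_smul, swv_d3, swv_se3, toJ_add,
    toJ_smul, toJ_sf3]

/-! ### the relations used by the cores (S2281 style) -/

theorem sum_le_last (l : Fin d) (hl : (l : ℕ) + 1 = d) (g : Fin d → Fin (d + 1 + d) → K) :
    ∑ k, (if k ≤ l then (1 : K) else 0) • g k = ∑ k, g k := by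
  apply Finset.sum_congr rfl
  intro k _
  rw [if_pos, one_smul]
  rw [Fin.le_def]
  have := k.2
  omega

theorem u0_eJ_last (l : Fin d) (hl : (l : ℕ) + 1 = d) {α β : K} (h : β + σ β + α * σ α = 0) :
    (((u0 σ hσ l h : UJ σ (d + 1 + d)) : SpecialLinearGroup (Fin (d + 1 + d)) K) :
      Matrix (Fin (d + 1 + d)) (Fin (d + 1 + d)) K) *ᵥ eJ l = seJ := by
  rw [u0_eJ, sum_le_last l hl]
  rfl

theorem w0_fJ_last (l : Fin d) (hl : (l : ℕ) + 1 = d) {α β : K} (h : β + σ β + α * σ α = 0) :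
    (((w0 σ hσ l h : UJ σ (d + 1 + d)) : SpecialLinearGroup (Fin (d + 1 + d)) K) :
      Matrix (Fin (d + 1 + d)) (Fin (d + 1 + d)) K) *ᵥ fJ l = sfJ := by
  rw [w0_fJ, sum_le_last l hl]
  rfl

/-- `u0 (e_i - e_{i+1}) = -e_{i+1}` -/
theorem u0_eJ_diff (l : Fin d) {α β : K} (h : β + σ β + α * σ α = 0) (i j : Fin d)
    (hij : (j : ℕ) = (i : ℕ) + 1) :
    (((u0 σ hσ l h : UJ σ (d + 1 + d)) : SpecialLinearGroup (Fin (d + 1 + d)) K) :
      Matrix (Fin (d + 1 + d)) (Fin (d + 1 + d)) K) *ᵥ (eJ i - eJ j) = -eJ j := by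
  rw [Matrix.mulVec_sub, u0_eJ_succ σ hσ l h i j hij]
  abel

/-- `w0 (f_i - f_{i+1}) = -f_{i+1}` -/
theorem w0_fJ_diff (l : Fin d) {α β : K} (h : β + σ β + α * σ α = 0) (i j : Fin d)
    (hij : (j : ℕ) = (i : ℕ) + 1) :
    (((w0 σ hσ l h : UJ σ (d + 1 + d)) : SpecialLinearGroup (Fin (d + 1 + d)) K) :
      Matrix (Fin (d + 1 + d)) (Fin (d + 1 + d)) K) *ᵥ (fJ i - fJ j) = -fJ j := by
  rw [Matrix.mulVec_sub, w0_fJ_succ σ hσ l h i j hij]
  abel

/-- `(u0 w0) e_i = -e_{i+1}` (the chain) -/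
theorem u0_w0_eJ (l : Fin d) (hl : (l : ℕ) + 1 = d) {α β : K} (h : β + σ β + α * σ α = 0)
    (i j : Fin d) (hij : (j : ℕ) = (i : ℕ) + 1) :
    ((((u0 σ hσ l h * w0 σ hσ l h : UJ σ (d + 1 + d)) : UJ σ (d + 1 + d)) :
      SpecialLinearGroup (Fin (d + 1 + d)) K) :
      Matrix (Fin (d + 1 + d)) (Fin (d + 1 + d)) K) *ᵥ eJ i = -eJ j := by
  show ((u0 σ hσ l h).1.1 * (w0 σ hσ l h).1.1) *ᵥ eJ i = _
  rw [← Matrix.mulVec_mulVec]
  exact (congrArg _ (w0_eJ_succ σ hσ l hl h i j hij)).trans (u0_eJ_diff σ hσ l h i j hij)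

/-- `(w0 u0) f_i = -f_{i+1}` -/
theorem w0_u0_fJ (l : Fin d) (hl : (l : ℕ) + 1 = d) {α β : K} (h : β + σ β + α * σ α = 0)
    (i j : Fin d) (hij : (j : ℕ) = (i : ℕ) + 1) :
    ((((w0 σ hσ l h * u0 σ hσ l h : UJ σ (d + 1 + d)) : UJ σ (d + 1 + d)) :
      SpecialLinearGroup (Fin (d + 1 + d)) K) :
      Matrix (Fin (d + 1 + d)) (Fin (d + 1 + d)) K) *ᵥ fJ i = -fJ j := by
  show ((w0 σ hσ l h).1.1 * (u0 σ hσ l h).1.1) *ᵥ fJ i = _
  rw [← Matrix.mulVec_mulVec]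
  exact (congrArg _ (u0_fJ_succ σ hσ l hl h i j hij)).trans (w0_fJ_diff σ hσ l h i j hij)

/-- the vector `z' = w0⁻¹ e_l = e_l + σ α d + σ β f_l` -/
def zJ (σ : K →+* K) (l : Fin d) (α β : K) : Fin (d + 1 + d) → K :=
  eJ l + σ α • dJ + σ β • fJ l

/-- `w0 z' = e_l` -/
theorem w0_zJ (l : Fin d) (hl : (l : ℕ) + 1 = d) {α β : K} (h : β + σ β + α * σ α = 0) :
    (((w0 σ hσ l h : UJ σ (d + 1 + d)) : SpecialLinearGroup (Fin (d + 1 + d)) K) :
      Matrix (Fin (d + 1 + d)) (Fin (d + 1 + d)) K) *ᵥ zJ σ l α β = eJ l := by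
  unfold zJ
  rw [Matrix.mulVec_add, Matrix.mulVec_add, Matrix.mulVec_smul, Matrix.mulVec_smul,
    w0_eJ_last σ hσ l hl, w0_dJ σ hσ l hl, w0_fJ_last σ hσ l hl]
  have e : eJ l - σ α • dJ + β • sfJ + σ α • (dJ + α • sfJ) + σ β • sfJ =
      (eJ l : Fin (d + 1 + d) → K) + (β + σ β + α * σ α) • sfJ := by
    rw [smul_add, smul_smul, add_smul, add_smul, mul_comm α (σ α)]
    abel
  rw [e, h, zero_smul, add_zero]

/-- `w0 (e_{l-1} + z') = e_{l-1}` -/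
theorem w0_eJ_add_zJ (l : Fin d) (hl : (l : ℕ) + 1 = d) {α β : K} (h : β + σ β + α * σ α = 0)
    (i : Fin d) (hil : (l : ℕ) = (i : ℕ) + 1) :
    (((w0 σ hσ l h : UJ σ (d + 1 + d)) : SpecialLinearGroup (Fin (d + 1 + d)) K) :
      Matrix (Fin (d + 1 + d)) (Fin (d + 1 + d)) K) *ᵥ (eJ i + zJ σ l α β) = eJ i := by
  rw [Matrix.mulVec_add, w0_zJ σ hσ l hl h, w0_eJ_succ σ hσ l hl h i l hil, sub_add_cancel]

/-! ### Gram relations (`h_J(x, y) = x ⬝ᵥ sh σ y`) -/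

theorem gram_single (x y : T3 d) :
    (Pi.single (eO d x) (1 : K) : Fin (d + 1 + d) → K) ⬝ᵥ sh σ (Pi.single (eO d y) 1) =
      if sw3 x = y then 1 else 0 := by
  rw [single_one_dotProduct, sh_apply, eO_rev, Pi.single_apply]
  simp only [(eO d).injective.eq_iff]
  split_ifs
  · rw [map_one]
  · rw [map_zero]

theorem gram_eJ_fJ (i j : Fin d) : (eJ i : Fin (d + 1 + d) → K) ⬝ᵥ sh σ (fJ j) =
    if i = j then 1 else 0 := by
  unfold eJ fJ
  rw [gram_single]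
  simp only [sw3, Sum.inr.injEq]

theorem gram_fJ_eJ (i j : Fin d) : (fJ i : Fin (d + 1 + d) → K) ⬝ᵥ sh σ (eJ j) =
    if i = j then 1 else 0 := by
  unfold eJ fJ
  rw [gram_single]
  simp only [sw3, Sum.inl.injEq]

theorem gram_eJ_eJ (i j : Fin d) : (eJ i : Fin (d + 1 + d) → K) ⬝ᵥ sh σ (eJ j) = 0 := by
  unfold eJ
  rw [gram_single, if_neg]
  simp [sw3]

theorem gram_fJ_fJ (i j : Fin d) : (fJ i : Fin (d + 1 + d) → K) ⬝ᵥ sh σ (fJ j) = 0 := by
  unfold fJ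
  rw [gram_single, if_neg]
  simp [sw3]

theorem gram_dJ_dJ : (dJ : Fin (d + 1 + d) → K) ⬝ᵥ sh σ (dJ : Fin (d + 1 + d) → K) = 1 := by
  unfold dJ
  rw [gram_single, if_pos]
  rfl

theorem gram_eJ_dJ (i : Fin d) : (eJ i : Fin (d + 1 + d) → K) ⬝ᵥ sh σ (dJ : Fin (d + 1 + d) → K) = 0 := by
  unfold eJ dJ
  rw [gram_single, if_neg]
  simp [sw3]

theorem gram_dJ_eJ (i : Fin d) : (dJ : Fin (d + 1 + d) → K) ⬝ᵥ sh σ (eJ i) = 0 := by
  unfold eJ dJ
  rw [gram_single, if_neg]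
  simp [sw3]

theorem gram_fJ_dJ (i : Fin d) : (fJ i : Fin (d + 1 + d) → K) ⬝ᵥ sh σ (dJ : Fin (d + 1 + d) → K) = 0 := by
  unfold fJ dJ
  rw [gram_single, if_neg]
  simp [sw3]

theorem gram_dJ_fJ (i : Fin d) : (dJ : Fin (d + 1 + d) → K) ⬝ᵥ sh σ (fJ i) = 0 := by
  unfold fJ dJ
  rw [gram_single, if_neg]
  simp [sw3]

end Cfsg.Agent.Lib.Helper26.SUReg
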