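/-
helper26: S2281 part (0), file B: the flag `e_0 < e_1 < … < e_{m-1} < f_{m-1} < … < f_0` on
`Fin m ⊕ Fin m` and the regularity criterion for matrices that are unitriangular with respect to it.
-/
import Mathlib
import Cfsg.Agent.Lib.Helper26.RegSpA

set_option autoImplicit false

namespace Cfsg.Agent.Lib.Helper26.RegSp

open Matrix

variable {F : Type*} [Field F] {m : ℕ}

/-- position in the flag `e_0 < … < e_{m-1} < f_{m-1} < … < f_0` -/
def spPos (m : ℕ) : Fin m ⊕ Fin m → ℕ :=
  Sum.elim (fun i => (i : ℕ)) (fun j => 2 * m - 1 - (j : ℕ))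

@[simp] theorem spPos_inl (i : Fin m) : spPos m (Sum.inl i) = (i : ℕ) := rfl

@[simp] theorem spPos_inr (j : Fin m) : spPos m (Sum.inr j) = 2 * m - 1 - (j : ℕ) := rfl

theorem spPos_lt (a : Fin m ⊕ Fin m) : spPos m a < 2 * m := by
  rcases a with i | j
  · have := i.2
    simp only [spPos_inl]
    omega
  · have := j.2
    simp only [spPos_inr]
    omega

theorem spPos_injective : Function.Injective (spPos m) := by
  intro a b h
  rcases a with i | i <;> rcases b with j | j
  · simp only [spPos_inl] at h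
    rw [Fin.ext h]
  · have := i.2; have := j.2
    simp only [spPos_inl, spPos_inr] at h
    omega
  · have := i.2; have := j.2
    simp only [spPos_inl, spPos_inr] at h
    omega
  · have := i.2; have := j.2
    simp only [spPos_inr] at h
    have : (i : ℕ) = (j : ℕ) := by omega
    rw [Fin.ext this]

/-- the chain `e_0, …, e_{m-1}, f_{m-1}, …, f_0` -/
def spChain (hm : 0 < m) (t : ℕ) : Fin m ⊕ Fin m :=
  if h : t < m then Sum.inl ⟨t, h⟩ else Sum.inr ⟨2 * m - 1 - t, by omega⟩

theorem spChain_of_lt (hm : 0 < m) {t : ℕ} (h : t < m) : spChain hm t = Sum.inl ⟨t, h⟩ := by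
  unfold spChain
  rw [dif_pos h]

theorem spChain_of_ge (hm : 0 < m) {t : ℕ} (h : ¬ t < m) :
    spChain hm t = Sum.inr ⟨2 * m - 1 - t, by omega⟩ := by
  unfold spChain
  rw [dif_neg h]

theorem spPos_spChain (hm : 0 < m) (t : ℕ) (ht : t < 2 * m) : spPos m (spChain hm t) = t := by
  by_cases h : t < m
  · rw [spChain_of_lt hm h]
    rfl
  · rw [spChain_of_ge hm h]
    simp only [spPos_inr]
    omega

/-- **regularity criterion in `Sp`-coordinates**: a matrix `A` such that `A - 1` is strictly upper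
triangular for the flag, with nonzero superdiagonal, is regular unipotent -/
theorem regular_of_spPos (hm : 0 < m) (A : Matrix (Fin m ⊕ Fin m) (Fin m ⊕ Fin m) F)
    (hA : ∀ a b, ¬ spPos m a < spPos m b → (A - 1) a b = 0)
    (he : ∀ (t : ℕ) (h : t + 1 < m), A (Sum.inl ⟨t, by omega⟩) (Sum.inl ⟨t + 1, h⟩) ≠ 0)
    (hmid : A (Sum.inl ⟨m - 1, by omega⟩) (Sum.inr ⟨m - 1, by omega⟩) ≠ 0)
    (hf : ∀ (t : ℕ) (h : t + 1 < m), A (Sum.inr ⟨t + 1, h⟩) (Sum.inr ⟨t, by omega⟩) ≠ 0) :
    IsNilpotent (A - 1) ∧ (A - 1) ^ (2 * m - 1) ≠ 0 := by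
  apply regular_of_pos (spPos m) spPos_injective (A - 1) hA (2 * m) spPos_lt (spChain hm)
    (spPos_spChain hm)
  intro t ht
  have hoff : ∀ a b : Fin m ⊕ Fin m, a ≠ b → (A - 1) a b = A a b := by
    intro a b hab
    rw [Matrix.sub_apply, Matrix.one_apply_ne hab, sub_zero]
  by_cases h1 : t + 1 < m
  · rw [spChain_of_lt hm (by omega : t < m), spChain_of_lt hm h1, hoff]
    · exact he t h1
    · intro h
      have := Sum.inl.inj h
      have := congrArg Fin.val this
      simp at this
  · by_cases h2 : t < m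
    · have ht' : t = m - 1 := by omega
      rw [spChain_of_lt hm h2, spChain_of_ge hm h1, hoff]
      · have e1 : (⟨t, h2⟩ : Fin m) = ⟨m - 1, by omega⟩ := Fin.ext ht'
        have e2 : (⟨2 * m - 1 - (t + 1), by omega⟩ : Fin m) = ⟨m - 1, by omega⟩ :=
          Fin.ext (by show 2 * m - 1 - (t + 1) = m - 1; omega)
        rw [e1, e2]
        exact hmid
      · intro h
        cases h
    · rw [spChain_of_ge hm h2, spChain_of_ge hm h1, hoff]
      · have hs : 2 * m - 1 - (t + 1) + 1 < m := by omega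
        have e1 : (⟨2 * m - 1 - t, by omega⟩ : Fin m) = ⟨2 * m - 1 - (t + 1) + 1, hs⟩ :=
          Fin.ext (by show 2 * m - 1 - t = 2 * m - 1 - (t + 1) + 1; omega)
        rw [e1]
        exact hf (2 * m - 1 - (t + 1)) hs
      · intro h
        have := Sum.inr.inj h
        have := congrArg Fin.val this
        simp only at this
        omega

end Cfsg.Agent.Lib.Helper26.RegSp
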