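/-
helper26: S2281 part (0), file D: an explicit regular unipotent `u0 c` (`c ≠ 0`) of
`Matrix.symplecticGroup (Fin m) F` (Mathlib's `J`-model), given by its columns
`u0 e_i = e_0 + … + e_i`, `u0 f_j = f_j - f_{j+1}` (`j + 1 < m`), `u0 f_{m-1} = f_{m-1} + c (e_0 + … + e_{m-1})`,
in helper6's `ap`/`eV`/`fV`/`ofCols` language.
-/
import Mathlib
import Cfsg.Agent.Lib.Helper6.SpGenA
import Cfsg.Agent.Lib.Helper26.RegSpB

set_option autoImplicit false

namespace Cfsg.Agent.Lib.Helper26.RegSp

open Matrix Cfsg.Agent.Lib.Helper5 Cfsg.Agent.Lib.Helper14 Cfsg.Agent.Lib.Helper6.SpGen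

variable {F : Type*} [Field F] {m : ℕ}

/-- the column `e_0 + … + e_i` -/
def colE (i : Fin m) : Fin m ⊕ Fin m → F :=
  Sum.elim (fun k => if k ≤ i then 1 else 0) (fun _ => 0)

/-- the coefficients of `f_j - f_{j+1}` -/
def phiF (j k : Fin m) : F := if k = j then 1 else if (k : ℕ) = (j : ℕ) + 1 then -1 else 0

/-- the column `f_j - f_{j+1}`, resp. `f_{m-1} + c (e_0 + … + e_{m-1})` -/
def colF (c : F) (j : Fin m) : Fin m ⊕ Fin m → F :=
  Sum.elim (fun _ => if (j : ℕ) + 1 = m then c else 0) (fun k => phiF j k)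

@[simp] theorem colE_inl (i k : Fin m) : (colE i : Fin m ⊕ Fin m → F) (Sum.inl k) = if k ≤ i then 1 else 0 := rfl
@[simp] theorem colE_inr (i k : Fin m) : (colE i : Fin m ⊕ Fin m → F) (Sum.inr k) = 0 := rfl
@[simp] theorem colF_inl (c : F) (j k : Fin m) :
    colF c j (Sum.inl k) = if (j : ℕ) + 1 = m then c else 0 := rfl
@[simp] theorem colF_inr (c : F) (j k : Fin m) : colF c j (Sum.inr k) = phiF j k := rfl

/-- summation against the coefficients of `f_j - f_{j+1}` -/
theorem sum_phiF (g : Fin m → F) (j : Fin m) :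
    ∑ k, phiF j k * g k = g j - (if h : (j : ℕ) + 1 < m then g ⟨(j : ℕ) + 1, h⟩ else 0) := by
  have hsplit : ∀ k : Fin m, phiF j k * g k =
      (if k = j then g k else 0) - (if (k : ℕ) = (j : ℕ) + 1 then g k else 0) := by
    intro k
    unfold phiF
    by_cases h1 : k = j
    · have h2 : ¬ ((k : ℕ) = (j : ℕ) + 1) := by rw [h1]; omega
      rw [if_pos h1, if_pos h1, if_neg h2, one_mul, sub_zero]
    · by_cases h2 : (k : ℕ) = (j : ℕ) + 1
      · rw [if_neg h1, if_pos h2, if_neg h1, if_pos h2, neg_one_mul, zero_sub]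
      · rw [if_neg h1, if_neg h2, if_neg h1, if_neg h2, zero_mul, sub_zero]
  rw [Finset.sum_congr rfl (fun k _ => hsplit k), Finset.sum_sub_distrib]
  congr 1
  · rw [Finset.sum_ite_eq' Finset.univ j g, if_pos (Finset.mem_univ _)]
  · by_cases h : (j : ℕ) + 1 < m
    · rw [dif_pos h]
      have : ∀ k : Fin m, (if (k : ℕ) = (j : ℕ) + 1 then g k else 0) =
          (if k = (⟨(j : ℕ) + 1, h⟩ : Fin m) then g k else 0) := by
        intro k
        have : ((k : ℕ) = (j : ℕ) + 1) ↔ k = (⟨(j : ℕ) + 1, h⟩ : Fin m) := by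
          constructor
          · intro hk; exact Fin.ext hk
          · intro hk; rw [hk]
        simp only [this]
      rw [Finset.sum_congr rfl (fun k _ => this k),
        Finset.sum_ite_eq' Finset.univ (⟨(j : ℕ) + 1, h⟩ : Fin m) g, if_pos (Finset.mem_univ _)]
    · rw [dif_neg h]
      apply Finset.sum_eq_zero
      intro k _
      have := k.2
      rw [if_neg (by omega)]

theorem sum_phiF_one (j : Fin m) :
    ∑ k, phiF j k = if (j : ℕ) + 1 = m then (1 : F) else 0 := by
  have := sum_phiF (F := F) (fun _ => 1) j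
  simp only [mul_one] at this
  rw [this]
  have hj := j.2
  by_cases h : (j : ℕ) + 1 < m
  · rw [dif_pos h, if_neg (by omega), sub_self]
  · rw [dif_neg h, if_pos (by omega), sub_zero]

/-- the columns form a hyperbolic system -/
theorem hypSys_u0 (c : F) : HypSys F m m (colE (F := F)) (colF c) := by
  refine ⟨?_, ?_, ?_⟩
  · intro i j
    rw [sympForm_eq_sum]
    apply Finset.sum_eq_zero
    intro k _
    simp only [colE_inr, zero_mul, mul_zero, sub_zero]
  · intro i j
    rw [sympForm_eq_sum]
    simp only [colF_inr, colF_inl]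
    rw [Finset.sum_sub_distrib, ← Finset.sum_mul, ← Finset.mul_sum, sum_phiF_one, sum_phiF_one]
    by_cases hi : (i : ℕ) + 1 = m <;> by_cases hj : (j : ℕ) + 1 = m <;> simp [hi, hj]
  · intro i j
    rw [sympForm_eq_sum]
    simp only [colF_inr, colF_inl, colE_inl, colE_inr, mul_zero, sub_zero]
    rw [sum_phiF (fun k => if k ≤ j then (1 : F) else 0) i]
    have hi := i.2
    have hj := j.2
    by_cases h : (i : ℕ) + 1 < m
    · rw [dif_pos h]
      by_cases hij : i = j
      · subst hij
        rw [if_pos le_rfl, if_pos rfl, if_neg, sub_zero]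
        rw [Fin.le_def]
        simp
      · rw [if_neg hij]
        by_cases hle : i ≤ j
        · have hlt : (i : ℕ) < (j : ℕ) := by
            rcases Nat.lt_or_ge (i : ℕ) (j : ℕ) with h' | h'
            · exact h'
            · exfalso; apply hij; exact Fin.ext (le_antisymm (Fin.le_def.1 hle) h')
          rw [if_pos hle, if_pos, sub_self]
          rw [Fin.le_def]
          show (i : ℕ) + 1 ≤ (j : ℕ)
          omega
        · rw [if_neg hle, if_neg, sub_zero]
          rw [Fin.le_def] at hle ⊢
          show ¬ ((i : ℕ) + 1 ≤ (j : ℕ))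
          omega
    · rw [dif_neg h, sub_zero]
      by_cases hij : i = j
      · subst hij
        rw [if_pos le_rfl, if_pos rfl]
      · rw [if_neg hij, if_neg]
        rw [Fin.le_def]
        intro hle
        apply hij
        apply Fin.ext
        omega

/-- the regular unipotent element `u0 c` -/
def u0 (m : ℕ) {F : Type*} [Field F] (c : F) : Matrix.symplecticGroup (Fin m) F :=
  ofCols (colE (F := F)) (colF c) (hypSys_u0 c)

theorem ap_u0_eV (c : F) (i : Fin m) : ap (u0 m c) (eV i) = colE i := ap_ofCols_eV _ _ _ i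

theorem ap_u0_fV (c : F) (j : Fin m) : ap (u0 m c) (fV j) = colF c j := ap_ofCols_fV _ _ _ j

theorem u0_apply_inl (c : F) (a : Fin m ⊕ Fin m) (i : Fin m) :
    (u0 m c : Matrix (Fin m ⊕ Fin m) (Fin m ⊕ Fin m) F) a (Sum.inl i) = colE i a := rfl

theorem u0_apply_inr (c : F) (a : Fin m ⊕ Fin m) (j : Fin m) :
    (u0 m c : Matrix (Fin m ⊕ Fin m) (Fin m ⊕ Fin m) F) a (Sum.inr j) = colF c j a := rfl

/-- `u0 c` is regular unipotent for `c ≠ 0` -/
theorem u0_regular (hm : 0 < m) {c : F} (hc : c ≠ 0) :
    IsNilpotent ((u0 m c : Matrix (Fin m ⊕ Fin m) (Fin m ⊕ Fin m) F) - 1) ∧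
      ((u0 m c : Matrix (Fin m ⊕ Fin m) (Fin m ⊕ Fin m) F) - 1) ^ (2 * m - 1) ≠ 0 := by
  apply regular_of_spPos hm
  · intro a b hab
    rw [Matrix.sub_apply]
    rcases b with i | j
    · rw [u0_apply_inl]
      rcases a with k | k
      · rw [colE_inl, Matrix.one_apply]
        simp only [spPos_inl] at hab
        by_cases hki : k = i
        · subst hki
          rw [if_pos le_rfl, if_pos rfl, sub_self]
        · have hne : (Sum.inl k : Fin m ⊕ Fin m) ≠ Sum.inl i := fun h => hki (Sum.inl.inj h)
          rw [if_neg hne, sub_zero, if_neg]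
          rw [Fin.le_def]
          intro hle
          apply hki
          apply Fin.ext
          omega
      · rw [colE_inr, Matrix.one_apply_ne (by intro h; cases h), sub_zero]
    · rw [u0_apply_inr]
      rcases a with k | k
      · exfalso
        apply hab
        have := k.2
        have := j.2
        simp only [spPos_inl, spPos_inr]
        omega
      · rw [colF_inr, Matrix.one_apply]
        simp only [spPos_inr] at hab
        unfold phiF
        by_cases hkj : k = j
        · subst hkj
          rw [if_pos rfl, if_pos rfl, sub_self]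
        · have hne : (Sum.inr k : Fin m ⊕ Fin m) ≠ Sum.inr j := fun h => hkj (Sum.inr.inj h)
          rw [if_neg hkj, if_neg hne, sub_zero, if_neg]
          intro hk
          have := k.2
          have := j.2
          omega
  · intro t h
    rw [u0_apply_inl, colE_inl, if_pos]
    · exact one_ne_zero
    · rw [Fin.le_def]
      show t ≤ t + 1
      omega
  · rw [u0_apply_inr, colF_inl, if_pos]
    · exact hc
    · show m - 1 + 1 = m
      omega
  · intro t h
    rw [u0_apply_inr, colF_inr]
    unfold phiF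
    rw [if_neg, if_pos]
    · exact neg_ne_zero.2 one_ne_zero
    · rfl
    · intro h'
      have := congrArg Fin.val h'
      simp at this

end Cfsg.Agent.Lib.Helper26.RegSp
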