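/-
helper26: S2281 part (0), file E: the element `symJ` (`e_i ↦ f_i`, `f_i ↦ -e_i`) in the `ap` language,
conjugates of regular unipotents are regular, and the opposite regular unipotent
`w0 c = symJ * u0 c * symJ⁻¹` with its columns
`w0 e_i = e_i - e_{i+1}` (`i + 1 < m`), `w0 e_{m-1} = e_{m-1} - c (f_0 + … + f_{m-1})`, `w0 f_i = f_0 + … + f_i`.
-/
import Mathlib
import Cfsg.Agent.Lib.Helper6.SpGenA
import Cfsg.Agent.Lib.Helper26.RegSpD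

set_option autoImplicit false

namespace Cfsg.Agent.Lib.Helper26.RegSp

open Matrix Cfsg.Agent.Lib.Helper5 Cfsg.Agent.Lib.Helper14 Cfsg.Agent.Lib.Helper6.SpGen

variable {F : Type*} [Field F] {m : ℕ}

/-- `J` as an element of the symplectic group -/
abbrev Jsp (m : ℕ) (F : Type*) [Field F] : Matrix.symplecticGroup (Fin m) F :=
  SymplecticGroup.symJ (Fin m) F

theorem ap_Jsp_inl (x : Fin m ⊕ Fin m → F) (k : Fin m) : ap (Jsp m F) x (Sum.inl k) = -x (Sum.inr k) :=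
  J_mulVec_inl m x k

theorem ap_Jsp_inr (x : Fin m ⊕ Fin m → F) (k : Fin m) : ap (Jsp m F) x (Sum.inr k) = x (Sum.inl k) :=
  J_mulVec_inr m x k

theorem ap_Jsp_eV (i : Fin m) : ap (Jsp m F) (eV i) = (fV i : Fin m ⊕ Fin m → F) := by
  funext a
  rcases a with k | k
  · rw [ap_Jsp_inl, eV_inr, fV_inl, neg_zero]
  · rw [ap_Jsp_inr, eV_inl, fV_inr]

theorem ap_Jsp_fV (i : Fin m) : ap (Jsp m F) (fV i) = -(eV i : Fin m ⊕ Fin m → F) := by
  funext a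
  rcases a with k | k
  · rw [ap_Jsp_inl, fV_inr, Pi.neg_apply, eV_inl]
  · rw [ap_Jsp_inr, fV_inl, Pi.neg_apply, eV_inr, neg_zero]

theorem ap_Jsp_inv_fV (i : Fin m) : ap (Jsp m F)⁻¹ (fV i) = (eV i : Fin m ⊕ Fin m → F) :=
  ap_inv_eq (ap_Jsp_eV i)

theorem ap_Jsp_inv_eV (i : Fin m) : ap (Jsp m F)⁻¹ (eV i) = -(fV i : Fin m ⊕ Fin m → F) := by
  apply ap_inv_eq
  rw [ap_neg, ap_Jsp_fV, neg_neg]

/-- conjugation and `· - 1` -/
theorem coe_conj_sub_one (g u : Matrix.symplecticGroup (Fin m) F) :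
    ((g * u * g⁻¹ : Matrix.symplecticGroup (Fin m) F) : Matrix (Fin m ⊕ Fin m) (Fin m ⊕ Fin m) F) - 1 =
      (g : Matrix (Fin m ⊕ Fin m) (Fin m ⊕ Fin m) F) *
        ((u : Matrix (Fin m ⊕ Fin m) (Fin m ⊕ Fin m) F) - 1) *
        ((g⁻¹ : Matrix.symplecticGroup (Fin m) F) : Matrix (Fin m ⊕ Fin m) (Fin m ⊕ Fin m) F) := by
  have h1 : (g : Matrix (Fin m ⊕ Fin m) (Fin m ⊕ Fin m) F) *
      ((g⁻¹ : Matrix.symplecticGroup (Fin m) F) : Matrix (Fin m ⊕ Fin m) (Fin m ⊕ Fin m) F) = 1 := by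
    have := congrArg (fun A : Matrix.symplecticGroup (Fin m) F =>
      (A : Matrix (Fin m ⊕ Fin m) (Fin m ⊕ Fin m) F)) (mul_inv_cancel g)
    exact this
  have h2 : ((g * u * g⁻¹ : Matrix.symplecticGroup (Fin m) F) :
      Matrix (Fin m ⊕ Fin m) (Fin m ⊕ Fin m) F) =
      (g : Matrix (Fin m ⊕ Fin m) (Fin m ⊕ Fin m) F) * (u : Matrix (Fin m ⊕ Fin m) (Fin m ⊕ Fin m) F) *
        ((g⁻¹ : Matrix.symplecticGroup (Fin m) F) : Matrix (Fin m ⊕ Fin m) (Fin m ⊕ Fin m) F) := rfl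
  rw [h2, Matrix.mul_sub, Matrix.sub_mul, Matrix.mul_one, h1]

theorem coe_conj_sub_one_pow (g u : Matrix.symplecticGroup (Fin m) F) (k : ℕ) :
    (((g * u * g⁻¹ : Matrix.symplecticGroup (Fin m) F) :
      Matrix (Fin m ⊕ Fin m) (Fin m ⊕ Fin m) F) - 1) ^ k =
      (g : Matrix (Fin m ⊕ Fin m) (Fin m ⊕ Fin m) F) *
        ((u : Matrix (Fin m ⊕ Fin m) (Fin m ⊕ Fin m) F) - 1) ^ k *
        ((g⁻¹ : Matrix.symplecticGroup (Fin m) F) : Matrix (Fin m ⊕ Fin m) (Fin m ⊕ Fin m) F) := by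
  have h1 : (g : Matrix (Fin m ⊕ Fin m) (Fin m ⊕ Fin m) F) *
      ((g⁻¹ : Matrix.symplecticGroup (Fin m) F) : Matrix (Fin m ⊕ Fin m) (Fin m ⊕ Fin m) F) = 1 := by
    have := congrArg (fun A : Matrix.symplecticGroup (Fin m) F =>
      (A : Matrix (Fin m ⊕ Fin m) (Fin m ⊕ Fin m) F)) (mul_inv_cancel g)
    exact this
  have h2 : ((g⁻¹ : Matrix.symplecticGroup (Fin m) F) : Matrix (Fin m ⊕ Fin m) (Fin m ⊕ Fin m) F) *
      (g : Matrix (Fin m ⊕ Fin m) (Fin m ⊕ Fin m) F) = 1 := by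
    have := congrArg (fun A : Matrix.symplecticGroup (Fin m) F =>
      (A : Matrix (Fin m ⊕ Fin m) (Fin m ⊕ Fin m) F)) (inv_mul_cancel g)
    exact this
  rw [coe_conj_sub_one]
  induction k with
  | zero => rw [pow_zero, pow_zero, Matrix.mul_one, h1]
  | succ k ih =>
    rw [pow_succ, ih, pow_succ]
    calc (g : Matrix (Fin m ⊕ Fin m) (Fin m ⊕ Fin m) F) *
          ((u : Matrix (Fin m ⊕ Fin m) (Fin m ⊕ Fin m) F) - 1) ^ k *
          ((g⁻¹ : Matrix.symplecticGroup (Fin m) F) : Matrix (Fin m ⊕ Fin m) (Fin m ⊕ Fin m) F) *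
          ((g : Matrix (Fin m ⊕ Fin m) (Fin m ⊕ Fin m) F) *
          ((u : Matrix (Fin m ⊕ Fin m) (Fin m ⊕ Fin m) F) - 1) *
          ((g⁻¹ : Matrix.symplecticGroup (Fin m) F) : Matrix (Fin m ⊕ Fin m) (Fin m ⊕ Fin m) F))
        = (g : Matrix (Fin m ⊕ Fin m) (Fin m ⊕ Fin m) F) *
          ((u : Matrix (Fin m ⊕ Fin m) (Fin m ⊕ Fin m) F) - 1) ^ k *
          (((g⁻¹ : Matrix.symplecticGroup (Fin m) F) : Matrix (Fin m ⊕ Fin m) (Fin m ⊕ Fin m) F) *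
          (g : Matrix (Fin m ⊕ Fin m) (Fin m ⊕ Fin m) F)) *
          ((u : Matrix (Fin m ⊕ Fin m) (Fin m ⊕ Fin m) F) - 1) *
          ((g⁻¹ : Matrix.symplecticGroup (Fin m) F) : Matrix (Fin m ⊕ Fin m) (Fin m ⊕ Fin m) F) := by
          simp only [Matrix.mul_assoc]
      _ = _ := by rw [h2, Matrix.mul_one]; simp only [Matrix.mul_assoc]

/-- conjugates of regular unipotent elements are regular unipotent -/
theorem regular_conj (g u : Matrix.symplecticGroup (Fin m) F) (k : ℕ)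
    (h : IsNilpotent ((u : Matrix (Fin m ⊕ Fin m) (Fin m ⊕ Fin m) F) - 1) ∧
      ((u : Matrix (Fin m ⊕ Fin m) (Fin m ⊕ Fin m) F) - 1) ^ k ≠ 0) :
    IsNilpotent (((g * u * g⁻¹ : Matrix.symplecticGroup (Fin m) F) :
        Matrix (Fin m ⊕ Fin m) (Fin m ⊕ Fin m) F) - 1) ∧
      (((g * u * g⁻¹ : Matrix.symplecticGroup (Fin m) F) :
        Matrix (Fin m ⊕ Fin m) (Fin m ⊕ Fin m) F) - 1) ^ k ≠ 0 := by
  have h1 : (g : Matrix (Fin m ⊕ Fin m) (Fin m ⊕ Fin m) F) *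
      ((g⁻¹ : Matrix.symplecticGroup (Fin m) F) : Matrix (Fin m ⊕ Fin m) (Fin m ⊕ Fin m) F) = 1 := by
    have := congrArg (fun A : Matrix.symplecticGroup (Fin m) F =>
      (A : Matrix (Fin m ⊕ Fin m) (Fin m ⊕ Fin m) F)) (mul_inv_cancel g)
    exact this
  have h2 : ((g⁻¹ : Matrix.symplecticGroup (Fin m) F) : Matrix (Fin m ⊕ Fin m) (Fin m ⊕ Fin m) F) *
      (g : Matrix (Fin m ⊕ Fin m) (Fin m ⊕ Fin m) F) = 1 := by
    have := congrArg (fun A : Matrix.symplecticGroup (Fin m) F =>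
      (A : Matrix (Fin m ⊕ Fin m) (Fin m ⊕ Fin m) F)) (inv_mul_cancel g)
    exact this
  obtain ⟨⟨n, hn⟩, hk⟩ := h
  constructor
  · refine ⟨n, ?_⟩
    rw [coe_conj_sub_one_pow, hn, Matrix.mul_zero, Matrix.zero_mul]
  · intro h0
    apply hk
    rw [coe_conj_sub_one_pow] at h0
    have := congrArg (fun X => ((g⁻¹ : Matrix.symplecticGroup (Fin m) F) :
      Matrix (Fin m ⊕ Fin m) (Fin m ⊕ Fin m) F) * X * (g : Matrix (Fin m ⊕ Fin m) (Fin m ⊕ Fin m) F)) h0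
    simp only [Matrix.mul_zero, Matrix.zero_mul] at this
    rw [← this]
    symm
    calc ((g⁻¹ : Matrix.symplecticGroup (Fin m) F) : Matrix (Fin m ⊕ Fin m) (Fin m ⊕ Fin m) F) *
          ((g : Matrix (Fin m ⊕ Fin m) (Fin m ⊕ Fin m) F) *
          ((u : Matrix (Fin m ⊕ Fin m) (Fin m ⊕ Fin m) F) - 1) ^ k *
          ((g⁻¹ : Matrix.symplecticGroup (Fin m) F) : Matrix (Fin m ⊕ Fin m) (Fin m ⊕ Fin m) F)) *
          (g : Matrix (Fin m ⊕ Fin m) (Fin m ⊕ Fin m) F)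
        = (((g⁻¹ : Matrix.symplecticGroup (Fin m) F) : Matrix (Fin m ⊕ Fin m) (Fin m ⊕ Fin m) F) *
          (g : Matrix (Fin m ⊕ Fin m) (Fin m ⊕ Fin m) F)) *
          ((u : Matrix (Fin m ⊕ Fin m) (Fin m ⊕ Fin m) F) - 1) ^ k *
          (((g⁻¹ : Matrix.symplecticGroup (Fin m) F) : Matrix (Fin m ⊕ Fin m) (Fin m ⊕ Fin m) F) *
          (g : Matrix (Fin m ⊕ Fin m) (Fin m ⊕ Fin m) F)) := by
          simp only [Matrix.mul_assoc]
      _ = _ := by rw [h2, Matrix.one_mul, Matrix.mul_one]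

/-- the opposite regular unipotent -/
def w0 (m : ℕ) {F : Type*} [Field F] (c : F) : Matrix.symplecticGroup (Fin m) F :=
  Jsp m F * u0 m c * (Jsp m F)⁻¹

/-- the column `f_0 + … + f_i` -/
def rowF (i : Fin m) : Fin m ⊕ Fin m → F :=
  Sum.elim (fun _ => 0) (fun k => if k ≤ i then 1 else 0)

/-- the column `e_i - e_{i+1}`, resp. `e_{m-1} - c (f_0 + … + f_{m-1})` -/
def rowE (c : F) (i : Fin m) : Fin m ⊕ Fin m → F :=
  Sum.elim (fun k => phiF i k) (fun _ => if (i : ℕ) + 1 = m then -c else 0)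

theorem ap_w0_fV (c : F) (i : Fin m) : ap (w0 m c) (fV i) = rowF i := by
  unfold w0
  rw [ap_mul, ap_mul, ap_Jsp_inv_fV, ap_u0_eV]
  funext a
  rcases a with k | k
  · rw [ap_Jsp_inl, colE_inr, neg_zero]; rfl
  · rw [ap_Jsp_inr, colE_inl]; rfl

theorem ap_w0_eV (c : F) (i : Fin m) : ap (w0 m c) (eV i) = rowE c i := by
  unfold w0
  rw [ap_mul, ap_mul, ap_Jsp_inv_eV, ap_neg, ap_u0_fV, ap_neg]
  funext a
  rcases a with k | k
  · rw [Pi.neg_apply, ap_Jsp_inl, colF_inr, neg_neg]; rfl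
  · rw [Pi.neg_apply, ap_Jsp_inr, colF_inl]
    show -(if (i : ℕ) + 1 = m then c else 0) = if (i : ℕ) + 1 = m then -c else 0
    split_ifs <;> simp

theorem w0_regular (hm : 0 < m) {c : F} (hc : c ≠ 0) :
    IsNilpotent ((w0 m c : Matrix (Fin m ⊕ Fin m) (Fin m ⊕ Fin m) F) - 1) ∧
      ((w0 m c : Matrix (Fin m ⊕ Fin m) (Fin m ⊕ Fin m) F) - 1) ^ (2 * m - 1) ≠ 0 :=
  regular_conj (Jsp m F) (u0 m c) (2 * m - 1) (u0_regular hm hc)

end Cfsg.Agent.Lib.Helper26.RegSp
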