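import Mathlib
import Cfsg.Prelude.Def_ClassicalGeometry
import Cfsg.Prelude.Def_GeometricClasses
import Cfsg.Agent.Lib.Helper5.SpMax
import Cfsg.Agent.Lib.Helper22.C3Defs
import Cfsg.Agent.Lib.Helper22.C3Tool

/-!
S5665 (helper22's market), growth leaves G1, G2, G in "core" form: the existence lemmas E1
(`exists_nonsing_perp`) and E2a (`exists_norm`) enter as explicit hypotheses.
-/

set_option autoImplicit false

namespace Cfsg.Agent.Lib.Helper26.C3Leaf
open Cfsg Matrix Cfsg.Agent.Lib.Helper5 Cfsg.Agent.Lib.Helper5.SpMax Cfsg.Agent.Lib.Helper22.C3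
  Cfsg.Agent.Lib.Helper22.C3Leaf

variable {F : Type*} [Field F] {m : ℕ}

local notation "𝕍" => (Fin m ⊕ Fin m → F)
local notation "𝕄" => Matrix (Fin m ⊕ Fin m) (Fin m ⊕ Fin m) F

/-- `tvc (s • v) c = tvc v (s * s * c)` -/
theorem g_tvc_smul (v : 𝕍) (s c : F) : tvc (s • v) c = tvc v (s * s * c) := by
  apply Units.ext
  apply mat_eq_of_mulVec
  intro u
  rw [tvc_mulVec, tvc_mulVec, sympForm_smul_right, smul_smul]
  congr 2
  ring

theorem g_Sset_smul {M : Subgroup (GL (Fin m ⊕ Fin m) F)} {v : 𝕍} (hv : v ∈ Sset M) (s : F) :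
    s • v ∈ Sset M := by
  intro c
  rw [g_tvc_smul]
  exact hv _

theorem g_Sset_add {M : Subgroup (GL (Fin m ⊕ Fin m) F)} (hMS : M ≤ spGL m F) {v w : 𝕍}
    (hv : v ∈ Sset M) (hw : w ∈ Sset M) (hvw : sympForm m F v w ≠ 0) (c : F) :
    v + c • w ∈ Sset M := by
  have := Sset_mulVec_mem hMS (hw (c / sympForm m F v w)) hv
  rw [tvc_mulVec] at this
  have e : c / sympForm m F v w * sympForm m F v w = c := div_mul_cancel₀ c hvw
  rwa [e] at this

theorem g_Sset_lincomb {M : Subgroup (GL (Fin m ⊕ Fin m) F)} (hMS : M ≤ spGL m F) {v w : 𝕍}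
    (hv : v ∈ Sset M) (hw : w ∈ Sset M) (hvw : sympForm m F v w ≠ 0) (a b : F) :
    a • v + b • w ∈ Sset M := by
  by_cases ha : a = 0
  · rw [ha, zero_smul, zero_add]; exact g_Sset_smul hw b
  · have := g_Sset_smul (g_Sset_add hMS hv hw hvw (b / a)) a
    rw [smul_add, smul_smul, mul_div_cancel₀ b ha] at this
    exact this

/-- E2b again (explicit norm-one element outside `F`), proved here to keep this file self-contained -/
theorem g_exists_norm_one (S : CS m F) (h2 : (2 : F) ≠ 0) :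
    ∃ c d : F, c * c - S.δ * (d * d) = 1 ∧ d ≠ 0 := by
  have h1 : (1 : F) - S.δ ≠ 0 := by
    intro h
    apply S.nsq 1
    rw [mul_one]
    exact (sub_eq_zero.mp h)
  refine ⟨(1 + S.δ) / (1 - S.δ), 2 / (1 - S.δ), ?_, div_ne_zero h2 h1⟩
  field_simp
  ring

/-- G1. the whole `K`-line of a non-singular centre -/
theorem act_mem_Sset (S : CS m F) (h2 : (2 : F) ≠ 0)
    (M : Subgroup (GL (Fin m ⊕ Fin m) F)) (hMS : M ≤ spGL m F)
    (hM : ∀ g ∈ spGL m F, (g : 𝕄) * S.J = S.J * (g : 𝕄) → g ∈ M)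
    (x : 𝕍) (hx : S.N x ≠ 0) (hxS : x ∈ Sset M) (s t : F) : S.act s t x ∈ Sset M := by
  obtain ⟨c, d, hcd, hd⟩ := g_exists_norm_one S h2
  have hk : S.act c d x ∈ Sset M := by
    rw [← CS.sc_mulVec S c d hcd]
    exact Sset_mulVec_mem hMS (hM _ (sc_mem S c d hcd) (sc_comm S c d hcd)) hxS
  have hf : sympForm m F x (S.act c d x) ≠ 0 := by
    unfold CS.act
    rw [sympForm_add_right, sympForm_smul_right, sympForm_smul_right, sympForm_self, mul_zero,
      zero_add]
    exact mul_ne_zero hd hx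
  have := g_Sset_lincomb hMS hxS hk hf (s - t / d * c) (t / d)
  convert this using 1
  unfold CS.act
  ext i
  simp only [Pi.add_apply, Pi.smul_apply, smul_eq_mul]
  field_simp
  ring

/-- G2 (core form: E2a as a hypothesis). -/
theorem perp_mem_Sset_of (S : CS m F) (h2 : (2 : F) ≠ 0)
    (hE2 : ∀ n : F, ∃ s t : F, s * s - S.δ * (t * t) = n)
    (M : Subgroup (GL (Fin m ⊕ Fin m) F)) (hMS : M ≤ spGL m F)
    (hM : ∀ g ∈ spGL m F, (g : 𝕄) * S.J = S.J * (g : 𝕄) → g ∈ M)
    (x : 𝕍) (hx : S.N x ≠ 0) (hxS : ∀ s t : F, S.act s t x ∈ Sset M)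
    (y : 𝕍) (hy : S.N y ≠ 0) (hyx : sympForm m F y x = 0) (hyJx : sympForm m F y (S.J *ᵥ x) = 0) :
    y ∈ Sset M := by
  obtain ⟨s, t, hst⟩ := hE2 (S.N y / S.N x)
  -- x' = (s + t J) x has norm N y
  have hN' : S.N (S.act s t x) = S.N y := by
    rw [N_act, hst, div_mul_cancel₀ _ hx]
  -- orthogonality relations
  have hxy : sympForm m F x y = 0 := by rw [sympForm_swap, hyx, neg_zero]
  have hJxy : sympForm m F (S.J *ᵥ x) y = 0 := by rw [sympForm_swap, hyJx, neg_zero]
  have hxJy : sympForm m F x (S.J *ᵥ y) = 0 := by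
    have := S.skew x y
    rw [hJxy] at this
    exact neg_eq_zero.mp this.symm
  have hJxJy : sympForm m F (S.J *ᵥ x) (S.J *ᵥ y) = 0 := by
    rw [S.form_JJ, hxy, mul_zero]
  have hJact : S.J *ᵥ (S.act s t x) = s • (S.J *ᵥ x) + (t * S.δ) • x := by
    unfold CS.act
    rw [Matrix.mulVec_add, Matrix.mulVec_smul, Matrix.mulVec_smul, S.JJ, smul_smul]
  have hJxx : sympForm m F (S.J *ᵥ x) x = - S.N x := S.form_J_self x
  have hxJx : sympForm m F x (S.J *ᵥ x) = S.N x := rfl
  -- u = y - x'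
  have hu : S.N (y - S.act s t x) = 2 * S.N y := by
    have e : S.N (y - S.act s t x) = S.N y + S.N (S.act s t x)
        - sympForm m F y (S.J *ᵥ (S.act s t x)) - sympForm m F (S.act s t x) (S.J *ᵥ y) := by
      unfold CS.N
      rw [Matrix.mulVec_sub, sympForm_sub_left, sympForm_sub_right, sympForm_sub_right]
      ring
    rw [e, hN', hJact]
    unfold CS.act
    simp only [sympForm_add_left, sympForm_add_right, sympForm_smul_left, sympForm_smul_right,
      hyx, hyJx, hxJy, hJxJy]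
    ring
  have hu0 : S.N (y - S.act s t x) ≠ 0 := by
    rw [hu]; exact mul_ne_zero h2 hy
  have hz : S.zK (y - S.act s t x) hu0 ∈ M :=
    hM _ (S.zK_mem _ hu0) (zK_comm S _ hu0)
  have hmem := Sset_mulVec_mem hMS hz (hxS s t)
  have e2 : ((S.zK (y - S.act s t x) hu0 : GL (Fin m ⊕ Fin m) F) : 𝕄) *ᵥ (S.act s t x) = y := by
    rw [CS.zK_mulVec, hu]
    have f1 : sympForm m F (S.act s t x) (y - S.act s t x) = 0 := by
      rw [sympForm_sub_right, sympForm_self, sub_zero]
      unfold CS.act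
      rw [sympForm_add_left, sympForm_smul_left, sympForm_smul_left, hxy, hJxy]
      ring
    have f2 : sympForm m F (S.act s t x) (S.J *ᵥ (y - S.act s t x)) = - S.N y := by
      rw [Matrix.mulVec_sub, sympForm_sub_right]
      have : sympForm m F (S.act s t x) (S.J *ᵥ (S.act s t x)) = S.N y := hN'
      rw [this]
      unfold CS.act
      rw [sympForm_add_left, sympForm_smul_left, sympForm_smul_left, hxJy, hJxJy]
      ring
    rw [f1, f2]
    ext i
    simp only [Pi.sub_apply, Pi.smul_apply, smul_eq_mul]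
    field_simp
    ring
  rwa [e2] at hmem

/-- non-singular vectors are in `Sset M` (core form) -/
theorem nonsing_mem_Sset_of (S : CS m F) (h2 : (2 : F) ≠ 0)
    (hE1 : ∀ W : Submodule F 𝕍, Module.finrank F W ≤ 6 →
      ∃ v : 𝕍, S.N v ≠ 0 ∧ ∀ w ∈ W, sympForm m F v w = 0)
    (hE2 : ∀ n : F, ∃ s t : F, s * s - S.δ * (t * t) = n)
    (M : Subgroup (GL (Fin m ⊕ Fin m) F)) (hMS : M ≤ spGL m F)
    (hM : ∀ g ∈ spGL m F, (g : 𝕄) * S.J = S.J * (g : 𝕄) → g ∈ M)
    (x : 𝕍) (hx : S.N x ≠ 0) (hxS : x ∈ Sset M) (v : 𝕍) (hv : S.N v ≠ 0) : v ∈ Sset M := by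
  classical
  have hfr : Module.finrank F (Submodule.span F
      (({x, S.J *ᵥ x, v, S.J *ᵥ v} : Finset 𝕍) : Set 𝕍)) ≤ 6 :=
    le_trans (finrank_span_finset_le_card _) (le_trans Finset.card_le_four (by norm_num))
  obtain ⟨y, hy, hyW⟩ := hE1 _ hfr
  have hyx : sympForm m F y x = 0 := hyW _ (Submodule.subset_span (by simp))
  have hyJx : sympForm m F y (S.J *ᵥ x) = 0 := hyW _ (Submodule.subset_span (by simp))
  have hyv : sympForm m F y v = 0 := hyW _ (Submodule.subset_span (by simp))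
  have hyJv : sympForm m F y (S.J *ᵥ v) = 0 := hyW _ (Submodule.subset_span (by simp))
  have hyS : y ∈ Sset M :=
    perp_mem_Sset_of S h2 hE2 M hMS hM x hx (act_mem_Sset S h2 M hMS hM x hx hxS) y hy hyx hyJx
  have hvy : sympForm m F v y = 0 := by rw [sympForm_swap, hyv, neg_zero]
  have hvJy : sympForm m F v (S.J *ᵥ y) = 0 := by
    have := S.skew v y
    rw [sympForm_swap, hyJv, neg_zero] at this
    exact neg_eq_zero.mp this.symm
  exact perp_mem_Sset_of S h2 hE2 M hMS hM y hy (act_mem_Sset S h2 M hMS hM y hy hyS) v hv hvy hvJy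

/-- G (core form): growth, one non-singular centre gives everything -/
theorem le_of_mem_Sset_of (S : CS m F) (h2 : (2 : F) ≠ 0)
    (hE1 : ∀ W : Submodule F 𝕍, Module.finrank F W ≤ 6 →
      ∃ v : 𝕍, S.N v ≠ 0 ∧ ∀ w ∈ W, sympForm m F v w = 0)
    (hE2 : ∀ n : F, ∃ s t : F, s * s - S.δ * (t * t) = n)
    (M : Subgroup (GL (Fin m ⊕ Fin m) F)) (hMS : M ≤ spGL m F)
    (hM : ∀ g ∈ spGL m F, (g : 𝕄) * S.J = S.J * (g : 𝕄) → g ∈ M)
    (x : 𝕍) (hx : S.N x ≠ 0) (hxS : x ∈ Sset M) : spGL m F ≤ M := by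
  have hns := nonsing_mem_Sset_of S h2 hE1 hE2 M hMS hM x hx hxS
  apply le_of_forall_mem_Sset
  intro a
  by_cases ha0 : a = 0
  · intro c
    have : tvc (0 : 𝕍) c = 1 := by
      apply Units.ext
      apply mat_eq_of_mulVec
      intro u
      rw [tvc_mulVec, smul_zero, add_zero, Units.val_one, Matrix.one_mulVec]
    rw [ha0, this]
    exact M.one_mem
  by_cases haN : S.N a ≠ 0
  · exact hns a haN
  rw [not_not] at haN
  obtain ⟨b, hb⟩ := sympForm_nondeg a ha0
  -- notation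
  have hδ := S.δ_ne_zero
  set φ := sympForm m F a b with hφ
  set β₀ := sympForm m F a (S.J *ᵥ b) with hβ
  -- the target norm
  obtain ⟨τ, hτ0, hτ1⟩ : ∃ τ : F, τ ≠ 0 ∧ τ ≠ 2 * β₀ := by
    by_cases h : 2 * β₀ = 1
    · refine ⟨-1, neg_ne_zero.mpr one_ne_zero, ?_⟩
      rw [h]
      intro h'
      apply h2
      have : (2 : F) = 1 - (-1) := by ring
      rw [this, h', sub_self]
    · exact ⟨1, one_ne_zero, fun h' => h h'.symm⟩
  set μ := (S.N b - τ) / (2 * S.δ * φ) with hμ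
  set w := b + μ • (S.J *ᵥ a) with hw
  have hJw : S.J *ᵥ w = S.J *ᵥ b + (μ * S.δ) • a := by
    rw [hw, Matrix.mulVec_add, Matrix.mulVec_smul, S.JJ, smul_smul]
  have haJa : sympForm m F a (S.J *ᵥ a) = 0 := haN
  have hJaa : sympForm m F (S.J *ᵥ a) a = 0 := by rw [S.form_J_self, haN, neg_zero]
  have hfaw : sympForm m F a w = φ := by
    rw [hw, sympForm_add_right, sympForm_smul_right, haJa, mul_zero, add_zero]
  have hbaw : sympForm m F a (S.J *ᵥ w) = β₀ := by
    rw [hJw, sympForm_add_right, sympForm_smul_right, sympForm_self, mul_zero, add_zero]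
  have hJab : sympForm m F (S.J *ᵥ a) (S.J *ᵥ b) = - S.δ * φ := S.form_JJ a b
  have hba : sympForm m F b a = - φ := by rw [sympForm_swap]
  have hNw : S.N w = τ := by
    unfold CS.N
    rw [hJw, hw]
    simp only [sympForm_add_left, sympForm_add_right, sympForm_smul_left, sympForm_smul_right,
      hJab, hJaa, hba]
    have : sympForm m F b (S.J *ᵥ b) = S.N b := rfl
    rw [this, hμ]
    field_simp
    ring
  have hwJa : sympForm m F w (S.J *ᵥ a) = β₀ := by
    have := S.skew w a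
    rw [← neg_eq_iff_eq_neg] at this
    rw [← this, sympForm_swap, neg_neg, hbaw]
  have hNaw : S.N (a - w) = τ - 2 * β₀ := by
    unfold CS.N
    rw [Matrix.mulVec_sub, sympForm_sub_left, sympForm_sub_right, sympForm_sub_right, haJa,
      hbaw, hwJa]
    have : sympForm m F w (S.J *ᵥ w) = τ := hNw
    rw [this]
    ring
  have h1 : a - w ∈ Sset M := hns _ (by rw [hNaw]; exact sub_ne_zero.mpr hτ1)
  have h2' : w ∈ Sset M := hns _ (by rw [hNw]; exact hτ0)
  have h3 : sympForm m F (a - w) w ≠ 0 := by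
    rw [sympForm_sub_left, sympForm_self, sub_zero, hfaw]
    exact hb
  have := g_Sset_add hMS h1 h2' h3 1
  rwa [one_smul, sub_add_cancel] at this

end Cfsg.Agent.Lib.Helper26.C3Leaf
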