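import Mathlib
import Cfsg.Prelude.Def_ClassicalGeometry
import Cfsg.Prelude.Def_GeometricClasses
import Cfsg.Agent.Lib.Helper5.SpMax
import Cfsg.Agent.Lib.Helper22.C3Defs
import Cfsg.Agent.Lib.Helper22.C3Tool
import Cfsg.Agent.Lib.Helper23.C3E
import Cfsg.Agent.Lib.Helper26.C3Gcore

/-!
S5665 (helper22's market): growth leaves G2, G with the exact signatures of
`notes/S5665_leaves.lean` (G1 `act_mem_Sset` is in `C3Gcore`).
-/

set_option autoImplicit false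

namespace Cfsg.Agent.Lib.Helper26.C3Leaf
open Cfsg Matrix Cfsg.Agent.Lib.Helper5 Cfsg.Agent.Lib.Helper5.SpMax Cfsg.Agent.Lib.Helper22.C3
  Cfsg.Agent.Lib.Helper22.C3Leaf

variable {F : Type*} [Field F] {m : ℕ}

local notation "𝕍" => (Fin m ⊕ Fin m → F)
local notation "𝕄" => Matrix (Fin m ⊕ Fin m) (Fin m ⊕ Fin m) F

/-- G2. non-singular vectors orthogonal to the `K`-line of `x` -/
theorem perp_mem_Sset [Fintype F] (S : CS m F) (h2 : (2 : F) ≠ 0)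
    (M : Subgroup (GL (Fin m ⊕ Fin m) F)) (hMS : M ≤ spGL m F)
    (hM : ∀ g ∈ spGL m F, (g : 𝕄) * S.J = S.J * (g : 𝕄) → g ∈ M)
    (x : 𝕍) (hx : S.N x ≠ 0) (hxS : ∀ s t : F, S.act s t x ∈ Sset M)
    (y : 𝕍) (hy : S.N y ≠ 0) (hyx : sympForm m F y x = 0) (hyJx : sympForm m F y (S.J *ᵥ x) = 0) :
    y ∈ Sset M := by
  exact perp_mem_Sset_of S h2 (fun n => Cfsg.Agent.Lib.Helper23.C3Leaf.exists_norm S n)
    M hMS hM x hx hxS y hy hyx hyJx

/-- G. growth: one non-singular centre gives everything -/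
theorem le_of_mem_Sset [Fintype F] (S : CS m F) (hm : 7 ≤ m) (h2 : (2 : F) ≠ 0)
    (M : Subgroup (GL (Fin m ⊕ Fin m) F)) (hMS : M ≤ spGL m F)
    (hM : ∀ g ∈ spGL m F, (g : 𝕄) * S.J = S.J * (g : 𝕄) → g ∈ M)
    (x : 𝕍) (hx : S.N x ≠ 0) (hxS : x ∈ Sset M) : spGL m F ≤ M := by
  exact le_of_mem_Sset_of S h2
    (fun W hW => Cfsg.Agent.Lib.Helper23.C3Leaf.exists_nonsing_perp S hm h2 W hW)
    (fun n => Cfsg.Agent.Lib.Helper23.C3Leaf.exists_norm S n) M hMS hM x hx hxS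

end Cfsg.Agent.Lib.Helper26.C3Leaf
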