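import Mathlib

/-!
# S1632 leaf A1 (helper26): one-dimensional shifted theta inversion

`one_dim`: for `c > 0`, real `s z` and `Im τ > 0`,
`∑ₖ exp(π i τ c (k+s)² + 2π i k z) = c^{-1/2} (-iτ)^{-1/2} ∑ₘ exp(-π i (m-z)²/(cτ) + 2π i s (m-z))`,
together with both summabilities.  Direct from Mathlib's `jacobiTheta₂_functional_equation`
with `τ' = cτ`, `z' = z + c s τ`.
-/

set_option autoImplicit false

noncomputable section

namespace Cfsg.Agent.Lib.Helper26.ThetaA1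

open Complex
open scoped Real

/-- `(c w)^{1/2} = √c · w^{1/2}` for real `c > 0`. -/
theorem ofReal_mul_cpow_half (c : ℝ) (hc : 0 < c) (w : ℂ) (hw : w ≠ 0) :
    ((c : ℂ) * w) ^ (1 / 2 : ℂ) = (Real.sqrt c : ℂ) * w ^ (1 / 2 : ℂ) := by
  have hcne : (c : ℂ) ≠ 0 := ofReal_ne_zero.mpr hc.ne'
  rw [cpow_def_of_ne_zero (mul_ne_zero hcne hw), log_ofReal_mul hc hw, add_mul, Complex.exp_add,
    ← cpow_def_of_ne_zero hw]
  congr 1
  rw [Real.sqrt_eq_rpow, Real.rpow_def_of_pos hc, ofReal_exp]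
  congr 1
  push_cast
  ring

/-- LEAF A1: one-dimensional shifted theta inversion (from `jacobiTheta₂_functional_equation`). -/
theorem one_dim (c : ℝ) (hc : 0 < c) (s z : ℝ) (τ : ℂ) (hτ : 0 < τ.im) :
    Summable (fun k : ℤ => cexp (π * I * τ * ((c * ((k : ℝ) + s) ^ 2 : ℝ) : ℂ)
      + 2 * π * I * (((k : ℝ) * z : ℝ) : ℂ))) ∧
    Summable (fun m : ℤ => cexp (-(π * I) * ((((m : ℝ) - z) ^ 2 / c : ℝ) : ℂ) / τ
      + 2 * π * I * ((s * ((m : ℝ) - z) : ℝ) : ℂ))) ∧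
    ∑' k : ℤ, cexp (π * I * τ * ((c * ((k : ℝ) + s) ^ 2 : ℝ) : ℂ)
        + 2 * π * I * (((k : ℝ) * z : ℝ) : ℂ)) =
      (1 / (Real.sqrt c : ℂ)) * (1 / (-I * τ) ^ (1 / 2 : ℂ)) *
        ∑' m : ℤ, cexp (-(π * I) * ((((m : ℝ) - z) ^ 2 / c : ℝ) : ℂ) / τ
          + 2 * π * I * ((s * ((m : ℝ) - z) : ℝ) : ℂ)) := by
  have hτne : τ ≠ 0 := fun h => by simp [h] at hτ
  have hcne : (c : ℂ) ≠ 0 := ofReal_ne_zero.mpr hc.ne'
  set τ' : ℂ := (c : ℂ) * τ with hτ'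
  set z' : ℂ := (z : ℂ) + (c : ℂ) * s * τ with hz'
  have hτ'ne : τ' ≠ 0 := mul_ne_zero hcne hτne
  have hτ'im : 0 < τ'.im := by
    rw [hτ', Complex.im_ofReal_mul]
    exact mul_pos hc hτ
  have hinv : 0 < (-1 / τ').im := by
    rw [neg_div, neg_im, one_div, inv_im, neg_div, neg_neg]
    exact div_pos hτ'im (normSq_pos.mpr hτ'ne)
  set E : ℂ := cexp (π * I * τ * c * s ^ 2) with hE
  set F : ℂ := cexp (-π * I * z' ^ 2 / τ') with hF
  have h1 : ∀ k : ℤ, cexp (π * I * τ * ((c * ((k : ℝ) + s) ^ 2 : ℝ) : ℂ)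
      + 2 * π * I * (((k : ℝ) * z : ℝ) : ℂ)) = E * jacobiTheta₂_term k z' τ' := by
    intro k
    rw [hE, jacobiTheta₂_term, ← Complex.exp_add]
    congr 1
    rw [hz', hτ']
    push_cast
    ring
  have h2 : ∀ m : ℤ, cexp (-(π * I) * ((((m : ℝ) - z) ^ 2 / c : ℝ) : ℂ) / τ
      + 2 * π * I * ((s * ((m : ℝ) - z) : ℝ) : ℂ)) =
      E * F * jacobiTheta₂_term m (z' / τ') (-1 / τ') := by
    intro m
    rw [hE, hF, jacobiTheta₂_term, ← Complex.exp_add, ← Complex.exp_add]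
    congr 1
    rw [hz', hτ']
    push_cast
    field_simp
    ring
  have hs1 := (hasSum_jacobiTheta₂_term z' hτ'im)
  have hs2 := (hasSum_jacobiTheta₂_term (z' / τ') hinv)
  refine ⟨?_, ?_, ?_⟩
  · simp_rw [h1]
    exact hs1.summable.mul_left _
  · simp_rw [h2]
    exact hs2.summable.mul_left _
  · simp_rw [h1, h2]
    rw [tsum_mul_left, tsum_mul_left, hs1.tsum_eq, hs2.tsum_eq,
      jacobiTheta₂_functional_equation z' τ']
    have hw : -I * τ ≠ 0 := mul_ne_zero (neg_ne_zero.mpr I_ne_zero) hτne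
    have hpow : (-I * τ') ^ (1 / 2 : ℂ) = (Real.sqrt c : ℂ) * (-I * τ) ^ (1 / 2 : ℂ) := by
      rw [hτ', ← ofReal_mul_cpow_half c hc _ hw]
      congr 1
      ring
    rw [hpow]
    rw [one_div, one_div, one_div, mul_inv]
    ring

end Cfsg.Agent.Lib.Helper26.ThetaA1
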