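import Mathlib

/-!
# A primitive subgroup of the alternating group containing a full Sylow 2-subgroup has order
divisible by 3 (leaf for helper14, S2534-S2538)
-/

set_option autoImplicit false
set_option linter.style.haveILetI false

namespace Cfsg.Agent.Lib.Helper26.HallKlein

open Equiv Equiv.Perm
open scoped Pointwise

section via

variable {ι α : Type*} [DecidableEq ι] [DecidableEq α]

theorem viaEmbedding_swap (ε : ι ↪ α) (i j : ι) :
    viaEmbeddingHom ε (swap i j) = swap (ε i) (ε j) := by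
  ext x
  rw [viaEmbeddingHom_apply]
  by_cases hx : x ∈ Set.range ε
  · obtain ⟨k, rfl⟩ := hx
    rw [viaEmbedding_apply, ε.injective.swap_apply]
  · rw [viaEmbedding_apply_of_notMem _ _ _ hx, swap_apply_of_ne_of_ne]
    · rintro rfl; exact hx ⟨i, rfl⟩
    · rintro rfl; exact hx ⟨j, rfl⟩

omit [DecidableEq ι] [DecidableEq α] in
theorem viaEmbedding_conj (ε : ι ↪ α) (g : Perm α) (σ : Perm ι) :
    g * viaEmbeddingHom ε σ * g⁻¹ = viaEmbeddingHom (ε.trans g.toEmbedding) σ := by
  ext x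
  rw [viaEmbeddingHom_apply, viaEmbeddingHom_apply]
  by_cases hx : x ∈ Set.range (ε.trans g.toEmbedding)
  · obtain ⟨k, rfl⟩ := hx
    rw [viaEmbedding_apply]
    simp only [Perm.coe_mul, Function.comp_apply, Function.Embedding.trans_apply,
      Equiv.coe_toEmbedding, Perm.inv_def, Equiv.symm_apply_apply, viaEmbedding_apply]
  · rw [viaEmbedding_apply_of_notMem _ _ _ hx]
    have hx' : g⁻¹ x ∉ Set.range ε := by
      rintro ⟨k, hk⟩
      apply hx
      refine ⟨k, ?_⟩
      simp only [Function.Embedding.trans_apply, Equiv.coe_toEmbedding, hk, Perm.inv_def,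
        Equiv.apply_symm_apply]
    simp only [Perm.coe_mul, Function.comp_apply]
    rw [viaEmbedding_apply_of_notMem _ _ _ hx', Perm.inv_def, Equiv.apply_symm_apply]

end via

/-- the Klein four-group in `Perm (Fin 4)` -/
def K0 : Subgroup (Perm (Fin 4)) where
  carrier := {σ | σ = 1 ∨ σ = swap 0 1 * swap 2 3 ∨ σ = swap 0 2 * swap 1 3 ∨
    σ = swap 0 3 * swap 1 2}
  one_mem' := Or.inl rfl
  mul_mem' := by
    rintro a b (rfl | rfl | rfl | rfl) (rfl | rfl | rfl | rfl) <;> decide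
  inv_mem' := by
    rintro a (rfl | rfl | rfl | rfl) <;> decide

theorem mem_K0 (σ : Perm (Fin 4)) : σ ∈ K0 ↔ σ = 1 ∨ σ = swap 0 1 * swap 2 3 ∨
    σ = swap 0 2 * swap 1 3 ∨ σ = swap 0 3 * swap 1 2 := Iff.rfl

instance decMemK0 (σ : Perm (Fin 4)) : Decidable (σ ∈ K0) :=
  decidable_of_iff _ (mem_K0 σ).symm

theorem K0_sq (σ : Perm (Fin 4)) (h : σ ∈ K0) : σ ^ 2 = 1 := by
  rcases h with rfl | rfl | rfl | rfl <;> decide

theorem K0_sign (σ : Perm (Fin 4)) (h : σ ∈ K0) : Perm.sign σ = 1 := by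
  rcases h with rfl | rfl | rfl | rfl <;> decide

theorem K0_isPGroup : IsPGroup 2 K0 := by
  intro g
  refine ⟨1, ?_⟩
  apply Subtype.ext
  rw [pow_one, Subgroup.coe_pow, K0_sq _ g.2]
  rfl

theorem swap_mul_swap_mem_K0 : ∀ (i j k l : Fin 4), [i, j, k, l].Nodup →
    swap i j * swap k l ∈ K0 := by decide

section V

variable {α : Type*}

/-- the copy of the Klein four-group supported on the image of `ε` -/
noncomputable def V (ε : Fin 4 ↪ α) : Subgroup (Perm α) := K0.map (viaEmbeddingHom ε)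

theorem V_isPGroup (ε : Fin 4 ↪ α) : IsPGroup 2 (V ε) := K0_isPGroup.map _

theorem V_conj (ε : Fin 4 ↪ α) (g : Perm α) (x : Perm α) (hx : x ∈ V ε) :
    g * x * g⁻¹ ∈ V (ε.trans g.toEmbedding) := by
  obtain ⟨σ, hσ, rfl⟩ := hx
  exact ⟨σ, hσ, (viaEmbedding_conj ε g σ).symm⟩

theorem V_conj' (ε : Fin 4 ↪ α) (g : Perm α) (x : Perm α) (hx : x ∈ V (ε.trans g.toEmbedding)) :
    ∃ y ∈ V ε, x = g * y * g⁻¹ := by
  obtain ⟨σ, hσ, rfl⟩ := hx
  exact ⟨viaEmbeddingHom ε σ, ⟨σ, hσ, rfl⟩, (viaEmbedding_conj ε g σ).symm⟩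

variable [DecidableEq α]

theorem swap_mul_swap_mem_V (ε : Fin 4 ↪ α) (i j k l : Fin 4) (h : [i, j, k, l].Nodup) :
    swap (ε i) (ε j) * swap (ε k) (ε l) ∈ V ε := by
  refine ⟨swap i j * swap k l, swap_mul_swap_mem_K0 i j k l h, ?_⟩
  rw [map_mul, viaEmbedding_swap, viaEmbedding_swap]

theorem swap_mul_swap_mem_V' (ε : Fin 4 ↪ α) (x y z w : α) (hx : x ∈ Set.range ε)
    (hy : y ∈ Set.range ε) (hz : z ∈ Set.range ε) (hw : w ∈ Set.range ε)
    (h : [x, y, z, w].Nodup) : swap x y * swap z w ∈ V ε := by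
  obtain ⟨i, rfl⟩ := hx
  obtain ⟨j, rfl⟩ := hy
  obtain ⟨k, rfl⟩ := hz
  obtain ⟨l, rfl⟩ := hw
  apply swap_mul_swap_mem_V
  have : [ε i, ε j, ε k, ε l] = [i, j, k, l].map ε := rfl
  rw [this] at h
  exact List.Nodup.of_map _ h

theorem V_le_alt [Fintype α] (ε : Fin 4 ↪ α) : V ε ≤ alternatingGroup α := by
  rintro x ⟨σ, hσ, rfl⟩
  rw [Equiv.Perm.mem_alternatingGroup]
  have h01 : ε 0 ≠ ε 1 := ε.injective.ne (by decide)
  have h02 : ε 0 ≠ ε 2 := ε.injective.ne (by decide)
  have h03 : ε 0 ≠ ε 3 := ε.injective.ne (by decide)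
  have h12 : ε 1 ≠ ε 2 := ε.injective.ne (by decide)
  have h13 : ε 1 ≠ ε 3 := ε.injective.ne (by decide)
  have h23 : ε 2 ≠ ε 3 := ε.injective.ne (by decide)
  rcases hσ with rfl | rfl | rfl | rfl
  · simp
  · rw [map_mul, viaEmbedding_swap, viaEmbedding_swap, map_mul, sign_swap h01, sign_swap h23]
    rfl
  · rw [map_mul, viaEmbedding_swap, viaEmbedding_swap, map_mul, sign_swap h02, sign_swap h13]
    rfl
  · rw [map_mul, viaEmbedding_swap, viaEmbedding_swap, map_mul, sign_swap h03, sign_swap h12]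
    rfl

end V

section sylow

variable {α : Type*} [Fintype α] [DecidableEq α]

theorem exists_conj_le [Nontrivial α] {H : Subgroup (Perm α)} (hH : H ≤ alternatingGroup α)
    (h2 : 2 ^ ((Fintype.card α).factorial.factorization 2) ∣ 2 * Nat.card H)
    (K : Subgroup (Perm α)) (hK : IsPGroup 2 K) (hKA : K ≤ alternatingGroup α) :
    ∃ g : Perm α, ∀ k ∈ K, g * k * g⁻¹ ∈ H := by
  haveI : Fact (Nat.Prime 2) := ⟨Nat.prime_two⟩
  obtain ⟨P⟩ : Nonempty (Sylow 2 H) := inferInstance
  have hPc : Nat.card P = 2 ^ (Nat.card H).factorization 2 := P.card_eq_multiplicity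
  have hHpos : Nat.card H ≠ 0 := Nat.card_pos.ne'
  have hab : (Fintype.card α).factorial.factorization 2 ≤ 1 + (Nat.card H).factorization 2 := by
    have := (Nat.Prime.pow_dvd_iff_le_factorization Nat.prime_two
      (mul_ne_zero two_ne_zero hHpos)).mp h2
    rw [Nat.factorization_mul two_ne_zero hHpos, Finsupp.add_apply,
      Nat.Prime.factorization_self Nat.prime_two] at this
    exact this
  -- the image of P in Perm α
  have hP₁c : Nat.card ((P : Subgroup H).map H.subtype) = 2 ^ (Nat.card H).factorization 2 := by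
    rw [Subgroup.card_map_of_injective H.subtype_injective]
    exact hPc
  have hP₁p : IsPGroup 2 ((P : Subgroup H).map H.subtype) := P.2.map _
  obtain ⟨T, hT⟩ := hP₁p.exists_le_sylow
  have hTc : Nat.card T = 2 ^ (Fintype.card α).factorial.factorization 2 := by
    rw [T.card_eq_multiplicity, Nat.card_eq_fintype_card, Fintype.card_perm]
  have hP₁H : (P : Subgroup H).map H.subtype ≤ H := by
    rintro x ⟨y, -, rfl⟩
    exact y.2
  have hle : (P : Subgroup H).map H.subtype ≤ (T : Subgroup (Perm α)) ⊓ alternatingGroup α :=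
    le_inf hT (hP₁H.trans hH)
  have hcard : Nat.card ((T : Subgroup (Perm α)) ⊓ alternatingGroup α : Subgroup (Perm α)) ≤
      Nat.card ((P : Subgroup H).map H.subtype) := by
    have h1 : Nat.card ((T : Subgroup (Perm α)) ⊓ alternatingGroup α : Subgroup (Perm α)) ∣
        2 ^ (Fintype.card α).factorial.factorization 2 := by
      rw [← hTc]
      exact Subgroup.card_dvd_of_le inf_le_left
    obtain ⟨c, hc, hc'⟩ := (Nat.dvd_prime_pow Nat.prime_two).mp h1
    have h3 : Nat.card ((T : Subgroup (Perm α)) ⊓ alternatingGroup α : Subgroup (Perm α)) ∣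
        Nat.card (alternatingGroup α) := Subgroup.card_dvd_of_le inf_le_right
    have h4 : 2 * Nat.card (alternatingGroup α) = (Fintype.card α).factorial := by
      rw [Nat.card_eq_fintype_card, two_mul_card_alternatingGroup, Fintype.card_perm]
    have h5 : 2 ^ (c + 1) ∣ (Fintype.card α).factorial := by
      rw [← h4, pow_succ, mul_comm]
      exact Nat.mul_dvd_mul_left 2 (hc' ▸ h3)
    have h6 := (Nat.Prime.pow_dvd_iff_le_factorization Nat.prime_two
      (Nat.factorial_ne_zero _)).mp h5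
    rw [hc', hP₁c]
    exact Nat.pow_le_pow_right (by norm_num) (by omega)
  have heq : (P : Subgroup H).map H.subtype = (T : Subgroup (Perm α)) ⊓ alternatingGroup α :=
    Subgroup.eq_of_le_of_card_ge hle hcard
  obtain ⟨T', hT'⟩ := hK.exists_le_sylow
  obtain ⟨g, hg⟩ := MulAction.exists_smul_eq (Perm α) T' T
  refine ⟨g, fun k hk => ?_⟩
  apply hP₁H
  rw [heq]
  refine ⟨?_, ?_⟩
  · have : g * k * g⁻¹ ∈ ((g • T' : Sylow 2 (Perm α)) : Subgroup (Perm α)) := by
      rw [Sylow.coe_subgroup_smul]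
      exact Subgroup.smul_mem_pointwise_smul _ _ _ (hT' hk)
    rw [hg] at this
    exact this
  · exact (inferInstance : (alternatingGroup α).Normal).conj_mem _ (hKA hk) g

end sylow

section main

variable {α : Type*} [DecidableEq α]

omit [DecidableEq α] in
theorem model_order_three {m : ℕ} (δ : Fin m ↪ α) (y₀ : Perm (Fin m)) (h3 : y₀ ^ 3 = 1)
    (h1 : y₀ ≠ 1) : (viaEmbeddingHom δ y₀) ^ 3 = 1 ∧ viaEmbeddingHom δ y₀ ≠ 1 := by
  refine ⟨by rw [← map_pow, h3, map_one], fun h => h1 ?_⟩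
  exact viaEmbeddingHom_injective δ (by rw [h, map_one])

theorem case3 {a b c d e : α} (h : [a, b, c, d, e].Nodup) :
    (swap a b * swap c d * (swap a b * swap c e)) ^ 3 = 1 ∧
      swap a b * swap c d * (swap a b * swap c e) ≠ 1 := by
  have hinj : Function.Injective ![a, b, c, d, e] := List.nodup_ofFn.mp (by simpa using h)
  have key : swap a b * swap c d * (swap a b * swap c e) =
      viaEmbeddingHom ⟨![a, b, c, d, e], hinj⟩ (swap 0 1 * swap 2 3 * (swap 0 1 * swap 2 4)) := by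
    simp only [map_mul, viaEmbedding_swap]
    rfl
  rw [key]
  exact model_order_three _ _ (by decide) (by decide)

theorem case2 {a b c d e f : α} (h : [a, b, c, d, e, f].Nodup) :
    (swap a c * swap b d * (swap a e * swap b f)) ^ 3 = 1 ∧
      swap a c * swap b d * (swap a e * swap b f) ≠ 1 := by
  have hinj : Function.Injective ![a, b, c, d, e, f] := List.nodup_ofFn.mp (by simpa using h)
  have key : swap a c * swap b d * (swap a e * swap b f) =
      viaEmbeddingHom ⟨![a, b, c, d, e, f], hinj⟩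
        (swap 0 2 * swap 1 3 * (swap 0 4 * swap 1 5)) := by
    simp only [map_mul, viaEmbedding_swap]
    rfl
  rw [key]
  exact model_order_three _ _ (by decide) (by decide)

set_option maxRecDepth 8000 in
theorem case1 {a b c d e f g : α} (h : [a, b, c, d, e, f, g].Nodup) :
    ((swap a b * swap c d * (swap a e * swap f g)) * (swap a b * swap c d * (swap a e * swap f g))) ^ 3 = 1 ∧
      (swap a b * swap c d * (swap a e * swap f g)) * (swap a b * swap c d * (swap a e * swap f g)) ≠ 1 := by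
  have hinj : Function.Injective ![a, b, c, d, e, f, g] := List.nodup_ofFn.mp (by simpa using h)
  have key : (swap a b * swap c d * (swap a e * swap f g)) * (swap a b * swap c d * (swap a e * swap f g)) =
      viaEmbeddingHom ⟨![a, b, c, d, e, f, g], hinj⟩
        ((swap 0 1 * swap 2 3 * (swap 0 4 * swap 5 6)) * (swap 0 1 * swap 2 3 * (swap 0 4 * swap 5 6))) := by
    simp only [map_mul, viaEmbedding_swap]
    rfl
  rw [key]
  exact model_order_three _ _ (by decide) (by decide)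

theorem exists_order_three [Fintype α] (H : Subgroup (Perm α)) (ε ε' : Fin 4 ↪ α)
    (h1 : V ε ≤ H) (h2 : V ε' ≤ H)
    (hne : Set.range ε ≠ Set.range ε') (hnd : (Set.range ε ∩ Set.range ε').Nonempty) :
    ∃ y ∈ H, y ^ 3 = 1 ∧ y ≠ 1 := by
  classical
  obtain ⟨R, hR⟩ : ∃ R : Finset α, ∀ x, x ∈ R ↔ x ∈ Set.range ε :=
    ⟨Finset.univ.map ε, fun x => by simp⟩
  obtain ⟨R', hR'⟩ : ∃ R' : Finset α, ∀ x, x ∈ R' ↔ x ∈ Set.range ε' :=
    ⟨Finset.univ.map ε', fun x => by simp⟩
  have hRc : R.card = 4 := by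
    have : R = Finset.univ.map ε := by ext x; rw [hR]; simp
    rw [this]; simp
  have hR'c : R'.card = 4 := by
    have : R' = Finset.univ.map ε' := by ext x; rw [hR']; simp
    rw [this]; simp
  have hRne : R ≠ R' := by
    intro h; apply hne; ext x; rw [← hR, ← hR', h]
  have hI : 0 < (R ∩ R').card := by
    obtain ⟨x, hx1, hx2⟩ := hnd
    exact Finset.card_pos.mpr ⟨x, Finset.mem_inter.mpr ⟨(hR x).mpr hx1, (hR' x).mpr hx2⟩⟩
  have hs1 : (R \ R').card + (R ∩ R').card = 4 := by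
    rw [Finset.card_sdiff_add_card_inter, hRc]
  have hs2 : (R' \ R).card + (R ∩ R').card = 4 := by
    rw [Finset.inter_comm, Finset.card_sdiff_add_card_inter, hR'c]
  have hI4 : (R ∩ R').card ≠ 4 := by
    intro h
    have e1 : R ∩ R' = R :=
      Finset.eq_of_subset_of_card_le Finset.inter_subset_left (by rw [h, hRc])
    have e2 : R ∩ R' = R' :=
      Finset.eq_of_subset_of_card_le Finset.inter_subset_right (by rw [h, hR'c])
    exact hRne (e1.symm.trans e2)
  have mem1 : ∀ x y z w, x ∈ R → y ∈ R → z ∈ R → w ∈ R → [x, y, z, w].Nodup →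
      swap x y * swap z w ∈ H := fun x y z w hx hy hz hw hn =>
    h1 (swap_mul_swap_mem_V' ε x y z w ((hR x).mp hx) ((hR y).mp hy) ((hR z).mp hz)
      ((hR w).mp hw) hn)
  have mem2 : ∀ x y z w, x ∈ R' → y ∈ R' → z ∈ R' → w ∈ R' → [x, y, z, w].Nodup →
      swap x y * swap z w ∈ H := fun x y z w hx hy hz hw hn =>
    h2 (swap_mul_swap_mem_V' ε' x y z w ((hR' x).mp hx) ((hR' y).mp hy) ((hR' z).mp hz)
      ((hR' w).mp hw) hn)
  have hc : (R ∩ R').card = 1 ∨ (R ∩ R').card = 2 ∨ (R ∩ R').card = 3 := by omega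
  rcases hc with hc | hc | hc
  · -- one common point
    obtain ⟨a, ha⟩ := Finset.card_pos.mp hI
    obtain ⟨b, hb, c, hc', d, hd, hbc, hbd, hcd⟩ :=
      Finset.two_lt_card.mp (by omega : 2 < (R \ R').card)
    obtain ⟨e, he, f, hf, g, hg, hef, heg, hfg⟩ :=
      Finset.two_lt_card.mp (by omega : 2 < (R' \ R).card)
    rw [Finset.mem_inter] at ha
    rw [Finset.mem_sdiff] at hb hc' hd he hf hg
    have hab : a ≠ b := ne_of_mem_of_not_mem ha.2 hb.2
    have hac : a ≠ c := ne_of_mem_of_not_mem ha.2 hc'.2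
    have had : a ≠ d := ne_of_mem_of_not_mem ha.2 hd.2
    have hae : a ≠ e := ne_of_mem_of_not_mem ha.1 he.2
    have haf : a ≠ f := ne_of_mem_of_not_mem ha.1 hf.2
    have hag : a ≠ g := ne_of_mem_of_not_mem ha.1 hg.2
    have hbe : b ≠ e := ne_of_mem_of_not_mem hb.1 he.2
    have hbf : b ≠ f := ne_of_mem_of_not_mem hb.1 hf.2
    have hbg : b ≠ g := ne_of_mem_of_not_mem hb.1 hg.2
    have hce : c ≠ e := ne_of_mem_of_not_mem hc'.1 he.2
    have hcf : c ≠ f := ne_of_mem_of_not_mem hc'.1 hf.2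
    have hcg : c ≠ g := ne_of_mem_of_not_mem hc'.1 hg.2
    have hde : d ≠ e := ne_of_mem_of_not_mem hd.1 he.2
    have hdf : d ≠ f := ne_of_mem_of_not_mem hd.1 hf.2
    have hdg : d ≠ g := ne_of_mem_of_not_mem hd.1 hg.2
    have hs : swap a b * swap c d ∈ H := mem1 a b c d ha.1 hb.1 hc'.1 hd.1 (by simp [*])
    have ht : swap a e * swap f g ∈ H := mem2 a e f g ha.2 he.1 hf.1 hg.1 (by simp [*])
    have hx := H.mul_mem hs ht
    exact ⟨_, H.mul_mem hx hx, case1 (a := a) (b := b) (c := c) (d := d) (e := e) (f := f)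
      (g := g) (by simp [*])⟩
  · -- two common points
    obtain ⟨a, ha, b, hb, hab⟩ := Finset.one_lt_card.mp (by omega : 1 < (R ∩ R').card)
    obtain ⟨c, hc', d, hd, hcd⟩ := Finset.one_lt_card.mp (by omega : 1 < (R \ R').card)
    obtain ⟨e, he, f, hf, hef⟩ := Finset.one_lt_card.mp (by omega : 1 < (R' \ R).card)
    rw [Finset.mem_inter] at ha hb
    rw [Finset.mem_sdiff] at hc' hd he hf
    have hac : a ≠ c := ne_of_mem_of_not_mem ha.2 hc'.2
    have had : a ≠ d := ne_of_mem_of_not_mem ha.2 hd.2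
    have hae : a ≠ e := ne_of_mem_of_not_mem ha.1 he.2
    have haf : a ≠ f := ne_of_mem_of_not_mem ha.1 hf.2
    have hbc : b ≠ c := ne_of_mem_of_not_mem hb.2 hc'.2
    have hbd : b ≠ d := ne_of_mem_of_not_mem hb.2 hd.2
    have hbe : b ≠ e := ne_of_mem_of_not_mem hb.1 he.2
    have hbf : b ≠ f := ne_of_mem_of_not_mem hb.1 hf.2
    have hce : c ≠ e := ne_of_mem_of_not_mem hc'.1 he.2
    have hcf : c ≠ f := ne_of_mem_of_not_mem hc'.1 hf.2
    have hde : d ≠ e := ne_of_mem_of_not_mem hd.1 he.2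
    have hdf : d ≠ f := ne_of_mem_of_not_mem hd.1 hf.2
    have hs : swap a c * swap b d ∈ H := mem1 a c b d ha.1 hc'.1 hb.1 hd.1 (by simp [*, hbc.symm])
    have ht : swap a e * swap b f ∈ H := mem2 a e b f ha.2 he.1 hb.2 hf.1 (by simp [*, hbe.symm])
    exact ⟨_, H.mul_mem hs ht, case2 (a := a) (b := b) (c := c) (d := d) (e := e) (f := f)
      (by simp [*])⟩
  · -- three common points
    obtain ⟨a, ha, b, hb, c, hc', hab, hac, hbc⟩ :=
      Finset.two_lt_card.mp (by omega : 2 < (R ∩ R').card)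
    obtain ⟨d, hd⟩ := Finset.card_pos.mp (by omega : 0 < (R \ R').card)
    obtain ⟨e, he⟩ := Finset.card_pos.mp (by omega : 0 < (R' \ R).card)
    rw [Finset.mem_inter] at ha hb hc'
    rw [Finset.mem_sdiff] at hd he
    have had : a ≠ d := ne_of_mem_of_not_mem ha.2 hd.2
    have hae : a ≠ e := ne_of_mem_of_not_mem ha.1 he.2
    have hbd : b ≠ d := ne_of_mem_of_not_mem hb.2 hd.2
    have hbe : b ≠ e := ne_of_mem_of_not_mem hb.1 he.2
    have hcd : c ≠ d := ne_of_mem_of_not_mem hc'.2 hd.2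
    have hce : c ≠ e := ne_of_mem_of_not_mem hc'.1 he.2
    have hde : d ≠ e := ne_of_mem_of_not_mem hd.1 he.2
    have hs : swap a b * swap c d ∈ H := mem1 a b c d ha.1 hb.1 hc'.1 hd.1 (by simp [*])
    have ht : swap a b * swap c e ∈ H := mem2 a b c e ha.2 hb.2 hc'.2 he.1 (by simp [*])
    exact ⟨_, H.mul_mem hs ht, case3 (a := a) (b := b) (c := c) (d := d) (e := e)
      (by simp [*])⟩

end main

theorem three_dvd_of_prim_alt {α : Type*} [Fintype α] [DecidableEq α]
    {H : Subgroup (Equiv.Perm α)}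
    (hH : H ≤ alternatingGroup α) (hprim : MulAction.IsPreprimitive H α)
    (hn : 5 ≤ Fintype.card α)
    (h2 : 2 ^ ((Fintype.card α).factorial.factorization 2) ∣ 2 * Nat.card H) :
    3 ∣ Nat.card H := by
  haveI : Nontrivial α := Fintype.one_lt_card_iff_nontrivial.mp (by omega)
  obtain ⟨ε₀⟩ : Nonempty (Fin 4 ↪ α) :=
    Function.Embedding.nonempty_of_card_le (by rw [Fintype.card_fin]; omega)
  obtain ⟨g, hg⟩ := exists_conj_le hH h2 (V ε₀) (V_isPGroup ε₀) (V_le_alt ε₀)
  obtain ⟨ε, hε⟩ : ∃ ε : Fin 4 ↪ α, V ε ≤ H := by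
    refine ⟨ε₀.trans g.toEmbedding, fun x hx => ?_⟩
    obtain ⟨y, hy, rfl⟩ := V_conj' ε₀ g x hx
    exact hg y hy
  have hB : ¬ MulAction.IsBlock H (Set.range ε) := by
    intro hblock
    rcases hprim.isTrivialBlock_of_isBlock hblock with h | h
    · exact (ε.injective.ne (by decide : (0 : Fin 4) ≠ 1)) (h ⟨0, rfl⟩ ⟨1, rfl⟩)
    · have : Fintype.card α ≤ 4 := by
        have hsurj : Function.Surjective ε := Set.range_eq_univ.mp h
        simpa using Fintype.card_le_of_surjective ε hsurj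
      omega
  rw [MulAction.isBlock_iff_smul_eq_of_nonempty] at hB
  push Not at hB
  obtain ⟨h, hne1, hne2⟩ := hB
  have hrange : h • Set.range ε = Set.range (ε.trans (h : Perm α).toEmbedding) := by
    ext x
    constructor
    · rintro ⟨_, ⟨i, rfl⟩, rfl⟩
      exact ⟨i, rfl⟩
    · rintro ⟨i, rfl⟩
      exact ⟨ε i, ⟨i, rfl⟩, rfl⟩
  have hε' : V (ε.trans (h : Perm α).toEmbedding) ≤ H := by
    intro x hx
    obtain ⟨y, hy, rfl⟩ := V_conj' ε (h : Perm α) x hx
    exact H.mul_mem (H.mul_mem h.2 (hε hy)) (H.inv_mem h.2)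
  rw [hrange] at hne1 hne2
  obtain ⟨y, hyH, hy3, hy1⟩ :=
    exists_order_three H (ε.trans (h : Perm α).toEmbedding) ε hε' hε hne2 hne1
  have : orderOf (⟨y, hyH⟩ : H) = 3 :=
    orderOf_eq_prime (Subtype.ext hy3) (fun h => hy1 (congrArg Subtype.val h))
  rw [← this]
  exact orderOf_dvd_natCard _

end Cfsg.Agent.Lib.Helper26.HallKlein
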