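import Mathlib
import Cfsg.Prelude.Def_Classical
import Cfsg.Agent.Lib.Helper27.OPMinDefs

/-!
# S2344 (minimal degree of `Ω_{2n+1}(q)`, `q` odd): definitions (planner: helper26)

* `SiegelB F n H` : the *odd Siegel datum* of a group `H`.  It EXTENDS helper27's `Siegel F n H`
  (`rad R` = the centre `Z ≅ Alt_n(F)` of the Siegel radical `Q`, `levi`, `tor`, `w`; all abstract S2345
  leaves apply verbatim to `D.toSiegel`) by
  - `sho c` (`c : Fin n → F`): the short root part of `Q`, `Q = {sho c * rad R}`, with the Heisenberg relation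
    `sho c * sho c' = sho (c + c') * rad (vecMulVec c' c)`;
  - `ns a`: the Weyl element of the short root `ε_a` (`e_a ↦ -f_a`, `f_a ↦ -e_a`, `x₀ ↦ -x₀`);
    the negative short root group is `X_{-ε_a}(t) = (ns a)⁻¹ * sho (Pi.single a t) * ns a`.
* the concrete matrices on `Unit ⊕ (Fin n ⊕ Fin n)` (form `x₀² + Σ xᵢ yᵢ`, columns `(x₀ | x | y)`):
  `embO A = 1 ⊕ A`, `shoMat c = [[1,0,-cᵀ],[2c,1,-c cᵀ],[0,0,1]]`, `nsMat a`, `radMatO`, `leviMatO`, `wMatO`.
* the number `bO q n = (q^(2n) - 1)/(q² - 1)`; `Nn q n = (q^n - 1)/(q - 1)`.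
All relations were checked numerically (`p = 11`, `n = 3, 4`).
-/

set_option autoImplicit false
set_option linter.unusedSectionVars false

namespace Cfsg.Agent.Lib.Helper26.OOMin

open Matrix Cfsg.Agent.Lib.Helper27.OPMin

/-- The odd Siegel datum of a group `H` (see the header). -/
structure SiegelB (F : Type*) [Field F] (n : ℕ) (H : Type*) [Group H] extends Siegel F n H where
  /-- `[[1,0,-cᵀ],[2c,1,-c cᵀ],[0,0,1]]` -/
  sho : (Fin n → F) → H
  /-- the Weyl element of the short root `ε_a` -/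
  ns : Fin n → H
  sho_mul : ∀ c c' : Fin n → F, sho c * sho c' = sho (c + c') * rad (vecMulVec c' c)
  rad_sho : ∀ (R : Matrix (Fin n) (Fin n) F) (c : Fin n → F), rad R * sho c = sho c * rad R
  levi_sho : ∀ (g : SpecialLinearGroup (Fin n) F) (c : Fin n → F),
    levi g * sho c * (levi g)⁻¹ = sho ((g : Matrix (Fin n) (Fin n) F) *ᵥ c)
  tor_sho : ∀ (a : Fin n) (s : Fˣ) (c : Fin n → F),
    tor a s * sho c * (tor a s)⁻¹ = sho (dsq a s *ᵥ c)
  w_sho_comm : ∀ (a b : Fin n) (c : Fin n → F), c a = 0 → c b = 0 → w a b * sho c = sho c * w a b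
  ns_rad_comm : ∀ (a : Fin n) (R : Matrix (Fin n) (Fin n) F),
    (∀ i j, R i j ≠ 0 → i ≠ a ∧ j ≠ a) → ns a * rad R = rad R * ns a
  ns_rad_single : ∀ (a i : Fin n) (hia : i ≠ a) (t : F),
    ns a * rad (Matrix.single i a t) * (ns a)⁻¹ = levi (SpecialLinearGroup.transvection hia (-t))
  ns_levi_transvection : ∀ (a i : Fin n) (hia : i ≠ a) (t : F),
    ns a * levi (SpecialLinearGroup.transvection hia t) * (ns a)⁻¹ = rad (Matrix.single i a (-t))
  ns_sho : ∀ (a : Fin n) (c : Fin n → F), c a = 0 → ns a * sho c * (ns a)⁻¹ = sho (-c)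

namespace SiegelB

variable {F : Type*} [Field F] {n : ℕ} {H : Type*} [Group H]

/-- the negative short root element `x_{-ε_a}(t)` -/
def xm (D : SiegelB F n H) (a : Fin n) (t : F) : H := (D.ns a)⁻¹ * D.sho (Pi.single a t) * D.ns a

theorem sho_zero (D : SiegelB F n H) : D.sho 0 = 1 := by
  have h := D.sho_mul 0 0
  have h0 : vecMulVec (0 : Fin n → F) (0 : Fin n → F) = 0 := by
    ext i j
    simp [vecMulVec_apply]
  rw [h0, D.toSiegel.rad_zero, mul_one, add_zero] at h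
  exact mul_left_cancel (a := D.sho 0) (by rw [h, mul_one])

end SiegelB

section numbers

/-- the bound `(q^(2n) - 1)/(q^2 - 1)` of S2344 -/
def bO (q n : ℕ) : ℕ := (q ^ (2 * n) - 1) / (q ^ 2 - 1)

/-- `(q^n - 1)/(q - 1)`, the number of points of `PG(n-1, q)`; `Nn q n = tgt q n + 1` -/
def Nn (q n : ℕ) : ℕ := (q ^ n - 1) / (q - 1)

end numbers

section concrete

variable {F : Type*} [Field F] {n : ℕ}

/-- the index type of the odd form -/
abbrev IO (n : ℕ) := Unit ⊕ (Fin n ⊕ Fin n)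

/-- `1 ⊕ A`: the embedding `O⁺_{2n} → O_{2n+1}` -/
def embO (A : Matrix (Fin n ⊕ Fin n) (Fin n ⊕ Fin n) F) : Matrix (IO n) (IO n) F :=
  fromBlocks 1 0 0 A

/-- `radMatO R = 1 ⊕ [[1, R - Rᵀ],[0, 1]]` -/
def radMatO (R : Matrix (Fin n) (Fin n) F) : Matrix (IO n) (IO n) F := embO (radMat R)

/-- `leviMatO g = 1 ⊕ [[g, 0],[0, g⁻ᵀ]]` -/
noncomputable def leviMatO (g : Matrix (Fin n) (Fin n) F) : Matrix (IO n) (IO n) F :=
  embO (leviMat g)

/-- the double swap `e_a ↔ f_a`, `e_b ↔ f_b` -/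
def wMatO (a b : Fin n) : Matrix (IO n) (IO n) F := embO (swapMat a * swapMat b)

/-- `[[1,0,-cᵀ],[2c,1,-c cᵀ],[0,0,1]]` in block order `(x₀ | x | y)` -/
def shoMat (c : Fin n → F) : Matrix (IO n) (IO n) F :=
  fromBlocks 1 (Matrix.of fun _ j => Sum.elim (0 : Fin n → F) (-c) j)
    (Matrix.of fun i _ => Sum.elim ((2 : F) • c) (0 : Fin n → F) i)
    (fromBlocks 1 (-(vecMulVec c c)) 0 1)

/-- the Weyl element of the short root `ε_a`: `e_a ↦ -f_a`, `f_a ↦ -e_a`, `x₀ ↦ -x₀` -/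
def nsMat (a : Fin n) : Matrix (IO n) (IO n) F :=
  fromBlocks (-1) 0 0
    (fromBlocks (1 - Matrix.single a a 1) (-(Matrix.single a a 1)) (-(Matrix.single a a 1))
      (1 - Matrix.single a a 1))

/-- the matrix of an element of `Ω_{2n+1}(F)` -/
def omMatO (x : ↥(Cfsg.Omega F (Cfsg.quadFormOdd n F))) : Matrix (IO n) (IO n) F :=
  ((x : ↥(Cfsg.isometryGroup F (Cfsg.quadFormOdd n F))) : GL (IO n) F)

end concrete

end Cfsg.Agent.Lib.Helper26.OOMin
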