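import Cfsg.Agent.Lib.Helper26.OOMinDefs
import Cfsg.Agent.Lib.Helper27.OPMinStageDefs

/-!
# S2344: the fixed space of a short root group (planner: helper26)

`shoFix D ρ i` = the vectors fixed by the short root group `sho (F e_i)` of the odd Siegel datum.
For a weight `v` of the centre `Z = rad` of the Siegel radical with `v (i, j) ≠ 0` the Heisenberg
relation makes `wt ρ D.radv v ⊓ shoFix D ρ i` a `1/q`-th of `wt ρ D.radv v`.
-/

set_option autoImplicit false
set_option linter.unusedSectionVars false

namespace Cfsg.Agent.Lib.Helper26.OOMin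

open Matrix Cfsg.Agent.Lib.Helper27.OPMin

variable {F : Type*} [Field F] {n : ℕ} {H : Type*} [Group H] {M : Type*} [AddCommGroup M]
  [Module ℂ M]

/-- the fixed space of the short root group `sho (F e_i)` -/
def shoFix (D : SiegelB F n H) (ρ : Representation ℂ H M) (i : Fin n) : Submodule ℂ M where
  carrier := {m | ∀ s : F, ρ (D.sho (Pi.single i s)) m = m}
  add_mem' := by
    intro x y hx hy s
    rw [map_add, hx s, hy s]
  zero_mem' := by
    intro s
    rw [map_zero]
  smul_mem' := by
    intro c x hx s
    rw [map_smul, hx s]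

theorem mem_shoFix {D : SiegelB F n H} {ρ : Representation ℂ H M} {i : Fin n} {m : M} :
    m ∈ shoFix D ρ i ↔ ∀ s : F, ρ (D.sho (Pi.single i s)) m = m := Iff.rfl

end Cfsg.Agent.Lib.Helper26.OOMin
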