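import Mathlib
import Cfsg.Prelude.Def_CaseTheorems
import Cfsg.Prelude.Def_Transfer

/-!
# S2752 (market "SF"): automorphisms of a quasisimple group modulo its centre (generic tools)
-/

set_option autoImplicit false

namespace Cfsg.Agent.Lib.Helper26.SFAut

open Subgroup

section
variable {Q : Type*} [Group Q]

/-- the automorphism of `Q/Z(Q)` induced by `β` -/
noncomputable def barAut (β : MulAut Q) : MulAut (Q ⧸ center Q) :=
  QuotientGroup.congr (center Q) (center Q) β
    (Subgroup.characteristic_iff_map_eq.mp inferInstance β)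

theorem barAut_mk (β : MulAut Q) (x : Q) :
    barAut β (x : Q ⧸ center Q) = ((β x : Q) : Q ⧸ center Q) :=
  QuotientGroup.congr_mk _ _ _ _ x

variable {S : Type*} [Group S]

/-- the automorphism of `S ≅ Q/Z(Q)` induced by `β` -/
noncomputable def trAut (e : Q ⧸ center Q ≃* S) (β : MulAut Q) : MulAut S :=
  e.symm.trans ((barAut β).trans e)

theorem trAut_apply (e : Q ⧸ center Q ≃* S) (β : MulAut Q) (s : S) :
    trAut e β s = e (barAut β (e.symm s)) := rfl

theorem trAut_apply_mk (e : Q ⧸ center Q ≃* S) (β : MulAut Q) (x : Q) :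
    trAut e β (e (x : Q ⧸ center Q)) = e ((β x : Q) : Q ⧸ center Q) := by
  rw [trAut_apply, MulEquiv.symm_apply_apply, barAut_mk]

theorem trAut_mul (e : Q ⧸ center Q ≃* S) (β β' : MulAut Q) :
    trAut e (β * β') = trAut e β * trAut e β' := by
  ext s
  obtain ⟨q, rfl⟩ := e.surjective s
  induction q using QuotientGroup.induction_on with
  | H x =>
    rw [trAut_apply_mk, MulAut.mul_apply, MulAut.mul_apply, trAut_apply_mk, trAut_apply_mk]

theorem trAut_one (e : Q ⧸ center Q ≃* S) : trAut e (1 : MulAut Q) = 1 := by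
  ext s
  obtain ⟨q, rfl⟩ := e.surjective s
  induction q using QuotientGroup.induction_on with
  | H x =>
    rw [trAut_apply_mk, MulAut.one_apply, MulAut.one_apply]

theorem trAut_conj (e : Q ⧸ center Q ≃* S) (t : Q) :
    trAut e (MulAut.conj t) = MulAut.conj (e (t : Q ⧸ center Q)) := by
  ext s
  obtain ⟨q, rfl⟩ := e.surjective s
  induction q using QuotientGroup.induction_on with
  | H x =>
    rw [trAut_apply_mk, MulAut.conj_apply, MulAut.conj_apply, ← map_inv, ← map_mul, ← map_mul]
    rfl

/-- `trAut e β = 1` means `β` is trivial modulo the centre. -/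
theorem mem_center_of_trAut_eq_one (e : Q ⧸ center Q ≃* S) (β : MulAut Q) (h : trAut e β = 1)
    (x : Q) : x⁻¹ * β x ∈ center Q := by
  have h1 := trAut_apply_mk e β x
  rw [h, MulAut.one_apply] at h1
  have h2 := e.injective h1
  rw [← QuotientGroup.eq_one_iff (N := center Q), QuotientGroup.mk_mul, QuotientGroup.mk_inv, ← h2]
  exact inv_mul_cancel _

end

section quasi
variable {Q : Type*} [Group Q] [Finite Q]

/-- the central quotient of a quasisimple group has trivial centre -/
theorem center_quot_eq_bot (hQ : Cfsg.IsQuasisimple Q) : center (Q ⧸ center Q) = ⊥ := by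
  have := hQ.2
  rcases IsSimpleGroup.eq_bot_or_eq_top_of_normal (center (Q ⧸ center Q)) inferInstance with h | h
  · exact h
  · exfalso
    -- `Q/Z` commutative, so `Q' ≤ Z`, so `Z = Q`
    have hcomm : ∀ a b : Q ⧸ center Q, a * b = b * a := by
      intro a b
      have hb : b ∈ center (Q ⧸ center Q) := by rw [h]; exact Subgroup.mem_top _
      exact Subgroup.mem_center_iff.mp hb a
    have hle : commutator Q ≤ center Q := by
      rw [_root_.commutator_def, Subgroup.commutator_le]
      intro x _ y _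
      rw [← QuotientGroup.eq_one_iff (N := center Q)]
      rw [commutatorElement_def, QuotientGroup.mk_mul, QuotientGroup.mk_mul, QuotientGroup.mk_mul,
        QuotientGroup.mk_inv, QuotientGroup.mk_inv, hcomm (x : Q ⧸ center Q) (y : Q ⧸ center Q)]
      group
    have htop : center Q = ⊤ := by
      rw [eq_top_iff, ← hQ.1.commutator_eq_top]
      exact hle
    obtain ⟨a, b, hab⟩ := (inferInstance : Nontrivial (Q ⧸ center Q))
    apply hab
    induction a using QuotientGroup.induction_on with
    | H x =>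
      induction b using QuotientGroup.induction_on with
      | H y =>
        rw [QuotientGroup.eq, htop]
        exact Subgroup.mem_top _

variable {S : Type*} [Group S]

theorem center_eq_bot_of_equiv (hQ : Cfsg.IsQuasisimple Q) (e : Q ⧸ center Q ≃* S) :
    center S = ⊥ := by
  rw [eq_bot_iff]
  intro s hs
  rw [Subgroup.mem_bot]
  have h1 : e.symm s ∈ center (Q ⧸ center Q) := by
    rw [Subgroup.mem_center_iff]
    intro q
    have := Subgroup.mem_center_iff.mp hs (e q)
    apply e.injective
    rw [map_mul, map_mul, MulEquiv.apply_symm_apply]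
    exact this
  rw [center_quot_eq_bot hQ, Subgroup.mem_bot] at h1
  have := congrArg e h1
  rw [MulEquiv.apply_symm_apply, map_one] at this
  exact this

theorem conj_injective_of_center (hc : center S = ⊥) :
    Function.Injective (MulAut.conj : S →* MulAut S) := by
  rw [injective_iff_map_eq_one]
  intro s hs
  have : s ∈ center S := by
    rw [Subgroup.mem_center_iff]
    intro g
    have := congrArg (fun f => f g) hs
    simp only [MulAut.conj_apply, MulAut.one_apply] at this
    calc g * s = (s * g * s⁻¹) * s := by rw [this]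
      _ = s * g := by group
  rw [hc, Subgroup.mem_bot] at this
  exact this

/-- **Generic form of `szAutEA`**: if every involutory automorphism of `S ≅ Q/Z(Q)` is inner, `|Z(Q)|` is odd and
automorphisms of `Q` trivial modulo the centre are trivial, then every element of an elementary abelian `2`-group
`E` of automorphisms of `Q` is conjugation by an involution (or `1`), and `|E|` is bounded by the order of an
elementary abelian `2`-subgroup of `S`. -/
theorem autEA_of (hQ : Cfsg.IsQuasisimple Q)
    (hZ : Odd (Nat.card ↥(center Q))) (e : Q ⧸ center Q ≃* S)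
    (hout : ∀ α : MulAut S, α * α = 1 → ∃ s : S, α = MulAut.conj s)
    (hautq : ∀ β : MulAut Q, (∀ x : Q, x⁻¹ * β x ∈ center Q) → β = 1)
    (N : ℕ) (hEA : ∀ E' : Subgroup S, Cfsg.IsElementaryAbelian 2 E' → Nat.card E' ≤ N)
    (E : Subgroup (MulAut Q)) (hE : Cfsg.IsElementaryAbelian 2 E) :
    (∀ β ∈ E, ∃ t : Q, t * t = 1 ∧ ∀ x : Q, β x = t * x * t⁻¹) ∧ Nat.card E ≤ N := by
  classical
  have hcS : center S = ⊥ := center_eq_bot_of_equiv hQ e
  have hconj := conj_injective_of_center hcS
  have hsq : ∀ β ∈ E, β * β = 1 := by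
    intro β hβ
    have := hE.2 β hβ
    rwa [pow_two] at this
  -- injectivity of `trAut e`
  have htr_inj : ∀ β β' : MulAut Q, trAut e β = trAut e β' → β = β' := by
    intro β β' h
    have h1 : trAut e (β'⁻¹ * β) = 1 := by
      rw [trAut_mul, h, ← trAut_mul, inv_mul_cancel, trAut_one]
    have h2 := hautq _ (mem_center_of_trAut_eq_one e _ h1)
    calc β = β' * (β'⁻¹ * β) := by group
      _ = β' := by rw [h2, mul_one]
  -- part 1
  have part1 : ∀ β ∈ E, ∃ t : Q, t * t = 1 ∧ β = MulAut.conj t := by
    intro β hβ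
    have hαα : trAut e β * trAut e β = 1 := by
      rw [← trAut_mul, hsq β hβ, trAut_one]
    obtain ⟨s, hs⟩ := hout _ hαα
    -- `s * s = 1`
    have hss : s * s = 1 := by
      have h1 : MulAut.conj (s * s) = 1 := by
        rw [map_mul, ← hs, hαα]
      have := hconj (h1.trans (map_one _).symm)
      exact this
    obtain ⟨t₀, ht₀⟩ := QuotientGroup.mk_surjective (s := center Q) (e.symm s)
    set n := Nat.card ↥(center Q) with hn
    obtain ⟨k, hk⟩ := hZ
    have ht₀2 : t₀ * t₀ ∈ center Q := by
      rw [← QuotientGroup.eq_one_iff (N := center Q), QuotientGroup.mk_mul, ht₀, ← map_mul, hss,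
        map_one]
    refine ⟨t₀ ^ n, ?_, ?_⟩
    · have h1 : (⟨t₀ * t₀, ht₀2⟩ : ↥(center Q)) ^ n = 1 := pow_card_eq_one'
      have h2 : (t₀ * t₀) ^ n = 1 := by
        have := congrArg Subtype.val h1
        simpa using this
      rw [← pow_add, ← two_mul, pow_mul, pow_two]
      exact h2
    · -- `β = conj (t₀ ^ n)`
      have hmk : ((t₀ ^ n : Q) : Q ⧸ center Q) = e.symm s := by
        rw [QuotientGroup.mk_pow, ht₀, hk, pow_succ, pow_mul, pow_two, ← map_mul, hss, map_one,
          one_pow, one_mul]
      apply htr_inj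
      rw [trAut_conj, hmk, MulEquiv.apply_symm_apply, hs]
  refine ⟨?_, ?_⟩
  · intro β hβ
    obtain ⟨t, ht, hβt⟩ := part1 β hβ
    refine ⟨t, ht, fun x => ?_⟩
    rw [hβt, MulAut.conj_apply]
  · -- the subgroup `E'` of `S`
    have : Finite S := Finite.of_equiv _ e.toEquiv
    let Φ : MulAut Q →* MulAut S :=
      { toFun := trAut e
        map_one' := trAut_one e
        map_mul' := trAut_mul e }
    let E' : Subgroup S := (E.map Φ).comap (MulAut.conj : S →* MulAut S)
    have hE' : Cfsg.IsElementaryAbelian 2 E' := by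
      refine ⟨⟨⟨?_⟩⟩, ?_⟩
      · rintro ⟨a, ha⟩ ⟨b, hb⟩
        apply Subtype.ext
        change a * b = b * a
        obtain ⟨β, hβ, hβa⟩ := ha
        obtain ⟨β', hβ', hβb⟩ := hb
        apply hconj
        rw [map_mul, map_mul, ← hβa, ← hβb, ← map_mul, ← map_mul]
        congr 1
        have := hE.1.is_comm.comm (⟨β, hβ⟩ : ↥E) ⟨β', hβ'⟩
        exact congrArg Subtype.val this
      · intro a ha
        obtain ⟨β, hβ, hβa⟩ := ha
        apply hconj
        rw [map_pow, ← hβa, ← map_pow, pow_two, hsq β hβ, map_one, map_one]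
    have hcard : Nat.card ↥E ≤ Nat.card ↥E' := by
      have hex : ∀ β : ↥E, ∃ s : ↥E', MulAut.conj (s : S) = Φ (β : MulAut Q) := by
        rintro ⟨β, hβ⟩
        obtain ⟨t, _, hβt⟩ := part1 β hβ
        have h1 : MulAut.conj (e ((t : Q) : Q ⧸ center Q)) = Φ β := by
          change _ = trAut e β
          rw [hβt, trAut_conj]
        refine ⟨⟨e ((t : Q) : Q ⧸ center Q), ?_⟩, h1⟩
        exact ⟨β, hβ, h1.symm⟩
      choose f hf using hex
      apply Nat.card_le_card_of_injective f
      intro β β' h
      apply Subtype.ext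
      apply htr_inj
      have h1 := hf β
      have h2 := hf β'
      rw [h] at h1
      exact h1.symm.trans h2
    exact hcard.trans (hEA E' hE')

end quasi

section v4
variable {Q : Type*} [Group Q] [Finite Q] {S : Type*} [Group S]

/-- **Generic form of `pslAut`** (with the extra conjunct `β ≠ 1` in the second alternative). -/
theorem v4Aut_of (hQ : Cfsg.IsQuasisimple Q) (e : Q ⧸ center Q ≃* S)
    (hautq : ∀ β : MulAut Q, (∀ x : Q, x⁻¹ * β x ∈ center Q) → β = 1)
    (hOuter : ∀ α : MulAut S, α * α = 1 →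
      (∃ s, α = MulAut.conj s) ∨ ∃ u : S, orderOf u = 3 ∧ α u = u⁻¹)
    (hEA : ∀ E' : Subgroup S, IsPGroup 2 E' → Nat.card E' ≤ 4)
    (hTorus : ∀ s t : S, s * s = 1 → t * t = 1 → s ≠ 1 → t ≠ 1 → s ≠ t → s * t = t * s →
      ∃ x : S, x ≠ 1 ∧ Odd (orderOf x) ∧ s * x = x * s ∧ t * x * t⁻¹ = x⁻¹)
    (hLift : ∀ β β' : MulAut Q, β * β' = β' * β → β * β = 1 → β' * β' = 1 → ∀ x₀ : Q,
      Odd (orderOf (QuotientGroup.mk x₀ : Q ⧸ center Q)) → x₀ ∉ center Q →
      x₀⁻¹ * β x₀ ∈ center Q → x₀ * β' x₀ ∈ center Q →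
      ∃ x : Q, x ≠ 1 ∧ Odd (orderOf x) ∧ β x = x ∧ β' x = x⁻¹)
    (E : Subgroup (MulAut Q)) (hE : Cfsg.IsElementaryAbelian 2 E) (h4 : 4 ≤ Nat.card E) :
    (∃ β ∈ E, ∃ u : Q, orderOf u = 3 ∧ β u = u⁻¹) ∨
      (Nat.card E = 4 ∧ ∃ β ∈ E, ∃ β' ∈ E, ∃ x : Q, β ≠ 1 ∧ x ≠ 1 ∧ Odd (orderOf x) ∧ β x = x ∧
        β' x = x⁻¹) := by
  classical
  have hcS : center S = ⊥ := center_eq_bot_of_equiv hQ e
  have hconj := conj_injective_of_center hcS
  have hsq : ∀ β ∈ E, β * β = 1 := by
    intro β hβ
    have := hE.2 β hβ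
    rwa [pow_two] at this
  have hcomm : ∀ β ∈ E, ∀ β' ∈ E, β * β' = β' * β := by
    intro β hβ β' hβ'
    have := hE.1.is_comm.comm (⟨β, hβ⟩ : ↥E) ⟨β', hβ'⟩
    exact congrArg Subtype.val this
  have htr_inj : ∀ β β' : MulAut Q, trAut e β = trAut e β' → β = β' := by
    intro β β' h
    have h1 : trAut e (β'⁻¹ * β) = 1 := by
      rw [trAut_mul, h, ← trAut_mul, inv_mul_cancel, trAut_one]
    have h2 := hautq _ (mem_center_of_trAut_eq_one e _ h1)
    calc β = β' * (β'⁻¹ * β) := by group
      _ = β' := by rw [h2, mul_one]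
  have hαα : ∀ β ∈ E, trAut e β * trAut e β = 1 := by
    intro β hβ
    rw [← trAut_mul, hsq β hβ, trAut_one]
  by_cases hinner : ∀ β ∈ E, ∃ s : S, trAut e β = MulAut.conj s
  · -- case B
    right
    have : Finite S := Finite.of_equiv _ e.toEquiv
    let Φ : MulAut Q →* MulAut S :=
      { toFun := trAut e
        map_one' := trAut_one e
        map_mul' := trAut_mul e }
    let E' : Subgroup S := (E.map Φ).comap (MulAut.conj : S →* MulAut S)
    have hE'2 : IsPGroup 2 ↥E' := by
      rintro ⟨a, ha⟩
      refine ⟨1, ?_⟩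
      apply Subtype.ext
      obtain ⟨β, hβ, hβa⟩ := ha
      change a ^ 2 ^ 1 = 1
      apply hconj
      rw [pow_one, map_pow, ← hβa, ← map_pow, pow_two, hsq β hβ, map_one, map_one]
    have hcard : Nat.card ↥E ≤ Nat.card ↥E' := by
      have hex : ∀ β : ↥E, ∃ s : ↥E', MulAut.conj (s : S) = Φ (β : MulAut Q) := by
        rintro ⟨β, hβ⟩
        obtain ⟨s, hs⟩ := hinner β hβ
        exact ⟨⟨s, ⟨β, hβ, hs⟩⟩, hs.symm⟩
      choose f hf using hex
      apply Nat.card_le_card_of_injective f
      intro β β' h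
      apply Subtype.ext
      apply htr_inj
      have h1 := hf β
      have h2 := hf β'
      rw [h] at h1
      exact h1.symm.trans h2
    have hE4 : Nat.card ↥E = 4 := le_antisymm (hcard.trans (hEA E' hE'2)) h4
    refine ⟨hE4, ?_⟩
    -- choose β ≠ 1
    have hex1 : ∃ β ∈ E, β ≠ 1 := by
      by_contra hcon
      push Not at hcon
      have : Nat.card ↥E ≤ Nat.card Unit := by
        apply Nat.card_le_card_of_injective (fun _ => ())
        rintro ⟨a, ha⟩ ⟨b, hb⟩ _
        apply Subtype.ext
        change a = b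
        rw [hcon a ha, hcon b hb]
      simp at this
      omega
    obtain ⟨β, hβ, hβ1⟩ := hex1
    have hex2 : ∃ β' ∈ E, β' ≠ 1 ∧ β' ≠ β := by
      by_contra hcon
      push Not at hcon
      have : Nat.card ↥E ≤ Nat.card Bool := by
        apply Nat.card_le_card_of_injective (fun a : ↥E => decide ((a : MulAut Q) = 1))
        rintro ⟨a, ha⟩ ⟨b, hb⟩ hab
        apply Subtype.ext
        change a = b
        simp only [decide_eq_decide] at hab
        by_cases h1 : a = 1
        · rw [h1]; exact (hab.mp h1).symm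
        · have h2 : b ≠ 1 := fun h => h1 (hab.mpr h)
          rw [hcon a ha h1, hcon b hb h2]
      simp at this
      omega
    obtain ⟨β', hβ', hβ'1, hββ'⟩ := hex2
    obtain ⟨s, hs⟩ := hinner β hβ
    obtain ⟨t, ht⟩ := hinner β' hβ'
    have hss : s * s = 1 := by
      apply hconj
      rw [map_mul, ← hs, hαα β hβ, map_one]
    have htt : t * t = 1 := by
      apply hconj
      rw [map_mul, ← ht, hαα β' hβ', map_one]
    have hs1 : s ≠ 1 := by
      rintro rfl
      apply hβ1
      apply htr_inj
      rw [hs, map_one, trAut_one]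
    have ht1 : t ≠ 1 := by
      rintro rfl
      apply hβ'1
      apply htr_inj
      rw [ht, map_one, trAut_one]
    have hst : s ≠ t := by
      rintro rfl
      apply hββ'
      apply htr_inj
      rw [ht, hs]
    have hstc : s * t = t * s := by
      apply hconj
      rw [map_mul, map_mul, ← hs, ← ht, ← trAut_mul, ← trAut_mul, hcomm β hβ β' hβ']
    obtain ⟨xb, hxb1, hxbo, hsx, htx⟩ := hTorus s t hss htt hs1 ht1 hst hstc
    obtain ⟨q, hq⟩ := e.surjective xb
    obtain ⟨x₀, rfl⟩ := QuotientGroup.mk_surjective q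
    have hord : Odd (orderOf (QuotientGroup.mk x₀ : Q ⧸ center Q)) := by
      rw [← e.orderOf_eq, hq]
      exact hxbo
    have hx₀1 : x₀ ∉ center Q := by
      intro h
      apply hxb1
      rw [← hq, (QuotientGroup.eq_one_iff (N := center Q) x₀).mpr h, map_one]
    have hfix : x₀⁻¹ * β x₀ ∈ center Q := by
      rw [← QuotientGroup.eq_one_iff (N := center Q)]
      apply e.injective
      rw [QuotientGroup.mk_mul, QuotientGroup.mk_inv, map_mul, map_inv, ← trAut_apply_mk, hq, hs,
        MulAut.conj_apply, hsx, map_one]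
      group
    have hinv : x₀ * β' x₀ ∈ center Q := by
      rw [← QuotientGroup.eq_one_iff (N := center Q)]
      apply e.injective
      rw [QuotientGroup.mk_mul, map_mul, ← trAut_apply_mk, hq, ht, MulAut.conj_apply, htx, map_one]
      group
    obtain ⟨x, hx1, hxo, hβx, hβ'x⟩ := hLift β β' (hcomm β hβ β' hβ') (hsq β hβ) (hsq β' hβ') x₀
      hord hx₀1 hfix hinv
    exact ⟨β, hβ, β', hβ', x, hβ1, hx1, hxo, hβx, hβ'x⟩
  · -- case A
    left
    push Not at hinner
    obtain ⟨β, hβ, hnot⟩ := hinner
    rcases hOuter (trAut e β) (hαα β hβ) with ⟨s, hs⟩ | ⟨u, hu3, huinv⟩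
    · exact absurd hs (hnot s)
    · obtain ⟨q, hq⟩ := e.surjective u
      obtain ⟨u₁, rfl⟩ := QuotientGroup.mk_surjective q
      set x := u₁⁻¹ * β u₁ with hx
      have hββ : ∀ y : Q, β (β y) = y := by
        intro y
        have := congrArg (fun f => f y) (hsq β hβ)
        simpa using this
      have hβx : β x = x⁻¹ := by
        rw [hx, map_mul, map_inv, hββ, mul_inv_rev, inv_inv]
      have hu3' : u ^ 3 = 1 := by rw [← hu3]; exact pow_orderOf_eq_one u
      have hxu : e (QuotientGroup.mk x : Q ⧸ center Q) = u := by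
        rw [hx, QuotientGroup.mk_mul, QuotientGroup.mk_inv, map_mul, map_inv, ← trAut_apply_mk, hq,
          huinv]
        calc u⁻¹ * u⁻¹ = u⁻¹ * u⁻¹ * u ^ 3 := by rw [hu3', mul_one]
          _ = u := by group
      -- `3 ∣ orderOf x`
      have h3 : 3 ∣ orderOf x := by
        rw [← hu3, ← hxu, e.orderOf_eq]
        exact orderOf_dvd_of_pow_eq_one (by
          rw [← QuotientGroup.mk_pow, pow_orderOf_eq_one, QuotientGroup.mk_one])
      have hpos : 0 < orderOf x := orderOf_pos x
      obtain ⟨k, hk⟩ := h3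
      have hk0 : k ≠ 0 := by
        rintro rfl
        omega
      refine ⟨β, hβ, x ^ k, ?_, ?_⟩
      · have := orderOf_pow_of_dvd (x := x) hk0 ⟨3, by rw [hk, mul_comm]⟩
        rw [this, hk]
        exact Nat.mul_div_cancel 3 (Nat.pos_of_ne_zero hk0)
      · rw [map_pow, hβx, inv_pow]

end v4

section twelve

/-- there is no simple group of order `12` -/
theorem not_simple_card_twelve {G : Type*} [Group G] [Finite G] [IsSimpleGroup G]
    (h : Nat.card G = 12) : False := by
  have : Fact (Nat.Prime 2) := ⟨Nat.prime_two⟩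
  obtain ⟨K, hK⟩ := Sylow.exists_subgroup_card_pow_prime (G := G) 2 (n := 2) (by rw [h]; norm_num)
  have hidx : K.index = 3 := by
    have := K.card_mul_index
    rw [hK, h] at this
    omega
  rcases IsSimpleGroup.eq_bot_or_eq_top_of_normal K.normalCore inferInstance with hb | ht
  · have h1 : K.normalCore.index ∣ Nat.factorial K.index := by
      rw [Subgroup.normalCore_eq_ker, Subgroup.index_ker]
      have h1 : Nat.card (MulAction.toPermHom G (G ⧸ K)).range ∣ Nat.card (Equiv.Perm (G ⧸ K)) :=
        Subgroup.card_subgroup_dvd_card _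
      rwa [Nat.card_perm] at h1
    rw [hb, Subgroup.index_bot, h, hidx] at h1
    revert h1
    decide
  · have h1 : K = ⊤ := by
      rw [eq_top_iff, ← ht]
      exact Subgroup.normalCore_le K
    rw [h1, Subgroup.card_top, h] at hK
    omega

end twelve

end Cfsg.Agent.Lib.Helper26.SFAut
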