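import Mathlib
import Cfsg.Statements.S2752
import Cfsg.Agent.Lib.Helper16.SFDefs
import Cfsg.Agent.Lib.Helper26.SFAut
import Cfsg.Agent.Lib.Helper15.SFszOutOdd
import Cfsg.Agent.Lib.Helper15.SFszEA
import Cfsg.Agent.Lib.Helper17.SFautq

/-!
# S2752 (market "SF"): leaf `szAutEA` (exact statement of `notes/S2752_leaves.lean`)
-/

set_option autoImplicit false
universe u v
open Cfsg Cfsg.Agent.Lib.Helper16.SF

namespace Cfsg.Agent.Lib.Helper26.SFLeaf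

/-- **szAutEA**.  Every `β ∈ E` induces an involutory automorphism of `Q/Z(Q) ≅ Sz(q)`, inner by `szOutOdd`, by an
involution `s̄` (centre of `Sz(q)` trivial); lift `s̄` to an involution `t` of `Q` (`|Z(Q)|` odd); `β` and
`conj t` agree modulo `Z(Q)`, so are equal (`autq`).  `β ↦ s̄_β` is an injective homomorphism `E → Sz(q)`: `szEA`. -/
theorem szAutEA {Q : Type*} [Group Q] [Finite Q] (hQ : Cfsg.IsQuasisimple Q)
    (hZ : Odd (Nat.card ↥(Subgroup.center Q)))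
    {F : Type} [Field F] [Fintype F] (m : ℕ) (hm : 1 ≤ m) (hF : Fintype.card F = 2 ^ (2 * m + 1))
    (e : Nonempty (Q ⧸ Subgroup.center Q ≃* ↥(Cfsg.Lie.Sz F (2 ^ (m + 1)))))
    (E : Subgroup (MulAut Q)) (hE : Cfsg.IsElementaryAbelian 2 E) :
    (∀ β ∈ E, ∃ t : Q, t * t = 1 ∧ ∀ x : Q, β x = t * x * t⁻¹) ∧ Nat.card E ≤ 2 ^ (2 * m + 1) := by
  obtain ⟨e⟩ := e
  have : Group.IsPerfect Q := hQ.1
  exact Cfsg.Agent.Lib.Helper26.SFAut.autEA_of hQ hZ e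
    (fun α h2 => Cfsg.Agent.Lib.Helper15.SFLeaf.szOutOdd m hm hF α h2)
    (fun β h => Cfsg.Agent.Lib.Helper17.SFLeaf.autq β h)
    (2 ^ (2 * m + 1))
    (fun E' hE' => Cfsg.Agent.Lib.Helper15.SFLeaf.szEA m hm hF E' hE') E hE

end Cfsg.Agent.Lib.Helper26.SFLeaf
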