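import Mathlib
import Cfsg.Prelude.Def_ClassicalGeometry
import Cfsg.Prelude.Def_GeometricClasses
import Cfsg.Agent.Lib.Helper2.SOTDefs
import Cfsg.Agent.Lib.Helper2.SOTGDefs
import Cfsg.Agent.Lib.Helper4.SOTS
import Cfsg.Agent.Lib.Helper7.SpTN
import Cfsg.Agent.Lib.Helper27.SOTLADefs
import Cfsg.Agent.Lib.Helper6.SOTLAU1
import Cfsg.Agent.Lib.Helper6.SOTLAU2
import Cfsg.Agent.Lib.Helper11.SOTLAU3
import Cfsg.Agent.Lib.Helper1.SOTLAP5

/-!
S5666 (LA) leaves P6: `UA_mem_KG` (`U`-form elements of `M` lie in the Kronecker group) and `UA_sq_zero`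
(they are quadratic), exact signatures of notes/S5666_LA_leaves.lean.
By-products: `isScal_ablk_uMat`, `mem_KG_of_isScal_ablk`, `uMat_sub_one_sq`.
-/

set_option autoImplicit false
set_option linter.unusedSectionVars false
set_option linter.unusedVariables false

namespace Cfsg.Agent.Lib.Helper26.SOTLALeaf
open Matrix
open Cfsg.Agent.Lib.Helper25.Tens Cfsg.Agent.Lib.Helper25.SpT Cfsg.Agent.Lib.Helper19.OSub
open Cfsg.Agent.Lib.Helper2.SOT Cfsg.Agent.Lib.Helper27.SOTLA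
open scoped Kronecker

variable {F : Type*} [Field F] [Fintype F] {a b : ℕ} {G : Matrix (Fin b) (Fin b) F}
  {M : Subgroup (GL (Idx a b) F)}

/-- all `A`-blocks of a `uMat` with scalar entries are scalar -/
lemma isScal_ablk_uMat {o o' : Fin a} (hoo' : o ≠ o') {θ ρ : Fin a → Matrix (Fin b) (Fin b) F}
    {Ξ : Matrix (Fin b) (Fin b) F} (hθ : Mid o o' θ) (hρ : Mid o o' ρ)
    (h1 : ∀ i, IsScal (θ i)) (h2 : ∀ j, IsScal (ρ j)) (h3 : IsScal Ξ) (i j : Fin a) :
    IsScal (ablk (uMat o o' θ ρ Ξ) i j) := by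
  obtain ⟨⟨hU, hoo, ho'o'⟩, hth, hrh, hX⟩ := Cfsg.Agent.Lib.Helper6.SOTLALeaf.ablk_uMat hoo' (Ξ := Ξ) hθ hρ
  by_cases hi : i = o
  · by_cases hj : j = o'
    · rw [hi, hj, hX]; exact h3
    · by_cases hj2 : j = o
      · rw [hi, hj2, hoo]; exact isScal_one
      · rw [hi, hrh j hj2 hj]; exact h2 j
  · by_cases hj : j = o'
    · by_cases hi2 : i = o'
      · rw [hi2, hj, ho'o']; exact isScal_one
      · rw [hj, hth i hi hi2]; exact h1 i
    · rw [hU i j hi hj]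
      split_ifs
      · exact isScal_one
      · exact isScal_zero

/-- a unit all of whose `A`-blocks are scalar lies in the Kronecker group -/
lemma mem_KG_of_isScal_ablk (hb : 0 < b) (g : GL (Idx a b) F)
    (hs : ∀ i j, IsScal (ablk (g : Matrix (Idx a b) (Idx a b) F) i j)) : g ∈ KG a b F := by
  choose α hα using hs
  have hval : (g : Matrix (Idx a b) (Idx a b) F) =
      (Matrix.of α : Matrix (Fin a) (Fin a) F) ⊗ₖ (1 : Matrix (Fin b) (Fin b) F) := by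
    apply ext_ablk
    intro i j
    rw [ablk_kron, hα i j, Matrix.of_apply]
  have hdet : (Matrix.of α : Matrix (Fin a) (Fin a) F).det ≠ 0 := by
    intro h0
    have hu : IsUnit (g : Matrix (Idx a b) (Idx a b) F).det := by
      have := (Matrix.isUnit_iff_isUnit_det (g : Matrix (Idx a b) (Idx a b) F)).1 g.isUnit
      exact this
    rw [hval, Matrix.det_kronecker, h0] at hu
    simp only [Fintype.card_fin, Matrix.det_one, one_pow, mul_one] at hu
    rw [zero_pow (by omega)] at hu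
    exact not_isUnit_zero hu
  refine ⟨Matrix.GeneralLinearGroup.mkOfDetNeZero (Matrix.of α) hdet, 1, ?_⟩
  rw [hval]
  rfl

/-- (R1+') `U`-form elements of `M` lie in `KG`. -/
theorem UA_mem_KG (h : MCtx a b G M) (h4 : 4 ≤ a) (hno : ¬ HasTv G M) {o o' : Fin a}
    (ho : o.val = 0) (ho' : o'.val = 1) {g : GL (Idx a b) F} (hg : g ∈ M)
    (hU : UA o o' (g : Matrix (Idx a b) (Idx a b) F)) : g ∈ KG a b F := by
  have hoo' : o ≠ o' := by
    intro e; rw [e] at ho; omega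
  obtain ⟨θ, ρ, Ξ, hθ, hρ, hX⟩ := Cfsg.Agent.Lib.Helper6.SOTLALeaf.exists_uMat_of_UA hoo' hU
  have hM : InM M (uMat o o' θ ρ Ξ) := ⟨g, hg, hX⟩
  obtain ⟨h1, h2, h3⟩ := Cfsg.Agent.Lib.Helper1.SOTLALeaf.R1plus h h4 hno ho ho' hθ hρ hM
  apply mem_KG_of_isScal_ablk (by have := h.hb; omega)
  intro i j
  rw [hX]
  exact isScal_ablk_uMat hoo' hθ hρ h1 h2 h3 i j

/-- `(uMat - 1)² = E_{o,o'} ⊗ Σ_j ρ_j θ_j` -/
lemma uMat_sub_one_sq {o o' : Fin a} (hoo' : o ≠ o') {θ ρ : Fin a → Matrix (Fin b) (Fin b) F}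
    {Ξ : Matrix (Fin b) (Fin b) F} (hθ : Mid o o' θ) (hρ : Mid o o' ρ) :
    (uMat o o' θ ρ Ξ - 1) * (uMat o o' θ ρ Ξ - 1) =
      Matrix.single o o' (1 : F) ⊗ₖ (∑ j, ρ j * θ j) := by
  have hmul := Cfsg.Agent.Lib.Helper6.SOTLALeaf.uMat_mul hoo' (Ξ := Ξ) (Ξ' := Ξ) hθ hρ hθ hρ
  have hexp : (uMat o o' θ ρ Ξ - 1) * (uMat o o' θ ρ Ξ - 1) =
      uMat o o' θ ρ Ξ * uMat o o' θ ρ Ξ - uMat o o' θ ρ Ξ - uMat o o' θ ρ Ξ + 1 := by
    noncomm_ring
  rw [hexp, hmul]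
  unfold uMat
  simp only [Pi.add_apply, Matrix.kronecker_add, Finset.sum_add_distrib]
  abel

/-- (R1+'') `U`-form elements of `M` are quadratic. -/
theorem UA_sq_zero (h : MCtx a b G M) (h4 : 4 ≤ a) (hno : ¬ HasTv G M) {o o' : Fin a}
    (ho : o.val = 0) (ho' : o'.val = 1) {X : Matrix (Idx a b) (Idx a b) F} (hX : InM M X)
    (hU : UA o o' X) : (X - 1) * (X - 1) = 0 := by
  have hoo' : o ≠ o' := by
    intro e; rw [e] at ho; omega
  obtain ⟨θ, ρ, Ξ, hθ, hρ, hXe⟩ := Cfsg.Agent.Lib.Helper6.SOTLALeaf.exists_uMat_of_UA hoo' hU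
  have hM : InM M (uMat o o' θ ρ Ξ) := hXe ▸ hX
  obtain ⟨h1, h2, h3⟩ := Cfsg.Agent.Lib.Helper1.SOTLALeaf.R1plus h h4 hno ho ho' hθ hρ hM
  -- symplecticity
  obtain ⟨t, htM, ht⟩ := hM
  have hS : ∀ v w : Idx a b → F,
      fV G (uMat o o' θ ρ Ξ *ᵥ v) (uMat o o' θ ρ Ξ *ᵥ w) = fV G v w := by
    intro v w
    have := (mem_SpV.1 (h.le_sp htM)) v w
    unfold mv at this
    rwa [ht] at this
  have hrho := Cfsg.Agent.Lib.Helper11.SOTLALeaf.rho_of_symp h.ea h.symm h.nd ho ho' hθ hρ hS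
  choose τ hτ using h1
  have hpo : pr h.ea o = o' := by
    apply Fin.ext
    rw [pr_val_even h.ea o (by omega)]; omega
  have hpo' : pr h.ea o' = o := by
    rw [← hpo, pr_pr]
  -- the summand is antisymmetric under `j ↔ pr j`
  have hanti : ∀ j : Fin a, ρ (pr h.ea j) * θ (pr h.ea j) = -(ρ j * θ j) := by
    intro j
    by_cases hj : j = o
    · rw [hj, hpo, hρ.1, hρ.2, zero_mul, zero_mul, neg_zero]
    · by_cases hj' : j = o'
      · rw [hj', hpo', hρ.1, hρ.2, zero_mul, zero_mul, neg_zero]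
      · have hpj : pr h.ea j ≠ o := by
          intro e; apply hj'; rw [← pr_pr h.ea j, e, hpo]
        have hpj' : pr h.ea j ≠ o' := by
          intro e; apply hj; rw [← pr_pr h.ea j, e, hpo']
        rw [hrho j hj hj', hrho (pr h.ea j) hpj hpj', pr_pr, hτ j, hτ (pr h.ea j),
          Cfsg.Agent.Lib.Helper11.SOTLALeaf.adjB_smul_one h.nd, Cfsg.Agent.Lib.Helper11.SOTLALeaf.adjB_smul_one h.nd, Jm_swap a j (pr h.ea j)]
        simp only [Matrix.smul_mul, Matrix.mul_smul, Matrix.one_mul, smul_smul, neg_smul, neg_neg,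
          neg_mul]
        congr 1
        ring
  have hsum : (∑ j, ρ j * θ j) = -(∑ j, ρ j * θ j) := by
    conv_lhs => rw [← Equiv.sum_comp (Function.Involutive.toPerm (pr h.ea) (pr_pr h.ea))
      (fun j => ρ j * θ j)]
    rw [← Finset.sum_neg_distrib]
    exact Finset.sum_congr rfl (fun j _ => hanti j)
  have hzero : (∑ j, ρ j * θ j) = 0 := by
    have h2S : (2 : F) • (∑ j, ρ j * θ j) = 0 := by
      rw [two_smul]
      nth_rewrite 1 [hsum]
      rw [neg_add_cancel]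
    rcases smul_eq_zero.1 h2S with e | e
    · exact absurd e h.two
    · exact e
  rw [hXe, uMat_sub_one_sq hoo' hθ hρ, hzero, Matrix.kronecker_zero]

end Cfsg.Agent.Lib.Helper26.SOTLALeaf
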