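import Mathlib
import Cfsg.Agent.Lib.Helper5.TWU.Defs
import Cfsg.Agent.Lib.Helper23.TWUT
import Cfsg.Agent.Lib.Helper1.TWUIUT8
import Cfsg.Agent.Lib.Helper4.SUMT
import Cfsg.Agent.Lib.Helper12.C3uF

/-!
# S5672 Stage II case A, leaf L3a `scalar_of_cone`: a sesquilinear form vanishing on the isotropic cone is a multiple of the form
(true for all `q` and all `k ≥ 2`; the hypotheses `3 ≤ k`, `hex` of the market signature are not used)
-/

set_option autoImplicit false
set_option linter.unusedSectionVars false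
set_option linter.unusedVariables false

namespace Cfsg.Agent.Lib.Helper26.TWU2ALeaf
open Matrix Cfsg.Geo Cfsg.Agent.Lib.Helper18.AschA89 Cfsg.Agent.Lib.Helper8.TW
open Cfsg.Agent.Lib.Helper5.TWU
open Cfsg.Agent.Lib.Helper20.UT (hv hv_add_left hv_add_right hv_smul_left hv_smul_right hv_symm_zero hv_conj
  hv_sub_left hv_sub_right hv_self_pow add_pow_q neg_pow_q pow_q_pow_q')

variable {F : Type*} [Field F] [Fintype F] {t k q : ℕ}

/-- the sesquilinear form `β(x, y) = hv (M x) y` -/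
def bt26 (q : ℕ) (M : Matrix (Fin k) (Fin k) F) (x y : Fin k → F) : F := hv q (M *ᵥ x) y

lemma bt26_add_left (M : Matrix (Fin k) (Fin k) F) (x x' y : Fin k → F) :
    bt26 q M (x + x') y = bt26 q M x y + bt26 q M x' y := by
  unfold bt26; rw [Matrix.mulVec_add, hv_add_left]

lemma bt26_smul_left (M : Matrix (Fin k) (Fin k) F) (c : F) (x y : Fin k → F) :
    bt26 q M (c • x) y = c * bt26 q M x y := by
  unfold bt26; rw [Matrix.mulVec_smul, hv_smul_left]

lemma bt26_add_right (hF : Fintype.card F = q ^ 2) (M : Matrix (Fin k) (Fin k) F) (x y y' : Fin k → F) :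
    bt26 q M x (y + y') = bt26 q M x y + bt26 q M x y' := by
  unfold bt26; rw [hv_add_right hF]

lemma bt26_smul_right (M : Matrix (Fin k) (Fin k) F) (c : F) (x y : Fin k → F) :
    bt26 q M x (c • y) = c ^ q * bt26 q M x y := by
  unfold bt26; rw [hv_smul_right]

/-- trace surjectivity in `^q` form -/
lemma exists_tr26 (hF : Fintype.card F = q ^ 2) (r : F) (hr : r ^ q = r) : ∃ μ : F, μ + μ ^ q = r := by
  have hf := Cfsg.Agent.Lib.Helper20.UT.hv_unitary (n := 1) hF
  exact Cfsg.Agent.Lib.Helper5.UForm.tr_surj hf.involutive hf.ne_refl r hr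

/-- the expansion of `β` on `e + μ f + ν a` -/
lemma bt26_expand (hF : Fintype.card F = q ^ 2) (M : Matrix (Fin k) (Fin k) F) (e f a : Fin k → F) (μ ν : F) :
    bt26 q M (e + μ • f + ν • a) (e + μ • f + ν • a) =
      bt26 q M e e + μ ^ q * bt26 q M e f + ν ^ q * bt26 q M e a +
      μ * bt26 q M f e + μ * μ ^ q * bt26 q M f f + μ * ν ^ q * bt26 q M f a +
      ν * bt26 q M a e + ν * μ ^ q * bt26 q M a f + ν * ν ^ q * bt26 q M a a := by
  simp only [bt26_add_left, bt26_add_right hF, bt26_smul_left, bt26_smul_right]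
  ring

/-- `hv = bt26 1` -/
lemma bt26_one (x y : Fin k → F) : bt26 q (1 : Matrix (Fin k) (Fin k) F) x y = hv q x y := by
  unfold bt26; rw [Matrix.one_mulVec]

/-- the hypotheses on a hyperbolic pair and a form `β` vanishing on the cone, normalised by `β(e,f) = β(f,e) = 0` -/
structure Cone26 (q : ℕ) (M : Matrix (Fin k) (Fin k) F) (e f : Fin k → F) : Prop where
  hF : Fintype.card F = q ^ 2
  cone : ∀ z : Fin k → F, hv q z z = 0 → bt26 q M z z = 0
  hee : hv q e e = 0
  hff : hv q f f = 0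
  hef : hv q e f = 1
  hfe : hv q f e = 1
  bef : bt26 q M e f = 0
  bfe : bt26 q M f e = 0

namespace Cone26
variable {M : Matrix (Fin k) (Fin k) F} {e f : Fin k → F}

lemma symm (C : Cone26 q M e f) : Cone26 q M f e :=
  ⟨C.hF, C.cone, C.hff, C.hee, C.hfe, C.hef, C.bfe, C.bef⟩

/-- the vector `e + μ f + ν a` is isotropic -/
lemma iso_of (C : Cone26 q M e f) {a : Fin k → F} (hae : hv q a e = 0) (haf : hv q a f = 0) {μ ν : F}
    (h : μ + μ ^ q = -(ν * ν ^ q * hv q a a)) : hv q (e + μ • f + ν • a) (e + μ • f + ν • a) = 0 := by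
  have hexp := bt26_expand (q := q) C.hF (1 : Matrix (Fin k) (Fin k) F) e f a μ ν
  simp only [bt26_one] at hexp
  rw [hexp, C.hee, C.hff, C.hef, C.hfe, hae, haf, hv_symm_zero C.hF hae, hv_symm_zero C.hF haf]
  linear_combination h

/-- the relation `P(μ, ν) = 0` -/
lemma rel (C : Cone26 q M e f) {a : Fin k → F} (hae : hv q a e = 0) (haf : hv q a f = 0) {μ ν : F}
    (h : μ + μ ^ q = -(ν * ν ^ q * hv q a a)) :
    ν ^ q * bt26 q M e a + μ * ν ^ q * bt26 q M f a + ν * bt26 q M a e + ν * μ ^ q * bt26 q M a f +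
      ν * ν ^ q * bt26 q M a a = 0 := by
  have h1 := C.cone _ (C.iso_of hae haf h)
  rw [bt26_expand C.hF, C.cone e C.hee, C.cone f C.hff, C.bef, C.bfe] at h1
  linear_combination h1

/-- `β(f, a) = β(a, f) = 0` for `a ⊥ e, f` -/
lemma bfa (C : Cone26 q M e f) {a : Fin k → F} (hae : hv q a e = 0) (haf : hv q a f = 0) :
    bt26 q M f a = 0 ∧ bt26 q M a f = 0 := by
  have hF := C.hF
  obtain ⟨σ, hσ0, hσ⟩ := Cfsg.Agent.Lib.Helper4.SUMLeaf.exists_skew hF
  have key : ∀ ν : F, ν ^ q * bt26 q M f a = ν * bt26 q M a f := by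
    intro ν
    have hr : (-(ν * ν ^ q * hv q a a)) ^ q = -(ν * ν ^ q * hv q a a) := by
      rw [neg_pow_q hF, mul_pow, mul_pow, pow_q_pow_q' hF, hv_self_pow hF]
      ring
    obtain ⟨μ, hμ⟩ := exists_tr26 hF _ hr
    have h1 := C.rel hae haf hμ
    have hμ' : (μ + σ) + (μ + σ) ^ q = -(ν * ν ^ q * hv q a a) := by
      rw [add_pow_q hF, hσ]
      linear_combination hμ
    have h2 := C.rel hae haf hμ'
    rw [add_pow_q hF, hσ] at h2
    have h3 : σ * (ν ^ q * bt26 q M f a - ν * bt26 q M a f) = 0 := by linear_combination h2 - h1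
    rcases mul_eq_zero.mp h3 with h | h
    · exact absurd h hσ0
    · linear_combination h
  have h1 := key 1
  rw [one_pow, one_mul, one_mul] at h1
  obtain ⟨θ, hθ⟩ := Cfsg.Agent.Lib.Helper12.C3uLeaf.exists_pow_ne hF
  have h2 := key θ
  rw [← h1] at h2
  have h3 : (θ ^ q - θ) * bt26 q M f a = 0 := by linear_combination h2
  rcases mul_eq_zero.mp h3 with h | h
  · exact absurd (sub_eq_zero.mp h) hθ
  · exact ⟨h, by rw [← h1]; exact h⟩

/-- `β(a, a) = 0` for `a ⊥ e, f` -/
lemma baa (C : Cone26 q M e f) {a : Fin k → F} (hae : hv q a e = 0) (haf : hv q a f = 0) : bt26 q M a a = 0 := by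
  have hF := C.hF
  obtain ⟨h1, h2⟩ := C.bfa hae haf
  obtain ⟨h3, h4⟩ := C.symm.bfa haf hae
  have hr : (-((1 : F) * 1 ^ q * hv q a a)) ^ q = -((1 : F) * 1 ^ q * hv q a a) := by
    rw [neg_pow_q hF, mul_pow, mul_pow, pow_q_pow_q' hF, hv_self_pow hF]
    ring
  obtain ⟨μ, hμ⟩ := exists_tr26 hF _ hr
  have h := C.rel hae haf hμ
  rw [h1, h2, h3, h4] at h
  simpa using h

/-- polarisation: `β(a, a') = 0` for `a, a' ⊥ e, f` -/
lemma baa' (C : Cone26 q M e f) {a a' : Fin k → F} (hae : hv q a e = 0) (haf : hv q a f = 0)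
    (ha'e : hv q a' e = 0) (ha'f : hv q a' f = 0) : bt26 q M a a' = 0 := by
  have hF := C.hF
  have key : ∀ l : F, l ^ q * bt26 q M a a' + l * bt26 q M a' a = 0 := by
    intro l
    have h1 : hv q (a + l • a') e = 0 := by rw [hv_add_left, hv_smul_left, hae, ha'e]; ring
    have h2 : hv q (a + l • a') f = 0 := by rw [hv_add_left, hv_smul_left, haf, ha'f]; ring
    have h := C.baa h1 h2
    simp only [bt26_add_left, bt26_add_right hF, bt26_smul_left, bt26_smul_right] at h
    rw [C.baa hae haf, C.baa ha'e ha'f] at h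
    linear_combination h
  have h1 := key 1
  rw [one_pow, one_mul, one_mul] at h1
  obtain ⟨θ, hθ⟩ := Cfsg.Agent.Lib.Helper12.C3uLeaf.exists_pow_ne hF
  have h2 := key θ
  have h3 : (θ ^ q - θ) * bt26 q M a a' = 0 := by linear_combination h2 - θ * h1
  rcases mul_eq_zero.mp h3 with h | h
  · exact absurd (sub_eq_zero.mp h) hθ
  · exact h

/-- `β = 0` -/
theorem eq_zero (C : Cone26 q M e f) : M = 0 := by
  have hF := C.hF
  have hq : q ≠ 0 := Cfsg.Agent.Lib.Helper23.TWUT.q_ne_zero hF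
  have hall : ∀ x y : Fin k → F, bt26 q M x y = 0 := by
    intro x y
    set a : Fin k → F := x - (hv q x f) • e - (hv q x e) • f with ha
    set a' : Fin k → F := y - (hv q y f) • e - (hv q y e) • f with ha'
    have hae : hv q a e = 0 := by
      rw [ha, hv_sub_left, hv_sub_left, hv_smul_left, hv_smul_left, C.hee, C.hfe]; ring
    have haf : hv q a f = 0 := by
      rw [ha, hv_sub_left, hv_sub_left, hv_smul_left, hv_smul_left, C.hef, C.hff]; ring
    have ha'e : hv q a' e = 0 := by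
      rw [ha', hv_sub_left, hv_sub_left, hv_smul_left, hv_smul_left, C.hee, C.hfe]; ring
    have ha'f : hv q a' f = 0 := by
      rw [ha', hv_sub_left, hv_sub_left, hv_smul_left, hv_smul_left, C.hef, C.hff]; ring
    have hx : x = (hv q x f) • e + (hv q x e) • f + a := by rw [ha]; abel
    have hy : y = (hv q y f) • e + (hv q y e) • f + a' := by rw [ha']; abel
    obtain ⟨h1, h2⟩ := C.bfa hae haf
    obtain ⟨h3, h4⟩ := C.symm.bfa haf hae
    obtain ⟨h5, h6⟩ := C.bfa ha'e ha'f
    obtain ⟨h7, h8⟩ := C.symm.bfa ha'f ha'e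
    rw [hx, hy]
    simp only [bt26_add_left, bt26_add_right hF, bt26_smul_left, bt26_smul_right]
    rw [C.cone e C.hee, C.cone f C.hff, C.bef, C.bfe, h2, h4, h5, h7, C.baa' hae haf ha'e ha'f]
    ring
  ext i j
  have h := hall (Pi.single j 1) (Pi.single i 1)
  unfold bt26 at h
  rw [Cfsg.Agent.Lib.Helper23.TWUT.hv_single_right hq, Matrix.mulVec_single_one, Matrix.col_apply] at h
  rw [h, Matrix.zero_apply]

end Cone26

/-- L3a a sesquilinear form vanishing on the isotropic cone is a multiple of the form, in matrix form -/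
theorem scalar_of_cone (hF : Fintype.card F = q ^ 2) (hk : 3 ≤ k) (hex : ¬ (q = 2 ∧ k = 3)) (M : Matrix (Fin k) (Fin k) F)
    (h : ∀ z : Fin k → F, hv q z z = 0 → hv q (M *ᵥ z) z = 0) : ∃ c : F, M = c • (1 : Matrix (Fin k) (Fin k) F) := by
  obtain ⟨e, he0, hee⟩ := Cfsg.Agent.Lib.Helper1.TWULeaf.exists_iso (k := k) hF (by omega)
  obtain ⟨f, hff, hef⟩ := Cfsg.Agent.Lib.Helper1.TWULeaf.exists_hyp_partner hF e he0 hee
  have hfe : hv q f e = 1 := by rw [← hv_conj hF, hef, one_pow]
  have hcone : ∀ z : Fin k → F, hv q z z = 0 → bt26 q M z z = 0 := h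
  -- `β(e,f) = β(f,e)`
  have hsym : bt26 q M e f = bt26 q M f e := by
    obtain ⟨σ, hσ0, hσ⟩ := Cfsg.Agent.Lib.Helper4.SUMLeaf.exists_skew hF
    have hz : hv q (e + σ • f) (e + σ • f) = 0 := by
      rw [hv_add_left, hv_add_right hF, hv_add_right hF, hv_smul_left, hv_smul_left, hv_smul_right, hv_smul_right, hee,
        hff, hef, hfe, hσ]
      ring
    have h1 := hcone _ hz
    simp only [bt26_add_left, bt26_add_right hF, bt26_smul_left, bt26_smul_right] at h1
    rw [hcone e hee, hcone f hff, hσ] at h1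
    have h2 : σ * (bt26 q M f e - bt26 q M e f) = 0 := by linear_combination h1
    rcases mul_eq_zero.mp h2 with h3 | h3
    · exact absurd h3 hσ0
    · linear_combination -h3
  set c : F := bt26 q M e f with hc
  refine ⟨c, ?_⟩
  have hb : ∀ x y : Fin k → F, bt26 q (M - c • (1 : Matrix (Fin k) (Fin k) F)) x y = bt26 q M x y - c * hv q x y := by
    intro x y
    unfold bt26
    rw [Matrix.sub_mulVec, Matrix.smul_mulVec, Matrix.one_mulVec, hv_sub_left, hv_smul_left]
  have C : Cone26 q (M - c • (1 : Matrix (Fin k) (Fin k) F)) e f := by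
    refine ⟨hF, ?_, hee, hff, hef, hfe, ?_, ?_⟩
    · intro z hz
      rw [hb, hcone z hz, hz]; ring
    · rw [hb, hef]; ring
    · rw [hb, hfe, ← hsym]; ring
  exact sub_eq_zero.mp C.eq_zero

end Cfsg.Agent.Lib.Helper26.TWU2ALeaf
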