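import Mathlib
import Cfsg.Agent.Lib.Helper5.TWU.Defs
import Cfsg.Agent.Lib.Helper19.TWU3Defs
import Cfsg.Agent.Lib.Helper28.TWU2ADefs
import Cfsg.Agent.Lib.Helper16.TWRootB
import Cfsg.Agent.Lib.Helper26.TWFibA
import Cfsg.Agent.Lib.Helper4.SUMT

/-!
# S5672 Stage II case A, leaves L3b `compress_entry`, L3c `compress_mem`
-/

set_option autoImplicit false
set_option linter.unusedSectionVars false
set_option linter.unusedVariables false

namespace Cfsg.Agent.Lib.Helper26.TWU2ALeaf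
open Matrix Cfsg.Geo Cfsg.Agent.Lib.Helper18.AschA89 Cfsg.Agent.Lib.Helper8.TW
open Cfsg.Agent.Lib.Helper5.TWU Cfsg.Agent.Lib.Helper19.TWU3 Cfsg.Agent.Lib.Helper28.TWU2A
open Cfsg.Agent.Lib.Helper20.UT (hv hv_add_left hv_add_right hv_smul_left hv_smul_right hv_conj hv_eq_dot
  neg_pow_q pow_q_pow_q')

variable {F : Type*} [Field F] [Fintype F] {t k q : ℕ}

/-- left multiplication by a slot matrix, entrywise -/
lemma slot_mul_apply26 (l : Fin t) (A : Matrix (Fin k) (Fin k) F) (M : Matrix (Idx t k) (Idx t k) F) (x x' : Idx t k) :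
    (slot k t l A * M) x x' = ∑ a, A (x l) a * M (Function.update x l a) x' := by
  have h := Cfsg.Agent.Lib.Helper26.TWLeaf.slot_mulVec_apply26 l A (fun y => M y x') x
  rw [← h]
  rfl

/-- right multiplication by a slot matrix, entrywise -/
lemma mul_slot_apply26 (l : Fin t) (A : Matrix (Fin k) (Fin k) F) (M : Matrix (Idx t k) (Idx t k) F) (x x' : Idx t k) :
    (M * slot k t l A) x x' = ∑ b, M x (Function.update x' l b) * A b (x' l) := by
  rw [Matrix.mul_apply]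
  have h1 : ∀ y : Idx t k, M x y * slot k t l A y x' =
      if (∀ j, j ≠ l → x' j = y j) then M x y * A (y l) (x' l) else 0 := by
    intro y
    rw [slot_apply]
    by_cases h : ∀ j, j ≠ l → y j = x' j
    · rw [if_pos h, if_pos (fun j hj => (h j hj).symm)]
    · rw [if_neg h, if_neg (fun h' => h (fun j hj => (h' j hj).symm)), mul_zero]
  simp only [h1]
  rw [Cfsg.Agent.Lib.Helper26.TWLeaf.sum_line26 l x' (fun y => M x y * A (y l) (x' l))]
  simp only [Function.update_self]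

/-- L3b (M) the entries of the compression `(z z†)_l Ψ (z z†)_l` -/
theorem compress_entry (l : Fin t) (z : Fin k → F) (Ψ : Matrix (Idx t k) (Idx t k) F) (x x' : Idx t k) :
    (slot k t l (vv q z z) * Ψ * slot k t l (vv q z z)) x x' =
      z (x l) * (z (x' l)) ^ q * ∑ a, ∑ b, (z a) ^ q * Ψ (Function.update x l a) (Function.update x' l b) * z b := by
  rw [mul_slot_apply26]
  simp only [slot_mul_apply26, vv_apply]
  rw [Finset.sum_comm, Finset.mul_sum]
  apply Finset.sum_congr rfl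
  intro b _
  rw [Finset.sum_mul, Finset.mul_sum]
  apply Finset.sum_congr rfl
  intro a _
  ring

/-- `(c z z†)² = 0` for isotropic `z` -/
lemma vvzz_sq26 (z : Fin k → F) (hz : hv q z z = 0) (c : F) : (c • vv q z z) * (c • vv q z z) = 0 := by
  have h0 : dag q z ⬝ᵥ z = 0 := by rw [← hv_eq_dot]; exact hz
  exact Cfsg.Agent.Lib.Helper16.TWLeaf.vmv_sq z (dag q z) h0 c

/-- `z z† u = hv(u, z) z` -/
lemma vv_mulVec26 (z w u : Fin k → F) : vv q z w *ᵥ u = hv q u w • z := by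
  funext a
  simp only [Matrix.mulVec, dotProduct, vv_apply, Pi.smul_apply, smul_eq_mul]
  unfold Cfsg.Agent.Lib.Helper20.UT.hv
  rw [Finset.sum_mul]
  apply Finset.sum_congr rfl
  intro b _
  ring

/-- the unitary transvections `1 + c z z†` lie in `SU(A)` -/
lemma unip_isSUA26 (hF : Fintype.card F = q ^ 2) (z : Fin k → F) (hz : hv q z z = 0) (c : F) (hc : c ^ q = -c) :
    IsSUA q (unip (c • vv q z z) (vvzz_sq26 z hz c)) := by
  refine ⟨?_, ?_⟩
  · intro u v
    have hval : ∀ x : Fin k → F, ((unip (c • vv q z z) (vvzz_sq26 z hz c) : GL (Fin k) F) : Matrix (Fin k) (Fin k) F) *ᵥ x =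
        x + (c * hv q x z) • z := by
      intro x
      rw [unip_val, Matrix.add_mulVec, Matrix.one_mulVec, Matrix.smul_mulVec, vv_mulVec26, smul_smul]
    rw [hval, hval]
    rw [hv_add_left, hv_add_right hF, hv_add_right hF, hv_smul_left, hv_smul_left, hv_smul_right, hv_smul_right, hz,
      mul_pow, hc, hv_conj hF]
    ring
  · rw [unip_val]
    have h0 : dag q z ⬝ᵥ z = 0 := by rw [← hv_eq_dot]; exact hz
    exact Cfsg.Agent.Lib.Helper16.TWLeaf.det_one_add_vmv z (dag q z) h0 c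

/-- for `q ≥ 3` the fixed field of `x ↦ x ^ q` has an element `≠ 0, 1` (a norm `x ^ (q+1)`) -/
lemma exists_fixed_ne26 (hF : Fintype.card F = q ^ 2) (hq : 3 ≤ q) : ∃ r : F, r ≠ 0 ∧ r ≠ 1 ∧ r ^ q = r := by
  classical
  have hS : ((Polynomial.nthRoots (q + 1) (1 : F)).toFinset).card ≤ q + 1 :=
    (Multiset.toFinset_card_le _).trans (Polynomial.card_nthRoots _ _)
  have hcard : (insert (0 : F) (Polynomial.nthRoots (q + 1) (1 : F)).toFinset).card <
      (Finset.univ : Finset F).card := by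
    rw [Finset.card_univ, hF]
    have h1 := Finset.card_insert_le (0 : F) (Polynomial.nthRoots (q + 1) (1 : F)).toFinset
    have h2 : q + 2 < q ^ 2 := by nlinarith
    omega
  obtain ⟨x, -, hx⟩ := Finset.exists_mem_notMem_of_card_lt_card hcard
  rw [Finset.mem_insert, Multiset.mem_toFinset, Polynomial.mem_nthRoots (by omega)] at hx
  push Not at hx
  refine ⟨x ^ (q + 1), pow_ne_zero _ hx.1, hx.2, ?_⟩
  rw [pow_succ, mul_pow, pow_q_pow_q' hF, mul_comm]

/-- ring identity behind the derivation step -/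
lemma conj_expand26 {ι : Type} [Fintype ι] [DecidableEq ι] (n Ψ : Matrix ι ι F) (c : F) :
    (1 + c • n) * Ψ * (1 + (-c) • n) + -Ψ = c • (n * Ψ - Ψ * n) - (c * c) • (n * Ψ * n) := by
  rw [add_mul, one_mul, add_mul, mul_add, mul_add, mul_one, mul_one, Matrix.smul_mul, Matrix.smul_mul, Matrix.mul_smul,
    Matrix.mul_smul]
  module

/-- module identity behind `compress_mem` -/
lemma comb26 {M : Type*} [AddCommGroup M] [Module F M] (P Q : M) (s c₀ : F) :
    (s * c₀) • P - ((s * c₀) * (s * c₀)) • Q + -(s • (c₀ • P - (c₀ * c₀) • Q)) = ((s - s * s) * (c₀ * c₀)) • Q := by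
  module

/-- the derivation step: `c [n, Ψ] - c² n Ψ n ∈ 𝒯` for skew `c` -/
lemma deriv_mem26 (hF : Fintype.card F = q ^ 2) (l : Fin t) (𝒯 : Matrix (Idx t k) (Idx t k) F → Prop)
    (h𝒯 : StableAt q l 𝒯) (z : Fin k → F) (hz : hv q z z = 0) (Ψ : Matrix (Idx t k) (Idx t k) F) (hΨ : 𝒯 Ψ)
    (c : F) (hc : c ^ q = -c) :
    𝒯 (c • (slot k t l (vv q z z) * Ψ - Ψ * slot k t l (vv q z z)) -
      (c * c) • (slot k t l (vv q z z) * Ψ * slot k t l (vv q z z))) := by
  have h1 := h𝒯.conj (unip (c • vv q z z) (vvzz_sq26 z hz c)) (unip_isSUA26 hF z hz c hc) Ψ hΨ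
  have h2 := h𝒯.add _ _ h1 (h𝒯.neg Ψ hΨ)
  have e1 : (1 : Matrix (Fin k) (Fin k) F) - c • vv q z z = 1 + (-c) • vv q z z := by rw [neg_smul, sub_eq_add_neg]
  rw [unip_val, unip_inv_val, e1, slot_add, slot_add, slot_one, slot_smul, slot_smul, conj_expand26] at h2
  exact h2

/-- L3c (M) `q ≥ 3`: `𝒯` is closed under compression -/
theorem compress_mem (hF : Fintype.card F = q ^ 2) (hq : 3 ≤ q) (l : Fin t) (𝒯 : Matrix (Idx t k) (Idx t k) F → Prop)
    (h𝒯 : StableAt q l 𝒯) (z : Fin k → F) (hz0 : z ≠ 0) (hz : hv q z z = 0) (Ψ : Matrix (Idx t k) (Idx t k) F) (hΨ : 𝒯 Ψ) :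
    𝒯 (slot k t l (vv q z z) * Ψ * slot k t l (vv q z z)) := by
  obtain ⟨c₀, hc0, hc⟩ := Cfsg.Agent.Lib.Helper4.SUMLeaf.exists_skew hF
  obtain ⟨s, hs0, hs1, hs⟩ := exists_fixed_ne26 hF hq
  set P := slot k t l (vv q z z) * Ψ - Ψ * slot k t l (vv q z z) with hP
  set Q := slot k t l (vv q z z) * Ψ * slot k t l (vv q z z) with hQ
  have hsc : (s * c₀) ^ q = -(s * c₀) := by rw [mul_pow, hs, hc]; ring
  have h1 : 𝒯 ((s * c₀) • P - ((s * c₀) * (s * c₀)) • Q) := deriv_mem26 hF l 𝒯 h𝒯 z hz Ψ hΨ (s * c₀) hsc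
  have h2 : 𝒯 (c₀ • P - (c₀ * c₀) • Q) := deriv_mem26 hF l 𝒯 h𝒯 z hz Ψ hΨ c₀ hc
  have h3 := h𝒯.add _ _ h1 (h𝒯.neg _ (h𝒯.smul s _ hs h2))
  set r : F := (s - s * s) * (c₀ * c₀) with hr
  have h4 : (s * c₀) • P - ((s * c₀) * (s * c₀)) • Q + -(s • (c₀ • P - (c₀ * c₀) • Q)) = r • Q := comb26 P Q s c₀
  rw [h4] at h3
  have hr0 : r ≠ 0 := by
    rw [hr]
    refine mul_ne_zero ?_ (mul_ne_zero hc0 hc0)
    intro h
    have : s * (1 - s) = 0 := by linear_combination h
    rcases mul_eq_zero.mp this with h' | h'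
    · exact hs0 h'
    · exact hs1 (by linear_combination -h')
  have hrq : r ^ q = r := by
    rw [hr, mul_pow, mul_pow, hc]
    have : (s - s * s) ^ q = s - s * s := by
      rw [sub_eq_add_neg, Cfsg.Agent.Lib.Helper20.UT.add_pow_q hF, neg_pow_q hF, mul_pow, hs]
    rw [this]; ring
  have hrinv : (r⁻¹) ^ q = r⁻¹ := by rw [inv_pow, hrq]
  have h5 := h𝒯.smul r⁻¹ _ hrinv h3
  rw [smul_smul, inv_mul_cancel₀ hr0, one_smul] at h5
  exact h5

end Cfsg.Agent.Lib.Helper26.TWU2ALeaf
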