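import Cfsg.Agent.Lib.Helper26.FSChain
import Cfsg.Agent.S0120
import Cfsg.Prelude.Def_PLocal

/-!
S5236: for odd `p`, a strongly closed subgroup `P` is normal in a saturated system iff `Ω₁(P)` has a
"central" series of strongly closed subgroups.
-/

set_option autoImplicit false

namespace Cfsg.Agent.Lib.Helper26

open Cfsg Cfsg.FusionSystem
open scoped commutatorElement

section GroupPart

variable {R : Type*} [Group R]

theorem aut_pow_fix {β : MulAut R} {x : R} (h : β x = x) (k : ℕ) : (β ^ k) x = x := by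
  induction k with
  | zero => simp
  | succ k ih => rw [pow_succ, MulAut.mul_apply, h, ih]

/-- restriction of an automorphism to an invariant subgroup -/
def autRestrict (β : MulAut R) (D : Subgroup R) (h : ∀ x, x ∈ D ↔ β x ∈ D) : MulAut D where
  toFun x := ⟨β x, (h x).mp x.2⟩
  invFun x := ⟨β.symm x, (h _).mpr (by rw [MulEquiv.apply_symm_apply]; exact x.2)⟩
  left_inv x := Subtype.ext (by simp)
  right_inv x := Subtype.ext (by simp)
  map_mul' x y := Subtype.ext (by simp)

theorem autRestrict_pow_apply (β : MulAut R) (D : Subgroup R) (h : ∀ x, x ∈ D ↔ β x ∈ D) (k : ℕ) (y : D) :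
    (((autRestrict β D h) ^ k) y : R) = (β ^ k) y := by
  induction k generalizing y with
  | zero => simp
  | succ k ih =>
    rw [pow_succ, pow_succ, MulAut.mul_apply, MulAut.mul_apply, ih]
    rfl

/-- **Ω₁-theorem, `p`-power form**: for `p` odd, an automorphism of a finite group preserving a `p`-subgroup `D`
and fixing its elements of order dividing `p` has a `p`-power fixing `D` pointwise. -/
theorem exists_pow_fix_of_fix_omega [Finite R] {p : ℕ} [Fact p.Prime] (hp : p ≠ 2) (β : MulAut R)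
    (D : Subgroup R) (hD : IsPGroup p D) (h : ∀ x, x ∈ D ↔ β x ∈ D)
    (hfix : ∀ x ∈ D, x ^ p = 1 → β x = x) : ∃ j : ℕ, ∀ x ∈ D, (β ^ (p ^ j)) x = x := by
  set δ := autRestrict β D h with hδ
  have hpos : 0 < orderOf δ := orderOf_pos δ
  obtain ⟨j, m, hm, hN⟩ := Nat.exists_eq_pow_mul_and_not_dvd hpos.ne' p (Fact.out : p.Prime).ne_one
  have hcop : Nat.Coprime (orderOf (δ ^ (p ^ j))) p := by
    have hpj : p ^ j ≠ 0 := pow_ne_zero _ (Fact.out : p.Prime).ne_zero
    rw [orderOf_pow' δ hpj, hN]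
    have : Nat.gcd (p ^ j * m) (p ^ j) = p ^ j := Nat.gcd_eq_right (Dvd.intro _ rfl)
    rw [this, Nat.mul_div_cancel_left _ (Nat.pos_of_ne_zero hpj)]
    exact Nat.Coprime.symm ((Nat.Prime.coprime_iff_not_dvd Fact.out).mpr hm)
  have hone : δ ^ (p ^ j) = 1 := by
    apply Cfsg.Agent.S0120.result hp hD (δ ^ (p ^ j)) hcop
    intro x hx
    apply aut_pow_fix
    apply Subtype.ext
    show β x = x
    apply hfix x x.2
    have := congrArg Subtype.val hx
    simpa using this
  refine ⟨j, fun x hx => ?_⟩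
  have := autRestrict_pow_apply β D h (p ^ j) ⟨x, hx⟩
  rw [← hδ, hone] at this
  exact this.symm

end GroupPart

variable {Ω : Type*} [Group Ω] {S : Subgroup Ω}

theorem mem_omegaOne_of_pow {p : ℕ} {P : Subgroup Ω} {x : Ω} (hx : x ∈ P) (hxp : x ^ p = 1) :
    x ∈ omegaOne p P := Subgroup.subset_closure ⟨hx, hxp⟩

/-- ⇐ direction of S5236, ℕ-indexed chain. -/
theorem isNormal_of_omega_nat_chain [Finite S] {p : ℕ} [Fact p.Prime] (hp : p ≠ 2) (hS : IsPGroup p S)
    (F : FusionSystem S) (hF : F.IsSaturated p) (P : Subgroup Ω) (hP : F.StronglyClosed P)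
    (Qn : ℕ → Subgroup Ω) (hmono : Monotone Qn) (h0 : Qn 0 = ⊥) (n : ℕ)
    (hn : ∀ i, n ≤ i → Qn i = omegaOne p P) (hsc : ∀ i, F.StronglyClosed (Qn i))
    (hcomm : ∀ i, i < n → ⁅Qn (i + 1), P⁆ ≤ Qn i) : F.IsNormal P := by
  rw [isNormal_iff_stronglyClosed_le_centric_radical hS F hF]
  refine ⟨hP, fun R hc hr => ?_⟩
  have hRS : R ≤ S := hc.1
  have hfinR : Finite R := finite_of_le hRS
  have hRp : IsPGroup p R := hS.to_le hRS
  have hPn : S ≤ Subgroup.normalizer (P : Set Ω) := le_normalizer_of_stronglyClosed F hP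
  -- chain A
  let TA : ℕ → Subgroup R := fun i => if i = 0 then P.subgroupOf R else ⊤
  have hTA0 : TA 0 = P.subgroupOf R := if_pos rfl
  have hTAs : ∀ i, TA (i + 1) = ⊤ := fun i => if_neg (Nat.succ_ne_zero i)
  have hTAmono : Monotone TA := by
    intro i j hij
    rcases Nat.eq_zero_or_pos j with rfl | hj
    · have : i = 0 := Nat.le_zero.mp hij
      rw [this]
    · obtain ⟨j', rfl⟩ := Nat.exists_eq_succ_of_ne_zero hj.ne'
      rw [hTAs]; exact le_top
  -- chain B
  let TB : ℕ → Subgroup R := fun i => (Qn i).subgroupOf R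
  have hTBmono : Monotone TB := fun i j hij x hx => hmono hij hx
  have hinvA : ∀ γ ∈ F.autGroup R, ∀ i x, x ∈ TA i ↔ γ x ∈ TA i := by
    intro γ hγ i x
    rcases Nat.eq_zero_or_pos i with rfl | hi
    · rw [hTA0]; exact mem_iff_aut_mem_of_stronglyClosed F hP hRS hγ x
    · obtain ⟨i', rfl⟩ := Nat.exists_eq_succ_of_ne_zero hi.ne'
      rw [hTAs]; simp
  have hinvB : ∀ γ ∈ F.autGroup R, ∀ i x, x ∈ TB i ↔ γ x ∈ TB i := fun γ hγ i x =>
    mem_iff_aut_mem_of_stronglyClosed F (hsc i) hRS hγ x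
  have hXnA := chainStab_inf_normal TA hTAmono (F.autGroup R) hinvA
  have hXnB := chainStab_inf_normal TB hTBmono (F.autGroup R) hinvB
  set X : Subgroup (MulAut R) :=
    (chainStab TA hTAmono ⊓ F.autGroup R) ⊓ (chainStab TB hTBmono ⊓ F.autGroup R) with hXdef
  have hXle : X ≤ F.autGroup R := inf_le_left.trans inf_le_right
  have hXn : (X.subgroupOf (F.autGroup R)).Normal := by
    have : X.subgroupOf (F.autGroup R) =
        (chainStab TA hTAmono ⊓ F.autGroup R).subgroupOf (F.autGroup R) ⊓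
          (chainStab TB hTBmono ⊓ F.autGroup R).subgroupOf (F.autGroup R) := by
      ext x
      simp only [Subgroup.mem_subgroupOf, Subgroup.mem_inf, hXdef]
    rw [this]
    infer_instance
  have hTfin : ∀ (T : ℕ → Subgroup R) i, Finite (T i) := fun T i => inferInstance
  have hTp : ∀ (T : ℕ → Subgroup R) i, ∃ m, Nat.card (T i) = p ^ m := fun T i =>
    IsPGroup.iff_card.mp (hRp.to_subgroup (T i))
  have hXp : IsPGroup p X := by
    rintro ⟨α, hα⟩
    have hαA : α ∈ F.autGroup R := hXle hα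
    have hαTA : α ∈ chainStab TA hTAmono := hα.1.1
    have hαTB : α ∈ chainStab TB hTBmono := hα.2.1
    -- step 1
    obtain ⟨k1, hk1⟩ := stab_chain TB hTBmono (hTfin TB) (hTp TB)
      ⟨0, fun x hx => by
        have hx' : (x : Ω) ∈ Qn 0 := hx
        rw [h0, Subgroup.mem_bot] at hx'
        have : x = 1 := Subtype.ext hx'
        rw [this, map_one]⟩ hαTB.2 n
    -- step 2
    have hβA : α ^ (p ^ k1) ∈ F.autGroup R := Subgroup.pow_mem _ hαA _
    have hDp : IsPGroup p (P.subgroupOf R) := hRp.to_subgroup _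
    obtain ⟨j, hj⟩ := exists_pow_fix_of_fix_omega hp (α ^ (p ^ k1)) (P.subgroupOf R) hDp
      (fun x => mem_iff_aut_mem_of_stronglyClosed F hP hRS hβA x)
      (fun x hx hxp => by
        apply hk1
        show (x : Ω) ∈ Qn n
        rw [hn n le_rfl]
        refine mem_omegaOne_of_pow hx ?_
        have := congrArg Subtype.val hxp
        simpa using this)
    -- step 3
    obtain ⟨k, hk⟩ := stab_chain TA hTAmono (hTfin TA) (hTp TA)
      ⟨k1 + j, fun x hx => by
        rw [hTA0] at hx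
        have := hj x hx
        rwa [← pow_mul, ← pow_add] at this⟩ hαTA.2 1
    refine ⟨k, ?_⟩
    apply Subtype.ext
    show α ^ (p ^ k) = 1
    ext x
    have := hk x (by rw [hTAs 0]; exact Subgroup.mem_top x)
    rw [this]; rfl
  apply le_of_centric_radical_of_aut_mem hS F hc hr hP.1 hPn X hXle hXn hXp
  intro q hq hqN
  have hqA : R.normalizerMonoidHom ⟨q, hqN⟩ ∈ F.autGroup R :=
    autInducedBy_le_autGroup F hRS (normalizerMonoidHom_mem_autInducedBy (hP.1 hq) hqN)
  have hcomm_eq : ∀ x : R, ((x⁻¹ * R.normalizerMonoidHom ⟨q, hqN⟩ x : R) : Ω) = ⁅(x : Ω)⁻¹, q⁆ := by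
    intro x
    show (x : Ω)⁻¹ * (q * x * q⁻¹) = (x : Ω)⁻¹ * q * ((x : Ω)⁻¹)⁻¹ * q⁻¹
    simp [mul_assoc]
  refine ⟨⟨⟨hinvA _ hqA, fun i x _ => ?_⟩, hqA⟩, ⟨⟨hinvB _ hqA, fun i x hx => ?_⟩, hqA⟩⟩
  · -- chain A: x⁻¹ c_q(x) ∈ P
    rcases Nat.eq_zero_or_pos i with rfl | hi
    · rw [hTA0]
      show ((x⁻¹ * R.normalizerMonoidHom ⟨q, hqN⟩ x : R) : Ω) ∈ P
      rw [hcomm_eq]
      -- ⁅x⁻¹, q⁆ = (x⁻¹ q x) q⁻¹ ∈ P
      have hxS : (x : Ω)⁻¹ ∈ S := S.inv_mem (hRS x.2)
      have h1 : (x : Ω)⁻¹ * q * ((x : Ω)⁻¹)⁻¹ ∈ P :=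
        (Subgroup.mem_normalizer_iff.mp (hPn hxS) q).mp hq
      rw [commutatorElement_def]
      exact P.mul_mem h1 (P.inv_mem hq)
    · obtain ⟨i', rfl⟩ := Nat.exists_eq_succ_of_ne_zero hi.ne'
      rw [hTAs]; exact Subgroup.mem_top _
  · -- chain B
    show ((x⁻¹ * R.normalizerMonoidHom ⟨q, hqN⟩ x : R) : Ω) ∈ Qn i
    by_cases hi : i < n
    · rw [hcomm_eq]
      apply hcomm i hi
      have hx' : (x : Ω)⁻¹ ∈ Qn (i + 1) := Subgroup.inv_mem _ hx
      exact Subgroup.commutator_mem_commutator hx' hq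
    · have hi' : n ≤ i := Nat.le_of_not_lt hi
      have hx' : (x : Ω) ∈ Qn i := by
        have : (x : Ω) ∈ Qn (i + 1) := hx
        rw [hn (i + 1) (by omega)] at this
        rw [hn i hi']; exact this
      have hx'' : x ∈ TB i := hx'
      have h2 : R.normalizerMonoidHom ⟨q, hqN⟩ x ∈ TB i := (hinvB _ hqA i x).mp hx''
      exact (Qn i).mul_mem ((Qn i).inv_mem hx') h2

/-- ⇐ direction of S5236, `Fin`-indexed chain. -/
theorem isNormal_of_omega_fin_chain [Finite S] {p : ℕ} [Fact p.Prime] (hp : p ≠ 2) (hS : IsPGroup p S)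
    (F : FusionSystem S) (hF : F.IsSaturated p) (P : Subgroup Ω) (hP : F.StronglyClosed P)
    (n : ℕ) (Q : Fin (n + 1) → Subgroup Ω) (h0 : Q 0 = ⊥) (hlast : Q (Fin.last n) = omegaOne p P)
    (hmono : Monotone Q) (hsc : ∀ i : Fin (n + 1), F.StronglyClosed (Q i))
    (hcomm : ∀ i : Fin n, ⁅Q i.succ, P⁆ ≤ Q i.castSucc) : F.IsNormal P := by
  let Qn : ℕ → Subgroup Ω := fun i => Q ⟨min i n, by omega⟩
  apply isNormal_of_omega_nat_chain hp hS F hF P hP Qn ?_ ?_ n ?_ ?_ ?_
  · intro i j hij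
    apply hmono
    apply Fin.mk_le_mk.mpr
    exact min_le_min_right n hij
  · show Q ⟨min 0 n, _⟩ = ⊥
    have : (⟨min 0 n, by omega⟩ : Fin (n + 1)) = 0 := by
      apply Fin.ext; simp
    rw [this, h0]
  · intro i hi
    show Q ⟨min i n, _⟩ = _
    have : (⟨min i n, by omega⟩ : Fin (n + 1)) = Fin.last n := by
      apply Fin.ext; simp [hi]
    rw [this, hlast]
  · intro i
    exact hsc _
  · intro i hi
    show ⁅Q ⟨min (i + 1) n, _⟩, P⁆ ≤ Q ⟨min i n, _⟩
    have e1 : (⟨min (i + 1) n, by omega⟩ : Fin (n + 1)) = (⟨i, hi⟩ : Fin n).succ := by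
      apply Fin.ext
      simp only [Fin.val_succ]
      omega
    have e2 : (⟨min i n, by omega⟩ : Fin (n + 1)) = Fin.castSucc (⟨i, hi⟩ : Fin n) := by
      apply Fin.ext
      simp only [Fin.val_castSucc]
      omega
    rw [e1, e2]
    exact hcomm _

section Forward

variable {P' : Type*} [Group P']

/-- iterated commutators `[W, P, …, P]` -/
def iterComm (W : Subgroup P') : ℕ → Subgroup P'
  | 0 => W
  | (j + 1) => ⁅iterComm W j, ⊤⁆

theorem iterComm_characteristic (W : Subgroup P') [hW : W.Characteristic] (j : ℕ) :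
    (iterComm W j).Characteristic := by
  induction j with
  | zero => exact hW
  | succ j ih =>
    show (⁅iterComm W j, ⊤⁆ : Subgroup P').Characteristic
    infer_instance

theorem iterComm_le_lcs (W : Subgroup P') (j : ℕ) :
    iterComm W j ≤ (⊤ : Subgroup P').lowerCentralSeries j := by
  induction j with
  | zero => exact le_top
  | succ j ih =>
    show ⁅iterComm W j, ⊤⁆ ≤ _
    rw [Subgroup.lowerCentralSeries_succ]
    exact Subgroup.commutator_mono ih le_rfl

theorem iterComm_antitone (W : Subgroup P') [hW : W.Characteristic] : Antitone (iterComm W) := by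
  apply antitone_nat_of_succ_le
  intro j
  have := iterComm_characteristic W j
  show ⁅iterComm W j, ⊤⁆ ≤ iterComm W j
  exact Subgroup.commutator_le_left _ _

/-- the subgroup of elements of order dividing `p` generates a characteristic subgroup -/
instance omegaSub_characteristic (p : ℕ) :
    (Subgroup.closure {x : P' | x ^ p = 1}).Characteristic := by
  rw [Subgroup.characteristic_iff_map_le]
  intro φ
  rw [MonoidHom.map_closure]
  apply Subgroup.closure_mono
  rintro _ ⟨x, hx, rfl⟩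
  show (φ x) ^ p = 1
  rw [← map_pow, show x ^ p = 1 from hx, map_one]

end Forward

theorem omegaOne_eq_map {p : ℕ} (P : Subgroup Ω) :
    omegaOne p P = (Subgroup.closure {x : P | x ^ p = 1}).map P.subtype := by
  rw [MonoidHom.map_closure]
  unfold omegaOne
  congr 1
  ext x
  constructor
  · rintro ⟨hx, hxp⟩
    exact ⟨⟨x, hx⟩, Subtype.ext (by simpa using hxp), rfl⟩
  · rintro ⟨y, hy, rfl⟩
    refine ⟨y.2, ?_⟩
    have := congrArg Subtype.val (show y ^ p = 1 from hy)
    simpa using this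

/-- ⇒ direction of S5236. -/
theorem exists_omega_fin_chain_of_isNormal [Finite S] {p : ℕ} [Fact p.Prime] (hS : IsPGroup p S)
    (F : FusionSystem S) (P : Subgroup Ω) (hP : F.IsNormal P) :
    ∃ (n : ℕ) (Q : Fin (n + 1) → Subgroup Ω), Q 0 = ⊥ ∧ Q (Fin.last n) = omegaOne p P ∧ Monotone Q ∧
      (∀ i : Fin (n + 1), F.StronglyClosed (Q i)) ∧ ∀ i : Fin n, ⁅Q i.succ, P⁆ ≤ Q i.castSucc := by
  have hfin : Finite P := finite_of_le hP.1
  have hnil : Group.IsNilpotent P := (hS.to_le hP.1).isNilpotent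
  obtain ⟨c, hc⟩ := Subgroup.nilpotent_iff_lowerCentralSeries.mp hnil
  set W : Subgroup P := Subgroup.closure {x : P | x ^ p = 1} with hW
  have hWc : W.Characteristic := omegaSub_characteristic p
  have hCc : iterComm W c = ⊥ := le_bot_iff.mp ((iterComm_le_lcs W c).trans hc.le)
  refine ⟨c, fun i => (iterComm W (c - i)).map P.subtype, ?_, ?_, ?_, ?_, ?_⟩
  · show (iterComm W (c - 0)).map P.subtype = ⊥
    rw [Nat.sub_zero, hCc, Subgroup.map_bot]
  · show (iterComm W (c - c)).map P.subtype = omegaOne p P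
    rw [Nat.sub_self, omegaOne_eq_map]
    rfl
  · intro i j hij
    apply Subgroup.map_mono
    apply iterComm_antitone W
    have : (i : ℕ) ≤ j := hij
    omega
  · intro i
    apply stronglyClosed_of_isNormal F
    apply isNormal_of_characteristic F P _ hP (Subgroup.map_subtype_le _)
    have : ((iterComm W (c - i)).map P.subtype).subgroupOf P = iterComm W (c - i) :=
      Subgroup.comap_map_eq_self_of_injective P.subtype_injective _
    rw [this]
    exact iterComm_characteristic W _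
  · intro i
    show ⁅(iterComm W (c - (i.succ : ℕ))).map P.subtype, P⁆ ≤
      (iterComm W (c - (Fin.castSucc i : ℕ))).map P.subtype
    have hi : (i : ℕ) < c := i.2
    have e1 : c - (Fin.castSucc i : ℕ) = (c - (i.succ : ℕ)) + 1 := by
      simp only [Fin.val_castSucc, Fin.val_succ]
      omega
    rw [e1]
    show _ ≤ (⁅iterComm W (c - (i.succ : ℕ)), ⊤⁆ : Subgroup P).map P.subtype
    rw [Subgroup.map_commutator]
    have : (⊤ : Subgroup P).map P.subtype = P := by
      rw [← MonoidHom.range_eq_map, Subgroup.range_subtype]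
    rw [this]

/-- S5236. -/
theorem isNormal_iff_omega_fin_chain [Finite S] {p : ℕ} [Fact p.Prime] (hS : IsPGroup p S)
    (F : FusionSystem S) (hF : F.IsSaturated p) (hp : p ≠ 2) (P : Subgroup Ω) (hP : F.StronglyClosed P) :
    F.IsNormal P ↔ ∃ (n : ℕ) (Q : Fin (n + 1) → Subgroup Ω), Q 0 = ⊥ ∧ Q (Fin.last n) = omegaOne p P ∧
      Monotone Q ∧ (∀ i : Fin (n + 1), F.StronglyClosed (Q i)) ∧
      ∀ i : Fin n, ⁅Q i.succ, P⁆ ≤ Q i.castSucc := by
  constructor
  · exact exists_omega_fin_chain_of_isNormal hS F P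
  · rintro ⟨n, Q, h0, hlast, hmono, hsc, hcomm⟩
    exact isNormal_of_omega_fin_chain hp hS F hF P hP n Q h0 hlast hmono hsc hcomm

end Cfsg.Agent.Lib.Helper26
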