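import Cfsg.Agent.Lib.Helper26.FSEssential
import Cfsg.Agent.Lib.Helper26.Stability
import Cfsg.Agent.Lib.Helper26.FSOmegaNormal
import Cfsg.Agent.Lib.Helper16.PCore

/-!
Essential subgroups admit no chain of invariant subgroups with all factors of order `p`
(abstract formulation via `EssData`).
-/

set_option autoImplicit false
universe u

namespace Cfsg.Agent.Lib.Helper26

open Cfsg Cfsg.FusionSystem

section General

variable {H : Type u} [Group H]

/-- An automorphism of `p`-power order acts trivially on an invariant section of order `p`. -/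
theorem triv_on_section' [Finite H] {p : ℕ} [Fact p.Prime] (M N : Subgroup H) (hNM : N ≤ M)
    (hn : (N.subgroupOf M).Normal) (hcard : Nat.card M = p * Nat.card N) (u : MulAut H)
    (hM : ∀ x, x ∈ M ↔ u x ∈ M) (hN : ∀ x, x ∈ N ↔ u x ∈ N) {j : ℕ} (hu : u ^ (p ^ j) = 1) :
    ∀ m ∈ M, m⁻¹ * u m ∈ N := by
  have hpp : p.Prime := Fact.out
  haveI := hn
  have hcardQ : Nat.card (↥M ⧸ N.subgroupOf M) = p := by
    have h1 := Subgroup.card_eq_card_quotient_mul_card_subgroup (N.subgroupOf M)
    rw [Nat.card_congr (Subgroup.subgroupOfEquivOfLe hNM).toEquiv, hcard] at h1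
    have hpos : 0 < Nat.card N := Nat.card_pos
    exact (Nat.eq_of_mul_eq_mul_right hpos h1).symm
  have hcyc : IsCyclic (↥M ⧸ N.subgroupOf M) := isCyclic_of_prime_card hcardQ
  have hmap : (N.subgroupOf M).map ((autRestrict u M hM : ↥M ≃* ↥M) : ↥M →* ↥M) = N.subgroupOf M := by
    ext ⟨x, hx⟩
    rw [Subgroup.mem_map, Subgroup.mem_subgroupOf]
    constructor
    · rintro ⟨⟨y, hy⟩, hyN, hyx⟩
      rw [Subgroup.mem_subgroupOf] at hyN
      have : u y = x := congrArg Subtype.val hyx
      show x ∈ N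
      rw [← this]
      exact (hN y).mp hyN
    · intro hxN
      have hxN' : x ∈ N := hxN
      have h1 : u⁻¹ x ∈ N := by
        rw [hN, MulAut.apply_inv_self]
        exact hxN'
      have h2 : u⁻¹ x ∈ M := by
        rw [hM, MulAut.apply_inv_self]
        exact hx
      refine ⟨⟨u⁻¹ x, h2⟩, ?_, ?_⟩
      · rw [Subgroup.mem_subgroupOf]
        exact h1
      · apply Subtype.ext
        show u (u⁻¹ x) = x
        rw [MulAut.apply_inv_self]
  obtain ⟨σ, hσ⟩ : ∃ σ : MulAut (↥M ⧸ N.subgroupOf M), σ =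
      QuotientGroup.congr (N.subgroupOf M) (N.subgroupOf M) (autRestrict u M hM) hmap := ⟨_, rfl⟩
  have hσmk : ∀ x : M, σ (QuotientGroup.mk x) = QuotientGroup.mk (autRestrict u M hM x) := by
    intro x
    rw [hσ]
    rfl
  have hσpow : ∀ (i : ℕ) (x : M), (σ ^ i) (QuotientGroup.mk x) = QuotientGroup.mk ((autRestrict u M hM ^ i) x) := by
    intro i
    induction i with
    | zero => intro x; simp
    | succ i ih =>
      intro x
      rw [pow_succ, pow_succ, MulAut.mul_apply, MulAut.mul_apply, hσmk, ih]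
  have hσp : σ ^ (p ^ j) = 1 := by
    ext q
    induction q using QuotientGroup.induction_on with
    | H x =>
      rw [hσpow]
      congr 1
      apply Subtype.ext
      rw [autRestrict_pow_apply, hu]
      rfl
  have hσ1 : σ = 1 := by
    have h1 : orderOf σ ∣ p ^ j := orderOf_dvd_of_pow_eq_one hσp
    have h2 : orderOf σ ∣ Nat.card (MulAut (↥M ⧸ N.subgroupOf M)) := orderOf_dvd_natCard σ
    rw [IsCyclic.card_mulAut, hcardQ, Nat.totient_prime hpp] at h2
    have h3 : orderOf σ ∣ Nat.gcd (p ^ j) (p - 1) := Nat.dvd_gcd h1 h2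
    have h4 : Nat.gcd (p ^ j) (p - 1) = 1 := by
      have h2p := hpp.two_le
      have : Nat.Coprime p (p - 1) := Nat.coprime_of_lt_prime (by omega) (by omega) hpp
      exact Nat.Coprime.pow_left j this
    rw [h4, Nat.dvd_one, orderOf_eq_one_iff] at h3
    exact h3
  intro m hm
  have h1 := hσmk ⟨m, hm⟩
  rw [hσ1, MulAut.one_apply] at h1
  have h2 := QuotientGroup.eq.mp h1
  rw [Subgroup.mem_subgroupOf] at h2
  exact h2

/-- The abstract data carried by the automizer of an essential subgroup. -/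
structure EssData (p : ℕ) (H : Type u) [Group H] (A : Subgroup (MulAut H)) : Prop where
  inn_le : Inn H ≤ A
  core : ∀ N : Subgroup A, N.Normal → IsPGroup p N → ∀ x ∈ N, (x : MulAut H) ∈ Inn H
  out : ∃ α ∈ A, α ∉ Inn H ∧ ∃ j : ℕ, α ^ (p ^ j) = 1

theorem EssData.normal_of_inv {p : ℕ} {A : Subgroup (MulAut H)} (hd : EssData p H A) {K : Subgroup H}
    (hK : ∀ γ ∈ A, ∀ x, x ∈ K ↔ γ x ∈ K) : K.Normal := by
  constructor
  intro x hx g
  have := (hK (MulAut.conj g) (hd.inn_le ⟨g, rfl⟩) x).mp hx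
  rwa [MulAut.conj_apply] at this

/-- No chain of invariant subgroups with factors of order `p` (or trivial). -/
theorem EssData.no_chain [Finite H] {p : ℕ} [Fact p.Prime] (hH : IsPGroup p H) {A : Subgroup (MulAut H)}
    (hd : EssData p H A) (T : ℕ → Subgroup H) (hmono : Monotone T) (h0 : T 0 = ⊥) (n : ℕ) (hn : T n = ⊤)
    (hinv : ∀ γ ∈ A, ∀ i x, x ∈ T i ↔ γ x ∈ T i)
    (hstep : ∀ i, Nat.card (T (i + 1)) = p * Nat.card (T i) ∨ T (i + 1) = T i) : False := by
  obtain ⟨α, hαA, hαInn, j, hαj⟩ := hd.out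
  have hnorm : ∀ i, (T i).Normal := fun i => hd.normal_of_inv (fun γ hγ x => hinv γ hγ i x)
  have hα : α ∈ chainStab T hmono := by
    refine ⟨hinv α hαA, fun i x hx => ?_⟩
    rcases hstep i with hc | he
    · haveI := hnorm i
      exact triv_on_section' (T (i + 1)) (T i) (hmono (Nat.le_succ i)) inferInstance hc α
        (hinv α hαA (i + 1)) (hinv α hαA i) hαj x hx
    · rw [he] at hx
      exact (T i).mul_mem ((T i).inv_mem hx) ((hinv α hαA i x).mp hx)
  have hBn := chainStab_inf_normal T hmono A hinv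
  have hBp0 : IsPGroup p ↥(chainStab T hmono ⊓ A) := by
    apply isPGroup_of_chainStab T hmono (fun i => inferInstance)
      (fun i => (hH.to_subgroup (T i)).exists_card_eq) n hn _ inf_le_left
    intro β _
    refine ⟨0, fun x hx => ?_⟩
    rw [h0, Subgroup.mem_bot] at hx
    rw [hx, map_one]
  have hBp : IsPGroup p ↥((chainStab T hmono ⊓ A).subgroupOf A) := hBp0.comap_subtype
  apply hαInn
  exact hd.core _ hBn hBp ⟨α, hαA⟩ (by rw [Subgroup.mem_subgroupOf]; exact ⟨hα, hαA⟩)

/-- With trivial inner automorphism group, the data gives `p ∣ |A|` and trivial `p`-core. -/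
theorem EssData.of_comm [Finite H] {p : ℕ} [Fact p.Prime] {A : Subgroup (MulAut H)} (hd : EssData p H A)
    (hcomm : ∀ a b : H, a * b = b * a) :
    p ∣ Nat.card A ∧ ∀ N : Subgroup A, N.Normal → IsPGroup p N → N = ⊥ := by
  have hpp : p.Prime := Fact.out
  have hinn : ∀ α : MulAut H, α ∈ Inn H → α = 1 := by
    rintro _ ⟨g, rfl⟩
    ext x
    rw [MulAut.conj_apply, hcomm g x, mul_inv_cancel_right]
    rfl
  constructor
  · obtain ⟨α, hαA, hαInn, j, hαj⟩ := hd.out
    have hne : α ≠ 1 := fun h => hαInn (h ▸ one_mem _)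
    have h1 : orderOf α ∣ p ^ j := orderOf_dvd_of_pow_eq_one hαj
    obtain ⟨i, -, hi⟩ := (Nat.dvd_prime_pow hpp).mp h1
    have hi0 : i ≠ 0 := by
      rintro rfl
      rw [pow_zero, orderOf_eq_one_iff] at hi
      exact hne hi
    have h2 : p ∣ orderOf (⟨α, hαA⟩ : A) := by
      rw [Subgroup.orderOf_mk, hi]
      exact dvd_pow_self p hi0
    exact h2.trans (orderOf_dvd_natCard _)
  · intro N hN hNp
    rw [eq_bot_iff]
    intro x hx
    rw [Subgroup.mem_bot]
    apply Subtype.ext
    exact hinn _ (hd.core N hN hNp x hx)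

end General

variable {Ω : Type u} [Group Ω] {S : Subgroup Ω}

/-- The automizer of an essential subgroup carries `EssData`. -/
theorem essData_of_essential [Finite S] {p : ℕ} [Fact p.Prime] (hS : IsPGroup p S) (F : FusionSystem S)
    {H : Subgroup Ω} (hH : F.IsEssential p H) : EssData p ↥H (F.autGroup H) := by
  have hpp : p.Prime := Fact.out
  have hHS : H ≤ S := hH.1.1
  have hfinH : Finite H := finite_of_le hHS
  have hrad := (radical_of_essential hS F H hH).2
  obtain ⟨hn, E, hE⟩ := hH.2.2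
  refine ⟨inn_le_autGroup F hHS, ?_, ?_⟩
  · intro N hN hNp x hx
    rw [← hrad]
    exact ⟨x, Cfsg.Agent.Lib.Helper16.le_pCore hN hNp hx, rfl⟩
  · have hdvd : p ∣ Nat.card (F.autGroup H ⧸ (Inn H).subgroupOf (F.autGroup H)) := hE.1
    obtain ⟨q, hq⟩ := exists_prime_orderOf_dvd_card' p hdvd
    obtain ⟨⟨α, hαA⟩, rfl⟩ := QuotientGroup.mk_surjective q
    have hq1 : (QuotientGroup.mk (⟨α, hαA⟩ : F.autGroup H) :
        F.autGroup H ⧸ (Inn H).subgroupOf (F.autGroup H)) ^ p = 1 := by
      rw [← hq]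
      exact pow_orderOf_eq_one _
    rw [← QuotientGroup.mk_pow, QuotientGroup.eq_one_iff, Subgroup.mem_subgroupOf] at hq1
    have hαp : α ^ p ∈ Inn H := hq1
    refine ⟨α, hαA, ?_, ?_⟩
    · intro hαInn
      have : (QuotientGroup.mk (⟨α, hαA⟩ : F.autGroup H) :
          F.autGroup H ⧸ (Inn H).subgroupOf (F.autGroup H)) = 1 := by
        rw [QuotientGroup.eq_one_iff, Subgroup.mem_subgroupOf]
        exact hαInn
      rw [this, orderOf_one] at hq
      exact hpp.one_lt.ne hq
    · obtain ⟨m, hm⟩ := (inn_isPGroup hS hHS) ⟨α ^ p, hαp⟩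
      refine ⟨m + 1, ?_⟩
      have := congrArg Subtype.val hm
      rw [pow_succ', pow_mul]
      simpa using this

end Cfsg.Agent.Lib.Helper26
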