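import Mathlib
set_option autoImplicit false

/-!
helper26: shared definitions for S5289 (rank two resistant): `omegaSub p E` (the subgroup generated by the
elements of order dividing `p`), and the action `rhoHom p E : Aut(E) → Aut(D / Z(D))`, `D = omegaSub p E`.
-/

namespace Cfsg.Agent.Lib.Helper26.R5

/-- `Ω₁(E)`: the subgroup generated by the elements `x` with `x ^ p = 1`. -/
def omegaSub (p : ℕ) (E : Type*) [Group E] : Subgroup E := Subgroup.closure {x : E | x ^ p = 1}

theorem mem_omegaSub_of_pow {p : ℕ} {E : Type*} [Group E] {x : E} (hx : x ^ p = 1) : x ∈ omegaSub p E :=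
  Subgroup.subset_closure hx

theorem map_omegaSub_le {p : ℕ} {E : Type*} [Group E] (φ : E ≃* E) :
    (omegaSub p E).map φ.toMonoidHom ≤ omegaSub p E := by
  unfold omegaSub
  rw [MonoidHom.map_closure, Subgroup.closure_le]
  rintro _ ⟨x, hx, rfl⟩
  apply Subgroup.subset_closure
  show (φ x) ^ p = 1
  rw [← map_pow, show x ^ p = 1 from hx, map_one]

instance omegaSub_characteristic (p : ℕ) (E : Type*) [Group E] : (omegaSub p E).Characteristic :=
  Subgroup.characteristic_iff_map_le.mpr (fun φ => map_omegaSub_le φ)

/-- the automorphism of `L ⧸ Z(L)` induced by an automorphism of `L` -/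
def quotCenterAut (L : Type*) [Group L] : MulAut L →* MulAut (L ⧸ Subgroup.center L) where
  toFun α := QuotientGroup.congr (Subgroup.center L) (Subgroup.center L) α
    (Subgroup.characteristic_iff_map_eq.mp inferInstance α)
  map_one' := by
    ext q
    induction q using QuotientGroup.induction_on with
    | H x => rfl
  map_mul' α β := by
    ext q
    induction q using QuotientGroup.induction_on with
    | H x => rfl

theorem quotCenterAut_apply_mk (L : Type*) [Group L] (α : MulAut L) (l : L) :
    quotCenterAut L α (QuotientGroup.mk l) = QuotientGroup.mk (α l) := rfl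

/-- The action of `Aut(E)` on `D / Z(D)`, `D = Ω₁(E)`. -/
def rhoHom (p : ℕ) (E : Type*) [Group E] :
    MulAut E →* MulAut (↥(omegaSub p E) ⧸ Subgroup.center ↥(omegaSub p E)) :=
  (quotCenterAut ↥(omegaSub p E)).comp (MulAut.characteristic (omegaSub p E))

theorem rhoHom_apply_mk (p : ℕ) (E : Type*) [Group E] (γ : MulAut E) (d : ↥(omegaSub p E)) :
    rhoHom p E γ (QuotientGroup.mk d) = QuotientGroup.mk (MulAut.characteristic (omegaSub p E) γ d) := rfl

theorem coe_characteristic_apply (p : ℕ) (E : Type*) [Group E] (γ : MulAut E) (d : ↥(omegaSub p E)) :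
    ((MulAut.characteristic (omegaSub p E) γ d : ↥(omegaSub p E)) : E) = γ (d : E) := rfl

/-- `rhoHom γ = 1` iff `γ` moves every element of `D` by an element of `Z(D)`. -/
theorem rhoHom_eq_one_iff (p : ℕ) (E : Type*) [Group E] (γ : MulAut E) :
    rhoHom p E γ = 1 ↔ ∀ d : ↥(omegaSub p E),
      d⁻¹ * MulAut.characteristic (omegaSub p E) γ d ∈ Subgroup.center ↥(omegaSub p E) := by
  constructor
  · intro h d
    have h1 : rhoHom p E γ (QuotientGroup.mk d) = QuotientGroup.mk d := by rw [h]; rfl
    rw [rhoHom_apply_mk] at h1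
    exact QuotientGroup.eq.mp h1.symm
  · intro h
    ext q
    induction q using QuotientGroup.induction_on with
    | H d =>
      rw [rhoHom_apply_mk]
      exact (QuotientGroup.eq.mpr (h d)).symm

end Cfsg.Agent.Lib.Helper26.R5
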