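/-
helper26: definitions for S4257 (class size prime graph, connected => diameter <= 3).
`Spec u z`: a `u`-element commuting with all its conjugates; `Small x y`: all commutators `[g, x]`
stabilize the class of `y` under right multiplication; `Hyp`: two sets of primes `Sg ∋ p`, `Th ∋ q`
closed under adjacency from `p` resp. `q`, with no class size divisible by a prime of each.
-/
import Mathlib
import Cfsg.Agent.Lib.Helper17.ClassGraph2

set_option autoImplicit false

namespace Cfsg.Agent.Lib.Helper26.CSD

open Cfsg.Agent.Lib.Helper17.ClassGraph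
open scoped commutatorElement

variable {G : Type*} [Group G]

/-- A `u`-element commuting with all its conjugates. -/
def Spec (u : ℕ) (z : G) : Prop :=
  u.Prime ∧ (∃ j : ℕ, orderOf z = u ^ j) ∧ ∀ g : G, Commute z (g * z * g⁻¹)

/-- `x` is small with respect to `y`: all commutators `[g, x]` lie in the right stabilizer of the
class of `y`. -/
def Small (x y : G) : Prop := ∀ g : G, ⁅g, x⁆ ∈ rstab (cl y)

/-- The hypothesis package: `p` and `q` are at distance at least 4 in the class size prime graph. -/
structure Hyp (G : Type*) [Group G] (Sg Th : Set ℕ) (p q : ℕ) : Prop where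
  sep : ∀ (g : G) (s t : ℕ), s ∈ Sg → t ∈ Th → s.Prime → t.Prime → s ∣ ind g → t ∣ ind g → False
  pprime : p.Prime
  qprime : q.Prime
  closP : ∀ (g : G) (t : ℕ), t.Prime → p ∣ ind g → t ∣ ind g → t ∈ Sg
  closQ : ∀ (g : G) (t : ℕ), t.Prime → q ∣ ind g → t ∣ ind g → t ∈ Th
  exP : ∃ g : G, p ∣ ind g
  exQ : ∃ g : G, q ∣ ind g

theorem Hyp.symm {Sg Th : Set ℕ} {p q : ℕ} (h : Hyp G Sg Th p q) : Hyp G Th Sg q p where
  sep := fun g s t hs ht hsp htp hsg htg => h.sep g t s ht hs htp hsp htg hsg
  pprime := h.qprime
  qprime := h.pprime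
  closP := h.closQ
  closQ := h.closP
  exP := h.exQ
  exQ := h.exP

end Cfsg.Agent.Lib.Helper26.CSD
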