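import Mathlib
import Cfsg.Prelude.Def_CaseTheorems

/-!
# Half-transitive linear `p`-groups (S3371): basic definitions

`stab ρ v` (stabilizer of a vector as a subgroup), `HalfT ρ` (all nonzero vectors have
stabilizers of the same order), `Semireg ρ` (no nonidentity element fixes a nonzero vector).
-/

set_option autoImplicit false

namespace Cfsg.Agent.Lib.Helper26.HT

variable {q : ℕ} [Fact q.Prime] {V : Type*} [AddCommGroup V] [Module (ZMod q) V]
  {G : Type*} [Group G]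

/-- The stabilizer of the vector `v` under `ρ`. -/
def stab (ρ : G →* (V ≃ₗ[ZMod q] V)) (v : V) : Subgroup G where
  carrier := {g | ρ g v = v}
  one_mem' := by simp
  mul_mem' := by
    intro a b ha hb
    show ρ (a * b) v = v
    have ha' : ρ a v = v := ha
    have hb' : ρ b v = v := hb
    rw [map_mul, LinearEquiv.mul_apply, hb', ha']
  inv_mem' := by
    intro a ha
    show ρ a⁻¹ v = v
    have ha' : ρ a v = v := ha
    have h : ρ a⁻¹ (ρ a v) = v := by
      rw [← LinearEquiv.mul_apply, ← map_mul, inv_mul_cancel, map_one]; rfl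
    rwa [ha'] at h

theorem mem_stab (ρ : G →* (V ≃ₗ[ZMod q] V)) (v : V) (g : G) : g ∈ stab ρ v ↔ ρ g v = v :=
  Iff.rfl

/-- All nonzero vectors have stabilizers of the same order. -/
def HalfT (ρ : G →* (V ≃ₗ[ZMod q] V)) : Prop :=
  ∀ v w : V, v ≠ 0 → w ≠ 0 → Nat.card (stab ρ v) = Nat.card (stab ρ w)

/-- No nonidentity element fixes a nonzero vector. -/
def Semireg (ρ : G →* (V ≃ₗ[ZMod q] V)) : Prop :=
  ∀ v : V, v ≠ 0 → ∀ g : G, ρ g v = v → g = 1

/-- `ρ g⁻¹ (ρ g v) = v`. -/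
theorem inv_apply_apply (ρ : G →* (V ≃ₗ[ZMod q] V)) (g : G) (v : V) : ρ g⁻¹ (ρ g v) = v := by
  rw [← LinearEquiv.mul_apply, ← map_mul, inv_mul_cancel, map_one]; rfl

/-- `ρ g (ρ g⁻¹ v) = v`. -/
theorem apply_inv_apply (ρ : G →* (V ≃ₗ[ZMod q] V)) (g : G) (v : V) : ρ g (ρ g⁻¹ v) = v := by
  rw [← LinearEquiv.mul_apply, ← map_mul, mul_inv_cancel, map_one]; rfl

theorem mul_apply' (ρ : G →* (V ≃ₗ[ZMod q] V)) (g h : G) (v : V) : ρ (g * h) v = ρ g (ρ h v) := by
  rw [map_mul]; rfl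

theorem one_apply' (ρ : G →* (V ≃ₗ[ZMod q] V)) (v : V) : ρ 1 v = v := by
  rw [map_one]; rfl

/-- The imprimitive configuration delivered by S3380 for `p = 2`. -/
structure Imp2 (ρ : G →* (V ≃ₗ[ZMod q] V)) (H : Subgroup G)
    (W : Fin 2 → Submodule (ZMod q) V) : Prop where
  index : H.index = 2
  sup : iSup W = ⊤
  indep : iSupIndep W
  inv : ∀ h ∈ H, ∀ i, ∀ w ∈ W i, ρ h w ∈ W i
  ker : ∀ i, ∃ h ∈ H, h ≠ 1 ∧ ∀ w ∈ W i, ρ h w = w
  swap : ∀ g : G, g ∉ H → ∃ σ : Equiv.Perm (Fin 2), orderOf σ = 2 ∧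
    ∀ i, (W i).map (ρ g : V →ₗ[ZMod q] V) = W (σ i)

namespace Imp2

variable {ρ : G →* (V ≃ₗ[ZMod q] V)} {H : Subgroup G} {W : Fin 2 → Submodule (ZMod q) V}

theorem perm_two (σ : Equiv.Perm (Fin 2)) (hσ : orderOf σ = 2) : σ 0 = 1 ∧ σ 1 = 0 := by
  have h1 : σ ≠ 1 := by
    intro h
    rw [h, orderOf_one] at hσ
    exact absurd hσ (by norm_num)
  have h0 : σ 0 = 1 := by
    by_contra h
    have h00 : σ 0 = 0 := by
      have : ∀ x : Fin 2, x ≠ 1 → x = 0 := by decide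
      exact this _ h
    have h11 : σ 1 = 1 := by
      by_contra h'
      have : ∀ x : Fin 2, x ≠ 1 → x = 0 := by decide
      have h10 : σ 1 = 0 := this _ h'
      have := σ.injective (h00.trans h10.symm)
      exact absurd this (by decide)
    apply h1
    ext i
    fin_cases i
    · simp [h00]
    · simp [h11]
  refine ⟨h0, ?_⟩
  by_contra h
  have : ∀ x : Fin 2, x ≠ 0 → x = 1 := by decide
  have h11 : σ 1 = 1 := this _ h
  have := σ.injective (h0.trans h11.symm)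
  exact absurd this (by decide)

theorem map_mem (h : Imp2 ρ H W) {g : G} (hg : g ∉ H) :
    (∀ w ∈ W 0, ρ g w ∈ W 1) ∧ (∀ w ∈ W 1, ρ g w ∈ W 0) := by
  obtain ⟨σ, hσ, hmap⟩ := h.swap g hg
  obtain ⟨h0, h1⟩ := perm_two σ hσ
  constructor
  · intro w hw
    have := hmap 0
    rw [h0] at this
    rw [← this]
    exact Submodule.mem_map_of_mem hw
  · intro w hw
    have := hmap 1
    rw [h1] at this
    rw [← this]
    exact Submodule.mem_map_of_mem hw

theorem disj (h : Imp2 ρ H W) {w : V} (h0 : w ∈ W 0) (h1 : w ∈ W 1) : w = 0 := by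
  have hd : Disjoint (W 0) (W 1) := h.indep.pairwiseDisjoint (by decide : (0 : Fin 2) ≠ 1)
  exact (Submodule.disjoint_def.mp hd) w h0 h1

theorem decomp (h : Imp2 ρ H W) (v : V) : ∃ w0 ∈ W 0, ∃ w1 ∈ W 1, v = w0 + w1 := by
  have htop : (⊤ : Submodule (ZMod q) V) ≤ W 0 ⊔ W 1 := by
    rw [← h.sup]
    refine iSup_le (fun i => ?_)
    fin_cases i
    · exact le_sup_left
    · exact le_sup_right
  have hv : v ∈ W 0 ⊔ W 1 := htop Submodule.mem_top
  obtain ⟨w0, hw0, w1, hw1, hsum⟩ := Submodule.mem_sup.mp hv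
  exact ⟨w0, hw0, w1, hw1, hsum.symm⟩

theorem uniq (h : Imp2 ρ H W) {a0 a1 b0 b1 : V} (ha0 : a0 ∈ W 0) (ha1 : a1 ∈ W 1)
    (hb0 : b0 ∈ W 0) (hb1 : b1 ∈ W 1) (he : a0 + a1 = b0 + b1) : a0 = b0 ∧ a1 = b1 := by
  have hd : a0 - b0 = b1 - a1 := by
    have : a0 - b0 - (b1 - a1) = (a0 + a1) - (b0 + b1) := by abel
    rw [he, sub_self] at this
    exact sub_eq_zero.mp this
  have hz : a0 - b0 = 0 :=
    h.disj ((W 0).sub_mem ha0 hb0) (hd ▸ (W 1).sub_mem hb1 ha1)
  refine ⟨sub_eq_zero.mp hz, ?_⟩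
  rw [hz] at hd
  exact (sub_eq_zero.mp hd.symm).symm

theorem mul_mem_of_not_mem (h : Imp2 ρ H W) {g g' : G} (hg : g ∉ H) (hg' : g' ∉ H) :
    g * g' ∈ H := by
  by_contra hgg
  have := (Subgroup.mul_mem_iff_of_index_two h.index).not.mp hgg
  tauto

theorem exists_not_mem (h : Imp2 ρ H W) : ∃ t : G, t ∉ H := by
  by_contra hall
  push Not at hall
  have : H = ⊤ := by
    rw [eq_top_iff]; intro g _; exact hall g
  have hi := h.index
  rw [this, Subgroup.index_top] at hi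
  exact absurd hi (by norm_num)

theorem inv_not_mem {g : G} (hg : g ∉ H) : g⁻¹ ∉ H := fun h => hg (by simpa using H.inv_mem h)

theorem normal (h : Imp2 ρ H W) : H.Normal := Subgroup.normal_of_index_eq_two h.index

end Imp2

end Cfsg.Agent.Lib.Helper26.HT
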