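/-
helper26: leaf N1 of S4146 (helper16's market).
-/
import Mathlib
import Cfsg.Agent.Lib.Helper16.NM.Base
import Cfsg.Agent.S4127

set_option autoImplicit false

namespace Cfsg.Agent.Lib.Helper26.NM

open Cfsg.Agent.Lib.Helper22.ClsSet Cfsg.Agent.Lib.Helper16.NM

/-- every class size divides `n * m` -/
theorem idx_dvd_mul {G : Type*} [Group G] {n m : ℕ} (h : CS G n m) (y : G) : idx y ∣ n * m := by
  rcases h.cs y with h1 | h1 | h1 | h1
  · rw [h1]; exact one_dvd _
  · rw [h1]; exact dvd_mul_right n m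
  · rw [h1]; exact dvd_mul_left m n
  · rw [h1]

variable {G : Type*} [Group G] [Finite G] {n m : ℕ}

/-- N1: no `s`-element of index `n = s^a` when `M` has a non-central normal `s`-subgroup -/
theorem N1 (h : CS G n m) (hlt : m < n) {s : ℕ} [Fact s.Prime] {a : ℕ} (hn : n = s ^ a)
    (V : Subgroup G) [V.Normal] (hVp : IsPGroup s V) (hVM : V ≤ M h hlt)
    (hnt : ¬ V ≤ Subgroup.center G) {g : G} (hg : PEl s g) (hig : idx g = n) : False := by
  have hs : s.Prime := Fact.out
  have ha : a ≠ 0 := by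
    rintro rfl
    have := h.one_lt_n
    rw [hn, pow_zero] at this
    omega
  have hsn : s ∣ n := by
    rw [hn]
    exact dvd_pow_self s ha
  have hsm : ¬ s ∣ m := by
    intro hd
    have : s ∣ Nat.gcd n m := Nat.dvd_gcd hsn hd
    rw [h.cop] at this
    exact hs.one_lt.ne' (Nat.dvd_one.1 this)
  have hmax : ∀ y : G, ¬ s ^ (a + 1) ∣ (Subgroup.centralizer ({y} : Set G)).index := by
    intro y hd
    have h1 : s ^ (a + 1) ∣ n * m := hd.trans (idx_dvd_mul h y)
    rw [hn, pow_succ] at h1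
    exact hsm (Nat.dvd_of_mul_dvd_mul_left (pow_pos hs.pos a) h1)
  have hx : ∃ x : G, (∃ k : ℕ, orderOf x = s ^ k) ∧
      (Subgroup.centralizer ({x} : Set G)).index = s ^ a := ⟨g, hg, by rw [← hn]; exact hig⟩
  obtain ⟨P, K, hKn, hKc⟩ := Cfsg.Agent.S4127.result s a hmax hx
  -- `|K|` is prime to `s`
  have hcardP : Nat.card (P : Subgroup G) = s ^ (Nat.card G).factorization s :=
    P.card_eq_multiplicity
  have hmul : Nat.card K * Nat.card (P : Subgroup G) = Nat.card G := hKc.card_mul_card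
  obtain ⟨f, hf⟩ : ∃ f : ℕ, f = (Nat.card G).factorization s := ⟨_, rfl⟩
  rw [← hf] at hcardP
  have hKcop : Nat.Coprime (Nat.card K) s := by
    rw [Nat.coprime_comm, Nat.Prime.coprime_iff_not_dvd hs]
    intro hd
    have h2 : s ^ (f + 1) ∣ Nat.card G := by
      rw [← hmul, hcardP, pow_succ, mul_comm]
      exact Nat.mul_dvd_mul_right hd _
    rw [hf] at h2
    exact Nat.pow_succ_factorization_not_dvd (Nat.card_pos.ne') hs h2
  -- `K` centralizes `V`
  have hKV : K ⊓ V = ⊥ := by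
    apply disjoint_iff.1
    apply Subgroup.disjoint_of_coprime_natCard
    obtain ⟨j, hj⟩ := IsPGroup.iff_card.1 hVp
    rw [hj]
    exact Nat.Coprime.pow_right j hKcop
  obtain ⟨v, hvV, hvZ⟩ := SetLike.not_le_iff_exists.1 hnt
  have hidx : idx v = m := by
    rcases (mem_M h hlt v).1 (hVM hvV) with h1 | h1
    · exact absurd ((idx_eq_one_iff v).1 h1) hvZ
    · exact h1
  have hle : K ≤ Subgroup.centralizer ({v} : Set G) := by
    intro k hk
    rw [mem_cent_singleton]
    have hc : k * v * k⁻¹ * v⁻¹ ∈ K ⊓ V := by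
      refine Subgroup.mem_inf.2 ⟨?_, ?_⟩
      · have h1 : v * k⁻¹ * v⁻¹ ∈ K := hKn.conj_mem k⁻¹ (K.inv_mem hk) v
        have h2 := K.mul_mem hk h1
        have e : k * (v * k⁻¹ * v⁻¹) = k * v * k⁻¹ * v⁻¹ := by group
        rwa [e] at h2
      · have h1 : k * v * k⁻¹ ∈ V := ‹V.Normal›.conj_mem v hvV k
        exact V.mul_mem h1 (V.inv_mem hvV)
    rw [hKV, Subgroup.mem_bot] at hc
    calc v * k = (k * v * k⁻¹ * v⁻¹)⁻¹ * (k * v) := by group
      _ = k * v := by rw [hc, inv_one, one_mul]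
  have hdvd : m ∣ K.index := by
    rw [← hidx]
    exact Subgroup.index_dvd_of_le hle
  rw [hKc.symm.index_eq_card, hcardP] at hdvd
  have hcop : Nat.Coprime m (s ^ f) := by
    apply Nat.Coprime.pow_right
    rw [Nat.coprime_comm, Nat.Prime.coprime_iff_not_dvd hs]
    exact hsm
  have := Nat.Coprime.eq_one_of_dvd hcop hdvd
  have := h.one_lt_m
  omega

end Cfsg.Agent.Lib.Helper26.NM
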