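/-
helper26: leaf GD of S4146 (helper16's market).
-/
import Mathlib
import Cfsg.Agent.Lib.Helper16.NM.Base
import Cfsg.Agent.Lib.Helper24.BGBeta2
import Cfsg.Agent.S4127
import Cfsg.Agent.Lib.Helper26.NMN1

set_option autoImplicit false

namespace Cfsg.Agent.Lib.Helper26.NM

open Cfsg.Agent.Lib.Helper22.ClsSet Cfsg.Agent.Lib.Helper16.NM

variable {G : Type*} [Group G] [Finite G] {n m : ℕ}

/-- GD (good case: S4127 for every prime) -/
theorem GD (h : CS G n m) {s t : ℕ} [Fact s.Prime] [Fact t.Prime] (hst : s ≠ t)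
    {u x : G} (hu : PEl s u) (hx : PEl t x) (hiu : idx u = m) (hix : idx x = n)
    {a b : ℕ} (hn : n = t ^ a) (hm : m = s ^ b) : Group.IsNilpotent G := by
  have hs : s.Prime := Fact.out
  have ht : t.Prime := Fact.out
  have hts : ¬ t ∣ s ^ b := by
    intro hd
    have := (Nat.prime_dvd_prime_iff_eq ht hs).1 (ht.dvd_of_dvd_pow hd)
    exact hst this.symm
  have hst' : ¬ s ∣ t ^ a := by
    intro hd
    have := (Nat.prime_dvd_prime_iff_eq hs ht).1 (hs.dvd_of_dvd_pow hd)
    exact hst this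
  apply Cfsg.Agent.Lib.Helper24.BGBeta.isNilpotent_of_forall_npc
  intro p hp _
  have : Fact p.Prime := ⟨hp⟩
  by_cases hpt : p = t
  · subst hpt
    apply Cfsg.Agent.S4127.result p a
    · intro y hd
      have h1 : p ^ (a + 1) ∣ n * m := hd.trans (idx_dvd_mul h y)
      rw [hn, hm, pow_succ] at h1
      exact hts (Nat.dvd_of_mul_dvd_mul_left (pow_pos ht.pos a) h1)
    · exact ⟨x, hx, by rw [← hn]; exact hix⟩
  · by_cases hps : p = s
    · subst hps
      apply Cfsg.Agent.S4127.result p b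
      · intro y hd
        have h1 : p ^ (b + 1) ∣ n * m := hd.trans (idx_dvd_mul h y)
        rw [hn, hm, pow_succ, mul_comm (t ^ a)] at h1
        exact hst' (Nat.dvd_of_mul_dvd_mul_left (pow_pos hs.pos b) h1)
      · exact ⟨u, hu, by rw [← hm]; exact hiu⟩
    · apply Cfsg.Agent.S4127.result p 0
      · intro y hd
        have h1 : p ^ (0 + 1) ∣ n * m := hd.trans (idx_dvd_mul h y)
        rw [zero_add, pow_one, hn, hm] at h1
        rcases (Nat.Prime.dvd_mul hp).1 h1 with h2 | h2
        · exact hpt ((Nat.prime_dvd_prime_iff_eq hp ht).1 (hp.dvd_of_dvd_pow h2))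
        · exact hps ((Nat.prime_dvd_prime_iff_eq hp hs).1 (hp.dvd_of_dvd_pow h2))
      · refine ⟨1, ⟨0, by rw [orderOf_one, pow_zero]⟩, ?_⟩
        rw [pow_zero]
        exact idx_one

end Cfsg.Agent.Lib.Helper26.NM
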