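import Mathlib
import Cfsg.Agent.Lib.Helper27.OPMinDefs

/-!
# S2345 leaf CON1 (helper26), part REL: block-matrix identities for `radMat`, `leviMat`, `swapMat`

Pure `fromBlocks` identities for the matrices of helper27's `OPMinDefs`: additivity of `radMat`,
multiplicativity of `leviMat`, the conjugation `leviMat g * radMat R = radMat (g R gᵀ) * leviMat g`,
invariance of the hyperbolic form, the swaps `swapMat a`, the double swap `wMat a b` and the permutation
matrix `tMat a b` of a transposition.
-/

set_option autoImplicit false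
set_option linter.unusedSimpArgs false

namespace Cfsg.Agent.Lib.Helper26.OPMin

open Matrix Cfsg.Agent.Lib.Helper27.OPMin

variable {F : Type*} [Field F] {n : ℕ}

/-! ### the radical -/

theorem radMat_add (R S : Matrix (Fin n) (Fin n) F) : radMat (R + S) = radMat R * radMat S := by
  unfold radMat
  rw [fromBlocks_multiply]
  simp only [Matrix.mul_one, Matrix.one_mul, Matrix.mul_zero, Matrix.zero_mul, add_zero, zero_add,
    transpose_add]
  congr 1
  abel

theorem radMat_of_symm (R : Matrix (Fin n) (Fin n) F) (h : Rᵀ = R) : radMat R = 1 := by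
  unfold radMat
  rw [h, sub_self, fromBlocks_one]

theorem radMat_zero : radMat (0 : Matrix (Fin n) (Fin n) F) = 1 :=
  radMat_of_symm 0 transpose_zero

theorem radMat_mul_neg (R : Matrix (Fin n) (Fin n) F) : radMat R * radMat (-R) = 1 := by
  rw [← radMat_add, add_neg_cancel, radMat_zero]

theorem radMat_neg_mul (R : Matrix (Fin n) (Fin n) F) : radMat (-R) * radMat R = 1 := by
  rw [← radMat_add, neg_add_cancel, radMat_zero]

/-! ### the Levi factor -/

theorem leviMat_mul (g h : Matrix (Fin n) (Fin n) F) :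
    leviMat (g * h) = leviMat g * leviMat h := by
  unfold leviMat
  rw [fromBlocks_multiply]
  simp only [Matrix.mul_zero, Matrix.zero_mul, add_zero, zero_add]
  rw [Matrix.mul_inv_rev, transpose_mul]

theorem leviMat_one : leviMat (1 : Matrix (Fin n) (Fin n) F) = 1 := by
  unfold leviMat
  rw [inv_one, transpose_one, fromBlocks_one]

theorem leviMat_mul_inv {g : Matrix (Fin n) (Fin n) F} (hg : IsUnit g.det) :
    leviMat g * leviMat g⁻¹ = 1 := by
  rw [← leviMat_mul, Matrix.mul_nonsing_inv _ hg, leviMat_one]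

theorem leviMat_inv_mul {g : Matrix (Fin n) (Fin n) F} (hg : IsUnit g.det) :
    leviMat g⁻¹ * leviMat g = 1 := by
  rw [← leviMat_mul, Matrix.nonsing_inv_mul _ hg, leviMat_one]

theorem leviMat_mul_radMat {g : Matrix (Fin n) (Fin n) F} (hg : IsUnit g.det)
    (R : Matrix (Fin n) (Fin n) F) :
    leviMat g * radMat R = radMat (g * R * gᵀ) * leviMat g := by
  unfold leviMat radMat
  rw [fromBlocks_multiply, fromBlocks_multiply]
  simp only [Matrix.mul_one, Matrix.one_mul, Matrix.mul_zero, Matrix.zero_mul, add_zero, zero_add]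
  congr 1
  rw [transpose_mul, transpose_mul, transpose_transpose, Matrix.mul_assoc g R gᵀ,
    ← Matrix.mul_sub, ← Matrix.sub_mul, Matrix.mul_assoc,
    Matrix.mul_assoc, ← transpose_mul, Matrix.nonsing_inv_mul _ hg, transpose_one, Matrix.mul_one]

/-! ### isometries -/

theorem quadFormPlus_eq_dot (v : Fin n ⊕ Fin n → F) :
    Cfsg.quadFormPlus n F v = (v ∘ Sum.inl) ⬝ᵥ (v ∘ Sum.inr) := rfl

theorem quadFormPlus_radMat (R : Matrix (Fin n) (Fin n) F) (v : Fin n ⊕ Fin n → F) :
    Cfsg.quadFormPlus n F (radMat R *ᵥ v) = Cfsg.quadFormPlus n F v := by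
  rw [quadFormPlus_eq_dot, quadFormPlus_eq_dot]
  unfold radMat
  rw [fromBlocks_mulVec]
  simp only [Matrix.zero_mulVec, Matrix.one_mulVec, zero_add, Sum.elim_comp_inl, Sum.elim_comp_inr]
  rw [add_dotProduct, Matrix.sub_mulVec, sub_dotProduct, Matrix.mulVec_transpose,
    ← Matrix.dotProduct_mulVec, dotProduct_comm (R *ᵥ _), sub_self, add_zero]

theorem quadFormPlus_leviMat {g : Matrix (Fin n) (Fin n) F} (hg : IsUnit g.det)
    (v : Fin n ⊕ Fin n → F) :
    Cfsg.quadFormPlus n F (leviMat g *ᵥ v) = Cfsg.quadFormPlus n F v := by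
  rw [quadFormPlus_eq_dot, quadFormPlus_eq_dot]
  unfold leviMat
  rw [fromBlocks_mulVec]
  simp only [Matrix.zero_mulVec, zero_add, add_zero, Sum.elim_comp_inl, Sum.elim_comp_inr]
  rw [Matrix.dotProduct_mulVec, Matrix.vecMul_transpose, Matrix.mulVec_mulVec,
    Matrix.nonsing_inv_mul _ hg, Matrix.one_mulVec]

/-! ### the swaps -/

theorem single_self_mul_self (a : Fin n) :
    (single a a (1 : F) : Matrix (Fin n) (Fin n) F) * single a a 1 = single a a 1 := by
  rw [single_mul_single_same, mul_one]

theorem swapMat_mul_self (a : Fin n) : (swapMat a : Matrix _ _ F) * swapMat a = 1 := by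
  unfold swapMat
  rw [fromBlocks_multiply, ← fromBlocks_one]
  have hP := single_self_mul_self (F := F) a
  congr 1 <;>
  · simp only [Matrix.sub_mul, Matrix.mul_sub, Matrix.one_mul, Matrix.mul_one, hP]
    abel

theorem quadFormPlus_swapMat (a : Fin n) (v : Fin n ⊕ Fin n → F) :
    Cfsg.quadFormPlus n F (swapMat a *ᵥ v) = Cfsg.quadFormPlus n F v := by
  unfold Cfsg.quadFormPlus swapMat
  rw [fromBlocks_mulVec]
  apply Finset.sum_congr rfl
  intro i _
  simp only [Sum.elim_inl, Sum.elim_inr, Pi.add_apply, Matrix.sub_mulVec, Matrix.one_mulVec,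
    Pi.sub_apply, single_mulVec, one_mul, Function.comp_apply]
  by_cases h : i = a
  · subst h
    simp only [Function.update_self]
    ring
  · simp only [Function.update_of_ne h, Pi.zero_apply]
    ring

/-- the diagonal matrix with `s` at `a` and `1` elsewhere -/
def dg (a : Fin n) (s : F) : Matrix (Fin n) (Fin n) F :=
  Matrix.diagonal fun i => if i = a then s else 1

theorem dsq_eq_dg (a : Fin n) (s : Fˣ) : dsq a s = dg a ((s : F) ^ 2) := rfl

theorem dg_mul_dg (a : Fin n) (s t : F) : dg a s * dg a t = dg a (s * t) := by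
  unfold dg
  rw [diagonal_mul_diagonal]
  congr 1
  funext i
  by_cases h : i = a <;> simp [h]

theorem dg_one (a : Fin n) : dg a (1 : F) = 1 := by
  unfold dg
  rw [← diagonal_one]
  congr 1
  funext i
  by_cases h : i = a <;> simp [h]

theorem dg_transpose (a : Fin n) (s : F) : (dg a s)ᵀ = dg a s := diagonal_transpose _

theorem dg_inv (a : Fin n) {s : F} (hs : s ≠ 0) : (dg a s)⁻¹ = dg a s⁻¹ := by
  apply Matrix.inv_eq_right_inv
  rw [dg_mul_dg, mul_inv_cancel₀ hs, dg_one]

theorem isUnit_det_dg (a : Fin n) {s : F} (hs : s ≠ 0) : IsUnit (dg a s).det := by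
  apply Matrix.isUnit_det_of_right_inverse (B := dg a s⁻¹)
  rw [dg_mul_dg, mul_inv_cancel₀ hs, dg_one]

theorem leviMat_dg (a : Fin n) {s : F} (hs : s ≠ 0) :
    leviMat (dg a s) = fromBlocks (dg a s) 0 0 (dg a s⁻¹) := by
  unfold leviMat
  rw [dg_inv a hs, dg_transpose]

theorem swapMat_eq_diag (a : Fin n) :
    (swapMat a : Matrix _ _ F) =
      fromBlocks (diagonal fun i => if i = a then 0 else 1) (diagonal fun i => if i = a then 1 else 0)
        (diagonal fun i => if i = a then 1 else 0) (diagonal fun i => if i = a then 0 else 1) := by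
  have h1 : (single a a (1 : F) : Matrix (Fin n) (Fin n) F) =
      diagonal fun i => if i = a then 1 else 0 := by
    rw [← diagonal_single]
    congr 1
    funext i
    rw [Pi.single_apply]
  have h2 : (1 - single a a (1 : F) : Matrix (Fin n) (Fin n) F) =
      diagonal fun i => if i = a then 0 else 1 := by
    rw [h1]
    ext i j
    rw [Matrix.sub_apply, Matrix.one_apply, diagonal_apply, diagonal_apply]
    by_cases hij : i = j
    · subst hij
      by_cases h : i = a <;> simp [h]
    · simp [hij]
  unfold swapMat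
  rw [h2, h1]

theorem swapMat_mul_leviMat_dg (a : Fin n) {s : F} (hs : s ≠ 0) :
    swapMat a * leviMat (dg a s) = leviMat (dg a s⁻¹) * swapMat a := by
  rw [leviMat_dg a hs, leviMat_dg a (inv_ne_zero hs), inv_inv, swapMat_eq_diag]
  unfold dg
  rw [fromBlocks_multiply, fromBlocks_multiply]
  simp only [Matrix.mul_zero, Matrix.zero_mul, add_zero, zero_add, diagonal_mul_diagonal]
  congr 1 <;>
  · congr 1
    funext i
    by_cases h : i = a <;> simp [h]

/-! ### the double swaps -/

/-- the idempotent `E_aa + E_bb` -/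
def pi2 (a b : Fin n) : Matrix (Fin n) (Fin n) F := single a a 1 + single b b 1

theorem pi2_mul_self {a b : Fin n} (hab : a ≠ b) :
    (pi2 a b : Matrix (Fin n) (Fin n) F) * pi2 a b = pi2 a b := by
  unfold pi2
  simp only [Matrix.add_mul, Matrix.mul_add, single_mul_single_same,
    single_mul_single_of_ne _ _ _ _ hab, single_mul_single_of_ne _ _ _ _ hab.symm, mul_one,
    add_zero, zero_add]

/-- the double swap in block form -/
def wMat (a b : Fin n) : Matrix (Fin n ⊕ Fin n) (Fin n ⊕ Fin n) F :=
  fromBlocks (1 - pi2 a b) (pi2 a b) (pi2 a b) (1 - pi2 a b)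

theorem swapMat_mul_swapMat {a b : Fin n} (hab : a ≠ b) :
    (swapMat a : Matrix _ _ F) * swapMat b = wMat a b := by
  unfold swapMat wMat pi2
  rw [fromBlocks_multiply]
  congr 1 <;>
  · simp only [Matrix.sub_mul, Matrix.mul_sub, Matrix.one_mul, Matrix.mul_one,
      single_mul_single_of_ne _ _ _ _ hab]
    abel

theorem wMat_mul_self {a b : Fin n} (hab : a ≠ b) : (wMat a b : Matrix _ _ F) * wMat a b = 1 := by
  unfold wMat
  rw [fromBlocks_multiply, ← fromBlocks_one]
  have hP := pi2_mul_self (F := F) hab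
  congr 1 <;>
  · simp only [Matrix.sub_mul, Matrix.mul_sub, Matrix.one_mul, Matrix.mul_one, hP]
    abel

theorem single_self_mul_eq_zero (a : Fin n) (R : Matrix (Fin n) (Fin n) F) (h : ∀ j, R a j = 0) :
    single a a (1 : F) * R = 0 := by
  ext i j
  by_cases hi : i = a
  · subst hi
    rw [single_mul_apply_same, h, mul_zero, Matrix.zero_apply]
  · rw [single_mul_apply_of_ne _ _ _ _ _ hi, Matrix.zero_apply]

theorem mul_single_self_eq_zero (a : Fin n) (R : Matrix (Fin n) (Fin n) F) (h : ∀ i, R i a = 0) :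
    R * single a a (1 : F) = 0 := by
  ext i j
  by_cases hj : j = a
  · subst hj
    rw [mul_single_apply_same, h, zero_mul, Matrix.zero_apply]
  · rw [mul_single_apply_of_ne _ _ _ _ _ hj, Matrix.zero_apply]

theorem wMat_mul_radMat_comm (a b : Fin n) (R : Matrix (Fin n) (Fin n) F)
    (hR : ∀ i j, R i j ≠ 0 → i ≠ a ∧ i ≠ b ∧ j ≠ a ∧ j ≠ b) :
    wMat a b * radMat R = radMat R * wMat a b := by
  have hra : ∀ j, R a j = 0 := fun j => by
    by_contra h
    exact (hR a j h).1 rfl
  have hrb : ∀ j, R b j = 0 := fun j => by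
    by_contra h
    exact (hR b j h).2.1 rfl
  have hca : ∀ i, R i a = 0 := fun i => by
    by_contra h
    exact (hR i a h).2.2.1 rfl
  have hcb : ∀ i, R i b = 0 := fun i => by
    by_contra h
    exact (hR i b h).2.2.2 rfl
  have h1 : pi2 a b * (R - Rᵀ) = 0 := by
    unfold pi2
    rw [Matrix.add_mul, Matrix.mul_sub, Matrix.mul_sub, single_self_mul_eq_zero a R hra,
      single_self_mul_eq_zero b R hrb, single_self_mul_eq_zero a Rᵀ (fun j => hca j),
      single_self_mul_eq_zero b Rᵀ (fun j => hcb j)]
    simp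
  have h2 : (R - Rᵀ) * pi2 a b = 0 := by
    unfold pi2
    rw [Matrix.mul_add, Matrix.sub_mul, Matrix.sub_mul, mul_single_self_eq_zero a R hca,
      mul_single_self_eq_zero b R hcb, mul_single_self_eq_zero a Rᵀ (fun j => hra j),
      mul_single_self_eq_zero b Rᵀ (fun j => hrb j)]
    simp
  unfold wMat radMat
  generalize R - Rᵀ = B at h1 h2 ⊢
  rw [fromBlocks_multiply, fromBlocks_multiply]
  simp only [Matrix.mul_one, Matrix.one_mul, Matrix.mul_zero, Matrix.zero_mul, add_zero, zero_add,
    Matrix.sub_mul, Matrix.mul_sub, h1, h2, sub_zero]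
  congr 1
  abel

theorem wMat_comm (a b : Fin n) : (wMat a b : Matrix _ _ F) = wMat b a := by
  unfold wMat pi2
  rw [add_comm]

theorem inv_one_add_single {i a : Fin n} (hia : i ≠ a) (t : F) :
    (1 + single i a t : Matrix (Fin n) (Fin n) F)⁻¹ = 1 - single i a t := by
  apply Matrix.inv_eq_right_inv
  simp only [Matrix.add_mul, Matrix.mul_sub, Matrix.one_mul, Matrix.mul_one,
    single_mul_single_of_ne _ _ _ _ hia.symm]
  abel

theorem wMat_mul_radMat_single {a b i : Fin n} (hab : a ≠ b) (hia : i ≠ a) (hib : i ≠ b) (t : F) :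
    wMat a b * radMat (single i a t) = leviMat (1 + single i a t) * wMat a b := by
  unfold wMat radMat leviMat
  rw [inv_one_add_single hia, fromBlocks_multiply, fromBlocks_multiply]
  simp only [transpose_sub, transpose_one, transpose_single]
  unfold pi2
  simp only [Matrix.mul_zero, Matrix.zero_mul, add_zero, zero_add,
    Matrix.sub_mul, Matrix.mul_sub, Matrix.add_mul, Matrix.mul_add, single_mul_single_same,
    single_mul_single_of_ne _ _ _ _ hia, single_mul_single_of_ne _ _ _ _ hia.symm,
    single_mul_single_of_ne _ _ _ _ hib, single_mul_single_of_ne _ _ _ _ hib.symm,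
    single_mul_single_of_ne _ _ _ _ hab, single_mul_single_of_ne _ _ _ _ hab.symm, mul_one, one_mul,
    sub_zero]
  congr 1 <;> abel

/-! ### the permutation matrix of the transposition `(a b)` -/

/-- the permutation matrix of the transposition `(a b)` -/
def tMat (a b : Fin n) : Matrix (Fin n) (Fin n) F :=
  1 - single a a 1 - single b b 1 + single a b 1 + single b a 1

theorem tMat_mul_self {a b : Fin n} (hab : a ≠ b) :
    (tMat a b : Matrix (Fin n) (Fin n) F) * tMat a b = 1 := by
  unfold tMat
  simp only [Matrix.sub_mul, Matrix.mul_sub, Matrix.add_mul, Matrix.mul_add, Matrix.one_mul,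
    Matrix.mul_one, single_mul_single_same, single_mul_single_of_ne _ _ _ _ hab,
    single_mul_single_of_ne _ _ _ _ hab.symm, mul_one, sub_zero, add_zero, zero_add]
  abel

theorem tMat_transpose (a b : Fin n) : (tMat a b : Matrix (Fin n) (Fin n) F)ᵀ = tMat a b := by
  unfold tMat
  simp only [transpose_add, transpose_sub, transpose_one, transpose_single]
  abel

theorem isUnit_det_tMat {a b : Fin n} (hab : a ≠ b) :
    IsUnit (tMat a b : Matrix (Fin n) (Fin n) F).det :=
  Matrix.isUnit_det_of_right_inverse (tMat_mul_self hab)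

theorem leviMat_tMat {a b : Fin n} (hab : a ≠ b) :
    leviMat (tMat a b : Matrix (Fin n) (Fin n) F) = fromBlocks (tMat a b) 0 0 (tMat a b) := by
  unfold leviMat
  rw [Matrix.inv_eq_right_inv (tMat_mul_self hab), tMat_transpose]

theorem single_mul_tMat {a b : Fin n} (hab : a ≠ b) :
    single b b (1 : F) * tMat a b = tMat a b * single a a 1 := by
  unfold tMat
  simp only [Matrix.sub_mul, Matrix.mul_sub, Matrix.add_mul, Matrix.mul_add, Matrix.one_mul,
    Matrix.mul_one, single_mul_single_same, single_mul_single_of_ne _ _ _ _ hab,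
    single_mul_single_of_ne _ _ _ _ hab.symm, mul_one, sub_zero, add_zero, zero_add]
  abel

theorem swapMat_mul_leviMat_tMat {a b : Fin n} (hab : a ≠ b) :
    (swapMat b : Matrix _ _ F) * leviMat (tMat a b) = leviMat (tMat a b) * swapMat a := by
  rw [leviMat_tMat hab]
  unfold swapMat
  rw [fromBlocks_multiply, fromBlocks_multiply]
  simp only [Matrix.mul_zero, Matrix.zero_mul, add_zero, zero_add, Matrix.sub_mul, Matrix.mul_sub,
    Matrix.one_mul, Matrix.mul_one, single_mul_tMat hab, sub_self]

end Cfsg.Agent.Lib.Helper26.OPMin
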