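import Mathlib
import Cfsg.Prelude.Def_Classical
import Cfsg.Agent.Lib.Helper27.OPMinDefs
import Cfsg.Agent.Lib.Helper2.SLGen
import Cfsg.Agent.Lib.Helper26.OPMinCon1Rel

/-!
# S2345 leaf CON1 (helper26): the Siegel datum of `Ω⁺_{2n}(F)`

`exists_siegel`: for `n ≥ 3`, `|F| > 3` there is a `Siegel F n Ω⁺_{2n}(F)` (helper27's structure) whose
`rad R` has matrix `radMat R` and whose `levi g` has matrix `leviMat g`.  Memberships in the commutator
subgroup: `rad R = ⁅levi (l • 1), rad (R / (l² - 1))⁆` with `l² ≠ 1`; `levi (SL_n)` as `SL_n` is perfect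
(helper2 `sl_commutator_eq_top`); `tor a s = ⁅levi (dg a s), σ_a⁆`; `w a b = σ_a σ_b = ⁅σ_a, levi (tMat a b)⁆`.
-/

set_option autoImplicit false

namespace Cfsg.Agent.Lib.Helper26.OPMin

open Matrix Cfsg.Agent.Lib.Helper27.OPMin

open scoped commutatorElement

variable {F : Type*} [Field F] {n : ℕ}

/-- the isometry group of the hyperbolic form -/
abbrev OG (n : ℕ) (F : Type*) [Field F] : Type _ :=
  ↥(Cfsg.isometryGroup F (Cfsg.quadFormPlus n F))

/-- the matrix of an isometry -/
def matO (x : OG n F) : Matrix (Fin n ⊕ Fin n) (Fin n ⊕ Fin n) F :=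
  ((x : GL (Fin n ⊕ Fin n) F) : Matrix (Fin n ⊕ Fin n) (Fin n ⊕ Fin n) F)

theorem matO_injective : Function.Injective (matO (n := n) (F := F)) :=
  fun _ _ h => Subtype.ext (Units.ext h)

theorem matO_mul (x y : OG n F) : matO (x * y) = matO x * matO y := rfl

theorem matO_one : matO (1 : OG n F) = 1 := rfl

/-- an isometry from a matrix, a two-sided inverse and the invariance of the form -/
def mkO (M N : Matrix (Fin n ⊕ Fin n) (Fin n ⊕ Fin n) F) (h1 : M * N = 1) (h2 : N * M = 1)
    (hQ : ∀ v, Cfsg.quadFormPlus n F (M *ᵥ v) = Cfsg.quadFormPlus n F v) : OG n F :=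
  ⟨⟨M, N, h1, h2⟩, fun u _ => hQ u⟩

theorem matO_mkO (M N : Matrix (Fin n ⊕ Fin n) (Fin n ⊕ Fin n) F) (h1 : M * N = 1) (h2 : N * M = 1)
    (hQ : ∀ v, Cfsg.quadFormPlus n F (M *ᵥ v) = Cfsg.quadFormPlus n F v) :
    matO (mkO M N h1 h2 hQ) = M := rfl

/-- the radical -/
def radO (R : Matrix (Fin n) (Fin n) F) : OG n F :=
  mkO (radMat R) (radMat (-R)) (radMat_mul_neg R) (radMat_neg_mul R) (quadFormPlus_radMat R)

/-- the Levi factor (of `GL_n`) -/
noncomputable def leviO (g : Matrix (Fin n) (Fin n) F) (hg : IsUnit g.det) : OG n F :=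
  mkO (leviMat g) (leviMat g⁻¹) (leviMat_mul_inv hg) (leviMat_inv_mul hg) (quadFormPlus_leviMat hg)

/-- the swap `e_a ↔ f_a` -/
def swO (a : Fin n) : OG n F :=
  mkO (swapMat a) (swapMat a) (swapMat_mul_self a) (swapMat_mul_self a) (quadFormPlus_swapMat a)

theorem matO_radO (R : Matrix (Fin n) (Fin n) F) : matO (radO R) = radMat R := rfl

theorem matO_leviO (g : Matrix (Fin n) (Fin n) F) (hg : IsUnit g.det) :
    matO (leviO g hg) = leviMat g := rfl

theorem matO_swO (a : Fin n) : matO (swO a : OG n F) = swapMat a := rfl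

theorem isUnit_det_sl (g : SpecialLinearGroup (Fin n) F) :
    IsUnit (g : Matrix (Fin n) (Fin n) F).det := by
  rw [g.det_coe]
  exact isUnit_one

/-- the Levi factor as a homomorphism on `SL_n` -/
noncomputable def leviHom : SpecialLinearGroup (Fin n) F →* OG n F where
  toFun g := leviO (g : Matrix (Fin n) (Fin n) F) (isUnit_det_sl g)
  map_one' := by
    apply matO_injective
    show leviMat ((1 : SpecialLinearGroup (Fin n) F) : Matrix (Fin n) (Fin n) F) = 1
    rw [Matrix.SpecialLinearGroup.coe_one, leviMat_one]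
  map_mul' g h := by
    apply matO_injective
    show leviMat ((g * h : SpecialLinearGroup (Fin n) F) : Matrix (Fin n) (Fin n) F) =
      leviMat (g : Matrix (Fin n) (Fin n) F) * leviMat (h : Matrix (Fin n) (Fin n) F)
    rw [Matrix.SpecialLinearGroup.coe_mul, leviMat_mul]

theorem matO_leviHom (g : SpecialLinearGroup (Fin n) F) :
    matO (leviHom g) = leviMat (g : Matrix (Fin n) (Fin n) F) := rfl

/-! ### memberships in `Ω` -/

theorem mem_commutator_of_matO {x y z : OG n F}
    (h : matO x * matO y = matO z * matO y * matO x) : z ∈ commutator (OG n F) := by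
  have h1 : x * y = z * y * x := matO_injective h
  have hz : z = ⁅x, y⁆ := by
    rw [commutatorElement_def, eq_mul_inv_iff_mul_eq, eq_mul_inv_iff_mul_eq]
    exact h1.symm
  rw [hz, commutator_def]
  exact Subgroup.commutator_mem_commutator (Subgroup.mem_top x) (Subgroup.mem_top y)

theorem exists_sq_ne_one [Fintype F] (hq : 3 < Fintype.card F) : ∃ l : F, l ≠ 0 ∧ l ^ 2 ≠ 1 := by
  classical
  by_contra hne
  push Not at hne
  have hsub : (Finset.univ : Finset F) ⊆ {0, 1, -1} := by
    intro x _
    by_cases hx : x = 0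
    · simp [hx]
    · have h2 := hne x hx
      have h3 : (x - 1) * (x + 1) = 0 := by linear_combination h2
      rcases mul_eq_zero.mp h3 with h | h
      · have : x = 1 := by linear_combination h
        simp [this]
      · have : x = -1 := by linear_combination h
        simp [this]
  have := Finset.card_le_card hsub
  have h3 : ({0, 1, -1} : Finset F).card ≤ 3 := Finset.card_le_three
  rw [Finset.card_univ] at this
  omega

theorem radO_mem [Fintype F] (hq : 3 < Fintype.card F) (R : Matrix (Fin n) (Fin n) F) :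
    radO R ∈ commutator (OG n F) := by
  obtain ⟨l, hl0, hl2⟩ := exists_sq_ne_one hq
  have hl2' : l ^ 2 - 1 ≠ 0 := sub_ne_zero.mpr hl2
  have hu : IsUnit (l • (1 : Matrix (Fin n) (Fin n) F)).det := by
    rw [Matrix.det_smul, Matrix.det_one, mul_one]
    exact (isUnit_iff_ne_zero.mpr hl0).pow _
  refine mem_commutator_of_matO (x := leviO (l • 1) hu) (y := radO ((l ^ 2 - 1)⁻¹ • R)) ?_
  rw [matO_leviO, matO_radO, matO_radO, leviMat_mul_radMat hu, ← radMat_add]
  congr 2
  rw [Matrix.transpose_smul, Matrix.transpose_one, Matrix.smul_mul, Matrix.one_mul, Matrix.mul_smul,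
    Matrix.mul_one, smul_smul, smul_smul]
  nth_rewrite 2 [← one_smul F R]
  rw [← add_smul]
  congr 1
  field_simp
  ring

theorem leviHom_mem (hn : 3 ≤ n) (g : SpecialLinearGroup (Fin n) F) :
    leviHom g ∈ commutator (OG n F) := by
  have hg : g ∈ commutator (SpecialLinearGroup (Fin n) F) := by
    rw [Cfsg.Agent.Lib.Helper2.sl_commutator_eq_top (by rw [Fintype.card_fin]; exact hn)]
    exact Subgroup.mem_top g
  rw [commutator_def] at hg ⊢
  have h1 : leviHom g ∈ Subgroup.map (leviHom (n := n) (F := F)) ⁅⊤, ⊤⁆ :=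
    Subgroup.mem_map_of_mem _ hg
  rw [Subgroup.map_commutator] at h1
  exact Subgroup.commutator_mono le_top le_top h1

theorem isUnit_det_dsq (a : Fin n) (s : Fˣ) : IsUnit (dsq a s : Matrix (Fin n) (Fin n) F).det := by
  rw [dsq_eq_dg]
  exact isUnit_det_dg a (pow_ne_zero 2 s.ne_zero)

theorem torO_mem (a : Fin n) (s : Fˣ) :
    leviO (dsq a s) (isUnit_det_dsq a s) ∈ commutator (OG n F) := by
  have hs : (s : F) ≠ 0 := s.ne_zero
  refine mem_commutator_of_matO (x := leviO (dg a (s : F)) (isUnit_det_dg a hs)) (y := swO a) ?_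
  rw [matO_leviO, matO_leviO, matO_swO, Matrix.mul_assoc, swapMat_mul_leviMat_dg a hs,
    ← Matrix.mul_assoc, ← leviMat_mul, dsq_eq_dg, dg_mul_dg]
  congr 3
  field_simp

theorem wO_mem {a b : Fin n} (hab : a ≠ b) : (swO a * swO b : OG n F) ∈ commutator (OG n F) := by
  refine mem_commutator_of_matO (x := swO a) (y := leviO (tMat a b) (isUnit_det_tMat hab)) ?_
  rw [matO_mul, matO_leviO, matO_swO, matO_swO, Matrix.mul_assoc (swapMat a) (swapMat b),
    swapMat_mul_leviMat_tMat hab, Matrix.mul_assoc, Matrix.mul_assoc, swapMat_mul_self,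
    Matrix.mul_one]

/-! ### the datum -/

/-- the group `Ω⁺_{2n}(F)` -/
abbrev Om (n : ℕ) (F : Type*) [Field F] : Type _ :=
  ↥(Cfsg.Omega F (Cfsg.quadFormPlus n F))

theorem om_ext {x y : Om n F} (h : matO (x : OG n F) = matO (y : OG n F)) : x = y :=
  Subtype.ext (matO_injective h)

theorem dsq_transpose (a : Fin n) (s : Fˣ) : (dsq a s : Matrix (Fin n) (Fin n) F)ᵀ = dsq a s :=
  diagonal_transpose _

/-- CON1 with `matO` -/
theorem exists_siegel_matO [Fintype F] (hn : 3 ≤ n) (hq : 3 < Fintype.card F) :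
    ∃ D : Siegel F n (Om n F),
      (∀ R, matO ((D.rad R : Om n F) : OG n F) = radMat R) ∧
      ∀ g : SpecialLinearGroup (Fin n) F,
        matO ((D.levi g : Om n F) : OG n F) = leviMat (g : Matrix (Fin n) (Fin n) F) := by
  classical
  refine ⟨{
    rad := fun R => ⟨radO R, radO_mem hq R⟩
    levi := (leviHom (n := n) (F := F)).codRestrict (Cfsg.Omega F (Cfsg.quadFormPlus n F))
      (leviHom_mem hn)
    tor := fun a s => ⟨leviO (dsq a s) (isUnit_det_dsq a s), torO_mem a s⟩
    w := fun a b => if h : a = b then 1 else ⟨swO a * swO b, wO_mem h⟩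
    rad_add := ?_
    rad_of_symm := ?_
    levi_rad := ?_
    tor_rad := ?_
    w_rad_comm := ?_
    w_rad_single_left := ?_
    w_rad_single_right := ?_ }, fun R => rfl, fun g => rfl⟩
  · intro R S
    apply om_ext
    show radMat (R + S) = radMat R * radMat S
    exact radMat_add R S
  · intro R hR
    apply om_ext
    show radMat R = 1
    exact radMat_of_symm R hR
  · intro g R
    rw [mul_inv_eq_iff_eq_mul]
    apply om_ext
    show leviMat (g : Matrix (Fin n) (Fin n) F) * radMat R =
      radMat ((g : Matrix (Fin n) (Fin n) F) * R * (g : Matrix (Fin n) (Fin n) F)ᵀ) *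
        leviMat (g : Matrix (Fin n) (Fin n) F)
    exact leviMat_mul_radMat (isUnit_det_sl g) R
  · intro a s R
    rw [mul_inv_eq_iff_eq_mul]
    apply om_ext
    show leviMat (dsq a s) * radMat R = radMat (dsq a s * R * dsq a s) * leviMat (dsq a s)
    have := leviMat_mul_radMat (isUnit_det_dsq a s) R
    rwa [dsq_transpose] at this
  · intro a b R hR
    by_cases h : a = b
    · rw [dif_pos h, one_mul, mul_one]
    · rw [dif_neg h]
      apply om_ext
      show swapMat a * swapMat b * radMat R = radMat R * (swapMat a * swapMat b)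
      rw [swapMat_mul_swapMat h]
      exact wMat_mul_radMat_comm a b R hR
  · intro a b i hab hia hib t
    rw [mul_inv_eq_iff_eq_mul, dif_neg hab]
    apply om_ext
    show swapMat a * swapMat b * radMat (single i a t) =
      leviMat ((SpecialLinearGroup.transvection hia t : SpecialLinearGroup (Fin n) F) :
        Matrix (Fin n) (Fin n) F) * (swapMat a * swapMat b)
    rw [swapMat_mul_swapMat hab, Matrix.SpecialLinearGroup.transvection_coe]
    exact wMat_mul_radMat_single hab hia hib t
  · intro a b i hab hia hib t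
    rw [mul_inv_eq_iff_eq_mul, dif_neg hab]
    apply om_ext
    show swapMat a * swapMat b * radMat (single i b t) =
      leviMat ((SpecialLinearGroup.transvection hib t : SpecialLinearGroup (Fin n) F) :
        Matrix (Fin n) (Fin n) F) * (swapMat a * swapMat b)
    rw [swapMat_mul_swapMat hab, Matrix.SpecialLinearGroup.transvection_coe, wMat_comm]
    exact wMat_mul_radMat_single hab.symm hib hia t

/-- CON1: the Siegel datum of `Ω⁺_{2n}(F)` (helper27's leaf, with `omMat` unfolded). -/
theorem exists_siegel [Fintype F] (hn : 3 ≤ n) (hq : 3 < Fintype.card F) :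
    ∃ D : Siegel F n ↥(Cfsg.Omega F (Cfsg.quadFormPlus n F)),
      (∀ R, (((D.rad R : ↥(Cfsg.isometryGroup F (Cfsg.quadFormPlus n F))) :
        GL (Fin n ⊕ Fin n) F) : Matrix (Fin n ⊕ Fin n) (Fin n ⊕ Fin n) F) = radMat R) ∧
      ∀ g : SpecialLinearGroup (Fin n) F,
        (((D.levi g : ↥(Cfsg.isometryGroup F (Cfsg.quadFormPlus n F))) :
          GL (Fin n ⊕ Fin n) F) : Matrix (Fin n ⊕ Fin n) (Fin n ⊕ Fin n) F) =
          leviMat (g : Matrix (Fin n) (Fin n) F) :=
  exists_siegel_matO hn hq

end Cfsg.Agent.Lib.Helper26.OPMin
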