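import Mathlib
import Cfsg.Statements.S2752
import Cfsg.Agent.Lib.Helper16.SFDefs
import Cfsg.Agent.Lib.Helper26.SFAut
import Cfsg.Agent.Lib.Helper13.PSL2
import Cfsg.Agent.Lib.Helper15.SFpslEA
import Cfsg.Agent.Lib.Helper20.SFliftV4
import Cfsg.Agent.Lib.Helper17.SFautq

/-!
# S2752 (market "SF"): leaf `pslAut` in `_of` form (over the statements of `pslOuter`, `pslTorus`)
-/

set_option autoImplicit false
universe u v
open Cfsg Cfsg.Agent.Lib.Helper16.SF

namespace Cfsg.Agent.Lib.Helper26.SFLeaf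

/-- `2 ≠ 0` in a field of order `3 ^ k`. -/
theorem two_ne_zero_of_card {F : Type} [Field F] [Fintype F] (k : ℕ) (hF : Fintype.card F = 3 ^ k) :
    (2 : F) ≠ 0 := by
  intro h2
  have hchar : ringChar F = 2 := by
    have hdvd : ringChar F ∣ 2 := by
      have := (ringChar.spec F 2).mp (by exact_mod_cast h2)
      exact this
    have hp : (ringChar F).Prime := CharP.char_is_prime F (ringChar F)
    exact (Nat.prime_dvd_prime_iff_eq hp Nat.prime_two).mp hdvd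
  obtain ⟨n, hn⟩ := FiniteField.card F (ringChar F)
  rw [hchar, hF] at hn
  have h1 : (2 : ℕ) ∣ 3 ^ k := by
    rw [hn.2]
    exact dvd_pow_self 2 n.ne_zero
  have h3 := (Nat.Prime.dvd_of_dvd_pow Nat.prime_two h1)
  omega

/-- **pslAut with `β ≠ 1`** (the form needed by `normPsl`), over the statements of `pslOuter` and `pslTorus`. -/
theorem pslAut_of {Q : Type*} [Group Q] [Finite Q] (hQ : Cfsg.IsQuasisimple Q)
    (hZ : Odd (Nat.card ↥(Subgroup.center Q)))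
    {F : Type} [Field F] [Fintype F] (n : ℕ) (hF : Fintype.card F = 3 ^ (2 * n + 1))
    (hOuter : 1 ≤ n → ∀ α : MulAut (Matrix.ProjectiveSpecialLinearGroup (Fin 2) F), α * α = 1 →
      (∃ s, α = MulAut.conj s) ∨
        ∃ u : Matrix.ProjectiveSpecialLinearGroup (Fin 2) F, orderOf u = 3 ∧ α u = u⁻¹)
    (hTorus : 1 ≤ n → ∀ s t : Matrix.ProjectiveSpecialLinearGroup (Fin 2) F, s * s = 1 → t * t = 1 →
      s ≠ 1 → t ≠ 1 → s ≠ t → s * t = t * s →
      ∃ x : Matrix.ProjectiveSpecialLinearGroup (Fin 2) F, x ≠ 1 ∧ Odd (orderOf x) ∧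
        s * x = x * s ∧ t * x * t⁻¹ = x⁻¹)
    (e : Nonempty (Q ⧸ Subgroup.center Q ≃* Matrix.ProjectiveSpecialLinearGroup (Fin 2) F))
    (E : Subgroup (MulAut Q)) (hE : Cfsg.IsElementaryAbelian 2 E) (h4 : 4 ≤ Nat.card E) :
    (∃ β ∈ E, ∃ u : Q, orderOf u = 3 ∧ β u = u⁻¹) ∨
      (Nat.card E = 4 ∧ ∃ β ∈ E, ∃ β' ∈ E, ∃ x : Q, β ≠ 1 ∧ x ≠ 1 ∧ Odd (orderOf x) ∧ β x = x ∧
        β' x = x⁻¹) := by
  obtain ⟨e⟩ := e
  have : Group.IsPerfect Q := hQ.1
  have hn : 1 ≤ n := by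
    by_contra hn0
    have hn0' : n = 0 := by omega
    subst hn0'
    have hF3 : Fintype.card F = 3 := by rw [hF]; norm_num
    have h2 : (2 : F) ≠ 0 := two_ne_zero_of_card 1 (by rw [hF3]; norm_num)
    have hcard := Cfsg.Agent.Lib.Helper13.card_PSL2_mul_two (F := F) h2
    rw [hF3] at hcard
    have h12 : Nat.card (Matrix.ProjectiveSpecialLinearGroup (Fin 2) F) = 12 := by omega
    have hs : IsSimpleGroup (Q ⧸ Subgroup.center Q) := hQ.2
    have hfin : Finite (Q ⧸ Subgroup.center Q) := inferInstance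
    have h12' : Nat.card (Q ⧸ Subgroup.center Q) = 12 := by
      rw [Nat.card_congr e.toEquiv, h12]
    exact Cfsg.Agent.Lib.Helper26.SFAut.not_simple_card_twelve h12'
  exact Cfsg.Agent.Lib.Helper26.SFAut.v4Aut_of hQ e
    (fun β h => Cfsg.Agent.Lib.Helper17.SFLeaf.autq β h)
    (hOuter hn)
    (fun E' hE' => Cfsg.Agent.Lib.Helper15.SFLeaf.pslEA n hF E' hE')
    (hTorus hn)
    (fun β β' hc h2 h2' x₀ hx₀ hx₀1 hfix hinv =>
      Cfsg.Agent.Lib.Helper20.SFLeaf.liftV4 hZ β β' hc h2 h2' x₀ hx₀ hx₀1 hfix hinv)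
    E hE h4

end Cfsg.Agent.Lib.Helper26.SFLeaf
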