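import Cfsg.Agent.Lib.Helper16.SLMinDefs
import Cfsg.Agent.Lib.Helper13.SLMinW
import Cfsg.Agent.Lib.Helper5.SLMinInt
import Cfsg.Agent.Lib.Helper7.SLTvClassIdx

/-! S2332 leaf C4 (helper26): integrality of the central character at a transvection.
`integrality` has helper16's exact name and binders (notes/S2332_leaves.lean, section C):
with all non-zero radical weights of multiplicity one, `dim M` divides `q^n' * |class of a transvection|`.
Route: W5 + W1 (helper13) give `χ(rad r) = dim M - q^n'`, helper5's integrality lemma and helper7's class size. -/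

set_option autoImplicit false

namespace Cfsg.Agent.Lib.Helper26.SLMin

open Matrix Module Cfsg.Agent.Lib.Helper16.SLMin

section reidx

variable {F : Type*} [Field F] {ι κ : Type*} [Fintype ι] [DecidableEq ι] [Fintype κ] [DecidableEq κ]

/-- reindexing `SL ι F ≃* SL κ F` along `e : ι ≃ κ`, any universes -/
def slReindexU (e : ι ≃ κ) : Matrix.SpecialLinearGroup ι F ≃* Matrix.SpecialLinearGroup κ F where
  toFun A := ⟨Matrix.reindex e e (A : Matrix ι ι F), by rw [Matrix.det_reindex_self]; exact A.2⟩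
  invFun B := ⟨Matrix.reindex e.symm e.symm (B : Matrix κ κ F), by
    rw [Matrix.det_reindex_self]; exact B.2⟩
  left_inv A := by
    apply Subtype.ext
    ext i j
    simp [Matrix.reindex_apply, Matrix.submatrix_apply]
  right_inv B := by
    apply Subtype.ext
    ext i j
    simp [Matrix.reindex_apply, Matrix.submatrix_apply]
  map_mul' A B := by
    apply Subtype.ext
    show Matrix.reindex e e ((A : Matrix ι ι F) * (B : Matrix ι ι F)) =
      Matrix.reindex e e (A : Matrix ι ι F) * Matrix.reindex e e (B : Matrix ι ι F)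
    simp [Matrix.reindex_apply, Matrix.submatrix_mul_equiv]

theorem slReindexU_coe (e : ι ≃ κ) (A : Matrix.SpecialLinearGroup ι F) :
    ((slReindexU e A : Matrix.SpecialLinearGroup κ F) : Matrix κ κ F) =
      Matrix.reindex e e (A : Matrix ι ι F) := rfl

end reidx

end Cfsg.Agent.Lib.Helper26.SLMin

namespace Cfsg.Agent.Lib.Helper26.SLMin

open Matrix Module Cfsg.Agent.Lib.Helper16.SLMin

section tv

variable {F : Type*} [Field F] {ι' : Type*} [Fintype ι'] [DecidableEq ι']

/-- `rad r`, reindexed to `Fin n`, is `1 + vecMulVec`. -/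
theorem reindex_rad_eq {n : ℕ} (e : Unit ⊕ ι' ≃ Fin n) (r : ι' → F) :
    Matrix.reindex e e ((rad r : SpecialLinearGroup (Unit ⊕ ι') F) : Matrix (Unit ⊕ ι') (Unit ⊕ ι') F) =
      1 + (1 : F) • Matrix.vecMulVec (Pi.single (e (Sum.inl ())) (1 : F))
        (fun k => Sum.elim (0 : Unit → F) r (e.symm k)) := by
  ext i j
  rw [rad_coe]
  simp only [Matrix.reindex_apply, Matrix.submatrix_apply, Matrix.add_apply, Matrix.smul_apply,
    Matrix.vecMulVec_apply, one_smul, smul_eq_mul]
  rcases hi : e.symm i with ⟨⟨⟩⟩ | a <;> rcases hj : e.symm j with ⟨⟨⟩⟩ | b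
  · have hi' : i = e (Sum.inl ()) := by rw [← hi, Equiv.apply_symm_apply]
    have hj' : j = e (Sum.inl ()) := by rw [← hj, Equiv.apply_symm_apply]
    subst hi'
    subst hj'
    simp
  · have hi' : i = e (Sum.inl ()) := by rw [← hi, Equiv.apply_symm_apply]
    have hj' : j = e (Sum.inr b) := by rw [← hj, Equiv.apply_symm_apply]
    subst hi'
    subst hj'
    simp [Matrix.one_apply]
  · have hi' : i = e (Sum.inr a) := by rw [← hi, Equiv.apply_symm_apply]
    have hj' : j = e (Sum.inl ()) := by rw [← hj, Equiv.apply_symm_apply]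
    subst hi'
    subst hj'
    simp [Matrix.one_apply]
  · have hi' : i = e (Sum.inr a) := by rw [← hi, Equiv.apply_symm_apply]
    have hj' : j = e (Sum.inr b) := by rw [← hj, Equiv.apply_symm_apply]
    subst hi'
    subst hj'
    simp [Matrix.one_apply]

theorem isTransvection_reindex_rad {n : ℕ} (e : Unit ⊕ ι' ≃ Fin n) (r : ι' → F) (hr : r ≠ 0) :
    Cfsg.IsTransvection (Matrix.reindex e e
      ((rad r : SpecialLinearGroup (Unit ⊕ ι') F) : Matrix (Unit ⊕ ι') (Unit ⊕ ι') F)) := by
  rw [reindex_rad_eq]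
  apply Cfsg.Agent.Lib.Helper7.SLTvClass.isTransvection_one_add_smul_vecMulVec
  · -- φ ⬝ᵥ v = 0
    rw [dotProduct_comm, single_dotProduct]
    simp
  · exact one_ne_zero
  · intro h
    have := congrFun h (e (Sum.inl ()))
    simp at this
  · intro h
    apply hr
    funext b
    have := congrFun h (e (Sum.inr b))
    simpa using this

end tv

end Cfsg.Agent.Lib.Helper26.SLMin

namespace Cfsg.Agent.Lib.Helper26.SLMin

open Matrix Module Cfsg.Agent.Lib.Helper16.SLMin

section main

variable {F : Type*} [Field F] [Fintype F] [DecidableEq F] {M : Type*} [AddCommGroup M]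
  [Module ℂ M] [FiniteDimensional ℂ M]

/-- the character sum `∑_v eps (v ⬝ᵥ r) = 0` for `r ≠ 0`. -/
theorem sum_eps_dot_eq_zero {I : Type*} [Fintype I] [DecidableEq I] (r : I → F) (hr : r ≠ 0) :
    ∑ v : I → F, (eps F (v ⬝ᵥ r) : ℂ) = 0 := by
  classical
  -- some `a` with `eps a ≠ 1`
  have hne : (eps F) ≠ 1 := by
    have hp := eps_prim F
    intro h
    have h1 : (1 : F) ≠ 0 := one_ne_zero
    have := hp h1
    apply this
    ext x
    rw [AddChar.mulShift_apply, h]
    rfl
  obtain ⟨a, ha⟩ : ∃ a : F, eps F a ≠ 1 := by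
    by_contra hcon
    push Not at hcon
    apply hne
    ext x
    rw [hcon x]
    rfl
  obtain ⟨i, hi⟩ : ∃ i, r i ≠ 0 := by
    by_contra hcon
    push Not at hcon
    exact hr (funext hcon)
  set w : I → F := Pi.single i (a / r i) with hw
  have hwr : w ⬝ᵥ r = a := by
    rw [hw, single_dotProduct, div_mul_cancel₀ _ hi]
  set S : ℂ := ∑ v : I → F, (eps F (v ⬝ᵥ r) : ℂ) with hS
  have h1 : S = eps F a * S := by
    calc S = ∑ v : I → F, (eps F ((v + w) ⬝ᵥ r) : ℂ) := by
          rw [hS]
          exact (Equiv.sum_comp (Equiv.addRight w) (fun v => (eps F (v ⬝ᵥ r) : ℂ))).symm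
      _ = ∑ v : I → F, (eps F a : ℂ) * (eps F (v ⬝ᵥ r) : ℂ) := by
          apply Finset.sum_congr rfl
          intro v _
          rw [add_dotProduct, hwr, add_comm, AddChar.map_add_eq_mul]
      _ = eps F a * S := by rw [← Finset.mul_sum]
  have h2 : (1 - eps F a) * S = 0 := by
    rw [sub_mul, one_mul, ← h1, sub_self]
  rcases mul_eq_zero.mp h2 with h3 | h3
  · exfalso
    apply ha
    exact (sub_eq_zero.mp h3).symm
  · exact h3

end main

end Cfsg.Agent.Lib.Helper26.SLMin

namespace Cfsg.Agent.Lib.Helper26.SLMin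

open Matrix Module Cfsg.Agent.Lib.Helper16.SLMin

section main2

variable {F : Type*} [Field F] [Fintype F] [DecidableEq F] {M : Type*} [AddCommGroup M]
  [Module ℂ M] [FiniteDimensional ℂ M]

/-- with all non-zero radical weights of multiplicity one: `dim M = c + (q^{n'} - 1)`. -/
theorem finrank_eq_of_mult_one {ι' : Type*} [Fintype ι'] [DecidableEq ι']
    (ρ : Representation ℂ (SpecialLinearGroup (Unit ⊕ ι') F) M)
    (hm1 : ∀ u : ι' → F, u ≠ 0 → finrank ℂ ↥(wt ρ (rad (F := F) (ι' := ι')) u) = 1) :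
    finrank ℂ M = finrank ℂ ↥(wt ρ (rad (F := F) (ι' := ι')) 0) +
      (Fintype.card F ^ Fintype.card ι' - 1) := by
  classical
  have h1 := Cfsg.Agent.Lib.Helper13.SLMin.finrank_eq_sum_inf_wt ρ (rad (F := F) (ι' := ι'))
    (fun r s => rad_add r s) (⊤ : Submodule ℂ M) (fun _ _ _ => Submodule.mem_top)
  rw [finrank_top] at h1
  rw [h1, ← Finset.add_sum_erase Finset.univ _ (Finset.mem_univ (0 : ι' → F))]
  congr 1
  · rw [top_inf_eq]
  · rw [Finset.sum_congr rfl (g := fun _ => 1)]
    · rw [Finset.sum_const, smul_eq_mul, mul_one, Finset.card_erase_of_mem (Finset.mem_univ _),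
        Finset.card_univ, Fintype.card_fun]
    · intro v hv
      rw [top_inf_eq]
      exact hm1 v (Finset.ne_of_mem_erase hv)

/-- the character value at `rad r`, `r ≠ 0`: `χ = c - 1`. -/
theorem trace_rad_of_mult_one {ι' : Type*} [Fintype ι'] [DecidableEq ι']
    (ρ : Representation ℂ (SpecialLinearGroup (Unit ⊕ ι') F) M)
    (hm1 : ∀ u : ι' → F, u ≠ 0 → finrank ℂ ↥(wt ρ (rad (F := F) (ι' := ι')) u) = 1)
    (r : ι' → F) (hr : r ≠ 0) :
    LinearMap.trace ℂ M (ρ (rad r)) =
      (finrank ℂ ↥(wt ρ (rad (F := F) (ι' := ι')) 0) : ℂ) - 1 := by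
  classical
  have h1 := Cfsg.Agent.Lib.Helper13.SLMin.trace_eq_sum_wt ρ (rad (F := F) (ι' := ι'))
    (fun r s => rad_add r s) r
  rw [h1, ← Finset.add_sum_erase Finset.univ _ (Finset.mem_univ (0 : ι' → F))]
  have h2 : ∑ v ∈ Finset.univ.erase (0 : ι' → F),
      (eps F (v ⬝ᵥ r) : ℂ) * (finrank ℂ ↥(wt ρ (rad (F := F) (ι' := ι')) v) : ℂ) =
      ∑ v ∈ Finset.univ.erase (0 : ι' → F), (eps F (v ⬝ᵥ r) : ℂ) := by
    apply Finset.sum_congr rfl
    intro v hv
    rw [hm1 v (Finset.ne_of_mem_erase hv), Nat.cast_one, mul_one]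
  have h3 := sum_eps_dot_eq_zero (F := F) r hr
  rw [← Finset.add_sum_erase Finset.univ _ (Finset.mem_univ (0 : ι' → F))] at h3
  rw [h2, zero_dotProduct, AddChar.map_zero_eq_one, one_mul]
  rw [zero_dotProduct, AddChar.map_zero_eq_one] at h3
  linear_combination h3

/-- C4: integrality of the central character at a transvection. -/
theorem integrality {ι' : Type*} [Fintype ι'] [DecidableEq ι'] (h2 : 2 ≤ Fintype.card ι')
    (ρ : Representation ℂ (SpecialLinearGroup (Unit ⊕ ι') F) M) (hρ : ρ.IsIrreducible)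
    (hm1 : ∀ u : ι' → F, u ≠ 0 → finrank ℂ ↥(wt ρ (rad (F := F) (ι' := ι')) u) = 1) :
    finrank ℂ M ∣ Fintype.card F ^ Fintype.card ι' *
      ((Fintype.card F ^ (Fintype.card ι' + 1) - 1) * (Fintype.card F ^ Fintype.card ι' - 1) /
        (Fintype.card F - 1)) := by
  classical
  have hirr : ρ.IsIrreducible := hρ
  set q := Fintype.card F with hq
  set n' := Fintype.card ι' with hn'
  have hq1 : 1 < q := Fintype.one_lt_card
  -- a non-zero r
  obtain ⟨i⟩ : Nonempty ι' := by
    rw [← Fintype.card_pos_iff]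
    omega
  set r : ι' → F := Pi.single i 1 with hrdef
  have hr : r ≠ 0 := by
    intro h
    have := congrFun h i
    simp [hrdef] at this
  -- the character value
  have hfin := finrank_eq_of_mult_one ρ hm1
  have htr := trace_rad_of_mult_one ρ hm1 r hr
  have hqpos : 1 ≤ q ^ n' := Nat.one_le_pow _ _ (by omega)
  have hchar : ρ.character (rad r) = (finrank ℂ M : ℂ) - ((q ^ n' : ℕ) : ℂ) := by
    show LinearMap.trace ℂ M (ρ (rad r)) = _
    rw [← hq, ← hn'] at hfin
    rw [htr, hfin]
    push_cast [Nat.cast_sub hqpos]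
    ring
  have hdvd := Cfsg.Agent.Lib.Helper5.SLMinInt.finrank_dvd_index_mul_of_char_eq_sub ρ (rad r)
    (q ^ n') hchar
  -- the class size
  have hcard : Fintype.card (Unit ⊕ ι') = n' + 1 := by
    rw [Fintype.card_sum, Fintype.card_unit, add_comm]
  let e : Unit ⊕ ι' ≃ Fin (n' + 1) := Fintype.equivFinOfCardEq hcard
  have hidx : (Subgroup.centralizer ({rad r} : Set (SpecialLinearGroup (Unit ⊕ ι') F))).index
      = (q ^ (n' + 1) - 1) * (q ^ n' - 1) / (q - 1) := by
    rw [Cfsg.Agent.Lib.Helper7.SLTvClass.index_centralizer_mulEquiv (slReindexU (F := F) e) (rad r)]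
    have h := Cfsg.Agent.Lib.Helper7.SLTvClass.index_centralizer_mul (F := F) (n := n' + 1)
      (by omega) (slReindexU (F := F) e (rad r)) (by
        rw [slReindexU_coe]
        exact isTransvection_reindex_rad e r hr)
    rw [Nat.add_sub_cancel] at h
    rw [← h, Nat.mul_div_cancel _ (by omega)]
  rw [hidx] at hdvd
  rw [mul_comm]
  exact hdvd

end main2

end Cfsg.Agent.Lib.Helper26.SLMin
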