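/-
helper26: S4707 leaf T2P-PC1 (`exists_char`): the constituent of degree `p - 1` of the permutation character.
-/
import Mathlib
import Cfsg.Agent.Lib.Helper19.W2PFinal
import Cfsg.Agent.Lib.Helper23.W2PDECOMP

set_option autoImplicit false

namespace Cfsg.Agent.Lib.Helper26.T2PPC1

open Cfsg Cfsg.Agent.CharLib Cfsg.Agent.Lib.Helper19.W2P

universe u v

variable {G : Type u} [Group G] [Fintype G] {Ω : Type v} [Fintype Ω] [DecidableEq Ω] [MulAction G Ω]

/-- T2P-PC1: the constituent of degree `p - 1`. -/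
theorem exists_char {p : ℕ} [Fact p.Prime] (hodd : p ≠ 2) [FaithfulSMul G Ω]
    (hcard : Fintype.card Ω = 2 * p) (hprim : MulAction.IsPreprimitive G Ω)
    (h2 : ¬ MulAction.IsMultiplyPretransitive G Ω 2) (P : Sylow p G)
    (hP : Nat.card (P : Subgroup G) = p) (hsemi : Semireg (P : Subgroup G) Ω)
    (hconj : ∀ g : G, p ∣ orderOf g →
      ∃ k : G, k * g * k⁻¹ ∈ (P : Subgroup G) ∧ k * g * k⁻¹ ≠ 1 ∧ p ∣ orderOf (k * g * k⁻¹))
    (a₀ : Ω)
    (hrank : Nat.card (MulAction.orbitRel.Quotient (MulAction.stabilizer G a₀) Ω) = 3) :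
    ∃ χ : IrrCharacter G, (χ : G → ℂ) 1 = (p : ℂ) - 1 ∧
      ∀ g : G, p ∣ orderOf g → (χ : G → ℂ) g = -1 := by
  classical
  have hpp : p.Prime := Fact.out
  have hSyl : ¬ p ∣ (P : Subgroup G).index := P.not_dvd_index
  obtain ⟨χ₁, hχ₁⟩ := Cfsg.Agent.Lib.Helper23.W2PDECOMP.exists_chi1 hpp hodd hcard hprim h2
    (P : Subgroup G) hP hSyl hsemi
  have htr : MulAction.IsPretransitive G Ω := hprim.toIsPretransitive
  have hχ₁ne : χ₁ ≠ trivIrr G := by
    intro h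
    have h1 := hχ₁.deg
    rw [h] at h1
    have h2 : ((trivIrr G : IrrCharacter G) : G → ℂ) 1 = 1 := rfl
    rw [h2] at h1
    have : (1 : ℕ) = p := by exact_mod_cast h1
    have := hpp.two_le
    omega
  let _ : Fintype (IrrCharacter G) := Fintype.ofFinite _
  obtain ⟨T, -, -, hdec, hrk⟩ :=
    Cfsg.Agent.Lib.Helper19.W2PEXP.expand_pi a₀ (P : Subgroup G) χ₁ hχ₁ hχ₁ne
  obtain ⟨hπ0, -, hπ1⟩ :=
    Cfsg.Agent.Lib.Helper16.W2PPI.permChar_facts hpp hcard (P : Subgroup G) hP hSyl hsemi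
  have hT : T.card = 1 := by omega
  obtain ⟨χ, hχ⟩ := Finset.card_eq_one.mp hT
  refine ⟨χ, ?_, ?_⟩
  · have h := hdec 1
    rw [hχ, Finset.sum_singleton, hπ1, hχ₁.deg] at h
    linear_combination -h
  · intro g hg
    obtain ⟨k, hk, hk1, -⟩ := hconj g hg
    have hcf : (χ₁ : G → ℂ) (k * g * k⁻¹) = (χ₁ : G → ℂ) g :=
      (IsCharacter.isClassFunction (IsIrrCharacter.isCharacter χ₁.2)) g k
    have h0 : (χ₁ : G → ℂ) g = 0 := by
      rw [← hcf]
      exact hχ₁.vanish _ hk hk1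
    have h := hdec g
    rw [hπ0 g hg, hχ, Finset.sum_singleton, h0] at h
    linear_combination -h

end Cfsg.Agent.Lib.Helper26.T2PPC1
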