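/-
helper26: S4707 leaf T2P-SHARP (`sharp_count`): pure counting.
-/
import Mathlib

set_option autoImplicit false

namespace Cfsg.Agent.Lib.Helper26.T2PSHARP

/-- the cubic `W x = x (x - 1) (x + 1 - p)` is `≤ 0` on integers `≤ p - 1` -/
theorem cubic_nonpos (p x : ℤ) (hx : x ≤ p - 1) : x * (x - 1) * (x + 1 - p) ≤ 0 := by
  have h1 : 0 ≤ x * (x - 1) := by
    rcases le_or_gt x 0 with h | h
    · exact mul_nonneg_of_nonpos_of_nonpos h (by omega)
    · exact mul_nonneg (by omega) (by omega)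
  exact mul_nonpos_of_nonneg_of_nonpos h1 (by omega)

theorem cubic_eq_zero (p x : ℤ) (h : x * (x - 1) * (x + 1 - p) = 0) :
    x = 0 ∨ x = 1 ∨ x = p - 1 := by
  rcases mul_eq_zero.mp h with h | h
  · rcases mul_eq_zero.mp h with h | h
    · exact Or.inl h
    · exact Or.inr (Or.inl (by omega))
  · exact Or.inr (Or.inr (by omega))

/-- T2P-SHARP (pure counting, header SHARP). -/
theorem sharp_count {G : Type*} [Fintype G] (p : ℕ) (hp5 : 5 ≤ p) (f : G → ℤ) (e : G)
    (s : G → Prop) (hfe : f e = (p : ℤ) - 1) (hle : ∀ g : G, f g ≤ (p : ℤ) - 1)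
    (heq : ∀ g : G, f g = (p : ℤ) - 1 → g = e) (hfs : ∀ g : G, s g → f g = -1)
    (hs : 2 * p * Nat.card {g : G // s g} = (p - 1) * Fintype.card G)
    (h1 : ∑ g : G, f g = 0) (h2 : ∑ g : G, f g ^ 2 = (Fintype.card G : ℤ))
    (h3 : ∑ g : G, f g ^ 3 = (Fintype.card G : ℤ)) :
    Fintype.card G = p * (p - 1) * (p - 2) := by
  classical
  set N : ℤ := (Fintype.card G : ℤ) with hN
  -- the total sum of `W ∘ f`
  have hW : ∑ g : G, f g * (f g - 1) * (f g + 1 - p) = (1 - (p : ℤ)) * N := by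
    have : ∀ g : G, f g * (f g - 1) * (f g + 1 - p) =
        f g ^ 3 - (p : ℤ) * f g ^ 2 + ((p : ℤ) - 1) * f g := fun g => by ring
    rw [Finset.sum_congr rfl (fun g _ => this g), Finset.sum_add_distrib, Finset.sum_sub_distrib,
      ← Finset.mul_sum, ← Finset.mul_sum, h1, h2, h3]
    ring
  -- the singular part
  have hcardS : (Nat.card {g : G // s g} : ℤ) = ((Finset.univ.filter s).card : ℤ) := by
    rw [Nat.card_eq_fintype_card, Fintype.card_subtype]
  have hsZ : 2 * (p : ℤ) * ((Finset.univ.filter s).card : ℤ) = ((p : ℤ) - 1) * N := by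
    rw [← hcardS]
    have h := congrArg (fun n : ℕ => (n : ℤ)) hs
    simp only [Nat.cast_mul] at h
    rw [Nat.cast_sub (by omega : 1 ≤ p)] at h
    simpa using h
  have hsing : ∑ g ∈ Finset.univ.filter s, f g * (f g - 1) * (f g + 1 - p) =
      -(((p : ℤ) - 1) * N) := by
    have : ∀ g ∈ Finset.univ.filter s, f g * (f g - 1) * (f g + 1 - p) = -(2 * (p : ℤ)) := by
      intro g hg
      rw [hfs g (Finset.mem_filter.mp hg).2]
      ring
    rw [Finset.sum_congr rfl this, Finset.sum_const, nsmul_eq_mul, ← hsZ]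
    ring
  have hsplit := Finset.sum_filter_add_sum_filter_not (Finset.univ : Finset G) s
    (fun g => f g * (f g - 1) * (f g + 1 - p))
  rw [hW, hsing] at hsplit
  have hreg : ∑ g ∈ Finset.univ.filter (fun g => ¬ s g), f g * (f g - 1) * (f g + 1 - p) = 0 := by
    linarith
  have hzero := (Finset.sum_eq_zero_iff_of_nonpos
    (fun g _ => cubic_nonpos (p : ℤ) (f g) (hle g))).mp hreg
  -- `f³ - f` vanishes off `e`
  have hoff : ∀ g : G, g ≠ e → f g ^ 3 - f g = 0 := by
    intro g hg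
    by_cases hsg : s g
    · rw [hfs g hsg]; norm_num
    · have h0 := hzero g (Finset.mem_filter.mpr ⟨Finset.mem_univ _, hsg⟩)
      rcases cubic_eq_zero (p : ℤ) (f g) h0 with h | h | h
      · rw [h]; norm_num
      · rw [h]; norm_num
      · exact absurd (heq g h) hg
  have hsum : ∑ g : G, (f g ^ 3 - f g) = f e ^ 3 - f e :=
    Finset.sum_eq_single e (fun g _ hg => hoff g hg) (fun h => absurd (Finset.mem_univ e) h)
  rw [Finset.sum_sub_distrib, h1, h3, hfe, sub_zero] at hsum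
  -- back to `ℕ`
  obtain ⟨k, rfl⟩ : ∃ k : ℕ, p = k + 2 := ⟨p - 2, by omega⟩
  have hk : ((Fintype.card G : ℕ) : ℤ) = (((k + 2) * (k + 2 - 1) * (k + 2 - 2) : ℕ) : ℤ) := by
    rw [← hN, hsum]
    have e1 : k + 2 - 1 = k + 1 := by omega
    have e2 : k + 2 - 2 = k := by omega
    rw [e1, e2]
    push_cast
    ring
  exact_mod_cast hk

end Cfsg.Agent.Lib.Helper26.T2PSHARP
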