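/-
helper26: S4707 leaves T2P-ARITH (`arith`) and T2P-BND (`value_le`) (twins, in case the holder lags).
-/
import Mathlib
import Cfsg.Agent.Lib.Helper14.BREEASYX
import Cfsg.Agent.Lib.Helper24.IrrFacts

set_option autoImplicit false

namespace Cfsg.Agent.Lib.Helper26.T2PSmall

open Cfsg Cfsg.Agent.CharLib

universe u

/-- T2P-ARITH. -/
theorem arith (a : ℕ) (ha : 0 < a)
    (h : (2 * a + 1) ∣ (2 * a ^ 2 + 2 * a) * (2 * a ^ 2 + 2 * a - 1)) : a = 1 := by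
  have h1 : 1 ≤ 2 * a ^ 2 + 2 * a := by nlinarith
  have hz : ((2 * a + 1 : ℕ) : ℤ) ∣ (((2 * a ^ 2 + 2 * a) * (2 * a ^ 2 + 2 * a - 1) : ℕ) : ℤ) :=
    Int.natCast_dvd_natCast.mpr h
  rw [Nat.cast_mul, Nat.cast_sub h1] at hz
  push_cast at hz
  have h3 : (2 * (a : ℤ) + 1) ∣ 3 := by
    have e : (3 : ℤ) = 4 * ((2 * (a : ℤ) ^ 2 + 2 * a) * (2 * (a : ℤ) ^ 2 + 2 * a - 1)) -
        (2 * (a : ℤ) + 1) * ((2 * (a : ℤ) + 1) ^ 3 - 4 * (2 * (a : ℤ) + 1)) := by ring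
    rw [e]
    exact dvd_sub (hz.mul_left 4) (dvd_mul_right _ _)
  have h4 : 2 * (a : ℤ) + 1 ≤ 3 := Int.le_of_dvd (by norm_num) h3
  omega

variable {G : Type u} [Group G] [Finite G] {p : ℕ} [hp : Fact p.Prime] {χ : IrrCharacter G}

/-- T2P-BND. -/
theorem value_le (hχ1 : (χ : G → ℂ) 1 = (p : ℂ) - 1)
    (hfaith : ∀ g : G, (χ : G → ℂ) g = (χ : G → ℂ) 1 → g = 1) (g : G) (n : ℤ)
    (hn : (χ : G → ℂ) g = (n : ℂ)) : n ≤ (p : ℤ) - 1 ∧ (n = (p : ℤ) - 1 → g = 1) := by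
  have hp1 : 1 ≤ p := hp.out.pos
  have hdeg : charDegree (χ : G → ℂ) = p - 1 := by
    have h1 := Cfsg.Agent.Lib.Helper24.irr_apply_one χ
    rw [hχ1] at h1
    have h2 : (((p - 1 : ℕ) : ℕ) : ℂ) = (charDegree (χ : G → ℂ) : ℂ) := by
      rw [← h1, Nat.cast_sub hp1]
      simp
    exact (Nat.cast_injective h2).symm
  have hnorm := Cfsg.Agent.Lib.Helper14.BREEASYX.norm_apply_le χ g
  rw [hn, hdeg, Complex.norm_intCast] at hnorm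
  have hle : n ≤ (p : ℤ) - 1 := by
    have h1 : (n : ℝ) ≤ ((p - 1 : ℕ) : ℝ) := le_trans (le_abs_self _) hnorm
    rw [Nat.cast_sub hp1] at h1
    have h2 : (n : ℝ) ≤ (((p : ℤ) - 1 : ℤ) : ℝ) := by
      push_cast
      simpa using h1
    exact_mod_cast h2
  refine ⟨hle, ?_⟩
  intro h
  apply hfaith
  rw [hn, hχ1, h]
  push_cast
  rfl

end Cfsg.Agent.Lib.Helper26.T2PSmall
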