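/-
helper26: S4707 - all leaves of notes/S4707_leaves.lean, restated verbatim and closed by the delivered modules.
-/
import Mathlib
import Cfsg.Agent.Lib.Helper26.T2PPC1
import Cfsg.Agent.Lib.Helper26.T2PSHARP
import Cfsg.Agent.Lib.Helper26.T2PSmall
import Cfsg.Agent.Lib.Helper4.T2PB1A
import Cfsg.Agent.Lib.Helper4.T2PB1B
import Cfsg.Agent.Lib.Helper4.T2PCOUNT
import Cfsg.Agent.Lib.Helper4.T2PMOM
import Cfsg.Agent.Lib.Helper4.T2PSQ
import Cfsg.Agent.Lib.Helper5.T2PINT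
import Cfsg.Agent.Lib.Helper5.T2PPC2
import Cfsg.Agent.Lib.Helper8.T2PPA
import Cfsg.Agent.Lib.Helper8.T2PPB
import Cfsg.Agent.Lib.Helper8.T2PSING
import Cfsg.Agent.Lib.Helper19.PDegC
import Cfsg.Agent.Lib.Helper19.W2PFinal
import Cfsg.Agent.Lib.Helper23.W2PDECOMP
import Cfsg.Agent.Lib.Helper5.W2PIDEM
import Cfsg.Agent.Lib.Helper5.W2PORB
import Cfsg.Agent.Lib.Helper7.W2PBLK
import Cfsg.Agent.Lib.Helper23.W2PCOUNT
import Cfsg.Agent.Lib.Helper19.Order60
import Cfsg.Agent.Lib.Helper10.CyclicTIGalois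
import Cfsg.Agent.Lib.Helper23.GaloisChar
import Cfsg.Agent.Lib.Helper14.BREEASYX

set_option autoImplicit false

namespace Cfsg.Agent.Lib.Helper26.T2PMain

open Cfsg Cfsg.Agent.CharLib Cfsg.Agent.Lib.Helper19.PDeg Cfsg.Agent.Lib.Helper19.W2P
open scoped ComplexConjugate

universe u v

/-! ### the abstract part: `|G| = p (p - 1) (p - 2)` -/

section abstract

variable {G : Type u} [Group G] [Finite G] {p : ℕ} [hp : Fact p.Prime]

/-- T2P-SING: every `p`-singular element is conjugate into `P#` (`P` of order `p`, `C_G(y) = P` on `P#`).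
Recipe: `orderOf g = p * m`, `y := g ^ m` has order `p`, `zpowers y` is a `p`-group so (Sylow,
`IsPGroup.exists_le_sylow` + `MulAction.exists_smul_eq G`) `k y k⁻¹ ∈ P`; `k g k⁻¹` commutes with it, so lies in
`centralizer {k y k⁻¹} = P`. -/
theorem singular_conj (P : Sylow p G) (hP : Nat.card (P : Subgroup G) = p)
    (hcent : ∀ y : G, y ∈ (P : Subgroup G) → y ≠ 1 →
      Subgroup.centralizer ({y} : Set G) = (P : Subgroup G))
    (g : G) (hg : p ∣ orderOf g) :
    ∃ k : G, k * g * k⁻¹ ∈ (P : Subgroup G) ∧ k * g * k⁻¹ ≠ 1 ∧ p ∣ orderOf (k * g * k⁻¹) := by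
  exact Cfsg.Agent.Lib.Helper8.T2PSING.singular_conj P hP hcent g hg

variable {P : Subgroup G} {χ χ₁ : IrrCharacter G} {Y : Finset (IrrCharacter G)}

/-- T2P-INT: `χ` is integer-valued.  Recipe: header INT; `Helper23.isIrrCharacter_comp_pow`,
`Helper10.irr_int_of_forall_pow_eq`, `h.van`, `h.exc_deg`, `h.triv`, `h.deg`, `h.sing`; an element `y ∈ P` of order
`p` exists by Cauchy (`exists_prime_orderOf_dvd_card'`), `orderOf (y ^ m) = orderOf y` for `m` prime to `|G|`. -/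
theorem int_valued (h : BlockData p P χ χ₁ Y) (hp5 : 5 ≤ p) (hP : Nat.card P = p) (g : G) :
    ∃ n : ℤ, (χ : G → ℂ) g = (n : ℂ) := by
  exact Cfsg.Agent.Lib.Helper5.T2PINT.int_valued h hp5 hP g

/-- T2P-SQ: `χ² = χ η + 1 + η` (pointwise; `by_cases p ∣ orderOf g`, `h.sing` / `h.reg`). -/
theorem sq_eq (h : BlockData p P χ χ₁ Y) (η : IrrCharacter G) (hη : η ∈ Y) (g : G) :
    (χ : G → ℂ) g * (χ : G → ℂ) g =
      (χ : G → ℂ) g * (η : G → ℂ) g + 1 + (η : G → ℂ) g := by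
  exact Cfsg.Agent.Lib.Helper4.T2PSQ.sq_eq h η hη g

/-- T2P-B1A: `<χ², χ> = <χ², η> ≥ 1` for `η ∈ Y` (header B1; products of characters are characters:
`IsCharacter.mul`, multiplicities are naturals: `IsCharacter.classInner_nat`, orthogonality `classInner_irr'`). -/
theorem inner_sq [Fintype G] (h : BlockData p P χ χ₁ Y)
    (hreal : ∀ g : G, conj ((χ : G → ℂ) g) = (χ : G → ℂ) g)
    (η : IrrCharacter G) (hη : η ∈ Y) :
    ∃ b : ℕ, 1 ≤ b ∧
      classInner (fun g => (χ : G → ℂ) g * (χ : G → ℂ) g) (χ : G → ℂ) = (b : ℂ) ∧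
      classInner (fun g => (χ : G → ℂ) g * (χ : G → ℂ) g) (η : G → ℂ) = (b : ℂ) := by
  exact Cfsg.Agent.Lib.Helper4.T2PB1A.inner_sq h hreal η hη

/-- T2P-B1B: the degree count: `(p-1)² = χ²(1) = Σ_ψ <χ²,ψ> ψ(1) ≥ 1 + b (p-1) + t b (p-2)`, `t = (p-1)/2`, forces
`b = 1` (`classFunction_eq_sum` as in helper19's `W2PEXP.expand_pi`; all multiplicities are naturals; `<χ²,1> = <χ,χ̄> = 1`
is not even needed: drop that term and use `b ≥ 2 => 2(p-1) + (p-1)(p-2) = p(p-1) > (p-1)²`). -/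
theorem inner_sq_eq_one [Fintype G] (h : BlockData p P χ χ₁ Y) (hp5 : 5 ≤ p)
    (b : ℕ) (hb1 : 1 ≤ b)
    (hbχ : classInner (fun g => (χ : G → ℂ) g * (χ : G → ℂ) g) (χ : G → ℂ) = (b : ℂ))
    (hbY : ∀ η ∈ Y, classInner (fun g => (χ : G → ℂ) g * (χ : G → ℂ) g) (η : G → ℂ) = (b : ℂ)) :
    b = 1 := by
  exact Cfsg.Agent.Lib.Helper4.T2PB1B.inner_sq_eq_one h hp5 b hb1 hbχ hbY

/-- T2P-MOM: the first three moments of `χ` (`χ ≠ 1`, `χ` real, `<χ²,χ> = 1`). -/
theorem moments [Fintype G] (h : BlockData p P χ χ₁ Y)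
    (hreal : ∀ g : G, conj ((χ : G → ℂ) g) = (χ : G → ℂ) g)
    (hb : classInner (fun g => (χ : G → ℂ) g * (χ : G → ℂ) g) (χ : G → ℂ) = 1) :
    ∑ g : G, (χ : G → ℂ) g = 0 ∧ ∑ g : G, (χ : G → ℂ) g ^ 2 = (Nat.card G : ℂ) ∧
      ∑ g : G, (χ : G → ℂ) g ^ 3 = (Nat.card G : ℂ) := by
  exact Cfsg.Agent.Lib.Helper4.T2PMOM.moments h hreal hb

/-- T2P-COUNT: the number of `p`-singular elements (header COUNT; or directly: the Sylow `p`-subgroups are TI and
there are `|G| / (2p)` of them - then add the hypotheses you need and tell the planner). -/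
theorem card_singular [Fintype G] (h : BlockData p P χ χ₁ Y) (hp3 : 3 ≤ p)
    (hconj : ∀ g : G, p ∣ orderOf g →
      ∃ k : G, k * g * k⁻¹ ∈ P ∧ k * g * k⁻¹ ≠ 1 ∧ p ∣ orderOf (k * g * k⁻¹)) :
    2 * p * Nat.card {g : G // p ∣ orderOf g} = (p - 1) * Nat.card G := by
  exact Cfsg.Agent.Lib.Helper4.T2PCOUNT.card_singular h hp3 hconj

/-- T2P-BND: an integer value of `χ` is at most `p - 1`, with equality only at `1`
(`Helper14.BREEASYX.norm_apply_le`, `Helper24.irr_apply_one`). -/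
theorem value_le (hχ1 : (χ : G → ℂ) 1 = (p : ℂ) - 1)
    (hfaith : ∀ g : G, (χ : G → ℂ) g = (χ : G → ℂ) 1 → g = 1) (g : G) (n : ℤ)
    (hn : (χ : G → ℂ) g = (n : ℂ)) : n ≤ (p : ℤ) - 1 ∧ (n = (p : ℤ) - 1 → g = 1) := by
  exact Cfsg.Agent.Lib.Helper26.T2PSmall.value_le hχ1 hfaith g n hn

end abstract

/-- T2P-SHARP (pure counting, header SHARP). -/
theorem sharp_count {G : Type*} [Fintype G] (p : ℕ) (hp5 : 5 ≤ p) (f : G → ℤ) (e : G)
    (s : G → Prop) (hfe : f e = (p : ℤ) - 1) (hle : ∀ g : G, f g ≤ (p : ℤ) - 1)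
    (heq : ∀ g : G, f g = (p : ℤ) - 1 → g = e) (hfs : ∀ g : G, s g → f g = -1)
    (hs : 2 * p * Nat.card {g : G // s g} = (p - 1) * Fintype.card G)
    (h1 : ∑ g : G, f g = 0) (h2 : ∑ g : G, f g ^ 2 = (Fintype.card G : ℤ))
    (h3 : ∑ g : G, f g ^ 3 = (Fintype.card G : ℤ)) :
    Fintype.card G = p * (p - 1) * (p - 2) := by
  exact Cfsg.Agent.Lib.Helper26.T2PSHARP.sharp_count p hp5 f e s hfe hle heq hfs hs h1 h2 h3

/-- T2P-ARITH (header ARITH). -/
theorem arith (a : ℕ) (ha : 0 < a)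
    (h : (2 * a + 1) ∣ (2 * a ^ 2 + 2 * a) * (2 * a ^ 2 + 2 * a - 1)) : a = 1 := by
  exact Cfsg.Agent.Lib.Helper26.T2PSmall.arith a ha h

/-! ### the permutation part -/

section perm

variable {G : Type u} [Group G] [Fintype G] {Ω : Type v} [Fintype Ω] [DecidableEq Ω] [MulAction G Ω]

/-- T2P-PA: a Sylow `p`-subgroup has order `p` and is semiregular (`Helper16.W2PREDUCE.exists_semiregular` gives one
such subgroup; all Sylow `p`-subgroups are conjugate). -/
theorem sylow_card_semireg {p : ℕ} [Fact p.Prime] (hodd : p ≠ 2) [FaithfulSMul G Ω]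
    (hcard : Fintype.card Ω = 2 * p) (hprim : MulAction.IsPreprimitive G Ω)
    (h2 : ¬ MulAction.IsMultiplyPretransitive G Ω 2) (P : Sylow p G) :
    Nat.card (P : Subgroup G) = p ∧ Semireg (P : Subgroup G) Ω := by
  exact Cfsg.Agent.Lib.Helper8.T2PPA.sylow_card_semireg hodd hcard hprim h2 P

/-- T2P-PB: `P` is self-centralizing (header PERM; Mathlib `MonoidHom.ker_transferSylow_isComplement'`,
`MulAction.IsQuasiPreprimitive.isPretransitive_of_normal`; for `y ∈ P#`: `centralizer {y} = centralizer P ≤ normalizer P`,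
of order `2p`, contains `P`: it is `P` or `normalizer P`). -/
theorem centralizer_eq {p : ℕ} [Fact p.Prime] (hodd : p ≠ 2) [FaithfulSMul G Ω]
    (hcard : Fintype.card Ω = 2 * p) (hprim : MulAction.IsPreprimitive G Ω) (P : Sylow p G)
    (hP : Nat.card (P : Subgroup G) = p)
    (hN : Nat.card (Subgroup.normalizer ((P : Subgroup G) : Set G)) = 2 * p) :
    ∀ y : G, y ∈ (P : Subgroup G) → y ≠ 1 →
      Subgroup.centralizer ({y} : Set G) = (P : Subgroup G) := by
  exact Cfsg.Agent.Lib.Helper8.T2PPB.centralizer_eq hodd hcard hprim P hP hN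

/-- T2P-PC1: the constituent of degree `p - 1`.  `hw` = the conclusion of Wielandt's theorem (S0720) in the not
2-transitive case.  Recipe: `Helper23.W2PDECOMP.exists_chi1`, `Helper19.W2PEXP.expand_pi` (rank = `T.card + 2`, so
`T = {χ}`), `Helper16.W2PPI.permChar_facts` (π = 0 on p-singular, π 1 = 2p), `Chi1.deg`, `Chi1.vanish` + `hconj` + class
function (`IsCharacter.isClassFunction`). -/
theorem exists_char {p : ℕ} [Fact p.Prime] (hodd : p ≠ 2) [FaithfulSMul G Ω]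
    (hcard : Fintype.card Ω = 2 * p) (hprim : MulAction.IsPreprimitive G Ω)
    (h2 : ¬ MulAction.IsMultiplyPretransitive G Ω 2) (P : Sylow p G)
    (hP : Nat.card (P : Subgroup G) = p) (hsemi : Semireg (P : Subgroup G) Ω)
    (hconj : ∀ g : G, p ∣ orderOf g →
      ∃ k : G, k * g * k⁻¹ ∈ (P : Subgroup G) ∧ k * g * k⁻¹ ≠ 1 ∧ p ∣ orderOf (k * g * k⁻¹))
    (a₀ : Ω)
    (hrank : Nat.card (MulAction.orbitRel.Quotient (MulAction.stabilizer G a₀) Ω) = 3) :
    ∃ χ : IrrCharacter G, (χ : G → ℂ) 1 = (p : ℂ) - 1 ∧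
      ∀ g : G, p ∣ orderOf g → (χ : G → ℂ) g = -1 := by
  exact Cfsg.Agent.Lib.Helper26.T2PPC1.exists_char hodd hcard hprim h2 P hP hsemi hconj a₀ hrank

/-- T2P-PC2: such a character is faithful (header PERM; the kernel `{g | χ g = χ 1}` is a normal subgroup:
`Helper22.RO.char_eq_of_mem_closure` / `rep_eq_one_of_char_eq_finrank`; a normal subgroup `≠ ⊥` of a primitive faithful
group is transitive, so `2p` divides its order, Cauchy). -/
theorem faithful_of {p : ℕ} [Fact p.Prime] [FaithfulSMul G Ω]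
    (hcard : Fintype.card Ω = 2 * p) (hprim : MulAction.IsPreprimitive G Ω)
    (χ : IrrCharacter G) (hχ1 : (χ : G → ℂ) 1 = (p : ℂ) - 1)
    (hχs : ∀ g : G, p ∣ orderOf g → (χ : G → ℂ) g = -1) :
    ∀ g : G, (χ : G → ℂ) g = (χ : G → ℂ) 1 → g = 1 := by
  exact Cfsg.Agent.Lib.Helper5.T2PPC2.faithful_of hcard hprim χ hχ1 hχs

end perm

end Cfsg.Agent.Lib.Helper26.T2PMain

/-! ### spines (helper26) -/

namespace Cfsg.Agent.Lib.Helper26.T2PMain

open Cfsg Cfsg.Agent.CharLib Cfsg.Agent.Lib.Helper19.PDeg Cfsg.Agent.Lib.Helper19.W2P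
open scoped ComplexConjugate

universe u v

section abstractSpine

variable {G : Type u} [Group G] [Finite G] {p : ℕ} [hp : Fact p.Prime]

/-- **the sharpness theorem**: `|G| = p (p - 1) (p - 2)`. -/
theorem card_eq (hp5 : 5 ≤ p) (P : Sylow p G) (hP : Nat.card (P : Subgroup G) = p)
    (hcent : ∀ y : G, y ∈ (P : Subgroup G) → y ≠ 1 →
      Subgroup.centralizer ({y} : Set G) = (P : Subgroup G))
    (hN : Nat.card (Subgroup.normalizer ((P : Subgroup G) : Set G)) = 2 * p)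
    (χ : IrrCharacter G) (hχ1 : (χ : G → ℂ) 1 = (p : ℂ) - 1)
    (hχs : ∀ g : G, p ∣ orderOf g → (χ : G → ℂ) g = -1)
    (hfaith : ∀ g : G, (χ : G → ℂ) g = (χ : G → ℂ) 1 → g = 1) :
    Nat.card G = p * (p - 1) * (p - 2) := by
  classical
  let _ : Fintype G := Fintype.ofFinite G
  obtain ⟨χ₁, Y, h⟩ := exists_blockData hp5 P hP hcent hN χ hχ1 hχs
  have hint := fun g => int_valued h hp5 hP g
  choose f hf using hint
  have hreal : ∀ g : G, conj ((χ : G → ℂ) g) = (χ : G → ℂ) g := by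
    intro g
    rw [hf g, map_intCast]
  have hYne : Y.Nonempty := by
    rw [← Finset.card_pos, h.card]
    omega
  obtain ⟨η₀, hη₀⟩ := hYne
  obtain ⟨b, hb1, hbχ, -⟩ := inner_sq h hreal η₀ hη₀
  have hbY : ∀ η ∈ Y,
      classInner (fun g => (χ : G → ℂ) g * (χ : G → ℂ) g) (η : G → ℂ) = (b : ℂ) := by
    intro η hη
    obtain ⟨b', -, hb'χ, hb'η⟩ := inner_sq h hreal η hη
    rw [hb'η, ← hb'χ, hbχ]
  have hb : b = 1 := inner_sq_eq_one h hp5 b hb1 hbχ hbY
  obtain ⟨m1, m2, m3⟩ := moments h hreal (by rw [hbχ, hb]; simp)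
  have hconj := singular_conj P hP hcent
  have hcount := card_singular h (by omega) hconj
  have h1 : ∑ g : G, f g = 0 := by
    have : ((∑ g : G, f g : ℤ) : ℂ) = ((0 : ℤ) : ℂ) := by
      push_cast
      rw [← m1]
      exact Finset.sum_congr rfl (fun g _ => (hf g).symm)
    exact_mod_cast this
  have h2 : ∑ g : G, f g ^ 2 = (Fintype.card G : ℤ) := by
    have : ((∑ g : G, f g ^ 2 : ℤ) : ℂ) = ((Fintype.card G : ℤ) : ℂ) := by
      push_cast
      rw [← Nat.card_eq_fintype_card, ← m2]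
      exact Finset.sum_congr rfl (fun g _ => by rw [hf g])
    exact_mod_cast this
  have h3 : ∑ g : G, f g ^ 3 = (Fintype.card G : ℤ) := by
    have : ((∑ g : G, f g ^ 3 : ℤ) : ℂ) = ((Fintype.card G : ℤ) : ℂ) := by
      push_cast
      rw [← Nat.card_eq_fintype_card, ← m3]
      exact Finset.sum_congr rfl (fun g _ => by rw [hf g])
    exact_mod_cast this
  have hfe : f 1 = (p : ℤ) - 1 := by
    have : ((f 1 : ℤ) : ℂ) = (((p : ℤ) - 1 : ℤ) : ℂ) := by
      rw [← hf 1, hχ1]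
      push_cast
      rfl
    exact_mod_cast this
  have hle : ∀ g : G, f g ≤ (p : ℤ) - 1 := fun g => (value_le hχ1 hfaith g (f g) (hf g)).1
  have heq : ∀ g : G, f g = (p : ℤ) - 1 → g = 1 :=
    fun g => (value_le hχ1 hfaith g (f g) (hf g)).2
  have hfs : ∀ g : G, p ∣ orderOf g → f g = -1 := by
    intro g hg
    have : ((f g : ℤ) : ℂ) = ((-1 : ℤ) : ℂ) := by
      rw [← hf g, hχs g hg]
      push_cast
      rfl
    exact_mod_cast this
  rw [Nat.card_eq_fintype_card]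
  exact sharp_count p hp5 f 1 (fun g => p ∣ orderOf g) hfe hle heq hfs
    (by rw [hcount, Nat.card_eq_fintype_card]) h1 h2 h3

end abstractSpine

section permSpine

variable {G : Type u} [Group G] [Fintype G] {Ω : Type v} [Fintype Ω] [DecidableEq Ω] [MulAction G Ω]

/-- Wielandt's theorem (S0720) for a general faithful action (same proof as `Cfsg.Agent.S0720.result`). -/
theorem wielandt [FaithfulSMul G Ω] {p : ℕ} (hp : p.Prime) (hcard : Fintype.card Ω = 2 * p)
    (hprim : MulAction.IsPreprimitive G Ω) (a₀ : Ω) :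
    MulAction.IsMultiplyPretransitive G Ω 2 ∨
      (Nat.card (MulAction.orbitRel.Quotient (MulAction.stabilizer G a₀) Ω) = 3 ∧
        ∃ a : ℕ, 0 < a ∧ p = 2 * a ^ 2 + 2 * a + 1 ∧ ∀ b : Ω, b ≠ a₀ →
          Nat.card (MulAction.orbit (MulAction.stabilizer G a₀) b) = a * (2 * a + 1) ∨
          Nat.card (MulAction.orbit (MulAction.stabilizer G a₀) b) = (a + 1) * (2 * a + 1)) := by
  classical
  have : Fact p.Prime := ⟨hp⟩
  exact Cfsg.Agent.Lib.Helper19.W2PFinal.wielandt_2p_of hp hcard hprim a₀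
    (fun hodd h2 P hP hSyl hsemi =>
      Cfsg.Agent.Lib.Helper23.W2PDECOMP.exists_chi1 hp hodd hcard hprim h2 P hP hSyl hsemi)
    (fun P χ₁ h hne =>
      have : MulAction.IsPretransitive G Ω := hprim.toIsPretransitive
      have : Nonempty Ω := ⟨a₀⟩
      Cfsg.Agent.Lib.Helper5.W2PIDEM.idemFacts P χ₁ h hne)
    (fun hodd P hP hsemi χ₁ f =>
      Cfsg.Agent.Lib.Helper5.W2PORB.exists_orbData hp hodd hcard hprim P hP hsemi χ₁ f)
    (fun hodd P hP hSyl π hπ0 hπpow hπ1 χ₁ hdeg hχ₁ T htriv hχ₁T hdec ht =>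
      Cfsg.Agent.Lib.Helper7.W2PBLK.relIndex_mul_card hodd P hP hSyl π hπ0 hπpow hπ1 χ₁ hdeg hχ₁ T htriv
        hχ₁T hdec ht)
    (fun hodd P hP hsemi χ₁ a S d t hrank hblk =>
      have : MulAction.IsPretransitive G Ω := hprim.toIsPretransitive
      Cfsg.Agent.Lib.Helper23.W2PCOUNT.card_S_eq hp hodd hcard P hP hsemi χ₁ a S d a₀ t hrank hblk)

/-- **S4707** for a general faithful action. -/
theorem s4707 {p : ℕ} [Fact p.Prime] (hp3 : 3 < p) [FaithfulSMul G Ω]
    (hcard : Fintype.card Ω = 2 * p) (hprim : MulAction.IsPreprimitive G Ω)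
    (h2 : ¬ MulAction.IsMultiplyPretransitive G Ω 2) (P : Sylow p G)
    (hN : Nat.card (Subgroup.normalizer ((P : Subgroup G) : Set G)) = 2 * p) :
    p = 5 ∧ Nonempty (G ≃* alternatingGroup (Fin 5)) := by
  classical
  have hpp : p.Prime := Fact.out
  have hodd : p ≠ 2 := by omega
  have hp5 : 5 ≤ p := by
    rcases Nat.lt_or_ge p 5 with h | h
    · exfalso
      have h4 : p = 4 := by omega
      rw [h4] at hpp
      exact absurd hpp (by decide)
    · exact h
  obtain ⟨hP, hsemi⟩ := sylow_card_semireg hodd hcard hprim h2 P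
  have hcent := centralizer_eq hodd hcard hprim P hP hN
  have hconj := singular_conj P hP hcent
  have hpos : 0 < Fintype.card Ω := by rw [hcard]; omega
  obtain ⟨a₀⟩ : Nonempty Ω := Fintype.card_pos_iff.mp hpos
  rcases wielandt hpp hcard hprim a₀ with hw | ⟨hrank, a, ha, hpa, hsub⟩
  · exact absurd hw h2
  obtain ⟨χ, hχ1, hχs⟩ := exists_char hodd hcard hprim h2 P hP hsemi hconj a₀ hrank
  have hfaith := faithful_of hcard hprim χ hχ1 hχs
  have hG := card_eq hp5 P hP hcent hN χ hχ1 hχs hfaith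
  -- the stabilizer
  have htr : MulAction.IsPretransitive G Ω := hprim.toIsPretransitive
  have hstab : Nat.card (MulAction.stabilizer G a₀) * (2 * p) = Nat.card G := by
    rw [← hcard, ← Nat.card_eq_fintype_card (α := Ω),
      ← MulAction.index_stabilizer_of_transitive G a₀]
    exact Subgroup.card_mul_index _
  have hone : 1 < Fintype.card Ω := by rw [hcard]; omega
  obtain ⟨b, hb⟩ : ∃ b : Ω, b ≠ a₀ := by
    have : Nontrivial Ω := Fintype.one_lt_card_iff_nontrivial.mp hone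
    exact exists_ne a₀
  have hdvd : Nat.card (MulAction.orbit (MulAction.stabilizer G a₀) b) ∣
      Nat.card (MulAction.stabilizer G a₀) := by
    rw [Nat.card_coe_set_eq, ← MulAction.index_stabilizer (MulAction.stabilizer G a₀) b]
    exact Subgroup.index_dvd_card _
  have hu : (2 * a + 1) ∣ Nat.card (MulAction.stabilizer G a₀) := by
    rcases hsub b hb with h | h
    · exact (Dvd.intro_left _ rfl).trans (h ▸ hdvd)
    · exact (Dvd.intro_left _ rfl).trans (h ▸ hdvd)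
  have h2stab : Nat.card (MulAction.stabilizer G a₀) * 2 =
      (2 * a ^ 2 + 2 * a) * (2 * a ^ 2 + 2 * a - 1) := by
    have h1 : Nat.card (MulAction.stabilizer G a₀) * 2 * p = (p - 1) * (p - 2) * p := by
      rw [mul_assoc, hstab, hG]; ring
    have h3 := Nat.eq_of_mul_eq_mul_right hpp.pos h1
    rw [h3, hpa]
    congr 1
  have ha1 : a = 1 := arith a ha (h2stab ▸ hu.mul_right 2)
  subst ha1
  have hp5' : p = 5 := by rw [hpa]; norm_num
  subst hp5'
  refine ⟨rfl, ?_⟩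
  have hG60 : Nat.card G = 60 := by rw [hG]
  apply Cfsg.Agent.Lib.Helper19.mulEquiv_A5_of_card_sixty hG60
  rintro ⟨Q, hQ⟩
  have hQP : Q = P := by
    have := Sylow.unique_of_normal Q hQ
    exact Subsingleton.elim _ _
  subst hQP
  have htop : Subgroup.normalizer ((Q : Subgroup G) : Set G) = ⊤ :=
    Subgroup.normalizer_eq_top (Q : Subgroup G)
  rw [htop, Subgroup.card_top, hG60] at hN
  omega

end permSpine

end Cfsg.Agent.Lib.Helper26.T2PMain
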