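import Mathlib
import Cfsg.Prelude.Def_BlockRank
import Cfsg.Agent.Lib.Helper27.DODefs
import Cfsg.Agent.Lib.Lead.CharOrtho

set_option autoImplicit false

namespace Cfsg.Agent.Lib.Helper26.DOINERT

open Cfsg Cfsg.Agent.Lib.Helper8.DOM Cfsg.Agent.Lib.Helper27.DO
open scoped ComplexConjugate

universe u

variable {G : Type u} [Group G]

/-- the stabilizer of `θ` in `N_G(P)`, as a subgroup -/
def inertiaSub (P : Subgroup G) (θ : Cz P → ℂ) : Subgroup G where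
  carrier := {g | g ∈ Nz P ∧ ∀ c c' : Cz P, (c' : G) = g * c * g⁻¹ → θ c' = θ c}
  one_mem' := by
    refine ⟨(Nz P).one_mem, ?_⟩
    intro c c' h
    have : c' = c := Subtype.ext (by simpa using h)
    rw [this]
  mul_mem' := by
    rintro g h ⟨hg, hg'⟩ ⟨hh, hh'⟩
    refine ⟨(Nz P).mul_mem hg hh, ?_⟩
    intro c c' hc
    have h1 := hh' c ⟨h * c * h⁻¹, conj_mem_Cz P hh c.2⟩ rfl
    have h2 := hg' ⟨h * c * h⁻¹, conj_mem_Cz P hh c.2⟩ c' (by rw [hc]; group)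
    rw [h2, h1]
  inv_mem' := by
    rintro g ⟨hg, hg'⟩
    refine ⟨(Nz P).inv_mem hg, ?_⟩
    intro c c' hc
    have h1 := hg' c' c (by rw [hc]; group)
    exact h1.symm

theorem exists_inertia [Finite G] (P : Subgroup G) (θ : Cz P → ℂ) :
    ∃ T : Subgroup G, IsInertia P θ T :=
  ⟨inertiaSub P θ, fun _ => Iff.rfl⟩

theorem le_of_isInertia [Finite G] (P : Subgroup G) (θ : IrrCharacter (Cz P)) (T : Subgroup G)
    (hT : IsInertia P (θ : Cz P → ℂ) T) : Cz P ≤ T ∧ T ≤ Nz P := by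
  refine ⟨?_, fun g hg => ((hT g).mp hg).1⟩
  intro g hg
  rw [hT g]
  refine ⟨Subgroup.centralizer_le_normalizer (P : Set G) hg, ?_⟩
  intro c c' hc
  have hcls := Cfsg.Agent.CharLib.IsCharacter.isClassFunction
    (Cfsg.Agent.CharLib.IsIrrCharacter.isCharacter θ.2)
  have := hcls c ⟨g, hg⟩
  rw [← this]
  have hcc : c' = ⟨g, hg⟩ * c * ⟨g, hg⟩⁻¹ := Subtype.ext (by rw [hc]; rfl)
  rw [hcc]

end Cfsg.Agent.Lib.Helper26.DOINERT
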