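import Cfsg.Agent.Lib.Helper26.OmegaSmall
import Cfsg.Agent.Lib.Helper26.EssChain
import Cfsg.Agent.Lib.Helper26.FSNormalCrit
import Cfsg.Agent.Lib.Helper17.CharP

/-!
S5300: if every cyclic subgroup of the focal subgroup of order `p` (of order `2` or `4` when `p = 2`) is normal in `S`, then `S`
is normal in the saturated system `F`.
-/

set_option autoImplicit false
universe u

namespace Cfsg.Agent.Lib.Helper26

open Cfsg Cfsg.FusionSystem

section Abstract

variable {H : Type u} [Group H]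

/-- Conjugation by a `p`-element normalizing the cyclic group generated by a small element `y` fixes `y` or (when `p = 2`)
inverts it. -/
theorem conj_small {G : Type*} [Group G] {p : ℕ} [Fact p.Prime] (g y : G) (hg : ∃ j : ℕ, g ^ (p ^ j) = 1)
    (hy : y ^ p = 1 ∨ (p = 2 ∧ y ^ 4 = 1)) (h : g * y * g⁻¹ ∈ Subgroup.zpowers y) :
    g * y * g⁻¹ = y ∨ (p = 2 ∧ g * y * g⁻¹ = y⁻¹) := by
  have hpp : p.Prime := Fact.out
  by_cases hp2 : p = 2
  · -- `y ^ 4 = 1`
    have hy4 : y ^ 4 = 1 := by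
      rcases hy with hy | hy
      · rw [hp2] at hy
        calc y ^ 4 = (y ^ 2) ^ 2 := by rw [← pow_mul]
          _ = 1 := by rw [hy, one_pow]
      · exact hy.2
    obtain ⟨k, hk⟩ := Subgroup.mem_zpowers_iff.mp h
    have hk' : y ^ (k % ((4 : ℕ) : ℤ)) = g * y * g⁻¹ := by rw [← zpow_eq_zpow_emod' k hy4, hk]
    have h0 : 0 ≤ k % ((4 : ℕ) : ℤ) := Int.emod_nonneg _ (by norm_num)
    have h4 : k % ((4 : ℕ) : ℤ) < 4 := Int.emod_lt_of_pos _ (by norm_num)
    obtain ⟨r, hr⟩ : ∃ r : ℤ, r = k % ((4 : ℕ) : ℤ) := ⟨_, rfl⟩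
    rw [← hr] at hk' h0 h4
    have hone : g * y * g⁻¹ = 1 → y = 1 := by
      intro h1
      have : y = g⁻¹ * (g * y * g⁻¹) * g := by group
      rw [this, h1]; group
    interval_cases r
    · left
      rw [zpow_zero] at hk'
      rw [hone hk'.symm]; group
    · left
      rw [zpow_one] at hk'
      exact hk'.symm
    · left
      have h2 : (g * y * g⁻¹) ^ 2 = 1 := by
        rw [← hk']
        show (y ^ (2 : ℤ)) ^ 2 = 1
        rw [← zpow_natCast, ← zpow_mul]
        show y ^ ((4 : ℕ) : ℤ) = 1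
        rw [zpow_natCast, hy4]
      have h3 : y ^ 2 = 1 := by
        rw [conj_pow] at h2
        have : y ^ 2 = g⁻¹ * (g * y ^ 2 * g⁻¹) * g := by group
        rw [this, h2]; group
      have h5 : g * y * g⁻¹ = 1 := by
        rw [← hk']
        show y ^ ((2 : ℕ) : ℤ) = 1
        rw [zpow_natCast, h3]
      rw [hone h5]; group
    · right
      refine ⟨hp2, ?_⟩
      rw [← hk']
      have : y ^ (3 : ℤ) * y = 1 := by
        have : y ^ (3 : ℤ) * y = y ^ ((4 : ℕ) : ℤ) := by
          rw [show ((4 : ℕ) : ℤ) = 3 + 1 by norm_num, zpow_add, zpow_one]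
        rw [this, zpow_natCast, hy4]
      exact eq_inv_of_mul_eq_one_left this
  · left
    have hyp : y ^ p = 1 := by
      rcases hy with hy | hy
      · exact hy
      · exact absurd hy.1 hp2
    by_cases hy1 : y = 1
    · rw [hy1]; group
    have hord : orderOf y = p := orderOf_eq_prime hyp hy1
    obtain ⟨k, hk⟩ := Subgroup.mem_zpowers_iff.mp h
    have hk' : y ^ (k % (p : ℤ)) = g * y * g⁻¹ := by rw [← zpow_eq_zpow_emod' k hyp, hk]
    obtain ⟨n, hn⟩ : ∃ n : ℕ, (n : ℤ) = k % (p : ℤ) :=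
      ⟨(k % p).toNat, Int.toNat_of_nonneg (Int.emod_nonneg _ (by exact_mod_cast hpp.ne_zero))⟩
    rw [← hn, zpow_natCast] at hk'
    have hiter : ∀ m : ℕ, g ^ m * y * (g ^ m)⁻¹ = y ^ (n ^ m) := by
      intro m
      induction m with
      | zero => simp
      | succ m ih =>
        calc g ^ (m + 1) * y * (g ^ (m + 1))⁻¹ = g * (g ^ m * y * (g ^ m)⁻¹) * g⁻¹ := by
              rw [pow_succ']; group
          _ = g * y ^ (n ^ m) * g⁻¹ := by rw [ih]
          _ = (g * y * g⁻¹) ^ (n ^ m) := by rw [conj_pow]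
          _ = y ^ (n ^ (m + 1)) := by rw [← hk', ← pow_mul, pow_succ']
    obtain ⟨j, hj⟩ := hg
    have h1 := hiter (p ^ j)
    rw [hj] at h1
    have h2 : y ^ (n ^ p ^ j) = y ^ 1 := by rw [← h1]; group
    rw [pow_eq_pow_iff_modEq, hord] at h2
    have h3 : ((n ^ p ^ j : ℕ) : ZMod p) = ((1 : ℕ) : ZMod p) := (ZMod.natCast_eq_natCast_iff _ _ _).mpr h2
    rw [Nat.cast_pow, ZMod.pow_card_pow] at h3
    have h4 : n ≡ 1 [MOD p] := (ZMod.natCast_eq_natCast_iff _ _ _).mp h3
    rw [← hk']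
    have h5 : y ^ n = y ^ 1 := by rw [pow_eq_pow_iff_modEq, hord]; exact h4
    rw [h5, pow_one]

/-- Abstract core of S5300: the automizer of an essential subgroup cannot have a Sylow `p`-subgroup all of whose elements
fix or invert the small elements of an invariant subgroup `K` containing all `x⁻¹ a(x)`. -/
theorem EssData.false_of_good [Finite H] {p : ℕ} [Fact p.Prime] (hH : IsPGroup p H) {A : Subgroup (MulAut H)}
    (hd : EssData p H A) (R : Subgroup (MulAut H))
    (hconj : ∀ α ∈ A, (∃ j : ℕ, α ^ (p ^ j) = 1) → ∃ χ ∈ A, χ * α * χ⁻¹ ∈ R)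
    (K : Subgroup H) (hK : ∀ a ∈ A, ∀ x : H, x⁻¹ * a x ∈ K)
    (hgood : ∀ r ∈ R, ∀ y ∈ K, (y ^ p = 1 ∨ (p = 2 ∧ y ^ 4 = 1)) → r y = y ∨ (p = 2 ∧ r y = y⁻¹)) : False := by
  have hKinv : ∀ a ∈ A, ∀ y ∈ K, a y ∈ K := by
    intro a ha y hy
    have : a y = y * (y⁻¹ * a y) := by group
    rw [this]
    exact K.mul_mem hy (hK a ha y)
  have hsmall : ∀ (a : MulAut H) (y : H), (y ^ p = 1 ∨ (p = 2 ∧ y ^ 4 = 1)) →
      ((a y) ^ p = 1 ∨ (p = 2 ∧ (a y) ^ 4 = 1)) := by
    intro a y hy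
    rcases hy with hy | ⟨h2, hy⟩
    · left; rw [← map_pow, hy, map_one]
    · right; exact ⟨h2, by rw [← map_pow, hy, map_one]⟩
  let D : Subgroup A :=
    { carrier := {a | ∀ y ∈ K, (y ^ p = 1 ∨ (p = 2 ∧ y ^ 4 = 1)) →
        (a : MulAut H) y = y ∨ (p = 2 ∧ (a : MulAut H) y = y⁻¹)}
      one_mem' := fun y _ _ => Or.inl rfl
      mul_mem' := by
        intro a b ha hb y hy hys
        show (a : MulAut H) ((b : MulAut H) y) = y ∨ (p = 2 ∧ (a : MulAut H) ((b : MulAut H) y) = y⁻¹)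
        rcases hb y hy hys with h1 | ⟨h2, h1⟩
        · rw [h1]; exact ha y hy hys
        · rw [h1, map_inv]
          rcases ha y hy hys with h3 | ⟨_, h3⟩
          · right; exact ⟨h2, by rw [h3]⟩
          · left; rw [h3, inv_inv]
      inv_mem' := by
        intro a ha y hy hys
        have hy' : (a⁻¹ : A).1 y ∈ K := hKinv _ (a⁻¹ : A).2 y hy
        have hys' := hsmall (a⁻¹ : A).1 y hys
        have hay : (a : MulAut H) ((a⁻¹ : A).1 y) = y := by
          show (a : MulAut H) ((a : MulAut H)⁻¹ y) = y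
          exact MulAut.apply_inv_self H _ _
        show (a⁻¹ : A).1 y = y ∨ (p = 2 ∧ (a⁻¹ : A).1 y = y⁻¹)
        rcases ha _ hy' hys' with h1 | ⟨h2, h1⟩
        · left; rw [hay] at h1; exact h1.symm
        · right
          rw [hay] at h1
          exact ⟨h2, (inv_eq_iff_eq_inv.mp h1.symm)⟩ }
  have hDmem : ∀ a : A, a ∈ D ↔ ∀ y ∈ K, (y ^ p = 1 ∨ (p = 2 ∧ y ^ 4 = 1)) →
      (a : MulAut H) y = y ∨ (p = 2 ∧ (a : MulAut H) y = y⁻¹) := fun a => Iff.rfl
  have hDn : D.Normal := by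
    constructor
    intro a ha g
    rw [hDmem]
    intro y hy hys
    have hy' : (g⁻¹ : A).1 y ∈ K := hKinv _ (g⁻¹ : A).2 y hy
    have hys' := hsmall (g⁻¹ : A).1 y hys
    have hgy : (g : MulAut H) ((g⁻¹ : A).1 y) = y := by
      show (g : MulAut H) ((g : MulAut H)⁻¹ y) = y
      exact MulAut.apply_inv_self H _ _
    show (g : MulAut H) ((a : MulAut H) ((g⁻¹ : A).1 y)) = y ∨
      (p = 2 ∧ (g : MulAut H) ((a : MulAut H) ((g⁻¹ : A).1 y)) = y⁻¹)
    rcases ha _ hy' hys' with h1 | ⟨h2, h1⟩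
    · left; rw [h1, hgy]
    · right; exact ⟨h2, by rw [h1, map_inv, hgy]⟩
  have hDp : IsPGroup p D := by
    apply Cfsg.Agent.Lib.Helper16.isPGroup_of_coprime_trivial
    intro x hx hcop
    set d : MulAut H := (x : MulAut H) with hdx
    have hdA : d ∈ A := x.2
    have hcop' : (orderOf d).Coprime p := by rw [hdx, Subgroup.orderOf_coe]; exact hcop
    have hfix : ∀ y ∈ K, (y ^ p = 1 ∨ (p = 2 ∧ y ^ 4 = 1)) → d y = y := by
      intro y hy hys
      rcases hx y hy hys with h1 | ⟨h2, h1⟩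
      · exact h1
      · have hd2 : (d ^ 2) y = y := by
          rw [pow_two, MulAut.mul_apply, h1, map_inv, h1, inv_inv]
        have hodd : Odd (orderOf d) := by
          rw [h2] at hcop'
          exact Nat.Coprime.odd_of_right hcop'
        obtain ⟨m, hm⟩ := hodd
        have h3 : (d ^ (orderOf d)) y = y⁻¹ := by
          rw [hm, pow_succ, pow_mul, MulAut.mul_apply, h1, map_inv, aut_pow_fix hd2 m]
        rw [pow_orderOf_eq_one, MulAut.one_apply] at h3
        rw [h1, ← h3]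
    have hKiff : ∀ x, x ∈ K ↔ d x ∈ K := by
      intro z
      constructor
      · exact hKinv d hdA z
      · intro hz
        have := hKinv d⁻¹ (A.inv_mem hdA) _ hz
        rwa [MulAut.inv_apply_self] at this
    set δ := autRestrict d K hKiff with hδ
    have hδord : orderOf δ ∣ orderOf d := by
      apply orderOf_dvd_of_pow_eq_one
      ext y
      rw [autRestrict_pow_apply, pow_orderOf_eq_one]
      rfl
    have hδcop : (orderOf δ).Coprime p := Nat.Coprime.coprime_dvd_left hδord hcop'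
    have hδ1 : δ = 1 := by
      apply aut_eq_one_of_fix_small (hH.to_subgroup K) δ hδcop
      intro y hys
      apply Subtype.ext
      show d y = y
      apply hfix y y.2
      rcases hys with h1 | ⟨h2, h1⟩
      · left
        have := congrArg Subtype.val h1
        simpa using this
      · right
        have := congrArg Subtype.val h1
        exact ⟨h2, by simpa using this⟩
    have hdK : ∀ y ∈ K, d y = y := by
      intro y hy
      have := congrArg (fun f : MulAut K => ((f ⟨y, hy⟩ : K) : H)) hδ1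
      exact this
    have hd1 : d = 1 := by
      ext z
      exact Cfsg.Agent.Lib.Helper20.fix_of_fix_comm hH d hcop' z (hdK _ (hK d hdA z))
    apply Subtype.ext
    exact hd1
  obtain ⟨α, hαA, hαInn, j, hj⟩ := hd.out
  obtain ⟨χ, hχA, hχ⟩ := hconj α hαA ⟨j, hj⟩
  have hmem : (⟨χ, hχA⟩ * ⟨α, hαA⟩ * ⟨χ, hχA⟩⁻¹ : A) ∈ D := by
    rw [hDmem]
    exact hgood _ hχ
  have hαD : (⟨α, hαA⟩ : A) ∈ D := by
    have := hDn.conj_mem _ hmem (⟨χ, hχA⟩⁻¹ : A)
    have h2 : (⟨χ, hχA⟩⁻¹ : A) * (⟨χ, hχA⟩ * ⟨α, hαA⟩ * ⟨χ, hχA⟩⁻¹) * (⟨χ, hχA⟩⁻¹ : A)⁻¹ = ⟨α, hαA⟩ := by group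
    rwa [h2] at this
  exact hαInn (hd.core D hDn hDp _ hαD)

end Abstract

section Focal

variable {Ω : Type u} [Group Ω] {S : Subgroup Ω}

/-- S5300. -/
theorem isNormal_top_of_focal_small [Finite S] {p : ℕ} [Fact p.Prime] (hS : IsPGroup p S) (F : FusionSystem S)
    (hF : F.IsSaturated p)
    (hnorm : ∀ x ∈ F.focalSubgroup, (x ^ p = 1 ∨ (p = 2 ∧ x ^ 4 = 1)) →
      ∀ s ∈ S, s * x * s⁻¹ ∈ Subgroup.zpowers x) : F.IsNormal S := by
  apply isNormal_of_forall_aut hS F hF S
  intro P hP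
  rcases hP with rfl | hP
  · refine ⟨le_rfl, fun α _ => ?_⟩
    rw [Subgroup.subgroupOf_self]
    exact Subgroup.map_top_of_surjective _ α.surjective
  · exfalso
    have hPS : P ≤ S := hP.1.1
    have hfin : Finite P := finite_of_le hPS
    have hd := essData_of_essential hS F hP
    have hfa := (saturated_fn hS F hF hP.2.1).2
    apply hd.false_of_good (hS.to_le hPS) (autInducedBy S P) ?_ ((F.focalSubgroup).subgroupOf P) ?_ ?_
    · intro α hαA ⟨j, hj⟩
      have hB : Subgroup.zpowers α ≤ F.autGroup P := by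
        rw [Subgroup.zpowers_le]; exact hαA
      have hBp : IsPGroup p (Subgroup.zpowers α) := by
        rintro ⟨β, hβ⟩
        obtain ⟨k, rfl⟩ := Subgroup.mem_zpowers_iff.mp hβ
        refine ⟨j, Subtype.ext ?_⟩
        show (α ^ k) ^ (p ^ j) = 1
        rw [← zpow_natCast, ← zpow_mul, mul_comm, zpow_mul, zpow_natCast, hj, one_zpow]
      obtain ⟨χ, hχA, hχ⟩ := exists_conj_mem_autInducedBy F hfa _ hB hBp
      exact ⟨χ, hχA, hχ α (Subgroup.mem_zpowers α)⟩
    · intro a ha x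
      rw [Subgroup.mem_subgroupOf]
      have hφ := (mem_autGroup_iff F hPS a).mp ha
      exact Subgroup.subset_closure ⟨P, _, x, hφ, rfl⟩
    · intro r hr y hy hys
      obtain ⟨g, hg, hgr⟩ := (mem_autInducedBy_iff S P r).mp hr
      rw [Subgroup.mem_subgroupOf] at hy
      have hys' : ((y : Ω) ^ p = 1 ∨ (p = 2 ∧ (y : Ω) ^ 4 = 1)) := by
        rcases hys with h1 | ⟨h2, h1⟩
        · left
          have := congrArg Subtype.val h1
          simpa using this
        · right
          have := congrArg Subtype.val h1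
          exact ⟨h2, by simpa using this⟩
      have hgp : ∃ j : ℕ, g ^ (p ^ j) = 1 := by
        obtain ⟨k, hk⟩ := hS ⟨g, hg⟩
        exact ⟨k, by simpa using congrArg Subtype.val hk⟩
      rcases conj_small g (y : Ω) hgp hys' (hnorm _ hy hys' g hg) with h1 | ⟨h2, h1⟩
      · left
        apply Subtype.ext
        rw [hgr, h1]
      · right
        refine ⟨h2, Subtype.ext ?_⟩
        rw [hgr, h1]
        rfl

end Focal

end Cfsg.Agent.Lib.Helper26
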