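import Cfsg.Agent.Lib.Helper26.FSNormalCrit

/-!
Frobenius-type criterion: a saturated fusion system all of whose automizers are `p`-groups is the
inner fusion system.
-/

set_option autoImplicit false

namespace Cfsg.Agent.Lib.Helper26

open Cfsg Cfsg.FusionSystem

variable {Ω : Type*} [Group Ω] {S : Subgroup Ω}

/-- The inner fusion system lies in every fusion system. -/
theorem inner_hom_subset (F : FusionSystem S) (P : Subgroup Ω) : (innerFusionSystem S).Hom P ⊆ F.Hom P := by
  rintro φ ⟨hP, g, hg, hφ⟩
  have : φ = conjHom P g := by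
    ext x
    rw [hφ x]
    rfl
  rw [this]
  exact F.conj_mem hP hg

/-- If all `Aut_F(P)` are `p`-groups then there are no essential subgroups. -/
theorem not_essential_of_isPGroup [Finite S] {p : ℕ} [Fact p.Prime] (F : FusionSystem S) {P : Subgroup Ω}
    (h : IsPGroup p (F.autGroup P)) : ¬ F.IsEssential p P := by
  rintro ⟨hc, -, hn, E, hE⟩
  have hfin : Finite P := finite_of_le hc.1
  have hX : IsPGroup p (F.autGroup P ⧸ (Inn P).subgroupOf (F.autGroup P)) :=
    h.to_quotient _
  have htop : IsPGroup p (⊤ : Subgroup (F.autGroup P ⧸ (Inn P).subgroupOf (F.autGroup P))) :=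
    hX.to_subgroup _
  have := eq_bot_of_normal_of_stronglyPEmbedded E hE ⊤ htop
  have hcard : Nat.card (F.autGroup P ⧸ (Inn P).subgroupOf (F.autGroup P)) = 1 := by
    rw [← Subgroup.card_top, this, Subgroup.card_bot]
  have hdvd := hE.1
  rw [hcard] at hdvd
  exact (Fact.out : p.Prime).one_lt.ne' (Nat.dvd_one.mp hdvd)

/-- **Frobenius-type criterion.** -/
theorem eq_inner_of_forall_isPGroup [Finite S] {p : ℕ} [Fact p.Prime] (hS : IsPGroup p S) (F : FusionSystem S)
    (hF : F.IsSaturated p) (h : ∀ P : Subgroup Ω, P ≤ S → IsPGroup p (F.autGroup P)) :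
    F = innerFusionSystem S := by
  apply fusionSystem_ext
  intro P
  apply Set.Subset.antisymm _ (inner_hom_subset F P)
  apply alperin hS F hF (innerFusionSystem S)
  rintro R (rfl | hR)
  · -- `Aut_F(S) = Aut_S(S)`
    obtain ⟨-, T, hT⟩ := (saturated_fn hS F hF (top_fullyNormalized F)).2
    have hTtop : (T : Subgroup (F.autGroup R)) = ⊤ := by
      have hpg : IsPGroup p (⊤ : Subgroup (F.autGroup R)) := (h R le_rfl).to_subgroup _
      obtain ⟨T', hT'⟩ := hpg.exists_le_sylow
      have h1 : (T' : Subgroup (F.autGroup R)) = ⊤ := top_le_iff.mp hT'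
      have hfin : Finite (MulAut R) := inferInstance
      obtain ⟨g, hg⟩ := MulAction.exists_smul_eq (F.autGroup R) T' T
      rw [← hg, Sylow.coe_subgroup_smul, h1]
      simp
    intro α hα
    have : (⟨α, hα⟩ : F.autGroup R) ∈ (T : Subgroup (F.autGroup R)) := by rw [hTtop]; trivial
    rw [hT, Subgroup.mem_subgroupOf] at this
    exact autInducedBy_le_autGroup (innerFusionSystem R) le_rfl this
  · exact absurd hR (not_essential_of_isPGroup F (h R hR.1.1))

end Cfsg.Agent.Lib.Helper26
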