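import Cfsg.Agent.Lib.Helper26.FSFocal

/-!
The hyperfocal subgroup of a saturated fusion system is strongly closed (S5124).
-/

set_option autoImplicit false

namespace Cfsg.Agent.Lib.Helper26

open Cfsg Cfsg.FusionSystem
open scoped commutatorElement

variable {Ω : Type*} [Group Ω] {S : Subgroup Ω}

/-- Transport of `Aut_F` along an isomorphism of the system, as a homomorphism. -/
noncomputable def autCongr (F : FusionSystem S) {P Q : Subgroup Ω} {e : P ≃* Q} (he : IsFIso F e) :
    F.autGroup P →* F.autGroup Q :=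
  ((MulAut.congr e).toMonoidHom.comp (F.autGroup P).subtype).codRestrict (F.autGroup Q)
    (fun α => congr_mem_autGroup F he α.2)

theorem autCongr_coe (F : FusionSystem S) {P Q : Subgroup Ω} {e : P ≃* Q} (he : IsFIso F e) (α : F.autGroup P) :
    ((autCongr F he α : F.autGroup Q) : MulAut Q) = MulAut.congr e (α : MulAut P) := rfl

theorem autCongr_injective (F : FusionSystem S) {P Q : Subgroup Ω} {e : P ≃* Q} (he : IsFIso F e) :
    Function.Injective (autCongr F he) := by
  intro a b hab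
  have h1 : MulAut.congr e (a : MulAut P) = MulAut.congr e (b : MulAut P) := congrArg Subtype.val hab
  exact Subtype.ext ((MulAut.congr e).injective h1)

theorem hyperfocal_le (F : FusionSystem S) (p : ℕ) : F.hyperfocalSubgroup p ≤ S := by
  unfold hyperfocalSubgroup
  rw [Subgroup.closure_le]
  rintro _ ⟨P, α, x, hP, -, rfl⟩
  exact S.mul_mem (S.inv_mem (hP x.2)) (hP ((α : MulAut P) x).2)

/-- Conjugating a generator of the hyperfocal subgroup along an isomorphism of the system. -/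
theorem hyperfocal_transport (F : FusionSystem S) (p : ℕ) {P Q : Subgroup Ω} {e : P ≃* Q} (he : IsFIso F e)
    (α : F.autGroup P) (hα : α ∈ pResidual p (F.autGroup P)) (x : P) :
    ((e x : Q) : Ω)⁻¹ * ((e ((α : MulAut P) x) : Q) : Ω) ∈ F.hyperfocalSubgroup p := by
  have h1 : autCongr F he α ∈ pResidual p (F.autGroup Q) :=
    map_pResidual_le_of_injective p (autCongr F he) (autCongr_injective F he) ⟨α, hα, rfl⟩
  have h2 := mem_hyperfocal_of F p he.le_right (autCongr F he α) h1 (e x)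
  have h3 : ((autCongr F he α : F.autGroup Q) : MulAut Q) (e x) = e ((α : MulAut P) x) := by
    rw [autCongr_coe]
    simp [MulAut.congr]
  rw [h3] at h2
  exact h2

/-- The hyperfocal subgroup is normalized by `S`. -/
theorem hyperfocal_conj_mem (F : FusionSystem S) (p : ℕ) {s : Ω} (hs : s ∈ S) {y : Ω}
    (hy : y ∈ F.hyperfocalSubgroup p) : s * y * s⁻¹ ∈ F.hyperfocalSubgroup p := by
  unfold hyperfocalSubgroup at hy
  induction hy using Subgroup.closure_induction with
  | mem y hy =>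
    obtain ⟨P, α, x, hP, hα, rfl⟩ := hy
    have hφ : conjHom P s ∈ F.Hom P := F.conj_mem hP hs
    have he := homEquiv_isFIso F hφ rfl
    have := hyperfocal_transport F p he α hα x
    rw [homEquiv_apply, homEquiv_apply, conjHom_apply, conjHom_apply] at this
    have e : s * ((x : Ω)⁻¹ * (((α : MulAut P) x : P) : Ω)) * s⁻¹ =
        (s * x * s⁻¹)⁻¹ * (s * (((α : MulAut P) x : P) : Ω) * s⁻¹) := by
      simp [mul_assoc]
    rw [e]
    exact this
  | one => simp
  | mul a b _ _ ha hb =>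
    have : s * (a * b) * s⁻¹ = (s * a * s⁻¹) * (s * b * s⁻¹) := by simp [mul_assoc]
    rw [this]
    exact Subgroup.mul_mem _ ha hb
  | inv a _ ha =>
    have : s * a⁻¹ * s⁻¹ = (s * a * s⁻¹)⁻¹ := by simp [mul_assoc]
    rw [this]
    exact Subgroup.inv_mem _ ha

theorem hyperfocal_conj_mem_iff (F : FusionSystem S) (p : ℕ) {s : Ω} (hs : s ∈ S) (y : Ω) :
    y ∈ F.hyperfocalSubgroup p ↔ s * y * s⁻¹ ∈ F.hyperfocalSubgroup p := by
  refine ⟨hyperfocal_conj_mem F p hs, fun h => ?_⟩
  have := hyperfocal_conj_mem F p (S.inv_mem hs) h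
  simpa [mul_assoc] using this

/-- The predicate "`φ` preserves membership in `H`" for a subgroup `H` normalized by `S`. -/
def closedPred (F : FusionSystem S) (H : Subgroup Ω)
    (hH : ∀ s ∈ S, ∀ y : Ω, y ∈ H ↔ s * y * s⁻¹ ∈ H) : HomPred F where
  C P φ := ∀ x : P, (x : Ω) ∈ H ↔ φ x ∈ H
  conj := by
    intro P g _ hg x
    rw [conjHom_apply]
    exact hH g hg x
  comp := by
    intro P Q φ ψ _ _ hφ hψ h x
    rw [hφ x]
    exact hψ ⟨φ x, h x⟩
  inv := by
    intro P φ _ hφ ψ _ hψx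
    rintro ⟨_, x, rfl⟩
    have h2 : ψ ⟨φ x, ⟨x, rfl⟩⟩ = (x : Ω) := hψx x
    show φ x ∈ H ↔ ψ ⟨φ x, _⟩ ∈ H
    rw [h2]
    exact (hφ x).symm

theorem hyperfocal_stronglyClosed [Finite S] {p : ℕ} [Fact p.Prime] (hS : IsPGroup p S) (F : FusionSystem S)
    (hF : F.IsSaturated p) : F.StronglyClosed (F.hyperfocalSubgroup p) := by
  set H := F.hyperfocalSubgroup p with hH
  have hnorm : ∀ s ∈ S, ∀ y : Ω, y ∈ H ↔ s * y * s⁻¹ ∈ H := fun s hs y =>
    hyperfocal_conj_mem_iff F p hs y
  -- automorphisms of fully normalized subgroups preserve `H`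
  have haut : ∀ P : Subgroup Ω, F.IsFullyNormalized P → ∀ α ∈ F.autGroup P, ∀ x : P,
      (x : Ω) ∈ H → ((α x : P) : Ω) ∈ H := by
    intro P hPn α hα x hx
    obtain ⟨β, hβ, s, hsS, hsN, hαβ⟩ := exists_mul_pResidual_autS hS F hF hPn ⟨α, hα⟩
    have hα' : α = (β : MulAut P) * P.normalizerMonoidHom ⟨s, hsN⟩ := hαβ
    set y : P := P.normalizerMonoidHom ⟨s, hsN⟩ x with hy
    have hyv : (y : Ω) = s * x * s⁻¹ := rfl
    have h1 : (y : Ω) ∈ H := by rw [hyv]; exact (hnorm s hsS _).mp hx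
    have h2 : (y : Ω)⁻¹ * (((β : MulAut P) y : P) : Ω) ∈ H := mem_hyperfocal_of F p hPn.1 β hβ y
    have : ((α x : P) : Ω) = (y : Ω) * ((y : Ω)⁻¹ * (((β : MulAut P) y : P) : Ω)) := by
      rw [hα', MulAut.mul_apply, ← hy]
      simp
    rw [this]
    exact H.mul_mem h1 h2
  have key := (closedPred F H hnorm).forall_of_aut hS hF ?_
  · refine ⟨hyperfocal_le F p, fun R hR φ hφ x => ?_⟩
    exact (key R φ hφ x).mp (hR x.2)
  · intro P hP α hα x
    have hPn : F.IsFullyNormalized P := by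
      rcases hP with rfl | hP
      · exact top_fullyNormalized F
      · exact hP.2.1
    show (x : Ω) ∈ H ↔ ((α x : P) : Ω) ∈ H
    refine ⟨haut P hPn α hα x, fun h => ?_⟩
    have := haut P hPn α⁻¹ ((F.autGroup P).inv_mem hα) (α x) h
    simpa using this

end Cfsg.Agent.Lib.Helper26
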