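import Mathlib
import Cfsg.Agent.Lib.Helper26.CSDDefs

set_option autoImplicit false

namespace Cfsg.Agent.Lib.Helper26.CSD

open Cfsg.Agent.Lib.Helper17.ClassGraph
open scoped commutatorElement

variable {G : Type*} [Group G]

theorem not_dvd_ind_of_sylow_le [Finite G] (t : ℕ) [Fact t.Prime] (w : G) (T : Sylow t G)
    (hT : (T : Subgroup G) ≤ Subgroup.centralizer {w}) : ¬ t ∣ ind w := by
  intro hd
  exact T.not_dvd_index (dvd_trans hd (Subgroup.index_dvd_of_le hT))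

theorem sylow_le_centralizer_of_normal [Finite G] (t : ℕ) [Fact t.Prime] (w : G)
    (hn : (Subgroup.centralizer ({w} : Set G)).Normal) (ht : ¬ t ∣ ind w) (T : Sylow t G) :
    (T : Subgroup G) ≤ Subgroup.centralizer {w} := by
  obtain ⟨T', hT'⟩ := exists_sylow_le_of_not_dvd_index (Subgroup.centralizer ({w} : Set G)) ht
  obtain ⟨g, hg⟩ := MulAction.exists_smul_eq G T' T
  intro y hy
  have hy' : y ∈ ((g • T' : Sylow t G) : Subgroup G) := by rw [hg]; exact hy
  rw [Sylow.smul_def, Sylow.pointwise_smul_def] at hy'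
  obtain ⟨y₀, hy₀, rfl⟩ := hy'
  exact hn.conj_mem y₀ (hT' hy₀) g

theorem conj_mem_of_comm_mem (H C : Subgroup G) (hHC : H ≤ C) {a k : G}
    (ha : ∀ g : G, ⁅g, a⁆ ∈ H) (hk : k ∈ C) : a * k * a⁻¹ ∈ C := by
  have e : a * k * a⁻¹ = (⁅k, a⁆)⁻¹ * k := by
    rw [commutatorElement_def]; group
  rw [e]
  exact C.mul_mem (C.inv_mem (hHC (ha k))) hk

/-- (NC2) -/
theorem centralizer_normal_of [Finite G] (H : Subgroup G) [H.Normal] (Sg : Set ℕ)
    (hNC : ∀ (s : ℕ) [Fact s.Prime], s ∈ Sg → ∀ (S : Sylow s G) (a : G), a ∈ S → ∀ g : G, ⁅g, a⁆ ∈ H)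
    (w : G) (hw : H ≤ Subgroup.centralizer {w}) (hSg : ∀ t : ℕ, t.Prime → t ∣ ind w → t ∈ Sg) :
    (Subgroup.centralizer ({w} : Set G)).Normal := by
  set C := Subgroup.centralizer ({w} : Set G) with hC
  rw [← Subgroup.normalizer_eq_top_iff]
  by_contra hM
  have hidx : (Subgroup.normalizer (C : Set G)).index ≠ 1 :=
    fun h1 => hM (Subgroup.index_eq_one.mp h1)
  obtain ⟨s, hs, hsd⟩ := Nat.exists_prime_and_dvd hidx
  have hsw : s ∣ ind w := dvd_trans hsd (Subgroup.index_dvd_of_le Subgroup.le_normalizer)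
  have hsSg : s ∈ Sg := hSg s hs hsw
  have : Fact s.Prime := ⟨hs⟩
  obtain ⟨S⟩ : Nonempty (Sylow s G) := inferInstance
  have hSM : (S : Subgroup G) ≤ Subgroup.normalizer (C : Set G) := by
    rw [Subgroup.le_normalizer_iff]
    intro a ha k hk
    exact conj_mem_of_comm_mem H C hw (hNC s hsSg S a ha) hk
  exact S.not_dvd_index (dvd_trans hsd (Subgroup.index_dvd_of_le hSM))

end Cfsg.Agent.Lib.Helper26.CSD
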