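import Mathlib

/-!
# S4385 (market "GLAUB2"): leaf IDX1 (`relIndex_centralizer_four`) and shared tools for IDX1 / IDX2
-/

set_option autoImplicit false

namespace Cfsg.Agent.Lib.Helper26.GLAUB2IDX1

variable {G : Type*} [Group G]

/-- the order of a point stabilizer in a finite symmetric group -/
theorem card_stabilizer_perm26 {Y : Type*} [Finite Y] (y : Y) :
    Nat.card (MulAction.stabilizer (Equiv.Perm Y) y) = Nat.factorial (Nat.card Y - 1) := by
  have h1 := Subgroup.card_mul_index (MulAction.stabilizer (Equiv.Perm Y) y)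
  rw [MulAction.index_stabilizer_of_transitive, Nat.card_perm] at h1
  have hpos : 0 < Nat.card Y := Nat.card_pos_iff.mpr ⟨⟨y⟩, inferInstance⟩
  obtain ⟨n, hn⟩ : ∃ n, Nat.card Y = n + 1 := ⟨Nat.card Y - 1, by omega⟩
  rw [hn, Nat.factorial_succ] at h1
  rw [hn, Nat.add_sub_cancel]
  have h2 : Nat.card (MulAction.stabilizer (Equiv.Perm Y) y) * (n + 1) = n.factorial * (n + 1) := by
    rw [h1, mul_comm]
  exact Nat.eq_of_mul_eq_mul_right (Nat.succ_pos n) h2

/-- the conjugation action of `H ≤ N_G(K)` on `K`, as a permutation representation -/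
noncomputable def conjPerm (H K : Subgroup G) (hN : H ≤ Subgroup.normalizer (K : Set G)) :
    ↥H →* Equiv.Perm ↥K :=
  (MulAut.toPerm ↥K).comp (K.normalizerMonoidHom.comp (Subgroup.inclusion hN))

theorem conjPerm_apply_coe (H K : Subgroup G) (hN : H ≤ Subgroup.normalizer (K : Set G)) (h : ↥H)
    (k : ↥K) : ((conjPerm H K hN h k : ↥K) : G) = (h : G) * (k : G) * (h : G)⁻¹ := rfl

theorem conjPerm_ker (H K : Subgroup G) (hN : H ≤ Subgroup.normalizer (K : Set G)) :
    (conjPerm H K hN).ker = (Subgroup.centralizer (K : Set G) ⊓ H).subgroupOf H := by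
  ext h
  rw [MonoidHom.mem_ker, Subgroup.mem_subgroupOf, Subgroup.mem_inf]
  constructor
  · intro hh
    refine ⟨?_, h.2⟩
    rw [Subgroup.mem_centralizer_iff]
    intro k hk
    have h1 := congrArg (fun f : Equiv.Perm ↥K => ((f ⟨k, hk⟩ : ↥K) : G)) hh
    simp only [conjPerm_apply_coe, Equiv.Perm.coe_one, id_eq] at h1
    calc k * (h : G) = ((h : G) * k * (h : G)⁻¹) * (h : G) := by rw [h1]
      _ = (h : G) * k := by group
  · rintro ⟨hc, _⟩
    ext k
    rw [conjPerm_apply_coe, Equiv.Perm.coe_one, id_eq]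
    have := Subgroup.mem_centralizer_iff.mp hc (k : G) k.2
    rw [← this]
    group

theorem relIndex_eq_card_range (H K : Subgroup G) (hN : H ≤ Subgroup.normalizer (K : Set G)) :
    (Subgroup.centralizer (K : Set G) ⊓ H).relIndex H = Nat.card ↥(conjPerm H K hN).range := by
  rw [Subgroup.relIndex, ← conjPerm_ker H K hN, Subgroup.index_ker]

theorem range_le_stabilizer (H K : Subgroup G) (hN : H ≤ Subgroup.normalizer (K : Set G)) :
    (conjPerm H K hN).range ≤ MulAction.stabilizer (Equiv.Perm ↥K) (1 : ↥K) := by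
  rintro _ ⟨h, rfl⟩
  rw [MulAction.mem_stabilizer_iff]
  apply Subtype.ext
  change ((conjPerm H K hN h (1 : ↥K) : ↥K) : G) = 1
  rw [conjPerm_apply_coe]
  simp

/-- an element of `H` not commuting with `k ∈ K` acts nontrivially -/
theorem conjPerm_ne_one (H K : Subgroup G) (hN : H ≤ Subgroup.normalizer (K : Set G)) (a k : G)
    (haH : a ∈ H) (hk : k ∈ K) (hak : a * k ≠ k * a) : conjPerm H K hN ⟨a, haH⟩ ≠ 1 := by
  intro h
  apply hak
  have h1 := congrArg (fun f : Equiv.Perm ↥K => ((f ⟨k, hk⟩ : ↥K) : G)) h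
  simp only [conjPerm_apply_coe, Equiv.Perm.coe_one, id_eq] at h1
  calc a * k = (a * k * a⁻¹) * a := by group
    _ = k * a := by rw [h1]

/-- LEAF IDX1 (index of the centralizer of a normal subgroup of order 4). -/
theorem relIndex_centralizer_four [Finite G] (H K : Subgroup G) (hKH : K ≤ H)
    (hN : H ≤ Subgroup.normalizer (K : Set G)) (hK : Nat.card ↥K = 4)
    (a b k1 k2 : G) (haH : a ∈ H) (hbH : b ∈ H) (ha : a * a = 1) (hk1 : k1 ∈ K) (hk2 : k2 ∈ K)
    (hak2 : a * k2 ≠ k2 * a) (hak1 : a * k1 = k1 * a) (hbk1 : b * k1 ≠ k1 * b) :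
    (Subgroup.centralizer (K : Set G) ⊓ H).relIndex H = 6 := by
  classical
  rw [relIndex_eq_card_range H K hN]
  set ψ := conjPerm H K hN with hψ
  -- divides 6
  have hdvd : Nat.card ↥ψ.range ∣ 6 := by
    have h1 := Subgroup.card_dvd_of_le (range_le_stabilizer H K hN)
    rw [card_stabilizer_perm26, hK] at h1
    exact h1
  -- the three elements
  have hψa : ψ ⟨a, haH⟩ ≠ 1 := conjPerm_ne_one H K hN a k2 haH hk2 hak2
  have hψb : ψ ⟨b, hbH⟩ ≠ 1 := conjPerm_ne_one H K hN b k1 hbH hk1 hbk1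
  have hψab : ψ ⟨a, haH⟩ ≠ ψ ⟨b, hbH⟩ := by
    intro h
    apply hbk1
    have h1 := congrArg (fun f : Equiv.Perm ↥K => ((f ⟨k1, hk1⟩ : ↥K) : G)) h
    simp only [hψ, conjPerm_apply_coe] at h1
    have h2 : a * k1 * a⁻¹ = k1 := by rw [hak1]; group
    rw [h2] at h1
    calc b * k1 = (b * k1 * b⁻¹) * b := by group
      _ = k1 * b := by rw [← h1]
  -- even
  have h2dvd : 2 ∣ Nat.card ↥ψ.range := by
    have hsq : (ψ ⟨a, haH⟩) ^ 2 = 1 := by
      rw [← map_pow]
      have : (⟨a, haH⟩ : ↥H) ^ 2 = 1 := by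
        apply Subtype.ext
        rw [Subgroup.coe_pow, pow_two]
        exact ha
      rw [this, map_one]
    have ho : orderOf (ψ ⟨a, haH⟩) = 2 := orderOf_eq_prime hsq hψa
    have ho' : orderOf (⟨ψ ⟨a, haH⟩, ⟨_, rfl⟩⟩ : ↥ψ.range) = 2 := by
      rw [← ho]
      exact Subgroup.orderOf_mk _ _
    rw [← ho']
    exact orderOf_dvd_natCard _
  -- at least three
  have h3 : 3 ≤ Nat.card ↥ψ.range := by
    let f : Fin 3 → ↥ψ.range := ![⟨1, ψ.range.one_mem⟩, ⟨ψ ⟨a, haH⟩, ⟨_, rfl⟩⟩, ⟨ψ ⟨b, hbH⟩, ⟨_, rfl⟩⟩]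
    have hf : Function.Injective f := by
      intro i j hij
      fin_cases i <;> fin_cases j <;> simp [f, Subtype.ext_iff] at hij ⊢
      · exact absurd hij.symm hψa
      · exact absurd hij.symm hψb
      · exact absurd hij hψa
      · exact absurd hij hψab
      · exact absurd hij hψb
      · exact absurd hij.symm hψab
    have := Nat.card_le_card_of_injective f hf
    simpa using this
  have hle : Nat.card ↥ψ.range ≤ 6 := Nat.le_of_dvd (by norm_num) hdvd
  interval_cases hc : Nat.card ↥ψ.range <;> omega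

end Cfsg.Agent.Lib.Helper26.GLAUB2IDX1
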