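import Cfsg.Agent.Lib.Helper29.ZStarCor
import Cfsg.Agent.Lib.Helper26.FSGroup
import Cfsg.Agent.Lib.Helper26.FSNormalCrit
import Cfsg.Agent.Lib.Helper9.PComponent
import Cfsg.Agent.Lib.Helper12.PComplement
import Cfsg.Agent.Lib.Helper16.StronglyEmbedded
import Cfsg.Agent.Lib.Helper12.Goldschmidt
import Cfsg.Agent.Lib.Helper18.CentralizerFour

/-!
The centre of the `2`-fusion system of a finite group is `S ∩ Z*(G)`, *given* Glauberman's `Z*`-theorem for
involutions (as the hypothesis `ZStarStmt`).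
-/

set_option autoImplicit false
universe u

namespace Cfsg.Agent.Lib.Helper26

open Cfsg Cfsg.FusionSystem
open Cfsg.Agent.Lib.Helper29.ZStar (ZStarStmt)

section Isolated

variable {G : Type u} [Group G]

/-- `x ∈ S` is isolated in `S` with respect to `G`: its only `G`-conjugate in `S` is `x`. -/
def IsolatedIn (S : Subgroup G) (x : G) : Prop :=
  x ∈ S ∧ ∀ g : G, g * x * g⁻¹ ∈ S → g * x * g⁻¹ = x

theorem IsolatedIn.comm {S : Subgroup G} {x : G} (h : IsolatedIn S x) {s : G} (hs : s ∈ S) :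
    s * x = x * s := by
  have h1 := h.2 s (S.mul_mem (S.mul_mem hs h.1) (S.inv_mem hs))
  calc s * x = (s * x * s⁻¹) * s := by group
    _ = x * s := by rw [h1]

theorem IsolatedIn.one (S : Subgroup G) : IsolatedIn S 1 :=
  ⟨S.one_mem, fun g _ => by group⟩

/-- Powers of isolated elements are isolated. -/
theorem IsolatedIn.pow [Finite G] (S : Sylow 2 G) {x : G} (h : IsolatedIn (S : Subgroup G) x) (j : ℕ) :
    IsolatedIn (S : Subgroup G) (x ^ j) := by
  have : Fact (Nat.Prime 2) := ⟨Nat.prime_two⟩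
  refine ⟨Subgroup.pow_mem _ h.1 j, fun g hg => ?_⟩
  obtain ⟨w', hw'⟩ : ∃ w', w' = g * x ^ j * g⁻¹ := ⟨_, rfl⟩
  rw [← hw'] at hg ⊢
  -- `g S g⁻¹ ≤ C(w')`
  have hle : ((g • S : Sylow 2 G) : Subgroup G) ≤ Subgroup.centralizer ({w'} : Set G) := by
    intro y hy
    rw [Sylow.coe_subgroup_smul, Subgroup.mem_pointwise_smul_iff_inv_smul_mem] at hy
    have hy' : g⁻¹ * y * g ∈ (S : Subgroup G) := by
      simpa [MulAut.smul_def, MulAut.conj_inv_apply, mul_assoc] using hy
    rw [Subgroup.mem_centralizer_singleton_iff]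
    have hc : Commute (g⁻¹ * y * g) (x ^ j) := (show Commute (g⁻¹ * y * g) x from h.comm hy').pow_right j
    rw [hw']
    calc y * (g * x ^ j * g⁻¹) = g * ((g⁻¹ * y * g) * x ^ j) * g⁻¹ := by group
      _ = g * (x ^ j * (g⁻¹ * y * g)) * g⁻¹ := by rw [hc.eq]
      _ = g * x ^ j * g⁻¹ * y := by group
  have hB : (S : Subgroup G) ⊓ Subgroup.centralizer ({w'} : Set G) ≤ Subgroup.centralizer ({w'} : Set G) :=
    inf_le_right
  obtain ⟨c, hc, hcB⟩ := Cfsg.Agent.Lib.Helper16.exists_conj_le_sylow (g • S) hle hB (S.2.to_le inf_le_left)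
  have hxB : x ∈ (S : Subgroup G) ⊓ Subgroup.centralizer ({w'} : Set G) := by
    refine Subgroup.mem_inf.mpr ⟨h.1, ?_⟩
    rw [Subgroup.mem_centralizer_singleton_iff]
    exact (h.comm hg).symm
  have h1 : c * x * c⁻¹ ∈ ((g • S : Sylow 2 G) : Subgroup G) := hcB ⟨x, hxB, rfl⟩
  rw [Sylow.coe_subgroup_smul, Subgroup.mem_pointwise_smul_iff_inv_smul_mem] at h1
  have h2 : (g⁻¹ * c) * x * (g⁻¹ * c)⁻¹ ∈ (S : Subgroup G) := by
    have h1' : g⁻¹ * (c * x * c⁻¹) * g ∈ (S : Subgroup G) := by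
      simpa [MulAut.smul_def, MulAut.conj_inv_apply, mul_assoc] using h1
    have e : (g⁻¹ * c) * x * (g⁻¹ * c)⁻¹ = g⁻¹ * (c * x * c⁻¹) * g := by group
    rw [e]
    exact h1'
  have h3 := h.2 _ h2
  have h4 : c * x * c⁻¹ = g * x * g⁻¹ := by
    calc c * x * c⁻¹ = g * ((g⁻¹ * c) * x * (g⁻¹ * c)⁻¹) * g⁻¹ := by group
      _ = g * x * g⁻¹ := by rw [h3]
  have h5 : c * x ^ j * c⁻¹ = w' := by
    rw [hw']
    have e1 : c * x ^ j * c⁻¹ = (c * x * c⁻¹) ^ j := (conj_pow (a := c) (b := x) (i := j)).symm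
    have e2 : g * x ^ j * g⁻¹ = (g * x * g⁻¹) ^ j := (conj_pow (a := g) (b := x) (i := j)).symm
    rw [e1, e2, h4]
  have h6 : c * w' = w' * c := by
    rw [Subgroup.mem_centralizer_singleton_iff] at hc
    exact hc
  calc w' = c⁻¹ * (c * w') := by group
    _ = c⁻¹ * (w' * c) := by rw [h6]
    _ = c⁻¹ * (c * x ^ j * c⁻¹ * c) := by rw [h5]
    _ = x ^ j := by group

/-- Isolation passes to the quotient by a normal subgroup contained in `S`. -/
theorem IsolatedIn.quotient_of_le [Finite G] (S : Sylow 2 G) {x : G} (h : IsolatedIn (S : Subgroup G) x)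
    (N : Subgroup G) [N.Normal] (hN : N ≤ (S : Subgroup G)) :
    haveI : Fact (Nat.Prime 2) := ⟨Nat.prime_two⟩
    IsolatedIn ((S.mapSurjective (QuotientGroup.mk'_surjective N) : Sylow 2 (G ⧸ N)) : Subgroup (G ⧸ N))
      (QuotientGroup.mk' N x) := by
  have : Fact (Nat.Prime 2) := ⟨Nat.prime_two⟩
  refine ⟨⟨x, h.1, rfl⟩, fun gb hgb => ?_⟩
  obtain ⟨g, rfl⟩ := QuotientGroup.mk'_surjective N gb
  rw [← map_inv, ← map_mul, ← map_mul] at hgb ⊢
  obtain ⟨s, hs, hsy⟩ := hgb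
  have h1 : s⁻¹ * (g * x * g⁻¹) ∈ N := QuotientGroup.eq.mp hsy
  have h2 : g * x * g⁻¹ ∈ (S : Subgroup G) := by
    have e : g * x * g⁻¹ = s * (s⁻¹ * (g * x * g⁻¹)) := by group
    rw [e]
    exact Subgroup.mul_mem _ hs (hN h1)
  rw [h.2 g h2]

/-- Isolation passes to the quotient by `O(G)`. -/
theorem IsolatedIn.quotient_oddCore [Finite G] (S : Sylow 2 G) {x : G} (h : IsolatedIn (S : Subgroup G) x) :
    haveI : Fact (Nat.Prime 2) := ⟨Nat.prime_two⟩
    IsolatedIn ((S.mapSurjective (QuotientGroup.mk'_surjective (Cfsg.oddCore G)) :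
      Sylow 2 (G ⧸ Cfsg.oddCore G)) : Subgroup (G ⧸ Cfsg.oddCore G)) (QuotientGroup.mk' (Cfsg.oddCore G) x) := by
  have : Fact (Nat.Prime 2) := ⟨Nat.prime_two⟩
  refine ⟨⟨x, h.1, rfl⟩, fun gb hgb => ?_⟩
  obtain ⟨g, rfl⟩ := QuotientGroup.mk'_surjective (Cfsg.oddCore G) gb
  rw [← map_inv, ← map_mul, ← map_mul] at hgb ⊢
  obtain ⟨s, hs, hsy⟩ := hgb
  obtain ⟨y, hy⟩ : ∃ y, y = g * x * g⁻¹ := ⟨_, rfl⟩
  rw [← hy] at hsy ⊢
  have h1 : s⁻¹ * y ∈ Cfsg.oddCore G := QuotientGroup.eq.mp hsy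
  have hyR : y ∈ (S : Subgroup G) ⊔ Cfsg.oddCore G := by
    have e : y = s * (s⁻¹ * y) := by group
    rw [e]
    exact Subgroup.mul_mem_sup hs h1
  have hyp : IsPGroup 2 (Subgroup.zpowers y) := by
    have e : Subgroup.zpowers y = (Subgroup.zpowers x).map (MulAut.conj g).toMonoidHom := by
      rw [MonoidHom.map_zpowers, hy]
      rfl
    rw [e]
    exact (S.2.to_le (Subgroup.zpowers_le.mpr h.1)).map _
  obtain ⟨r, hr, hrS⟩ := Cfsg.Agent.Lib.Helper16.exists_conj_le_sylow S le_sup_left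
    (Subgroup.zpowers_le.mpr hyR) hyp
  have h2 : r * y * r⁻¹ ∈ (S : Subgroup G) := hrS ⟨y, Subgroup.mem_zpowers y, rfl⟩
  have h3 : (r * g) * x * (r * g)⁻¹ = x := by
    apply h.2
    have e : (r * g) * x * (r * g)⁻¹ = r * (g * x * g⁻¹) * r⁻¹ := by group
    rw [e, ← hy]
    exact h2
  obtain ⟨s', hs', o', ho', rfl⟩ := Subgroup.mem_sup_of_normal_right.mp hr
  have h4 : y = (s' * o')⁻¹ * x * (s' * o') := by
    rw [hy]
    calc g * x * g⁻¹ = (s' * o')⁻¹ * ((s' * o' * g) * x * (s' * o' * g)⁻¹) * (s' * o') := by group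
      _ = (s' * o')⁻¹ * x * (s' * o') := by rw [h3]
  have h5 : (QuotientGroup.mk' (Cfsg.oddCore G)) o' = 1 := (QuotientGroup.eq_one_iff o').mpr ho'
  have h6 : s'⁻¹ * x * s' = x := by
    have := h.comm hs'
    calc s'⁻¹ * x * s' = s'⁻¹ * (x * s') := by group
      _ = s'⁻¹ * (s' * x) := by rw [this]
      _ = x := by group
  rw [h4]
  simp only [map_mul, map_inv, h5, mul_one]
  rw [← map_inv, ← map_mul, ← map_mul, h6]

/-- Given the `Z*`-theorem for involutions: an isolated `2`-element is central modulo `O(G)`. -/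
theorem IsolatedIn.comm_mem_oddCore_aux (hZ : ZStarStmt.{u}) :
    ∀ (n : ℕ) (G : Type u) [Group G] [Finite G], Nat.card G = n → ∀ (S : Sylow 2 G) (x : G),
      IsolatedIn (S : Subgroup G) x → ∀ g : G, x * g * x⁻¹ * g⁻¹ ∈ Cfsg.oddCore G := by
  have : Fact (Nat.Prime 2) := ⟨Nat.prime_two⟩
  intro n
  induction n using Nat.strong_induction_on with
  | _ n ih =>
  intro G _ _ hcard S x h g
  by_cases hx1 : x = 1
  · rw [hx1]
    have : (1 : G) * g * 1⁻¹ * g⁻¹ = 1 := by group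
    rw [this]
    exact Subgroup.one_mem _
  -- the involution of `⟨x⟩`
  obtain ⟨k, hk⟩ := (IsPGroup.iff_orderOf.mp S.2) ⟨x, h.1⟩
  rw [Subgroup.orderOf_mk] at hk
  have hk0 : k ≠ 0 := by
    rintro rfl
    rw [pow_zero, orderOf_eq_one_iff] at hk
    exact hx1 hk
  have h2dvd : 2 ∣ orderOf x := by
    rw [hk]
    exact dvd_pow_self 2 hk0
  obtain ⟨v, hv⟩ : ∃ v, v = x ^ (orderOf x / 2) := ⟨_, rfl⟩
  have hv2 : orderOf v = 2 := by
    rw [hv]
    exact orderOf_pow_orderOf_div (by rw [hk]; positivity) h2dvd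
  have hvI : IsolatedIn (S : Subgroup G) v := hv ▸ h.pow S _
  obtain ⟨N, hNn, hNodd, hN⟩ := hZ S v hv2 hvI.1 hvI.2
  have hNle : N ≤ Cfsg.oddCore G := Cfsg.Agent.Lib.Helper29.ZStar.le_oddCore N hNn hNodd
  by_cases hO : Cfsg.oddCore G = ⊥
  · -- `v` is central
    have hvc : ∀ a : G, a * v = v * a := by
      intro a
      have h1 := hNle (hN a)
      rw [hO, Subgroup.mem_bot] at h1
      calc a * v = (v * a * v⁻¹ * a⁻¹)⁻¹ * (v * a) := by group
        _ = v * a := by rw [h1, inv_one, one_mul]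
    have hZc : ∀ z ∈ Subgroup.zpowers v, ∀ a : G, a * z = z * a := by
      intro z hz a
      obtain ⟨i, rfl⟩ := Subgroup.mem_zpowers_iff.mp hz
      exact ((show Commute a v from hvc a).zpow_right i).eq
    have hZn : (Subgroup.zpowers v).Normal := by
      constructor
      intro z hz a
      rw [hZc z hz a]
      have : z * a * a⁻¹ = z := by group
      rw [this]
      exact hz
    have hZS : Subgroup.zpowers v ≤ (S : Subgroup G) := Subgroup.zpowers_le.mpr hvI.1
    have hZcard : Nat.card (Subgroup.zpowers v) = 2 := by rw [Nat.card_zpowers, hv2]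
    have hlt : Nat.card (G ⧸ Subgroup.zpowers v) < n := by
      have h1 := Subgroup.card_eq_card_quotient_mul_card_subgroup (Subgroup.zpowers v)
      rw [hZcard, hcard] at h1
      have hpos : 0 < Nat.card (G ⧸ Subgroup.zpowers v) := Nat.card_pos
      omega
    have hI := h.quotient_of_le S (Subgroup.zpowers v) hZS
    have h1 := ih _ hlt (G ⧸ Subgroup.zpowers v) rfl _ _ hI (QuotientGroup.mk' _ g)
    rw [← map_inv, ← map_mul, ← map_inv, ← map_mul, ← map_mul] at h1
    obtain ⟨c, hc⟩ : ∃ c, c = x * g * x⁻¹ * g⁻¹ := ⟨_, rfl⟩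
    rw [← hc] at h1 ⊢
    have hcM : c ∈ (Cfsg.oddCore (G ⧸ Subgroup.zpowers v)).comap (QuotientGroup.mk' (Subgroup.zpowers v)) :=
      Subgroup.mem_comap.mpr h1
    obtain ⟨M, hM⟩ : ∃ M, M = (Cfsg.oddCore (G ⧸ Subgroup.zpowers v)).comap
        (QuotientGroup.mk' (Subgroup.zpowers v)) := ⟨_, rfl⟩
    rw [← hM] at hcM
    have hMn : M.Normal := by
      rw [hM]
      infer_instance
    have hMcard : Nat.card M = 2 * Nat.card (Cfsg.oddCore (G ⧸ Subgroup.zpowers v)) := by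
      rw [hM, Cfsg.Agent.Lib.Helper12.card_comap_mk', hZcard]
    have hodd : (Nat.card (Cfsg.oddCore (G ⧸ Subgroup.zpowers v))).Coprime 2 :=
      Cfsg.Agent.Lib.Helper12.pPrimeCore_coprime 2
    have hZM : Subgroup.zpowers v ≤ M := by
      intro z hz
      rw [hM, Subgroup.mem_comap]
      have : QuotientGroup.mk' (Subgroup.zpowers v) z = 1 := (QuotientGroup.eq_one_iff z).mpr hz
      rw [this]
      exact Subgroup.one_mem _
    -- `S ⊓ M = ⟨v⟩`
    have hT : (S : Subgroup G) ⊓ M = Subgroup.zpowers v := by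
      symm
      apply Subgroup.eq_of_le_of_card_ge (le_inf hZS hZM)
      rw [hZcard]
      obtain ⟨a, ha⟩ := IsPGroup.iff_card.mp (S.2.to_le (inf_le_left : (S : Subgroup G) ⊓ M ≤ S))
      have h3 : Nat.card ((S : Subgroup G) ⊓ M : Subgroup G) ∣ Nat.card M := Subgroup.card_dvd_of_le inf_le_right
      rw [hMcard, ha] at h3
      have h4 : 2 ^ a ∣ 2 := by
        have := (Nat.Coprime.pow_left a hodd.symm).dvd_of_dvd_mul_right h3
        exact this
      rw [ha]
      exact Nat.le_of_dvd (by norm_num) h4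
    have hle := Cfsg.Agent.Lib.Helper12.le_pPrimeCore_sup_of_central S M (by
      intro s hs c _
      rw [hT] at hs
      exact hZc s hs c)
    have hcT : c ∈ Subgroup.zpowers v := by
      have := hle hcM
      rw [show Cfsg.pPrimeCore 2 G = Cfsg.oddCore G from rfl, hO, bot_sup_eq, hT] at this
      exact this
    rcases Cfsg.Agent.Lib.Helper18.eq_one_or_eq_of_mem_zpowers_of_orderOf_two v c hv2 hcT with h5 | h5
    · rw [h5]
      exact Subgroup.one_mem _
    · exfalso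
      -- `g x g⁻¹ = v x ∈ S`, so `g x g⁻¹ = x`, whence `v = 1`
      have hvinv : v⁻¹ = v := by
        have : v * v = 1 := by rw [← pow_two, ← hv2, pow_orderOf_eq_one]
        exact inv_eq_of_mul_eq_one_left this
      have h6 : g * x * g⁻¹ = v * x := by
        have : g * x * g⁻¹ = (x * g * x⁻¹ * g⁻¹)⁻¹ * x := by group
        rw [this, ← hc, h5, hvinv]
      have h7 : g * x * g⁻¹ = x := by
        apply h.2
        rw [h6]
        exact Subgroup.mul_mem _ hvI.1 h.1
      rw [h7] at h6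
      have : v = 1 := by
        calc v = (v * x) * x⁻¹ := by group
          _ = 1 := by rw [← h6, mul_inv_cancel]
      rw [this, orderOf_one] at hv2
      omega
  · -- pass to `G / O(G)`
    have hlt : Nat.card (G ⧸ Cfsg.oddCore G) < n := by
      have h1 := Subgroup.card_eq_card_quotient_mul_card_subgroup (Cfsg.oddCore G)
      rw [hcard] at h1
      have hpos : 0 < Nat.card (G ⧸ Cfsg.oddCore G) := Nat.card_pos
      have h2 : 1 < Nat.card (Cfsg.oddCore G) := by
        by_contra hle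
        push Not at hle
        have : Nat.card (Cfsg.oddCore G) = 1 := by
          have : 0 < Nat.card (Cfsg.oddCore G) := Nat.card_pos
          omega
        exact hO (Subgroup.card_eq_one.mp this)
      nlinarith
    have hI := h.quotient_oddCore S
    have h1 := ih _ hlt (G ⧸ Cfsg.oddCore G) rfl _ _ hI (QuotientGroup.mk' _ g)
    rw [show Cfsg.oddCore (G ⧸ Cfsg.oddCore G) = Cfsg.pPrimeCore 2 (G ⧸ Cfsg.pPrimeCore 2 G) from rfl,
      Cfsg.Agent.Lib.Helper9.pPrimeCore_quotient_eq_bot 2, Subgroup.mem_bot,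
      ← map_inv, ← map_mul, ← map_inv, ← map_mul, ← map_mul] at h1
    exact (QuotientGroup.eq_one_iff _).mp h1

theorem IsolatedIn.comm_mem_oddCore (hZ : ZStarStmt.{u}) [Finite G] (S : Sylow 2 G) {x : G}
    (h : IsolatedIn (S : Subgroup G) x) (g : G) : x * g * x⁻¹ * g⁻¹ ∈ Cfsg.oddCore G :=
  IsolatedIn.comm_mem_oddCore_aux hZ _ G rfl S x h g

end Isolated

section Center

variable {G : Type u} [Group G] [Finite G]

/-- **Glauberman's `Z*`-theorem in fusion language**, given the `Z*`-theorem for involutions. -/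
theorem center_groupFusionSystem_eq (hZ : ZStarStmt.{u}) (S : Sylow 2 G) :
    (Cfsg.groupFusionSystem (S : Subgroup G)).center =
      (S : Subgroup G) ⊓ (Subgroup.center (G ⧸ Cfsg.oddCore G)).comap (QuotientGroup.mk' (Cfsg.oddCore G)) := by
  have : Fact (Nat.Prime 2) := ⟨Nat.prime_two⟩
  have hsat := groupFS_saturated S
  apply le_antisymm
  · apply sSup_le
    intro Q hQ
    obtain ⟨hQS, hQi⟩ := (isCentral_iff_conjElt S.2 _ hsat Q).mp hQ
    intro x hx
    have hI : IsolatedIn (S : Subgroup G) x := by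
      refine ⟨hQS hx, fun g hg => ?_⟩
      apply hQi x hx
      have hle : (Subgroup.zpowers x).map (MulAut.conj g).toMonoidHom ≤ (S : Subgroup G) := by
        rw [MonoidHom.map_zpowers]
        exact Subgroup.zpowers_le.mpr hg
      exact ⟨conjHom (Subgroup.zpowers x) g,
        conjHom_mem_groupFS (Subgroup.zpowers_le.mpr (hQS hx)) hle, rfl⟩
    refine Subgroup.mem_inf.mpr ⟨hQS hx, ?_⟩
    rw [Subgroup.mem_comap, Subgroup.mem_center_iff]
    intro gb
    obtain ⟨g, rfl⟩ := QuotientGroup.mk'_surjective (Cfsg.oddCore G) gb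
    have h1 := hI.comm_mem_oddCore hZ S g
    have h2 : QuotientGroup.mk' (Cfsg.oddCore G) (x * g * x⁻¹ * g⁻¹) = 1 := (QuotientGroup.eq_one_iff _).mpr h1
    rw [map_mul, map_mul, map_mul, map_inv, map_inv] at h2
    calc QuotientGroup.mk' (Cfsg.oddCore G) g * QuotientGroup.mk' (Cfsg.oddCore G) x
        = (QuotientGroup.mk' (Cfsg.oddCore G) x * QuotientGroup.mk' (Cfsg.oddCore G) g *
            (QuotientGroup.mk' (Cfsg.oddCore G) x)⁻¹ * (QuotientGroup.mk' (Cfsg.oddCore G) g)⁻¹)⁻¹ *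
            (QuotientGroup.mk' (Cfsg.oddCore G) x * QuotientGroup.mk' (Cfsg.oddCore G) g) := by group
      _ = QuotientGroup.mk' (Cfsg.oddCore G) x * QuotientGroup.mk' (Cfsg.oddCore G) g := by
          rw [h2, inv_one, one_mul]
  · apply le_sSup
    show FusionSystem.IsCentral _ _
    rw [isCentral_iff_conjElt S.2 _ hsat]
    refine ⟨inf_le_left, fun x hx y hxy => ?_⟩
    obtain ⟨hxS, hxZ⟩ := Subgroup.mem_inf.mp hx
    rw [Subgroup.mem_comap, Subgroup.mem_center_iff] at hxZ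
    obtain ⟨φ, hφ, rfl⟩ := hxy
    obtain ⟨-, hφS, g, hg⟩ := hφ
    have hyS : φ ⟨x, Subgroup.mem_zpowers x⟩ ∈ (S : Subgroup G) := hφS _
    rw [hg] at hyS ⊢
    -- `g x g⁻¹ x⁻¹ ∈ S ∩ O(G) = 1`
    have h1 : QuotientGroup.mk' (Cfsg.oddCore G) (g * x * g⁻¹ * x⁻¹) = 1 := by
      rw [map_mul, map_mul, map_mul, map_inv, map_inv, hxZ (QuotientGroup.mk' (Cfsg.oddCore G) g)]
      group
    have h2 : g * x * g⁻¹ * x⁻¹ ∈ Cfsg.oddCore G := (QuotientGroup.eq_one_iff _).mp h1
    have h3 : g * x * g⁻¹ * x⁻¹ ∈ (S : Subgroup G) := Subgroup.mul_mem _ hyS (Subgroup.inv_mem _ hxS)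
    have h4 : g * x * g⁻¹ * x⁻¹ = 1 := by
      obtain ⟨k, hk⟩ := (IsPGroup.iff_orderOf.mp S.2) ⟨_, h3⟩
      rw [Subgroup.orderOf_mk] at hk
      have h5 : orderOf (g * x * g⁻¹ * x⁻¹) ∣ Nat.card (Cfsg.oddCore G) := by
        have := orderOf_dvd_natCard (⟨_, h2⟩ : Cfsg.oddCore G)
        rwa [Subgroup.orderOf_mk] at this
      have hcop : (Nat.card (Cfsg.oddCore G)).Coprime 2 := Cfsg.Agent.Lib.Helper12.pPrimeCore_coprime 2
      rw [hk] at h5
      have h6 : 2 ^ k = 1 := by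
        have := Nat.Coprime.pow_right k hcop
        exact Nat.eq_one_of_dvd_coprimes this h5 dvd_rfl

      rw [h6, orderOf_eq_one_iff] at hk
      exact hk
    calc g * x * g⁻¹ = (g * x * g⁻¹ * x⁻¹) * x := by group
      _ = x := by rw [h4, one_mul]

end Center

end Cfsg.Agent.Lib.Helper26
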