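/-
helper26: leaf A1 of S4004 (helper18's market).
-/
import Mathlib

set_option autoImplicit false

namespace Cfsg.Agent.Lib.Helper26.SOT4

open scoped commutatorElement

/-- **A1**: last nontrivial term of the derived series. -/
theorem A1_abelian_normal {G : Type*} [Group G] [Finite G] [Nontrivial G] (hs : Group.IsSolvable G) :
    ∃ V : Subgroup G, V.Normal ∧ V ≠ ⊥ ∧ ∀ a ∈ V, ∀ b ∈ V, a * b = b * a := by
  obtain ⟨n, hn⟩ := hs.solvable
  -- least index with trivial derived term
  classical
  have hex : ∃ k, derivedSeries G k = ⊥ := ⟨n, hn⟩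
  set k := Nat.find hex with hk
  have hk0 : k ≠ 0 := by
    intro h0
    have h1 : derivedSeries G k = ⊥ := Nat.find_spec hex
    rw [h0, derivedSeries_zero] at h1
    exact top_ne_bot h1
  obtain ⟨j, hj⟩ := Nat.exists_eq_succ_of_ne_zero hk0
  have hjne : derivedSeries G j ≠ ⊥ := by
    intro h
    have : k ≤ j := Nat.find_min' hex h
    omega
  have hj1 : derivedSeries G (j + 1) = ⊥ := by
    have h1 : derivedSeries G k = ⊥ := Nat.find_spec hex
    rwa [hj] at h1
  refine ⟨derivedSeries G j, inferInstance, hjne, ?_⟩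
  intro a ha b hb
  have hc : ⁅a, b⁆ ∈ derivedSeries G (j + 1) := by
    rw [derivedSeries_succ]
    exact Subgroup.commutator_mem_commutator ha hb
  rw [hj1, Subgroup.mem_bot] at hc
  exact (commutatorElement_eq_one_iff_mul_comm.mp hc)

end Cfsg.Agent.Lib.Helper26.SOT4
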