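/-
helper26: leaf E of S3996 (helper22's market): with a unique involution, the number of elements of
order `2 d` equals the number of elements of order `d`, for odd `d`.
-/
import Mathlib

set_option autoImplicit false

namespace Cfsg.Agent.Lib.Helper26.SOT

/-- **E** (M, group theory): with a unique involution `s (2 d) = s d` for odd `d` -/
theorem E_double {G : Type*} [Group G] [Finite G]
    (h2 : Nat.card {g : G // orderOf g = 2} = 1) (d : ℕ) (hd : Odd d) :
    Nat.card {g : G // orderOf g = 2 * d} = Nat.card {g : G // orderOf g = d} := by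
  obtain ⟨hss, hne⟩ := Nat.card_eq_one_iff_unique.1 h2
  obtain ⟨⟨z, hz⟩⟩ := hne
  have huniq : ∀ x : G, orderOf x = 2 → x = z := by
    intro x hx
    have := @Subsingleton.elim _ hss (⟨x, hx⟩ : {g : G // orderOf g = 2}) ⟨z, hz⟩
    exact congrArg Subtype.val this
  have hzz : z * z = 1 := by
    have := pow_orderOf_eq_one z
    rw [hz, pow_two] at this
    exact this
  have hcomm : ∀ g : G, Commute z g := by
    intro g
    have h1 : orderOf (g * z * g⁻¹) = 2 := by
      have hs : SemiconjBy g z (g * z * g⁻¹) := by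
        show g * z = g * z * g⁻¹ * g
        group
      rw [← hs.orderOf_eq]; exact hz
    have h3 := huniq _ h1
    show z * g = g * z
    calc z * g = (g * z * g⁻¹) * g := by rw [h3]
      _ = g * z := by group
  have hd0 : d ≠ 0 := by
    rintro rfl
    exact (Nat.not_odd_iff_even.2 (by decide)) hd
  have hcop : Nat.Coprime 2 d := by
    rw [Nat.coprime_comm]
    exact Nat.Coprime.symm (Nat.coprime_two_left.2 hd)
  symm
  refine Nat.card_congr ⟨fun g => ⟨z * g.1, ?_⟩, fun h => ⟨z * h.1, ?_⟩, ?_, ?_⟩
  · -- order of z * g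
    have hc : Nat.Coprime (orderOf z) (orderOf g.1) := by
      rw [hz, g.2]; exact hcop
    rw [(hcomm g.1).orderOf_mul_eq_mul_orderOf_of_coprime hc, hz, g.2]
  · -- order of z * h
    have hh := h.2
    have hpow : orderOf (h.1 ^ d) = 2 := by
      rw [orderOf_pow_of_dvd hd0 (by rw [hh]; exact Dvd.intro_left 2 rfl), hh,
        Nat.mul_div_cancel _ (Nat.pos_of_ne_zero hd0)]
    have hzeq : h.1 ^ d = z := huniq _ hpow
    have e : z * h.1 = h.1 ^ (d + 1) := by
      rw [pow_succ, hzeq]
    rw [e, orderOf_pow' _ (Nat.succ_ne_zero d), hh]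
    have hg : Nat.gcd (2 * d) (d + 1) = 2 := by
      obtain ⟨k, hk⟩ := hd
      have h1 : d + 1 = 2 * (k + 1) := by omega
      rw [h1, Nat.gcd_mul_left]
      have h2 : Nat.gcd d (k + 1) = 1 := by
        have h3 : Nat.Coprime d (d + 1) := by simp
        rw [h1] at h3
        exact Nat.Coprime.coprime_mul_left_right h3
      rw [h2]
    rw [hg, Nat.mul_div_cancel_left _ (by norm_num)]
  · intro g
    apply Subtype.ext
    show z * (z * g.1) = g.1
    rw [← mul_assoc, hzz, one_mul]
  · intro h
    apply Subtype.ext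
    show z * (z * h.1) = h.1
    rw [← mul_assoc, hzz, one_mul]

end Cfsg.Agent.Lib.Helper26.SOT
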