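/-
helper26: leaf FP of S4004 (helper18's market).
-/
import Mathlib

set_option autoImplicit false

namespace Cfsg.Agent.Lib.Helper26.SOT4

/-- **FP**: `⟨x⟩` (order `p`) acts by conjugation on `{g | orderOf g = d}`; if `p` does not divide its size there is a fixed point. -/
theorem FP_exists_commute {G : Type*} [Group G] [Finite G] (p d : ℕ) (hp : p.Prime) (x : G) (hx : orderOf x = p)
    (hnd : ¬ p ∣ Nat.card {g : G // orderOf g = d}) : ∃ y : G, orderOf y = d ∧ Commute x y := by
  have : Fact p.Prime := ⟨hp⟩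
  have hconj : ∀ (k g : G), orderOf (k * g * k⁻¹) = orderOf g := by
    intro k g
    have hs : SemiconjBy k g (k * g * k⁻¹) := by
      show k * g = k * g * k⁻¹ * k
      group
    exact (hs.orderOf_eq).symm
  let act : MulAction (Subgroup.zpowers x) {g : G // orderOf g = d} :=
    { smul := fun k g => ⟨(k : G) * g.1 * (k : G)⁻¹, by rw [hconj]; exact g.2⟩
      one_smul := by
        intro g
        apply Subtype.ext
        show ((1 : Subgroup.zpowers x) : G) * g.1 * ((1 : Subgroup.zpowers x) : G)⁻¹ = g.1
        simp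
      mul_smul := by
        intro a b g
        apply Subtype.ext
        show ((a * b : Subgroup.zpowers x) : G) * g.1 * ((a * b : Subgroup.zpowers x) : G)⁻¹ =
          (a : G) * ((b : G) * g.1 * (b : G)⁻¹) * (a : G)⁻¹
        rw [Subgroup.coe_mul]
        group }
  have hP : IsPGroup p (Subgroup.zpowers x) := by
    apply IsPGroup.of_card (n := 1)
    rw [Nat.card_zpowers, hx, pow_one]
  obtain ⟨y, hy⟩ := hP.nonempty_fixed_point_of_prime_not_dvd_card {g : G // orderOf g = d} hnd
  refine ⟨y.1, y.2, ?_⟩
  have h1 := hy ⟨x, Subgroup.mem_zpowers x⟩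
  have h2 : x * y.1 * x⁻¹ = y.1 := congrArg Subtype.val h1
  show x * y.1 = y.1 * x
  calc x * y.1 = (x * y.1 * x⁻¹) * x := by group
    _ = y.1 * x := by rw [h2]

end Cfsg.Agent.Lib.Helper26.SOT4
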