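/-
helper26: S2262 leaf PO-3 (`recip_bound_three`): a self-reciprocal monic cubic over a finite field with at
least 4 elements divides `X^j - c` with `2 (q - 1) j ≤ q^3 - 1`.  Planner helper19, notes/S2262_leaves.lean.
-/
import Cfsg.Agent.Lib.Helper19.AutPSLDefs
import Cfsg.Agent.Lib.Helper24.EOrdP6

set_option autoImplicit false

namespace Cfsg.Agent.Lib.Helper26.AutPSLPO3

open Polynomial Cfsg.Agent.Lib.Helper19.AutPSL

variable {F : Type*} [Field F] [Fintype F]

omit [Fintype F] in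
theorem eq_cubic (P : F[X]) (hP : P.Monic) (hdeg : P.natDegree = 3) :
    P = X ^ 3 + C (P.coeff 2) * X ^ 2 + C (P.coeff 1) * X + C (P.coeff 0) := by
  have h := P.as_sum_range' 4 (by omega)
  have h3 : P.coeff 3 = 1 := by
    have := hP.coeff_natDegree
    rwa [hdeg] at this
  conv_lhs => rw [h]
  simp only [Finset.sum_range_succ, Finset.sum_range_zero, zero_add, h3, ← C_mul_X_pow_eq_monomial]
  simp
  ring

omit [Fintype F] in
/-- the coefficient relations of a self-reciprocal monic cubic -/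
theorem coeff_rel (P : F[X]) (hP : P.Monic) (hdeg : P.natDegree = 3)
    (h0 : P.coeff 0 ≠ 0) (hrec : IsRecip P) :
    P.coeff 0 * P.coeff 0 = 1 ∧ P.coeff 1 = P.coeff 0 * P.coeff 2 := by
  obtain ⟨u, hu, hmir⟩ := hrec
  have h3 : P.coeff 3 = 1 := by
    have := hP.coeff_natDegree
    rwa [hdeg] at this
  have htr : P.natTrailingDegree = 0 := by
    rw [Polynomial.natTrailingDegree_eq_zero]
    exact Or.inr h0
  have hc : ∀ n, P.coeff (revAt 3 n) = u * P.coeff n := by
    intro n
    have := congrArg (fun p => p.coeff n) hmir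
    simp only [coeff_mirror, coeff_C_mul, hdeg, htr, add_zero] at this
    exact this
  have e0 := hc 0
  have e1 := hc 1
  have e3 := hc 3
  have r0 : revAt 3 0 = 3 := by decide
  have r1 : revAt 3 1 = 2 := by decide
  have r3 : revAt 3 3 = 0 := by decide
  rw [r0, h3] at e0
  rw [r1] at e1
  rw [r3, h3, mul_one] at e3
  subst e3
  refine ⟨e0.symm, ?_⟩
  -- coeff 2 = c * coeff 1, so c * coeff 2 = c*c*coeff 1 = coeff 1
  rw [e1, ← mul_assoc, ← e0, one_mul]

omit [Fintype F] in
theorem factor_cubic (a c : F) (hc : c * c = 1) :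
    X ^ 3 + C a * X ^ 2 + C (c * a) * X + C c =
      (X + C c) * (X ^ 2 + C (a - c) * X + 1 : F[X]) := by
  have hcc : (C c * C c : F[X]) = 1 := by rw [← C_mul, hc, C_1]
  simp only [C_mul, C_sub]
  linear_combination (X) * hcc

omit [Fintype F] in
theorem quad_natDegree (d : F) : (X ^ 2 + C d * X + 1 : F[X]).natDegree = 2 := by
  have : (X ^ 2 + C d * X + 1 : F[X]) = C 1 * X ^ 2 + C d * X + C 1 := by rw [C_1]; ring
  rw [this]
  exact natDegree_quadratic one_ne_zero

omit [Fintype F] in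
theorem quad_coeff (d : F) (n : ℕ) : (X ^ 2 + C d * X + 1 : F[X]).coeff n =
    if n = 0 then 1 else if n = 1 then d else if n = 2 then 1 else 0 := by
  simp only [coeff_add, coeff_X_pow, coeff_C_mul, coeff_X, coeff_one]
  rcases n with _ | _ | _ | n <;> simp

omit [Fintype F] in
theorem quad_mirror (d : F) : (X ^ 2 + C d * X + 1 : F[X]).mirror = X ^ 2 + C d * X + 1 := by
  have htr : (X ^ 2 + C d * X + 1 : F[X]).natTrailingDegree = 0 := by
    rw [Polynomial.natTrailingDegree_eq_zero]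
    right
    rw [quad_coeff]; simp
  ext n
  rw [coeff_mirror, quad_natDegree, htr, add_zero, quad_coeff, quad_coeff]
  rcases n with _ | _ | _ | n
  · rw [revAt_le (by omega)]; simp
  · rw [revAt_le (by omega)]
  · rw [revAt_le (by omega)]; simp
  · rw [revAt_eq_self_of_lt (by omega)]

theorem card_arith1 (q : ℕ) (hq : 4 ≤ q) : 2 * ((q - 1) * q) ≤ q ^ 3 - 1 := by
  obtain ⟨r, rfl⟩ : ∃ r, q = r + 1 := ⟨q - 1, by omega⟩
  have : 2 * (r * (r + 1)) + 1 ≤ (r + 1) ^ 3 := by nlinarith [sq_nonneg r]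
  have h1 : r + 1 - 1 = r := by omega
  rw [h1]
  omega

theorem card_arith2 (q N : ℕ) (hq : 4 ≤ q) (hN : (q - 1) * N ≤ q ^ (1 + 1)) :
    2 * ((q - 1) * (2 * N)) ≤ q ^ 3 - 1 := by
  obtain ⟨r, rfl⟩ : ∃ r, q = r + 1 := ⟨q - 1, by omega⟩
  have h1 : r + 1 - 1 = r := by omega
  rw [h1] at hN ⊢
  have hr : 3 ≤ r := by omega
  have hN' : N ≤ r + 2 := by
    by_contra hcon
    push Not at hcon
    have : r * (r + 3) ≤ r * N := Nat.mul_le_mul_left r hcon
    have h3 : (r + 1) ^ (1 + 1) = r * r + 2 * r + 1 := by ring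
    have h4 : r * (r + 3) = r * r + 3 * r := by ring
    omega
  have h2 : r * (2 * N) ≤ r * (2 * (r + 2)) := Nat.mul_le_mul_left r (by omega)
  have : 2 * (r * (2 * (r + 2))) + 1 ≤ (r + 1) ^ 3 := by nlinarith [sq_nonneg r, mul_le_mul hr hr (by norm_num) (by omega)]
  omega

/-- (PO-3) -/
theorem recip_bound_three (P : F[X]) (hP : P.Monic) (hdeg : P.natDegree = 3)
    (h0 : P.coeff 0 ≠ 0) (hrec : IsRecip P) (hq : 4 ≤ Fintype.card F) :
    ∃ (j : ℕ) (c : F), 1 ≤ j ∧ 2 * ((Fintype.card F - 1) * j) ≤ Fintype.card F ^ 3 - 1 ∧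
      P ∣ X ^ j - C c := by
  obtain ⟨hcc, hb⟩ := coeff_rel P hP hdeg h0 hrec
  set a := P.coeff 2 with ha
  set c := P.coeff 0 with hc
  have hPeq : P = (X + C c) * (X ^ 2 + C (a - c) * X + 1 : F[X]) := by
    rw [← factor_cubic a c hcc, ← hb]
    exact eq_cubic P hP hdeg
  set Q : F[X] := X ^ 2 + C (a - c) * X + 1 with hQ
  by_cases hac : a = 3 * c
  · -- P = (X + c)^3
    have hQ2 : Q = (X + C c) ^ 2 := by
      have hcc' : (C c * C c : F[X]) = 1 := by rw [← C_mul, hcc, C_1]
      rw [hQ, hac]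
      simp only [C_mul, C_sub, C_ofNat]
      linear_combination (-1 : F[X]) * hcc'
    refine ⟨Fintype.card F, -c, by omega, card_arith1 _ hq, ?_⟩
    have hfrob : (X + C c : F[X]) ^ Fintype.card F = X ^ Fintype.card F - C (-c) := by
      rw [← FiniteField.expand_card]
      simp
    rw [← hfrob, hPeq, hQ2, ← pow_succ']
    exact pow_dvd_pow _ (by omega)
  · obtain ⟨N, hN1, hNb, hdiv⟩ := Cfsg.Agent.Lib.Helper24.EOrdP6.poly_order_even Q 1 le_rfl
      (by rw [hQ, quad_natDegree]) (by rw [hQ, quad_coeff]; simp)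
      (by rw [hQ, quad_mirror])
    refine ⟨2 * N, 1, by omega, card_arith2 _ N hq hNb, ?_⟩
    have hfac : (X ^ (2 * N) - C 1 : F[X]) = (X ^ N - 1) * (X ^ N + 1) := by
      rw [C_1]; ring
    have hQd : Q ∣ X ^ (2 * N) - C 1 := by
      rw [hfac]
      rcases hdiv with h | h
      · exact Dvd.dvd.mul_right h _
      · exact Dvd.dvd.mul_left h _
    have hXc : (X + C c : F[X]) = X - C (-c) := by rw [C_neg]; ring
    have hLd : (X + C c : F[X]) ∣ X ^ (2 * N) - C 1 := by
      rw [hXc, dvd_iff_isRoot]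
      simp only [IsRoot, eval_sub, eval_pow, eval_X, eval_C]
      rw [pow_mul, neg_sq, sq, hcc, one_pow, sub_self]
    have hcop : IsCoprime (X + C c : F[X]) Q := by
      rw [hXc]
      rw [(irreducible_X_sub_C (-c)).coprime_iff_not_dvd, dvd_iff_isRoot]
      simp only [IsRoot, hQ, eval_add, eval_pow, eval_X, eval_mul, eval_C, eval_one]
      intro h
      apply hac
      have h' : 3 - a * c = 0 := by linear_combination h + (-2) * hcc
      have : a * c = 3 := by linear_combination -h'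
      calc a = a * (c * c) := by rw [hcc, mul_one]
        _ = (a * c) * c := by ring
        _ = 3 * c := by rw [this]
    rw [hPeq]
    exact hcop.mul_dvd hLd hQd

end Cfsg.Agent.Lib.Helper26.AutPSLPO3
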