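import Mathlib
import Cfsg.Agent.Lib.Helper22.Basic
import Cfsg.Agent.Lib.Helper7.SimpleTools

set_option autoImplicit false
set_option linter.style.haveILetI false

/-!
# Groups of order `2 m`, `m` odd: the normal subgroup of index 2 and Sylow counts

A group of order `2 m` with `m` odd has a normal subgroup `K` of order `m` (Burnside transfer for
a Sylow 2-subgroup of order 2).  If `1` is the only divisor of `m` congruent to `1` modulo an odd
prime `p`, then the group has a unique Sylow `p`-subgroup.  Application: a group of order `450`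
has a unique Sylow `5`-subgroup.
-/

namespace Cfsg.Agent.Lib.Helper26.Ord450

open Subgroup

/-- In a subgroup of order 2 any two non-identity elements coincide. -/
theorem eq_of_card_two {L : Type*} [Group L] (H : Subgroup L) (hH : Nat.card H = 2) (a b : L)
    (ha : a ∈ H) (hb : b ∈ H) (ha1 : a ≠ 1) (hb1 : b ≠ 1) : a = b := by
  obtain ⟨y, -, hy⟩ := (Nat.card_eq_two_iff' (1 : H)).mp hH
  have h1 := hy ⟨a, ha⟩ (by intro h; apply ha1; exact congrArg Subtype.val h)
  have h2 := hy ⟨b, hb⟩ (by intro h; apply hb1; exact congrArg Subtype.val h)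
  exact congrArg Subtype.val (h1.trans h2.symm)

/-- A group of order `2 m`, `m` odd, has a normal subgroup of order `m` and index `2`. -/
theorem exists_normal_of_card_two_mul {L : Type*} [Group L] [Finite L] {m : ℕ}
    (hL : Nat.card L = 2 * m) (hm : ¬ 2 ∣ m) :
    ∃ K : Subgroup L, K.Normal ∧ Nat.card K = m ∧ K.index = 2 := by
  haveI : Fact (Nat.Prime 2) := ⟨Nat.prime_two⟩
  obtain ⟨P⟩ : Nonempty (Sylow 2 L) := inferInstance
  have hP : Nat.card (P : Subgroup L) = 2 := by
    have := (Cfsg.Agent.Lib.Helper7.sylow_card_index_of_pow (p := 2) (k := 1) (m := m)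
      (by rw [hL]; ring) hm P).1
    simpa using this
  have hNC : normalizer ((P : Subgroup L) : Set L) ≤ centralizer ((P : Subgroup L) : Set L) := by
    intro g hg
    rw [mem_centralizer_iff]
    intro x hx
    by_cases hx1 : x = 1
    · rw [hx1]; simp
    · have hgx : g * x * g⁻¹ ∈ (P : Subgroup L) := (mem_normalizer_iff.mp hg x).mp hx
      have hne : g * x * g⁻¹ ≠ 1 := by
        intro h
        apply hx1
        have h2 : x = g⁻¹ * (g * x * g⁻¹) * g := by group
        rw [h2, h]; group
      have h3 := eq_of_card_two (P : Subgroup L) hP _ _ hgx hx hne hx1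
      calc x * g = (g * x * g⁻¹) * g := by rw [h3]
        _ = g * x := by group
  have hcompl := MonoidHom.ker_transferSylow_isComplement' P hNC
  refine ⟨(MonoidHom.transferSylow P hNC).ker, MonoidHom.normal_ker _, ?_, ?_⟩
  · have := hcompl.card_mul_card
    rw [hP, hL] at this
    omega
  · rw [hcompl.symm.index_eq_card, hP]

/-- If a normal subgroup `K` of index prime to `p` has a unique Sylow `p`-subgroup, so has the
whole group. -/
theorem card_sylow_eq_one_of_normal {L : Type*} [Group L] [Finite L] {p : ℕ} [Fact p.Prime]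
    (K : Subgroup L) [K.Normal] (hidx : ¬ p ∣ K.index) (hK : Nat.card (Sylow p K) = 1) :
    Nat.card (Sylow p L) = 1 := by
  obtain ⟨Q⟩ : Nonempty (Sylow p K) := inferInstance
  have huniq : ∀ Q' : Sylow p K, Q' = Q := by
    intro Q'
    haveI : Subsingleton (Sylow p K) := (Nat.card_eq_one_iff_unique.mp hK).1
    exact Subsingleton.elim _ _
  have hle : ∀ S : Sylow p L, (S : Subgroup L) ≤ (Q : Subgroup K).map K.subtype := by
    intro S x hx
    have hSK : (S : Subgroup L) ≤ K :=
      Cfsg.Agent.Lib.Helper22.sylow_le_of_not_dvd_index S K hidx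
    have hpg : IsPGroup p ((S : Subgroup L).subgroupOf K) :=
      S.isPGroup'.comap_of_injective K.subtype K.subtype_injective
    obtain ⟨Q', hQ'⟩ := hpg.exists_le_sylow
    rw [huniq Q'] at hQ'
    exact ⟨⟨x, hSK hx⟩, hQ' (by rw [mem_subgroupOf]; exact hx), rfl⟩
  have hRp : IsPGroup p ((Q : Subgroup K).map K.subtype) := Q.isPGroup'.map _
  have heq : ∀ S : Sylow p L, (S : Subgroup L) = (Q : Subgroup K).map K.subtype :=
    fun S => (S.is_maximal' hRp (hle S)).symm
  haveI : Subsingleton (Sylow p L) :=
    ⟨fun S1 S2 => Sylow.ext ((heq S1).trans (heq S2).symm)⟩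
  exact Nat.card_eq_one_iff_unique.mpr ⟨inferInstance, inferInstance⟩

/-- A group of order `2 m`, `m` odd, such that `1` is the only divisor of `m` congruent to `1`
modulo the odd prime `p`, has a unique Sylow `p`-subgroup. -/
theorem card_sylow_of_two_mul {L : Type*} [Group L] [Finite L] {p m : ℕ} [Fact p.Prime]
    (hL : Nat.card L = 2 * m) (hm : ¬ 2 ∣ m) (hp2 : p ≠ 2)
    (h : ∀ d, d ∣ m → d % p = 1 → d = 1) : Nat.card (Sylow p L) = 1 := by
  have hp : p.Prime := Fact.out
  obtain ⟨K, hKn, hKc, hKi⟩ := exists_normal_of_card_two_mul hL hm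
  haveI := hKn
  apply card_sylow_eq_one_of_normal K
  · rw [hKi]
    intro hd
    exact hp2 ((Nat.prime_dvd_prime_iff_eq hp Nat.prime_two).mp hd)
  · obtain ⟨Q⟩ : Nonempty (Sylow p K) := inferInstance
    apply h
    · rw [← hKc]
      exact (Sylow.card_dvd_index Q).trans (Subgroup.index_dvd_card _)
    · have h1 := card_sylow_modEq_one p K
      unfold Nat.ModEq at h1
      rw [h1]
      exact Nat.mod_eq_of_lt hp.one_lt

/-- A group of order `450` has a unique Sylow `5`-subgroup. -/
theorem card_sylow_five_450 {L : Type*} [Group L] [Finite L] (hL : Nat.card L = 450) :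
    Nat.card (Sylow 5 L) = 1 := by
  haveI : Fact (Nat.Prime 5) := ⟨by norm_num⟩
  have harith : ∀ d ∈ Nat.divisors 225, d % 5 = 1 → d = 1 := by decide
  exact card_sylow_of_two_mul (m := 225) (by rw [hL]) (by norm_num) (by norm_num)
    (fun d hd => harith d (Nat.mem_divisors.mpr ⟨hd, by norm_num⟩))

end Cfsg.Agent.Lib.Helper26.Ord450
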