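import Mathlib
import Cfsg.Agent.Lib.Helper26.ElemAbAut
import Cfsg.Agent.S0256

/-!
The automorphism group of an elementary abelian `2`-group of order at most `16` embeds in the alternating
group of degree `8` (via `GL₄(2) = SL₄(2) = PSL₄(2) ≅ A₈`, statement S0256).
-/

set_option autoImplicit false
set_option linter.unusedSectionVars false

namespace Cfsg.Agent.Lib.Helper26.EmbA8

open Matrix

/-- `GL₄(2) → SL₄(2)`. -/
noncomputable def glToSL : GL (Fin 4) (ZMod 2) →* SpecialLinearGroup (Fin 4) (ZMod 2) where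
  toFun g := ⟨(g : Matrix (Fin 4) (Fin 4) (ZMod 2)), by
    have h : IsUnit (g : Matrix (Fin 4) (Fin 4) (ZMod 2)).det :=
      (Matrix.isUnit_iff_isUnit_det _).mp g.isUnit
    have h0 : (g : Matrix (Fin 4) (Fin 4) (ZMod 2)).det ≠ 0 := h.ne_zero
    generalize (g : Matrix (Fin 4) (Fin 4) (ZMod 2)).det = d at h0
    revert d
    decide⟩
  map_one' := by
    apply Subtype.ext
    rfl
  map_mul' a b := by
    apply Subtype.ext
    rfl

theorem glToSL_injective : Function.Injective glToSL := by
  intro a b h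
  apply Units.ext
  exact congrArg Subtype.val h

theorem center_SL4 : Subgroup.center (SpecialLinearGroup (Fin 4) (ZMod 2)) = ⊥ := by
  rw [eq_bot_iff]
  intro A hA
  rw [Matrix.SpecialLinearGroup.mem_center_iff] at hA
  obtain ⟨r, hr, hA⟩ := hA
  rw [Subgroup.mem_bot]
  apply Subtype.ext
  rw [← hA]
  have hr1 : ∀ r : ZMod 2, r ^ Fintype.card (Fin 4) = 1 → r = 1 := by decide
  rw [hr1 r hr]
  simp

/-- `GL₄(2) → PSL₄(2)`, injective. -/
noncomputable def glToPSL : GL (Fin 4) (ZMod 2) →* ProjectiveSpecialLinearGroup (Fin 4) (ZMod 2) :=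
  (QuotientGroup.mk' (Subgroup.center (SpecialLinearGroup (Fin 4) (ZMod 2)))).comp glToSL

theorem glToPSL_injective : Function.Injective glToPSL := by
  intro a b h
  apply glToSL_injective
  have h1 : (QuotientGroup.mk' (Subgroup.center (SpecialLinearGroup (Fin 4) (ZMod 2)))) (glToSL a) =
      (QuotientGroup.mk' (Subgroup.center (SpecialLinearGroup (Fin 4) (ZMod 2)))) (glToSL b) := h
  rw [QuotientGroup.mk'_eq_mk', ] at h1
  obtain ⟨z, hz, hz2⟩ := h1
  rw [center_SL4, Subgroup.mem_bot] at hz
  rw [hz, mul_one] at hz2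
  exact hz2

theorem exists_gl_embed : ∃ f : GL (Fin 4) (ZMod 2) →* alternatingGroup (Fin 8), Function.Injective f := by
  obtain ⟨e⟩ := Cfsg.Agent.S0256.result (F := ZMod 2) (by simp [ZMod.card])
  exact ⟨e.toMonoidHom.comp glToPSL, e.injective.comp glToPSL_injective⟩

section Lin

variable {A : Type*} [AddCommGroup A] [Module (ZMod 2) A] [Finite A]

/-- Units of `End(A)` embed in units of `End(A × U)`. -/
noncomputable def inlUnits (U : Type*) [AddCommGroup U] [Module (ZMod 2) U] :
    (A →ₗ[ZMod 2] A)ˣ →* ((A × U) →ₗ[ZMod 2] (A × U))ˣ :=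
  Units.map ((LinearMap.prodMapRingHom (ZMod 2) A U).toMonoidHom.comp
    (MonoidHom.prod (MonoidHom.id _) 1))

theorem inlUnits_injective (U : Type*) [AddCommGroup U] [Module (ZMod 2) U] :
    Function.Injective (inlUnits (A := A) U) := by
  intro f g h
  apply Units.ext
  apply LinearMap.ext
  intro a
  have h1 := congrArg (fun u : ((A × U) →ₗ[ZMod 2] (A × U))ˣ => (u.val (a, 0)).1) h
  simpa [inlUnits] using h1

theorem exists_units_embed (hcard : Nat.card A ≤ 16) :
    ∃ f : (A →ₗ[ZMod 2] A)ˣ →* GL (Fin 4) (ZMod 2), Function.Injective f := by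
  have hfin : Module.Finite (ZMod 2) A := Module.Finite.of_finite
  have hfree : Module.Free (ZMod 2) A := Module.Free.of_divisionRing _ _
  have h : Nat.card A = Nat.card (ZMod 2) ^ Module.finrank (ZMod 2) A :=
    Module.natCard_eq_pow_finrank
  rw [Nat.card_eq_fintype_card (α := ZMod 2), ZMod.card] at h
  have hd : Module.finrank (ZMod 2) A ≤ 4 := by
    by_contra hcon
    push Not at hcon
    have : 2 ^ 5 ≤ 2 ^ Module.finrank (ZMod 2) A := Nat.pow_le_pow_right (by norm_num) hcon
    omega
  set d := Module.finrank (ZMod 2) A with hd_def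
  let U := Fin (4 - d) → ZMod 2
  have hfr : Module.finrank (ZMod 2) (A × U) = 4 := by
    rw [Module.finrank_prod, Module.finrank_fin_fun]
    omega
  let b := Module.finBasisOfFinrankEq (ZMod 2) (A × U) hfr
  let e : ((A × U) →ₗ[ZMod 2] (A × U))ˣ ≃* GL (Fin 4) (ZMod 2) :=
    Units.mapEquiv (LinearMap.toMatrixAlgEquiv b).toRingEquiv.toMulEquiv
  exact ⟨e.toMonoidHom.comp (inlUnits U), e.injective.comp (inlUnits_injective U)⟩

end Lin

/-- **Main embedding.** -/
theorem exists_embed_A8 {V : Type*} [Group V] [Finite V] (hcomm : ∀ a b : V, a * b = b * a)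
    (hexp : ∀ a : V, a ^ 2 = 1) (hcard : Nat.card V ≤ 16) :
    ∃ f : MulAut V →* alternatingGroup (Fin 8), Function.Injective f := by
  let _i1 : CommGroup V := { (inferInstance : Group V) with mul_comm := hcomm }
  let _i2 : Module (ZMod 2) (Additive V) := AddCommGroup.zmodModule (n := 2) (fun x => by
    show Additive.ofMul ((Additive.toMul x) ^ 2) = 0
    rw [hexp]
    rfl)
  have hcard' : Nat.card (Additive V) ≤ 16 := hcard
  obtain ⟨f1, hf1⟩ := exists_units_embed (A := Additive V) hcard'
  obtain ⟨f2, hf2⟩ := exists_gl_embed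
  let e0 : V ≃* Multiplicative (Additive V) := (MulEquiv.multiplicativeAdditive V).symm
  let e1 : MulAut V ≃* MulAut (Multiplicative (Additive V)) := MulAut.congr e0
  let e2 := Cfsg.Agent.Lib.Helper26.autEquivUnits 2 (V := Additive V)
  refine ⟨f2.comp (f1.comp (e2.toMonoidHom.comp e1.toMonoidHom)), ?_⟩
  exact hf2.comp (hf1.comp (e2.injective.comp e1.injective))

end Cfsg.Agent.Lib.Helper26.EmbA8
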