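import Mathlib
import Cfsg.Prelude.Def_ClassicalGeometry
import Cfsg.Prelude.Def_GeometricClasses
import Cfsg.Agent.Lib.Helper5.SpMax
import Cfsg.Agent.Lib.Helper22.C3sDefs
import Cfsg.Agent.Lib.Helper22.C3sTool

/-!
Common tools for the S5664 leaves C, D2a, D2b, D3 (helper22's market): hyperplane decompositions,
the two witnesses of non-perpendicularity, skew square-zero matrices attached to a totally isotropic
subspace and the commutator formula of two of them.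
-/

set_option autoImplicit false
set_option linter.unusedSectionVars false
set_option linter.unusedVariables false

namespace Cfsg.Agent.Lib.Helper26.C3sCore
open Cfsg Matrix Module Cfsg.Agent.Lib.Helper5 Cfsg.Agent.Lib.Helper5.SpMax
  Cfsg.Agent.Lib.Helper22.C3 Cfsg.Agent.Lib.Helper22.C3s

universe u
variable {F : Type u} [Field F] {m : ℕ} {E : Type u} [Field E] [Algebra F E]

local notation "𝕍" => (Fin m ⊕ Fin m → F)
local notation "𝕄" => Matrix (Fin m ⊕ Fin m) (Fin m ⊕ Fin m) F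

/-! ### linear algebra -/

/-- a hyperplane `U` of `L` and a vector `w ∈ L` outside `U` span `L` -/
lemma exists_decomp_hyperplane {U L : Submodule F 𝕍} (hUL : U ≤ L)
    (hdim : finrank F U + 1 = finrank F L) {w : 𝕍} (hwL : w ∈ L) (hwU : w ∉ U) :
    ∀ y ∈ L, ∃ c : F, y - c • w ∈ U := by
  have hle : U ⊔ Submodule.span F {w} ≤ L := by
    apply sup_le hUL
    rw [Submodule.span_singleton_le_iff_mem]
    exact hwL
  have hlt : U < U ⊔ Submodule.span F {w} := by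
    apply lt_of_le_of_ne le_sup_left
    intro h
    apply hwU
    rw [h]
    exact Submodule.mem_sup_right (Submodule.mem_span_singleton_self w)
  have h1 : finrank F U < finrank F ↥(U ⊔ Submodule.span F {w}) :=
    Submodule.finrank_lt_finrank_of_lt hlt
  have h2 : U ⊔ Submodule.span F {w} = L := by
    apply Submodule.eq_of_le_of_finrank_le hle
    omega
  intro y hy
  rw [← h2] at hy
  obtain ⟨u, hu, z, hz, rfl⟩ := Submodule.mem_sup.mp hy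
  obtain ⟨c, rfl⟩ := Submodule.mem_span_singleton.mp hz
  refine ⟨c, ?_⟩
  rw [add_sub_cancel_right]
  exact hu

lemma finrank_img (g : GL (Fin m ⊕ Fin m) F) (W : Submodule F 𝕍) :
    finrank F ↥(img g W) = finrank F W := by
  unfold img
  have hinj : Function.Injective (Matrix.toLin' (g : 𝕄)) := by
    intro x y hxy
    rw [Matrix.toLin'_apply, Matrix.toLin'_apply] at hxy
    exact mulVec_inj g hxy
  exact (Submodule.equivMapOfInjective _ hinj W).finrank_eq.symm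

/-! ### the form and `Sp` -/

lemma form_mulVec_left {g : GL (Fin m ⊕ Fin m) F} (hg : g ∈ spGL m F) (a y : 𝕍) :
    sympForm m F ((g : 𝕄) *ᵥ a) y
      = sympForm m F a (((g⁻¹ : GL (Fin m ⊕ Fin m) F) : 𝕄) *ᵥ y) := by
  rw [sympForm_swap, ← form_inv_mulVec hg, ← sympForm_swap]

/-- the image of a totally isotropic subspace under `Sp` is totally isotropic -/
lemma img_le_perp {g : GL (Fin m ⊕ Fin m) F} (hg : g ∈ spGL m F) {W : Submodule F 𝕍}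
    (hW : W ≤ perp W) : img g W ≤ perp (img g W) := by
  intro x hx
  rw [mem_perp]
  intro y hy
  obtain ⟨a, ha, rfl⟩ := mem_img.mp hx
  obtain ⟨b, hb, rfl⟩ := mem_img.mp hy
  rw [mem_spGL.mp hg]
  exact mem_perp.mp (hW ha) b hb

lemma inv_mem_perp_of {g : GL (Fin m ⊕ Fin m) F} (hg : g ∈ spGL m F) {W : Submodule F 𝕍}
    {x : 𝕍} (hx : x ∈ perp (img g W)) :
    ((g⁻¹ : GL (Fin m ⊕ Fin m) F) : 𝕄) *ᵥ x ∈ perp W := by
  rw [mem_perp]
  intro w hw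
  rw [form_inv_mulVec hg]
  exact mem_perp.mp hx _ (mulVec_mem_img hw)

/-- the two witnesses of non-perpendicularity -/
lemma exists_witnesses {L W : Submodule F 𝕍} (h : ¬ W ≤ perp L) :
    ∃ w₁ ∈ L, ∃ w₂ ∈ W, sympForm m F w₁ w₂ ≠ 0 := by
  rw [SetLike.not_le_iff_exists] at h
  obtain ⟨w₂, hw₂, hn⟩ := h
  rw [mem_perp] at hn
  push Not at hn
  obtain ⟨w₁, hw₁, hne⟩ := hn
  refine ⟨w₁, hw₁, w₂, hw₂, ?_⟩
  rw [sympForm_swap]
  exact neg_ne_zero.mpr hne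

/-! ### skew square-zero matrices attached to a totally isotropic subspace -/

/-- `A` is skew for the form, has image in `L` and kills `perp L` -/
structure SkOn (A : 𝕄) (L : Submodule F 𝕍) : Prop where
  sk : ∀ x y : 𝕍, sympForm m F (A *ᵥ x) y = - sympForm m F x (A *ᵥ y)
  im : ∀ x : 𝕍, A *ᵥ x ∈ L
  ker : ∀ x ∈ perp L, A *ᵥ x = 0

lemma SkOn.sq {A : 𝕄} {L : Submodule F 𝕍} (hA : SkOn A L) (hL : L ≤ perp L) : A * A = 0 := by
  apply mat_eq_of_mulVec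
  intro x
  rw [← Matrix.mulVec_mulVec, hA.ker _ (hL (hA.im x)), Matrix.zero_mulVec]

/-- conjugating by an element of `Sp` -/
lemma SkOn.conj {A : 𝕄} {L : Submodule F 𝕍} (hA : SkOn A L) {g : GL (Fin m ⊕ Fin m) F}
    (hg : g ∈ spGL m F) :
    SkOn ((g : 𝕄) * A * ((g⁻¹ : GL (Fin m ⊕ Fin m) F) : 𝕄)) (img g L) := by
  refine ⟨?_, ?_, ?_⟩
  · intro x y
    rw [← Matrix.mulVec_mulVec, ← Matrix.mulVec_mulVec, ← Matrix.mulVec_mulVec,
      ← Matrix.mulVec_mulVec, form_mulVec_left hg, hA.sk, ← form_inv_mulVec hg]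
  · intro x
    rw [← Matrix.mulVec_mulVec, ← Matrix.mulVec_mulVec]
    exact mulVec_mem_img (hA.im _)
  · intro x hx
    rw [← Matrix.mulVec_mulVec, ← Matrix.mulVec_mulVec, hA.ker _ (inv_mem_perp_of hg hx),
      Matrix.mulVec_zero]

/-- the ring identity behind the commutator formula -/
lemma comm_unip_ring (A B : 𝕄) (hA : A * A = 0) (hB : B * B = 0) (hABA : A * B * A = 0)
    (hBAB : B * A * B = 0) : (1 + A) * (1 + B) * (1 - A) * (1 - B) = 1 + A * B - B * A := by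
  have e1 : (1 + A) * (1 + B) * (1 - A) * (1 - B)
      = 1 + A * B - B * A - A * A - B * B + (A * A) * B + B * A * B - A * B * A - A * (B * B)
        + (A * B * A) * B := by
    noncomm_ring
  rw [e1, hA, hB, hABA, hBAB]
  simp

/-- the values of `A` on the second subspace -/
lemma SkOn.apply_of_mem {A : 𝕄} {L₁ L₂ U : Submodule F 𝕍} {w₁ w₂ : 𝕍} (hA : SkOn A L₁)
    (hL₁ : L₁ ≤ perp L₁) (hU₁ : U ≤ L₁) (hw₁ : w₁ ∈ L₁)
    (hd₂ : ∀ y ∈ L₂, ∃ c : F, y - c • w₂ ∈ U) (hw : sympForm m F w₂ w₁ ≠ 0) {y : 𝕍}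
    (hy : y ∈ L₂) :
    A *ᵥ y = (sympForm m F y w₁ / sympForm m F w₂ w₁) • (A *ᵥ w₂) := by
  obtain ⟨c, hc⟩ := hd₂ y hy
  have h0 : A *ᵥ (y - c • w₂) = 0 := hA.ker _ (hL₁ (hU₁ hc))
  rw [Matrix.mulVec_sub, Matrix.mulVec_smul, sub_eq_zero] at h0
  have h1 : sympForm m F (y - c • w₂) w₁ = 0 := mem_perp.mp (hL₁ (hU₁ hc)) w₁ hw₁
  rw [sympForm_sub_left, sympForm_smul_left, sub_eq_zero] at h1
  rw [h0, h1, mul_div_assoc, div_self hw, mul_one]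

/-- the commutator of `1 + A` and `1 + B` for two adjacent non-perpendicular totally isotropic
subspaces is an `F`-Siegel element of the common hyperplane -/
lemma comm_formula {A B : 𝕄} {L₁ L₂ U : Submodule F 𝕍} {w₁ w₂ : 𝕍}
    (hA : SkOn A L₁) (hB : SkOn B L₂) (hL₁ : L₁ ≤ perp L₁) (hL₂ : L₂ ≤ perp L₂)
    (hU₁ : U ≤ L₁) (hU₂ : U ≤ L₂) (hw₁ : w₁ ∈ L₁) (hw₂ : w₂ ∈ L₂)
    (hd₁ : ∀ y ∈ L₁, ∃ c : F, y - c • w₁ ∈ U) (hd₂ : ∀ y ∈ L₂, ∃ c : F, y - c • w₂ ∈ U)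
    (hw : sympForm m F w₁ w₂ ≠ 0) (hp₁ : A *ᵥ w₂ ∈ U) (hp₂ : B *ᵥ w₁ ∈ U) :
    (1 + A) * (1 + B) * (1 - A) * (1 - B)
      = rhoMat (A *ᵥ w₂) (B *ᵥ w₁) (sympForm m F w₁ w₂)⁻¹ := by
  have hw' : sympForm m F w₂ w₁ ≠ 0 := by
    rw [sympForm_swap]
    exact neg_ne_zero.mpr hw
  have hAB : ∀ x : 𝕍, A *ᵥ (B *ᵥ x)
      = ((sympForm m F w₁ w₂)⁻¹ * sympForm m F x (B *ᵥ w₁)) • (A *ᵥ w₂) := by
    intro x
    rw [hA.apply_of_mem hL₁ hU₁ hw₁ hd₂ hw' (hB.im x), hB.sk, sympForm_swap m w₂ w₁]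
    congr 1
    field_simp
  have hBA : ∀ x : 𝕍, B *ᵥ (A *ᵥ x)
      = (- ((sympForm m F w₁ w₂)⁻¹ * sympForm m F x (A *ᵥ w₂))) • (B *ᵥ w₁) := by
    intro x
    rw [hB.apply_of_mem hL₂ hU₂ hw₂ hd₁ hw (hA.im x), hA.sk]
    congr 1
    field_simp
  have hAp : A *ᵥ (B *ᵥ w₁) = 0 := hA.ker _ (hL₁ (hU₁ hp₂))
  have hBp : B *ᵥ (A *ᵥ w₂) = 0 := hB.ker _ (hL₂ (hU₂ hp₁))
  have hABA : A * B * A = 0 := by
    apply mat_eq_of_mulVec
    intro x
    rw [← Matrix.mulVec_mulVec, ← Matrix.mulVec_mulVec, hBA, Matrix.mulVec_smul, hAp, smul_zero,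
      Matrix.zero_mulVec]
  have hBAB : B * A * B = 0 := by
    apply mat_eq_of_mulVec
    intro x
    rw [← Matrix.mulVec_mulVec, ← Matrix.mulVec_mulVec, hAB, Matrix.mulVec_smul, hBp, smul_zero,
      Matrix.zero_mulVec]
  rw [comm_unip_ring A B (hA.sq hL₁) (hB.sq hL₂) hABA hBAB]
  apply mat_eq_of_mulVec
  intro x
  rw [Matrix.sub_mulVec, Matrix.add_mulVec, Matrix.one_mulVec, ← Matrix.mulVec_mulVec,
    ← Matrix.mulVec_mulVec, hAB, hBA, rhoMat_mulVec, smul_add, smul_smul, smul_smul, neg_smul,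
    sub_neg_eq_add, add_assoc]

/-! ### the `E`-transvections -/

lemma ktMat_skOn (S : KS m F E) {v : 𝕍} (hv : v ≠ 0) (a : E) :
    SkOn (S.ktMat v a) (S.line v) := by
  refine ⟨?_, ?_, ?_⟩
  · intro x y
    rw [S.ktMat_mulVec, S.ktMat_mulVec, S.form_act_left, S.form_act_right, S.skew v y, ← map_neg]
    congr 1
    ring
  · intro x
    rw [S.ktMat_mulVec]
    exact S.act_mem_line _ _
  · intro x hx
    rw [S.ktMat_mulVec, (S.mem_perp_line hv).mp hx, mul_zero, S.act_zero]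

lemma kt_val (S : KS m F E) (v : 𝕍) (a : E) :
    ((S.kt v a : GL (Fin m ⊕ Fin m) F) : 𝕄) = 1 + S.ktMat v a := rfl

lemma kt_inv_val (S : KS m F E) (v : 𝕍) (a : E) :
    (((S.kt v a)⁻¹ : GL (Fin m ⊕ Fin m) F) : 𝕄) = 1 - S.ktMat v a := rfl

lemma conj_kt_val (S : KS m F E) (g : GL (Fin m ⊕ Fin m) F) (v : 𝕍) (a : E) :
    ((g * S.kt v a * g⁻¹ : GL (Fin m ⊕ Fin m) F) : 𝕄)
      = 1 + (g : 𝕄) * S.ktMat v a * ((g⁻¹ : GL (Fin m ⊕ Fin m) F) : 𝕄) := by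
  rw [Units.val_mul, Units.val_mul, kt_val, mul_add, add_mul, mul_one, Units.mul_inv]

lemma conj_kt_inv_val (S : KS m F E) (g : GL (Fin m ⊕ Fin m) F) (v : 𝕍) (a : E) :
    (((g * S.kt v a * g⁻¹)⁻¹ : GL (Fin m ⊕ Fin m) F) : 𝕄)
      = 1 - (g : 𝕄) * S.ktMat v a * ((g⁻¹ : GL (Fin m ⊕ Fin m) F) : 𝕄) := by
  have h : (g * S.kt v a * g⁻¹)⁻¹ = g * (S.kt v a)⁻¹ * g⁻¹ := by group
  rw [h, Units.val_mul, Units.val_mul, kt_inv_val, mul_sub, sub_mul, mul_one, Units.mul_inv]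

/-- the conjugated transvection matrix applied to a vector -/
lemma conj_ktMat_mulVec (S : KS m F E) (g : GL (Fin m ⊕ Fin m) F) (v : 𝕍) (a : E) (x : 𝕍) :
    ((g : 𝕄) * S.ktMat v a * ((g⁻¹ : GL (Fin m ⊕ Fin m) F) : 𝕄)) *ᵥ x
      = (g : 𝕄) *ᵥ S.act (a * S.fE (((g⁻¹ : GL (Fin m ⊕ Fin m) F) : 𝕄) *ᵥ x) v) v := by
  rw [← Matrix.mulVec_mulVec, ← Matrix.mulVec_mulVec, S.ktMat_mulVec]

/-- `fE w v₀ ≠ 0` for a vector not perpendicular to some vector of the line -/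
lemma fE_ne_zero_of_form_ne (S : KS m F E) {v₀ : 𝕍} (hv₀ : v₀ ≠ 0) {w w' : 𝕍}
    (hw' : w' ∈ S.line v₀) (h : sympForm m F w w' ≠ 0) : S.fE w v₀ ≠ 0 := by
  intro h0
  exact h (mem_perp.mp ((S.mem_perp_line hv₀).mpr h0) w' hw')

/-- the basic data of two adjacent non-perpendicular lines -/
lemma adjacent_data (S : KS m F E) {v₀ : 𝕍} (hv₀ : v₀ ≠ 0) {g : GL (Fin m ⊕ Fin m) F}
    (hgS : g ∈ spGL m F)
    (hadj : finrank F ↥(S.line v₀ ⊓ img g (S.line v₀)) + 1 = finrank F E)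
    (hnp : ¬ img g (S.line v₀) ≤ perp (S.line v₀)) :
    ∃ w₁ ∈ S.line v₀, ∃ w₂ ∈ img g (S.line v₀), sympForm m F w₁ w₂ ≠ 0 ∧
      (∀ y ∈ S.line v₀, ∃ c : F, y - c • w₁ ∈ S.line v₀ ⊓ img g (S.line v₀)) ∧
      (∀ y ∈ img g (S.line v₀), ∃ c : F, y - c • w₂ ∈ S.line v₀ ⊓ img g (S.line v₀)) ∧
      S.fE w₂ v₀ ≠ 0 ∧ S.fE (((g⁻¹ : GL (Fin m ⊕ Fin m) F) : 𝕄) *ᵥ w₁) v₀ ≠ 0 := by
  obtain ⟨w₁, hw₁, w₂, hw₂, hw⟩ := exists_witnesses hnp
  have hL₁ : S.line v₀ ≤ perp (S.line v₀) := S.line_le_perp_line v₀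
  have hL₂ : img g (S.line v₀) ≤ perp (img g (S.line v₀)) := img_le_perp hgS hL₁
  have hw₁U : w₁ ∉ S.line v₀ ⊓ img g (S.line v₀) := by
    intro h
    exact hw (mem_perp.mp (hL₂ (Submodule.mem_inf.mp h).2) w₂ hw₂)
  have hw₂U : w₂ ∉ S.line v₀ ⊓ img g (S.line v₀) := by
    intro h
    exact hw (mem_perp.mp (hL₁ hw₁) w₂ (Submodule.mem_inf.mp h).1)
  refine ⟨w₁, hw₁, w₂, hw₂, hw, ?_, ?_, ?_, ?_⟩
  · apply exists_decomp_hyperplane inf_le_left _ hw₁ hw₁U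
    rw [S.finrank_line hv₀]
    exact hadj
  · apply exists_decomp_hyperplane inf_le_right _ hw₂ hw₂U
    rw [finrank_img, S.finrank_line hv₀]
    exact hadj
  · apply fE_ne_zero_of_form_ne S hv₀ hw₁
    rw [sympForm_swap]
    exact neg_ne_zero.mpr hw
  · apply fE_ne_zero_of_form_ne S hv₀ (mem_img_iff.mp hw₂)
    rw [form_inv_mulVec hgS, mul_inv_mulVec]
    exact hw

end Cfsg.Agent.Lib.Helper26.C3sCore
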