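import Mathlib
import Cfsg.Prelude.Def_ClassicalGeometry
import Cfsg.Prelude.Def_GeometricClasses
import Cfsg.Agent.Lib.Helper5.SpMax
import Cfsg.Agent.Lib.Helper22.C3sDefs
import Cfsg.Agent.Lib.Helper22.C3sTool
import Cfsg.Agent.Lib.Helper26.C3sCore

/-!
S5664 leaf C (helper22's market), exact signature of notes/S5664_leaves.lean: the commutators of the
two transvection groups of two adjacent non-perpendicular images of the base line give the `F`-Siegel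
elements of the common hyperplane.
-/

set_option autoImplicit false
set_option linter.unusedSectionVars false
set_option linter.unusedVariables false

namespace Cfsg.Agent.Lib.Helper26.C3sLeaf
open Cfsg Matrix Module Cfsg.Agent.Lib.Helper5 Cfsg.Agent.Lib.Helper5.SpMax
  Cfsg.Agent.Lib.Helper22.C3 Cfsg.Agent.Lib.Helper22.C3s Cfsg.Agent.Lib.Helper26.C3sCore

universe u
variable {F : Type u} [Field F] {m : ℕ} {E : Type u} [Field E] [Algebra F E]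

local notation "𝕍" => (Fin m ⊕ Fin m → F)
local notation "𝕄" => Matrix (Fin m ⊕ Fin m) (Fin m ⊕ Fin m) F

/-- C: the commutators of the two transvection groups give the Siegel elements of the
common hyperplane -/
theorem siegel_mem (S : KS m F E) (M : Subgroup (GL (Fin m ⊕ Fin m) F)) (hMS : M ≤ spGL m F)
    (hM : ∀ g ∈ spGL m F, (∀ e : E, (g : 𝕄) * S.ρ e = S.ρ e * (g : 𝕄)) → g ∈ M)
    {v₀ : 𝕍} (hv₀ : v₀ ≠ 0) {g : GL (Fin m ⊕ Fin m) F} (hg : g ∈ M)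
    (hadj : finrank F ↥(S.line v₀ ⊓ img g (S.line v₀)) + 1 = finrank F E)
    (hnp : ¬ img g (S.line v₀) ≤ perp (S.line v₀)) :
    Sieg M (S.line v₀ ⊓ img g (S.line v₀)) := by
  have hgS : g ∈ spGL m F := hMS hg
  obtain ⟨w₁, hw₁, w₂, hw₂, hw, hd₁, hd₂, h1, h2⟩ := adjacent_data S hv₀ hgS hadj hnp
  have hL₁ : S.line v₀ ≤ perp (S.line v₀) := S.line_le_perp_line v₀
  have hL₂ : img g (S.line v₀) ≤ perp (img g (S.line v₀)) := img_le_perp hgS hL₁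
  intro p₁ hp₁ p₂ hp₂ c
  -- the rescaled first point
  have hp₁' : (c * sympForm m F w₁ w₂) • p₁ ∈ S.line v₀ ⊓ img g (S.line v₀) :=
    Submodule.smul_mem _ _ hp₁
  obtain ⟨π₁, hπ₁⟩ := S.mem_line.mp (Submodule.mem_inf.mp hp₁').1
  obtain ⟨π₂, hπ₂⟩ := S.mem_line.mp (mem_img_iff.mp (Submodule.mem_inf.mp hp₂).2)
  set a : E := π₁ / S.fE w₂ v₀ with ha
  set b : E := π₂ / S.fE (((g⁻¹ : GL (Fin m ⊕ Fin m) F) : 𝕄) *ᵥ w₁) v₀ with hb
  have hA : SkOn (S.ktMat v₀ a) (S.line v₀) := ktMat_skOn S hv₀ a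
  have hB : SkOn ((g : 𝕄) * S.ktMat v₀ b * ((g⁻¹ : GL (Fin m ⊕ Fin m) F) : 𝕄))
      (img g (S.line v₀)) := (ktMat_skOn S hv₀ b).conj hgS
  have hAw : S.ktMat v₀ a *ᵥ w₂ = (c * sympForm m F w₁ w₂) • p₁ := by
    rw [S.ktMat_mulVec, ha, div_mul_cancel₀ _ h1, hπ₁]
  have hBw : ((g : 𝕄) * S.ktMat v₀ b * ((g⁻¹ : GL (Fin m ⊕ Fin m) F) : 𝕄)) *ᵥ w₁ = p₂ := by
    rw [conj_ktMat_mulVec, hb, div_mul_cancel₀ _ h2, hπ₂, mul_inv_mulVec]
  have key := comm_formula hA hB hL₁ hL₂ inf_le_left inf_le_right hw₁ hw₂ hd₁ hd₂ hw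
    (by rw [hAw]; exact hp₁') (by rw [hBw]; exact hp₂)
  have ht₁ : S.kt v₀ a ∈ M := S.kt_mem_of M hM v₀ a
  have ht₂ : g * S.kt v₀ b * g⁻¹ ∈ M :=
    M.mul_mem (M.mul_mem hg (S.kt_mem_of M hM v₀ b)) (M.inv_mem hg)
  refine ⟨S.kt v₀ a * (g * S.kt v₀ b * g⁻¹) * (S.kt v₀ a)⁻¹ * (g * S.kt v₀ b * g⁻¹)⁻¹,
    M.mul_mem (M.mul_mem (M.mul_mem ht₁ ht₂) (M.inv_mem ht₁)) (M.inv_mem ht₂), ?_⟩
  rw [Units.val_mul, Units.val_mul, Units.val_mul, kt_val, kt_inv_val, conj_kt_val,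
    conj_kt_inv_val, key, hAw, hBw, rhoMat_smul_left]
  congr 1
  field_simp

end Cfsg.Agent.Lib.Helper26.C3sLeaf
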