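import Mathlib
import Cfsg.Prelude.Def_ClassicalGeometry
import Cfsg.Prelude.Def_GeometricClasses
import Cfsg.Agent.Lib.Helper5.SpMax
import Cfsg.Agent.Lib.Helper22.C3sDefs
import Cfsg.Agent.Lib.Helper22.C3sTool
import Cfsg.Agent.Lib.Helper26.C3sCore

/-!
S5664 leaf D2a (helper22's market), exact signature of notes/S5664_leaves.lean: from the `F`-Siegel
elements of a hyperplane of the base line to those of the whole line, by the torus.
-/

set_option autoImplicit false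
set_option linter.unusedSectionVars false
set_option linter.unusedVariables false

namespace Cfsg.Agent.Lib.Helper26.C3sLeaf
open Cfsg Matrix Module Cfsg.Agent.Lib.Helper5 Cfsg.Agent.Lib.Helper5.SpMax
  Cfsg.Agent.Lib.Helper22.C3 Cfsg.Agent.Lib.Helper22.C3s Cfsg.Agent.Lib.Helper26.C3sCore

universe u
variable {F : Type u} [Field F] {m : ℕ} {E : Type u} [Field E] [Algebra F E]

local notation "𝕍" => (Fin m ⊕ Fin m → F)
local notation "𝕄" => Matrix (Fin m ⊕ Fin m) (Fin m ⊕ Fin m) F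

/-- D2a: from a hyperplane of the base line to the whole line, by the torus -/
theorem siegel_mem_line (S : KS m F E) (h3 : 3 ≤ finrank F E)
    (M : Subgroup (GL (Fin m ⊕ Fin m) F)) (hMS : M ≤ spGL m F)
    (hM : ∀ g ∈ spGL m F, (∀ e : E, (g : 𝕄) * S.ρ e = S.ρ e * (g : 𝕄)) → g ∈ M)
    {v₀ : 𝕍} (hv₀ : v₀ ≠ 0) (U : Submodule F 𝕍) (hU : U ≤ S.line v₀)
    (hUdim : finrank F U + 1 = finrank F E) (hS : Sieg M U) : Sieg M (S.line v₀) := by
  intro p hp p' hp' c
  obtain ⟨π, rfl⟩ := S.mem_line.mp hp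
  obtain ⟨π', rfl⟩ := S.mem_line.mp hp'
  have : Module.Finite F E := Module.finite_of_finrank_pos (by omega)
  -- a functional cutting out `U` in the line
  have hlt : U < S.line v₀ := by
    apply lt_of_le_of_ne hU
    intro h
    rw [h, S.finrank_line hv₀] at hUdim
    omega
  obtain ⟨w, hwL, hwU⟩ := SetLike.exists_of_lt hlt
  obtain ⟨φ, hφw, hφU⟩ := Submodule.exists_le_ker_of_notMem hwU
  have hd := exists_decomp_hyperplane hU (by rw [S.finrank_line hv₀]; exact hUdim) hwL hwU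
  have hmemU : ∀ y ∈ S.line v₀, φ y = 0 → y ∈ U := by
    intro y hy h0
    obtain ⟨c', hc'⟩ := hd y hy
    have h1 : φ (y - c' • w) = 0 := LinearMap.mem_ker.mp (hφU hc')
    rw [map_sub, map_smul, h0, zero_sub, neg_eq_zero, smul_eq_mul, mul_eq_zero] at h1
    rcases h1 with h | h
    · rw [h, zero_smul, sub_zero] at hc'
      exact hc'
    · exact absurd h hφw
  -- a non-zero `z` with `z π v₀, z π' v₀ ∈ U`
  let Ξ : E →ₗ[F] F × F :=
    (φ ∘ₗ S.orb v₀ ∘ₗ LinearMap.mulRight F π).prod (φ ∘ₗ S.orb v₀ ∘ₗ LinearMap.mulRight F π')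
  have hker : LinearMap.ker Ξ ≠ ⊥ := by
    intro h
    have h1 := LinearMap.finrank_range_add_finrank_ker Ξ
    rw [h, finrank_bot, add_zero] at h1
    have h2 : finrank F (LinearMap.range Ξ) ≤ finrank F (F × F) := Submodule.finrank_le _
    rw [Module.finrank_prod, Module.finrank_self] at h2
    omega
  obtain ⟨z, hz, hz0⟩ := Submodule.exists_mem_ne_zero_of_ne_bot hker
  have hz' : Ξ z = 0 := LinearMap.mem_ker.mp hz
  have hz1 : φ (S.act (z * π) v₀) = 0 := congrArg Prod.fst hz'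
  have hz2 : φ (S.act (z * π') v₀) = 0 := congrArg Prod.snd hz'
  have hzU : S.act (z * π) v₀ ∈ U := hmemU _ (S.act_mem_line _ _) hz1
  have hzU' : S.act (z * π') v₀ ∈ U := hmemU _ (S.act_mem_line _ _) hz2
  obtain ⟨y₀, hy₀, hy₀v⟩ := hS _ hzU _ hzU' c
  -- the torus element
  obtain ⟨v', hv'⟩ := S.fE_surj hv₀ 1
  have hz0' : z⁻¹ ≠ 0 := inv_ne_zero hz0
  have hh : S.hk v₀ v' hv' z⁻¹ hz0' ∈ M := S.hk_mem_of M hM hv' hz0'
  refine ⟨S.hk v₀ v' hv' z⁻¹ hz0' * y₀ * (S.hk v₀ v' hv' z⁻¹ hz0')⁻¹,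
    M.mul_mem (M.mul_mem hh hy₀) (M.inv_mem hh), ?_⟩
  rw [Units.val_mul, Units.val_mul, hy₀v, rhoMat_conj (S.hk_mem hv' hz0'), S.hk_act, S.hk_act,
    ← mul_assoc, ← mul_assoc, inv_mul_cancel₀ hz0, one_mul, one_mul]

end Cfsg.Agent.Lib.Helper26.C3sLeaf
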