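import Mathlib
import Cfsg.Prelude.Def_ClassicalGeometry
import Cfsg.Prelude.Def_GeometricClasses
import Cfsg.Agent.Lib.Helper5.SpMax
import Cfsg.Agent.Lib.Helper22.C3sDefs
import Cfsg.Agent.Lib.Helper22.C3sTool
import Cfsg.Agent.Lib.Helper26.C3sCore

/-!
S5664 leaf D2b (helper22's market), exact signature of notes/S5664_leaves.lean: a transvection from
the `F`-Siegel elements of two adjacent non-perpendicular images of the base line.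
-/

set_option autoImplicit false
set_option linter.unusedSectionVars false
set_option linter.unusedVariables false

namespace Cfsg.Agent.Lib.Helper26.C3sLeaf
open Cfsg Matrix Module Cfsg.Agent.Lib.Helper5 Cfsg.Agent.Lib.Helper5.SpMax
  Cfsg.Agent.Lib.Helper22.C3 Cfsg.Agent.Lib.Helper22.C3s Cfsg.Agent.Lib.Helper26.C3sCore

universe u
variable {F : Type u} [Field F] {m : ℕ} {E : Type u} [Field E] [Algebra F E]

local notation "𝕍" => (Fin m ⊕ Fin m → F)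
local notation "𝕄" => Matrix (Fin m ⊕ Fin m) (Fin m ⊕ Fin m) F

/-- D2b: a transvection from the Siegel elements of two adjacent lines -/
theorem tvc_mem_of_siegel (S : KS m F E) (h2 : 2 ≤ finrank F E)
    (M : Subgroup (GL (Fin m ⊕ Fin m) F)) (hMS : M ≤ spGL m F)
    (hM : ∀ g ∈ spGL m F, (∀ e : E, (g : 𝕄) * S.ρ e = S.ρ e * (g : 𝕄)) → g ∈ M)
    {v₀ : 𝕍} (hv₀ : v₀ ≠ 0) {g : GL (Fin m ⊕ Fin m) F} (hg : g ∈ M)
    (hadj : finrank F ↥(S.line v₀ ⊓ img g (S.line v₀)) + 1 = finrank F E)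
    (hnp : ¬ img g (S.line v₀) ≤ perp (S.line v₀)) (hS : Sieg M (S.line v₀)) :
    ∃ v : 𝕍, v ≠ 0 ∧ ∃ c : F, c ≠ 0 ∧ tvc v c ∈ M := by
  have hgS : g ∈ spGL m F := hMS hg
  obtain ⟨w₁, hw₁, w₂, hw₂, hw, hd₁, hd₂, h1, h2'⟩ := adjacent_data S hv₀ hgS hadj hnp
  have hL₁ : S.line v₀ ≤ perp (S.line v₀) := S.line_le_perp_line v₀
  have hL₂ : img g (S.line v₀) ≤ perp (img g (S.line v₀)) := img_le_perp hgS hL₁
  -- a non-zero vector of the intersection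
  have hU : S.line v₀ ⊓ img g (S.line v₀) ≠ ⊥ := by
    intro h
    rw [h, finrank_bot] at hadj
    omega
  obtain ⟨v, hvU, hv⟩ := Submodule.exists_mem_ne_zero_of_ne_bot hU
  have hvL : v ∈ S.line v₀ := (Submodule.mem_inf.mp hvU).1
  have hvW : v ∈ img g (S.line v₀) := (Submodule.mem_inf.mp hvU).2
  -- the transvection of the second line mapping `w₁` to `w₁ + w₂`
  obtain ⟨π₂, hπ₂⟩ := S.mem_line.mp (mem_img_iff.mp hw₂)
  set b : E := π₂ / S.fE (((g⁻¹ : GL (Fin m ⊕ Fin m) F) : 𝕄) *ᵥ w₁) v₀ with hb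
  have ht₂ : g * S.kt v₀ b * g⁻¹ ∈ M :=
    M.mul_mem (M.mul_mem hg (S.kt_mem_of M hM v₀ b)) (M.inv_mem hg)
  have ht₂v : ((g * S.kt v₀ b * g⁻¹ : GL (Fin m ⊕ Fin m) F) : 𝕄) *ᵥ v = v := by
    obtain ⟨e, he⟩ := S.mem_line.mp (mem_img_iff.mp hvW)
    have h0 : S.fE (((g⁻¹ : GL (Fin m ⊕ Fin m) F) : 𝕄) *ᵥ v) v₀ = 0 := by
      rw [← he, S.fE_act_self]
    rw [Units.val_mul, Units.val_mul, ← Matrix.mulVec_mulVec, ← Matrix.mulVec_mulVec,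
      S.kt_fix b h0, mul_inv_mulVec]
  have ht₂w : ((g * S.kt v₀ b * g⁻¹ : GL (Fin m ⊕ Fin m) F) : 𝕄) *ᵥ w₁ = w₁ + w₂ := by
    rw [Units.val_mul, Units.val_mul, ← Matrix.mulVec_mulVec, ← Matrix.mulVec_mulVec,
      S.kt_mulVec, hb, div_mul_cancel₀ _ h2', hπ₂, Matrix.mulVec_add, mul_inv_mulVec,
      mul_inv_mulVec]
  -- the three Siegel elements
  obtain ⟨y₁, hy₁, hy₁v⟩ := hS v hvL w₁ hw₁ 1
  obtain ⟨y₂, hy₂, hy₂v⟩ := Sieg_img hMS hS hg v hvW w₂ hw₂ 1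
  have hy₃ : (g * S.kt v₀ b * g⁻¹) * y₁ * (g * S.kt v₀ b * g⁻¹)⁻¹ ∈ M :=
    M.mul_mem (M.mul_mem ht₂ hy₁) (M.inv_mem ht₂)
  have hy₃v : (((g * S.kt v₀ b * g⁻¹) * y₁ * (g * S.kt v₀ b * g⁻¹)⁻¹ :
      GL (Fin m ⊕ Fin m) F) : 𝕄) = rhoMat v (w₁ + w₂) 1 := by
    rw [Units.val_mul, Units.val_mul (g * S.kt v₀ b * g⁻¹) y₁, hy₁v, rhoMat_conj (hMS ht₂), ht₂v,
      ht₂w]
  have hvw₁ : sympForm m F v w₁ = 0 := mem_perp.mp (hL₁ hvL) w₁ hw₁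
  have hvw₂ : sympForm m F v w₂ = 0 := mem_perp.mp (hL₂ hvW) w₂ hw₂
  have hprod : y₁ * y₂ = tvc v (1 * 1 * sympForm m F w₂ w₁)
      * ((g * S.kt v₀ b * g⁻¹) * y₁ * (g * S.kt v₀ b * g⁻¹)⁻¹) := by
    apply Units.ext
    rw [Units.val_mul, Units.val_mul _ ((g * S.kt v₀ b * g⁻¹) * y₁ * (g * S.kt v₀ b * g⁻¹)⁻¹),
      hy₃v, hy₁v, hy₂v, rhoMat_mul hvw₁ hvw₂]
  refine ⟨v, hv, 1 * 1 * sympForm m F w₂ w₁, ?_, ?_⟩
  · rw [one_mul, one_mul, sympForm_swap]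
    exact neg_ne_zero.mpr hw
  · have : tvc v (1 * 1 * sympForm m F w₂ w₁)
        = y₁ * y₂ * ((g * S.kt v₀ b * g⁻¹) * y₁ * (g * S.kt v₀ b * g⁻¹)⁻¹)⁻¹ := by
      rw [hprod, mul_inv_cancel_right]
    rw [this]
    exact M.mul_mem (M.mul_mem hy₁ hy₂) (M.inv_mem hy₃)

end Cfsg.Agent.Lib.Helper26.C3sLeaf
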