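import Mathlib
import Cfsg.Prelude.Def_Solvable

/-!
# McLaughlin's theorem over `ZMod p` (S5075): definitions and the algebra of transvections

`tv φ v` is the transvection `x ↦ x + φ x • v` (as a linear equivalence; `1` when `φ v ≠ 0`).
For a subgroup `K` of `GL(V)`: `Phi K v` is the subspace of the functionals `φ` with `φ v = 0` and
`tv φ v ∈ K`; `IsCtr K v` says that `v ≠ 0` is the centre of a non-trivial transvection of `K`;
`Arr K v w` says that some `φ ∈ Phi K v` does not vanish at `w`; `Nsp K` is the span of the centres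
(`= [V, K]` when `K` is generated by transvections), `Wsp K` the intersection of the axes
(`= C_V(K)`); `TvSet K` the set of non-trivial transvections in `K`; `IsStar p K` the standing
hypothesis on one "component".
-/

set_option autoImplicit false
set_option linter.unusedSectionVars false
set_option linter.unusedVariables false

namespace Cfsg.Agent.Lib.Helper26.McL
open Module

variable {p : ℕ} [Fact p.Prime] {V : Type*} [AddCommGroup V] [Module (ZMod p) V]

/-- the transvection `x ↦ x + φ x • v` (the identity when `φ v ≠ 0`) -/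
noncomputable def tv (φ : Dual (ZMod p) V) (v : V) : V ≃ₗ[ZMod p] V :=
  if h : φ v = 0 then LinearEquiv.transvection h else 1

theorem tv_apply {φ : Dual (ZMod p) V} {v : V} (h : φ v = 0) (x : V) :
    tv φ v x = x + φ x • v := by
  unfold tv
  rw [dif_pos h]
  rfl

theorem tv_of_ne {φ : Dual (ZMod p) V} {v : V} (h : φ v ≠ 0) : tv φ v = 1 := by
  unfold tv
  rw [dif_neg h]

@[simp] theorem tv_zero_left (v : V) : tv (0 : Dual (ZMod p) V) v = 1 := by
  apply LinearEquiv.ext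
  intro x
  rw [tv_apply (by simp)]
  simp

@[simp] theorem tv_zero_right (φ : Dual (ZMod p) V) : tv φ (0 : V) = 1 := by
  apply LinearEquiv.ext
  intro x
  rw [tv_apply (by simp)]
  simp

/-- `τ(φ,v) τ(φ',v) = τ(φ+φ',v)` -/
theorem tv_mul_add_left {φ φ' : Dual (ZMod p) V} {v : V} (h : φ v = 0) (h' : φ' v = 0) :
    tv φ v * tv φ' v = tv (φ + φ') v := by
  apply LinearEquiv.ext
  intro x
  have h2 : (φ + φ') v = 0 := by simp [h, h']
  rw [LinearEquiv.mul_apply, tv_apply h', tv_apply h, tv_apply h2]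
  simp only [map_add, map_smul, h, smul_eq_mul, mul_zero, add_zero, LinearMap.add_apply, add_smul]
  abel

/-- `τ(φ,v) τ(φ,v') = τ(φ,v+v')` -/
theorem tv_mul_add_right {φ : Dual (ZMod p) V} {v v' : V} (h : φ v = 0) (h' : φ v' = 0) :
    tv φ v * tv φ v' = tv φ (v + v') := by
  apply LinearEquiv.ext
  intro x
  have h2 : φ (v + v') = 0 := by simp [h, h']
  rw [LinearEquiv.mul_apply, tv_apply h', tv_apply h, tv_apply h2]
  simp only [map_add, map_smul, h', smul_eq_mul, mul_zero, add_zero, smul_add]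
  abel

/-- `τ(cφ,v) = τ(φ,cv)` -/
theorem tv_smul_left (c : ZMod p) (φ : Dual (ZMod p) V) (v : V) :
    tv (c • φ) v = tv φ (c • v) := by
  by_cases h : φ v = 0
  · apply LinearEquiv.ext
    intro x
    rw [tv_apply (by simp [h]), tv_apply (by simp [h])]
    simp [smul_smul, mul_comm]
  · by_cases hc : c = 0
    · subst hc
      simp
    · rw [tv_of_ne, tv_of_ne]
      · simpa [hc] using h
      · simpa [hc] using h

theorem tv_inv {φ : Dual (ZMod p) V} {v : V} (h : φ v = 0) : (tv φ v)⁻¹ = tv (-φ) v := by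
  have h' : (-φ) v = 0 := by simp [h]
  rw [inv_eq_iff_mul_eq_one, tv_mul_add_left h h']
  simp

theorem tv_inv' {φ : Dual (ZMod p) V} {v : V} (h : φ v = 0) : (tv φ v)⁻¹ = tv φ (-v) := by
  have h' : φ (-v) = 0 := by simp [h]
  rw [inv_eq_iff_mul_eq_one, tv_mul_add_right h h']
  simp

theorem tv_pow {φ : Dual (ZMod p) V} {v : V} (h : φ v = 0) (n : ℕ) :
    (tv φ v) ^ n = tv ((n : ZMod p) • φ) v := by
  induction n with
  | zero => simp
  | succ n ih =>
    rw [pow_succ, ih, tv_mul_add_left (by simp [h]) h]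
    congr 1
    push_cast
    rw [add_smul, one_smul]

/-- `g τ(φ,v) g⁻¹ = τ(φ ∘ g⁻¹, g v)` -/
theorem conj_tv (g : V ≃ₗ[ZMod p] V) (φ : Dual (ZMod p) V) (v : V) :
    g * tv φ v * g⁻¹ = tv (φ ∘ₗ (g⁻¹ : V ≃ₗ[ZMod p] V).toLinearMap) (g v) := by
  have hgg : ∀ y : V, (g⁻¹ : V ≃ₗ[ZMod p] V) (g y) = y := fun y => by
    rw [← LinearEquiv.mul_apply, inv_mul_cancel]; rfl
  have hgg' : ∀ y : V, g ((g⁻¹ : V ≃ₗ[ZMod p] V) y) = y := fun y => by
    rw [← LinearEquiv.mul_apply, mul_inv_cancel]; rfl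
  by_cases h : φ v = 0
  · have h' : (φ ∘ₗ (g⁻¹ : V ≃ₗ[ZMod p] V).toLinearMap) (g v) = 0 := by
      simp [hgg, h]
    apply LinearEquiv.ext
    intro x
    rw [LinearEquiv.mul_apply, LinearEquiv.mul_apply, tv_apply h, tv_apply h']
    simp [hgg']
  · have h' : (φ ∘ₗ (g⁻¹ : V ≃ₗ[ZMod p] V).toLinearMap) (g v) ≠ 0 := by
      simpa [hgg] using h
    rw [tv_of_ne h, tv_of_ne h']
    simp

/-- (J1): if `ψ v = 0` then `[τ(φ,v), τ(ψ,w)] = τ(φ(w) ψ, v)` -/
theorem comm_tv {φ ψ : Dual (ZMod p) V} {v w : V} (hφ : φ v = 0) (hψ : ψ w = 0) (hψv : ψ v = 0) :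
    tv φ v * tv ψ w * (tv φ v)⁻¹ * (tv ψ w)⁻¹ = tv (φ w • ψ) v := by
  rw [tv_inv hφ, tv_inv hψ]
  have h1 : (-φ) v = 0 := by simp [hφ]
  have h2 : (-ψ) w = 0 := by simp [hψ]
  have h3 : (φ w • ψ) v = 0 := by simp [hψv]
  apply LinearEquiv.ext
  intro x
  simp only [LinearEquiv.mul_apply]
  rw [tv_apply h2, tv_apply h1, tv_apply hψ, tv_apply hφ, tv_apply h3]
  simp only [map_add, map_smul, LinearMap.neg_apply, LinearMap.smul_apply, smul_eq_mul, hφ, hψ,
    hψv, mul_zero, add_zero, neg_smul, smul_add, smul_neg, map_neg, neg_zero, zero_smul, smul_zero,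
    mul_neg, neg_neg]
  module

/-- two transvections commute when `φ w = 0` and `ψ v = 0` -/
theorem tv_commute {φ ψ : Dual (ZMod p) V} {v w : V} (hφ : φ v = 0) (hψ : ψ w = 0)
    (hφw : φ w = 0) (hψv : ψ v = 0) : tv φ v * tv ψ w = tv ψ w * tv φ v := by
  apply LinearEquiv.ext
  intro x
  simp only [LinearEquiv.mul_apply]
  rw [tv_apply hψ, tv_apply hφ, tv_apply hφ, tv_apply hψ]
  simp only [map_add, map_smul, smul_eq_mul, hφw, hψv, mul_zero, add_zero]
  abel

/-- non-trivial transvections `τ(φ,v)`, `τ(ψ,w)` do not commute when `φ w ≠ 0` -/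
theorem tv_not_commute {φ ψ : Dual (ZMod p) V} {v w : V} (hφ : φ v = 0) (hψ : ψ w = 0)
    (hv : v ≠ 0) (hψ0 : ψ ≠ 0) (hφw : φ w ≠ 0) : tv φ v * tv ψ w ≠ tv ψ w * tv φ v := by
  intro h
  by_cases hψv : ψ v = 0
  · -- then the commutator is `τ(φ(w)ψ, v) ≠ 1`
    have h1 := comm_tv hφ hψ hψv
    rw [h, mul_assoc (tv ψ w), mul_inv_cancel, mul_one, mul_inv_cancel] at h1
    obtain ⟨x, hx⟩ : ∃ x, ψ x ≠ 0 := by
      by_contra hcon
      push Not at hcon
      exact hψ0 (LinearMap.ext hcon)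
    have h2 := congrArg (fun f : V ≃ₗ[ZMod p] V => f x) h1
    simp only [LinearEquiv.coe_one, id_eq] at h2
    rw [tv_apply (by simp [hψv])] at h2
    have h3 : (φ w • ψ) x • v = 0 := by
      have := h2
      rwa [eq_comm, add_eq_left] at this
    rw [smul_eq_zero] at h3
    rcases h3 with h3 | h3
    · simp only [LinearMap.smul_apply, smul_eq_mul, mul_eq_zero] at h3
      rcases h3 with h3 | h3
      · exact hφw h3
      · exact hx h3
    · exact hv h3
  · -- apply both sides to `v`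
    have h2 := congrArg (fun f : V ≃ₗ[ZMod p] V => f v) h
    simp only [LinearEquiv.mul_apply] at h2
    rw [tv_apply hψ, tv_apply hφ, tv_apply hφ, tv_apply hψ] at h2
    simp only [map_add, map_smul, smul_eq_mul, hφ, zero_smul, add_zero, hψ, mul_zero,
      smul_add] at h2
    -- `v + ψ v • w + (ψ v * φ w) • v = v + ψ v • w`
    have h3 : (ψ v * φ w) • v = 0 := by
      have h4 : v + ψ v • w + (ψ v * φ w) • v = v + ψ v • w := by
        rw [zero_add] at h2
        exact h2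
      rwa [add_eq_left] at h4
    rw [smul_eq_zero] at h3
    rcases h3 with h3 | h3
    · rcases mul_eq_zero.mp h3 with h4 | h4
      · exact hψv h4
      · exact hφw h4
    · exact hv h3

theorem tv_ne_one {φ : Dual (ZMod p) V} {v : V} (hφ : φ v = 0) (hφ0 : φ ≠ 0) (hv : v ≠ 0) :
    tv φ v ≠ 1 := by
  intro h
  obtain ⟨x, hx⟩ : ∃ x, φ x ≠ 0 := by
    by_contra hcon
    push Not at hcon
    exact hφ0 (LinearMap.ext hcon)
  have h2 := congrArg (fun f : V ≃ₗ[ZMod p] V => f x) h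
  simp only [LinearEquiv.coe_one, id_eq] at h2
  rw [tv_apply hφ, add_eq_left, smul_eq_zero] at h2
  rcases h2 with h2 | h2
  · exact hx h2
  · exact hv h2

/-- equal non-trivial transvections have proportional centres and axes -/
theorem tv_eq_tv {φ ψ : Dual (ZMod p) V} {v w : V} (hφ : φ v = 0) (hψ : ψ w = 0)
    (hφ0 : φ ≠ 0) (hv : v ≠ 0) (h : tv φ v = tv ψ w) :
    ∃ c : ZMod p, c ≠ 0 ∧ w = c • v ∧ φ = c • ψ := by
  obtain ⟨x, hx⟩ : ∃ x, φ x ≠ 0 := by
    by_contra hcon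
    push Not at hcon
    exact hφ0 (LinearMap.ext hcon)
  have key : ∀ y : V, φ y • v = ψ y • w := by
    intro y
    have h2 := congrArg (fun f : V ≃ₗ[ZMod p] V => f y) h
    rw [tv_apply hφ, tv_apply hψ] at h2
    exact add_left_cancel h2
  have hψx : ψ x ≠ 0 := by
    intro h0
    have := key x
    rw [h0, zero_smul, smul_eq_zero] at this
    rcases this with h1 | h1
    · exact hx h1
    · exact hv h1
  refine ⟨φ x / ψ x, div_ne_zero hx hψx, ?_, ?_⟩
  · have := key x
    rw [div_eq_inv_mul, mul_smul, this, smul_smul, inv_mul_cancel₀ hψx, one_smul]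
  · apply LinearMap.ext
    intro y
    have h1 := key y
    have h2 := key x
    -- `w = (φ x / ψ x) • v`, so `φ y • v = (ψ y * (φ x / ψ x)) • v`
    have hw : w = (φ x / ψ x) • v := by
      rw [div_eq_inv_mul, mul_smul, h2, smul_smul, inv_mul_cancel₀ hψx, one_smul]
    rw [hw, smul_smul] at h1
    have h3 : (φ y - ψ y * (φ x / ψ x)) • v = 0 := by
      rw [sub_smul, h1, sub_self]
    rw [smul_eq_zero] at h3
    rcases h3 with h3 | h3
    · rw [sub_eq_zero] at h3
      simp only [LinearMap.smul_apply, smul_eq_mul]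
      rw [h3, mul_comm]
    · exact absurd h3 hv

/-! ### the data attached to a subgroup -/

/-- `Phi K v = {φ | φ v = 0 ∧ τ(φ,v) ∈ K}`, a subspace of the dual since the field is prime -/
def Phi (K : Subgroup (V ≃ₗ[ZMod p] V)) (v : V) : Submodule (ZMod p) (Dual (ZMod p) V) where
  carrier := {φ | φ v = 0 ∧ tv φ v ∈ K}
  add_mem' := by
    rintro φ φ' ⟨h, hK⟩ ⟨h', hK'⟩
    refine ⟨by simp [h, h'], ?_⟩
    rw [← tv_mul_add_left h h']
    exact K.mul_mem hK hK'
  zero_mem' := by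
    refine ⟨by simp, ?_⟩
    rw [tv_zero_left]
    exact K.one_mem
  smul_mem' := by
    rintro c φ ⟨h, hK⟩
    refine ⟨by simp [h], ?_⟩
    have hc : c = ((c.val : ℕ) : ZMod p) := by
      rw [ZMod.natCast_val, ZMod.cast_id', id_eq]
    rw [hc, ← tv_pow h]
    exact K.pow_mem hK _

theorem mem_Phi {K : Subgroup (V ≃ₗ[ZMod p] V)} {v : V} {φ : Dual (ZMod p) V} :
    φ ∈ Phi K v ↔ φ v = 0 ∧ tv φ v ∈ K := Iff.rfl

/-- `v` is the centre of a non-trivial transvection of `K` -/
def IsCtr (K : Subgroup (V ≃ₗ[ZMod p] V)) (v : V) : Prop := v ≠ 0 ∧ Phi K v ≠ ⊥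

/-- `v → w`: some transvection of `K` with centre `v` moves `w` -/
def Arr (K : Subgroup (V ≃ₗ[ZMod p] V)) (v w : V) : Prop := ∃ φ ∈ Phi K v, φ w ≠ 0

/-- the span of the centres, `= [V, K]` -/
def Nsp (K : Subgroup (V ≃ₗ[ZMod p] V)) : Submodule (ZMod p) V :=
  Submodule.span (ZMod p) {v | IsCtr K v}

/-- the intersection of the axes, `= C_V(K)` -/
def Wsp (K : Subgroup (V ≃ₗ[ZMod p] V)) : Submodule (ZMod p) V where
  carrier := {x | ∀ v : V, v ≠ 0 → ∀ φ ∈ Phi K v, φ x = 0}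
  add_mem' := by
    intro x y hx hy v hv φ hφ
    rw [map_add, hx v hv φ hφ, hy v hv φ hφ, add_zero]
  zero_mem' := by
    intro v hv φ hφ
    exact map_zero φ
  smul_mem' := by
    intro c x hx v hv φ hφ
    rw [map_smul, hx v hv φ hφ, smul_zero]

theorem mem_Wsp {K : Subgroup (V ≃ₗ[ZMod p] V)} {x : V} :
    x ∈ Wsp K ↔ ∀ v : V, v ≠ 0 → ∀ φ ∈ Phi K v, φ x = 0 := Iff.rfl

/-- the non-trivial transvections of `K` -/
def TvSet (K : Subgroup (V ≃ₗ[ZMod p] V)) : Set (V ≃ₗ[ZMod p] V) :=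
  {g | g ∈ K ∧ ∃ (φ : Dual (ZMod p) V) (v : V), φ v = 0 ∧ φ ≠ 0 ∧ v ≠ 0 ∧ g = tv φ v}

/-- the standing hypothesis on one component: `K` is generated by its transvections, these form a
connected graph under non-commutation, and `O_p(K) = 1` -/
structure IsStar (K : Subgroup (V ≃ₗ[ZMod p] V)) : Prop where
  gen : K = Subgroup.closure (TvSet K)
  conn : ∀ s ∈ TvSet K, ∀ t ∈ TvSet K,
    Relation.ReflTransGen (fun a b => a ∈ TvSet K ∧ b ∈ TvSet K ∧ a * b ≠ b * a) s t
  core : Cfsg.pCore p ↥K = ⊥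

end Cfsg.Agent.Lib.Helper26.McL
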