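import Mathlib
import Cfsg.Agent.Lib.Helper26.McLDefs

/-!
# McLaughlin's theorem over `ZMod p` (S5075): basic lemmas on `Phi`, centres and arrows

Everything here is "pure": no hypothesis on the subgroup `K` (except where stated).
-/

set_option autoImplicit false
set_option linter.unusedSectionVars false
set_option linter.unusedVariables false

namespace Cfsg.Agent.Lib.Helper26.McL
open Module

variable {p : ℕ} [Fact p.Prime] {V : Type*} [AddCommGroup V] [Module (ZMod p) V]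

/-- `φ ∘ g⁻¹` -/
noncomputable def dconj (g : V ≃ₗ[ZMod p] V) (φ : Dual (ZMod p) V) : Dual (ZMod p) V :=
  φ ∘ₗ (g⁻¹ : V ≃ₗ[ZMod p] V).toLinearMap

theorem inv_apply_apply' (g : V ≃ₗ[ZMod p] V) (y : V) : (g⁻¹ : V ≃ₗ[ZMod p] V) (g y) = y := by
  rw [← LinearEquiv.mul_apply, inv_mul_cancel]; rfl

theorem apply_inv_apply' (g : V ≃ₗ[ZMod p] V) (y : V) : g ((g⁻¹ : V ≃ₗ[ZMod p] V) y) = y := by
  rw [← LinearEquiv.mul_apply, mul_inv_cancel]; rfl

@[simp] theorem dconj_apply (g : V ≃ₗ[ZMod p] V) (φ : Dual (ZMod p) V) (x : V) :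
    dconj g φ x = φ ((g⁻¹ : V ≃ₗ[ZMod p] V) x) := rfl

theorem dconj_apply_apply (g : V ≃ₗ[ZMod p] V) (φ : Dual (ZMod p) V) (x : V) :
    dconj g φ (g x) = φ x := by
  rw [dconj_apply, inv_apply_apply']

theorem dconj_inv_dconj (g : V ≃ₗ[ZMod p] V) (φ : Dual (ZMod p) V) :
    dconj g⁻¹ (dconj g φ) = φ := by
  apply LinearMap.ext
  intro x
  simp only [dconj_apply, inv_inv]
  rw [inv_apply_apply']

theorem dconj_dconj_inv (g : V ≃ₗ[ZMod p] V) (φ : Dual (ZMod p) V) :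
    dconj g (dconj g⁻¹ φ) = φ := by
  have := dconj_inv_dconj g⁻¹ φ
  rwa [inv_inv] at this

theorem conj_tv' (g : V ≃ₗ[ZMod p] V) (φ : Dual (ZMod p) V) (v : V) :
    g * tv φ v * g⁻¹ = tv (dconj g φ) (g v) := conj_tv g φ v

/-- `dconj g` as a linear automorphism of the dual -/
noncomputable def dconjEquiv (g : V ≃ₗ[ZMod p] V) : Dual (ZMod p) V ≃ₗ[ZMod p] Dual (ZMod p) V where
  toFun := dconj g
  invFun := dconj g⁻¹
  map_add' a b := by
    apply LinearMap.ext; intro x; simp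
  map_smul' c a := by
    apply LinearMap.ext; intro x; simp
  left_inv a := dconj_inv_dconj g a
  right_inv a := dconj_dconj_inv g a

@[simp] theorem dconjEquiv_apply (g : V ≃ₗ[ZMod p] V) (φ : Dual (ZMod p) V) :
    dconjEquiv g φ = dconj g φ := rfl

variable {K : Subgroup (V ≃ₗ[ZMod p] V)}

theorem isCtr_iff {v : V} : IsCtr K v ↔ v ≠ 0 ∧ ∃ φ ∈ Phi K v, φ ≠ 0 := by
  unfold IsCtr
  rw [Submodule.ne_bot_iff]

theorem IsCtr.ne_zero {v : V} (h : IsCtr K v) : v ≠ 0 := h.1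

theorem phi_self {v : V} {φ : Dual (ZMod p) V} (hφ : φ ∈ Phi K v) : φ v = 0 := hφ.1

theorem tv_mem_of_mem_Phi {v : V} {φ : Dual (ZMod p) V} (hφ : φ ∈ Phi K v) : tv φ v ∈ K := hφ.2

theorem mem_TvSet_of {v : V} {φ : Dual (ZMod p) V} (hφ : φ ∈ Phi K v) (hφ0 : φ ≠ 0) (hv : v ≠ 0) :
    tv φ v ∈ TvSet K :=
  ⟨hφ.2, φ, v, hφ.1, hφ0, hv, rfl⟩

theorem exists_of_mem_TvSet {g : V ≃ₗ[ZMod p] V} (hg : g ∈ TvSet K) :
    ∃ (φ : Dual (ZMod p) V) (v : V), IsCtr K v ∧ φ ∈ Phi K v ∧ φ ≠ 0 ∧ g = tv φ v := by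
  obtain ⟨hgK, φ, v, h1, h2, h3, rfl⟩ := hg
  exact ⟨φ, v, isCtr_iff.mpr ⟨h3, φ, ⟨h1, hgK⟩, h2⟩, ⟨h1, hgK⟩, h2, rfl⟩

theorem TvSet_subset : TvSet K ⊆ (K : Set (V ≃ₗ[ZMod p] V)) := fun g hg => hg.1

theorem arr_iff {v w : V} : Arr K v w ↔ ∃ φ ∈ Phi K v, φ w ≠ 0 := Iff.rfl

theorem not_arr_iff {v w : V} : ¬ Arr K v w ↔ ∀ φ ∈ Phi K v, φ w = 0 := by
  unfold Arr
  push Not
  rfl

theorem not_arr_self (v : V) : ¬ Arr K v v := by
  rw [not_arr_iff]
  intro φ hφ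
  exact hφ.1

theorem IsCtr_of_arr {v w : V} (hv : v ≠ 0) (h : Arr K v w) : IsCtr K v := by
  obtain ⟨φ, hφ, hw⟩ := h
  refine isCtr_iff.mpr ⟨hv, φ, hφ, ?_⟩
  rintro rfl
  simp at hw

/-- conjugation: `φ ∈ Phi K v → φ ∘ g⁻¹ ∈ Phi K (g v)` for `g ∈ K` -/
theorem dconj_mem_Phi {g : V ≃ₗ[ZMod p] V} (hg : g ∈ K) {v : V} {φ : Dual (ZMod p) V}
    (hφ : φ ∈ Phi K v) : dconj g φ ∈ Phi K (g v) := by
  refine ⟨?_, ?_⟩
  · rw [dconj_apply_apply]; exact hφ.1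
  · rw [← conj_tv']
    exact K.mul_mem (K.mul_mem hg hφ.2) (K.inv_mem hg)

theorem dconj_mem_Phi_iff {g : V ≃ₗ[ZMod p] V} (hg : g ∈ K) {v : V} {φ : Dual (ZMod p) V} :
    dconj g φ ∈ Phi K (g v) ↔ φ ∈ Phi K v := by
  refine ⟨fun h => ?_, dconj_mem_Phi hg⟩
  have := dconj_mem_Phi (K.inv_mem hg) h
  rwa [dconj_inv_dconj, inv_apply_apply'] at this

theorem Phi_map_dconj {g : V ≃ₗ[ZMod p] V} (hg : g ∈ K) (v : V) :
    (Phi K v).map (dconjEquiv g).toLinearMap = Phi K (g v) := by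
  apply le_antisymm
  · rintro _ ⟨φ, hφ, rfl⟩
    exact dconj_mem_Phi hg hφ
  · intro ψ hψ
    refine ⟨dconj g⁻¹ ψ, ?_, dconj_dconj_inv g ψ⟩
    have := dconj_mem_Phi (K.inv_mem hg) hψ
    rwa [inv_apply_apply'] at this

theorem finrank_Phi_conj {g : V ≃ₗ[ZMod p] V} (hg : g ∈ K) (v : V) :
    finrank (ZMod p) (Phi K (g v)) = finrank (ZMod p) (Phi K v) := by
  rw [← Phi_map_dconj hg v]
  exact LinearEquiv.finrank_eq ((dconjEquiv g).submoduleMap (Phi K v)).symm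

theorem Phi_smul {c : ZMod p} (hc : c ≠ 0) (v : V) : Phi K (c • v) = Phi K v := by
  ext φ
  constructor
  · rintro ⟨h1, h2⟩
    have h3 : φ v = 0 := by
      rw [map_smul, smul_eq_mul, mul_eq_zero] at h1
      exact h1.resolve_left hc
    rw [← tv_smul_left] at h2
    have h4 : c • φ ∈ Phi K v := ⟨by simp [h3], h2⟩
    have := (Phi K v).smul_mem c⁻¹ h4
    rwa [smul_smul, inv_mul_cancel₀ hc, one_smul] at this
  · rintro h
    have h4 : c • φ ∈ Phi K v := (Phi K v).smul_mem c h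
    refine ⟨by simp [h.1], ?_⟩
    rw [← tv_smul_left]
    exact h4.2

theorem isCtr_smul {c : ZMod p} (hc : c ≠ 0) {v : V} : IsCtr K (c • v) ↔ IsCtr K v := by
  unfold IsCtr
  rw [Phi_smul hc, smul_ne_zero_iff]
  simp [hc]

theorem isCtr_conj {g : V ≃ₗ[ZMod p] V} (hg : g ∈ K) {v : V} : IsCtr K (g v) ↔ IsCtr K v := by
  have key : ∀ {g : V ≃ₗ[ZMod p] V}, g ∈ K → ∀ {v : V}, IsCtr K v → IsCtr K (g v) := by
    intro g hg v hv
    obtain ⟨hv0, φ, hφ, hφ0⟩ := isCtr_iff.mp hv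
    refine isCtr_iff.mpr ⟨?_, dconj g φ, dconj_mem_Phi hg hφ, ?_⟩
    · intro h
      apply hv0
      have := congrArg (g⁻¹ : V ≃ₗ[ZMod p] V) h
      rwa [inv_apply_apply', map_zero] at this
    · intro h
      apply hφ0
      have := congrArg (dconj g⁻¹) h
      rw [dconj_inv_dconj] at this
      rw [this]
      apply LinearMap.ext; intro x; simp
  refine ⟨fun h => ?_, key hg⟩
  have := key (K.inv_mem hg) h
  rwa [inv_apply_apply'] at this

theorem arr_conj {g : V ≃ₗ[ZMod p] V} (hg : g ∈ K) {v w : V} :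
    Arr K (g v) (g w) ↔ Arr K v w := by
  constructor
  · rintro ⟨ψ, hψ, hw⟩
    refine ⟨dconj g⁻¹ ψ, ?_, ?_⟩
    · have := dconj_mem_Phi (K.inv_mem hg) hψ
      rwa [inv_apply_apply'] at this
    · simpa using hw
  · rintro ⟨φ, hφ, hw⟩
    exact ⟨dconj g φ, dconj_mem_Phi hg hφ, by rwa [dconj_apply_apply]⟩

/-- (F6a) if `ψ ∈ Phi K v` with `ψ u ≠ 0` then every `φ ∈ Phi K u` with `φ v = 0` lies in
`Phi K v` -/
theorem mem_Phi_of_arr {v u : V} {ψ : Dual (ZMod p) V} (hψ : ψ ∈ Phi K v) (hψu : ψ u ≠ 0)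
    {φ : Dual (ZMod p) V} (hφ : φ ∈ Phi K u) (hφv : φ v = 0) : φ ∈ Phi K v := by
  have h1 := comm_tv hψ.1 hφ.1 hφv
  have h2 : tv (ψ u • φ) v ∈ K := by
    rw [← h1]
    exact K.mul_mem (K.mul_mem (K.mul_mem hψ.2 hφ.2) (K.inv_mem hψ.2)) (K.inv_mem hφ.2)
  have h3 : ψ u • φ ∈ Phi K v := ⟨by simp [hφv], h2⟩
  have := (Phi K v).smul_mem (ψ u)⁻¹ h3
  rwa [smul_smul, inv_mul_cancel₀ hψu, one_smul] at this

/-- (F3) `v → w` and not `w → v` give `Phi K w ≤ Phi K v` -/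
theorem Phi_le_of_arr {v w : V} (h : Arr K v w) (h' : ¬ Arr K w v) : Phi K w ≤ Phi K v := by
  obtain ⟨ψ, hψ, hψw⟩ := h
  rw [not_arr_iff] at h'
  intro φ hφ
  exact mem_Phi_of_arr hψ hψw hφ (h' φ hφ)

theorem Phi_inf_le (v y : V) (a b : ZMod p) : Phi K v ⊓ Phi K y ≤ Phi K (a • v + b • y) := by
  rintro φ ⟨h1, h2⟩
  have h3 : tv φ (a • v) ∈ K := by
    rw [← tv_smul_left]; exact ((Phi K v).smul_mem a h1).2
  have h4 : tv φ (b • y) ∈ K := by
    rw [← tv_smul_left]; exact ((Phi K y).smul_mem b h2).2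
  have h5 : φ (a • v) = 0 := by simp [h1.1]
  have h6 : φ (b • y) = 0 := by simp [h2.1]
  refine ⟨by simp [h1.1, h2.1], ?_⟩
  rw [← tv_mul_add_right h5 h6]
  exact K.mul_mem h3 h4

/-- (F4 ii) an opposite pair is conjugate: `g v = w` for some `g ∈ K` -/
theorem exists_map_eq_of_arr {v w : V} {φ ψ : Dual (ZMod p) V} (hφ : φ ∈ Phi K v)
    (hψ : ψ ∈ Phi K w) (h1 : φ w ≠ 0) (h2 : ψ v ≠ 0) : ∃ g ∈ K, g v = w := by
  have ha : (-(φ w)⁻¹) • φ ∈ Phi K v := (Phi K v).smul_mem _ hφ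
  have hb : (ψ v)⁻¹ • ψ ∈ Phi K w := (Phi K w).smul_mem _ hψ
  refine ⟨tv ((-(φ w)⁻¹) • φ) v * tv ((ψ v)⁻¹ • ψ) w, K.mul_mem ha.2 hb.2, ?_⟩
  rw [LinearEquiv.mul_apply, tv_apply hb.1, tv_apply ha.1]
  simp only [LinearMap.smul_apply, smul_eq_mul, map_add, map_smul, hφ.1, mul_zero, zero_add,
    inv_mul_cancel₀ h2, one_smul, mul_one, neg_mul, inv_mul_cancel₀ h1, neg_smul]
  abel

/-- (F5a) if `v → u` then `u + c v` is a centre for every `c` -/
theorem isCtr_add_smul {v u : V} (h : Arr K v u) (hu : IsCtr K u) (c : ZMod p) :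
    IsCtr K (u + c • v) := by
  obtain ⟨φ, hφ, hφu⟩ := h
  have ha : (c * (φ u)⁻¹) • φ ∈ Phi K v := (Phi K v).smul_mem _ hφ
  have h1 : tv ((c * (φ u)⁻¹) • φ) v u = u + c • v := by
    rw [tv_apply ha.1]
    simp only [LinearMap.smul_apply, smul_eq_mul]
    rw [mul_assoc, inv_mul_cancel₀ hφu, mul_one]
  rw [← h1]
  exact (isCtr_conj ha.2).mpr hu

theorem isCtr_mem_Nsp {v : V} (hv : IsCtr K v) : v ∈ Nsp K := Submodule.subset_span hv

theorem Nsp_invariant {g : V ≃ₗ[ZMod p] V} (hg : g ∈ K) {x : V} (hx : x ∈ Nsp K) : g x ∈ Nsp K := by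
  unfold Nsp at hx ⊢
  induction hx using Submodule.span_induction with
  | mem x hx => exact Submodule.subset_span ((isCtr_conj hg).mpr hx)
  | zero => simp
  | add x y _ _ hx hy => rw [map_add]; exact Submodule.add_mem _ hx hy
  | smul c x _ hx => rw [map_smul]; exact Submodule.smul_mem _ c hx

theorem Wsp_invariant {g : V ≃ₗ[ZMod p] V} (hg : g ∈ K) {x : V} (hx : x ∈ Wsp K) : g x ∈ Wsp K := by
  intro v hv φ hφ
  have h1 := dconj_mem_Phi (K.inv_mem hg) hφ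
  have h2 : (g⁻¹ : V ≃ₗ[ZMod p] V) v ≠ 0 := by
    intro h
    apply hv
    have := congrArg g h
    rwa [apply_inv_apply', map_zero] at this
  have := hx _ h2 _ h1
  simpa using this

theorem phi_eq_zero_of_mem_Wsp {x v : V} (hx : x ∈ Wsp K) (hv : v ≠ 0) {φ : Dual (ZMod p) V}
    (hφ : φ ∈ Phi K v) : φ x = 0 := hx v hv φ hφ

/-- a functional vanishing on all centres vanishes on `Nsp K` -/
theorem eq_zero_on_Nsp {φ : Dual (ZMod p) V} (h : ∀ w, IsCtr K w → φ w = 0) {x : V}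
    (hx : x ∈ Nsp K) : φ x = 0 := by
  unfold Nsp at hx
  induction hx using Submodule.span_induction with
  | mem x hx => exact h x hx
  | zero => simp
  | add x y _ _ hx hy => rw [map_add, hx, hy, add_zero]
  | smul c x _ hx => rw [map_smul, hx, smul_zero]

/-- elements of `K` fix `Wsp K` pointwise when `K` is generated by its transvections -/
theorem apply_eq_of_mem_Wsp (hgen : K = Subgroup.closure (TvSet K)) {g : V ≃ₗ[ZMod p] V}
    (hg : g ∈ K) {x : V} (hx : x ∈ Wsp K) : g x = x := by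
  rw [hgen] at hg
  induction hg using Subgroup.closure_induction with
  | mem g hg =>
    obtain ⟨φ, v, hv, hφ, hφ0, rfl⟩ := exists_of_mem_TvSet hg
    rw [tv_apply hφ.1, hx v hv.1 φ hφ, zero_smul, add_zero]
  | one => rfl
  | mul a b _ _ ha hb => rw [LinearEquiv.mul_apply, hb, ha]
  | inv a _ ha =>
    have := congrArg (a⁻¹ : V ≃ₗ[ZMod p] V) ha
    rw [inv_apply_apply'] at this
    exact this.symm

/-- `g x - x ∈ Nsp K` for `g ∈ K` when `K` is generated by its transvections -/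
theorem sub_mem_Nsp (hgen : K = Subgroup.closure (TvSet K)) {g : V ≃ₗ[ZMod p] V}
    (hg : g ∈ K) (x : V) : g x - x ∈ Nsp K := by
  have hg' := hg
  rw [hgen] at hg'
  induction hg' using Subgroup.closure_induction generalizing x with
  | mem g hg1 =>
    obtain ⟨φ, v, hv, hφ, hφ0, rfl⟩ := exists_of_mem_TvSet hg1
    rw [tv_apply hφ.1, add_sub_cancel_left]
    exact Submodule.smul_mem _ _ (isCtr_mem_Nsp hv)
  | one => simp
  | mul a b ha' hb' ha hb =>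
    have haK : a ∈ K := by rw [hgen]; exact ha'
    have hbK : b ∈ K := by rw [hgen]; exact hb'
    have : (a * b) x - x = (a (b x) - b x) + (b x - x) := by
      rw [LinearEquiv.mul_apply]; abel
    rw [this]
    exact Submodule.add_mem _ (ha haK (b x)) (hb hbK x)
  | inv a ha' ha =>
    have haK : a ∈ K := by rw [hgen]; exact ha'
    have h1 := ha haK ((a⁻¹ : V ≃ₗ[ZMod p] V) x)
    rw [apply_inv_apply'] at h1
    have : (a⁻¹ : V ≃ₗ[ZMod p] V) x - x = -(x - (a⁻¹ : V ≃ₗ[ZMod p] V) x) := by abel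
    rw [this]
    exact Submodule.neg_mem _ h1

end Cfsg.Agent.Lib.Helper26.McL
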