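import Mathlib
import Cfsg.Agent.Lib.Helper26.McLDefs
import Cfsg.Agent.Lib.Helper26.McLBasic

/-!
# McLaughlin's theorem over `ZMod p` (S5075): further shared definitions

* `Geo K`: the "geometry" of the centres of a component `K` (consequences of `IsStar K`);
* `resN K : ↥K →* GL(Nsp K)`: restriction to `Nsp K`;
* `dualGL : GL(V) →* GL(V*)`, `g ↦ (φ ↦ φ ∘ g⁻¹)`: the contragredient action;
* `CRel H`, `Comp H t`: the components of the non-commuting graph on the transvections of `H`.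
-/

set_option autoImplicit false
set_option linter.unusedSectionVars false
set_option linter.unusedVariables false

namespace Cfsg.Agent.Lib.Helper26.McL
open Module

variable {p : ℕ} [Fact p.Prime] {V : Type*} [AddCommGroup V] [Module (ZMod p) V]

/-- the geometry of the centres of `K`: the arrow relation is symmetric, `dim Phi K v` is constant,
no centre lies in `Wsp K`, no axis contains all centres, the graph of the centres is connected -/
structure Geo (K : Subgroup (V ≃ₗ[ZMod p] V)) : Prop where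
  symm : ∀ v w, IsCtr K v → IsCtr K w → Arr K v w → Arr K w v
  dconst : ∀ v w, IsCtr K v → IsCtr K w →
    finrank (ZMod p) (Phi K v) = finrank (ZMod p) (Phi K w)
  noW : ∀ v, IsCtr K v → v ∉ Wsp K
  noN : ∀ v, v ≠ 0 → ∀ φ ∈ Phi K v, φ ≠ 0 → ∃ w, IsCtr K w ∧ φ w ≠ 0
  conn : ∀ v w, IsCtr K v → IsCtr K w →
    Relation.ReflTransGen (fun a b => IsCtr K a ∧ IsCtr K b ∧ Arr K a b) v w

/-- the conclusion of the unipotent lemma (leaf U), used as a hypothesis by other leaves: an element of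
`K` acting trivially on the sections of a `K`-invariant chain `0 ≤ U₁ ≤ U₂ ≤ V` is `1` -/
def UProp (K : Subgroup (V ≃ₗ[ZMod p] V)) : Prop :=
  ∀ (U₁ U₂ : Submodule (ZMod p) V), U₁ ≤ U₂ → (∀ g ∈ K, ∀ x ∈ U₁, g x ∈ U₁) →
    (∀ g ∈ K, ∀ x ∈ U₂, g x ∈ U₂) → ∀ g ∈ K, (∀ x, g x - x ∈ U₂) → (∀ x ∈ U₂, g x - x ∈ U₁) →
    (∀ x ∈ U₁, g x = x) → g = 1

/-- the restriction of `g ∈ K` to `Nsp K` -/
noncomputable def resNEquiv (K : Subgroup (V ≃ₗ[ZMod p] V)) (g : ↥K) :
    ↥(Nsp K) ≃ₗ[ZMod p] ↥(Nsp K) where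
  toFun x := ⟨(g : V ≃ₗ[ZMod p] V) x, Nsp_invariant g.2 x.2⟩
  invFun x := ⟨((g : V ≃ₗ[ZMod p] V)⁻¹ : V ≃ₗ[ZMod p] V) x, Nsp_invariant (K.inv_mem g.2) x.2⟩
  map_add' x y := by
    apply Subtype.ext; simp
  map_smul' c x := by
    apply Subtype.ext; simp
  left_inv x := by
    apply Subtype.ext; simp [inv_apply_apply']
  right_inv x := by
    apply Subtype.ext; simp [apply_inv_apply']

/-- restriction to `Nsp K` as a group homomorphism -/
noncomputable def resN (K : Subgroup (V ≃ₗ[ZMod p] V)) :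
    ↥K →* (↥(Nsp K) ≃ₗ[ZMod p] ↥(Nsp K)) where
  toFun := resNEquiv K
  map_one' := by
    apply LinearEquiv.ext; intro x; apply Subtype.ext; rfl
  map_mul' a b := by
    apply LinearEquiv.ext; intro x; apply Subtype.ext; rfl

theorem resN_apply (K : Subgroup (V ≃ₗ[ZMod p] V)) (g : ↥K) (x : ↥(Nsp K)) :
    ((resN K g x : ↥(Nsp K)) : V) = (g : V ≃ₗ[ZMod p] V) (x : V) := rfl

/-- the contragredient action `g ↦ (φ ↦ φ ∘ g⁻¹)` -/
noncomputable def dualGL :
    (V ≃ₗ[ZMod p] V) →* (Dual (ZMod p) V ≃ₗ[ZMod p] Dual (ZMod p) V) where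
  toFun := dconjEquiv
  map_one' := by
    apply LinearEquiv.ext; intro φ; apply LinearMap.ext; intro x
    simp
  map_mul' a b := by
    apply LinearEquiv.ext; intro φ; apply LinearMap.ext; intro x
    simp [mul_inv_rev, LinearEquiv.mul_apply]

theorem dualGL_apply (g : V ≃ₗ[ZMod p] V) (φ : Dual (ZMod p) V) (x : V) :
    dualGL g φ x = φ ((g⁻¹ : V ≃ₗ[ZMod p] V) x) := rfl

/-- the dual of a finite module over `ZMod p` is finite -/
theorem finite_dual [Finite V] : Finite (Dual (ZMod p) V) :=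
  Finite.of_injective (fun φ : Dual (ZMod p) V => (φ : V → ZMod p)) DFunLike.coe_injective

/-- `GL(V)` is finite -/
theorem finite_gl [Finite V] : Finite (V ≃ₗ[ZMod p] V) :=
  Finite.of_injective (fun g : V ≃ₗ[ZMod p] V => (g : V → V)) DFunLike.coe_injective

/-- the relation generated by non-commutation on the transvections of `H` -/
def CRel (H : Subgroup (V ≃ₗ[ZMod p] V)) : (V ≃ₗ[ZMod p] V) → (V ≃ₗ[ZMod p] V) → Prop :=
  Relation.ReflTransGen (fun a b => a ∈ TvSet H ∧ b ∈ TvSet H ∧ a * b ≠ b * a)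

/-- the subgroup generated by the component of the transvection `t` of `H` -/
def Comp (H : Subgroup (V ≃ₗ[ZMod p] V)) (t : V ≃ₗ[ZMod p] V) : Subgroup (V ≃ₗ[ZMod p] V) :=
  Subgroup.closure {s | s ∈ TvSet H ∧ CRel H t s}

end Cfsg.Agent.Lib.Helper26.McL
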