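/-
helper26: S2282 (2), file C.  Inverse forms of the action of `u0`, `w0` on the Witt basis, in the shape
of the hypotheses of helper13's `SU5.core5`:
`w0⁻¹ e_l = e_l + σα d + σβ f_l`, `w0⁻¹ e_{l-1} = e_{l-1} + (e_l + σα d + σβ f_l)`, `w0⁻¹ f_{i+1} = f_{i+1} - f_i`,
`u0⁻¹ e_{i+1} = e_{i+1} - e_i`, `u0⁻¹ d = d - α e_l`, `u0⁻¹ f_l = f_l + σα d + σβ e_l`; regularity of `w0`.
-/
import Mathlib
import Cfsg.Agent.Lib.Helper26.SURegB

set_option autoImplicit false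
set_option linter.unusedSimpArgs false
set_option linter.unusedVariables false
set_option linter.unusedSectionVars false

namespace Cfsg.Agent.Lib.Helper26.SUReg

open Matrix Cfsg.Agent.Lib.Helper16.FusSU Cfsg.Agent.Lib.Helper13.LSU

variable {K : Type*} [Field K] {d : ℕ} {n : ℕ} (σ : K →+* K)

/-- inverse action from direct action -/
theorem inv_mulVec_of_mulVec (g : UJ σ n) {x y : Fin n → K}
    (h : ((g : SpecialLinearGroup (Fin n) K) : Matrix (Fin n) (Fin n) K) *ᵥ x = y) :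
    (((g⁻¹ : UJ σ n) : SpecialLinearGroup (Fin n) K) : Matrix (Fin n) (Fin n) K) *ᵥ y = x := by
  rw [← h, Matrix.mulVec_mulVec]
  have e : (((g⁻¹ : UJ σ n) : SpecialLinearGroup (Fin n) K) : Matrix (Fin n) (Fin n) K) *
      ((g : SpecialLinearGroup (Fin n) K) : Matrix (Fin n) (Fin n) K) = 1 := by
    have h1 : ((g⁻¹ * g : UJ σ n) : SpecialLinearGroup (Fin n) K) = 1 := by
      rw [inv_mul_cancel]
      rfl
    have h2 := congrArg (fun z : SpecialLinearGroup (Fin n) K => (z : Matrix (Fin n) (Fin n) K)) h1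
    exact h2
  rw [e, Matrix.one_mulVec]

variable (hσ : ∀ x, σ (σ x) = x)

/-- `w0 (f_{i+1} - f_i) = f_{i+1}` -/
theorem w0_fJ_diff' (l : Fin d) {α β : K} (h : β + σ β + α * σ α = 0) (i j : Fin d)
    (hij : (j : ℕ) = (i : ℕ) + 1) :
    (((w0 σ hσ l h : UJ σ (d + 1 + d)) : SpecialLinearGroup (Fin (d + 1 + d)) K) :
      Matrix (Fin (d + 1 + d)) (Fin (d + 1 + d)) K) *ᵥ (fJ j - fJ i) = fJ j := by
  rw [Matrix.mulVec_sub, w0_fJ_succ σ hσ l h i j hij]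
  abel

/-- `u0 (e_{i+1} - e_i) = e_{i+1}` -/
theorem u0_eJ_diff' (l : Fin d) {α β : K} (h : β + σ β + α * σ α = 0) (i j : Fin d)
    (hij : (j : ℕ) = (i : ℕ) + 1) :
    (((u0 σ hσ l h : UJ σ (d + 1 + d)) : SpecialLinearGroup (Fin (d + 1 + d)) K) :
      Matrix (Fin (d + 1 + d)) (Fin (d + 1 + d)) K) *ᵥ (eJ j - eJ i) = eJ j := by
  rw [Matrix.mulVec_sub, u0_eJ_succ σ hσ l h i j hij]
  abel

/-- `u0 (d - α e_l) = d` -/
theorem u0_dJ_sub (l : Fin d) (hl : (l : ℕ) + 1 = d) {α β : K} (h : β + σ β + α * σ α = 0) :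
    (((u0 σ hσ l h : UJ σ (d + 1 + d)) : SpecialLinearGroup (Fin (d + 1 + d)) K) :
      Matrix (Fin (d + 1 + d)) (Fin (d + 1 + d)) K) *ᵥ (dJ - α • eJ l) = dJ := by
  rw [Matrix.mulVec_sub, Matrix.mulVec_smul, u0_dJ σ hσ l hl, u0_eJ_last σ hσ l hl, add_sub_cancel_right]

/-- `u0 (f_l + σα d + σβ e_l) = f_l` -/
theorem u0_fJ_last_add (l : Fin d) (hl : (l : ℕ) + 1 = d) {α β : K}
    (h : β + σ β + α * σ α = 0) :
    (((u0 σ hσ l h : UJ σ (d + 1 + d)) : SpecialLinearGroup (Fin (d + 1 + d)) K) :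
      Matrix (Fin (d + 1 + d)) (Fin (d + 1 + d)) K) *ᵥ (fJ l + σ α • dJ + σ β • eJ l) = fJ l := by
  rw [Matrix.mulVec_add, Matrix.mulVec_add, Matrix.mulVec_smul, Matrix.mulVec_smul,
    u0_fJ_last σ hσ l hl, u0_dJ σ hσ l hl, u0_eJ_last σ hσ l hl]
  have e : fJ l - σ α • dJ + β • seJ + σ α • (dJ + α • seJ) + σ β • seJ =
      (fJ l : Fin (d + 1 + d) → K) + (β + σ β + α * σ α) • seJ := by
    rw [smul_add, smul_smul, add_smul, add_smul, mul_comm α (σ α)]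
    abel
  rw [e, h, zero_smul, add_zero]

/-! ### inverse forms (the shape of helper13's `SU5.core5`) -/

theorem w0_inv_eJ_last (l : Fin d) (hl : (l : ℕ) + 1 = d) {α β : K}
    (h : β + σ β + α * σ α = 0) :
    ((((w0 σ hσ l h)⁻¹ : UJ σ (d + 1 + d)) : SpecialLinearGroup (Fin (d + 1 + d)) K) :
      Matrix (Fin (d + 1 + d)) (Fin (d + 1 + d)) K) *ᵥ eJ l =
      eJ l + σ α • dJ + σ β • fJ l :=
  inv_mulVec_of_mulVec σ _ (w0_zJ σ hσ l hl h)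

theorem w0_inv_eJ_prev (l : Fin d) (hl : (l : ℕ) + 1 = d) {α β : K}
    (h : β + σ β + α * σ α = 0) (i : Fin d) (hil : (l : ℕ) = (i : ℕ) + 1) :
    ((((w0 σ hσ l h)⁻¹ : UJ σ (d + 1 + d)) : SpecialLinearGroup (Fin (d + 1 + d)) K) :
      Matrix (Fin (d + 1 + d)) (Fin (d + 1 + d)) K) *ᵥ eJ i =
      eJ i + (eJ l + σ α • dJ + σ β • fJ l) :=
  inv_mulVec_of_mulVec σ _ (w0_eJ_add_zJ σ hσ l hl h i hil)

theorem w0_inv_fJ_succ (l : Fin d) {α β : K} (h : β + σ β + α * σ α = 0) (i j : Fin d)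
    (hij : (j : ℕ) = (i : ℕ) + 1) :
    ((((w0 σ hσ l h)⁻¹ : UJ σ (d + 1 + d)) : SpecialLinearGroup (Fin (d + 1 + d)) K) :
      Matrix (Fin (d + 1 + d)) (Fin (d + 1 + d)) K) *ᵥ fJ j = fJ j - fJ i :=
  inv_mulVec_of_mulVec σ _ (w0_fJ_diff' σ hσ l h i j hij)

theorem u0_inv_eJ_succ (l : Fin d) {α β : K} (h : β + σ β + α * σ α = 0) (i j : Fin d)
    (hij : (j : ℕ) = (i : ℕ) + 1) :
    ((((u0 σ hσ l h)⁻¹ : UJ σ (d + 1 + d)) : SpecialLinearGroup (Fin (d + 1 + d)) K) :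
      Matrix (Fin (d + 1 + d)) (Fin (d + 1 + d)) K) *ᵥ eJ j = eJ j - eJ i :=
  inv_mulVec_of_mulVec σ _ (u0_eJ_diff' σ hσ l h i j hij)

theorem u0_inv_dJ (l : Fin d) (hl : (l : ℕ) + 1 = d) {α β : K} (h : β + σ β + α * σ α = 0) :
    ((((u0 σ hσ l h)⁻¹ : UJ σ (d + 1 + d)) : SpecialLinearGroup (Fin (d + 1 + d)) K) :
      Matrix (Fin (d + 1 + d)) (Fin (d + 1 + d)) K) *ᵥ dJ = dJ - α • eJ l :=
  inv_mulVec_of_mulVec σ _ (u0_dJ_sub σ hσ l hl h)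

theorem u0_inv_fJ_last (l : Fin d) (hl : (l : ℕ) + 1 = d) {α β : K}
    (h : β + σ β + α * σ α = 0) :
    ((((u0 σ hσ l h)⁻¹ : UJ σ (d + 1 + d)) : SpecialLinearGroup (Fin (d + 1 + d)) K) :
      Matrix (Fin (d + 1 + d)) (Fin (d + 1 + d)) K) *ᵥ fJ l =
      fJ l + σ α • dJ + σ β • eJ l :=
  inv_mulVec_of_mulVec σ _ (u0_fJ_last_add σ hσ l hl h)

theorem u0_inv_eJ_zero (l : Fin d) {α β : K} (h : β + σ β + α * σ α = 0) (i0 : Fin d)
    (h0 : (i0 : ℕ) = 0) :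
    ((((u0 σ hσ l h)⁻¹ : UJ σ (d + 1 + d)) : SpecialLinearGroup (Fin (d + 1 + d)) K) :
      Matrix (Fin (d + 1 + d)) (Fin (d + 1 + d)) K) *ᵥ eJ i0 = eJ i0 :=
  inv_mulVec_of_mulVec σ _ (u0_eJ_zero σ hσ l h i0 h0)

theorem w0_inv_fJ_zero (l : Fin d) {α β : K} (h : β + σ β + α * σ α = 0) (i0 : Fin d)
    (h0 : (i0 : ℕ) = 0) :
    ((((w0 σ hσ l h)⁻¹ : UJ σ (d + 1 + d)) : SpecialLinearGroup (Fin (d + 1 + d)) K) :
      Matrix (Fin (d + 1 + d)) (Fin (d + 1 + d)) K) *ᵥ fJ i0 = fJ i0 :=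
  inv_mulVec_of_mulVec σ _ (w0_fJ_zero σ hσ l h i0 h0)

theorem conj_pow_of_invol {P A : Matrix (Fin n) (Fin n) K} (hPP : P * P = 1) (k : ℕ) :
    (P * A * P) ^ k = P * A ^ k * P := by
  induction k with
  | zero => rw [pow_zero, pow_zero, Matrix.mul_one, hPP]
  | succ k ih =>
    rw [pow_succ, pow_succ, ih]
    have e : P * A ^ k * P * (P * A * P) = P * A ^ k * (P * P) * A * P := by
      simp only [Matrix.mul_assoc]
    rw [e, hPP, Matrix.mul_one]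
    simp only [Matrix.mul_assoc]

/-- regularity of `w0` (conjugate of `u0`) -/
theorem w0_regular (l : Fin d) (hl : (l : ℕ) + 1 = d) {α β : K}
    (h : β + σ β + α * σ α = 0) (hα : α ≠ 0) :
    IsNilpotent ((((w0 σ hσ l h : UJ σ (d + 1 + d)) : SpecialLinearGroup (Fin (d + 1 + d)) K) :
      Matrix (Fin (d + 1 + d)) (Fin (d + 1 + d)) K) - 1) ∧
    ((((w0 σ hσ l h : UJ σ (d + 1 + d)) : SpecialLinearGroup (Fin (d + 1 + d)) K) :
      Matrix (Fin (d + 1 + d)) (Fin (d + 1 + d)) K) - 1) ^ (d + 1 + d - 1) ≠ 0 := by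
  obtain ⟨⟨k, hk⟩, h2⟩ := u0_regular σ hσ l hl h hα
  have hPP := Prev_mul_Prev (K := K) (n := d + 1 + d)
  have e1 : (((w0 σ hσ l h : UJ σ (d + 1 + d)) : SpecialLinearGroup (Fin (d + 1 + d)) K) :
      Matrix (Fin (d + 1 + d)) (Fin (d + 1 + d)) K) - 1 =
      Prev K (d + 1 + d) * ((((u0 σ hσ l h : UJ σ (d + 1 + d)) :
      SpecialLinearGroup (Fin (d + 1 + d)) K) :
      Matrix (Fin (d + 1 + d)) (Fin (d + 1 + d)) K) - 1) * Prev K (d + 1 + d) := by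
    rw [w0_coe, Matrix.mul_sub, Matrix.sub_mul, Matrix.mul_one, hPP]
  rw [e1]
  refine ⟨⟨k, by rw [conj_pow_of_invol hPP, hk, Matrix.mul_zero, Matrix.zero_mul]⟩, ?_⟩
  rw [conj_pow_of_invol hPP]
  intro h0
  apply h2
  have h3 := congrArg (fun M => Prev K (d + 1 + d) * M * Prev K (d + 1 + d)) h0
  simp only [Matrix.mul_zero, Matrix.zero_mul] at h3
  rw [← h3]
  have e2 : Prev K (d + 1 + d) * (Prev K (d + 1 + d) * ((((u0 σ hσ l h : UJ σ (d + 1 + d)) :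
      SpecialLinearGroup (Fin (d + 1 + d)) K) :
      Matrix (Fin (d + 1 + d)) (Fin (d + 1 + d)) K) - 1) ^ (d + 1 + d - 1) *
      Prev K (d + 1 + d)) * Prev K (d + 1 + d) =
      (Prev K (d + 1 + d) * Prev K (d + 1 + d)) * ((((u0 σ hσ l h : UJ σ (d + 1 + d)) :
      SpecialLinearGroup (Fin (d + 1 + d)) K) :
      Matrix (Fin (d + 1 + d)) (Fin (d + 1 + d)) K) - 1) ^ (d + 1 + d - 1) *
      (Prev K (d + 1 + d) * Prev K (d + 1 + d)) := by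
    simp only [Matrix.mul_assoc]
  rw [e2, hPP, Matrix.one_mul, Matrix.mul_one]

end Cfsg.Agent.Lib.Helper26.SUReg
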