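import Mathlib
import Cfsg.Agent.Lib.Helper24.HKKDefs

/-!
# S3779 leaf HKB (helper26): class recursion `class(M) ≤ (p-1)·class([M,M]) + 1`
for a `ZMod p`-graded Lie ring with zero `0`-component.
-/

set_option autoImplicit false
set_option linter.unusedVariables false

open Cfsg.Agent.Lib.Helper24.HKK
open scoped Pointwise

namespace Cfsg.Agent.Lib.Helper26.HKKLeaf

section basic

variable {L : Type*} [LieRing L]

theorem lnb_nil (x : L) : lnb x [] = x := rfl

theorem lnb_cons (x y : L) (l : List L) : lnb x (y :: l) = lnb ⁅x, y⁆ l := rfl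

theorem lnb_snoc (x y : L) (l : List L) : lnb x (l ++ [y]) = ⁅lnb x l, y⁆ := by
  simp [lnb, List.foldl_append]

theorem lnb_add (x x' : L) (l : List L) : lnb (x + x') l = lnb x l + lnb x' l := by
  induction l generalizing x x' with
  | nil => rfl
  | cons y l ih => simp only [lnb_cons, add_lie, ih]

theorem lnb_zero (l : List L) : lnb (0 : L) l = 0 := by
  induction l with
  | nil => rfl
  | cons y l ih => simp only [lnb_cons, zero_lie, ih]

theorem lnb_sub (x x' : L) (l : List L) : lnb (x - x') l = lnb x l - lnb x' l := by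
  have h := lnb_add (x - x') x' l
  rw [sub_add_cancel] at h
  rw [h, add_sub_cancel_right]

theorem lnb_mem_of_ideal {I M : AddSubgroup L} (hIM : ∀ x ∈ I, ∀ m ∈ M, ⁅x, m⁆ ∈ I) :
    ∀ (l : List L), (∀ y ∈ l, y ∈ M) → ∀ x ∈ I, lnb x l ∈ I := by
  intro l
  induction l with
  | nil => intro _ x hx; exact hx
  | cons y l ih =>
    intro hl x hx
    rw [lnb_cons]
    exact ih (fun z hz => hl z (List.mem_cons_of_mem _ hz)) _
      (hIM x hx y (hl y List.mem_cons_self))

/-- Jacobi in the form used for swapping two entries. -/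
theorem swap_jacobi (u y z : L) : ⁅⁅u, y⁆, z⁆ - ⁅⁅u, z⁆, y⁆ = ⁅u, ⁅y, z⁆⁆ := by
  rw [lie_lie u y z, ← lie_skew ⁅u, z⁆ y]
  abel

/-- Moving the first entry to the last place changes `lnb` only by an element of `I`. -/
theorem lnb_comm_mem {J I M : AddSubgroup L} (hJM : ∀ x ∈ J, ∀ m ∈ M, ⁅x, m⁆ ∈ J)
    (hIM : ∀ x ∈ I, ∀ m ∈ M, ⁅x, m⁆ ∈ I)
    (hJI : ∀ x ∈ J, ∀ y ∈ M, ∀ y' ∈ M, ⁅x, ⁅y, y'⁆⁆ ∈ I) :
    ∀ (ys : List L), (∀ z ∈ ys, z ∈ M) → ∀ u ∈ J, ∀ y ∈ M,
      lnb ⁅u, y⁆ ys - ⁅lnb u ys, y⁆ ∈ I := by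
  intro ys
  induction ys with
  | nil =>
    intro _ u _ y _
    simp only [lnb_nil, sub_self]
    exact I.zero_mem
  | cons z ys ih =>
    intro hys u hu y hy
    have hz : z ∈ M := hys z List.mem_cons_self
    have hys' : ∀ w ∈ ys, w ∈ M := fun w hw => hys w (List.mem_cons_of_mem _ hw)
    rw [lnb_cons, lnb_cons]
    have h1 := ih hys' ⁅u, z⁆ (hJM u hu z hz) y hy
    have h2 : lnb ⁅⁅u, y⁆, z⁆ ys - lnb ⁅⁅u, z⁆, y⁆ ys ∈ I := by
      rw [← lnb_sub, swap_jacobi]
      exact lnb_mem_of_ideal hIM ys hys' _ (hJI u hu y hy z hz)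
    have e : lnb ⁅⁅u, y⁆, z⁆ ys - ⁅lnb ⁅u, z⁆ ys, y⁆ =
        (lnb ⁅⁅u, y⁆, z⁆ ys - lnb ⁅⁅u, z⁆, y⁆ ys) + (lnb ⁅⁅u, z⁆, y⁆ ys - ⁅lnb ⁅u, z⁆ ys, y⁆) := by
      abel
    rw [e]
    exact I.add_mem h2 h1

end basic

section sums

variable {p : ℕ} [Fact p.Prime]

/-- Subset sums of a list of residues. -/
def sums : List (ZMod p) → Finset (ZMod p)
  | [] => {0}
  | (b :: t) => sums t + {0, b}

theorem sums_nonempty (l : List (ZMod p)) : (sums l).Nonempty := by
  induction l with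
  | nil => exact ⟨0, by simp [sums]⟩
  | cons b t ih =>
    obtain ⟨s, hs⟩ := ih
    exact ⟨s + 0, Finset.add_mem_add hs (by simp)⟩

theorem card_sums (l : List (ZMod p)) (hl : ∀ b ∈ l, b ≠ 0) :
    min p (l.length + 1) ≤ (sums l).card := by
  induction l with
  | nil => simp [sums]
  | cons b t ih =>
    have hb : b ≠ 0 := hl b List.mem_cons_self
    have ht := ih (fun c hc => hl c (List.mem_cons_of_mem _ hc))
    have hcd := ZMod.cauchy_davenport (Fact.out : p.Prime) (sums_nonempty t)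
      (show ({0, b} : Finset (ZMod p)).Nonempty from ⟨0, by simp⟩)
    have h2 : ({0, b} : Finset (ZMod p)).card = 2 := by
      rw [Finset.card_pair (Ne.symm hb)]
    rw [h2] at hcd
    show min p ((b :: t).length + 1) ≤ (sums t + {0, b}).card
    rw [List.length_cons]
    refine le_trans ?_ hcd
    simp only [le_min_iff, min_le_iff] at ht ⊢
    omega

theorem sums_eq_univ (l : List (ZMod p)) (hl : ∀ b ∈ l, b ≠ 0) (hlen : l.length = p - 1) :
    sums l = Finset.univ := by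
  have hp : 0 < p := (Fact.out : p.Prime).pos
  have h := card_sums l hl
  rw [hlen, Nat.sub_add_cancel hp, min_self] at h
  apply Finset.eq_univ_of_card
  rw [ZMod.card]
  apply le_antisymm _ h
  have := Finset.card_le_univ (sums l)
  rwa [ZMod.card] at this

end sums

section graded

variable {p : ℕ} [Fact p.Prime] {L : Type*} [LieRing L] (gr : Grading p L)

theorem eq_zero_of_deg_zero {x : L} (h : gr.π 0 x = x) : x = 0 := by
  rw [← h, gr.zero]

theorem deg_lie {a b : ZMod p} {x y : L} (hx : gr.π a x = x) (hy : gr.π b y = y) :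
    gr.π (a + b) ⁅x, y⁆ = ⁅x, y⁆ := by
  have := gr.lie a b x y
  rwa [hx, hy] at this

/-- The homogeneous case of the key claim. -/
theorem hom_claim {J I M : AddSubgroup L} (hJM : ∀ x ∈ J, ∀ m ∈ M, ⁅x, m⁆ ∈ J)
    (hIM : ∀ x ∈ I, ∀ m ∈ M, ⁅x, m⁆ ∈ I)
    (hJI : ∀ x ∈ J, ∀ y ∈ M, ∀ y' ∈ M, ⁅x, ⁅y, y'⁆⁆ ∈ I) :
    ∀ (l : List (ZMod p × L)), (∀ e ∈ l, e.2 ∈ M ∧ gr.π e.1 e.2 = e.2) →
      ∀ (a : ZMod p) (u : L), u ∈ J → gr.π a u = u → -a ∈ sums (l.map Prod.fst) →
        lnb u (l.map Prod.snd) ∈ I := by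
  intro l
  induction l with
  | nil =>
    intro _ a u _ hau ha
    simp only [List.map_nil, sums, Finset.mem_singleton, neg_eq_zero] at ha
    subst ha
    rw [eq_zero_of_deg_zero gr hau]
    simp only [List.map_nil, lnb_nil]
    exact I.zero_mem
  | cons e l ih =>
    intro hl a u hu hau ha
    obtain ⟨heM, hedeg⟩ := hl e List.mem_cons_self
    have hl' : ∀ e' ∈ l, e'.2 ∈ M ∧ gr.π e'.1 e'.2 = e'.2 :=
      fun e' he' => hl e' (List.mem_cons_of_mem _ he')
    have hysM : ∀ z ∈ l.map Prod.snd, z ∈ M := by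
      intro z hz
      obtain ⟨e', he', rfl⟩ := List.mem_map.1 hz
      exact (hl' e' he').1
    simp only [List.map_cons, sums] at ha
    obtain ⟨s, hs, c, hc, hsc⟩ := Finset.mem_add.1 ha
    simp only [List.map_cons, lnb_cons]
    simp only [Finset.mem_insert, Finset.mem_singleton] at hc
    rcases hc with rfl | rfl
    · -- skip `e`
      rw [add_zero] at hsc
      subst hsc
      have h1 := ih hl' a u hu hau hs
      have h2 := lnb_comm_mem hJM hIM hJI (l.map Prod.snd) hysM u hu e.2 heM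
      have h3 : ⁅lnb u (l.map Prod.snd), e.2⁆ ∈ I := hIM _ h1 _ heM
      have := I.add_mem h2 h3
      rwa [sub_add_cancel] at this
    · -- use `e`
      have hs' : -(a + e.1) ∈ sums (l.map Prod.fst) := by
        have : -(a + e.1) = s := by
          rw [neg_add, ← hsc]; abel
        rw [this]; exact hs
      exact ih hl' (a + e.1) ⁅u, e.2⁆ (hJM u hu _ heM) (deg_lie gr hau hedeg) hs'

end graded


section brk

variable {L : Type*} [LieRing L]

theorem lie_mem_brk {X Y : AddSubgroup L} {x y : L} (hx : x ∈ X) (hy : y ∈ Y) :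
    ⁅x, y⁆ ∈ brk X Y :=
  AddSubgroup.subset_closure ⟨x, hx, y, hy, rfl⟩

theorem brk_le {X Y K : AddSubgroup L} (h : ∀ x ∈ X, ∀ y ∈ Y, ⁅x, y⁆ ∈ K) : brk X Y ≤ K := by
  unfold brk
  rw [AddSubgroup.closure_le]
  rintro z ⟨x, hx, y, hy, rfl⟩
  exact h x hx y hy

theorem brk_mono {X X' Y Y' : AddSubgroup L} (hX : X ≤ X') (hY : Y ≤ Y') :
    brk X Y ≤ brk X' Y' :=
  brk_le fun x hx y hy => lie_mem_brk (hX hx) (hY hy)

/-- If `⁅x, m⁆ ∈ K` for all generators `x` of `brk X Y` then for all elements. -/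
theorem lie_mem_of_brk {X Y K : AddSubgroup L} (m : L)
    (h : ∀ x ∈ X, ∀ y ∈ Y, ⁅⁅x, y⁆, m⁆ ∈ K) : ∀ z ∈ brk X Y, ⁅z, m⁆ ∈ K := by
  intro z hz
  unfold brk at hz
  induction hz using AddSubgroup.closure_induction with
  | mem z hz =>
    obtain ⟨x, hx, y, hy, rfl⟩ := hz
    exact h x hx y hy
  | zero => rw [zero_lie]; exact K.zero_mem
  | add a b _ _ ha hb => rw [add_lie]; exact K.add_mem ha hb
  | neg a _ ha => rw [neg_lie]; exact K.neg_mem ha

end brk

section graded2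

variable {p : ℕ} [Fact p.Prime] {L : Type*} [LieRing L] (gr : Grading p L)

/-- Stability under the projections. -/
def IsGr (A : AddSubgroup L) : Prop := ∀ k, ∀ x ∈ A, gr.π k x ∈ A

theorem pi_lie_mem {A B : AddSubgroup L} (hA : IsGr gr A) (hB : IsGr gr B) (k : ZMod p)
    {a b : L} (ha : a ∈ A) (hb : b ∈ B) : gr.π k ⁅a, b⁆ ∈ brk A B := by
  have e : ⁅a, b⁆ = ∑ i, ∑ j, ⁅gr.π i a, gr.π j b⁆ := by
    conv_lhs => rw [← gr.sum a, ← gr.sum b]
    rw [sum_lie]
    simp_rw [lie_sum]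
  rw [e, map_sum]
  refine AddSubgroup.sum_mem _ fun i _ => ?_
  rw [map_sum]
  refine AddSubgroup.sum_mem _ fun j _ => ?_
  by_cases hk : k = i + j
  · subst hk
    rw [gr.lie]
    exact lie_mem_brk (hA i a ha) (hB j b hb)
  · rw [← gr.lie i j a b, gr.orth k (i + j) hk]
    exact (brk A B).zero_mem

theorem brk_isGr {A B : AddSubgroup L} (hA : IsGr gr A) (hB : IsGr gr B) :
    IsGr gr (brk A B) := by
  intro k z hz
  unfold brk at hz
  induction hz using AddSubgroup.closure_induction with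
  | mem z hz =>
    obtain ⟨x, hx, y, hy, rfl⟩ := hz
    exact pi_lie_mem gr hA hB k hx hy
  | zero => rw [map_zero]; exact (brk A B).zero_mem
  | add a b _ _ ha hb => rw [map_add]; exact (brk A B).add_mem ha hb
  | neg a _ ha => rw [map_neg]; exact (brk A B).neg_mem ha

variable {M : AddSubgroup L}

theorem lcs_brk_isGr (hM : IsGradedSubring gr M) : ∀ j, IsGr gr (lcs (brk M M) j)
  | 0 => brk_isGr gr hM.1 hM.1
  | (j + 1) => brk_isGr gr (lcs_brk_isGr hM j) (brk_isGr gr hM.1 hM.1)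

theorem brk_self_le (hM : IsGradedSubring gr M) : brk M M ≤ M :=
  brk_le fun x hx y hy => hM.2 x hx y hy

theorem lcs_brk_ideal (hM : IsGradedSubring gr M) :
    ∀ j, ∀ x ∈ lcs (brk M M) j, ∀ m ∈ M, ⁅x, m⁆ ∈ lcs (brk M M) j := by
  intro j
  induction j with
  | zero =>
    intro x hx m hm
    exact lie_mem_brk (brk_self_le gr hM hx) hm
  | succ j ih =>
    intro x hx m hm
    refine lie_mem_of_brk (K := lcs (brk M M) (j + 1)) m ?_ x hx
    intro a ha b hb
    have e : ⁅⁅a, b⁆, m⁆ = ⁅⁅a, m⁆, b⁆ + ⁅a, ⁅b, m⁆⁆ := by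
      rw [← swap_jacobi a b m]; abel
    rw [e]
    refine AddSubgroup.add_mem _ ?_ ?_
    · exact lie_mem_brk (ih a ha m hm) hb
    · exact lie_mem_brk ha (lie_mem_brk (brk_self_le gr hM hb) hm)

/-- Homogeneous lists. -/
def HomList (M : AddSubgroup L) (l : List (ZMod p × L)) : Prop :=
  ∀ e ∈ l, e.2 ∈ M ∧ gr.π e.1 e.2 = e.2 ∧ e.1 ≠ 0

/-- Span of the left-normed brackets of a homogeneous element of `J` with `t` homogeneous
elements of `M` of nonzero degrees. -/
def SpanT (J M : AddSubgroup L) (t : ℕ) : AddSubgroup L :=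
  AddSubgroup.closure {z | ∃ (a : ZMod p) (u : L) (l : List (ZMod p × L)), u ∈ J ∧ gr.π a u = u ∧
    l.length = t ∧ HomList gr M l ∧ z = lnb u (l.map Prod.snd)}

theorem le_spanT_zero {X J : AddSubgroup L} (hXJ : X ≤ J) (hJ : IsGr gr J) :
    X ≤ SpanT gr J M 0 := by
  intro x hx
  rw [← gr.sum x]
  refine AddSubgroup.sum_mem _ fun a _ => ?_
  refine AddSubgroup.subset_closure ⟨a, gr.π a x, [], hJ a x (hXJ hx), gr.idem a x, rfl, ?_, rfl⟩
  intro e he
  simp at he

theorem brk_spanT_le (hM : IsGradedSubring gr M) (J : AddSubgroup L) (t : ℕ) :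
    brk (SpanT gr J M t) M ≤ SpanT gr J M (t + 1) := by
  apply brk_le
  intro z hz y hy
  unfold SpanT at hz
  induction hz using AddSubgroup.closure_induction with
  | mem z hz =>
    obtain ⟨a, u, l, hu, hau, hlen, hl, rfl⟩ := hz
    have e : ⁅lnb u (l.map Prod.snd), y⁆ = ∑ k, ⁅lnb u (l.map Prod.snd), gr.π k y⁆ := by
      conv_lhs => rw [← gr.sum y]
      rw [lie_sum]
    rw [e]
    refine AddSubgroup.sum_mem _ fun k _ => ?_
    by_cases hk : k = 0
    · subst hk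
      rw [gr.zero, lie_zero]
      exact AddSubgroup.zero_mem _
    · refine AddSubgroup.subset_closure
        ⟨a, u, l ++ [(k, gr.π k y)], hu, hau, by simp [hlen], ?_, ?_⟩
      · intro e' he'
        rcases List.mem_append.1 he' with h | h
        · exact hl e' h
        · simp only [List.mem_singleton] at h
          subst h
          exact ⟨hM.1 k y hy, gr.idem k y, hk⟩
      · rw [List.map_append, List.map_cons, List.map_nil, lnb_snoc]
  | zero => rw [zero_lie]; exact AddSubgroup.zero_mem _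
  | add a b _ _ ha hb => rw [add_lie]; exact AddSubgroup.add_mem _ ha hb
  | neg a _ ha => rw [neg_lie]; exact AddSubgroup.neg_mem _ ha

theorem spanT_le {J I : AddSubgroup L} (hJM : ∀ x ∈ J, ∀ m ∈ M, ⁅x, m⁆ ∈ J)
    (hIM : ∀ x ∈ I, ∀ m ∈ M, ⁅x, m⁆ ∈ I)
    (hJI : ∀ x ∈ J, ∀ y ∈ M, ∀ y' ∈ M, ⁅x, ⁅y, y'⁆⁆ ∈ I) :
    SpanT gr J M (p - 1) ≤ I := by
  unfold SpanT
  rw [AddSubgroup.closure_le]
  rintro z ⟨a, u, l, hu, hau, hlen, hl, rfl⟩
  have hs : sums (l.map Prod.fst) = Finset.univ := by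
    apply sums_eq_univ
    · intro b hb
      obtain ⟨e, he, rfl⟩ := List.mem_map.1 hb
      exact (hl e he).2.2
    · rw [List.length_map, hlen]
  refine hom_claim gr hJM hIM hJI l (fun e he => ⟨(hl e he).1, (hl e he).2.1⟩) a u hu hau ?_
  rw [hs]
  exact Finset.mem_univ _

theorem lcs_add_le_spanT (hM : IsGradedSubring gr M) {J : AddSubgroup L} (hJ : IsGr gr J) (s : ℕ)
    (hs : lcs M s ≤ J) : ∀ t, lcs M (s + t) ≤ SpanT gr J M t
  | 0 => le_spanT_zero gr hs hJ
  | (t + 1) => by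
    show brk (lcs M (s + t)) M ≤ _
    exact (brk_mono (lcs_add_le_spanT hM hJ s hs t) le_rfl).trans (brk_spanT_le gr hM J t)

theorem lcs_le_lcs_brk (hM : IsGradedSubring gr M) :
    ∀ j, lcs M (1 + (p - 1) * j) ≤ lcs (brk M M) j := by
  intro j
  induction j with
  | zero => exact le_rfl
  | succ j ih =>
    have e : 1 + (p - 1) * (j + 1) = (1 + (p - 1) * j) + (p - 1) := by ring
    rw [e]
    refine (lcs_add_le_spanT gr hM (lcs_brk_isGr gr hM j) _ ih (p - 1)).trans ?_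
    apply spanT_le gr (lcs_brk_ideal gr hM j) (lcs_brk_ideal gr hM (j + 1))
    intro x hx y hy y' hy'
    exact lie_mem_brk hx (lie_mem_brk hy hy')

end graded2

/-- **Leaf HKB** of S3779: `class(M) ≤ (p-1)·class([M,M]) + 1`. -/
theorem lcs_of_lcs_brk {p : ℕ} [Fact p.Prime] {L : Type*} [LieRing L] (gr : Grading p L)
    (M : AddSubgroup L) (hM : IsGradedSubring gr M) (c : ℕ) (h : lcs (brk M M) c = ⊥) :
    lcs M ((p - 1) * c + 1) = ⊥ := by
  rw [eq_bot_iff, ← h, Nat.add_comm]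
  exact lcs_le_lcs_brk gr hM c

end Cfsg.Agent.Lib.Helper26.HKKLeaf
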