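import Mathlib
import Cfsg.Agent.Lib.Helper5.UOGDefs
import Cfsg.Agent.Lib.Helper5.UOGDefs2
import Cfsg.Agent.Lib.Helper5.UOGDefs3
import Cfsg.Agent.Lib.Helper5.UOGBase
import Cfsg.Agent.Lib.Helper22.UOGC
import Cfsg.Agent.Lib.Helper10.UOGT

/-!
helper26: S5681 / S5709 part (G), block TR/X of `notes/S5681_G_leaves.lean` (helper5's market): core forms of
`transA`, `transB` (inputs `exists_actA/B` as hypotheses) and the spreading lemmas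
`P1'_all`, `P2_all` in core form (inputs `transA`, `transB` as hypotheses).
-/

set_option autoImplicit false
set_option linter.unusedSectionVars false
set_option linter.unusedVariables false

namespace Cfsg.Agent.Lib.Helper26.UOGLeaf
open Matrix QuadraticMap Module
open Cfsg.Agent.Lib.Helper25.Tens Cfsg.Agent.Lib.Helper2.SOT Cfsg.Agent.Lib.Helper7.OTT
  Cfsg.Agent.Lib.Helper25.CD Cfsg.Agent.Lib.Helper5.NSMax Cfsg.Agent.Lib.Helper5.PairMax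
  Cfsg.Agent.Lib.Helper5.TSMax Cfsg.Agent.Lib.Helper5.NDMax Cfsg.Agent.Lib.Helper5.UOG
open scoped Kronecker

variable {F : Type*} [Field F] [Fintype F] {a b : ℕ} {G₁ : Matrix (Fin a) (Fin a) F}
  {G₂ : Matrix (Fin b) (Fin b) F} {M : Subgroup (GL (Idx a b) F)}

/-- one-sided transitivity on singular points, generic form: from a singular `s` opposite to both `x₀` and `x`
we get the generalised Siegel map `α = egen s (w' - w)` moving `⟨x₀⟩` to `⟨x⟩`. -/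
theorem trans_gen {n : ℕ} {G : Matrix (Fin n) (Fin n) F} (hG : Gᵀ = G) (hdet : G.det ≠ 0)
    (h2 : (2 : F) ≠ 0) (hn : 3 ≤ n) {x₀ x : Fin n → F} (hx₀ : Sg G x₀) (hx : Sg G x) :
    ∃ s v : Fin n → F, fB G s s = 0 ∧ fB G s v = 0 ∧
      ∃ α : (Fin n → F) ≃ₗ[F] (Fin n → F), (∀ p, α p = egen (QG G) s v p) ∧
        ∃ t : F, t ≠ 0 ∧ α x₀ = t • x ∧ ∀ p q, fB G (α p) (α q) = fB G p q := by
  have h2i : (2 : F)⁻¹ ≠ 0 := inv_ne_zero h2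
  have hQx₀ : QG G x₀ = 0 := by rw [Cfsg.Agent.Lib.Helper5.UOGLeaf.QG_eq_fB, hx₀.2, mul_zero]
  have hQx : QG G x = 0 := by rw [Cfsg.Agent.Lib.Helper5.UOGLeaf.QG_eq_fB, hx.2, mul_zero]
  obtain ⟨s, hs, hs0, hs1⟩ := Cfsg.Agent.Lib.Helper10.UOGLeaf.exists_sing_nonperp_two
    (Cfsg.Agent.Lib.Helper5.UOGLeaf.nd_QG hG hdet h2) h2 (by rw [Fintype.card_fin]; exact hn)
    hx₀.1 hx.1 hQx₀ hQx
  set c₀ := polar (QG G) s x₀ with hc₀
  set c₁ := polar (QG G) s x with hc₁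
  set w : Fin n → F := c₀⁻¹ • x₀ with hw
  set w' : Fin n → F := c₁⁻¹ • x with hw'
  have hQw : QG G w = 0 := by rw [hw, QuadraticMap.map_smul, hQx₀, smul_zero]
  have hQw' : QG G w' = 0 := by rw [hw', QuadraticMap.map_smul, hQx, smul_zero]
  have hp1 : polar (QG G) s w = 1 := by
    rw [hw, polar_smul_right, ← hc₀, smul_eq_mul, inv_mul_cancel₀ hs0]
  have hp2 : polar (QG G) s w' = 1 := by
    rw [hw', polar_smul_right, ← hc₁, smul_eq_mul, inv_mul_cancel₀ hs1]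
  have hmove := Cfsg.Agent.Lib.Helper22.UOGLeaf.egen_move hs hQw hQw' hp1 hp2
  have hsv : polar (QG G) s (w' - w) = 0 := by rw [polar_sub_right, hp1, hp2, sub_self]
  have hss : fB G s s = 0 := by
    have := hs
    rw [Cfsg.Agent.Lib.Helper5.UOGLeaf.QG_eq_fB] at this
    rcases mul_eq_zero.1 this with h | h
    · exact absurd h h2i
    · exact h
  have hsv' : fB G s (w' - w) = 0 := by
    rw [← Cfsg.Agent.Lib.Helper5.UOGLeaf.polar_QG_fB hG h2]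
    exact hsv
  refine ⟨s, w' - w, hss, hsv', Cfsg.Agent.Lib.Helper22.UOGLeaf.egenE (QG G) hs hsv,
    fun p => rfl, c₀ * c₁⁻¹, mul_ne_zero hs0 (inv_ne_zero hs1), ?_, ?_⟩
  · have hx₀w : x₀ = c₀ • w := by rw [hw, smul_smul, mul_inv_cancel₀ hs0, one_smul]
    conv_lhs => rw [hx₀w]
    rw [map_smul, Cfsg.Agent.Lib.Helper22.UOGLeaf.egenE_apply, hmove, hw', smul_smul]
  · intro p q
    rw [← Cfsg.Agent.Lib.Helper5.UOGLeaf.polar_QG_fB hG h2, ← Cfsg.Agent.Lib.Helper5.UOGLeaf.polar_QG_fB hG h2]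
    exact polar_of_iso (QG G)
      (g := Cfsg.Agent.Lib.Helper22.UOGLeaf.egenE (QG G) hs hsv)
      (fun x => Cfsg.Agent.Lib.Helper22.UOGLeaf.Q_egen (QG G) hs hsv x) p q

/-- (TRA), core form -/
theorem transA_core (h : GCtx G₁ G₂ M) {x₀ x : Fin a → F} (hx₀ : Sg G₁ x₀) (hx : Sg G₁ x)
    (hE4 : ∀ {s v : Fin a → F}, fB G₁ s s = 0 → fB G₁ s v = 0 →
      ∃ g ∈ MI (QV G₁ G₂) M, ∀ (x : Fin a → F) (y : Fin b → F),
        toOG (QV G₁ G₂) g (pt x y) = pt (egen (QG G₁) s v x) y) :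
    ∃ g ∈ MI (QV G₁ G₂) M, ∃ α : (Fin a → F) ≃ₗ[F] (Fin a → F), ∃ t : F, t ≠ 0 ∧ α x₀ = t • x ∧
      (∀ p q, fB G₁ (α p) (α q) = fB G₁ p q) ∧
      ∀ (p : Fin a → F) (y : Fin b → F), toOG (QV G₁ G₂) g (pt p y) = pt (α p) y := by
  obtain ⟨s, v, hss, hsv, α, hα, t, ht, hαx, hiso⟩ := trans_gen h.symA h.detA h.two h.ha hx₀ hx
  obtain ⟨g, hg, hgact⟩ := hE4 hss hsv
  refine ⟨g, hg, α, t, ht, hαx, hiso, fun p y => ?_⟩
  rw [hgact, hα]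

/-- (TRB), core form -/
theorem transB_core (h : GCtx G₁ G₂ M) {y₀ y : Fin b → F} (hy₀ : Sg G₂ y₀) (hy : Sg G₂ y)
    (hE5 : ∀ {s v : Fin b → F}, fB G₂ s s = 0 → fB G₂ s v = 0 →
      ∃ g ∈ MI (QV G₁ G₂) M, ∀ (x : Fin a → F) (y : Fin b → F),
        toOG (QV G₁ G₂) g (pt x y) = pt x (egen (QG G₂) s v y)) :
    ∃ g ∈ MI (QV G₁ G₂) M, ∃ β : (Fin b → F) ≃ₗ[F] (Fin b → F), ∃ t : F, t ≠ 0 ∧ β y₀ = t • y ∧
      (∀ p q, fB G₂ (β p) (β q) = fB G₂ p q) ∧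
      ∀ (x : Fin a → F) (p : Fin b → F), toOG (QV G₁ G₂) g (pt x p) = pt x (β p) := by
  obtain ⟨s, v, hss, hsv, β, hβ, t, ht, hβy, hiso⟩ := trans_gen h.symB h.detB h.two (le_trans (by norm_num) h.hb) hy₀ hy
  obtain ⟨g, hg, hgact⟩ := hE5 hss hsv
  refine ⟨g, hg, β, t, ht, hβy, hiso, fun x p => ?_⟩
  rw [hgact, hβ]

/-- the statement of (TRA) for a fixed pair -/
def TrA (G₁ : Matrix (Fin a) (Fin a) F) (G₂ : Matrix (Fin b) (Fin b) F)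
    (M : Subgroup (GL (Idx a b) F)) (x₀ x : Fin a → F) : Prop :=
  ∃ g ∈ MI (QV G₁ G₂) M, ∃ α : (Fin a → F) ≃ₗ[F] (Fin a → F), ∃ t : F, t ≠ 0 ∧ α x₀ = t • x ∧
    (∀ p q, fB G₁ (α p) (α q) = fB G₁ p q) ∧
    ∀ (p : Fin a → F) (y : Fin b → F), toOG (QV G₁ G₂) g (pt p y) = pt (α p) y

/-- the statement of (TRB) for a fixed pair -/
def TrB (G₁ : Matrix (Fin a) (Fin a) F) (G₂ : Matrix (Fin b) (Fin b) F)
    (M : Subgroup (GL (Idx a b) F)) (y₀ y : Fin b → F) : Prop :=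
  ∃ g ∈ MI (QV G₁ G₂) M, ∃ β : (Fin b → F) ≃ₗ[F] (Fin b → F), ∃ t : F, t ≠ 0 ∧ β y₀ = t • y ∧
    (∀ p q, fB G₂ (β p) (β q) = fB G₂ p q) ∧
    ∀ (x : Fin a → F) (p : Fin b → F), toOG (QV G₁ G₂) g (pt x p) = pt x (β p)

/-- (X1) spreading `P1'`, core form -/
theorem P1'_all_core {x₀ x : Fin a → F} {y₀ y : Fin b → F}
    (hA : TrA G₁ G₂ M x₀ x) (hB : TrB G₁ G₂ M y₀ y) (h0 : P1' G₁ G₂ M x₀ y₀) :
    P1' G₁ G₂ M x y := by
  obtain ⟨gA, hgA, α, t, ht, hαx, hαiso, hαact⟩ := hA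
  obtain ⟨gB, hgB, β, t', ht', hβy, hβiso, hβact⟩ := hB
  intro z hz
  set z₀ := β.symm z with hz₀
  have hβz₀ : β z₀ = z := β.apply_symm_apply z
  have hperp : fB G₂ y₀ z₀ = 0 := by
    rw [← hβiso, hβy, hβz₀, fB_smul_left, hz, mul_zero]
  have h1 : InA (QV G₁ G₂) (MI (QV G₁ G₂) M) (pt x₀ y₀) (pt x₀ z₀) := h0 z₀ hperp
  have h2 := InA.conj hgB h1
  rw [hβact, hβact, hβy, hβz₀] at h2
  have h3 := InA.conj hgA h2
  rw [hαact, hαact, hαx, pt_smul_left, pt_smul_right, smul_smul, pt_smul_left] at h3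
  have h4 := Cfsg.Agent.Lib.Helper22.UOGLeaf.InA_of_smul_left (mul_ne_zero ht ht') h3
  have h5 := InA.smul h4 t⁻¹
  rwa [smul_smul, inv_mul_cancel₀ ht, one_smul] at h5

/-- (X2) spreading `P2`, core form -/
theorem P2_all_core {x₀ x : Fin a → F} {y₀ y : Fin b → F}
    (hA : TrA G₁ G₂ M x₀ x) (hB : TrB G₁ G₂ M y₀ y) (h0 : P2 G₁ G₂ M x₀ y₀) :
    P2 G₁ G₂ M x y := by
  obtain ⟨gA, hgA, α, t, ht, hαx, hαiso, hαact⟩ := hA
  obtain ⟨gB, hgB, β, t', ht', hβy, hβiso, hβact⟩ := hB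
  intro x'
  set x'₀ := α.symm x' with hx'₀
  have hαx'₀ : α x'₀ = x' := α.apply_symm_apply x'
  have h1 : InA (QV G₁ G₂) (MI (QV G₁ G₂) M) (pt x₀ y₀) (pt x'₀ y₀) := h0 x'₀
  have h2 := InA.conj hgA h1
  rw [hαact, hαact, hαx, hαx'₀] at h2
  have h3 := InA.conj hgB h2
  rw [hβact, hβact, hβy, pt_smul_left, pt_smul_right, smul_smul, pt_smul_right] at h3
  have h4 := Cfsg.Agent.Lib.Helper22.UOGLeaf.InA_of_smul_left (mul_ne_zero ht ht') h3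
  have h5 := InA.smul h4 t'⁻¹
  rwa [smul_smul, inv_mul_cancel₀ ht', one_smul] at h5

end Cfsg.Agent.Lib.Helper26.UOGLeaf
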