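import Mathlib
import Cfsg.Agent.Lib.Helper5.UOGDefs
import Cfsg.Agent.Lib.Helper5.UOGDefs2
import Cfsg.Agent.Lib.Helper5.UOGDefs3
import Cfsg.Agent.Lib.Helper12.UOGRE
import Cfsg.Agent.Lib.Helper26.UOGTR

/-!
helper26: S5681 / S5709 part (G), block TR/X of `notes/S5681_G_leaves.lean` (helper5's market), EXACT signatures:
`transA`, `transB`, `P1'_all`, `P2_all`.
-/

set_option autoImplicit false
set_option linter.unusedSectionVars false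
set_option linter.unusedVariables false

namespace Cfsg.Agent.Lib.Helper26.UOGLeaf
open Matrix QuadraticMap Module
open Cfsg.Agent.Lib.Helper25.Tens Cfsg.Agent.Lib.Helper2.SOT Cfsg.Agent.Lib.Helper7.OTT
  Cfsg.Agent.Lib.Helper25.CD Cfsg.Agent.Lib.Helper5.NSMax Cfsg.Agent.Lib.Helper5.PairMax
  Cfsg.Agent.Lib.Helper5.TSMax Cfsg.Agent.Lib.Helper5.NDMax Cfsg.Agent.Lib.Helper5.UOG
open scoped Kronecker

variable {F : Type*} [Field F] [Fintype F] {a b : ℕ} {G₁ : Matrix (Fin a) (Fin a) F}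
  {G₂ : Matrix (Fin b) (Fin b) F} {M : Subgroup (GL (Idx a b) F)}

/-- (TRA) `H` is transitive on the singular points of `A`: one `egen`. -/
theorem transA (h : GCtx G₁ G₂ M) {x₀ x : Fin a → F} (hx₀ : Sg G₁ x₀) (hx : Sg G₁ x) :
    ∃ g ∈ MI (QV G₁ G₂) M, ∃ α : (Fin a → F) ≃ₗ[F] (Fin a → F), ∃ t : F, t ≠ 0 ∧ α x₀ = t • x ∧
      (∀ p q, fB G₁ (α p) (α q) = fB G₁ p q) ∧
      ∀ (p : Fin a → F) (y : Fin b → F), toOG (QV G₁ G₂) g (pt p y) = pt (α p) y :=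
  transA_core h hx₀ hx (fun hs hsv => Cfsg.Agent.Lib.Helper12.UOGLeaf.exists_actA h hs hsv)

/-- (TRB) the same on the `B` side -/
theorem transB (h : GCtx G₁ G₂ M) {y₀ y : Fin b → F} (hy₀ : Sg G₂ y₀) (hy : Sg G₂ y) :
    ∃ g ∈ MI (QV G₁ G₂) M, ∃ β : (Fin b → F) ≃ₗ[F] (Fin b → F), ∃ t : F, t ≠ 0 ∧ β y₀ = t • y ∧
      (∀ p q, fB G₂ (β p) (β q) = fB G₂ p q) ∧
      ∀ (x : Fin a → F) (p : Fin b → F), toOG (QV G₁ G₂) g (pt x p) = pt x (β p) :=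
  transB_core h hy₀ hy (fun hs hsv => Cfsg.Agent.Lib.Helper12.UOGLeaf.exists_actB h hs hsv)

/-- (X1) spreading `P1'` by `transA`, `transB` -/
theorem P1'_all (h : GCtx G₁ G₂ M) {x₀ : Fin a → F} {y₀ : Fin b → F} (hx₀ : Sg G₁ x₀)
    (hy₀ : Sg G₂ y₀) (h0 : P1' G₁ G₂ M x₀ y₀) :
    ∀ x y, Sg G₁ x → Sg G₂ y → P1' G₁ G₂ M x y :=
  fun x y hx hy => P1'_all_core (transA h hx₀ hx) (transB h hy₀ hy) h0

/-- (X2) spreading `P2` -/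
theorem P2_all (h : GCtx G₁ G₂ M) {x₀ : Fin a → F} {y₀ : Fin b → F} (hx₀ : Sg G₁ x₀)
    (hy₀ : Sg G₂ y₀) (h0 : P2 G₁ G₂ M x₀ y₀) :
    ∀ x y, Sg G₁ x → Sg G₂ y → P2 G₁ G₂ M x y :=
  fun x y hx hy => P2_all_core (transA h hx₀ hx) (transB h hy₀ hy) h0

end Cfsg.Agent.Lib.Helper26.UOGLeaf
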