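import Cfsg.Agent.Lib.Helper26.AUTQDefs
import Cfsg.Agent.Lib.Helper24.PSolvable
import Cfsg.Agent.Lib.Helper12.AUTQS1
import Cfsg.Agent.Lib.Helper12.AUTQB4
import Cfsg.Agent.Lib.Helper20.AUTQBQ
import Cfsg.Agent.Lib.Helper20.AUTQB2
import Cfsg.Agent.Lib.Helper9.AUTQB1
import Cfsg.Agent.Lib.Helper9.AUTQB3A

/-!
helper26: S4411, LEMMA B (`lemmaB`): in a `{p,q}`-group `X` (`{p,q} ≠ {2,3}`) with Sylow `p`-subgroup `R` and normal
`p`-subgroup `H`, if the `q`-elements of `N_X(T)` centralize `T` for `T` characteristic in `R`, and centralize `H` for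
`H < T` normal in `R`, then all `q`-elements of `X` centralize `H`.  Induction on `|X|` through `X ⧸ Ω₁(Z(R))`
(leaves B1, B2, B3A, BQ, B4, S1 of `notes/S4411_leaves.lean`).
-/

set_option autoImplicit false

namespace Cfsg.Agent.Lib.Helper26.AUTQBM

open Cfsg Cfsg.Agent.Lib.Helper26.AUTQ

universe u

/-- a divisor of `p^a q^b` is of the same shape -/
theorem dvd_pq_pow {p q : ℕ} (hp : p.Prime) (hq : q.Prime) {a b d : ℕ} (hd : d ∣ p ^ a * q ^ b) :
    ∃ a' b' : ℕ, d = p ^ a' * q ^ b' := by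
  obtain ⟨d₁, d₂, h1, h2, rfl⟩ := (Nat.dvd_mul).mp hd
  obtain ⟨a', -, rfl⟩ := (Nat.dvd_prime_pow hp).mp h1
  obtain ⟨b', -, rfl⟩ := (Nat.dvd_prime_pow hq).mp h2
  exact ⟨a', b', rfl⟩

/-- elements of `Ω₁(Z(R))` have `p`-th power one and lie in `Z(R)` -/
theorem omegaOne_center_props {X : Type u} [Group X] (p : ℕ) (R : Subgroup X) :
    ∀ z ∈ Cfsg.omegaOne p (R ⊓ Subgroup.centralizer (R : Set X)),
      z ∈ R ⊓ Subgroup.centralizer (R : Set X) ∧ z ^ p = 1 := by
  intro z hz
  unfold Cfsg.omegaOne at hz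
  induction hz using Subgroup.closure_induction with
  | mem x hx => exact hx
  | one => exact ⟨Subgroup.one_mem _, one_pow _⟩
  | mul x y _ _ hx hy =>
    refine ⟨Subgroup.mul_mem _ hx.1 hy.1, ?_⟩
    have hc : Commute x y := by
      have := (Subgroup.mem_centralizer_iff.mp (Subgroup.mem_inf.mp hy.1).2) x (Subgroup.mem_inf.mp hx.1).1
      exact this
    rw [hc.mul_pow, hx.2, hy.2, one_mul]
  | inv x _ hx =>
    exact ⟨Subgroup.inv_mem _ hx.1, by rw [inv_pow, hx.2, inv_one]⟩

theorem omegaOne_center_ne_bot {X : Type u} [Group X] [Finite X] (p : ℕ) [hp : Fact p.Prime] (R : Subgroup X)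
    (hR : IsPGroup p R) (hR1 : R ≠ ⊥) :
    Cfsg.omegaOne p (R ⊓ Subgroup.centralizer (R : Set X)) ≠ ⊥ := by
  have : Nontrivial R := (Subgroup.nontrivial_iff_ne_bot R).mpr hR1
  have : Nontrivial (Subgroup.center R) := hR.center_nontrivial
  have hpc : p ∣ Nat.card (Subgroup.center R) := by
    obtain ⟨n, hn⟩ := (hR.to_subgroup (Subgroup.center R)).exists_card_eq
    have hn0 : n ≠ 0 := by
      rintro rfl
      rw [pow_zero] at hn
      have : Subsingleton (Subgroup.center R) := (Nat.card_eq_one_iff_unique.mp hn).1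
      exact not_subsingleton _ this
    rw [hn]
    exact dvd_pow_self p hn0
  obtain ⟨x, hx⟩ := exists_prime_orderOf_dvd_card' p hpc
  intro hbot
  have hxm : ((x : R) : X) ∈ Cfsg.omegaOne p (R ⊓ Subgroup.centralizer (R : Set X)) := by
    apply Subgroup.subset_closure
    refine ⟨Subgroup.mem_inf.mpr ⟨(x : R).2, ?_⟩, ?_⟩
    · rw [Subgroup.mem_centralizer_iff]
      intro r hr
      have := (Subgroup.mem_center_iff.mp x.2) ⟨r, hr⟩
      exact congrArg Subtype.val this
    · have : x ^ p = 1 := by rw [← hx]; exact pow_orderOf_eq_one x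
      have h2 : ((x ^ p : Subgroup.center R) : R) = 1 := by rw [this]; rfl
      have h3 : (((x : R) ^ p : R) : X) = 1 := by
        have : ((x : R) ^ p : R) = 1 := by simpa using h2
        rw [this]; rfl
      simpa using h3
  rw [hbot, Subgroup.mem_bot] at hxm
  have : x = 1 := by
    apply Subtype.ext; apply Subtype.ext; simpa using hxm
  rw [this, orderOf_one] at hx
  exact hp.out.one_lt.ne hx

theorem lemmaB_aux (p q : ℕ) [Fact p.Prime] [Fact q.Prime] (hpq : p ≠ q)
    (h23 : ¬ ((p = 2 ∧ q = 3) ∨ (p = 3 ∧ q = 2))) :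
    ∀ (n : ℕ) (X : Type u) [Group X] [Finite X], Nat.card X = n →
    ∀ (a b : ℕ), Nat.card X = p ^ a * q ^ b →
    ∀ (R : Sylow p X) (H : Subgroup X) [H.Normal], IsPGroup p H →
    (∀ T : Subgroup X, T ≤ R → (T.subgroupOf (R : Subgroup X)).Characteristic →
        ∀ y ∈ Subgroup.normalizer (T : Set X), QElt q y → y ∈ Subgroup.centralizer (T : Set X)) →
    (∀ T : Subgroup X, H < T → T ≤ R → (R : Subgroup X) ≤ Subgroup.normalizer (T : Set X) →
        ∀ y ∈ Subgroup.normalizer (T : Set X), QElt q y → y ∈ Subgroup.centralizer (H : Set X)) →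
    ∀ y : X, QElt q y → y ∈ Subgroup.centralizer (H : Set X) := by
  intro n
  induction n using Nat.strong_induction_on with
  | _ n ih =>
  intro X _ _ hn a b hcard R H _ hH hF1 hF2
  have hHR : H ≤ (R : Subgroup X) := Cfsg.Agent.Lib.Helper24.normal_pgroup_le_sylow H hH R
  by_cases hCR : (R : Subgroup X) ⊓ Subgroup.centralizer (H : Set X) ≤ H
  · -- main case
    by_cases hH1 : H = ⊥
    · intro y _
      rw [hH1, Subgroup.mem_centralizer_iff]
      intro h hh
      rw [SetLike.mem_coe, Subgroup.mem_bot] at hh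
      rw [hh, one_mul, mul_one]
    set Z : Subgroup X :=
      Cfsg.omegaOne p ((R : Subgroup X) ⊓ Subgroup.centralizer ((R : Subgroup X) : Set X)) with hZdef
    obtain ⟨hJchar, hZchar⟩ := Cfsg.Agent.Lib.Helper9.AUTQB3A.b3a p (R : Subgroup X)
    have hJle : Cfsg.thompsonSubgroupOf p (R : Subgroup X) ≤ (R : Subgroup X) := by
      unfold Cfsg.thompsonSubgroupOf
      exact (Subgroup.map_le_iff_le_comap).mpr (fun x _ => x.2)
    have hJ := hF1 (Cfsg.thompsonSubgroupOf p (R : Subgroup X)) hJle hJchar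
    have hZc : Z ≤ Subgroup.center X := Cfsg.Agent.Lib.Helper20.AUTQB2.b2_of p q (Cfsg.Agent.Lib.Helper9.AUTQB1.b1 p q hpq h23 a b hcard) a b hcard R H hH hCR hJ
    have hZprops := omegaOne_center_props p (R : Subgroup X)
    have hZR : Z ≤ (R : Subgroup X) := fun z hz => (Subgroup.mem_inf.mp (hZprops z hz).1).1
    have hZH : Z ≤ H := by
      intro z hz
      apply hCR
      refine Subgroup.mem_inf.mpr ⟨hZR hz, ?_⟩
      have := (Subgroup.mem_inf.mp (hZprops z hz).1).2
      rw [Subgroup.mem_centralizer_iff] at this ⊢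
      intro h hh
      exact this h (hHR hh)
    haveI hZn : Z.Normal := by
      constructor
      intro z hz g
      have := Subgroup.mem_center_iff.mp (hZc hz) g
      rw [this, mul_inv_cancel_right]
      exact hz
    have hR1 : (R : Subgroup X) ≠ ⊥ := by
      intro hbot
      apply hH1
      rw [eq_bot_iff, ← hbot]
      exact hHR
    have hZ1 : Z ≠ ⊥ := omegaOne_center_ne_bot p (R : Subgroup X) R.isPGroup' hR1
    -- the quotient
    have hcardq : Nat.card X = Nat.card (X ⧸ Z) * Nat.card Z :=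
      Subgroup.card_eq_card_quotient_mul_card_subgroup Z
    have hZcard : 1 < Nat.card Z := by
      rw [Nat.one_lt_iff_ne_zero_and_ne_one]
      refine ⟨Nat.card_pos.ne', ?_⟩
      intro h1
      exact hZ1 ((Subgroup.card_eq_one).mp h1)
    have hlt : Nat.card (X ⧸ Z) < n := by
      rw [← hn, hcardq]
      have hpos : 0 < Nat.card (X ⧸ Z) := Nat.card_pos
      nlinarith
    have hdvd : Nat.card (X ⧸ Z) ∣ p ^ a * q ^ b := by
      rw [← hcard, hcardq]
      exact Dvd.intro _ rfl
    obtain ⟨a', b', hcard'⟩ := dvd_pq_pow (Fact.out : p.Prime) (Fact.out : q.Prime) hdvd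
    let π := QuotientGroup.mk' Z
    have hπ : Function.Surjective π := QuotientGroup.mk'_surjective Z
    let R' : Sylow p (X ⧸ Z) := R.mapSurjective hπ
    have hR' : (R' : Subgroup (X ⧸ Z)) = (R : Subgroup X).map π := Sylow.coe_mapSurjective hπ R
    haveI hH'n : (H.map π).Normal := Subgroup.Normal.map inferInstance π hπ
    have hH' : IsPGroup p (H.map π) := hH.map π
    obtain ⟨hF1', hF2'⟩ := Cfsg.Agent.Lib.Helper20.AUTQBQ.bq p q hpq R H Z hZc hZH hZR hZchar hF1 hF2 R' hR'
    have hind := ih (Nat.card (X ⧸ Z)) hlt (X ⧸ Z) rfl a' b' hcard' R' (H.map π) hH' hF1' hF2'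
    intro y hy
    have hy' : QElt q (π y) := hy.map π
    have hcen := hind (π y) hy'
    apply Cfsg.Agent.Lib.Helper12.AUTQB4.b4 p q hpq H Z hZc (fun z hz => (hZprops z hz).2) y hy
    intro h hh
    have := (Subgroup.mem_centralizer_iff.mp hcen) (π h) ⟨h, hh, rfl⟩
    -- π h * π y = π y * π h
    have h2 : π (y * h * y⁻¹ * h⁻¹) = 1 := by
      rw [map_mul, map_mul, map_mul, map_inv, map_inv, ← this]
      group
    exact (QuotientGroup.eq_one_iff _).mp h2
  · -- Frattini case
    apply Cfsg.Agent.Lib.Helper12.AUTQS1.s1 p q H R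
    intro y hy hyq
    have hlt : H < H ⊔ ((R : Subgroup X) ⊓ Subgroup.centralizer (H : Set X)) := by
      refine lt_of_le_of_ne le_sup_left ?_
      intro heq
      apply hCR
      exact le_sup_right.trans heq.ge
    have hle : H ⊔ ((R : Subgroup X) ⊓ Subgroup.centralizer (H : Set X)) ≤ (R : Subgroup X) :=
      sup_le hHR inf_le_left
    have hnorm : (R : Subgroup X) ≤ Subgroup.normalizer
        ((H ⊔ ((R : Subgroup X) ⊓ Subgroup.centralizer (H : Set X)) : Subgroup X) : Set X) := by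
      intro r hr
      rw [Subgroup.mem_normalizer_iff]
      have key : ∀ (r : X), r ∈ (R : Subgroup X) → ∀ x,
          x ∈ H ⊔ ((R : Subgroup X) ⊓ Subgroup.centralizer (H : Set X)) →
          r * x * r⁻¹ ∈ H ⊔ ((R : Subgroup X) ⊓ Subgroup.centralizer (H : Set X)) := by
        intro r hr x hx
        have hmap : (H ⊔ ((R : Subgroup X) ⊓ Subgroup.centralizer (H : Set X))).map
            (MulAut.conj r).toMonoidHom ≤ H ⊔ ((R : Subgroup X) ⊓ Subgroup.centralizer (H : Set X)) := by
          rw [Subgroup.map_sup]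
          apply sup_le_sup
          · rintro _ ⟨h, hh, rfl⟩
            exact (inferInstance : H.Normal).conj_mem h hh r
          · rintro _ ⟨c, hc, rfl⟩
            refine ⟨?_, ?_⟩
            · exact Subgroup.mul_mem _ (Subgroup.mul_mem _ hr hc.1) (Subgroup.inv_mem _ hr)
            · exact (inferInstance : (Subgroup.centralizer (H : Set X)).Normal).conj_mem c hc.2 r
        exact hmap ⟨x, hx, rfl⟩
      intro x
      constructor
      · exact key r hr x
      · intro hx
        have := key r⁻¹ (Subgroup.inv_mem _ hr) _ hx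
        simpa [mul_assoc] using this
    exact hF2 _ hlt hle hnorm y hy hyq

/-- (BM) LEMMA B. -/
theorem lemmaB (p q : ℕ) [Fact p.Prime] [Fact q.Prime] (hpq : p ≠ q)
    (h23 : ¬ ((p = 2 ∧ q = 3) ∨ (p = 3 ∧ q = 2))) {X : Type u} [Group X] [Finite X]
    (a b : ℕ) (hcard : Nat.card X = p ^ a * q ^ b)
    (R : Sylow p X) (H : Subgroup X) [H.Normal] (hH : IsPGroup p H)
    (hF1 : ∀ T : Subgroup X, T ≤ R → (T.subgroupOf (R : Subgroup X)).Characteristic →
        ∀ y ∈ Subgroup.normalizer (T : Set X), QElt q y → y ∈ Subgroup.centralizer (T : Set X))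
    (hF2 : ∀ T : Subgroup X, H < T → T ≤ R → (R : Subgroup X) ≤ Subgroup.normalizer (T : Set X) →
        ∀ y ∈ Subgroup.normalizer (T : Set X), QElt q y → y ∈ Subgroup.centralizer (H : Set X)) :
    ∀ y : X, QElt q y → y ∈ Subgroup.centralizer (H : Set X) :=
  lemmaB_aux p q hpq h23 (Nat.card X) X rfl a b hcard R H hH hF1 hF2

end Cfsg.Agent.Lib.Helper26.AUTQBM
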