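import Mathlib
import Cfsg.Prelude.Def_Solvable
import Cfsg.Prelude.Def_Local
import Cfsg.Agent.Lib.Helper26.AUTQDefs
import Cfsg.Agent.Lib.Helper24.PSolvable
import Cfsg.Agent.Lib.Helper12.Cores
import Cfsg.Agent.Lib.Helper9.CoprimeSylow
import Cfsg.Agent.Lib.Helper16.Minimal

/-! helper26: S4411 leaf CA (`ca`): a `p`-solvable group in which normalizers of nontrivial subgroups normal in a Sylow `p`-subgroup have no `q`-elements has a Sylow `p`-subgroup normalizing a nontrivial `q`-subgroup. -/

set_option autoImplicit false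

namespace Cfsg.Agent.Lib.Helper26.AUTQCA

open Cfsg Cfsg.Agent.Lib.Helper26.AUTQ

universe u

theorem exists_qElt_of_dvd {A : Type u} [Group A] [Finite A] (q : ℕ) [hq : Fact q.Prime] (S : Subgroup A)
    (h : q ∣ Nat.card S) : ∃ y ∈ S, QElt q y ∧ y ≠ 1 := by
  obtain ⟨y, hy⟩ := exists_prime_orderOf_dvd_card' q h
  refine ⟨y, y.2, ⟨1, ?_⟩, ?_⟩
  · rw [pow_one, Subgroup.orderOf_coe]; exact hy
  · intro h1
    have : y = 1 := Subtype.ext h1
    rw [this, orderOf_one] at hy
    exact hq.out.one_lt.ne hy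

theorem ca {A : Type u} [Group A] [Finite A] (p q : ℕ) [Fact p.Prime] [Fact q.Prime] (hpq : p ≠ q)
    (hsol : Cfsg.IsPSolvable p A) (hq : q ∣ Nat.card A)
    (hF : ∀ (R : Sylow p A) (T : Subgroup A), T ≠ ⊥ → T ≤ R → (R : Subgroup A) ≤ Subgroup.normalizer (T : Set A) →
        ∀ y ∈ Subgroup.normalizer (T : Set A), QElt q y → y = 1) :
    ∃ (R : Sylow p A) (Q : Subgroup A), IsPGroup q Q ∧ Q ≠ ⊥ ∧
      (R : Subgroup A) ≤ Subgroup.normalizer (Q : Set A) := by
  classical
  have hp : p.Prime := Fact.out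
  have hqp : q.Prime := Fact.out
  obtain ⟨R⟩ : Nonempty (Sylow p A) := inferInstance
  set K : Subgroup A := Cfsg.pPrimeCore p A with hK
  have hKn : K.Normal := Cfsg.Agent.Lib.Helper24.pPrimeCore_normal' p
  have hKcop : (Nat.card K).Coprime p := Cfsg.Agent.Lib.Helper12.pPrimeCore_coprime p
  -- key claim: `q ∣ |K|`
  have hqK : q ∣ Nat.card K := by
    by_contra hnq
    -- the quotient
    have hcardA : Nat.card A = Nat.card (A ⧸ K) * Nat.card K :=
      Subgroup.card_eq_card_quotient_mul_card_subgroup K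
    have hqAK : q ∣ Nat.card (A ⧸ K) := by
      rw [hcardA] at hq
      exact (hqp.dvd_mul.mp hq).resolve_right hnq
    have : Nontrivial (A ⧸ K) := by
      rw [← Finite.one_lt_card_iff_nontrivial]
      exact lt_of_lt_of_le hqp.one_lt (Nat.le_of_dvd Nat.card_pos hqAK)
    let π := QuotientGroup.mk' K
    have hπ : Function.Surjective π := QuotientGroup.mk'_surjective K
    have hsolq : Cfsg.IsPSolvable p (A ⧸ K) :=
      Cfsg.Agent.Lib.Helper24.isPSolvable_of_surjective p π hπ hsol
    have hOq : Cfsg.pPrimeCore p (A ⧸ K) = ⊥ := Cfsg.Agent.Lib.Helper24.pPrimeCore_quotient_eq_bot' p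
    have hOp : Cfsg.pCore p (A ⧸ K) ≠ ⊥ := Cfsg.Agent.Lib.Helper24.pCore_ne_bot_of_isPSolvable p hsolq hOq
    have hOpn : (Cfsg.pCore p (A ⧸ K)).Normal := Cfsg.Agent.Lib.Helper24.pCore_normal' p
    set N : Subgroup A := (Cfsg.pCore p (A ⧸ K)).comap π with hN
    have hNn : N.Normal := Subgroup.Normal.comap hOpn π
    have hKN : K ≤ N := by
      intro k hk
      rw [hN, Subgroup.mem_comap]
      have : π k = 1 := (QuotientGroup.eq_one_iff k).mpr hk
      rw [this]; exact Subgroup.one_mem _
    -- `T := R ⊓ N`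
    set T : Subgroup A := (R : Subgroup A) ⊓ N with hT
    have hTR : T ≤ (R : Subgroup A) := inf_le_left
    have hRT : (R : Subgroup A) ≤ Subgroup.normalizer (T : Set A) := by
      intro r hr
      rw [Subgroup.mem_normalizer_iff]
      intro x
      constructor
      · rintro ⟨hx1, hx2⟩
        exact ⟨Subgroup.mul_mem _ (Subgroup.mul_mem _ hr hx1) (Subgroup.inv_mem _ hr), hNn.conj_mem x hx2 r⟩
      · rintro ⟨hx1, hx2⟩
        have hx : r⁻¹ * (r * x * r⁻¹) * r = x := by group
        refine ⟨?_, ?_⟩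
        · have := Subgroup.mul_mem _ (Subgroup.mul_mem _ (Subgroup.inv_mem _ hr) hx1) hr
          rwa [hx] at this
        · have := hNn.conj_mem _ hx2 r⁻¹
          rwa [inv_inv, hx] at this
    -- `q ∤ |N|`
    have hqN : ¬ q ∣ Nat.card N := by
      intro hdvd
      obtain ⟨y, hyN, ⟨k, hk⟩, hy1⟩ := exists_qElt_of_dvd q N hdvd
      have hπy : π y ∈ Cfsg.pCore p (A ⧸ K) := hyN
      have hpg : IsPGroup p (Cfsg.pCore p (A ⧸ K)) := Cfsg.Agent.Lib.Helper12.pCore_isPGroup' p
      obtain ⟨j, hj⟩ := hpg ⟨π y, hπy⟩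
      have hj' : (π y) ^ p ^ j = 1 := by
        have := congrArg Subtype.val hj
        simpa using this
      have h1 : orderOf (π y) ∣ p ^ j := orderOf_dvd_of_pow_eq_one hj'
      have h2 : orderOf (π y) ∣ q ^ k := by rw [← hk]; exact orderOf_map_dvd π y
      have h3 : orderOf (π y) = 1 := by
        have hcop : (p ^ j).Coprime (q ^ k) :=
          Nat.Coprime.pow _ _ ((Nat.coprime_primes hp hqp).mpr hpq)
        exact Nat.eq_one_of_dvd_coprimes hcop h1 h2
      have hyK : y ∈ K := (QuotientGroup.eq_one_iff y).mp (orderOf_eq_one_iff.mp h3)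
      have hk0 : k ≠ 0 := by
        rintro rfl
        rw [pow_zero, orderOf_eq_one_iff] at hk
        exact hy1 hk
      have hqy : q ∣ orderOf y := by rw [hk]; exact dvd_pow_self q hk0
      have : orderOf y ∣ Nat.card K := by
        have := orderOf_dvd_natCard (⟨y, hyK⟩ : K)
        rwa [Subgroup.orderOf_mk] at this
      exact hnq (hqy.trans this)
    -- Frattini
    obtain ⟨P, hP⟩ := Cfsg.Agent.Lib.Helper16.exists_sylow_of_normal_inf R N
    have hfr := Sylow.normalizer_sup_eq_top P
    rw [hP] at hfr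
    set S : Subgroup A := Subgroup.normalizer (T : Set A) with hS
    have hidx : N.index ∣ Nat.card S := by
      have h1 : N.relIndex (S ⊔ N) = N.relIndex S := by rw [sup_comm]; exact Subgroup.relIndex_sup_left S N
      rw [hfr, Subgroup.relIndex_top_right] at h1
      rw [h1]
      exact Subgroup.relIndex_dvd_card N S
    have hqS : q ∣ Nat.card S := by
      have hcardA' : Nat.card A = N.index * Nat.card N := (Subgroup.index_mul_card N).symm
      rw [hcardA'] at hq
      exact ((hqp.dvd_mul.mp hq).resolve_right hqN).trans hidx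
    obtain ⟨y, hyS, hyq, hy1⟩ := exists_qElt_of_dvd q S hqS
    -- `T ≠ ⊥`
    have hT1 : T ≠ ⊥ := by
      intro hTbot
      -- some element of `N` has order divisible by `p`
      obtain ⟨⟨x', hx'⟩, hx'1⟩ := (Subgroup.ne_bot_iff_exists_ne_one).mp hOp
      obtain ⟨x, rfl⟩ := hπ x'
      have hxN : x ∈ N := hx'
      have hpg : IsPGroup p (Cfsg.pCore p (A ⧸ K)) := Cfsg.Agent.Lib.Helper12.pCore_isPGroup' p
      -- `p ∣ |N|`
      have hpN : p ∣ Nat.card N := by
        obtain ⟨j, hj⟩ := hpg ⟨π x, hx'⟩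
        have hj' : (π x) ^ p ^ j = 1 := by
          have := congrArg Subtype.val hj
          simpa using this
        have h1 : orderOf (π x) ∣ p ^ j := orderOf_dvd_of_pow_eq_one hj'
        obtain ⟨i, -, hi⟩ := (Nat.dvd_prime_pow hp).mp h1
        have hi0 : i ≠ 0 := by
          rintro rfl
          rw [pow_zero, orderOf_eq_one_iff] at hi
          apply hx'1
          exact Subtype.ext hi
        have h2 : p ∣ orderOf (π x) := by rw [hi]; exact dvd_pow_self p hi0
        have h3 : orderOf (π x) ∣ orderOf x := orderOf_map_dvd π x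
        have h4 : orderOf x ∣ Nat.card N := by
          have := orderOf_dvd_natCard (⟨x, hxN⟩ : N)
          rwa [Subgroup.orderOf_mk] at this
        exact h2.trans (h3.trans h4)
      -- so the Sylow `P` of `N` is nontrivial
      have hPcard := P.card_eq_multiplicity
      have hPbot : (P : Subgroup N) = ⊥ := by
        rw [eq_bot_iff]
        intro z hz
        have : (N.subtype z) ∈ (P : Subgroup N).map N.subtype := ⟨z, hz, rfl⟩
        rw [hP, ← hT, hTbot, Subgroup.mem_bot] at this
        rw [Subgroup.mem_bot]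
        exact Subtype.ext this
      rw [hPbot, Subgroup.card_bot] at hPcard
      have hfac : (Nat.card N).factorization p ≠ 0 := by
        intro h0
        rcases (Nat.factorization_eq_zero_iff _ _).mp h0 with h | h | h
        · exact h hp
        · exact h hpN
        · exact Nat.card_pos.ne' h
      have : 1 < p ^ (Nat.card N).factorization p := Nat.one_lt_pow hfac hp.one_lt
      omega
    exact hy1 (hF R T hT1 hTR hRT y hyS hyq)
  -- an `R`-invariant Sylow `q`-subgroup of `K`
  have hRK : (R : Subgroup A) ≤ Subgroup.normalizer (K : Set A) := by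
    rw [Subgroup.normalizer_eq_top]; exact le_top
  have hcop : (Nat.card (R : Subgroup A)).Coprime (Nat.card K) := by
    obtain ⟨n, hn⟩ := R.isPGroup'.exists_card_eq
    rw [hn]
    exact Nat.Coprime.pow_left n hKcop.symm
  have : Group.IsNilpotent (R : Subgroup A) := R.isPGroup'.isNilpotent
  have hsolv : Group.IsSolvable (R : Subgroup A) ∨ Group.IsSolvable K := Or.inl inferInstance
  obtain ⟨Q, hQ⟩ := Cfsg.Agent.Lib.Helper9.exists_invariant_sylow (R : Subgroup A) K hRK hcop hsolv q
  refine ⟨R, (Q : Subgroup K).map K.subtype, Q.isPGroup'.map _, ?_, hQ⟩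
  intro hbot
  have hQbot : (Q : Subgroup K) = ⊥ := by
    rw [eq_bot_iff]
    intro x hx
    have : (K.subtype x) ∈ (Q : Subgroup K).map K.subtype := ⟨x, hx, rfl⟩
    rw [hbot, Subgroup.mem_bot] at this
    rw [Subgroup.mem_bot]
    exact Subtype.ext this
  have hcardQ := Q.card_eq_multiplicity
  rw [hQbot, Subgroup.card_bot] at hcardQ
  have hfac : (Nat.card K).factorization q ≠ 0 := by
    intro h0
    rcases (Nat.factorization_eq_zero_iff _ _).mp h0 with h | h | h
    · exact h hqp
    · exact h hqK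
    · exact Nat.card_pos.ne' h
  have : 1 < q ^ (Nat.card K).factorization q := Nat.one_lt_pow hfac hqp.one_lt
  omega

end Cfsg.Agent.Lib.Helper26.AUTQCA
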