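import Cfsg.Agent.Lib.Helper26.AUTQBM
import Cfsg.Agent.Lib.Helper12.AUTQL1
import Cfsg.Agent.Lib.Helper2.AUTQF
import Cfsg.Agent.Lib.Helper2.AUTQBW
import Cfsg.Agent.Lib.Helper16.AUTQCG
import Cfsg.Agent.Lib.Helper15.AUTQCMOf
import Cfsg.Agent.Lib.Helper20.AUTQCM1
import Cfsg.Agent.Lib.Helper26.AUTQCA

/-!
helper26: S4411, the spine: extremal choice (`l2`), the core contradiction (`core`: the Sylow `p`-subgroups of
`N_G(H₀)` are Sylow in `G` for the extremal `H₀`), conjugation invariance of `Aq`, and the final statement (`final`).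
Leaves: `notes/S4411_leaves.lean`.
-/

set_option autoImplicit false

namespace Cfsg.Agent.Lib.Helper26.AUTQCore

open Cfsg Cfsg.Agent.Lib.Helper26.AUTQ

universe u

/-- (CM) assembled from the landed pieces. -/
theorem cm {M : Type u} [Group M] [Finite M] (p q : ℕ) [Fact p.Prime] [Fact q.Prime] (hpq : p ≠ q)
    (L : Subgroup M) [L.Normal] (H : Subgroup M) [H.Normal] (hH : IsPGroup p H) (hHL : H ≤ L)
    (hsyl : ¬ p ∣ H.relIndex L) (hsol : Cfsg.IsPSolvable p (M ⧸ L)) (hq : ∃ y : M, QElt q y ∧ y ∉ L)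
    (hF : ∀ (R : Sylow p M) (T : Subgroup M), T ≤ R → (R : Subgroup M) ≤ Subgroup.normalizer (T : Set M) → ¬ T ≤ L →
        ∀ y ∈ Subgroup.normalizer (T : Set M), QElt q y → y ∈ L) :
    ∃ (R : Sylow p M) (X : Subgroup M), (R : Subgroup M) ≤ X ∧ (∃ a b : ℕ, Nat.card X = p ^ a * q ^ b) ∧
      ∃ y ∈ X, QElt q y ∧ y ∉ L :=
  Cfsg.Agent.Lib.Helper15.AUTQCMOf.cm_of p q hpq L H hH hHL hsyl hsol hq
    (Cfsg.Agent.Lib.Helper20.AUTQCM1.cm1 p q L hF)
    (fun h1 h2 h3 => Cfsg.Agent.Lib.Helper26.AUTQCA.ca p q hpq h1 h2 h3)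

/-- (CG) assembled. -/
theorem cg {G : Type u} [Group G] [Finite G] (p q : ℕ) [Fact p.Prime] [Fact q.Prime] (hpq : p ≠ q)
    (H₀ : Subgroup G) (hH₀ : IsPGroup p H₀)
    (hsol : Cfsg.IsPSolvable p (↥(Subgroup.normalizer (H₀ : Set G)) ⧸
      (Subgroup.centralizer (H₀ : Set G)).subgroupOf (Subgroup.normalizer (H₀ : Set G))))
    (hA : Aq q H₀)
    (hF2 : ∀ R : Subgroup G, R ≤ Subgroup.normalizer (H₀ : Set G) → IsPGroup p R →
        ¬ p ∣ R.relIndex (Subgroup.normalizer (H₀ : Set G)) →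
        ∀ T : Subgroup G, H₀ < T → T ≤ R → R ≤ Subgroup.normalizer (T : Set G) →
          ∀ y ∈ Subgroup.normalizer (T : Set G), QElt q y → y ∈ Subgroup.centralizer (T : Set G)) :
    ∃ X R : Subgroup G, R ≤ X ∧ H₀ ≤ R ∧ X ≤ Subgroup.normalizer (H₀ : Set G) ∧ IsPGroup p R ∧
      (¬ p ∣ R.relIndex (Subgroup.normalizer (H₀ : Set G))) ∧ (∃ a b : ℕ, Nat.card X = p ^ a * q ^ b) ∧
      ∃ y ∈ X, QElt q y ∧ y ∉ Subgroup.centralizer (H₀ : Set G) := by
  have : (H₀.subgroupOf (Subgroup.normalizer (H₀ : Set G))).Normal := Subgroup.normal_in_normalizer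
  refine Cfsg.Agent.Lib.Helper16.AUTQCG.cg_of p q hpq H₀ hH₀ ?_ ?_ hsol hA hF2
  · intro R h
    exact Cfsg.Agent.Lib.Helper12.AUTQS1.s1 p q _ R h
  · intro L _ hHL hsyl hsolL hq hF
    exact cm p q hpq L (H₀.subgroupOf (Subgroup.normalizer (H₀ : Set G))) hH₀.comap_subtype hHL hsyl hsolL hq hF



/-- (L2) extremal choice. -/
theorem l2 {G : Type*} [Group G] [Finite G] (p q : ℕ) (H : Subgroup G) (hH : IsPGroup p H) (hA : Aq q H) :
    ∃ H₀ : Subgroup G, IsPGroup p H₀ ∧ Aq q H₀ ∧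
      ∀ T : Subgroup G, IsPGroup p T → Aq q T →
        nP p T < nP p H₀ ∨ (nP p T = nP p H₀ ∧ Nat.card T ≤ Nat.card H₀) := by
  classical
  -- maximize `nP T * (card G + 1) + card T`
  let S : Set (Subgroup G) := {T | IsPGroup p T ∧ Aq q T}
  have hSfin : S.Finite := Set.toFinite S
  have hSne : S.Nonempty := ⟨H, hH, hA⟩
  let f : Subgroup G → ℕ := fun T => nP p T * (Nat.card G + 1) + Nat.card T
  obtain ⟨H₀, hH₀S, hmax⟩ := hSfin.exists_maximalFor f S hSne
  refine ⟨H₀, hH₀S.1, hH₀S.2, ?_⟩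
  intro T hT hAT
  have hle : f T ≤ f H₀ := by
    by_contra hlt
    push Not at hlt
    have := hmax ⟨hT, hAT⟩ hlt.le
    omega
  have hTc : Nat.card T ≤ Nat.card G := Subgroup.card_le_card_group T
  have hH₀c : Nat.card H₀ ≤ Nat.card G := Subgroup.card_le_card_group H₀
  have hTpos : 0 < Nat.card T := Nat.card_pos
  simp only [f] at hle
  rcases lt_trichotomy (nP p T) (nP p H₀) with h | h | h
  · exact Or.inl h
  · right
    refine ⟨h, ?_⟩
    rw [h] at hle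
    omega
  · exfalso
    have : (nP p H₀ + 1) * (Nat.card G + 1) ≤ nP p T * (Nat.card G + 1) :=
      Nat.mul_le_mul_right _ h
    nlinarith


theorem core {G : Type u} [Group G] [Finite G] (p q : ℕ) [Fact p.Prime] [Fact q.Prime] (hpq : p ≠ q)
    (h23 : ¬ ((p = 2 ∧ q = 3) ∨ (p = 3 ∧ q = 2)))
    (H₀ : Subgroup G) (hH₀ : IsPGroup p H₀) (hA : Aq q H₀)
    (hmax : ∀ T : Subgroup G, IsPGroup p T → Aq q T →
      nP p T < nP p H₀ ∨ (nP p T = nP p H₀ ∧ Nat.card T ≤ Nat.card H₀))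
    (hsol : Cfsg.IsPSolvable p (↥(Subgroup.normalizer (H₀ : Set G)) ⧸
      (Subgroup.centralizer (H₀ : Set G)).subgroupOf (Subgroup.normalizer (H₀ : Set G)))) :
    ¬ nP p H₀ < (Nat.card G).factorization p := by
  intro hns
  have hF := fun R hRM hR hRsyl => Cfsg.Agent.Lib.Helper2.AUTQF.f12 p q H₀ hH₀ hmax hns R hRM hR hRsyl
  obtain ⟨X, R, hRX, hHR, hXN, hR, hRsyl, hX, y, hyX, hyq, hyC⟩ :=
    cg p q hpq H₀ hH₀ hsol hA (fun R hRM hR hRsyl => (hF R hRM hR hRsyl).2)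
  have hRM : R ≤ Subgroup.normalizer (H₀ : Set G) := hRX.trans hXN
  have hRsylX : ¬ p ∣ R.relIndex X := by
    intro hdvd
    apply hRsyl
    rw [← Subgroup.relIndex_mul_relIndex R X _ hRX hXN]
    exact Dvd.dvd.mul_right hdvd _
  exact hyC (Cfsg.Agent.Lib.Helper2.AUTQBW.bw_of p q (fun a b hc R H _ hH h1 h2 => Cfsg.Agent.Lib.Helper26.AUTQBM.lemmaB p q hpq h23 a b hc R H hH h1 h2) H₀ X R hH₀ hRX hHR hXN hR hRsylX hX (hF R hRM hR hRsyl).1
    (hF R hRM hR hRsyl).2 y hyX hyq)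

/-- `Aq` is invariant under conjugation. -/
theorem aq_conj {G : Type*} [Group G] (q : ℕ) (H : Subgroup G) (g : G) (h : Aq q H) :
    Aq q (H.map (MulAut.conj g).toMonoidHom) := by
  obtain ⟨y, hyN, ⟨k, hk⟩, hyC⟩ := h
  refine ⟨g * y * g⁻¹, ?_, ⟨k, ?_⟩, ?_⟩
  · rw [Subgroup.mem_normalizer_iff] at hyN ⊢
    intro x
    simp only [Subgroup.mem_map, MulEquiv.coe_toMonoidHom, MulAut.conj_apply]
    constructor
    · rintro ⟨h, hh, rfl⟩
      exact ⟨y * h * y⁻¹, (hyN h).mp hh, by group⟩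
    · rintro ⟨h, hh, hx⟩
      refine ⟨y⁻¹ * h * y, ?_, ?_⟩
      · exact (hyN (y⁻¹ * h * y)).mpr (by simpa [mul_assoc] using hh)
      · have : x = (g * y * g⁻¹)⁻¹ * (g * h * g⁻¹) * (g * y * g⁻¹) := by
          rw [hx]; group
        rw [this]; group
  · rw [← hk]
    exact orderOf_injective (MulAut.conj g).toMonoidHom (MulAut.conj g).injective y
  · intro hc
    apply hyC
    rw [Subgroup.mem_centralizer_iff] at hc ⊢
    intro h hh
    have := hc (g * h * g⁻¹) ⟨h, hh, rfl⟩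
    have h2 : g * (h * y) * g⁻¹ = g * (y * h) * g⁻¹ := by
      calc g * (h * y) * g⁻¹ = (g * h * g⁻¹) * (g * y * g⁻¹) := by group
        _ = (g * y * g⁻¹) * (g * h * g⁻¹) := this
        _ = g * (y * h) * g⁻¹ := by group
    exact mul_left_cancel (mul_right_cancel h2)


theorem final {G : Type u} [Group G] [Finite G]
    (p q : ℕ) [Fact p.Prime] [Fact q.Prime] (hpq : p ≠ q) (h23 : ¬ ((p = 2 ∧ q = 3) ∨ (p = 3 ∧ q = 2)))
    (hsol : ∀ H : Subgroup G, IsPGroup p ↥H →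
      Cfsg.IsPSolvable p (↥(Subgroup.normalizer (H : Set G)) ⧸ (Subgroup.centralizer (H : Set G)).subgroupOf (Subgroup.normalizer (H : Set G))))
    (H : Subgroup G) (hH : IsPGroup p ↥H)
    (hq : q ∣ ((Subgroup.centralizer (H : Set G)).subgroupOf (Subgroup.normalizer (H : Set G))).index)
    (Gp : Sylow p G) :
    ∃ K : Subgroup G, K ≤ (Gp : Subgroup G) ∧ (Gp : Subgroup G) ≤ Subgroup.normalizer (K : Set G) ∧
      q ∣ ((Subgroup.centralizer (K : Set G)).subgroupOf (Subgroup.normalizer (K : Set G))).index := by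
  classical
  have hp : p.Prime := Fact.out
  have hA : Aq q H := (Cfsg.Agent.Lib.Helper12.AUTQL1.l1 q H).mp hq
  obtain ⟨H₀, hH₀, hA₀, hmax⟩ := l2 p q H hH hA
  have hcore := core p q hpq h23 H₀ hH₀ hA₀ hmax (hsol H₀ hH₀)
  set N : Subgroup G := Subgroup.normalizer (H₀ : Set G) with hN
  have hle : nP p H₀ ≤ (Nat.card G).factorization p := by
    unfold nP
    have hdvd : Nat.card N ∣ Nat.card G := Subgroup.card_subgroup_dvd_card N
    exact (Nat.factorization_le_iff_dvd Nat.card_pos.ne' Nat.card_pos.ne').mpr hdvd p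
  have heq : nP p H₀ = (Nat.card G).factorization p := le_antisymm hle (not_lt.mp hcore)
  -- a Sylow `p`-subgroup of `N`
  obtain ⟨P₀⟩ : Nonempty (Sylow p N) := inferInstance
  let R : Subgroup G := (P₀ : Subgroup N).map N.subtype
  have hRcard : Nat.card R = p ^ (Nat.card G).factorization p := by
    have h1 : Nat.card R = Nat.card (P₀ : Subgroup N) :=
      Nat.card_congr (Subgroup.equivMapOfInjective _ _ (Subgroup.subtype_injective N)).symm.toEquiv
    rw [h1, P₀.card_eq_multiplicity, ← heq]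
    rfl
  let RG : Sylow p G := Sylow.ofCard R hRcard
  have hRG : (RG : Subgroup G) = R := rfl
  have hRN : R ≤ N := Subgroup.map_subtype_le _
  have hH₀N : H₀ ≤ N := Subgroup.le_normalizer
  have hH₀R : H₀ ≤ R := by
    have : (H₀.subgroupOf N).Normal := Subgroup.normal_in_normalizer
    have hpg : IsPGroup p (H₀.subgroupOf N) := hH₀.comap_subtype
    have := Cfsg.Agent.Lib.Helper24.normal_pgroup_le_sylow (H₀.subgroupOf N) hpg P₀
    intro x hx
    exact ⟨⟨x, hH₀N hx⟩, this (by simpa [Subgroup.mem_subgroupOf] using hx), rfl⟩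
  obtain ⟨g, hg⟩ := MulAction.exists_smul_eq G RG Gp
  have hGp : (Gp : Subgroup G) = R.map (MulAut.conj g).toMonoidHom := by
    rw [← hg, Sylow.coe_subgroup_smul, hRG, Subgroup.pointwise_smul_def]
    rfl
  refine ⟨H₀.map (MulAut.conj g).toMonoidHom, ?_, ?_, ?_⟩
  · rw [hGp]
    exact Subgroup.map_mono hH₀R
  · rw [hGp]
    have := Subgroup.map_equiv_normalizer_eq H₀ (MulAut.conj g)
    rw [← this]
    exact Subgroup.map_mono hRN
  · exact (Cfsg.Agent.Lib.Helper12.AUTQL1.l1 q _).mpr (aq_conj q H₀ g hA₀)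

end Cfsg.Agent.Lib.Helper26.AUTQCore
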