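import Cfsg.Agent.Lib.Helper26.FSOmegaNormal
import Cfsg.Agent.S0013
import Cfsg.Agent.S0014

/-!
Finite abelian `p`-groups of rank two and groups of automorphisms without normal `p`-subgroups, part A: the subgroups
`℧_j`, Burnside's lemma, actions on sections of order `p`.
-/

set_option autoImplicit false

namespace Cfsg.Agent.Lib.Helper26

section AbRank2

variable {H : Type*} [CommGroup H]

/-- `℧_j(H)`: the `p^j`-th powers. -/
def agemo (p : ℕ) (H : Type*) [CommGroup H] (j : ℕ) : Subgroup H := (powMonoidHom (p ^ j) : H →* H).range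

theorem mem_agemo {p j : ℕ} {x : H} : x ∈ agemo p H j ↔ ∃ h : H, h ^ (p ^ j) = x := Iff.rfl

theorem agemo_zero (p : ℕ) : agemo p H 0 = ⊤ := by
  rw [eq_top_iff]
  intro x _
  exact mem_agemo.mpr ⟨x, by simp⟩

theorem pow_mem_agemo_succ {p j : ℕ} {x : H} (hx : x ∈ agemo p H j) : x ^ p ∈ agemo p H (j + 1) := by
  obtain ⟨h, rfl⟩ := mem_agemo.mp hx
  exact mem_agemo.mpr ⟨h, by rw [pow_succ, pow_mul]⟩

theorem agemo_succ_le (p j : ℕ) : agemo p H (j + 1) ≤ agemo p H j := by
  intro x hx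
  obtain ⟨h, rfl⟩ := mem_agemo.mp hx
  exact mem_agemo.mpr ⟨h ^ p, by rw [← pow_mul, pow_succ, mul_comm]⟩

theorem agemo_anti (p : ℕ) {i j : ℕ} (h : i ≤ j) : agemo p H j ≤ agemo p H i := by
  induction h with
  | refl => exact le_rfl
  | step _ ih => exact (agemo_succ_le p _).trans ih

theorem agemo_aut {p : ℕ} (α : MulAut H) (j : ℕ) (x : H) : x ∈ agemo p H j ↔ α x ∈ agemo p H j := by
  constructor
  · rintro ⟨h, rfl⟩
    exact mem_agemo.mpr ⟨α h, by rw [powMonoidHom_apply, map_pow]⟩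
  · rintro ⟨h, hh⟩
    refine mem_agemo.mpr ⟨α⁻¹ h, ?_⟩
    apply α.injective
    rw [map_pow, MulAut.apply_inv_self]
    exact hh

/-- powers of elements congruent mod `℧_1` are congruent mod `℧_{j+1}` -/
theorem pow_mem_agemo_of_mem_one {p : ℕ} {c : H} (hc : c ∈ agemo p H 1) (j : ℕ) : c ^ (p ^ j) ∈ agemo p H (j + 1) := by
  obtain ⟨g, rfl⟩ := mem_agemo.mp hc
  exact mem_agemo.mpr ⟨g, by rw [← pow_mul, pow_one, pow_succ, mul_comm]⟩

variable [Finite H] {p : ℕ} [Fact p.Prime]

theorem exists_agemo_eq_bot (hH : IsPGroup p H) : ∃ k, agemo p H k = ⊥ := by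
  obtain ⟨n, hn⟩ := hH.exists_card_eq
  refine ⟨n, ?_⟩
  rw [eq_bot_iff]
  rintro x ⟨h, rfl⟩
  rw [Subgroup.mem_bot, powMonoidHom_apply, ← hn]
  exact pow_card_eq_one'

/-- **Burnside**: an automorphism of an abelian `p`-group acting trivially modulo `℧_1` has `p`-power order. -/
theorem burnside_abelian (hH : IsPGroup p H) (α : MulAut H) (hα : ∀ h, h⁻¹ * α h ∈ agemo p H 1) :
    ∃ j : ℕ, α ^ (p ^ j) = 1 := by
  obtain ⟨k, hk⟩ := exists_agemo_eq_bot hH
  have hmono : Monotone (fun i => agemo p H (k - i)) := by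
    intro i i' hii'
    exact agemo_anti p (Nat.sub_le_sub_left hii' k)
  have hp : ∀ i, ∃ m, Nat.card ↥(agemo p H (k - i)) = p ^ m := fun i => (hH.to_subgroup _).exists_card_eq
  have hbase : ∃ j : ℕ, ∀ x ∈ agemo p H (k - 0), (α ^ (p ^ j)) x = x := by
    refine ⟨0, fun x hx => ?_⟩
    rw [Nat.sub_zero, hk, Subgroup.mem_bot] at hx
    rw [hx, map_one]
  have hstep : ∀ i, ∀ x ∈ agemo p H (k - (i + 1)), x⁻¹ * α x ∈ agemo p H (k - i) := by
    intro i x hx
    by_cases hik : i < k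
    · obtain ⟨h, rfl⟩ := mem_agemo.mp hx
      have e : (h ^ p ^ (k - (i + 1)))⁻¹ * α (h ^ p ^ (k - (i + 1))) = (h⁻¹ * α h) ^ (p ^ (k - (i + 1))) := by
        rw [map_pow, mul_pow, inv_pow]
      rw [e]
      have := pow_mem_agemo_of_mem_one (hα h) (k - (i + 1))
      have e2 : k - (i + 1) + 1 = k - i := by omega
      rwa [e2] at this
    · have e2 : k - i = 0 := by omega
      rw [e2, agemo_zero]
      exact Subgroup.mem_top _
  obtain ⟨j, hj⟩ := stab_chain (fun i => agemo p H (k - i)) hmono (fun i => inferInstance) hp hbase hstep k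
  refine ⟨j, ?_⟩
  ext x
  apply hj
  show x ∈ agemo p H (k - k)
  rw [Nat.sub_self, agemo_zero]
  exact Subgroup.mem_top _

/-- In a group of automorphisms without nontrivial normal `p`-subgroups, an element of a subgroup normalized by the
group and consisting of `p`-elements is trivial. -/
theorem eq_one_of_core_trivial {A : Subgroup (MulAut H)}
    (hcore : ∀ N : Subgroup A, N.Normal → IsPGroup p N → N = ⊥) (B : Subgroup (MulAut H))
    (hBn : ∀ a ∈ A, ∀ b ∈ B, a * b * a⁻¹ ∈ B) (hBp : ∀ b ∈ B, b ∈ A → ∃ j : ℕ, b ^ (p ^ j) = 1) {u : MulAut H}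
    (huA : u ∈ A) (huB : u ∈ B) : u = 1 := by
  have hn : (B.subgroupOf A).Normal := by
    constructor
    intro b hb a
    rw [Subgroup.mem_subgroupOf] at hb ⊢
    exact hBn a a.2 b hb
  have hp : IsPGroup p ↥(B.subgroupOf A) := by
    rintro ⟨⟨b, hbA⟩, hbB⟩
    rw [Subgroup.mem_subgroupOf] at hbB
    obtain ⟨j, hj⟩ := hBp b hbB hbA
    refine ⟨j, ?_⟩
    apply Subtype.ext
    apply Subtype.ext
    exact hj
  have hbot := hcore _ hn hp
  have hmem : (⟨u, huA⟩ : A) ∈ B.subgroupOf A := by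
    rw [Subgroup.mem_subgroupOf]
    exact huB
  rw [hbot, Subgroup.mem_bot] at hmem
  exact congrArg Subtype.val hmem

/-- An automorphism of order dividing `p` acts trivially on an invariant section of order `p`. -/
theorem triv_on_section (M N : Subgroup H) (hNM : N ≤ M) (hcard : Nat.card M = p * Nat.card N) (u : MulAut H)
    (hM : ∀ x, x ∈ M ↔ u x ∈ M) (hN : ∀ x, x ∈ N ↔ u x ∈ N) (hu : u ^ p = 1) :
    ∀ m ∈ M, m⁻¹ * u m ∈ N := by
  have hpp : p.Prime := Fact.out
  have hcardQ : Nat.card (↥M ⧸ N.subgroupOf M) = p := by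
    have h1 := Subgroup.card_eq_card_quotient_mul_card_subgroup (N.subgroupOf M)
    rw [Nat.card_congr (Subgroup.subgroupOfEquivOfLe hNM).toEquiv, hcard] at h1
    have hpos : 0 < Nat.card N := Nat.card_pos
    exact (Nat.eq_of_mul_eq_mul_right hpos h1).symm
  have hcyc : IsCyclic (↥M ⧸ N.subgroupOf M) := isCyclic_of_prime_card hcardQ
  have hmap : (N.subgroupOf M).map ((autRestrict u M hM : ↥M ≃* ↥M) : ↥M →* ↥M) = N.subgroupOf M := by
    ext ⟨x, hx⟩
    rw [Subgroup.mem_map, Subgroup.mem_subgroupOf]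
    constructor
    · rintro ⟨⟨y, hy⟩, hyN, hyx⟩
      rw [Subgroup.mem_subgroupOf] at hyN
      have : u y = x := congrArg Subtype.val hyx
      show x ∈ N
      rw [← this]
      exact (hN y).mp hyN
    · intro hxN
      have hxN' : x ∈ N := hxN
      have h1 : u⁻¹ x ∈ N := by
        rw [hN, MulAut.apply_inv_self]
        exact hxN'
      have h2 : u⁻¹ x ∈ M := by
        rw [hM, MulAut.apply_inv_self]
        exact hx
      refine ⟨⟨u⁻¹ x, h2⟩, ?_, ?_⟩
      · rw [Subgroup.mem_subgroupOf]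
        exact h1
      · apply Subtype.ext
        show u (u⁻¹ x) = x
        rw [MulAut.apply_inv_self]
  obtain ⟨σ, hσ⟩ : ∃ σ : MulAut (↥M ⧸ N.subgroupOf M), σ =
      QuotientGroup.congr (N.subgroupOf M) (N.subgroupOf M) (autRestrict u M hM) hmap := ⟨_, rfl⟩
  have hσmk : ∀ x : M, σ (QuotientGroup.mk x) = QuotientGroup.mk (autRestrict u M hM x) := by
    intro x
    rw [hσ]
    rfl
  have hσpow : ∀ (j : ℕ) (x : M), (σ ^ j) (QuotientGroup.mk x) = QuotientGroup.mk ((autRestrict u M hM ^ j) x) := by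
    intro j
    induction j with
    | zero => intro x; simp
    | succ j ih =>
      intro x
      rw [pow_succ, pow_succ, MulAut.mul_apply, MulAut.mul_apply, hσmk, ih]
  have hσp : σ ^ p = 1 := by
    ext q
    induction q using QuotientGroup.induction_on with
    | H x =>
      rw [hσpow]
      congr 1
      apply Subtype.ext
      rw [autRestrict_pow_apply, hu]
      rfl
  have hσ1 : σ = 1 := by
    have h1 : orderOf σ ∣ p := orderOf_dvd_of_pow_eq_one hσp
    have h2 : orderOf σ ∣ Nat.card (MulAut (↥M ⧸ N.subgroupOf M)) := orderOf_dvd_natCard σ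
    rw [IsCyclic.card_mulAut, hcardQ, Nat.totient_prime hpp] at h2
    have h3 : orderOf σ ∣ Nat.gcd p (p - 1) := Nat.dvd_gcd h1 h2
    have h4 : Nat.gcd p (p - 1) = 1 := by
      have h2p := hpp.two_le
      exact Nat.coprime_of_lt_prime (by omega) (by omega) hpp
    rw [h4, Nat.dvd_one, orderOf_eq_one_iff] at h3
    exact h3
  intro m hm
  have h1 := hσmk ⟨m, hm⟩
  rw [hσ1, MulAut.one_apply] at h1
  have h2 := QuotientGroup.eq.mp h1
  rw [Subgroup.mem_subgroupOf] at h2
  exact h2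

end AbRank2

end Cfsg.Agent.Lib.Helper26
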