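import Cfsg.Agent.Lib.Helper26.AbRankTwoA

/-!
Finite abelian `p`-groups of rank two, part B: for `p ≥ 5` automorphisms of order `p` act trivially modulo `℧_1`
when `Ω_1 ≤ ℧_1` (a computation in the endomorphism ring).
-/

set_option autoImplicit false

namespace Cfsg.Agent.Lib.Helper26

open Finset

section Ring

variable {G : Type*} [AddCommGroup G]

/-- Endomorphisms with image in `p^j G`. -/
def Dv (p : ℕ) (G : Type*) [AddCommGroup G] (j : ℕ) : AddSubgroup (AddMonoid.End G) where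
  carrier := {f | ∀ g, ∃ g', f g = (p ^ j) • g'}
  zero_mem' := fun g => ⟨0, by simp⟩
  add_mem' := by
    intro a b ha hb g
    obtain ⟨x, hx⟩ := ha g
    obtain ⟨y, hy⟩ := hb g
    exact ⟨x + y, by rw [show (a + b) g = a g + b g from rfl, hx, hy, smul_add]⟩
  neg_mem' := by
    intro a ha g
    obtain ⟨x, hx⟩ := ha g
    exact ⟨-x, by rw [show (-a) g = -(a g) from rfl, hx, smul_neg]⟩

theorem mem_Dv {p j : ℕ} {f : AddMonoid.End G} : f ∈ Dv p G j ↔ ∀ g, ∃ g', f g = (p ^ j) • g' := Iff.rfl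

theorem Dv_mul_right {p j : ℕ} {f : AddMonoid.End G} (hf : f ∈ Dv p G j) (r : AddMonoid.End G) :
    f * r ∈ Dv p G j := fun g => hf (r g)

theorem Dv_mul_left {p j : ℕ} {f : AddMonoid.End G} (hf : f ∈ Dv p G j) (r : AddMonoid.End G) :
    r * f ∈ Dv p G j := by
  intro g
  obtain ⟨x, hx⟩ := hf g
  exact ⟨r x, by rw [show (r * f) g = r (f g) from rfl, hx, map_nsmul]⟩

theorem Dv_mul {p a b : ℕ} {f f' : AddMonoid.End G} (hf : f ∈ Dv p G a) (hf' : f' ∈ Dv p G b) :
    f * f' ∈ Dv p G (a + b) := by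
  intro g
  obtain ⟨x, hx⟩ := hf' g
  obtain ⟨y, hy⟩ := hf x
  exact ⟨y, by rw [show (f * f') g = f (f' g) from rfl, hx, map_nsmul, hy, ← mul_nsmul, pow_add, mul_comm]⟩

theorem Dv_nsmul {p j : ℕ} {f : AddMonoid.End G} (hf : f ∈ Dv p G j) : p • f ∈ Dv p G (j + 1) := by
  intro g
  obtain ⟨x, hx⟩ := hf g
  exact ⟨x, by rw [show (p • f) g = p • (f g) from rfl, hx, ← mul_nsmul, pow_succ]⟩

/-- The ring computation: if `(1 + X)^p = 1` and `X²` has image in `pG`, then `pX` has image in `p²G` (`p ≥ 5`). -/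
theorem Dv_two_of_pow_eq_one {p : ℕ} (hp : p.Prime) (hp5 : 5 ≤ p) (X : AddMonoid.End G) (hX : (X + 1) ^ p = 1)
    (hXX : X * X ∈ Dv p G 1) : p • X ∈ Dv p G 2 := by
  obtain ⟨q, rfl⟩ : ∃ q, p = q + 2 := ⟨p - 2, by omega⟩
  have hcomm : Commute X (1 : AddMonoid.End G) := Commute.one_right X
  have h1 := hcomm.add_pow (q + 2)
  rw [hX, Finset.sum_range_succ, Finset.sum_range_succ', Finset.sum_range_succ'] at h1
  simp only [one_pow, mul_one, pow_zero, Nat.choose_zero_right, Nat.cast_one, Nat.sub_self, zero_add,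
    Nat.choose_one_right, pow_one, Nat.choose_self] at h1
  -- h1 : 1 = Σ_{m<q} X^(m+2) * choose (q+2) (m+2) + X * (q+2) + 1 + X^(q+2)
  have hX4 : X * X * (X * X) ∈ Dv (q + 2) G 2 := Dv_mul hXX hXX
  have hXp : X ^ (q + 2) ∈ Dv (q + 2) G 2 := by
    have e : X ^ (q + 2) = X * X * (X * X) * X ^ (q + 2 - 4) := by
      have h4 : X * X * (X * X) = X ^ 4 := by simp [pow_succ, mul_assoc]
      rw [h4, ← pow_add]
      congr 1
      omega
    rw [e]
    exact Dv_mul_right hX4 _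
  have hsum : ∑ m ∈ range q, X ^ (m + 1 + 1) * ((q + 2).choose (m + 1 + 1) : AddMonoid.End G) ∈ Dv (q + 2) G 2 := by
    apply AddSubgroup.sum_mem
    intro m hm
    rw [Finset.mem_range] at hm
    have hdvd : (q + 2) ∣ (q + 2).choose (m + 1 + 1) := hp.dvd_choose_self (by omega) (by omega)
    obtain ⟨c, hc⟩ := hdvd
    have e : X ^ (m + 1 + 1) * ((q + 2).choose (m + 1 + 1) : AddMonoid.End G) =
        (q + 2) • ((X * X) * (X ^ m * (c : AddMonoid.End G))) := by
      rw [hc, Nat.cast_mul, nsmul_eq_mul]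
      have e2 : X ^ (m + 1 + 1) = X * X * X ^ m := by
        rw [← pow_two, ← pow_add]
        congr 1
        omega
      rw [e2]
      have hc1 : Commute ((q + 2 : ℕ) : AddMonoid.End G) (X * X * X ^ m) := Nat.cast_commute _ _
      calc X * X * X ^ m * (((q + 2 : ℕ) : AddMonoid.End G) * (c : AddMonoid.End G))
          = (X * X * X ^ m * ((q + 2 : ℕ) : AddMonoid.End G)) * (c : AddMonoid.End G) := (mul_assoc _ _ _).symm
        _ = (((q + 2 : ℕ) : AddMonoid.End G) * (X * X * X ^ m)) * (c : AddMonoid.End G) := by rw [hc1.eq]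
        _ = ((q + 2 : ℕ) : AddMonoid.End G) * (X * X * (X ^ m * (c : AddMonoid.End G))) := by
            rw [mul_assoc, mul_assoc, mul_assoc]
    rw [e]
    exact Dv_nsmul (Dv_mul_right hXX _)
  have e3 : (q + 2) • X = -(∑ m ∈ range q, X ^ (m + 1 + 1) * ((q + 2).choose (m + 1 + 1) : AddMonoid.End G) +
      X ^ (q + 2)) := by
    have h2 : X * ((q + 2 : ℕ) : AddMonoid.End G) = (q + 2) • X := by
      rw [nsmul_eq_mul]
      exact ((Nat.cast_commute (q + 2) X).eq).symm
    rw [h2] at h1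
    have h3 : (0 : AddMonoid.End G) = ∑ m ∈ range q, X ^ (m + 1 + 1) * ((q + 2).choose (m + 1 + 1) : AddMonoid.End G) +
        (q + 2) • X + X ^ (q + 2) := by
      have h4 := congrArg (fun t => t - 1) h1
      simp only [sub_self] at h4
      rw [h4]
      abel
    rw [eq_neg_iff_add_eq_zero, h3]
    abel
  rw [e3]
  exact AddSubgroup.neg_mem _ (AddSubgroup.add_mem _ hsum hXp)

end Ring

end Cfsg.Agent.Lib.Helper26
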