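import Cfsg.Agent.Lib.Helper26.AbRankTwoB
import Cfsg.Agent.S0012
import Cfsg.Agent.S0013

/-!
Finite abelian `p`-groups of rank two, part C: the chain `℧_1 ≤ M ≤ H`, the Frattini subgroup, the characteristic
subgroups `M_i`, and cardinalities.
-/

set_option autoImplicit false

namespace Cfsg.Agent.Lib.Helper26

section

variable {H : Type*} [CommGroup H]

/-- The three-term chain `N ≤ M ≤ ⊤`. -/
def chain3 (N M : Subgroup H) : ℕ → Subgroup H
  | 0 => N
  | 1 => M
  | _ => ⊤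

theorem chain3_mono {N M : Subgroup H} (h : N ≤ M) : Monotone (chain3 N M) := by
  apply monotone_nat_of_le_succ
  intro n
  match n with
  | 0 => exact h
  | 1 => exact le_top
  | (n + 2) => exact le_rfl

/-- An automorphism stabilising `℧_1 ≤ M ≤ H` has `p`-th power acting trivially modulo `℧_1`. -/
theorem pow_p_of_chain3 {p : ℕ} {M : Subgroup H} (hM : agemo p H 1 ≤ M) {b : MulAut H}
    (hb : b ∈ chainStab (chain3 (agemo p H 1) M) (chain3_mono hM)) :
    ∀ x, x⁻¹ * (b ^ p) x ∈ agemo p H 1 := by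
  obtain ⟨hinv, hstep⟩ := hb
  have h0 : ∀ x ∈ M, x⁻¹ * b x ∈ agemo p H 1 := hstep 0
  have h1 : ∀ x, x⁻¹ * b x ∈ M := fun x => hstep 1 x (Subgroup.mem_top x)
  have hinv0 : ∀ x, x ∈ agemo p H 1 ↔ b x ∈ agemo p H 1 := hinv 0
  intro x
  have key : ∀ j : ℕ, ∃ d ∈ agemo p H 1, (b ^ j) x = x * (x⁻¹ * b x) ^ j * d := by
    intro j
    induction j with
    | zero => exact ⟨1, one_mem _, by simp⟩
    | succ j ih =>
      obtain ⟨d, hd, hj⟩ := ih
      obtain ⟨m, hm⟩ : ∃ m, m = x⁻¹ * b x := ⟨_, rfl⟩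
      have hmM : m ∈ M := hm ▸ h1 x
      obtain ⟨c, hc⟩ : ∃ c, c = m⁻¹ * b m := ⟨_, rfl⟩
      have hcN : c ∈ agemo p H 1 := hc ▸ h0 m hmM
      refine ⟨c ^ j * b d, mul_mem (pow_mem hcN j) ((hinv0 d).mp hd), ?_⟩
      have hbx : b x = x * m := by rw [hm, mul_inv_cancel_left]
      have hbm : b m = m * c := by rw [hc, mul_inv_cancel_left]
      rw [pow_succ', MulAut.mul_apply, hj, map_mul, map_mul, map_pow, ← hm, hbx, hbm, mul_pow, pow_succ]
      simp only [mul_assoc, mul_comm]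
  obtain ⟨d, hd, hj⟩ := key p
  rw [hj]
  have : x⁻¹ * (x * (x⁻¹ * b x) ^ p * d) = (x⁻¹ * b x) ^ p * d := by
    rw [mul_assoc, inv_mul_cancel_left]
  rw [this]
  exact mul_mem (mem_agemo.mpr ⟨x⁻¹ * b x, by rw [pow_one]⟩) hd

variable [Finite H] {p : ℕ} [Fact p.Prime]

/-- **Key lemma**: in a group `A` of automorphisms with trivial `p`-core, an element acting trivially on the factors
of an `A`-invariant chain `℧_1 ≤ M ≤ H` is trivial. -/
theorem eq_one_of_chain3 (hH : IsPGroup p H) {A : Subgroup (MulAut H)}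
    (hcore : ∀ N : Subgroup A, N.Normal → IsPGroup p N → N = ⊥)
    {M : Subgroup H} (hM : agemo p H 1 ≤ M) (hMinv : ∀ γ ∈ A, ∀ x, x ∈ M ↔ γ x ∈ M)
    {u : MulAut H} (huA : u ∈ A) (hu1 : ∀ x, x⁻¹ * u x ∈ M) (hu0 : ∀ x ∈ M, x⁻¹ * u x ∈ agemo p H 1) :
    u = 1 := by
  have hinv : ∀ γ ∈ A, ∀ i x, x ∈ chain3 (agemo p H 1) M i ↔ γ x ∈ chain3 (agemo p H 1) M i := by
    intro γ hγ i x
    match i with
    | 0 => exact agemo_aut γ 1 x
    | 1 => exact hMinv γ hγ x
    | (n + 2) => exact ⟨fun _ => Subgroup.mem_top _, fun _ => Subgroup.mem_top _⟩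
  have hn := chainStab_inf_normal _ (chain3_mono hM) A hinv
  have hp : IsPGroup p ↥((chainStab _ (chain3_mono hM) ⊓ A).subgroupOf A) := by
    rintro ⟨⟨b, hbA⟩, hb⟩
    rw [Subgroup.mem_subgroupOf] at hb
    obtain ⟨j, hj⟩ := burnside_abelian hH (b ^ p) (pow_p_of_chain3 hM hb.1)
    refine ⟨j + 1, ?_⟩
    apply Subtype.ext
    apply Subtype.ext
    show b ^ (p ^ (j + 1)) = 1
    rw [pow_succ', pow_mul]
    exact hj
  have hbot := hcore _ hn hp
  have hmem : (⟨u, huA⟩ : A) ∈ (chainStab _ (chain3_mono hM) ⊓ A).subgroupOf A := by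
    rw [Subgroup.mem_subgroupOf]
    refine ⟨⟨hinv u huA, ?_⟩, huA⟩
    intro i x hx
    match i with
    | 0 => exact hu0 x hx
    | 1 => exact hu1 x
    | (n + 2) => exact Subgroup.mem_top _
  rw [hbot, Subgroup.mem_bot] at hmem
  exact congrArg Subtype.val hmem

/-- The Frattini subgroup of a finite abelian `p`-group is `℧_1`. -/
theorem frattini_eq_agemo (hH : IsPGroup p H) : frattini H = agemo p H 1 := by
  apply le_antisymm
  · apply Cfsg.Agent.S0013.result p hH (agemo p H 1)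
    · rw [commutator_def, Subgroup.commutator_le]
      intro a _ b _
      rw [(commutatorElement_eq_one_iff_commute).mpr (Commute.all a b)]
      exact one_mem _
    · intro x
      exact mem_agemo.mpr ⟨x, by rw [pow_one]⟩
  · rintro x ⟨h, rfl⟩
    rw [powMonoidHom_apply, pow_one]
    exact (Cfsg.Agent.S0012.result p hH).2 h

end

section Mi

variable {H : Type*} [CommGroup H]

/-- `M_i = {x | x^(p^i) ∈ ℧_{i+1}}`. -/
def Mi (p : ℕ) (H : Type*) [CommGroup H] (i : ℕ) : Subgroup H :=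
  (agemo p H (i + 1)).comap (powMonoidHom (p ^ i) : H →* H)

theorem mem_Mi {p i : ℕ} {x : H} : x ∈ Mi p H i ↔ x ^ (p ^ i) ∈ agemo p H (i + 1) := Iff.rfl

theorem agemo_one_le_Mi (p i : ℕ) : agemo p H 1 ≤ Mi p H i := by
  rintro x ⟨g, rfl⟩
  rw [mem_Mi, powMonoidHom_apply, ← pow_mul, pow_one, ← pow_succ']
  exact mem_agemo.mpr ⟨g, rfl⟩

theorem Mi_aut {p : ℕ} (α : MulAut H) (i : ℕ) (x : H) : x ∈ Mi p H i ↔ α x ∈ Mi p H i := by
  rw [mem_Mi, mem_Mi, ← map_pow]
  exact agemo_aut α (i + 1) _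

theorem index_Mi (p i : ℕ) : (Mi p H i).index = (agemo p H (i + 1)).relIndex (agemo p H i) := by
  have hsurj : Function.Surjective ((powMonoidHom (p ^ i) : H →* H).rangeRestrict) :=
    MonoidHom.rangeRestrict_surjective _
  have h1 := Subgroup.index_comap_of_surjective
    (((agemo p H (i + 1)).subgroupOf (agemo p H i))) hsurj
  show (Mi p H i).index = ((agemo p H (i + 1)).subgroupOf (agemo p H i)).index
  rw [← h1]
  rfl

theorem agemo_succ_eq_map (p j : ℕ) : agemo p H (j + 1) = (agemo p H j).map (powMonoidHom p : H →* H) := by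
  ext x
  rw [Subgroup.mem_map]
  constructor
  · rintro ⟨g, rfl⟩
    refine ⟨g ^ (p ^ j), mem_agemo.mpr ⟨g, rfl⟩, ?_⟩
    rw [powMonoidHom_apply, powMonoidHom_apply, ← pow_mul, ← pow_succ]
  · rintro ⟨y, ⟨g, rfl⟩, rfl⟩
    rw [powMonoidHom_apply, powMonoidHom_apply, ← pow_mul, ← pow_succ]
    exact mem_agemo.mpr ⟨g, rfl⟩

theorem agemo_eq_of_eq_succ {p i : ℕ} (h : agemo p H i = agemo p H (i + 1)) (j : ℕ) :
    agemo p H (i + j) = agemo p H i := by
  induction j with
  | zero => rfl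
  | succ j ih =>
    rw [← add_assoc, agemo_succ_eq_map, ih, ← agemo_succ_eq_map]
    exact h.symm

theorem Mi_ne_top {p i k : ℕ} (hk : agemo p H k = ⊥) (hi : agemo p H i ≠ ⊥) : Mi p H i ≠ ⊤ := by
  intro htop
  have hle : agemo p H i ≤ agemo p H (i + 1) := by
    rintro x ⟨g, rfl⟩
    have : g ∈ Mi p H i := htop ▸ Subgroup.mem_top g
    exact this
  have heq : agemo p H i = agemo p H (i + 1) := le_antisymm hle (agemo_succ_le p i)
  apply hi
  rcases le_total k i with hki | hik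
  · exact le_bot_iff.mp (hk ▸ agemo_anti p hki)
  · have := agemo_eq_of_eq_succ heq (k - i)
    rw [Nat.add_sub_cancel' hik, hk] at this
    exact this.symm

end Mi

section Card

variable {H : Type*} [Group H] [Finite H] {p : ℕ} [Fact p.Prime]

theorem card_lt_of_le_of_ne' {A B : Subgroup H} (hAB : A ≤ B) (hne : A ≠ B) : Nat.card A < Nat.card B := by
  rcases (Subgroup.card_le_of_le hAB).lt_or_eq with h | h
  · exact h
  · exact absurd (Subgroup.eq_of_le_of_card_ge hAB h.ge) hne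

/-- A subgroup strictly between a subgroup of index `p²` and the whole `p`-group has index `p` over and under. -/
theorem card_mid (hH : IsPGroup p H) {N M : Subgroup H} (hNM : N ≤ M) (hne : N ≠ M) (hMtop : M ≠ ⊤)
    (hidx : N.index = p ^ 2) : Nat.card M = p * Nat.card N ∧ Nat.card (⊤ : Subgroup H) = p * Nat.card M := by
  have hpp : p.Prime := Fact.out
  obtain ⟨a, ha⟩ := (hH.to_subgroup N).exists_card_eq
  obtain ⟨b, hb⟩ := (hH.to_subgroup M).exists_card_eq
  have hcard : Nat.card H = p ^ (a + 2) := by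
    rw [← Subgroup.card_mul_index N, ha, hidx, pow_add]
  have h1 : Nat.card N < Nat.card M := card_lt_of_le_of_ne' hNM hne
  have h2 : Nat.card M < Nat.card (⊤ : Subgroup H) := card_lt_of_le_of_ne' le_top hMtop
  rw [Subgroup.card_top] at h2 ⊢
  rw [ha, hb] at h1
  rw [hb, hcard] at h2
  have h3 : a < b := (Nat.pow_lt_pow_iff_right hpp.one_lt).mp h1
  have h4 : b < a + 2 := (Nat.pow_lt_pow_iff_right hpp.one_lt).mp h2
  have h5 : b = a + 1 := by omega
  rw [hb, ha, hcard, h5]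
  constructor
  · rw [pow_succ, mul_comm]
  · rw [pow_succ, mul_comm]

end Card

end Cfsg.Agent.Lib.Helper26
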