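import Cfsg.Agent.Lib.Helper26.AbRankTwoC
import Cfsg.Agent.S0014

/-!
Finite abelian `p`-groups of rank two, part D: the homocyclic case (cardinalities and the isomorphism with
`C_{p^k} × C_{p^k}`).
-/

set_option autoImplicit false

namespace Cfsg.Agent.Lib.Helper26

section Homocyclic

variable {H : Type*} [CommGroup H] [Finite H] {p : ℕ} [Fact p.Prime]

/-- If all `M_i` (`i < k`) coincide with `℧_1` of index `p²`, then `|℧_{k-j}| = p^(2j)`. -/
theorem card_agemo_of_Mi (hidx : (agemo p H 1).index = p ^ 2) {k : ℕ} (hk : agemo p H k = ⊥)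
    (hM : ∀ i < k, Mi p H i = agemo p H 1) : ∀ j ≤ k, Nat.card (agemo p H (k - j)) = p ^ (2 * j) := by
  intro j
  induction j with
  | zero =>
    intro _
    rw [Nat.sub_zero, hk, Subgroup.card_bot, Nat.mul_zero, pow_zero]
  | succ j ih =>
    intro hj
    have hi : k - (j + 1) < k := by omega
    have h1 := index_Mi (H := H) p (k - (j + 1))
    rw [hM _ hi, hidx] at h1
    have e : k - (j + 1) + 1 = k - j := by omega
    rw [e] at h1
    have h2 := Subgroup.relIndex_mul_relIndex (H := (⊥ : Subgroup H)) (K := agemo p H (k - j))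
      (L := agemo p H (k - (j + 1))) bot_le (e ▸ agemo_succ_le p (k - (j + 1)))
    rw [Subgroup.relIndex_bot_left, Subgroup.relIndex_bot_left, ← h1, ih (by omega)] at h2
    rw [← h2, ← pow_add]
    congr 1

theorem card_of_Mi (hidx : (agemo p H 1).index = p ^ 2) {k : ℕ} (hk : agemo p H k = ⊥)
    (hM : ∀ i < k, Mi p H i = agemo p H 1) : Nat.card H = p ^ (2 * k) := by
  have := card_agemo_of_Mi hidx hk hM k le_rfl
  rw [Nat.sub_self, agemo_zero, Subgroup.card_top] at this
  exact this

/-- A two-generated abelian group of order `p^(2k)` and exponent dividing `p^k` is `C_{p^k} × C_{p^k}`. -/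
theorem exists_iso_homocyclic (hH : IsPGroup p H) {k : ℕ} (hk : agemo p H k = ⊥)
    (hcard : Nat.card H = p ^ (2 * k)) (hfr : (frattini H).index = p ^ 2) :
    Nonempty (H ≃* Multiplicative (ZMod (p ^ k) × ZMod (p ^ k))) := by
  classical
  have hpp : p.Prime := Fact.out
  letI : Fintype H := Fintype.ofFinite H
  haveI : NeZero (p ^ k) := ⟨pow_ne_zero _ hpp.ne_zero⟩
  obtain ⟨T, -, hT2, hTgen⟩ := (Cfsg.Agent.S0014.result p 2 hH hfr).1 Finset.univ
    (by rw [Finset.coe_univ, Subgroup.closure_univ])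
  obtain ⟨x, y, -, rfl⟩ := Finset.card_eq_two.mp hT2
  have hexp : ∀ z : H, z ^ (p ^ k) = 1 := by
    intro z
    have : z ^ (p ^ k) ∈ agemo p H k := mem_agemo.mpr ⟨z, rfl⟩
    rw [hk, Subgroup.mem_bot] at this
    exact this
  have hz : ∀ z : H, (zmultiplesHom (Additive H) (Additive.ofMul z)) ((p ^ k : ℕ) : ℤ) = 0 := by
    intro z
    rw [zmultiplesHom_apply, natCast_zsmul, ← ofMul_pow, hexp z, ofMul_one]
  let fz : H → (ZMod (p ^ k) →+ Additive H) := fun z =>
    ZMod.lift (p ^ k) ⟨zmultiplesHom (Additive H) (Additive.ofMul z), hz z⟩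
  have hfz : ∀ z : H, fz z 1 = Additive.ofMul z := by
    intro z
    have := ZMod.lift_coe (p ^ k) ⟨zmultiplesHom (Additive H) (Additive.ofMul z), hz z⟩ 1
    rw [Int.cast_one] at this
    show (ZMod.lift (p ^ k) ⟨zmultiplesHom (Additive H) (Additive.ofMul z), hz z⟩) 1 = _
    rw [this]
    show (zmultiplesHom (Additive H) (Additive.ofMul z)) 1 = _
    rw [zmultiplesHom_apply, one_zsmul]
  let ψ : Multiplicative (ZMod (p ^ k) × ZMod (p ^ k)) →* H :=
    AddMonoidHom.toMultiplicativeLeft (AddMonoidHom.coprod (fz x) (fz y))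
  have hψx : ψ (Multiplicative.ofAdd (1, 0)) = x := by
    show ((AddMonoidHom.coprod (fz x) (fz y)) (1, 0)).toMul = x
    rw [AddMonoidHom.coprod_apply]
    show (fz x 1 + fz y 0).toMul = x
    rw [map_zero, add_zero, hfz]
    rfl
  have hψy : ψ (Multiplicative.ofAdd (0, 1)) = y := by
    show ((AddMonoidHom.coprod (fz x) (fz y)) (0, 1)).toMul = y
    rw [AddMonoidHom.coprod_apply]
    show (fz x 0 + fz y 1).toMul = y
    rw [map_zero, zero_add, hfz]
    rfl
  have hrange : ψ.range = ⊤ := by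
    rw [eq_top_iff, ← hTgen, Subgroup.closure_le]
    intro z hz
    rw [Finset.coe_insert, Finset.coe_singleton] at hz
    rcases hz with rfl | hz
    · exact ⟨_, hψx⟩
    · rw [Set.mem_singleton_iff] at hz
      subst hz
      exact ⟨_, hψy⟩
  have hsurj : Function.Surjective ψ := MonoidHom.range_eq_top.mp hrange
  have hcardZ : Nat.card (Multiplicative (ZMod (p ^ k) × ZMod (p ^ k))) = p ^ (2 * k) := by
    rw [Nat.card_congr Multiplicative.toAdd, Nat.card_prod, Nat.card_zmod, ← pow_add, two_mul]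
  have hbij : Function.Bijective ψ := hsurj.bijective_of_nat_card_le (by rw [hcardZ, hcard])
  exact ⟨(MulEquiv.ofBijective ψ hbij).symm⟩

end Homocyclic

end Cfsg.Agent.Lib.Helper26
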