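import Cfsg.Agent.Lib.Helper26.AbRankTwoD

/-!
Finite abelian `p`-groups of rank two, part E: the case `p ≥ 5` and the main theorem.
-/

set_option autoImplicit false

namespace Cfsg.Agent.Lib.Helper26

open Finset

section Ring

variable {G : Type*} [AddCommGroup G]

theorem Dv_zero (p : ℕ) (f : AddMonoid.End G) : f ∈ Dv p G 0 :=
  fun g => ⟨f g, by rw [pow_zero, one_nsmul]⟩

/-- If `(1 + X)^p = 1` then `X^p` has image in `pG`. -/
theorem Dv_one_of_pow_eq_one {p : ℕ} (hp : p.Prime) (X : AddMonoid.End G) (hX : (X + 1) ^ p = 1) :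
    X ^ p ∈ Dv p G 1 := by
  obtain ⟨q, rfl⟩ : ∃ q, p = q + 1 := ⟨p - 1, by have := hp.two_le; omega⟩
  have hcomm : Commute X (1 : AddMonoid.End G) := Commute.one_right X
  have h1 := hcomm.add_pow (q + 1)
  rw [hX, Finset.sum_range_succ, Finset.sum_range_succ'] at h1
  simp only [one_pow, mul_one, pow_zero, Nat.choose_zero_right, Nat.cast_one, Nat.sub_self,
    Nat.choose_self] at h1
  have hsum : ∑ m ∈ range q, X ^ (m + 1) * ((q + 1).choose (m + 1) : AddMonoid.End G) ∈ Dv (q + 1) G 1 := by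
    apply AddSubgroup.sum_mem
    intro m hm
    rw [Finset.mem_range] at hm
    have hdvd : (q + 1) ∣ (q + 1).choose (m + 1) := hp.dvd_choose_self (by omega) (by omega)
    obtain ⟨c, hc⟩ := hdvd
    have e : X ^ (m + 1) * ((q + 1).choose (m + 1) : AddMonoid.End G) =
        (q + 1) • (X ^ (m + 1) * (c : AddMonoid.End G)) := by
      rw [hc, Nat.cast_mul, nsmul_eq_mul]
      have hc1 : Commute ((q + 1 : ℕ) : AddMonoid.End G) (X ^ (m + 1)) := Nat.cast_commute _ _
      rw [← mul_assoc, ← mul_assoc, hc1.eq]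
    rw [e]
    exact Dv_nsmul (Dv_zero _ _)
  have e3 : X ^ (q + 1) = -(∑ m ∈ range q, X ^ (m + 1) * ((q + 1).choose (m + 1) : AddMonoid.End G)) := by
    have h4 := congrArg (fun t => t - 1) h1
    simp only [sub_self] at h4
    rw [eq_neg_iff_add_eq_zero, h4]
    abel
  rw [e3]
  exact AddSubgroup.neg_mem _ hsum

end Ring

section Additive

variable {H : Type*} [CommGroup H]

/-- The additive endomorphism attached to an automorphism. -/
def addEnd (u : MulAut H) : AddMonoid.End (Additive H) := MonoidHom.toAdditive (u : H →* H)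

theorem addEnd_apply (u : MulAut H) (h : H) : addEnd u (Additive.ofMul h) = Additive.ofMul (u h) := rfl

theorem addEnd_pow (u : MulAut H) (j : ℕ) : (addEnd u) ^ j = addEnd (u ^ j) := by
  induction j with
  | zero => rfl
  | succ j ih =>
    rw [pow_succ, ih]
    rfl

theorem mem_Dv_iff {p j : ℕ} {f : AddMonoid.End (Additive H)} :
    f ∈ Dv p (Additive H) j ↔ ∀ h : H, (f (Additive.ofMul h)).toMul ∈ agemo p H j := by
  constructor
  · intro hf h
    obtain ⟨g', hg'⟩ := hf (Additive.ofMul h)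
    rw [hg']
    exact mem_agemo.mpr ⟨g'.toMul, rfl⟩
  · intro hf g
    obtain ⟨h', hh'⟩ := mem_agemo.mp (hf g.toMul)
    refine ⟨Additive.ofMul h', ?_⟩
    have : f g = Additive.ofMul (h' ^ p ^ j) := by
      rw [hh']
      rfl
    rw [this]
    rfl

theorem addEnd_sub_one_apply (u : MulAut H) (h : H) :
    (addEnd u - 1) (Additive.ofMul h) = Additive.ofMul (h⁻¹ * u h) := by
  show addEnd u (Additive.ofMul h) - Additive.ofMul h = _
  rw [addEnd_apply, ← ofMul_div, div_eq_mul_inv, mul_comm]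

end Additive

section Main

variable {H : Type*} [CommGroup H] [Finite H] {p : ℕ} [Fact p.Prime]

/-- For `p ≥ 5`, if `M_1 = ℧_1` has index `p²`, then an element of order dividing `p` in a group of automorphisms
with trivial `p`-core is trivial. -/
theorem eq_one_of_homocyclic (hH : IsPGroup p H) (hp5 : 5 ≤ p) {A : Subgroup (MulAut H)}
    (hcore : ∀ N : Subgroup A, N.Normal → IsPGroup p N → N = ⊥) (hidx : (agemo p H 1).index = p ^ 2)
    (hM1 : Mi p H 1 = agemo p H 1) {u : MulAut H} (huA : u ∈ A) (hu : u ^ p = 1) : u = 1 := by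
  have hpp : p.Prime := Fact.out
  by_contra hne
  -- the subgroup `M_u`
  let f : H →* H := (MonoidHom.id H)⁻¹ * (u : H →* H)
  have hf : ∀ h, f h = h⁻¹ * u h := fun h => rfl
  obtain ⟨Mu, hMu⟩ : ∃ Mu : Subgroup H, Mu = (agemo p H 1).comap f := ⟨_, rfl⟩
  have hmem : ∀ h, h ∈ Mu ↔ h⁻¹ * u h ∈ agemo p H 1 := by
    intro h
    rw [hMu, Subgroup.mem_comap, hf]
  have hle : agemo p H 1 ≤ Mu := by
    rintro c ⟨g, rfl⟩
    rw [hmem, powMonoidHom_apply, map_pow, ← inv_pow, ← mul_pow]
    exact mem_agemo.mpr ⟨g⁻¹ * u g, rfl⟩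
  have hMuinv : ∀ x, x ∈ Mu ↔ u x ∈ Mu := by
    intro x
    rw [hmem, hmem, ← map_inv, ← map_mul]
    exact agemo_aut u 1 _
  have hMutop : Mu ≠ ⊤ := by
    intro htop
    apply hne
    apply eq_one_of_chain3 hH hcore (M := ⊤) le_top
      (fun γ _ x => ⟨fun _ => Subgroup.mem_top _, fun _ => Subgroup.mem_top _⟩) huA
      (fun x => Subgroup.mem_top _)
    intro x _
    rw [← hmem, htop]
    exact Subgroup.mem_top x
  -- the endomorphism `X = u - 1`
  obtain ⟨X, hXdef⟩ : ∃ X : AddMonoid.End (Additive H), X = addEnd u - 1 := ⟨_, rfl⟩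
  have hXapp : ∀ h : H, X (Additive.ofMul h) = Additive.ofMul (h⁻¹ * u h) := by
    intro h
    rw [hXdef]
    exact addEnd_sub_one_apply u h
  have hXp : (X + 1) ^ p = 1 := by
    rw [hXdef, sub_add_cancel, addEnd_pow, hu]
    rfl
  have hMune : agemo p H 1 ≠ Mu := by
    intro heq
    have hstep : ∀ h, h⁻¹ * u h ∈ agemo p H 1 → h ∈ agemo p H 1 := by
      intro h hh
      rw [heq, hmem]
      exact hh
    have hXpp := mem_Dv_iff.mp (Dv_one_of_pow_eq_one hpp X hXp)
    have hind : ∀ j : ℕ, ∀ h : H, ((X ^ j) (Additive.ofMul h)).toMul ∈ agemo p H 1 → h ∈ agemo p H 1 := by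
      intro j
      induction j with
      | zero =>
        intro h hh
        exact hh
      | succ j ih =>
        intro h hh
        apply hstep
        apply ih
        have : (X ^ (j + 1)) (Additive.ofMul h) = (X ^ j) (Additive.ofMul (h⁻¹ * u h)) := by
          rw [pow_succ, ← hXapp]
          rfl
        rw [← this]
        exact hh
    have htop : agemo p H 1 = ⊤ := by
      rw [eq_top_iff]
      intro h _
      exact hind p h (hXpp h)
    rw [htop, Subgroup.index_top] at hidx
    have : 1 < p ^ 2 := Nat.one_lt_pow (by norm_num) hpp.one_lt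
    omega
  obtain ⟨-, hc2⟩ := card_mid hH hle hMune hMutop hidx
  have htriv := triv_on_section (⊤ : Subgroup H) Mu le_top hc2 u
    (fun x => ⟨fun _ => Subgroup.mem_top _, fun _ => Subgroup.mem_top _⟩) hMuinv hu
  have hXX : X * X ∈ Dv p (Additive H) 1 := by
    rw [mem_Dv_iff]
    intro h
    show (X (X (Additive.ofMul h))).toMul ∈ agemo p H 1
    rw [hXapp, hXapp]
    have := htriv h (Subgroup.mem_top h)
    rw [hmem] at this
    exact this
  have h2 := mem_Dv_iff.mp (Dv_two_of_pow_eq_one hpp hp5 X hXp hXX)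
  apply hMutop
  rw [eq_top_iff]
  intro h _
  rw [hmem, ← hM1, mem_Mi, pow_one]
  have := h2 h
  have e : (p • X) (Additive.ofMul h) = Additive.ofMul ((h⁻¹ * u h) ^ p) := by
    show p • (X (Additive.ofMul h)) = _
    rw [hXapp]
    rfl
  rw [e] at this
  exact this

end Main

end Cfsg.Agent.Lib.Helper26
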