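import Mathlib
import Cfsg.Prelude.Def_Blocks
import Cfsg.Agent.S4708
import Cfsg.Agent.Lib.Helper6.Clifford
import Cfsg.Agent.Lib.Helper6.Gallagher
import Cfsg.Agent.Lib.Helper6.Gallagher2
import Cfsg.Agent.Lib.Helper24.LocalRing
import Cfsg.Agent.Lib.Helper4.AlpDadeL1
import Cfsg.Agent.Lib.Helper24.AlpDadeL2

/-!
# S4551 leaf L4b (helper26): two members of the principal block of `G` with the same irreducible
restriction to `N` are equal (`eq_of_resFun_eq`, planner helper17's exact name and binders).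
`eq_of_resFun_eq_core` is the same statement with the outputs of L1, L2, L2' as hypotheses.
-/

set_option autoImplicit false

namespace Cfsg.Agent.Lib.Helper26.AlpDade

open Cfsg Cfsg.Agent.Lib.Helper6 Cfsg.Agent.CharLib Cfsg.Agent.Lib.Helper24

universe u
variable {G : Type u} [Group G] [Finite G]

/-- Core of L4b with the outputs of L1, L2, L2' as hypotheses. -/
theorem eq_of_resFun_eq_core (p : ℕ) [Fact p.Prime] (M : Ideal AlgInt) (hM : IsPModular p M)
    (N : Subgroup G) [N.Normal] (P : Sylow p G)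
    (hL1 : ∀ g : G, ∃ c ∈ Subgroup.centralizer ((P : Subgroup G) : Set G),
      ¬ p ∣ orderOf c ∧ c⁻¹ * g ∈ N)
    (hL2 : ∀ χ : IrrCharacter G, χ ∈ principalBlock M G →
      ∀ c ∈ Subgroup.centralizer ((P : Subgroup G) : Set G),
        MemLocalIdeal M (1 - (χ : G → ℂ) c / (χ : G → ℂ) 1) ∧ (χ : G → ℂ) c ≠ 0)
    (hL2' : ∀ (ζ : ℂ) (m : ℕ), ¬ p ∣ m → ζ ^ m = 1 → MemLocalIdeal M (1 - ζ) → ζ = 1)
    (χ χ' : IrrCharacter G) (hχ : χ ∈ principalBlock M G) (hχ' : χ' ∈ principalBlock M G)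
    (hirr : IsIrrCharacter N (resFun N (χ : G → ℂ)))
    (heq : resFun N (χ : G → ℂ) = resFun N (χ' : G → ℂ)) : χ = χ' := by
  classical
  have : Fintype G := Fintype.ofFinite G
  have : Fintype N := Fintype.ofFinite N
  have hprime : M.IsPrime := isPrime_of_isPModular hM
  have hχcf : IsClassFunction G (χ : G → ℂ) :=
    IsCharacter.isClassFunction (IsIrrCharacter.isCharacter χ.2)
  have hχ'cf : IsClassFunction G (χ' : G → ℂ) :=
    IsCharacter.isClassFunction (IsIrrCharacter.isCharacter χ'.2)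
  -- Gallagher with φ = 1
  have h1irr : IsIrrCharacter N (1 : N → ℂ) := isIrrCharacter_one N
  have h1inv : ∀ g : G, conjFun N g (1 : N → ℂ) = 1 := by
    intro g; funext n; rw [conjFun_apply]; rfl
  have hprod : (1 : N → ℂ) * resFun N (χ : G → ℂ) = resFun N (χ : G → ℂ) := one_mul _
  have hθinv : ∀ g : G, conjFun N g (resFun N (χ : G → ℂ)) = resFun N (χ : G → ℂ) :=
    fun g => conjFun_resFun N hχcf g
  have hb := mul_bijOn N h1irr h1inv (by rw [hprod]; exact hirr) (by rw [hprod]; exact hθinv)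
    χ.2 (rfl : resFun N (χ : G → ℂ) = resFun N (χ : G → ℂ))
  have htarget : (χ' : G → ℂ) ∈ {ψ | IsIrrCharacter G ψ ∧
      classInner (indFun N ((1 : N → ℂ) * resFun N (χ : G → ℂ))) ψ ≠ 0} := by
    refine ⟨χ'.2, ?_⟩
    rw [hprod, frobenius_reciprocity N _ hχ'cf]
    have : (fun h : N => (χ' : G → ℂ) h) = resFun N (χ : G → ℂ) := by rw [heq]; rfl
    rw [this, classInner_irr hirr hirr, if_pos rfl]
    exact one_ne_zero
  obtain ⟨β, ⟨hβirr, hβ1⟩, hβχ⟩ := hb.surjOn htarget
  have hβχ' : ∀ g : G, β g * (χ : G → ℂ) g = (χ' : G → ℂ) g := fun g => congrFun hβχ g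
  -- degrees
  obtain ⟨a, hapos, ha⟩ := IsIrrCharacter.apply_one_pos χ.2
  have hχ1 : (χ : G → ℂ) 1 ≠ 0 := by rw [ha]; exact_mod_cast hapos.ne'
  have h11 : (χ' : G → ℂ) 1 = (χ : G → ℂ) 1 := by
    have := congrFun heq (1 : N)
    simpa [resFun_apply] using this.symm
  have hβone : β 1 = 1 := by
    have := hβχ' 1
    rw [h11] at this
    exact mul_right_cancel₀ hχ1 (by rw [this, one_mul])
  have hβc : IsCharacter G β := IsIrrCharacter.isCharacter hβirr
  have hβN := (apply_mul_of_indFun_one_ne_zero N hβirr hβ1).2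
  -- β = 1 everywhere
  have hβall : ∀ g : G, β g = 1 := by
    intro g
    obtain ⟨c, hcC, hcp, hcN⟩ := hL1 g
    have hgc : β g = β c := by
      have hm : g * c⁻¹ ∈ N := by
        have := (inferInstance : N.Normal).conj_mem _ hcN c
        simpa [mul_assoc] using this
      have := hβN ⟨g * c⁻¹, hm⟩ c
      simpa [mul_assoc] using this
    rw [hgc]
    obtain ⟨hI, hne⟩ := hL2 χ hχ c hcC
    obtain ⟨hI', -⟩ := hL2 χ' hχ' c hcC
    rw [h11] at hI'
    have hroot : β c ^ orderOf c = 1 := by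
      have := map_pow (linCharHom hβc hβone) c (orderOf c)
      rw [pow_orderOf_eq_one, map_one] at this
      exact this.symm
    have hint : IsIntegral ℤ (β c) := by
      apply IsIntegral.of_pow (orderOf_pos c)
      rw [hroot]; exact isIntegral_one
    have hR : MemLocalRing M (β c) :=
      memLocalRing_of_algInt (M := M) ⟨β c, hint⟩ hprime.one_notMem
    have hkey : 1 - β c = (1 - (χ' : G → ℂ) c / (χ : G → ℂ) 1) -
        β c * (1 - (χ : G → ℂ) c / (χ : G → ℂ) 1) := by
      rw [← hβχ' c]; ring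
    apply hL2' (β c) (orderOf c) hcp hroot
    rw [hkey]
    exact memLocalIdeal_sub hI' (memLocalIdeal_mul_left hR hI)
  apply Subtype.ext
  funext g
  rw [← hβχ' g, hβall g, one_mul]

/-- L4b: two members of `B₀(G)` with the same irreducible restriction to `N` are equal. -/
theorem eq_of_resFun_eq (p : ℕ) [Fact p.Prime] (M : Ideal AlgInt)
    (hM : IsPModular p M) (N : Subgroup G) [N.Normal] (hidx : ¬ p ∣ N.index) (P : Sylow p G)
    (hsup : N ⊔ Subgroup.centralizer ((P : Subgroup G) : Set G) = ⊤)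
    (χ χ' : IrrCharacter G) (hχ : χ ∈ principalBlock M G) (hχ' : χ' ∈ principalBlock M G)
    (hirr : IsIrrCharacter N (resFun N (χ : G → ℂ)))
    (heq : resFun N (χ : G → ℂ) = resFun N (χ' : G → ℂ)) : χ = χ' :=
  eq_of_resFun_eq_core p M hM N P
    (fun g => Cfsg.Agent.Lib.Helper4.AlpDade.exists_pRegular_rep p N hidx P hsup g)
    (fun χ hχ c hc => Cfsg.Agent.Lib.Helper24.AlpDade.memLocalIdeal_one_sub_div p M hM P χ hχ c hc)
    (fun ζ m hm hζ h => Cfsg.Agent.Lib.Helper24.AlpDade.eq_one_of_memLocalIdeal_one_sub p M hM ζ m hm hζ h)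
    χ χ' hχ hχ' hirr heq

end Cfsg.Agent.Lib.Helper26.AlpDade
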