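import Mathlib
import Cfsg.Prelude.Def_RootSubgroups

set_option autoImplicit false

namespace Cfsg.Agent.Lib.Helper26

open Equiv

set_option maxRecDepth 100000 in
theorem a6_pow_cases : ∀ g : Perm (Fin 6), Perm.sign g = 1 → g ^ 3 = 1 ∨ g ^ 4 = 1 ∨ g ^ 5 = 1 := by
  decide +kernel

theorem a6_orderOf_mem (g : alternatingGroup (Fin 6)) :
    orderOf g = 1 ∨ orderOf g = 2 ∨ orderOf g = 3 ∨ orderOf g = 4 ∨ orderOf g = 5 := by
  have hs : Perm.sign (g : Perm (Fin 6)) = 1 := Perm.mem_alternatingGroup.mp g.2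
  have ho : orderOf g = orderOf (g : Perm (Fin 6)) := (Subgroup.orderOf_coe g).symm
  rw [ho]
  rcases a6_pow_cases _ hs with h | h | h
  · have hd := orderOf_dvd_of_pow_eq_one h
    rcases (Nat.dvd_prime Nat.prime_three).mp hd with h1 | h1 <;> omega
  · have hd : orderOf (g : Perm (Fin 6)) ∣ 2 ^ 2 := orderOf_dvd_of_pow_eq_one h
    obtain ⟨k, hk, hk2⟩ := (Nat.dvd_prime_pow Nat.prime_two).mp hd
    interval_cases k <;> simp_all
  · have hd := orderOf_dvd_of_pow_eq_one h
    rcases (Nat.dvd_prime Nat.prime_five).mp hd with h1 | h1 <;> omega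

theorem a6_orderOf_le (g : alternatingGroup (Fin 6)) : orderOf g ≤ 5 := by
  rcases a6_orderOf_mem g with h | h | h | h | h <;> omega

theorem a6_cycleType_of_orderOf_two (g : alternatingGroup (Fin 6)) (h : orderOf g = 2) :
    (g : Perm (Fin 6)).cycleType = Multiset.replicate 2 2 := by
  have hs : Perm.sign (g : Perm (Fin 6)) = 1 := Perm.mem_alternatingGroup.mp g.2
  have ho : orderOf (g : Perm (Fin 6)) = 2 := by rw [Subgroup.orderOf_coe g]; exact h
  obtain ⟨n, hn⟩ := Perm.cycleType_prime_order (σ := (g : Perm (Fin 6))) (by rw [ho]; exact Nat.prime_two)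
  rw [ho] at hn
  have hsum : (g : Perm (Fin 6)).cycleType.sum ≤ 6 := by
    have := Perm.sum_cycleType_le (g : Perm (Fin 6))
    simpa using this
  rw [hn, Multiset.sum_replicate] at hsum
  have hn3 : n + 1 ≤ 3 := by
    simp only [smul_eq_mul] at hsum
    omega
  rw [Perm.sign_of_cycleType, hn, Multiset.sum_replicate, Multiset.card_replicate] at hs
  have : n + 1 = 2 := by
    have h3 : n = 0 ∨ n = 1 ∨ n = 2 := by omega
    rcases h3 with rfl | rfl | rfl
    · exfalso; revert hs; decide
    · rfl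
    · exfalso; revert hs; decide
  rw [hn, this]

theorem a6_conj (a b : alternatingGroup (Fin 6)) (ha : orderOf a = 2) (hb : orderOf b = 2) :
    ∃ g : alternatingGroup (Fin 6), b = g * a * g⁻¹ := by
  have hca := a6_cycleType_of_orderOf_two a ha
  have hcb := a6_cycleType_of_orderOf_two b hb
  have hc : IsConj (a : Perm (Fin 6)) (b : Perm (Fin 6)) :=
    Perm.isConj_iff_cycleType_eq.mpr (hca.trans hcb.symm)
  have hsupp : (a : Perm (Fin 6)).support.card + 2 ≤ Fintype.card (Fin 6) := by
    rw [← Perm.sum_cycleType, hca]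
    simp
  obtain ⟨g, hg⟩ := isConj_iff.mp (alternatingGroup.isConj_of hc hsupp)
  exact ⟨g, hg.symm⟩

theorem a6_exists_invol : ∃ g : alternatingGroup (Fin 6), orderOf g = 2 := by
  have hmem : (swap (0 : Fin 6) 1 * swap (2 : Fin 6) 3 : Perm (Fin 6)) ∈ alternatingGroup (Fin 6) := by
    rw [Perm.mem_alternatingGroup]; decide
  refine ⟨⟨_, hmem⟩, ?_⟩
  rw [← Subgroup.orderOf_coe]
  refine orderOf_eq_prime ?_ ?_
  · show (swap (0 : Fin 6) 1 * swap (2 : Fin 6) 3 : Perm (Fin 6)) ^ 2 = 1
    decide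
  · show (swap (0 : Fin 6) 1 * swap (2 : Fin 6) 3 : Perm (Fin 6)) ≠ 1
    decide

theorem a6_closure :
    Subgroup.closure {g : alternatingGroup (Fin 6) | orderOf g = 2} = ⊤ := by
  have hsimple : IsSimpleGroup (alternatingGroup (Fin 6)) :=
    alternatingGroup.isSimpleGroup (by simp)
  have heq : Subgroup.closure {g : alternatingGroup (Fin 6) | orderOf g = 2} =
      Subgroup.normalClosure {g : alternatingGroup (Fin 6) | orderOf g = 2} := by
    refine le_antisymm Subgroup.closure_le_normalClosure ?_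
    refine (Subgroup.closure_le _).mpr ?_
    intro x hx
    obtain ⟨b, hb, hbx⟩ := Group.mem_conjugatesOfSet_iff.mp hx
    obtain ⟨c, hc⟩ := isConj_iff.mp hbx
    refine Subgroup.subset_closure ?_
    show orderOf x = 2
    rw [← hc]
    exact ((MulAut.conj c).orderOf_eq b).trans hb
  have hn : (Subgroup.closure {g : alternatingGroup (Fin 6) | orderOf g = 2}).Normal := by
    rw [heq]; exact Subgroup.normalClosure_normal
  rcases hn.eq_bot_or_eq_top with h | h
  · exfalso
    obtain ⟨g, hg⟩ := a6_exists_invol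
    have hmem : g ∈ Subgroup.closure {g : alternatingGroup (Fin 6) | orderOf g = 2} :=
      Subgroup.subset_closure hg
    rw [h, Subgroup.mem_bot] at hmem
    rw [hmem, orderOf_one] at hg
    omega
  · exact h

theorem a6_rootInvolutionClass :
    Cfsg.IsRootInvolutionClass {g : ↥(alternatingGroup (Fin 6)) | orderOf g = 2} ∧
    ∀ d ∈ {g : ↥(alternatingGroup (Fin 6)) | orderOf g = 2},
      ∀ e ∈ {g : ↥(alternatingGroup (Fin 6)) | orderOf g = 2}, orderOf (d * e) ≤ 5 := by
  refine ⟨⟨⟨fun d hd => hd, a6_closure, ?_, ?_⟩, ?_, ?_⟩, fun d _ e _ => a6_orderOf_le _⟩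
  · intro d hd g
    show orderOf (g * d * g⁻¹) = 2
    exact ((MulAut.conj g).orderOf_eq d).trans hd
  · intro a ha b hb
    rcases a6_orderOf_mem (a * b) with h | h | h | h | h
    · right; left; rw [h]; exact odd_one
    · left
      have h2 : (a * b) ^ 2 = 1 := by rw [← h]; exact pow_orderOf_eq_one _
      have ha2 : a ^ 2 = 1 := by have := pow_orderOf_eq_one a; rwa [show orderOf a = 2 from ha] at this
      have hb2 : b ^ 2 = 1 := by have := pow_orderOf_eq_one b; rwa [show orderOf b = 2 from hb] at this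
      have ha' : a⁻¹ = a := by rw [inv_eq_iff_mul_eq_one, ← sq]; exact ha2
      have hb' : b⁻¹ = b := by rw [inv_eq_iff_mul_eq_one, ← sq]; exact hb2
      have : (a * b)⁻¹ = a * b := by rw [inv_eq_iff_mul_eq_one, ← sq]; exact h2
      rw [mul_inv_rev, ha', hb'] at this
      exact this.symm
    · right; left; rw [h]; decide
    · right; right
      refine ⟨h, ?_⟩
      show orderOf ((a * b) ^ 2) = 2
      rw [orderOf_pow, h]
      decide
    · right; left; rw [h]; decide
  · obtain ⟨g, hg⟩ := a6_exists_invol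
    exact ⟨g, hg⟩
  · intro a ha b hb
    exact a6_conj a b ha hb

end Cfsg.Agent.Lib.Helper26
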