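import Mathlib

/-!
Sylow `p`-subgroups of alternating groups are abelian iff `n < p²` (S5164).
-/

set_option autoImplicit false

namespace Cfsg.Agent.Lib.Helper26

open MulAction

theorem sq_not_dvd_factorial {p : ℕ} (hp : p.Prime) : ¬ p ^ 2 ∣ p.factorial := by
  intro h
  have hpos : 0 < p := hp.pos
  obtain ⟨q, rfl⟩ : ∃ q, p = q + 1 := ⟨p - 1, by omega⟩
  rw [Nat.factorial_succ, pow_two] at h
  have h2 : (q + 1) ∣ q.factorial := Nat.dvd_of_mul_dvd_mul_left hpos h
  have h3 := (hp.dvd_factorial).mp h2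
  omega

theorem comm_of_card_dvd_prime {K : Type*} [Group K] [Finite K] {p : ℕ} (hp : p.Prime) (h : Nat.card K ∣ p) :
    ∀ a b : K, a * b = b * a := by
  rcases (Nat.dvd_prime hp).mp h with h1 | h1
  · have : Subsingleton K := (Nat.card_eq_one_iff_unique.mp h1).1
    intro a b
    exact Subsingleton.elim _ _
  · have : Fact p.Prime := ⟨hp⟩
    have hcyc : IsCyclic K := isCyclic_of_prime_card h1
    obtain ⟨g, hg⟩ := hcyc.exists_generator
    intro a b
    obtain ⟨m, rfl⟩ := Subgroup.mem_zpowers_iff.mp (hg a)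
    obtain ⟨n, rfl⟩ := Subgroup.mem_zpowers_iff.mp (hg b)
    rw [← zpow_add, ← zpow_add, add_comm]

/-- A `p`-group of permutations of fewer than `p²` points is abelian. -/
theorem perm_pgroup_comm {n p : ℕ} [hp : Fact p.Prime] (hn : n < p ^ 2) (H : Subgroup (Equiv.Perm (Fin n)))
    (hH : IsPGroup p H) : ∀ x ∈ H, ∀ y ∈ H, x * y = y * x := by
  intro x hx y hy
  apply Equiv.ext
  intro i
  -- the orbit of `i`
  have hfinO : Finite (orbit H i) := Subtype.finite
  obtain ⟨k, hk⟩ := hH.card_orbit (α := Fin n) i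
  have hle : Nat.card (orbit H i) ≤ n := by
    have := Nat.card_le_card_of_injective (fun z : orbit H i => (z : Fin n)) Subtype.val_injective
    simpa using this
  have hk1 : k ≤ 1 := by
    by_contra hcon
    have hk2 : 2 ≤ k := by omega
    have : p ^ 2 ≤ p ^ k := Nat.pow_le_pow_right hp.out.pos hk2
    omega
  have hcardle : Nat.card (orbit H i) ≤ p := by
    rw [hk]
    calc p ^ k ≤ p ^ 1 := Nat.pow_le_pow_right hp.out.pos hk1
      _ = p := pow_one p
  -- the permutation representation on the orbit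
  let φ : H →* Equiv.Perm (orbit H i) := MulAction.toPermHom H (orbit H i)
  have hfinR : Finite φ.range := Finite.of_injective (fun z : φ.range => (z : Equiv.Perm (orbit H i))) Subtype.val_injective
  have hpR : IsPGroup p φ.range := hH.of_surjective φ.rangeRestrict φ.rangeRestrict_surjective
  obtain ⟨m, hm⟩ := hpR.exists_card_eq
  have hdvd : Nat.card φ.range ∣ p.factorial := by
    have h1 : Nat.card φ.range ∣ Nat.card (Equiv.Perm (orbit H i)) := Subgroup.card_subgroup_dvd_card _
    have h2 : Nat.card (Equiv.Perm (orbit H i)) = (Nat.card (orbit H i)).factorial := by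
      have := Fintype.ofFinite (orbit H i)
      rw [Nat.card_eq_fintype_card, Fintype.card_perm, Nat.card_eq_fintype_card]
    rw [h2] at h1
    exact h1.trans (Nat.factorial_dvd_factorial hcardle)
  have hm1 : m ≤ 1 := by
    by_contra hcon
    have hm2 : 2 ≤ m := by omega
    apply sq_not_dvd_factorial hp.out
    rw [hm] at hdvd
    exact (pow_dvd_pow p hm2).trans hdvd
  have hdvdp : Nat.card φ.range ∣ p := by
    rw [hm]
    calc p ^ m ∣ p ^ 1 := pow_dvd_pow p hm1
      _ = p := pow_one p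
  have hcomm := comm_of_card_dvd_prime hp.out hdvdp ⟨φ ⟨x, hx⟩, ⟨_, rfl⟩⟩ ⟨φ ⟨y, hy⟩, ⟨_, rfl⟩⟩
  have h1 : φ ⟨x, hx⟩ * φ ⟨y, hy⟩ = φ ⟨y, hy⟩ * φ ⟨x, hx⟩ := congrArg Subtype.val hcomm
  have h2 := congrArg (fun σ : Equiv.Perm (orbit H i) => ((σ ⟨i, mem_orbit_self i⟩ : orbit H i) : Fin n)) h1
  exact h2

/-! ### The Heisenberg group acting on `p²` points -/

section Heis

variable (p : ℕ) [hp : Fact p.Prime]

/-- The affine action of the Heisenberg group on `ZMod p × ZMod p`. -/
def heisFun (u : ZMod p × ZMod p × ZMod p) (x : ZMod p × ZMod p) : ZMod p × ZMod p :=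
  (x.1 + u.1, x.2 + u.2.1 + u.2.2 * x.1)

def heisMul (u v : ZMod p × ZMod p × ZMod p) : ZMod p × ZMod p × ZMod p :=
  (u.1 + v.1, u.2.1 + v.2.1 + u.2.2 * v.1, u.2.2 + v.2.2)

def heisInv (u : ZMod p × ZMod p × ZMod p) : ZMod p × ZMod p × ZMod p :=
  (-u.1, -u.2.1 + u.2.2 * u.1, -u.2.2)

theorem heisFun_comp (u v : ZMod p × ZMod p × ZMod p) (x : ZMod p × ZMod p) :
    heisFun p u (heisFun p v x) = heisFun p (heisMul p u v) x := by
  apply Prod.ext
  · simp only [heisFun, heisMul]
    ring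
  · simp only [heisFun, heisMul]
    ring

theorem heisFun_zero (x : ZMod p × ZMod p) : heisFun p (0, 0, 0) x = x := by
  apply Prod.ext <;> simp [heisFun]

theorem heisMul_inv (u : ZMod p × ZMod p × ZMod p) : heisMul p u (heisInv p u) = (0, 0, 0) := by
  simp only [heisMul, heisInv]
  refine Prod.ext ?_ (Prod.ext ?_ ?_) <;> simp

theorem heisInv_mul (u : ZMod p × ZMod p × ZMod p) : heisMul p (heisInv p u) u = (0, 0, 0) := by
  simp only [heisMul, heisInv]
  refine Prod.ext ?_ (Prod.ext ?_ ?_) <;> simp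

def heisPerm (u : ZMod p × ZMod p × ZMod p) : Equiv.Perm (ZMod p × ZMod p) where
  toFun := heisFun p u
  invFun := heisFun p (heisInv p u)
  left_inv x := by rw [heisFun_comp, heisInv_mul, heisFun_zero]
  right_inv x := by rw [heisFun_comp, heisMul_inv, heisFun_zero]

theorem heisPerm_apply (u : ZMod p × ZMod p × ZMod p) (x : ZMod p × ZMod p) :
    heisPerm p u x = heisFun p u x := rfl

theorem heisPerm_mul (u v : ZMod p × ZMod p × ZMod p) :
    heisPerm p u * heisPerm p v = heisPerm p (heisMul p u v) := by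
  apply Equiv.ext
  intro x
  exact heisFun_comp p u v x

theorem heisPerm_zero : heisPerm p (0, 0, 0) = 1 := by
  apply Equiv.ext
  intro x
  exact heisFun_zero p x

theorem heisPerm_inv (u : ZMod p × ZMod p × ZMod p) : (heisPerm p u)⁻¹ = heisPerm p (heisInv p u) := by
  rw [inv_eq_iff_mul_eq_one, heisPerm_mul, heisMul_inv, heisPerm_zero]

theorem heisPerm_injective : Function.Injective (heisPerm p) := by
  intro u v h
  have h0 := congrArg (fun σ : Equiv.Perm (ZMod p × ZMod p) => σ (0, 0)) h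
  have h1 := congrArg (fun σ : Equiv.Perm (ZMod p × ZMod p) => σ (1, 0)) h
  simp only [heisPerm_apply, heisFun, zero_add, mul_zero, add_zero, Prod.mk.injEq, mul_one] at h0 h1
  obtain ⟨h01, h02⟩ := h0
  obtain ⟨-, h12⟩ := h1
  refine Prod.ext h01 (Prod.ext h02 ?_)
  rw [h02] at h12
  exact add_left_cancel h12

/-- The Heisenberg group as a group of permutations. -/
def heisSubgroup : Subgroup (Equiv.Perm (ZMod p × ZMod p)) where
  carrier := Set.range (heisPerm p)
  mul_mem' := by
    rintro _ _ ⟨u, rfl⟩ ⟨v, rfl⟩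
    exact ⟨_, (heisPerm_mul p u v).symm⟩
  one_mem' := ⟨_, heisPerm_zero p⟩
  inv_mem' := by
    rintro _ ⟨u, rfl⟩
    exact ⟨_, (heisPerm_inv p u).symm⟩

theorem heisSubgroup_isPGroup : IsPGroup p (heisSubgroup p) := by
  have : NeZero p := ⟨hp.out.ne_zero⟩
  apply IsPGroup.of_card (n := 3)
  have e : (ZMod p × ZMod p × ZMod p) ≃ heisSubgroup p :=
    Equiv.ofInjective (heisPerm p) (heisPerm_injective p)
  rw [← Nat.card_congr e, Nat.card_prod, Nat.card_prod, Nat.card_zmod]
  ring

theorem heisPerm_not_comm :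
    heisPerm p (1, 0, 0) * heisPerm p (0, 0, 1) ≠ heisPerm p (0, 0, 1) * heisPerm p (1, 0, 0) := by
  rw [heisPerm_mul, heisPerm_mul]
  intro h
  have h1 := heisPerm_injective p h
  simp only [heisMul, zero_add, add_zero, mul_zero, mul_one, Prod.mk.injEq] at h1
  have : Nontrivial (ZMod p) := ZMod.nontrivial_iff.mpr hp.out.ne_one
  exact zero_ne_one h1.2.1

end Heis

/-! ### Transfer to alternating groups -/

/-- Elements of odd prime power order are even permutations. -/
theorem sign_eq_one_of_pow_eq_one {X : Type*} [Fintype X] [DecidableEq X] {p : ℕ} (hp2 : Odd p)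
    {σ : Equiv.Perm X} {k : ℕ} (h : σ ^ (p ^ k) = 1) : Equiv.Perm.sign σ = 1 := by
  rcases Int.units_eq_one_or (Equiv.Perm.sign σ) with h1 | h1
  · exact h1
  · have := congrArg Equiv.Perm.sign h
    rw [map_pow, h1, map_one, Odd.neg_one_pow (hp2.pow)] at this
    exact absurd this (by decide)

theorem sylow_alt_not_comm {X : Type*} [Fintype X] [DecidableEq X] {n p : ℕ} [Fact p.Prime] (f : X ↪ Fin n)
    (K : Subgroup (Equiv.Perm X)) (hK : IsPGroup p K) (heven : ∀ σ ∈ K, Equiv.Perm.sign σ = 1)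
    {a b : Equiv.Perm X} (ha : a ∈ K) (hb : b ∈ K) (hab : a * b ≠ b * a)
    (S : Sylow p (alternatingGroup (Fin n))) : ¬ IsMulCommutative S := by
  intro hcomm
  classical
  have hψinj := Equiv.Perm.viaEmbeddingHom_injective f
  have hψsign : ∀ σ, Equiv.Perm.sign (Equiv.Perm.viaEmbeddingHom f σ) = Equiv.Perm.sign σ := fun σ =>
    @Equiv.Perm.sign_extendDomain X _ (Fin n) _ _ _ σ _ (fun a => Classical.propDecidable _)
      (Equiv.ofInjective f.1 f.2)
  have hK'' : IsPGroup p ((K.map (Equiv.Perm.viaEmbeddingHom f)).subgroupOf (alternatingGroup (Fin n))) :=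
    (hK.map (Equiv.Perm.viaEmbeddingHom f)).comap_subtype
  obtain ⟨P', hP'⟩ := hK''.exists_le_sylow
  have hP'comm : ∀ x y : P', x * y = y * x := by
    intro x y
    have h1 := hcomm.is_comm.comm ((Sylow.equiv S P').symm x) ((Sylow.equiv S P').symm y)
    have h2 := congrArg (Sylow.equiv S P') h1
    simpa using h2
  have hψa : Equiv.Perm.viaEmbeddingHom f a ∈ alternatingGroup (Fin n) := by
    rw [Equiv.Perm.mem_alternatingGroup, hψsign]
    exact heven a ha
  have hψb : Equiv.Perm.viaEmbeddingHom f b ∈ alternatingGroup (Fin n) := by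
    rw [Equiv.Perm.mem_alternatingGroup, hψsign]
    exact heven b hb
  have haK : (⟨Equiv.Perm.viaEmbeddingHom f a, hψa⟩ : alternatingGroup (Fin n)) ∈
      (K.map (Equiv.Perm.viaEmbeddingHom f)).subgroupOf (alternatingGroup (Fin n)) :=
    Subgroup.mem_subgroupOf.mpr ⟨a, ha, rfl⟩
  have hbK : (⟨Equiv.Perm.viaEmbeddingHom f b, hψb⟩ : alternatingGroup (Fin n)) ∈
      (K.map (Equiv.Perm.viaEmbeddingHom f)).subgroupOf (alternatingGroup (Fin n)) :=
    Subgroup.mem_subgroupOf.mpr ⟨b, hb, rfl⟩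
  have h3 := hP'comm ⟨_, hP' haK⟩ ⟨_, hP' hbK⟩
  have h4 : Equiv.Perm.viaEmbeddingHom f a * Equiv.Perm.viaEmbeddingHom f b =
      Equiv.Perm.viaEmbeddingHom f b * Equiv.Perm.viaEmbeddingHom f a :=
    congrArg (fun z : P' => ((z : alternatingGroup (Fin n)) : Equiv.Perm (Fin n))) h3
  apply hab
  apply hψinj
  rw [map_mul, map_mul, h4]

/-- The sign-corrected embedding `Perm X → Alt(X ⊕ Fin 2)`. -/
def evenLift (X : Type*) [Fintype X] [DecidableEq X] : Equiv.Perm X →* Equiv.Perm (X ⊕ Fin 2) where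
  toFun σ := Equiv.Perm.sumCongr σ (if Equiv.Perm.sign σ = 1 then 1 else Equiv.swap 0 1)
  map_one' := by simp
  map_mul' σ τ := by
    have hne : (-1 : ℤˣ) ≠ 1 := by decide
    rcases Int.units_eq_one_or (Equiv.Perm.sign σ) with h1 | h1 <;>
      rcases Int.units_eq_one_or (Equiv.Perm.sign τ) with h2 | h2 <;>
      simp [h1, h2, hne, Equiv.Perm.sumCongr_mul]

theorem sign_evenLift {X : Type*} [Fintype X] [DecidableEq X] (σ : Equiv.Perm X) :
    Equiv.Perm.sign (evenLift X σ) = 1 := by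
  have hne : (-1 : ℤˣ) ≠ 1 := by decide
  show Equiv.Perm.sign (Equiv.Perm.sumCongr σ (if Equiv.Perm.sign σ = 1 then 1 else Equiv.swap 0 1)) = 1
  rw [Equiv.Perm.sign_sumCongr]
  rcases Int.units_eq_one_or (Equiv.Perm.sign σ) with h1 | h1
  · simp [h1]
  · simp [h1, hne]

theorem evenLift_injective {X : Type*} [Fintype X] [DecidableEq X] : Function.Injective (evenLift X) := by
  intro σ τ h
  apply Equiv.ext
  intro x
  have h1 := congrArg (fun ρ : Equiv.Perm (X ⊕ Fin 2) => ρ (Sum.inl x)) h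
  have h2 : Sum.inl (σ x) = (Sum.inl (τ x) : X ⊕ Fin 2) := h1
  exact Sum.inl_injective h2

/-- S5164. -/
theorem alt_sylow_comm_iff (n p : ℕ) (hn : 6 ≤ n) [hp : Fact p.Prime] (S : Sylow p (alternatingGroup (Fin n))) :
    IsMulCommutative S ↔ n < p ^ 2 := by
  have hne : NeZero p := ⟨hp.out.ne_zero⟩
  constructor
  · intro hcomm
    by_contra hlt
    push Not at hlt
    rcases hp.out.eq_two_or_odd' with h2 | hodd
    · subst h2
      have hcard : Fintype.card ((ZMod 2 × ZMod 2) ⊕ Fin 2) ≤ Fintype.card (Fin n) := by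
        simp only [Fintype.card_sum, Fintype.card_prod, ZMod.card, Fintype.card_fin]
        omega
      obtain ⟨f⟩ := Function.Embedding.nonempty_of_card_le hcard
      refine sylow_alt_not_comm f ((heisSubgroup 2).map (evenLift _)) ((heisSubgroup_isPGroup 2).map _) ?_
        (a := evenLift _ (heisPerm 2 (1, 0, 0))) (b := evenLift _ (heisPerm 2 (0, 0, 1)))
        ⟨_, ⟨_, rfl⟩, rfl⟩ ⟨_, ⟨_, rfl⟩, rfl⟩ ?_ S hcomm
      · rintro _ ⟨σ, -, rfl⟩
        exact sign_evenLift σ
      · rw [← map_mul, ← map_mul]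
        intro h
        exact heisPerm_not_comm 2 (evenLift_injective h)
    · have hcard : Fintype.card (ZMod p × ZMod p) ≤ Fintype.card (Fin n) := by
        simp only [Fintype.card_prod, ZMod.card, Fintype.card_fin]
        rw [← pow_two]
        exact hlt
      obtain ⟨f⟩ := Function.Embedding.nonempty_of_card_le hcard
      refine sylow_alt_not_comm f (heisSubgroup p) (heisSubgroup_isPGroup p) ?_ ⟨_, rfl⟩ ⟨_, rfl⟩
        (heisPerm_not_comm p) S hcomm
      intro σ hσ
      obtain ⟨k, hk⟩ := (heisSubgroup_isPGroup p) ⟨σ, hσ⟩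
      have h1 : σ ^ (p ^ k) = 1 := congrArg Subtype.val hk
      exact sign_eq_one_of_pow_eq_one hodd h1
  · intro hlt
    have hH : IsPGroup p ((S : Subgroup (alternatingGroup (Fin n))).map (alternatingGroup (Fin n)).subtype) :=
      S.isPGroup'.map _
    have key := perm_pgroup_comm hlt _ hH
    refine ⟨⟨fun a b => ?_⟩⟩
    have h1 := key ((a : alternatingGroup (Fin n)) : Equiv.Perm (Fin n)) ⟨_, a.2, rfl⟩
      ((b : alternatingGroup (Fin n)) : Equiv.Perm (Fin n)) ⟨_, b.2, rfl⟩
    apply Subtype.ext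
    apply Subtype.ext
    exact h1

end Cfsg.Agent.Lib.Helper26
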