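import Mathlib
import Cfsg.Prelude.Def_FusionSystem
import Cfsg.Agent.Lib.Helper16.FusGenIso

set_option autoImplicit false
set_option linter.unusedSectionVars false

/-! A simplicity criterion for the fusion system of a finite group `G` on a Sylow `p`-subgroup `S`,
generalizing helper16's `FusGen.isSimple_of_gen`: the subgroups `Q` used to generate `N_G(S)` need
not be normal in `S`; it is enough that every `p`-element of `C_G(Q)` lies in `Q` (so that `Q` is
centric in the fusion system) and that the generating element normalizes both `S` and `Q`. -/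

namespace Cfsg.Agent.Lib.Helper26.AnFus

open Cfsg Cfsg.FusionSystem Cfsg.Agent.Lib.Helper26 Cfsg.Agent.Lib.Helper27
  Cfsg.Agent.Lib.Helper3.Fus Cfsg.Agent.Lib.Helper16.FusGen

variable {G : Type*} [Group G]

/-- every `p`-element centralizing `Q` lies in `Q` -/
def PCen (p : ℕ) (Q : Subgroup G) : Prop :=
  ∀ y : G, (∀ q ∈ Q, q * y = y * q) → (∃ k : ℕ, orderOf y = p ^ k) → y ∈ Q

/-- the generating set for the generalized criterion -/
def GenSet' (p : ℕ) (S : Subgroup G) : Set G :=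
  {x | x ∈ Subgroup.normalizer (S : Set G) ∧ ∃ Q : Subgroup G, Q ≤ S ∧ PCen p Q ∧
    x ∈ Subgroup.normalizer (Q : Set G) ∧
    x ∈ Subgroup.closure {y | y ∈ Subgroup.normalizer (Q : Set G) ∧ ∃ k : ℕ, orderOf y = p ^ k}}

theorem pcen_centralizerIn_le {p : ℕ} [Fact p.Prime] {S Q : Subgroup G} [Finite S] (hS : IsPGroup p S)
    (hQ : PCen p Q) : centralizerIn S Q ≤ Q := by
  intro y hy
  rw [mem_centralizerIn_iff] at hy
  apply hQ y hy.2
  obtain ⟨k, hk⟩ := (IsPGroup.iff_orderOf.mp hS) ⟨y, hy.1⟩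
  refine ⟨k, ?_⟩
  rw [← hk]
  exact (Subgroup.orderOf_mk y hy.1).symm

theorem pcen_conj {p : ℕ} {Q : Subgroup G} (hQ : PCen p Q) (g : G) :
    PCen p (Q.map (MulAut.conj g).toMonoidHom) := by
  intro y hy hk
  have h1 : g⁻¹ * y * g ∈ Q := by
    apply hQ
    · intro q hq
      have h2 := hy (g * q * g⁻¹) ⟨q, hq, rfl⟩
      calc q * (g⁻¹ * y * g) = g⁻¹ * ((g * q * g⁻¹) * y) * g := by group
        _ = g⁻¹ * (y * (g * q * g⁻¹)) * g := by rw [h2]
        _ = g⁻¹ * y * g * q := by group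
    · obtain ⟨k, hk⟩ := hk
      refine ⟨k, ?_⟩
      rw [← hk]
      have : g⁻¹ * y * g = (MulAut.conj g⁻¹) y := by simp
      rw [this, MulEquiv.orderOf_eq]
  refine ⟨g⁻¹ * y * g, h1, ?_⟩
  show g * (g⁻¹ * y * g) * g⁻¹ = y
  group

/-- **Key step**: an element of `N_G(S) ∩ N_G(Q)` whose action on the centric subgroup `Q` lies in
`Aut_E(Q)` acts on `S` as an element of `Aut_E(S)`. -/
theorem nmh_mem_of_pcen [Finite G] {p : ℕ} [Fact p.Prime] (S : Sylow p G)
    (E : FusionSystem (S : Subgroup G)) (hEsat : E.IsSaturated p)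
    (hEF : ∀ P : Subgroup G, E.Hom P ⊆ (groupFusionSystem (S : Subgroup G)).Hom P)
    (hpg : ∀ P : Subgroup G, P ≤ S →
      pgenAut (groupFusionSystem (S : Subgroup G)) p P ≤ E.autGroup P)
    (x : G) (hxS : x ∈ Subgroup.normalizer ((S : Subgroup G) : Set G)) :
    ∀ (n : ℕ) (Q : Subgroup G), Nat.card (S : Subgroup G) - Nat.card Q = n → Q ≤ S → PCen p Q →
      ∀ hxQ : x ∈ Subgroup.normalizer (Q : Set G),
      Q.normalizerMonoidHom ⟨x, hxQ⟩ ∈ E.autGroup Q →
      (S : Subgroup G).normalizerMonoidHom ⟨x, hxS⟩ ∈ E.autGroup (S : Subgroup G) := by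
  have hp : p.Prime := Fact.out
  have hS : IsPGroup p (S : Subgroup G) := S.isPGroup'
  intro n
  induction n using Nat.strong_induction_on with
  | _ n ih =>
    intro Q hn hQS hQ hxQ hν
    by_cases hQeq : Q = S
    · subst hQeq
      exact hν
    set F := groupFusionSystem (S : Subgroup G) with hFdef
    have hfinQ : Finite Q := Finite.of_injective _ (Subgroup.inclusion_injective hQS)
    set N := normalizerIn (S : Subgroup G) Q with hNdef
    have hNS : N ≤ S := normalizerIn_le _ _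
    have hfinN : Finite N := Finite.of_injective _ (Subgroup.inclusion_injective hNS)
    have hQN : Q ≤ N := by
      intro u hu
      rw [hNdef, mem_normalizerIn_iff]
      exact ⟨hQS hu, Subgroup.le_normalizer hu⟩
    have hNnQ : N ≤ Subgroup.normalizer (Q : Set G) := by
      rw [hNdef]; unfold normalizerIn; exact inf_le_right
    have hlt : Nat.card Q < Nat.card N := by
      obtain ⟨g, hgN, hgQ⟩ := exists_mem_normalizerIn_not_mem hS hQS hQeq
      rcases (Subgroup.card_le_of_le hQN).lt_or_eq with h | h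
      · exact h
      · exfalso
        have := Subgroup.eq_of_le_of_card_ge hQN h.ge
        rw [this] at hgQ
        exact hgQ hgN
    have hcardNS : Nat.card N ≤ Nat.card (S : Subgroup G) := Subgroup.card_le_of_le hNS
    have hxSc : ∀ s ∈ (S : Subgroup G), x * s * x⁻¹ ∈ (S : Subgroup G) := fun s hs =>
      (Subgroup.mem_normalizer_iff.mp hxS s).mp hs
    have hxQc : ∀ u ∈ Q, x * u * x⁻¹ ∈ Q := fun u hu =>
      (Subgroup.mem_normalizer_iff.mp hxQ u).mp hu
    have hxQc' : ∀ u ∈ Q, x⁻¹ * u * x ∈ Q := fun u hu => by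
      have := (Subgroup.mem_normalizer_iff.mp hxQ (x⁻¹ * u * x))
      rw [this]
      have e : x * (x⁻¹ * u * x) * x⁻¹ = u := by group
      rw [e]; exact hu
    -- conjugation by a normalizing element preserves `N`
    have hconjN : ∀ z : G, (∀ s ∈ N, z * s * z⁻¹ ∈ (S : Subgroup G)) →
        (∀ u ∈ Q, z * u * z⁻¹ ∈ Q) → (∀ u ∈ Q, z⁻¹ * u * z ∈ Q) →
        z ∈ Subgroup.normalizer (N : Set G) := by
      intro z h1 h2 h3
      apply Subgroup.mem_normalizer_fintype
      intro g hg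
      have hg' : g ∈ N := hg
      show z * g * z⁻¹ ∈ N
      rw [hNdef, mem_normalizerIn_iff]
      refine ⟨h1 g hg', ?_⟩
      have hgQ := hNnQ hg'
      apply Subgroup.mem_normalizer_fintype
      intro u hu
      have hu' : u ∈ Q := hu
      show z * g * z⁻¹ * u * (z * g * z⁻¹)⁻¹ ∈ Q
      have e : z * g * z⁻¹ * u * (z * g * z⁻¹)⁻¹ = z * (g * (z⁻¹ * u * z) * g⁻¹) * z⁻¹ := by group
      rw [e]
      exact h2 _ ((Subgroup.mem_normalizer_iff.mp hgQ _).mp (h3 u hu'))
    have hxN : x ∈ Subgroup.normalizer (N : Set G) :=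
      hconjN x (fun s hs => hxSc s (hNS hs)) hxQc hxQc'
    -- `Q` is fully centralized in `E`
    have hFC : E.IsFullyCentralized Q := by
      refine ⟨hQS, fun Q' hconj => ?_⟩
      obtain ⟨φ, hφ, hrange⟩ := hconj
      have hφF := hEF Q hφ
      rw [mem_groupFS_hom] at hφF
      obtain ⟨-, -, g, hg⟩ := hφF
      have hQ'eq : Q' = Q.map (MulAut.conj g).toMonoidHom := by
        rw [← hrange]
        ext z
        constructor
        · rintro ⟨u, rfl⟩
          exact ⟨u, u.2, (hg u).symm⟩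
        · rintro ⟨u, hu, rfl⟩
          exact ⟨⟨u, hu⟩, hg ⟨u, hu⟩⟩
      clear hrange
      subst hQ'eq
      have hQ' : PCen p (Q.map (MulAut.conj g).toMonoidHom) := pcen_conj hQ g
      have hcen' := pcen_centralizerIn_le hS hQ'
      have hmap : ∀ y : centralizerIn (S : Subgroup G) (Q.map (MulAut.conj g).toMonoidHom),
          g⁻¹ * (y : G) * g ∈ centralizerIn (S : Subgroup G) Q := by
        intro y
        have hyQ' : (y : G) ∈ Q.map (MulAut.conj g).toMonoidHom := hcen' y.2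
        obtain ⟨u, hu, huy⟩ := hyQ'
        have huy' : g * u * g⁻¹ = (y : G) := huy
        have e : g⁻¹ * (y : G) * g = u := by rw [← huy']; group
        rw [mem_centralizerIn_iff]
        refine ⟨by rw [e]; exact hQS hu, fun q hq => ?_⟩
        have hy2 := (mem_centralizerIn_iff.mp y.2).2 (g * q * g⁻¹) ⟨q, hq, rfl⟩
        calc q * (g⁻¹ * (y : G) * g) = g⁻¹ * ((g * q * g⁻¹) * (y : G)) * g := by group
          _ = g⁻¹ * ((y : G) * (g * q * g⁻¹)) * g := by rw [hy2]
          _ = g⁻¹ * (y : G) * g * q := by group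
      haveI : Finite (centralizerIn (S : Subgroup G) Q) :=
        Finite.of_injective _ (Subgroup.inclusion_injective (centralizerIn_le _ _))
      apply Nat.card_le_card_of_injective
        (fun y : centralizerIn (S : Subgroup G) (Q.map (MulAut.conj g).toMonoidHom) =>
          (⟨g⁻¹ * (y : G) * g, hmap y⟩ : centralizerIn (S : Subgroup G) Q))
      intro a b hab
      have := congrArg Subtype.val hab
      simp only at this
      apply Subtype.ext
      have h2 : (a : G) = g * (g⁻¹ * (a : G) * g) * g⁻¹ := by group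
      rw [h2, this]
      group
    have hRec := saturated_fc hS E hEsat hFC
    set ν : MulAut Q := Q.normalizerMonoidHom ⟨x, hxQ⟩ with hνdef
    have hφE : equivHom (ν : Q ≃* Q) ∈ E.Hom Q := (mem_autGroup_iff E hQS ν).mp hν
    obtain ⟨ψ, hψ, hψν⟩ := hRec.2 Q (equivHom (ν : Q ≃* Q)) hφE (equivHom_range _)
    have hNext : N ≤ extender (S : Subgroup G) Q (equivHom (ν : Q ≃* Q)) := by
      intro g hg
      rw [mem_extender_iff]
      refine ⟨hNS hg, hNnQ hg, x * g * x⁻¹, hxSc g (hNS hg), fun u hu => ?_⟩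
      show x * (g * (u : G) * g⁻¹) * x⁻¹ = x * g * x⁻¹ * (x * (u : G) * x⁻¹) * (x * g * x⁻¹)⁻¹
      group
    have hψN : ψ.comp (Subgroup.inclusion hNext) ∈ E.Hom N := inclusion_comp_mem E hNext hψ
    have hψNF := hEF N hψN
    rw [mem_groupFS_hom] at hψNF
    obtain ⟨-, hψS, y, hy⟩ := hψNF
    have hyQ : ∀ u ∈ Q, y * u * y⁻¹ = x * u * x⁻¹ := by
      intro u hu
      have h1 := hy ⟨u, hQN hu⟩
      have h2 := hψν u hu (hNext (hQN hu))
      rw [← h1]
      exact h2
    have hyS : ∀ s ∈ N, y * s * y⁻¹ ∈ (S : Subgroup G) := by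
      intro s hs
      have := hψS ⟨s, hs⟩
      rw [hy] at this
      exact this
    have hyQc : ∀ u ∈ Q, y * u * y⁻¹ ∈ Q := fun u hu => by rw [hyQ u hu]; exact hxQc u hu
    have hyQc' : ∀ u ∈ Q, y⁻¹ * u * y ∈ Q := by
      intro u hu
      have h1 := hxQc' u hu
      have h2 := hyQ _ h1
      have e : x * (x⁻¹ * u * x) * x⁻¹ = u := by group
      rw [e] at h2
      have e2 : y⁻¹ * u * y = x⁻¹ * u * x := by
        calc y⁻¹ * u * y = y⁻¹ * (y * (x⁻¹ * u * x) * y⁻¹) * y := by rw [h2]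
          _ = x⁻¹ * u * x := by group
      rw [e2]; exact h1
    have hyN : y ∈ Subgroup.normalizer (N : Set G) := hconjN y hyS hyQc hyQc'
    set w : G := y⁻¹ * x with hwdef
    have hwN : w ∈ Subgroup.normalizer (N : Set G) :=
      Subgroup.mul_mem _ (Subgroup.inv_mem _ hyN) hxN
    have hwQ : ∀ q ∈ Q, w * q * w⁻¹ = q := by
      intro q hq
      have h1 := hyQ q hq
      calc w * q * w⁻¹ = y⁻¹ * (x * q * x⁻¹) * y := by rw [hwdef]; group
        _ = y⁻¹ * (y * q * y⁻¹) * y := by rw [h1]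
        _ = q := by group
    -- the three automorphisms of `N`
    have hαy : N.normalizerMonoidHom ⟨y, hyN⟩ ∈ E.autGroup N := by
      rw [mem_autGroup_iff E hNS]
      have : N.subtype.comp (N.normalizerMonoidHom ⟨y, hyN⟩).toMonoidHom =
          ψ.comp (Subgroup.inclusion hNext) := by
        ext g
        exact (hy g).symm
      rw [this]
      exact hψN
    have hαwF : N.normalizerMonoidHom ⟨w, hwN⟩ ∈ F.autGroup N :=
      nmh_mem_groupFS (S : Subgroup G) N hNS w hwN
    have hαwfix : ∀ u : N, (u : G) ∈ Q → (N.normalizerMonoidHom ⟨w, hwN⟩) u = u := by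
      intro u hu
      apply Subtype.ext
      exact hwQ u hu
    have hCN : centralizerIn N Q ≤ Q := by
      intro z hz
      rw [mem_centralizerIn_iff] at hz
      apply pcen_centralizerIn_le hS hQ
      rw [mem_centralizerIn_iff]
      exact ⟨hNS hz.1, hz.2⟩
    obtain ⟨m, hm⟩ := IsPGroup.iff_card.mp (hS.to_le hQS)
    have hpow : (N.normalizerMonoidHom ⟨w, hwN⟩) ^ (p ^ m) = 1 := by
      rw [← hm]
      exact aut_pow_card_eq_one hQN hNnQ hCN _ hαwfix
    have hαwE : N.normalizerMonoidHom ⟨w, hwN⟩ ∈ E.autGroup N :=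
      hpg N hNS (mem_pgenAut_of_pow F N _ hαwF m hpow)
    have hαx : N.normalizerMonoidHom ⟨x, hxN⟩ ∈ E.autGroup N := by
      have e : (⟨x, hxN⟩ : Subgroup.normalizer (N : Set G)) = ⟨y, hyN⟩ * ⟨w, hwN⟩ := by
        apply Subtype.ext
        show x = y * w
        rw [hwdef]; group
      rw [e, map_mul]
      exact Subgroup.mul_mem _ hαy hαwE
    have hNpc : PCen p N := by
      intro z hz hk
      exact hQN (hQ z (fun q hq => hz q (hQN hq)) hk)
    exact ih (Nat.card (S : Subgroup G) - Nat.card N) (by omega) N rfl hNS hNpc hxN hαx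


/-- the action on `Q` of an element of the closure of the `p`-elements of `N_G(Q)` lies in
`Aut_E(Q)` -/
theorem nmh_mem_autGroup_of_closure [Finite G] {p : ℕ} [Fact p.Prime] (S : Sylow p G)
    (E : FusionSystem (S : Subgroup G))
    (hpg : ∀ P : Subgroup G, P ≤ S →
      pgenAut (groupFusionSystem (S : Subgroup G)) p P ≤ E.autGroup P)
    (Q : Subgroup G) (hQS : Q ≤ S) :
    ∀ z ∈ Subgroup.closure
      {y | y ∈ Subgroup.normalizer (Q : Set G) ∧ ∃ k : ℕ, orderOf y = p ^ k},
      ∃ hxQ : z ∈ Subgroup.normalizer (Q : Set G),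
      Q.normalizerMonoidHom ⟨z, hxQ⟩ ∈ E.autGroup Q := by
  intro z hz
  induction hz using Subgroup.closure_induction with
  | mem y hy =>
    obtain ⟨hyQ, k, hk⟩ := hy
    refine ⟨hyQ, hpg Q hQS ?_⟩
    apply mem_pgenAut_of_pow _ Q _ (nmh_mem_groupFS (S : Subgroup G) Q hQS y hyQ) k
    rw [← map_pow]
    have : (⟨y, hyQ⟩ : Subgroup.normalizer (Q : Set G)) ^ (p ^ k) = 1 := by
      apply Subtype.ext
      show y ^ (p ^ k) = 1
      rw [← hk]; exact pow_orderOf_eq_one y
    rw [this, map_one]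
  | one =>
    refine ⟨Subgroup.one_mem _, ?_⟩
    have : (⟨1, Subgroup.one_mem _⟩ : Subgroup.normalizer (Q : Set G)) = 1 := rfl
    rw [this, map_one]; exact Subgroup.one_mem _
  | mul a b _ _ ha hb =>
    obtain ⟨haQ, ha'⟩ := ha
    obtain ⟨hbQ, hb'⟩ := hb
    refine ⟨Subgroup.mul_mem _ haQ hbQ, ?_⟩
    have : (⟨a * b, Subgroup.mul_mem _ haQ hbQ⟩ : Subgroup.normalizer (Q : Set G)) =
        ⟨a, haQ⟩ * ⟨b, hbQ⟩ := rfl
    rw [this, map_mul]; exact Subgroup.mul_mem _ ha' hb'
  | inv a _ ha =>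
    obtain ⟨haQ, ha'⟩ := ha
    refine ⟨Subgroup.inv_mem _ haQ, ?_⟩
    have : (⟨a⁻¹, Subgroup.inv_mem _ haQ⟩ : Subgroup.normalizer (Q : Set G)) =
        (⟨a, haQ⟩ : Subgroup.normalizer (Q : Set G))⁻¹ := rfl
    rw [this, map_inv]; exact Subgroup.inv_mem _ ha'

/-- **Simplicity criterion** (generalized): no proper nontrivial fusion-closed subgroups, and
`N_G(S)` generated by `GenSet'`. -/
theorem isSimple_of_gen' [Finite G] {p : ℕ} [Fact p.Prime] (S : Sylow p G)
    (h1 : (S : Subgroup G) ≠ ⊥)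
    (h2 : ∀ g ∈ Subgroup.normalizer ((S : Subgroup G) : Set G),
      g ∈ Subgroup.closure (GenSet' p (S : Subgroup G)))
    (h3 : ∀ T : Subgroup G, T ≤ S → T ≠ ⊥ → FClosed (S : Subgroup G) T → T = S) :
    (groupFusionSystem (S : Subgroup G)).IsSimple p := by
  have hS : IsPGroup p (S : Subgroup G) := S.isPGroup'
  refine ⟨groupFS_saturated S, h1, ?_⟩
  intro T E hE
  obtain ⟨⟨hEsat, hFsat, hsub, hsc, hinv, hfrat⟩, -⟩ := hE
  by_cases hT : T = ⊥
  · exact Or.inl hT
  right
  have hTS : T = S := h3 T hsc.1 hT (fclosed_of_stronglyClosed hsc)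
  subst hTS
  have hSI : StrongInv E (groupFusionSystem (S : Subgroup G)) := strongInv_of_invariant hinv hfrat
  have hpg : ∀ P : Subgroup G, P ≤ S →
      pgenAut (groupFusionSystem (S : Subgroup G)) p P ≤ E.autGroup P := fun P hP =>
    pgenAut_le_of_strongInv hS _ hFsat E hSI hP
  -- every element of `N_G(S)` induces an automorphism of `E`
  have hNE : ∀ g ∈ Subgroup.normalizer ((S : Subgroup G) : Set G),
      ∃ hg : g ∈ Subgroup.normalizer ((S : Subgroup G) : Set G),
        (S : Subgroup G).normalizerMonoidHom ⟨g, hg⟩ ∈ E.autGroup (S : Subgroup G) := by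
    intro g hg
    have hcl := h2 g hg
    induction hcl using Subgroup.closure_induction with
    | mem y hy =>
      obtain ⟨hyS, Q, hQS, hQpc, hyQ, hyc⟩ := hy
      obtain ⟨hyQ', hν⟩ := nmh_mem_autGroup_of_closure S E hpg Q hQS y hyc
      exact ⟨hyS, nmh_mem_of_pcen S E hEsat hsub hpg y hyS _ Q rfl hQS hQpc hyQ' hν⟩
    | one =>
      refine ⟨Subgroup.one_mem _, ?_⟩
      have : (⟨1, Subgroup.one_mem _⟩ : Subgroup.normalizer ((S : Subgroup G) : Set G)) = 1 := rfl
      rw [this, map_one]; exact Subgroup.one_mem _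
    | mul a b ha0 hb0 ha hb =>
      have haN : a ∈ Subgroup.normalizer ((S : Subgroup G) : Set G) := by
        rw [← Subgroup.closure_eq (Subgroup.normalizer ((S : Subgroup G) : Set G))]
        exact Subgroup.closure_mono (fun z hz => hz.1) ha0
      have hbN : b ∈ Subgroup.normalizer ((S : Subgroup G) : Set G) := by
        rw [← Subgroup.closure_eq (Subgroup.normalizer ((S : Subgroup G) : Set G))]
        exact Subgroup.closure_mono (fun z hz => hz.1) hb0
      obtain ⟨haS, ha'⟩ := ha haN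
      obtain ⟨hbS, hb'⟩ := hb hbN
      refine ⟨Subgroup.mul_mem _ haS hbS, ?_⟩
      have : (⟨a * b, Subgroup.mul_mem _ haS hbS⟩ :
          Subgroup.normalizer ((S : Subgroup G) : Set G)) = ⟨a, haS⟩ * ⟨b, hbS⟩ := rfl
      rw [this, map_mul]; exact Subgroup.mul_mem _ ha' hb'
    | inv a ha0 ha =>
      have haN : a ∈ Subgroup.normalizer ((S : Subgroup G) : Set G) := by
        rw [← Subgroup.closure_eq (Subgroup.normalizer ((S : Subgroup G) : Set G))]
        exact Subgroup.closure_mono (fun z hz => hz.1) ha0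
      obtain ⟨haS, ha'⟩ := ha haN
      refine ⟨Subgroup.inv_mem _ haS, ?_⟩
      have : (⟨a⁻¹, Subgroup.inv_mem _ haS⟩ : Subgroup.normalizer ((S : Subgroup G) : Set G)) =
          (⟨a, haS⟩ : Subgroup.normalizer ((S : Subgroup G) : Set G))⁻¹ := rfl
      rw [this, map_inv]; exact Subgroup.inv_mem _ ha'
  refine ⟨rfl, fun P => Set.Subset.antisymm (hsub P) ?_⟩
  intro φ hφ
  have hP : P ≤ (S : Subgroup G) := hφ.1
  obtain ⟨α, hα, φ₀, hφ₀, hcomp⟩ := hfrat P hP φ hφ
  have hα' := hα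
  rw [mem_autGroup_iff _ le_rfl, mem_groupFS_hom] at hα'
  obtain ⟨-, -, g, hg⟩ := hα'
  have hgN : g ∈ Subgroup.normalizer ((S : Subgroup G) : Set G) := by
    apply Subgroup.mem_normalizer_fintype
    intro n hn
    have := hg ⟨n, hn⟩
    have h' : g * n * g⁻¹ = ((α ⟨n, hn⟩ : (S : Subgroup G)) : G) := this.symm
    rw [h']
    exact (α ⟨n, hn⟩).2
  obtain ⟨hgN', hgE⟩ := hNE g hgN
  have hαeq : α = (S : Subgroup G).normalizerMonoidHom ⟨g, hgN'⟩ := by
    ext y
    exact hg y
  rw [← hαeq, mem_autGroup_iff _ le_rfl] at hgE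
  have hφ₀S : ∀ x : P, φ₀ x ∈ (S : Subgroup G) := (E.le_of_mem hφ₀).2
  have hc := E.comp_mem hφ₀ hgE hφ₀S
  have : φ = ((S : Subgroup G).subtype.comp α.toMonoidHom).comp
      (φ₀.codRestrict (S : Subgroup G) hφ₀S) := by
    ext x
    rw [hcomp x (hφ₀S x)]
    rfl
  rw [this]
  exact hc

section iso

variable {G' : Type*} [Group G']

theorem pcen_map_iso {p : ℕ} (φ : G ≃* G') {Q : Subgroup G} (hQ : PCen p Q) :
    PCen p (Q.map φ.toMonoidHom) := by
  intro y hy hk
  refine ⟨φ.symm y, ?_, φ.apply_symm_apply y⟩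
  apply hQ
  · intro q hq
    apply φ.injective
    rw [map_mul, map_mul, φ.apply_symm_apply]
    exact hy (φ q) ⟨q, hq, rfl⟩
  · obtain ⟨k, hk⟩ := hk
    exact ⟨k, by rw [← hk]; exact MulEquiv.orderOf_eq φ.symm y⟩

/-- `GenSet'` is compatible with isomorphisms -/
theorem genSet'_map_iso {p : ℕ} (S : Subgroup G) (φ : G ≃* G') {y : G} (hy : y ∈ GenSet' p S) :
    φ y ∈ GenSet' p (S.map φ.toMonoidHom) := by
  obtain ⟨hyS, Q, hQS, hQpc, hyQ, hyc⟩ := hy
  refine ⟨normalizer_map_iso φ S y hyS, Q.map φ.toMonoidHom, Subgroup.map_mono hQS,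
    pcen_map_iso φ hQpc, normalizer_map_iso φ Q y hyQ, ?_⟩
  have h1 : φ.toMonoidHom y ∈ (Subgroup.closure
      {y | y ∈ Subgroup.normalizer (Q : Set G) ∧ ∃ k : ℕ, orderOf y = p ^ k}).map
      φ.toMonoidHom := ⟨y, hyc, rfl⟩
  rw [MonoidHom.map_closure] at h1
  refine Subgroup.closure_mono ?_ h1
  rintro _ ⟨z, ⟨hzQ, k, hk⟩, rfl⟩
  refine ⟨normalizer_map_iso φ Q z hzQ, k, ?_⟩
  rw [← hk]
  exact MulEquiv.orderOf_eq φ z

/-- the generalized simplicity criterion, transported along an isomorphism and to an arbitrary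
Sylow subgroup -/
theorem isSimple_of_iso_gen' [Finite G] [Finite G'] {p : ℕ} [Fact p.Prime] (φ₀ : G ≃* G')
    (S₀ : Subgroup G)
    (hcard : Nat.card S₀ = p ^ (Nat.card G).factorization p)
    (h1 : S₀ ≠ ⊥)
    (h2 : ∀ g ∈ Subgroup.normalizer (S₀ : Set G), g ∈ Subgroup.closure (GenSet' p S₀))
    (h3 : ∀ T : Subgroup G, T ≤ S₀ → T ≠ ⊥ → FClosed S₀ T → T = S₀)
    (S : Sylow p G') : (groupFusionSystem (S : Subgroup G')).IsSimple p := by
  have hcard' : Nat.card (S₀.map φ₀.toMonoidHom) = p ^ (Nat.card G').factorization p := by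
    rw [Subgroup.card_map_of_injective φ₀.injective, hcard, Nat.card_congr φ₀.toEquiv]
  let P₀ : Sylow p G' := Sylow.ofCard (S₀.map φ₀.toMonoidHom) hcard'
  obtain ⟨g, hg⟩ := MulAction.exists_smul_eq G' P₀ S
  -- the composite isomorphism
  let φ : G ≃* G' := φ₀.trans (MulAut.conj g)
  have hS : (S : Subgroup G') = S₀.map φ.toMonoidHom := by
    rw [← hg]
    show (g • P₀ : Sylow p G').toSubgroup = _
    rw [Sylow.coe_subgroup_smul]
    ext x
    constructor
    · rintro ⟨y, ⟨z, hz, rfl⟩, rfl⟩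
      exact ⟨z, hz, rfl⟩
    · rintro ⟨z, hz, rfl⟩
      exact ⟨φ₀ z, ⟨z, hz, rfl⟩, rfl⟩
  have hmapsymm : (S₀.map φ.toMonoidHom).map φ.symm.toMonoidHom = S₀ := by
    ext x
    constructor
    · rintro ⟨_, ⟨y, hy, rfl⟩, rfl⟩
      show φ.symm (φ y) ∈ S₀
      rw [φ.symm_apply_apply]
      exact hy
    · intro hx
      exact ⟨φ x, ⟨x, hx, rfl⟩, φ.symm_apply_apply x⟩
  apply isSimple_of_gen' S
  · rw [hS]
    intro h
    apply h1
    exact (Subgroup.map_eq_bot_iff_of_injective S₀ φ.injective).mp h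
  · intro g' hg'
    rw [hS] at hg' ⊢
    have hg : φ.symm g' ∈ Subgroup.normalizer (S₀ : Set G) := by
      have h4 := normalizer_map_iso φ.symm (S₀.map φ.toMonoidHom) g' hg'
      rw [hmapsymm] at h4
      exact h4
    have h4 := h2 _ hg
    have h5 : φ.toMonoidHom (φ.symm g') ∈ (Subgroup.closure (GenSet' p S₀)).map φ.toMonoidHom :=
      ⟨_, h4, rfl⟩
    have e : φ.toMonoidHom (φ.symm g') = g' := φ.apply_symm_apply g'
    rw [e, MonoidHom.map_closure] at h5
    refine Subgroup.closure_mono ?_ h5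
    rintro _ ⟨z, hz, rfl⟩
    exact genSet'_map_iso S₀ φ hz
  · rw [hS]
    intro T' hT' hne' hcl'
    have hT : T'.comap φ.toMonoidHom ≤ S₀ := by
      intro x hx
      obtain ⟨y, hy, hyx⟩ := hT' (Subgroup.mem_comap.mp hx)
      have : y = x := φ.injective hyx
      rw [← this]
      exact hy
    have hne : T'.comap φ.toMonoidHom ≠ ⊥ := by
      intro h
      apply hne'
      rw [Subgroup.eq_bot_iff_forall] at h ⊢
      intro x' hx'
      have h4 : φ.symm x' ∈ T'.comap φ.toMonoidHom := by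
        rw [Subgroup.mem_comap]
        show φ (φ.symm x') ∈ T'
        rw [φ.apply_symm_apply]
        exact hx'
      have h5 := h _ h4
      have h6 : φ (φ.symm x') = φ 1 := by rw [h5]
      rw [φ.apply_symm_apply, map_one] at h6
      exact h6
    have hcl : FClosed S₀ (T'.comap φ.toMonoidHom) := by
      intro x hx g hg
      rw [Subgroup.mem_comap] at hx ⊢
      have h4 := hcl' _ hx (φ g) (by
        refine ⟨g * x * g⁻¹, hg, ?_⟩
        show φ (g * x * g⁻¹) = φ g * φ x * (φ g)⁻¹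
        rw [map_mul, map_mul, map_inv])
      show φ (g * x * g⁻¹) ∈ T'
      rw [map_mul, map_mul, map_inv]
      exact h4
    have hEq := h3 _ hT hne hcl
    apply le_antisymm hT'
    rintro _ ⟨x, hx, rfl⟩
    rw [← hEq] at hx
    exact hx

end iso

end Cfsg.Agent.Lib.Helper26.AnFus
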