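import Mathlib

set_option autoImplicit false
set_option linter.unusedSectionVars false

/-! The monomial permutations of `(B × ZMod p) ⊕ F`: the model in which the Sylow `p`-subgroups of
alternating groups are studied for the simplicity of their fusion systems (S5165). -/

namespace Cfsg.Agent.Lib.Helper26.AnFus

open Equiv Equiv.Perm

theorem pinv_app {α : Type*} (g : Perm α) (x : α) : g⁻¹ (g x) = x := by simp

theorem papp_inv {α : Type*} (g : Perm α) (x : α) : g (g⁻¹ x) = x := by simp

/-- the model set: `|B|` blocks of size `p` and a set `F` of fixed points -/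
abbrev Om (B F : Type) (p : ℕ) := (B × ZMod p) ⊕ F

section defs

variable {B F : Type} {p : ℕ}

/-- the underlying function of a monomial permutation -/
def monoFun (π : B → B) (lam t : B → ZMod p) : Om B F p → Om B F p
  | Sum.inl (b, x) => Sum.inl (π b, lam b * x + t b)
  | Sum.inr y => Sum.inr y

@[simp] theorem monoFun_inl (π : B → B) (lam t : B → ZMod p) (b : B) (x : ZMod p) :
    monoFun (F := F) π lam t (Sum.inl (b, x)) = Sum.inl (π b, lam b * x + t b) := rfl

@[simp] theorem monoFun_inr (π : B → B) (lam t : B → ZMod p) (y : F) :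
    monoFun (F := F) π lam t (Sum.inr y) = Sum.inr y := rfl

/-- the monomial permutation `(b, x) ↦ (π b, λ_b x + t_b)` -/
def mono (π : Perm B) (lam : B → (ZMod p)ˣ) (t : B → ZMod p) : Perm (Om B F p) where
  toFun := monoFun π (fun b => (lam b : ZMod p)) t
  invFun := monoFun π.symm (fun b => (((lam (π.symm b))⁻¹ : (ZMod p)ˣ) : ZMod p))
    (fun b => -((((lam (π.symm b))⁻¹ : (ZMod p)ˣ) : ZMod p) * t (π.symm b)))
  left_inv := by
    rintro (⟨b, x⟩ | y)
    · simp only [monoFun_inl, Equiv.symm_apply_apply, mul_add, ← mul_assoc, Units.inv_mul,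
        one_mul, add_neg_cancel_right]
    · rfl
  right_inv := by
    rintro (⟨b, x⟩ | y)
    · simp only [monoFun_inl, Equiv.apply_symm_apply, mul_add, ← mul_assoc, Units.mul_inv,
        one_mul, mul_neg, neg_add_cancel_right]
    · rfl

@[simp] theorem mono_inl (π : Perm B) (lam : B → (ZMod p)ˣ) (t : B → ZMod p) (b : B) (x : ZMod p) :
    mono (F := F) π lam t (Sum.inl (b, x)) = Sum.inl (π b, (lam b : ZMod p) * x + t b) := rfl

@[simp] theorem mono_inr (π : Perm B) (lam : B → (ZMod p)ˣ) (t : B → ZMod p) (y : F) :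
    mono (F := F) π lam t (Sum.inr y) = Sum.inr y := rfl

theorem mono_mul (π π' : Perm B) (lam lam' : B → (ZMod p)ˣ) (t t' : B → ZMod p) :
    (mono π lam t * mono π' lam' t' : Perm (Om B F p)) =
      mono (π * π') (fun b => lam (π' b) * lam' b)
        (fun b => (lam (π' b) : ZMod p) * t' b + t (π' b)) := by
  ext (⟨b, x⟩ | y)
  · simp only [Perm.mul_apply, mono_inl, Units.val_mul]
    congr 2
    ring
  · rfl

theorem mono_one : (mono 1 (fun _ => 1) (fun _ => 0) : Perm (Om B F p)) = 1 := by
  ext (⟨b, x⟩ | y)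
  · simp
  · rfl

theorem mono_injective {π π' : Perm B} {lam lam' : B → (ZMod p)ˣ} {t t' : B → ZMod p}
    (h : (mono π lam t : Perm (Om B F p)) = mono π' lam' t') :
    π = π' ∧ lam = lam' ∧ t = t' := by
  have h0 : ∀ b x, (Sum.inl (π b, (lam b : ZMod p) * x + t b) : Om B F p) =
      Sum.inl (π' b, (lam' b : ZMod p) * x + t' b) := by
    intro b x
    have := congrArg (fun g : Perm (Om B F p) => g (Sum.inl (b, x))) h
    simpa using this
  have h1 : ∀ b, π b = π' b := fun b => (Prod.ext_iff.mp (Sum.inl_injective (h0 b 0))).1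
  have h2 : ∀ b, t b = t' b := fun b => by
    have := (Prod.ext_iff.mp (Sum.inl_injective (h0 b 0))).2
    simpa using this
  have h3 : ∀ b, lam b = lam' b := fun b => by
    have := (Prod.ext_iff.mp (Sum.inl_injective (h0 b 1))).2
    simp only [mul_one, h2 b, add_left_inj] at this
    exact Units.ext this
  exact ⟨Equiv.ext h1, funext h3, funext h2⟩

/-- translations in the blocks -/
def base (f : B → ZMod p) : Perm (Om B F p) := mono 1 (fun _ => 1) f

/-- permutations of the blocks -/
def lift (π : Perm B) : Perm (Om B F p) := mono π (fun _ => 1) (fun _ => 0)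

/-- multiplications in the blocks -/
def diag (lam : B → (ZMod p)ˣ) : Perm (Om B F p) := mono 1 lam (fun _ => 0)

@[simp] theorem base_inl (f : B → ZMod p) (b : B) (x : ZMod p) :
    base (F := F) f (Sum.inl (b, x)) = Sum.inl (b, x + f b) := by
  simp [base]

@[simp] theorem base_inr (f : B → ZMod p) (y : F) : base (F := F) f (Sum.inr y) = Sum.inr y := rfl

@[simp] theorem lift_inl (π : Perm B) (b : B) (x : ZMod p) :
    lift (F := F) (p := p) π (Sum.inl (b, x)) = Sum.inl (π b, x) := by
  simp [lift]

@[simp] theorem lift_inr (π : Perm B) (y : F) :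
    lift (F := F) (p := p) π (Sum.inr y) = Sum.inr y := rfl

@[simp] theorem diag_inl (lam : B → (ZMod p)ˣ) (b : B) (x : ZMod p) :
    diag (F := F) lam (Sum.inl (b, x)) = Sum.inl (b, (lam b : ZMod p) * x) := by
  simp [diag]

@[simp] theorem diag_inr (lam : B → (ZMod p)ˣ) (y : F) :
    diag (F := F) lam (Sum.inr y) = Sum.inr y := rfl

theorem base_add (f g : B → ZMod p) : (base (f + g) : Perm (Om B F p)) = base f * base g := by
  ext (⟨b, x⟩ | y)
  · simp only [Perm.mul_apply, base_inl, Pi.add_apply]
    congr 2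
    ring
  · rfl

theorem base_zero : (base 0 : Perm (Om B F p)) = 1 := by
  ext (⟨b, x⟩ | y)
  · simp
  · rfl

theorem base_neg (f : B → ZMod p) : (base (-f) : Perm (Om B F p)) = (base f)⁻¹ := by
  rw [eq_inv_iff_mul_eq_one, ← base_add, neg_add_cancel, base_zero]

theorem base_nsmul (f : B → ZMod p) (n : ℕ) : (base (n • f) : Perm (Om B F p)) = base f ^ n := by
  induction n with
  | zero => rw [zero_smul, base_zero, pow_zero]
  | succ n ih => rw [succ_nsmul, base_add, ih, pow_succ]

theorem base_comm (f g : B → ZMod p) :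
    (base f * base g : Perm (Om B F p)) = base g * base f := by
  rw [← base_add, ← base_add, add_comm]

theorem base_pow_p (f : B → ZMod p) : (base f : Perm (Om B F p)) ^ p = 1 := by
  rw [← base_nsmul]
  have : p • f = 0 := by
    ext b
    simp
  rw [this, base_zero]

theorem base_injective : Function.Injective (base : (B → ZMod p) → Perm (Om B F p)) := by
  intro f g h
  exact (mono_injective h).2.2

theorem lift_mul (π π' : Perm B) :
    (lift (π * π') : Perm (Om B F p)) = lift π * lift π' := by
  ext (⟨b, x⟩ | y)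
  · simp
  · rfl

theorem lift_one : (lift 1 : Perm (Om B F p)) = 1 := by
  ext (⟨b, x⟩ | y)
  · simp
  · rfl

/-- `lift` as a homomorphism -/
def liftHom : Perm B →* Perm (Om B F p) where
  toFun := lift
  map_one' := lift_one
  map_mul' := lift_mul

@[simp] theorem liftHom_apply (π : Perm B) : (liftHom π : Perm (Om B F p)) = lift π := rfl

theorem lift_inv (π : Perm B) : (lift π⁻¹ : Perm (Om B F p)) = (lift π)⁻¹ :=
  map_inv (liftHom (F := F) (p := p)) π

theorem lift_pow (π : Perm B) (n : ℕ) : (lift (π ^ n) : Perm (Om B F p)) = lift π ^ n :=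
  map_pow (liftHom (F := F) (p := p)) π n

theorem lift_injective : Function.Injective (lift : Perm B → Perm (Om B F p)) := by
  intro f g h
  exact (mono_injective h).1

theorem diag_mul (lam lam' : B → (ZMod p)ˣ) :
    (diag (lam * lam') : Perm (Om B F p)) = diag lam * diag lam' := by
  ext (⟨b, x⟩ | y)
  · simp only [Perm.mul_apply, diag_inl, Pi.mul_apply, Units.val_mul]
    congr 2
    ring
  · rfl

theorem diag_one : (diag 1 : Perm (Om B F p)) = 1 := by
  ext (⟨b, x⟩ | y)
  · simp
  · rfl

/-- `diag` as a homomorphism -/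
def diagHom : (B → (ZMod p)ˣ) →* Perm (Om B F p) where
  toFun := diag
  map_one' := diag_one
  map_mul' := diag_mul

@[simp] theorem diagHom_apply (lam : B → (ZMod p)ˣ) :
    (diagHom lam : Perm (Om B F p)) = diag lam := rfl

theorem diag_inv (lam : B → (ZMod p)ˣ) : (diag lam⁻¹ : Perm (Om B F p)) = (diag lam)⁻¹ :=
  map_inv (diagHom (F := F) (p := p)) lam

/-- decomposition of a monomial permutation -/
theorem mono_eq (π : Perm B) (lam : B → (ZMod p)ˣ) (t : B → ZMod p) :
    (mono π lam t : Perm (Om B F p)) =
      base (fun b => t (π.symm b)) * diag (fun b => lam (π.symm b)) * lift π := by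
  ext (⟨b, x⟩ | y)
  · simp
  · rfl

/-- conjugation of the base group by a monomial permutation -/
theorem mono_mul_base (π : Perm B) (lam : B → (ZMod p)ˣ) (t f : B → ZMod p) :
    (mono π lam t * base f : Perm (Om B F p)) =
      base (fun b => (lam (π.symm b) : ZMod p) * f (π.symm b)) * mono π lam t := by
  ext (⟨b, x⟩ | y)
  · simp only [Perm.mul_apply, base_inl, mono_inl, Equiv.symm_apply_apply]
    congr 2
    ring
  · rfl

theorem lift_mul_base (π : Perm B) (f : B → ZMod p) :
    (lift π * base f : Perm (Om B F p)) = base (fun b => f (π.symm b)) * lift π := by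
  ext (⟨b, x⟩ | y)
  · simp
  · rfl

theorem diag_mul_lift (π : Perm B) (lam : B → (ZMod p)ˣ) :
    (diag lam * lift π : Perm (Om B F p)) = lift π * diag (fun b => lam (π b)) := by
  ext (⟨b, x⟩ | y)
  · simp
  · rfl

end defs


section two

variable {B F : Type} [DecidableEq B] [DecidableEq F]

theorem zmod_two_cases (x : ZMod 2) : x = 0 ∨ x = 1 := by
  revert x
  decide

theorem zmod_two_one_add_one : (1 : ZMod 2) + 1 = 0 := by decide

theorem zmod_two_zero_ne_one : (0 : ZMod 2) ≠ 1 := by decide

theorem base_single_eq_swap_two (b : B) :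
    (base (Pi.single b 1) : Perm (Om B F 2)) = swap (Sum.inl (b, 0)) (Sum.inl (b, 1)) := by
  ext (⟨b', x⟩ | y)
  · by_cases hb : b' = b
    · subst hb
      rcases zmod_two_cases x with rfl | rfl
      · rw [swap_apply_left]
        simp
      · rw [swap_apply_right]
        simp [zmod_two_one_add_one]
    · have h1 : (Sum.inl (b', x) : Om B F 2) ≠ Sum.inl (b, 0) := by
        intro h
        exact hb (Prod.ext_iff.mp (Sum.inl_injective h)).1
      have h2 : (Sum.inl (b', x) : Om B F 2) ≠ Sum.inl (b, 1) := by
        intro h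
        exact hb (Prod.ext_iff.mp (Sum.inl_injective h)).1
      rw [swap_apply_of_ne_of_ne h1 h2]
      simp [Pi.single_eq_of_ne hb]
  · rw [swap_apply_of_ne_of_ne (by simp) (by simp)]
    simp

end two

section fin

variable {B F : Type} [Fintype B] [DecidableEq B] [Fintype F] [DecidableEq F] {p : ℕ}
  [Fact p.Prime]

theorem card_om : Fintype.card (Om B F p) = Fintype.card B * p + Fintype.card F := by
  rw [Fintype.card_sum, Fintype.card_prod, ZMod.card]

theorem support_mono_one (π : Perm B) (t : B → ZMod p) :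
    (mono π (fun _ => 1) t : Perm (Om B F p)).support =
      ((Finset.univ.filter (fun b => π b ≠ b ∨ t b ≠ 0)) ×ˢ
        (Finset.univ : Finset (ZMod p))).map ⟨Sum.inl, Sum.inl_injective⟩ := by
  ext (⟨b, x⟩ | y)
  · simp only [Perm.mem_support, mono_inl, Units.val_one, one_mul, ne_eq, Sum.inl.injEq,
      Prod.mk.injEq, add_eq_left, not_and_or, Finset.mem_map, Finset.mem_product,
      Finset.mem_filter, Finset.mem_univ, true_and, and_true, Function.Embedding.coeFn_mk,
      Prod.exists]
    constructor
    · intro h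
      exact ⟨b, x, h, rfl, rfl⟩
    · rintro ⟨b', x', h, rfl, rfl⟩
      exact h
  · simp

theorem card_support_mono_one (π : Perm B) (t : B → ZMod p) :
    (mono π (fun _ => 1) t : Perm (Om B F p)).support.card =
      (Finset.univ.filter (fun b => π b ≠ b ∨ t b ≠ 0)).card * p := by
  rw [support_mono_one, Finset.card_map, Finset.card_product, Finset.card_univ, ZMod.card]

/-- the number of nonzero coordinates -/
def wt (f : B → ZMod p) : ℕ := (Finset.univ.filter (fun b => f b ≠ 0)).card

theorem card_support_base (f : B → ZMod p) :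
    (base f : Perm (Om B F p)).support.card = wt f * p := by
  unfold base wt
  rw [card_support_mono_one]
  simp

theorem base_ne_one {f : B → ZMod p} (hf : f ≠ 0) : (base f : Perm (Om B F p)) ≠ 1 := by
  intro h
  rw [← base_zero] at h
  exact hf (base_injective h)

theorem orderOf_base {f : B → ZMod p} (hf : f ≠ 0) : orderOf (base f : Perm (Om B F p)) = p :=
  orderOf_eq_prime (base_pow_p f) (base_ne_one hf)

/-- the base group -/
def baseGroup (B F : Type) (p : ℕ) : Subgroup (Perm (Om B F p)) where
  carrier := Set.range base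
  one_mem' := ⟨0, base_zero⟩
  mul_mem' := by
    rintro _ _ ⟨f, rfl⟩ ⟨g, rfl⟩
    exact ⟨f + g, base_add f g⟩
  inv_mem' := by
    rintro _ ⟨f, rfl⟩
    exact ⟨-f, base_neg f⟩

theorem mem_baseGroup {g : Perm (Om B F p)} : g ∈ baseGroup B F p ↔ ∃ f, base f = g := Iff.rfl

theorem base_mem (f : B → ZMod p) : (base f : Perm (Om B F p)) ∈ baseGroup B F p := ⟨f, rfl⟩

theorem baseGroup_isPGroup : IsPGroup p (baseGroup B F p) := by
  rintro ⟨_, ⟨f, rfl⟩⟩
  refine ⟨1, ?_⟩
  apply Subtype.ext
  rw [pow_one, Subgroup.coe_pow]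
  exact base_pow_p f

/-- the base group is generated by the single-block translations -/
theorem base_mem_closure (f : B → ZMod p) :
    (base f : Perm (Om B F p)) ∈
      Subgroup.closure (Set.range fun b : B => (base (Pi.single b 1) : Perm (Om B F p))) := by
  set K := Subgroup.closure (Set.range fun b : B => (base (Pi.single b 1) : Perm (Om B F p)))
  have h1 : ∀ (b : B) (n : ℕ), (base (Pi.single b (n : ZMod p)) : Perm (Om B F p)) ∈ K := by
    intro b n
    induction n with
    | zero =>
      rw [Nat.cast_zero, Pi.single_zero, base_zero]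
      exact K.one_mem
    | succ n ih =>
      rw [Nat.cast_succ, Pi.single_add, base_add]
      exact K.mul_mem ih (Subgroup.subset_closure ⟨b, rfl⟩)
  have h2 : ∀ (b : B) (c : ZMod p), (base (Pi.single b c) : Perm (Om B F p)) ∈ K := by
    intro b c
    have := h1 b c.val
    rwa [ZMod.natCast_zmod_val] at this
  have h3 : ∀ s : Finset B, (base (∑ b ∈ s, Pi.single b (f b)) : Perm (Om B F p)) ∈ K := by
    intro s
    induction s using Finset.induction_on with
    | empty =>
      rw [Finset.sum_empty, base_zero]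
      exact K.one_mem
    | insert a s ha ih =>
      rw [Finset.sum_insert ha, base_add]
      exact K.mul_mem (h2 a (f a)) ih
  have := h3 Finset.univ
  rwa [Finset.univ_sum_single] at this

theorem baseGroup_eq_closure :
    baseGroup B F p =
      Subgroup.closure (Set.range fun b : B => (base (Pi.single b 1) : Perm (Om B F p))) := by
  apply le_antisymm
  · rintro _ ⟨f, rfl⟩
    exact base_mem_closure f
  · rw [Subgroup.closure_le]
    rintro _ ⟨b, rfl⟩
    exact base_mem _

theorem sign_eq_one_of_pow_prime_pow (hodd : p ≠ 2) {X : Type*} [Fintype X] [DecidableEq X]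
    (g : Perm X) (k : ℕ) (h : g ^ (p ^ k) = 1) : sign g = 1 := by
  have hp : p.Prime := Fact.out
  have hpo : Odd (p ^ k) := (hp.odd_of_ne_two hodd).pow
  rcases Int.units_eq_one_or (sign g) with h1 | h1
  · exact h1
  · have h2 : sign g ^ (p ^ k) = 1 := by rw [← map_pow, h, map_one]
    rw [h1, hpo.neg_one_pow] at h2
    exact absurd h2 (by decide)

theorem sign_lift (π : Perm B) : sign (lift π : Perm (Om B F p)) = sign π ^ p := by
  have : (lift π : Perm (Om B F p)) =
      Equiv.sumCongr (Equiv.prodCongrLeft (fun _ : ZMod p => π)) (Equiv.refl F) := by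
    ext (⟨b, x⟩ | y)
    · simp
    · simp
  rw [this, sign_sumCongr, sign_prodCongrLeft, Finset.prod_const, Finset.card_univ, ZMod.card]
  simp

theorem sign_lift_of_odd (hodd : p ≠ 2) (π : Perm B) :
    sign (lift π : Perm (Om B F p)) = sign π := by
  have hp : p.Prime := Fact.out
  rw [sign_lift]
  rcases Int.units_eq_one_or (sign π) with h1 | h1
  · rw [h1, one_pow]
  · rw [h1, (hp.odd_of_ne_two hodd).neg_one_pow]

theorem base_single_eq_swap (hp2 : p = 2) (b : B) :
    (base (Pi.single b 1) : Perm (Om B F p)) = swap (Sum.inl (b, 0)) (Sum.inl (b, 1)) := by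
  subst hp2
  exact base_single_eq_swap_two b

theorem sign_base_single (hp2 : p = 2) (b : B) :
    sign (base (Pi.single b 1) : Perm (Om B F p)) = -1 := by
  rw [base_single_eq_swap hp2]
  apply sign_swap
  intro h
  have := (Prod.ext_iff.mp (Sum.inl_injective h)).2
  subst hp2
  exact zmod_two_zero_ne_one this

end fin

section conj

variable {X : Type*} [Fintype X] [DecidableEq X]

theorem cycleType_eq_of_orderOf_prime {p : ℕ} (hp : p.Prime) {σ τ : Perm X} (hσ : orderOf σ = p)
    (hτ : orderOf τ = p) (h : σ.support.card = τ.support.card) : σ.cycleType = τ.cycleType := by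
  obtain ⟨a, ha⟩ := cycleType_prime_order (σ := σ) (by rw [hσ]; exact hp)
  obtain ⟨b, hb⟩ := cycleType_prime_order (σ := τ) (by rw [hτ]; exact hp)
  have h1 := sum_cycleType σ
  have h2 := sum_cycleType τ
  rw [ha, hσ, Multiset.sum_replicate, smul_eq_mul] at h1
  rw [hb, hτ, Multiset.sum_replicate, smul_eq_mul] at h2
  have h3 : (a + 1) * p = (b + 1) * p := by rw [h1, h2, h]
  have h4 : a + 1 = b + 1 := Nat.eq_of_mul_eq_mul_right hp.pos h3
  rw [ha, hb, hσ, hτ, h4]

/-- conjugacy in the alternating group, given an odd permutation in the centralizer -/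
theorem exists_alt_conj {σ τ : Perm X} (h : σ.cycleType = τ.cycleType) (c : Perm X)
    (hc : sign c = -1) (hcomm : c * σ = σ * c) :
    ∃ a ∈ alternatingGroup X, a * σ * a⁻¹ = τ := by
  obtain ⟨g, hg⟩ := isConj_iff.mp (isConj_iff_cycleType_eq.mpr h)
  rcases Int.units_eq_one_or (sign g) with h1 | h1
  · exact ⟨g, mem_alternatingGroup.mpr h1, hg⟩
  · refine ⟨g * c, mem_alternatingGroup.mpr (by rw [map_mul, h1, hc]; decide), ?_⟩
    rw [← hg]
    have : c * σ * c⁻¹ = σ := by rw [hcomm]; group
    calc g * c * σ * (g * c)⁻¹ = g * (c * σ * c⁻¹) * g⁻¹ := by group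
      _ = g * σ * g⁻¹ := by rw [this]

end conj

end Cfsg.Agent.Lib.Helper26.AnFus
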