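import Mathlib
import Cfsg.Agent.Lib.Helper26.AnFusB

set_option autoImplicit false
set_option linter.unusedSectionVars false

/-! The Sylow `p`-subgroups of the alternating group on `(B × ZMod p) ⊕ F` have no proper nontrivial
subgroup closed under fusion (S5165). -/

namespace Cfsg.Agent.Lib.Helper26.AnFus

open Equiv Equiv.Perm

variable {B F : Type} [Fintype B] [DecidableEq B] [Fintype F] [DecidableEq F] {p : ℕ}
  [Fact p.Prime]

/-- the indicator function of a set of blocks -/
def ind (J : Finset B) : B → ZMod p := fun b => if b ∈ J then 1 else 0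

theorem ind_apply_mem {J : Finset B} {b : B} (h : b ∈ J) : (ind J : B → ZMod p) b = 1 := if_pos h

theorem ind_apply_not_mem {J : Finset B} {b : B} (h : b ∉ J) : (ind J : B → ZMod p) b = 0 :=
  if_neg h

theorem wt_ind (J : Finset B) : wt (ind J : B → ZMod p) = J.card := by
  unfold wt
  congr 1
  ext b
  by_cases h : b ∈ J
  · simp [ind_apply_mem h, h]
  · simp [ind_apply_not_mem h, h]

theorem ind_ne_zero {J : Finset B} (h : J.Nonempty) : (ind J : B → ZMod p) ≠ 0 := by
  obtain ⟨b, hb⟩ := h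
  intro h0
  have := congrFun h0 b
  rw [ind_apply_mem hb] at this
  exact one_ne_zero this

theorem wt_le (f : B → ZMod p) : wt f ≤ Fintype.card B := by
  unfold wt
  exact Finset.card_le_univ _

theorem ne_zero_of_wt_pos {f : B → ZMod p} (h : 0 < wt f) : f ≠ 0 := by
  rintro rfl
  unfold wt at h
  simp at h

/-- an odd permutation centralizing `base (ind J)` -/
theorem exists_odd_comm (h3 : 3 ≤ Fintype.card B) (J : Finset B) :
    ∃ c : Perm (Om B F p), sign c = -1 ∧ c * base (ind J) = base (ind J) * c := by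
  by_cases hp2 : p = 2
  · have hB : Nonempty B := Fintype.card_pos_iff.mp (by omega)
    obtain ⟨b⟩ := hB
    exact ⟨base (Pi.single b 1), sign_base_single hp2 b, base_comm _ _⟩
  · obtain ⟨x, y, z, hxy, hxz, hyz⟩ := Fintype.two_lt_card_iff.mp (by omega : 2 < Fintype.card B)
    have key : ∃ b₁ b₂ : B, b₁ ≠ b₂ ∧ (b₁ ∈ J ↔ b₂ ∈ J) := by
      by_cases hx : x ∈ J <;> by_cases hy : y ∈ J <;> by_cases hz : z ∈ J
      · exact ⟨x, y, hxy, by simp [hx, hy]⟩
      · exact ⟨x, y, hxy, by simp [hx, hy]⟩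
      · exact ⟨x, z, hxz, by simp [hx, hz]⟩
      · exact ⟨y, z, hyz, by simp [hy, hz]⟩
      · exact ⟨y, z, hyz, by simp [hy, hz]⟩
      · exact ⟨x, z, hxz, by simp [hx, hz]⟩
      · exact ⟨x, y, hxy, by simp [hx, hy]⟩
      · exact ⟨x, y, hxy, by simp [hx, hy]⟩
    obtain ⟨b₁, b₂, hne, hiff⟩ := key
    refine ⟨lift (swap b₁ b₂), ?_, ?_⟩
    · rw [sign_lift_of_odd hp2, sign_swap hne]
    · rw [lift_mul_base]
      congr 2
      funext b
      show (ind J : B → ZMod p) ((swap b₁ b₂).symm b) = ind J b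
      rw [Equiv.symm_swap]
      by_cases h1 : b = b₁
      · subst h1
        rw [swap_apply_left]
        by_cases h : b ∈ J
        · rw [ind_apply_mem h, ind_apply_mem (hiff.mp h)]
        · rw [ind_apply_not_mem h, ind_apply_not_mem (fun h' => h (hiff.mpr h'))]
      · by_cases h2 : b = b₂
        · subst h2
          rw [swap_apply_right]
          by_cases h : b ∈ J
          · rw [ind_apply_mem h, ind_apply_mem (hiff.mpr h)]
          · rw [ind_apply_not_mem h, ind_apply_not_mem (fun h' => h (hiff.mp h'))]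
        · rw [swap_apply_of_ne_of_ne h1 h2]

/-- every permutation of order `p` is conjugate in the alternating group to a standard one -/
theorem conj_ind (h3 : 3 ≤ Fintype.card B) {s : Perm (Om B F p)} (hs : orderOf s = p)
    (J : Finset B) (hJ : s.support.card = J.card * p) :
    ∃ a ∈ alternatingGroup (Om B F p), a * base (ind J) * a⁻¹ = s := by
  have hp : p.Prime := Fact.out
  have hs1 : s ≠ 1 := by
    rintro rfl
    rw [orderOf_one] at hs
    exact hp.one_lt.ne hs
  have hJne : J.Nonempty := by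
    rw [← Finset.card_pos]
    by_contra h
    have h0 : J.card = 0 := by omega
    rw [h0, zero_mul, card_support_eq_zero] at hJ
    exact hs1 hJ
  obtain ⟨c, hc, hcomm⟩ := exists_odd_comm (F := F) (p := p) h3 J
  apply exists_alt_conj _ c hc hcomm
  apply cycleType_eq_of_orderOf_prime hp (orderOf_base (ind_ne_zero hJne)) hs
  rw [card_support_base, wt_ind, hJ]


theorem card_support_of_orderOf {s : Perm (Om B F p)} (hs : orderOf s = p) :
    ∃ j, 0 < j ∧ s.support.card = j * p := by
  have hp : p.Prime := Fact.out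
  obtain ⟨a, ha⟩ := cycleType_prime_order (σ := s) (by rw [hs]; exact hp)
  have h1 := sum_cycleType s
  rw [ha, hs, Multiset.sum_replicate, smul_eq_mul] at h1
  exact ⟨a + 1, Nat.succ_pos a, h1.symm⟩

theorem le_card_of_support (hF : Fintype.card F < p) {s : Perm (Om B F p)} {j : ℕ}
    (hj : s.support.card = j * p) : j ≤ Fintype.card B := by
  have hp : p.Prime := Fact.out
  have h1 : s.support.card ≤ Fintype.card (Om B F p) := Finset.card_le_univ _
  rw [card_om, hj] at h1
  by_contra h
  have h2 : Fintype.card B + 1 ≤ j := by omega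
  have h3 : (Fintype.card B + 1) * p ≤ j * p := Nat.mul_le_mul_right p h2
  rw [add_mul, one_mul] at h3
  omega

theorem ind_insert {J : Finset B} {b : B} (hb : b ∉ J) :
    (ind (insert b J) : B → ZMod p) = Pi.single b 1 + ind J := by
  funext c
  by_cases hc : c = b
  · subst hc
    rw [ind_apply_mem (Finset.mem_insert_self _ _), Pi.add_apply, Pi.single_eq_same,
      ind_apply_not_mem hb, add_zero]
  · by_cases hcJ : c ∈ J
    · rw [ind_apply_mem (Finset.mem_insert_of_mem hcJ), Pi.add_apply, Pi.single_eq_of_ne hc,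
        ind_apply_mem hcJ, zero_add]
    · rw [ind_apply_not_mem (by simp [hc, hcJ]), Pi.add_apply, Pi.single_eq_of_ne hc,
        ind_apply_not_mem hcJ, zero_add]

theorem ind_empty : (ind (∅ : Finset B) : B → ZMod p) = 0 := by
  funext c
  exact ind_apply_not_mem (Finset.notMem_empty c)

theorem sign_base_ind (hp2 : p = 2) (J : Finset B) :
    sign (base (ind J) : Perm (Om B F p)) = (-1) ^ J.card := by
  induction J using Finset.induction_on with
  | empty => rw [ind_empty, base_zero, map_one, Finset.card_empty, pow_zero]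
  | insert b J hb ih =>
    rw [ind_insert hb, base_add, map_mul, ih, sign_base_single hp2, Finset.card_insert_of_notMem hb,
      pow_succ, mul_comm]

theorem two_eq_zero_of (hp2 : p = 2) : (1 : ZMod p) + 1 = 0 := by
  subst hp2
  exact zmod_two_one_add_one

theorem two_ne_zero_of (hp2 : p ≠ 2) : (1 : ZMod p) + 1 ≠ 0 := by
  have hp : p.Prime := Fact.out
  intro h
  have h2 : ((2 : ℕ) : ZMod p) = 0 := by
    rw [← h]; norm_num
  rw [ZMod.natCast_eq_zero_iff] at h2
  exact hp2 ((Nat.prime_dvd_prime_iff_eq hp Nat.prime_two).mp h2)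


/-- the subgroup of even permutations whose `g₀`-conjugate lies in `T'` -/
def Wg (T' : Subgroup (Perm (Om B F p))) (g₀ : Perm (Om B F p)) : Subgroup (Perm (Om B F p)) :=
  alternatingGroup (Om B F p) ⊓ T'.comap (MulAut.conj g₀).toMonoidHom

theorem mem_Wg {T' : Subgroup (Perm (Om B F p))} {g₀ x : Perm (Om B F p)} :
    x ∈ Wg T' g₀ ↔ x ∈ alternatingGroup (Om B F p) ∧ g₀ * x * g₀⁻¹ ∈ T' := Iff.rfl

section main

variable (h3 : 3 ≤ Fintype.card B) (hF : Fintype.card F < p)
  (S' T' : Subgroup (Perm (Om B F p))) (hTS : T' ≤ S') (hSA : S' ≤ alternatingGroup (Om B F p))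
  (hcl : ∀ x ∈ T', ∀ g ∈ alternatingGroup (Om B F p), g * x * g⁻¹ ∈ S' → g * x * g⁻¹ ∈ T')
  (g₀ : Perm (Om B F p)) (hg₀A : g₀ ∈ alternatingGroup (Om B F p))
  (hg₀ : ∀ x ∈ baseGroup B F p, x ∈ alternatingGroup (Om B F p) → g₀ * x * g₀⁻¹ ∈ S')

include h3 hTS hSA hcl hg₀A hg₀ in
theorem weight_mem {t : Perm (Om B F p)} (ht : t ∈ T') (hto : orderOf t = p) {k : ℕ}
    (hk : t.support.card = k * p) (f : B → ZMod p) (hf : wt f = k) : base f ∈ Wg T' g₀ := by
  have hp : p.Prime := Fact.out
  have hkpos : 0 < k := by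
    by_contra h
    have h0 : k = 0 := by omega
    rw [h0, zero_mul, card_support_eq_zero] at hk
    rw [hk, orderOf_one] at hto
    exact hp.one_lt.ne hto
  set J := Finset.univ.filter (fun b => f b ≠ 0) with hJ
  have hJc : J.card = k := hf
  obtain ⟨a₁, ha₁, e₁⟩ := conj_ind h3 hto J (by rw [hJc, hk])
  have hfo : orderOf (base f : Perm (Om B F p)) = p :=
    orderOf_base (ne_zero_of_wt_pos (by rw [hf]; exact hkpos))
  obtain ⟨a₂, ha₂, e₂⟩ := conj_ind h3 hfo J (by rw [card_support_base, hJc, hf])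
  have e : (base f : Perm (Om B F p)) = (a₂ * a₁⁻¹) * t * (a₂ * a₁⁻¹)⁻¹ := by
    rw [← e₁, ← e₂]; group
  have hA : (base f : Perm (Om B F p)) ∈ alternatingGroup (Om B F p) := by
    rw [e]
    exact (inferInstance : (alternatingGroup (Om B F p)).Normal).conj_mem _ (hSA (hTS ht)) _
  refine ⟨hA, ?_⟩
  have e' : g₀ * base f * g₀⁻¹ = (g₀ * a₂ * a₁⁻¹) * t * (g₀ * a₂ * a₁⁻¹)⁻¹ := by
    rw [e]; group
  have hS := hg₀ _ (base_mem f) hA
  show g₀ * base f * g₀⁻¹ ∈ T'
  rw [e'] at hS ⊢
  exact hcl t ht _ (mul_mem (mul_mem hg₀A ha₂) (inv_mem ha₁)) hS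

include h3 hTS hSA hcl hg₀A hg₀ in
/-- `p` odd: the whole base group is in `Wg` -/
theorem base_mem_Wg_of_odd (hp2 : p ≠ 2) {t : Perm (Om B F p)} (ht : t ∈ T')
    (hto : orderOf t = p) {k : ℕ} (hk : t.support.card = k * p) (hkB : k ≤ Fintype.card B)
    (f : B → ZMod p) : base f ∈ Wg T' g₀ := by
  have hp : p.Prime := Fact.out
  have hkpos : 0 < k := by
    by_contra h
    have h0 : k = 0 := by omega
    rw [h0, zero_mul, card_support_eq_zero] at hk
    rw [hk, orderOf_one] at hto
    exact hp.one_lt.ne hto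
  have hsingle : ∀ b : B, (base (Pi.single b 1) : Perm (Om B F p)) ∈ Wg T' g₀ := by
    intro b
    obtain ⟨J, hbJ, -, hJc⟩ := Finset.exists_subsuperset_card_eq (s := {b}) (t := Finset.univ)
      (n := k) (Finset.subset_univ _) (by rw [Finset.card_singleton]; exact hkpos)
      (by rw [Finset.card_univ]; exact hkB)
    have hb : b ∈ J := hbJ (Finset.mem_singleton_self b)
    have h1 : (base (ind J) : Perm (Om B F p)) ∈ Wg T' g₀ :=
      weight_mem h3 S' T' hTS hSA hcl g₀ hg₀A hg₀ ht hto hk _ (by rw [wt_ind, hJc])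
    have h2 : (base (ind J + Pi.single b 1) : Perm (Om B F p)) ∈ Wg T' g₀ := by
      apply weight_mem h3 S' T' hTS hSA hcl g₀ hg₀A hg₀ ht hto hk
      rw [← hJc]
      unfold wt
      congr 1
      ext c
      simp only [Finset.mem_filter, Finset.mem_univ, true_and, Pi.add_apply]
      by_cases hc : c = b
      · subst hc
        rw [ind_apply_mem hb, Pi.single_eq_same]
        simp [hb, two_ne_zero_of hp2]
      · rw [Pi.single_eq_of_ne hc, add_zero]
        by_cases hcJ : c ∈ J
        · simp [ind_apply_mem hcJ, hcJ]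
        · simp [ind_apply_not_mem hcJ, hcJ]
    have e : (base (Pi.single b 1) : Perm (Om B F p)) =
        (base (ind J))⁻¹ * base (ind J + Pi.single b 1) := by
      rw [← base_neg, ← base_add, neg_add_cancel_left]
    rw [e]
    exact mul_mem (inv_mem h1) h2
  have := base_mem_closure (F := F) f
  exact (Subgroup.closure_le _).mpr (by rintro _ ⟨b, rfl⟩; exact hsingle b) this

include h3 hTS hSA hcl hg₀A hg₀ in
/-- `p = 2`: the even-weight indicator elements are in `Wg` -/
theorem ind_mem_Wg_of_two (hp2 : p = 2) {t : Perm (Om B F p)} (ht : t ∈ T')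
    (hto : orderOf t = p) {k : ℕ} (hk : t.support.card = k * p) (hkB : k < Fintype.card B) :
    ∀ (n : ℕ) (J : Finset B), J.card = n → Even n → base (ind J) ∈ Wg T' g₀ := by
  have hp : p.Prime := Fact.out
  have hkpos : 0 < k := by
    by_contra h
    have h0 : k = 0 := by omega
    rw [h0, zero_mul, card_support_eq_zero] at hk
    rw [hk, orderOf_one] at hto
    exact hp.one_lt.ne hto
  have hpair : ∀ b b' : B, b ≠ b' →
      (base (Pi.single b 1 + Pi.single b' 1) : Perm (Om B F p)) ∈ Wg T' g₀ := by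
    intro b b' hbb'
    have hcard : (Finset.univ \ {b, b'} : Finset B).card = Fintype.card B - 2 := by
      rw [Finset.card_sdiff_of_subset (Finset.subset_univ _), Finset.card_univ,
        Finset.card_pair hbb']
    obtain ⟨J, hJsub, hJc⟩ := Finset.exists_subset_card_eq
      (s := (Finset.univ \ {b, b'} : Finset B)) (n := k - 1) (by rw [hcard]; omega)
    have hbJ : b ∉ J := fun h => by
      have := hJsub h
      simp at this
    have hb'J : b' ∉ J := fun h => by
      have := hJsub h
      simp at this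
    have h1 : (base (ind (insert b J)) : Perm (Om B F p)) ∈ Wg T' g₀ :=
      weight_mem h3 S' T' hTS hSA hcl g₀ hg₀A hg₀ ht hto hk _ (by
        rw [wt_ind, Finset.card_insert_of_notMem hbJ, hJc]; omega)
    have h2 : (base (ind (insert b' J)) : Perm (Om B F p)) ∈ Wg T' g₀ :=
      weight_mem h3 S' T' hTS hSA hcl g₀ hg₀A hg₀ ht hto hk _ (by
        rw [wt_ind, Finset.card_insert_of_notMem hb'J, hJc]; omega)
    have e : (Pi.single b 1 + Pi.single b' 1 : B → ZMod p) =
        ind (insert b J) + ind (insert b' J) := by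
      rw [ind_insert hbJ, ind_insert hb'J]
      have : (ind J + ind J : B → ZMod p) = 0 := by
        funext c
        by_cases hc : c ∈ J
        · simp [ind_apply_mem hc, two_eq_zero_of hp2]
        · simp [ind_apply_not_mem hc]
      calc (Pi.single b 1 + Pi.single b' 1 : B → ZMod p)
          = Pi.single b 1 + Pi.single b' 1 + (ind J + ind J) := by rw [this, add_zero]
        _ = _ := by abel
    rw [e, base_add]
    exact mul_mem h1 h2
  intro n
  induction n using Nat.strong_induction_on with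
  | _ n ih =>
    intro J hJc hev
    rcases Nat.eq_zero_or_pos n with h0 | hpos
    · rw [h0, Finset.card_eq_zero] at hJc
      rw [hJc, ind_empty, base_zero]
      exact one_mem _
    · have hn2 : 2 ≤ n := by
        obtain ⟨m, hm⟩ := hev
        omega
      obtain ⟨b, hb⟩ : J.Nonempty := by rw [← Finset.card_pos, hJc]; exact hpos
      have hc1 : (J.erase b).card = n - 1 := by rw [Finset.card_erase_of_mem hb, hJc]
      obtain ⟨b', hb'⟩ : (J.erase b).Nonempty := by rw [← Finset.card_pos, hc1]; omega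
      have hc2 : ((J.erase b).erase b').card = n - 2 := by
        rw [Finset.card_erase_of_mem hb', hc1]; omega
      have hne : b ≠ b' := fun h => by
        rw [← h] at hb'
        exact (Finset.notMem_erase b J) hb'
      have e : (ind J : B → ZMod p) =
          (Pi.single b 1 + Pi.single b' 1) + ind ((J.erase b).erase b') := by
        conv_lhs => rw [← Finset.insert_erase hb, ← Finset.insert_erase hb']
        rw [ind_insert (by simp [hne]), ind_insert (by simp), add_assoc]
      rw [e, base_add]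
      refine mul_mem (hpair b b' hne) (ih (n - 2) (by omega) _ hc2 ?_)
      obtain ⟨m, hm⟩ := hev
      exact ⟨m - 1, by omega⟩

end main


theorem conj_of_card_support (h3 : 3 ≤ Fintype.card B) (hF : Fintype.card F < p)
    {s t : Perm (Om B F p)} (hs : orderOf s = p) (ht : orderOf t = p)
    (h : s.support.card = t.support.card) :
    ∃ a ∈ alternatingGroup (Om B F p), a * t * a⁻¹ = s := by
  obtain ⟨j, -, hj⟩ := card_support_of_orderOf ht
  have hjB := le_card_of_support hF hj
  obtain ⟨J, -, hJc⟩ := Finset.exists_subset_card_eq (s := (Finset.univ : Finset B)) (n := j)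
    (by rwa [Finset.card_univ])
  obtain ⟨a₁, ha₁, e₁⟩ := conj_ind h3 ht J (by rw [hJc, hj])
  obtain ⟨a₂, ha₂, e₂⟩ := conj_ind h3 hs J (by rw [hJc, h, hj])
  refine ⟨a₂ * a₁⁻¹, mul_mem ha₂ (inv_mem ha₁), ?_⟩
  rw [← e₁, ← e₂]
  group

theorem add_self_of_two (hp2 : p = 2) (a : ZMod p) : a + a = 0 := by
  have : a + a = a * (1 + 1) := by ring
  rw [this, two_eq_zero_of hp2, mul_zero]

/-- `p = 2`: from a fixed-point-free involution in `T'` to one with support of size `4` -/
theorem klein (h3 : 3 ≤ Fintype.card B) (hF : Fintype.card F < p) (hp2 : p = 2)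
    (S' T' : Subgroup (Perm (Om B F p))) (hTS : T' ≤ S') (hSA : S' ≤ alternatingGroup (Om B F p))
    (hSyl : ∀ P : Subgroup (Perm (Om B F p)), P ≤ alternatingGroup (Om B F p) → IsPGroup p P →
      ∃ g ∈ alternatingGroup (Om B F p), ∀ x ∈ P, g * x * g⁻¹ ∈ S')
    (hcl : ∀ x ∈ T', ∀ g ∈ alternatingGroup (Om B F p), g * x * g⁻¹ ∈ S' → g * x * g⁻¹ ∈ T')
    {t : Perm (Om B F p)} (ht : t ∈ T') (hto : orderOf t = p)
    (hk : t.support.card = Fintype.card B * p) :
    ∃ t' ∈ T', orderOf t' = p ∧ t'.support.card = 2 * p := by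
  have hp : p.Prime := Fact.out
  obtain ⟨b₁, b₂, b₃, h12, h13, h23⟩ := Fintype.two_lt_card_iff.mp (by omega : 2 < Fintype.card B)
  set τ : B → ZMod p := fun b => if b = b₁ ∨ b = b₂ then 0 else 1 with hτ
  set t₁ : Perm (Om B F p) := base (fun _ => 1) with ht₁
  set t₂ : Perm (Om B F p) := mono (swap b₁ b₂) (fun _ => 1) τ with ht₂
  have hτswap : ∀ b, τ (swap b₁ b₂ b) = τ b := by
    intro b
    by_cases h1 : b = b₁
    · subst h1
      rw [swap_apply_left]
      simp [hτ]
    · by_cases h2 : b = b₂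
      · subst h2
        rw [swap_apply_right]
        simp [hτ]
      · rw [swap_apply_of_ne_of_ne h1 h2]
  have ht₂sq : t₂ * t₂ = 1 := by
    ext (⟨b, x⟩ | y)
    · simp only [ht₂, Perm.mul_apply, mono_inl, Units.val_one, one_mul, swap_apply_self,
        Perm.one_apply, hτswap]
      rw [add_assoc, add_self_of_two hp2, add_zero]
    · rfl
  have ht₂ne : t₂ ≠ 1 := by
    intro h
    have := congrArg (fun g : Perm (Om B F p) => g (Sum.inl (b₁, 0))) h
    simp only [ht₂, mono_inl, swap_apply_left, Perm.one_apply, Sum.inl.injEq, Prod.mk.injEq] at this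
    exact h12 this.1.symm
  have ht₂o : orderOf t₂ = p := by
    apply orderOf_eq_prime _ ht₂ne
    rw [show t₂ ^ p = t₂ ^ 2 from congrArg (fun n => t₂ ^ n) hp2, pow_two, ht₂sq]
  have ht₁ne : (fun _ => 1 : B → ZMod p) ≠ 0 := by
    intro h
    have := congrFun h b₁
    exact one_ne_zero this
  have ht₁o : orderOf t₁ = p := orderOf_base ht₁ne
  have hcomm : t₁ * t₂ = t₂ * t₁ := by
    ext (⟨b, x⟩ | y)
    · simp only [ht₁, ht₂, Perm.mul_apply, mono_inl, base_inl, Units.val_one, one_mul]
      congr 2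
      ring
    · rfl
  have hprod : t₁ * t₂ = mono (swap b₁ b₂) (fun _ => 1) (fun b => τ b + 1) := by
    ext (⟨b, x⟩ | y)
    · simp only [ht₁, ht₂, Perm.mul_apply, mono_inl, base_inl, Units.val_one, one_mul]
      congr 2
      ring
    · rfl
  have hsupp₁ : t₁.support.card = Fintype.card B * p := by
    rw [ht₁, card_support_base]
    congr 1
    unfold wt
    rw [← Finset.card_univ]
    congr 1
    ext b
    simp
  have hsupp₂ : t₂.support.card = Fintype.card B * p := by
    rw [ht₂, card_support_mono_one]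
    congr 1
    rw [← Finset.card_univ]
    congr 1
    ext b
    simp only [Finset.mem_filter, Finset.mem_univ, true_and, iff_true]
    by_cases h1 : b = b₁
    · subst h1
      left
      rw [swap_apply_left]
      exact fun h => h12 h.symm
    · by_cases h2 : b = b₂
      · subst h2
        left
        rw [swap_apply_right]
        exact h12
      · right
        simp [hτ, h1, h2]
  have hsupp₃ : (t₁ * t₂).support.card = 2 * p := by
    rw [hprod, card_support_mono_one]
    congr 1
    rw [← Finset.card_pair h12]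
    congr 1
    ext b
    simp only [Finset.mem_filter, Finset.mem_univ, true_and, Finset.mem_insert,
      Finset.mem_singleton]
    by_cases h1 : b = b₁
    · subst h1
      rw [swap_apply_left]
      simp [h12.symm]
    · by_cases h2 : b = b₂
      · subst h2
        rw [swap_apply_right]
        simp [h12]
      · rw [swap_apply_of_ne_of_ne h1 h2]
        simp [hτ, h1, h2, two_eq_zero_of hp2]
  have hprodo : orderOf (t₁ * t₂) = p := by
    apply orderOf_eq_prime
    · have hc : Commute t₁ t₂ := hcomm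
      rw [hc.mul_pow, show t₂ ^ p = t₂ ^ 2 from congrArg (fun n => t₂ ^ n) hp2, pow_two, ht₂sq,
        mul_one, ht₁, base_pow_p]
    · intro h
      rw [h, support_one, Finset.card_empty] at hsupp₃
      have := hp.pos
      omega
  -- the Klein four group
  set P : Subgroup (Perm (Om B F p)) := Subgroup.zpowers t₁ ⊔ Subgroup.zpowers t₂ with hP
  have hP1 : IsPGroup p (Subgroup.zpowers t₁) :=
    IsPGroup.of_card (n := 1) (by rw [Nat.card_zpowers, ht₁o, pow_one])
  have hP2 : IsPGroup p (Subgroup.zpowers t₂) :=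
    IsPGroup.of_card (n := 1) (by rw [Nat.card_zpowers, ht₂o, pow_one])
  have hPp : IsPGroup p P := by
    apply IsPGroup.to_sup_of_normal_right' hP1 hP2
    refine le_trans ?_ (Subgroup.centralizer_le_normalizer _)
    rw [Subgroup.zpowers_le, Subgroup.mem_centralizer_iff]
    intro h hh
    obtain ⟨n, rfl⟩ := Subgroup.mem_zpowers_iff.mp hh
    have hc : Commute t₂ t₁ := hcomm.symm
    exact (hc.zpow_left n).eq
  obtain ⟨a₁, ha₁, e₁⟩ := conj_of_card_support h3 hF ht₁o hto (by rw [hsupp₁, hk])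
  obtain ⟨a₂, ha₂, e₂⟩ := conj_of_card_support h3 hF ht₂o hto (by rw [hsupp₂, hk])
  have htA : t ∈ alternatingGroup (Om B F p) := hSA (hTS ht)
  have hnormal : (alternatingGroup (Om B F p)).Normal := inferInstance
  have ht₁A : t₁ ∈ alternatingGroup (Om B F p) := by
    rw [← e₁]; exact hnormal.conj_mem _ htA _
  have ht₂A : t₂ ∈ alternatingGroup (Om B F p) := by
    rw [← e₂]; exact hnormal.conj_mem _ htA _
  have hPA : P ≤ alternatingGroup (Om B F p) := by
    rw [hP, sup_le_iff, Subgroup.zpowers_le, Subgroup.zpowers_le]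
    exact ⟨ht₁A, ht₂A⟩
  obtain ⟨g, hgA, hg⟩ := hSyl P hPA hPp
  have hu₁ : g * t₁ * g⁻¹ ∈ T' := by
    have h1 : g * t₁ * g⁻¹ ∈ S' := hg _ (Subgroup.mem_sup_left (Subgroup.mem_zpowers t₁))
    have e : g * t₁ * g⁻¹ = (g * a₁) * t * (g * a₁)⁻¹ := by rw [← e₁]; group
    rw [e] at h1 ⊢
    exact hcl t ht _ (mul_mem hgA ha₁) h1
  have hu₂ : g * t₂ * g⁻¹ ∈ T' := by
    have h1 : g * t₂ * g⁻¹ ∈ S' := hg _ (Subgroup.mem_sup_right (Subgroup.mem_zpowers t₂))
    have e : g * t₂ * g⁻¹ = (g * a₂) * t * (g * a₂)⁻¹ := by rw [← e₂]; group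
    rw [e] at h1 ⊢
    exact hcl t ht _ (mul_mem hgA ha₂) h1
  refine ⟨g * (t₁ * t₂) * g⁻¹, ?_, ?_, ?_⟩
  · have e : g * (t₁ * t₂) * g⁻¹ = (g * t₁ * g⁻¹) * (g * t₂ * g⁻¹) := by group
    rw [e]
    exact mul_mem hu₁ hu₂
  · have : g * (t₁ * t₂) * g⁻¹ = (MulAut.conj g) (t₁ * t₂) := rfl
    rw [this, MulEquiv.orderOf_eq, hprodo]
  · rw [card_support_conj, hsupp₃]

/-- **No proper nontrivial fusion-closed subgroups**, at the level of permutations. -/
theorem fclosed_main (h3 : 3 ≤ Fintype.card B) (hF : Fintype.card F < p)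
    (S' T' : Subgroup (Perm (Om B F p))) (hTS : T' ≤ S') (hSA : S' ≤ alternatingGroup (Om B F p))
    (hSyl : ∀ P : Subgroup (Perm (Om B F p)), P ≤ alternatingGroup (Om B F p) → IsPGroup p P →
      ∃ g ∈ alternatingGroup (Om B F p), ∀ x ∈ P, g * x * g⁻¹ ∈ S')
    (hT : ∃ t ∈ T', orderOf t = p)
    (hcl : ∀ x ∈ T', ∀ g ∈ alternatingGroup (Om B F p), g * x * g⁻¹ ∈ S' → g * x * g⁻¹ ∈ T')
    (J₀ : Set (Perm (Om B F p))) (hJ₀ : Subgroup.closure J₀ = S') (hJ₀p : ∀ a ∈ J₀, a ^ p = 1) :
    S' ≤ T' := by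
  have hp : p.Prime := Fact.out
  obtain ⟨g₀, hg₀A, hg₀'⟩ := hSyl (baseGroup B F p ⊓ alternatingGroup (Om B F p)) inf_le_right
    (baseGroup_isPGroup.to_le inf_le_left)
  have hg₀ : ∀ x ∈ baseGroup B F p, x ∈ alternatingGroup (Om B F p) → g₀ * x * g₀⁻¹ ∈ S' :=
    fun x h1 h2 => hg₀' x ⟨h1, h2⟩
  have key : ∀ s ∈ S', orderOf s = p → s ∈ T' := by
    intro s hs hso
    obtain ⟨j, hjpos, hj⟩ := card_support_of_orderOf hso
    have hjB := le_card_of_support hF hj
    obtain ⟨J, -, hJc⟩ := Finset.exists_subset_card_eq (s := (Finset.univ : Finset B)) (n := j)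
      (by rwa [Finset.card_univ])
    obtain ⟨a, ha, e⟩ := conj_ind h3 hso J (by rw [hJc, hj])
    have hW : (base (ind J) : Perm (Om B F p)) ∈ Wg T' g₀ := by
      obtain ⟨t, ht, hto⟩ := hT
      obtain ⟨k, hkpos, hk⟩ := card_support_of_orderOf hto
      have hkB := le_card_of_support hF hk
      by_cases hp2 : p = 2
      · have : ∃ t' ∈ T', orderOf t' = p ∧ ∃ k', t'.support.card = k' * p ∧
            k' < Fintype.card B := by
          rcases hkB.lt_or_eq with h | h
          · exact ⟨t, ht, hto, k, hk, h⟩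
          · obtain ⟨t', ht', hto', hk'⟩ := klein h3 hF hp2 S' T' hTS hSA hSyl hcl ht hto
              (by rw [← h]; exact hk)
            exact ⟨t', ht', hto', 2, hk', by omega⟩
        obtain ⟨t', ht', hto', k', hk', hk'B⟩ := this
        apply ind_mem_Wg_of_two h3 S' T' hTS hSA hcl g₀ hg₀A hg₀ hp2 ht' hto' hk' hk'B j J hJc
        have hsA := hSA hs
        rw [mem_alternatingGroup, ← e, map_mul, map_mul, map_inv, mul_right_comm,
          mul_inv_cancel, one_mul, sign_base_ind hp2, hJc] at hsA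
        exact (neg_one_pow_eq_one_iff_even (by decide)).mp hsA
      · exact base_mem_Wg_of_odd h3 S' T' hTS hSA hcl g₀ hg₀A hg₀ hp2 ht hto hk hkB _
    have e2 : s = (a * g₀⁻¹) * (g₀ * base (ind J) * g₀⁻¹) * (a * g₀⁻¹)⁻¹ := by
      rw [← e]; group
    have hW2 : g₀ * base (ind J) * g₀⁻¹ ∈ T' := hW.2
    rw [e2]
    apply hcl _ hW2 _ (mul_mem ha (inv_mem hg₀A))
    rw [← e2]
    exact hs
  rw [← hJ₀, Subgroup.closure_le]
  intro a ha
  have haS : a ∈ S' := hJ₀ ▸ Subgroup.subset_closure ha
  by_cases h1 : a = 1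
  · rw [h1]; exact one_mem _
  · exact key a haS (orderOf_eq_prime (hJ₀p a ha) h1)

end Cfsg.Agent.Lib.Helper26.AnFus
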