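import Mathlib
import Cfsg.Agent.Lib.Helper26.AnFusB

set_option autoImplicit false
set_option linter.unusedSectionVars false

/-! The normalizer of the base group in the symmetric group on `(B × ZMod p) ⊕ F` consists of
monomial permutations, and those of determinant one and even sign are products of `p`-elements
(S5165). -/

namespace Cfsg.Agent.Lib.Helper26.AnFus

open Equiv Equiv.Perm

variable {B F : Type} [Fintype B] [DecidableEq B] [Fintype F] [DecidableEq F] {p : ℕ}
  [Fact p.Prime]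

theorem inl_eq_base_apply (b : B) (n : ℕ) :
    (Sum.inl (b, (n : ZMod p)) : Om B F p) = (base (Pi.single b 1) ^ n) (Sum.inl (b, 0)) := by
  rw [← base_nsmul, base_inl]
  simp

/-- elements normalizing the base group are monomial -/
theorem mono_of_normalizer [Subsingleton F] (g : Perm (Om B F p))
    (hg : ∀ f : B → ZMod p, ∃ f' : B → ZMod p, g * base f * g⁻¹ = base f') :
    ∃ (π : Perm B) (lam : B → (ZMod p)ˣ) (t : B → ZMod p), g = mono π lam t := by
  have hp : p.Prime := Fact.out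
  have step : ∀ b : B, ∃ (b' : B) (y l : ZMod p), l ≠ 0 ∧
      ∀ x : ZMod p, g (Sum.inl (b, x)) = Sum.inl (b', l * x + y) := by
    intro b
    obtain ⟨f', hf'⟩ := hg (Pi.single b 1)
    have hmove : base f' (g (Sum.inl (b, 0))) ≠ g (Sum.inl (b, 0)) := by
      rw [← hf']
      simp only [Perm.mul_apply, pinv_app, base_inl, Pi.single_eq_same, zero_add]
      intro h
      have := g.injective h
      have h1 : (1 : ZMod p) = 0 := (Prod.ext_iff.mp (Sum.inl_injective this)).2
      exact one_ne_zero h1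
    rcases hw : g (Sum.inl (b, 0)) with ⟨b', y⟩ | z
    · rw [hw, base_inl] at hmove
      have hl : f' b' ≠ 0 := by
        intro h
        apply hmove
        rw [h, add_zero]
      refine ⟨b', y, f' b', hl, ?_⟩
      intro x
      have hx : x = ((x.val : ℕ) : ZMod p) := (ZMod.natCast_zmod_val x).symm
      have h2 : g ((base (Pi.single b 1) ^ x.val) (Sum.inl (b, 0))) =
          (g * (base (Pi.single b 1) : Perm (Om B F p)) ^ x.val * g⁻¹ : Perm (Om B F p))
            (g (Sum.inl (b, 0))) := by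
        simp only [Perm.mul_apply, pinv_app]
      conv_lhs => rw [hx, inl_eq_base_apply]
      rw [h2, ← conj_pow, hf', ← base_nsmul, hw, base_inl]
      congr 2
      simp only [Pi.smul_apply, nsmul_eq_mul]
      rw [ZMod.natCast_zmod_val]
      ring
    · rw [hw, base_inr] at hmove
      exact absurd rfl hmove
  choose π t l hl hgx using step
  have hπinj : Function.Injective π := by
    intro b₁ b₂ h
    -- `g (inl (b₂, 0))` is in the image of block `b₁`
    have h1 := hgx b₂ 0
    have h2 := hgx b₁ ((l b₁)⁻¹ * (t b₂ - t b₁))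
    have h3 : g (Sum.inl (b₁, (l b₁)⁻¹ * (t b₂ - t b₁))) = g (Sum.inl (b₂, 0)) := by
      rw [h1, h2, h]
      congr 2
      rw [← mul_assoc, mul_inv_cancel₀ (hl b₁)]
      ring
    have := g.injective h3
    exact (Prod.ext_iff.mp (Sum.inl_injective this)).1
  have hπbij : Function.Bijective π := Finite.injective_iff_bijective.mp hπinj
  have hinr : ∀ z : F, g (Sum.inr z) = Sum.inr z := by
    intro z
    rcases hw : g (Sum.inr z) with ⟨b', x'⟩ | z'
    · exfalso
      obtain ⟨b, rfl⟩ := hπbij.2 b'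
      have h2 := hgx b ((l b)⁻¹ * (x' - t b))
      have h3 : g (Sum.inl (b, (l b)⁻¹ * (x' - t b))) = g (Sum.inr z) := by
        rw [hw, h2]
        congr 2
        rw [← mul_assoc, mul_inv_cancel₀ (hl b)]
        ring
      have := g.injective h3
      exact Sum.inl_ne_inr this
    · rw [Subsingleton.elim z' z]
  refine ⟨Equiv.ofBijective π hπbij, fun b => Units.mk0 (l b) (hl b), t, ?_⟩
  ext (⟨b, x⟩ | z)
  · rw [hgx b x]
    simp
  · rw [hinr z]
    rfl


/-- monomial permutations normalize the base group -/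
theorem mono_mem_normalizer (π : Perm B) (lam : B → (ZMod p)ˣ) (t : B → ZMod p) :
    (mono π lam t : Perm (Om B F p)) ∈ Subgroup.normalizer ((baseGroup B F p : Subgroup _) : Set _) := by
  apply Subgroup.mem_normalizer_fintype
  rintro _ ⟨f, rfl⟩
  rw [mono_mul_base, mul_inv_cancel_right]
  exact base_mem _

/-- the subgroup generated by the `p`-elements of the normalizer of the base group -/
def KE (B F : Type) [Fintype B] [DecidableEq B] [Fintype F] [DecidableEq F] (p : ℕ)
    [Fact p.Prime] : Subgroup (Perm (Om B F p)) :=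
  Subgroup.closure {y | y ∈ Subgroup.normalizer ((baseGroup B F p : Subgroup _) : Set _) ∧
    ∃ k : ℕ, orderOf y = p ^ k}

theorem KE_conj {g y : Perm (Om B F p)}
    (hg : g ∈ Subgroup.normalizer ((baseGroup B F p : Subgroup _) : Set _)) (hy : y ∈ KE B F p) :
    g * y * g⁻¹ ∈ KE B F p := by
  have h1 : (MulAut.conj g).toMonoidHom y ∈ (KE B F p).map (MulAut.conj g).toMonoidHom :=
    ⟨y, hy, rfl⟩
  unfold KE at h1
  rw [MonoidHom.map_closure] at h1
  refine (Subgroup.closure_mono ?_) h1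
  rintro _ ⟨z, ⟨hz, k, hk⟩, rfl⟩
  refine ⟨mul_mem (mul_mem hg hz) (inv_mem hg), k, ?_⟩
  rw [← hk]
  exact MulEquiv.orderOf_eq (MulAut.conj g) z

theorem KE_le_alt (hodd : p ≠ 2) : KE B F p ≤ alternatingGroup (Om B F p) := by
  unfold KE
  rw [Subgroup.closure_le]
  rintro y ⟨-, k, hk⟩
  rw [SetLike.mem_coe, mem_alternatingGroup]
  apply sign_eq_one_of_pow_prime_pow hodd y k
  rw [← hk]
  exact pow_orderOf_eq_one y

theorem mem_KE_of_pow {y : Perm (Om B F p)}
    (hy : y ∈ Subgroup.normalizer ((baseGroup B F p : Subgroup _) : Set _)) (k : ℕ)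
    (h : y ^ (p ^ k) = 1) : y ∈ KE B F p := by
  have hp : p.Prime := Fact.out
  apply Subgroup.subset_closure
  refine ⟨hy, ?_⟩
  obtain ⟨j, -, hj⟩ := (Nat.dvd_prime_pow hp).mp (orderOf_dvd_of_pow_eq_one h)
  exact ⟨j, hj⟩

theorem base_mem_KE (f : B → ZMod p) : (base f : Perm (Om B F p)) ∈ KE B F p := by
  apply mem_KE_of_pow _ 1
  · rw [pow_one]; exact base_pow_p f
  · exact mono_mem_normalizer _ _ _

theorem lift_mem_KE_of_pow (γ : Perm B) (k : ℕ) (h : γ ^ (p ^ k) = 1) :
    (lift γ : Perm (Om B F p)) ∈ KE B F p := by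
  apply mem_KE_of_pow _ k
  · rw [← lift_pow, h, lift_one]
  · exact mono_mem_normalizer _ _ _

/-- the block permutations whose lift lies in `KE` -/
def KB (B F : Type) [Fintype B] [DecidableEq B] [Fintype F] [DecidableEq F] (p : ℕ)
    [Fact p.Prime] : Subgroup (Perm B) := (KE B F p).comap (liftHom (F := F) (p := p))

theorem mem_KB {γ : Perm B} : γ ∈ KB B F p ↔ (lift γ : Perm (Om B F p)) ∈ KE B F p := Iff.rfl

theorem KB_conj {γ σ : Perm B} (hγ : γ ∈ KB B F p) : σ * γ * σ⁻¹ ∈ KB B F p := by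
  rw [mem_KB] at hγ ⊢
  rw [lift_mul, lift_mul, lift_inv]
  exact KE_conj (mono_mem_normalizer _ _ _) hγ

theorem alt_le_KB (hodd : p ≠ 2) (hpB : p ≤ Fintype.card B) :
    alternatingGroup B ≤ KB B F p := by
  have hp : p.Prime := Fact.out
  -- an element of order `p`
  obtain ⟨γ, hγ⟩ := exists_prime_orderOf_dvd_card (G := Perm B) p (by
    rw [Fintype.card_perm]
    exact hp.dvd_factorial.mpr hpB)
  have hγK : γ ∈ KB B F p := by
    rw [mem_KB]
    apply lift_mem_KE_of_pow γ 1
    rw [pow_one, ← hγ]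
    exact pow_orderOf_eq_one γ
  have hγ1 : γ ≠ 1 := by
    rintro rfl
    rw [orderOf_one] at hγ
    exact hp.one_lt.ne hγ
  obtain ⟨b₀, hb₀⟩ : ∃ b, γ b ≠ b := by
    by_contra h
    push Not at h
    exact hγ1 (Equiv.ext h)
  have hb₁ : γ (γ b₀) ≠ γ b₀ := fun h => hb₀ (γ.injective h)
  have hb₂ : γ (γ b₀) ≠ b₀ := by
    intro h
    -- `γ ^ 2` fixes `b₀`, and `p` is odd
    obtain ⟨q, hq⟩ := hp.odd_of_ne_two hodd
    have h2 : ∀ n : ℕ, (γ ^ (2 * n)) b₀ = b₀ := by
      intro n
      induction n with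
      | zero => simp
      | succ n ih =>
        rw [Nat.mul_succ, pow_add, Perm.mul_apply, pow_two, Perm.mul_apply, h, ih]
    have h3 : (γ ^ p) b₀ = b₀ := by
      rw [← hγ, pow_orderOf_eq_one]
      rfl
    rw [hq, pow_succ, Perm.mul_apply] at h3
    have h4 := h2 q
    have h5 : (γ ^ (2 * q)) (γ b₀) = γ b₀ := by
      have : (γ ^ (2 * q)) (γ b₀) = γ ((γ ^ (2 * q)) b₀) := by
        rw [← Perm.mul_apply, ← Perm.mul_apply, ← pow_succ, ← pow_succ']
      rw [this, h4]
    rw [h5] at h3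
    exact hb₀ h3
  -- a three-cycle in `KB`
  have h3c : swap (γ b₀) (γ (γ b₀)) * swap (γ b₀) b₀ ∈ KB B F p := by
    have e : swap (γ b₀) (γ (γ b₀)) * swap (γ b₀) b₀ =
        γ * (swap b₀ (γ b₀) * γ⁻¹ * (swap b₀ (γ b₀))⁻¹) := by
      rw [swap_apply_apply, swap_comm (γ b₀) b₀, swap_inv]
      group
    rw [e]
    exact mul_mem hγK (KB_conj (inv_mem hγK))
  have h3c' : (swap (γ b₀) (γ (γ b₀)) * swap (γ b₀) b₀).IsThreeCycle :=
    isThreeCycle_swap_mul_swap_same hb₁.symm hb₀ hb₂
  rw [← closure_three_cycles_eq_alternating, Subgroup.closure_le]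
  intro σ hσ
  have hσ' : σ.IsThreeCycle := hσ
  have hconj : IsConj (swap (γ b₀) (γ (γ b₀)) * swap (γ b₀) b₀) σ := by
    rw [isConj_iff_cycleType_eq, h3c'.cycleType, hσ'.cycleType]
  obtain ⟨c, hc⟩ := isConj_iff.mp hconj
  rw [SetLike.mem_coe, ← hc]
  exact KB_conj h3c


/-- the diagonal elements lying in `KE` -/
def KD (B F : Type) [Fintype B] [DecidableEq B] [Fintype F] [DecidableEq F] (p : ℕ)
    [Fact p.Prime] : Subgroup (B → (ZMod p)ˣ) := (KE B F p).comap (diagHom (F := F) (p := p))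

theorem mem_KD {ν : B → (ZMod p)ˣ} : ν ∈ KD B F p ↔ (diag ν : Perm (Om B F p)) ∈ KE B F p :=
  Iff.rfl

theorem comm_diag_lift (μ : B → (ZMod p)ˣ) (γ : Perm B) :
    (diag μ * lift γ * (diag μ)⁻¹ * (lift γ)⁻¹ : Perm (Om B F p)) =
      diag (fun b => μ b * (μ (γ⁻¹ b))⁻¹) := by
  rw [← lift_inv, ← diag_inv]
  ext (⟨b, x⟩ | y)
  · simp only [Perm.mul_apply, lift_inl, diag_inl, Pi.inv_apply, papp_inv, Units.val_mul]
    congr 2
    ring
  · rfl

theorem mulSingle_div_mem_KD (hodd : p ≠ 2) (hpB : p ≤ Fintype.card B)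
    (h3 : 3 ≤ Fintype.card B) (b₀ b : B) (a : (ZMod p)ˣ) :
    Pi.mulSingle b₀ a * (Pi.mulSingle b a)⁻¹ ∈ KD B F p := by
  by_cases hb : b = b₀
  · subst hb
    rw [mul_inv_cancel]
    exact one_mem _
  -- a third block
  obtain ⟨c, hc0, hcb⟩ : ∃ c : B, c ≠ b₀ ∧ c ≠ b := by
    obtain ⟨x, y, z, hxy, hxz, hyz⟩ := Fintype.two_lt_card_iff.mp (by omega : 2 < Fintype.card B)
    by_cases hx0 : x = b₀
    · by_cases hyb : y = b
      · refine ⟨z, ?_, ?_⟩
        · rw [← hx0]; exact hxz.symm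
        · rw [← hyb]; exact hyz.symm
      · exact ⟨y, by rw [← hx0]; exact hxy.symm, hyb⟩
    · by_cases hxb : x = b
      · by_cases hy0 : y = b₀
        · refine ⟨z, ?_, ?_⟩
          · rw [← hy0]; exact hyz.symm
          · rw [← hxb]; exact hxz.symm
        · exact ⟨y, hy0, by rw [← hxb]; exact hxy.symm⟩
      · exact ⟨x, hx0, hxb⟩
  set γ : Perm B := swap b₀ b * swap b c with hγ
  have hγA : γ ∈ alternatingGroup B := by
    rw [mem_alternatingGroup, hγ, map_mul, sign_swap (Ne.symm hb), sign_swap hcb.symm]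
    decide
  have hγK : (lift γ : Perm (Om B F p)) ∈ KE B F p := alt_le_KB hodd hpB hγA
  have hγb₀ : γ b₀ = b := by
    rw [hγ, Perm.mul_apply, swap_apply_of_ne_of_ne (Ne.symm hb) hc0.symm, swap_apply_left]
  have hγinv : γ⁻¹ b = b₀ := by rw [← hγb₀, pinv_app]
  have h1 : (diag (Pi.mulSingle b₀ a) * lift γ * (diag (Pi.mulSingle b₀ a))⁻¹ * (lift γ)⁻¹ :
      Perm (Om B F p)) ∈ KE B F p :=
    mul_mem (KE_conj (mono_mem_normalizer _ _ _) hγK) (inv_mem hγK)
  rw [comm_diag_lift] at h1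
  rw [mem_KD]
  convert h1 using 2
  funext d
  rw [Pi.mul_apply, Pi.inv_apply]
  congr 2
  rw [Pi.mulSingle_apply, Pi.mulSingle_apply]
  by_cases hd : d = b
  · subst hd
    rw [if_pos rfl, if_pos hγinv]
  · rw [if_neg hd, if_neg]
    intro h
    apply hd
    rw [← hγb₀, ← h, papp_inv]

theorem diag_mem_KE (hodd : p ≠ 2) (hpB : p ≤ Fintype.card B) (h3 : 3 ≤ Fintype.card B)
    (ν : B → (ZMod p)ˣ) (hν : ∏ b, ν b = 1) : (diag ν : Perm (Om B F p)) ∈ KE B F p := by
  have hB : Nonempty B := Fintype.card_pos_iff.mp (by omega)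
  obtain ⟨b₀⟩ := hB
  rw [← mem_KD]
  have h1 : ∏ b, (Pi.mulSingle b₀ (ν b) * (Pi.mulSingle b (ν b))⁻¹ : B → (ZMod p)ˣ) ∈ KD B F p :=
    Subgroup.prod_mem _ (fun b _ => mulSingle_div_mem_KD hodd hpB h3 b₀ b (ν b))
  have h2 : ∏ b, (Pi.mulSingle b₀ (ν b) * (Pi.mulSingle b (ν b))⁻¹ : B → (ZMod p)ˣ) = ν⁻¹ := by
    rw [Finset.prod_mul_distrib, Finset.prod_inv_distrib, Finset.univ_prod_mulSingle]
    have : ∏ b, (Pi.mulSingle b₀ (ν b) : B → (ZMod p)ˣ) = 1 := by
      have := map_prod (MonoidHom.mulSingle (fun _ : B => (ZMod p)ˣ) b₀) ν Finset.univ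
      simp only [MonoidHom.mulSingle_apply] at this
      rw [← this, hν, Pi.mulSingle_one]
    rw [this, one_mul]
  rw [h2] at h1
  have := inv_mem h1
  rwa [inv_inv] at this

/-- **monomial permutations of determinant one and even sign are products of `p`-elements** -/
theorem mono_mem_KE (hodd : p ≠ 2) (hpB : p ≤ Fintype.card B) (h3 : 3 ≤ Fintype.card B)
    (π : Perm B) (lam : B → (ZMod p)ˣ) (t : B → ZMod p) (hdet : ∏ b, lam b = 1)
    (hsign : sign (mono π lam t : Perm (Om B F p)) = 1) :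
    (mono π lam t : Perm (Om B F p)) ∈ KE B F p := by
  have h1 : (base (fun b => t (π.symm b)) : Perm (Om B F p)) ∈ KE B F p := base_mem_KE _
  have h2 : (diag (fun b => lam (π.symm b)) : Perm (Om B F p)) ∈ KE B F p := by
    apply diag_mem_KE hodd hpB h3
    rw [Equiv.prod_comp π.symm lam, hdet]
  rw [mono_eq] at hsign ⊢
  have s1 := mem_alternatingGroup.mp (KE_le_alt hodd h1)
  have s2 := mem_alternatingGroup.mp (KE_le_alt hodd h2)
  rw [map_mul, map_mul, s1, s2, one_mul, one_mul, sign_lift_of_odd hodd] at hsign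
  exact mul_mem (mul_mem h1 h2) (alt_le_KB hodd hpB (mem_alternatingGroup.mpr hsign))


/-- the base group is its own centralizer in the symmetric group (at most one fixed point) -/
theorem centralizer_baseGroup_le [Subsingleton F] (g : Perm (Om B F p))
    (hg : ∀ q ∈ baseGroup B F p, q * g = g * q) : g ∈ baseGroup B F p := by
  have hcomm : ∀ f : B → ZMod p, g * base f = base f * g := fun f => (hg _ (base_mem f)).symm
  obtain ⟨π, lam, t, rfl⟩ := mono_of_normalizer g (fun f => ⟨f, by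
    rw [hcomm f, mul_inv_cancel_right]⟩)
  have key : ∀ b : B, π b = b ∧ lam b = 1 := by
    intro b
    have h1 := hcomm (Pi.single b 1)
    have h2 := congrArg (fun k : Perm (Om B F p) => k (Sum.inl (b, 0))) h1
    simp only [Perm.mul_apply, base_inl, mono_inl, Pi.single_eq_same, zero_add, mul_one,
      mul_zero, Sum.inl.injEq, Prod.mk.injEq, true_and] at h2
    have hπ : π b = b := by
      by_contra hne
      rw [Pi.single_eq_of_ne hne, add_zero] at h2
      have : (lam b : ZMod p) = 0 := by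
        have := h2
        rwa [add_eq_right] at this
      exact (lam b).ne_zero this
    refine ⟨hπ, ?_⟩
    rw [hπ, Pi.single_eq_same] at h2
    have : (lam b : ZMod p) = 1 := by
      have h3 : (lam b : ZMod p) + t b = 1 + t b := by rw [h2, add_comm]
      exact add_right_cancel h3
    exact Units.ext this
  have hπ : π = 1 := Equiv.ext (fun b => (key b).1)
  have hlam : lam = fun _ => 1 := funext (fun b => (key b).2)
  rw [hπ, hlam]
  exact base_mem t

end Cfsg.Agent.Lib.Helper26.AnFus
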