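import Mathlib
import Cfsg.Agent.Lib.Helper26.AnFusB

set_option autoImplicit false
set_option linter.unusedSectionVars false

/-! The wreath product `Z_p ≀ R` inside the symmetric group on `(B × ZMod p) ⊕ F` (S5165). -/

namespace Cfsg.Agent.Lib.Helper26.AnFus

open Equiv Equiv.Perm

variable {B F : Type} [Fintype B] [DecidableEq B] [Fintype F] [DecidableEq F] {p : ℕ}
  [Fact p.Prime]

theorem base_mul_lift (f : B → ZMod p) (σ : Perm B) :
    (base f * lift σ : Perm (Om B F p)) = mono σ (fun _ => 1) (fun b => f (σ b)) := by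
  ext (⟨b, x⟩ | y)
  · simp
  · rfl

theorem lift_conj_base (π : Perm B) (f : B → ZMod p) :
    (lift π * base f * (lift π)⁻¹ : Perm (Om B F p)) = base (fun b => f (π.symm b)) := by
  rw [lift_mul_base, mul_inv_cancel_right]

theorem diag_mul_base (lam : B → (ZMod p)ˣ) (f : B → ZMod p) :
    (diag lam * base f : Perm (Om B F p)) = base (fun b => (lam b : ZMod p) * f b) * diag lam := by
  ext (⟨b, x⟩ | y)
  · simp only [Perm.mul_apply, base_inl, diag_inl]
    congr 2
    ring
  · rfl

/-- the wreath product of `Z_p` with a group `R` of block permutations -/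
def Wr (F : Type) [Fintype F] [DecidableEq F] (p : ℕ) [Fact p.Prime] (R : Subgroup (Perm B)) :
    Subgroup (Perm (Om B F p)) where
  carrier := {g | ∃ f : B → ZMod p, ∃ σ ∈ R, g = base f * lift σ}
  one_mem' := ⟨0, 1, R.one_mem, by rw [base_zero, lift_one, one_mul]⟩
  mul_mem' := by
    rintro _ _ ⟨f, σ, hσ, rfl⟩ ⟨f', σ', hσ', rfl⟩
    refine ⟨f + (fun b => f' (σ.symm b)), σ * σ', R.mul_mem hσ hσ', ?_⟩
    rw [base_add, lift_mul]
    calc (base f * lift σ * (base f' * lift σ') : Perm (Om B F p))
        = base f * (lift σ * base f') * lift σ' := by group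
      _ = base f * base (fun b => f' (σ.symm b)) * (lift σ * lift σ') := by
        rw [lift_mul_base]; group
  inv_mem' := by
    rintro _ ⟨f, σ, hσ, rfl⟩
    refine ⟨fun b => -f (σ b), σ⁻¹, R.inv_mem hσ, ?_⟩
    rw [mul_inv_rev, ← lift_inv, ← base_neg, lift_mul_base]
    rfl

theorem mem_Wr {R : Subgroup (Perm B)} {g : Perm (Om B F p)} :
    g ∈ Wr F p R ↔ ∃ f : B → ZMod p, ∃ σ ∈ R, g = base f * lift σ := Iff.rfl

theorem base_mem_Wr (R : Subgroup (Perm B)) (f : B → ZMod p) :
    (base f : Perm (Om B F p)) ∈ Wr F p R :=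
  ⟨f, 1, R.one_mem, by rw [lift_one, mul_one]⟩

theorem lift_mem_Wr {R : Subgroup (Perm B)} {σ : Perm B} (hσ : σ ∈ R) :
    (lift σ : Perm (Om B F p)) ∈ Wr F p R :=
  ⟨0, σ, hσ, by rw [base_zero, one_mul]⟩

theorem baseGroup_le_Wr (R : Subgroup (Perm B)) : baseGroup B F p ≤ Wr F p R := by
  rintro _ ⟨f, rfl⟩
  exact base_mem_Wr R f

theorem card_Wr (R : Subgroup (Perm B)) :
    Nat.card (Wr F p R) = p ^ Fintype.card B * Nat.card R := by
  have e : ((B → ZMod p) × R) ≃ Wr F p R := by
    refine Equiv.ofBijective (fun x => ⟨base x.1 * lift (x.2 : Perm B), x.1, x.2, x.2.2, rfl⟩)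
      ⟨?_, ?_⟩
    · rintro ⟨f, σ⟩ ⟨f', σ'⟩ h
      have h1 : (base f * lift (σ : Perm B) : Perm (Om B F p)) = base f' * lift (σ' : Perm B) :=
        congrArg Subtype.val h
      rw [base_mul_lift, base_mul_lift] at h1
      obtain ⟨h2, -, h3⟩ := mono_injective h1
      have h4 : f = f' := by
        funext b
        have := congrFun h3 ((σ : Perm B).symm b)
        simp only [Equiv.apply_symm_apply] at this
        rw [this, h2]
        simp
      rw [h4, Subtype.ext h2]
    · rintro ⟨_, f, σ, hσ, rfl⟩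
      exact ⟨(f, ⟨σ, hσ⟩), rfl⟩
  rw [← Nat.card_congr e, Nat.card_prod, Nat.card_eq_fintype_card, Fintype.card_fun, ZMod.card]

theorem Wr_isPGroup {R : Subgroup (Perm B)} (hR : IsPGroup p R) : IsPGroup p (Wr F p R) := by
  obtain ⟨k, hk⟩ := IsPGroup.iff_card.mp hR
  apply IsPGroup.of_card (n := Fintype.card B + k)
  rw [card_Wr, hk, pow_add]

theorem Wr_le_alt (hodd : p ≠ 2) {R : Subgroup (Perm B)} (hR : IsPGroup p R) :
    Wr F p R ≤ alternatingGroup (Om B F p) := by
  intro g hg
  obtain ⟨k, hk⟩ := (Wr_isPGroup (F := F) hR) ⟨g, hg⟩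
  rw [mem_alternatingGroup]
  apply sign_eq_one_of_pow_prime_pow hodd g k
  have := congrArg Subtype.val hk
  simpa using this

/-- diagonal elements constant on the orbits of `R` normalize the wreath product -/
theorem diag_mem_normalizer_Wr {R : Subgroup (Perm B)} (lam : B → (ZMod p)ˣ)
    (h : ∀ σ ∈ R, ∀ b, lam (σ b) = lam b) :
    (diag lam : Perm (Om B F p)) ∈ Subgroup.normalizer ((Wr F p R : Subgroup _) : Set _) := by
  apply Subgroup.mem_normalizer_fintype
  rintro _ ⟨f, σ, hσ, rfl⟩
  refine ⟨fun b => (lam b : ZMod p) * f b, σ, hσ, ?_⟩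
  have h1 : (diag lam * lift σ : Perm (Om B F p)) = lift σ * diag lam := by
    rw [diag_mul_lift]
    congr 2
    funext b
    exact h σ hσ b
  calc (diag lam * (base f * lift σ) * (diag lam)⁻¹ : Perm (Om B F p))
      = (diag lam * base f) * lift σ * (diag lam)⁻¹ := by group
    _ = base (fun b => (lam b : ZMod p) * f b) * (diag lam * lift σ) * (diag lam)⁻¹ := by
      rw [diag_mul_base]; group
    _ = _ := by rw [h1]; group

/-- lifts of elements normalizing `R` normalize the wreath product -/
theorem lift_mem_normalizer_Wr {R : Subgroup (Perm B)} (π : Perm B)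
    (h : π ∈ Subgroup.normalizer (R : Set (Perm B))) :
    (lift π : Perm (Om B F p)) ∈ Subgroup.normalizer ((Wr F p R : Subgroup _) : Set _) := by
  apply Subgroup.mem_normalizer_fintype
  rintro _ ⟨f, σ, hσ, rfl⟩
  refine ⟨fun b => f (π.symm b), π * σ * π⁻¹, (Subgroup.mem_normalizer_iff.mp h σ).mp hσ, ?_⟩
  rw [lift_mul, lift_mul, lift_inv]
  calc (lift π * (base f * lift σ) * (lift π)⁻¹ : Perm (Om B F p))
      = (lift π * base f) * lift σ * (lift π)⁻¹ := by group
    _ = _ := by rw [lift_mul_base]; group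

/-- the normalizer of the wreath product normalizes the base group -/
theorem normalizer_Wr_base {R : Subgroup (Perm B)} {g : Perm (Om B F p)}
    (hg : g ∈ Subgroup.normalizer ((Wr F p R : Subgroup _) : Set _)) (f : B → ZMod p) :
    ∃ f' : B → ZMod p, g * base f * g⁻¹ = base f' := by
  have hp : p.Prime := Fact.out
  have hsingle : ∀ b : B, g * base (Pi.single b 1) * g⁻¹ ∈ baseGroup B F p := by
    intro b
    have h1 : g * base (Pi.single b 1) * g⁻¹ ∈ Wr F p R :=
      (Subgroup.mem_normalizer_iff.mp hg _).mp (base_mem_Wr R _)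
    obtain ⟨f', σ, hσ, e⟩ := h1
    have hcard : (g * base (Pi.single b 1) * g⁻¹ : Perm (Om B F p)).support.card = 1 * p := by
      rw [card_support_conj, card_support_base]
      congr 1
      unfold wt
      rw [Finset.card_eq_one]
      refine ⟨b, ?_⟩
      ext c
      simp only [Finset.mem_filter, Finset.mem_univ, true_and, Finset.mem_singleton]
      by_cases hc : c = b
      · subst hc; simp
      · simp [hc]
    rw [e, base_mul_lift, card_support_mono_one] at hcard
    have hc1 : (Finset.univ.filter (fun b => σ b ≠ b ∨ f' (σ b) ≠ 0)).card = 1 :=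
      Nat.eq_of_mul_eq_mul_right hp.pos hcard
    have hσ1 : σ = 1 := by
      by_contra hne
      have h2 := two_le_card_support_of_ne_one hne
      have h3 : σ.support ⊆ Finset.univ.filter (fun b => σ b ≠ b ∨ f' (σ b) ≠ 0) := by
        intro c hc
        rw [Perm.mem_support] at hc
        simp [hc]
      have := Finset.card_le_card h3
      omega
    rw [e, hσ1, lift_one, mul_one]
    exact base_mem _
  have hall : baseGroup B F p ≤ (baseGroup B F p).comap (MulAut.conj g).toMonoidHom := by
    rw [baseGroup_eq_closure, Subgroup.closure_le]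
    rintro _ ⟨b, rfl⟩
    have := hsingle b
    rw [baseGroup_eq_closure] at this
    exact this
  obtain ⟨f', hf'⟩ := hall (base_mem f)
  exact ⟨f', hf'.symm⟩

end Cfsg.Agent.Lib.Helper26.AnFus
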