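import Mathlib
import Cfsg.Agent.Lib.Helper26.AnFusE

set_option autoImplicit false
set_option linter.unusedSectionVars false

/-! Two levels of blocks: the element `x0` of the normalizer of the Sylow subgroup acting as
`diag(ζ⁻¹, ζ)` on some planes `ZMod p × ZMod p`, the abelian subgroup `Qp` it normalizes, and the
transvections it is a product of (S5165). -/

namespace Cfsg.Agent.Lib.Helper26.AnFus

open Equiv Equiv.Perm

variable {B₂ F₂ F : Type} [Fintype B₂] [DecidableEq B₂] [Fintype F₂] [DecidableEq F₂]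
  [Fintype F] [DecidableEq F] {p : ℕ} [Fact p.Prime]

/-- the two-level model set -/
abbrev Om2 (B₂ F₂ F : Type) (p : ℕ) := Om (Om B₂ F₂ p) F p

/-- the underlying function of the transvection `y ↦ y + a x` -/
def shearYFun (a : B₂ → ZMod p) : Om2 B₂ F₂ F p → Om2 B₂ F₂ F p
  | Sum.inl (Sum.inl (u, y), x) => Sum.inl (Sum.inl (u, y + a u * x), x)
  | Sum.inl (Sum.inr z, x) => Sum.inl (Sum.inr z, x)
  | Sum.inr w => Sum.inr w

/-- the transvection `y ↦ y + a x` on the planes -/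
def shearY (a : B₂ → ZMod p) : Perm (Om2 B₂ F₂ F p) where
  toFun := shearYFun a
  invFun := shearYFun (-a)
  left_inv := by
    rintro (⟨⟨u, y⟩ | z, x⟩ | w)
    · simp [shearYFun]
    · rfl
    · rfl
  right_inv := by
    rintro (⟨⟨u, y⟩ | z, x⟩ | w)
    · simp [shearYFun]
    · rfl
    · rfl

@[simp] theorem shearY_inl_inl (a : B₂ → ZMod p) (u : B₂) (y x : ZMod p) :
    shearY (F₂ := F₂) (F := F) a (Sum.inl (Sum.inl (u, y), x)) =
      Sum.inl (Sum.inl (u, y + a u * x), x) := rfl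

@[simp] theorem shearY_inl_inr (a : B₂ → ZMod p) (z : F₂) (x : ZMod p) :
    shearY (F₂ := F₂) (F := F) a (Sum.inl (Sum.inr z, x)) = Sum.inl (Sum.inr z, x) := rfl

@[simp] theorem shearY_inr (a : B₂ → ZMod p) (w : F) :
    shearY (F₂ := F₂) (F := F) a (Sum.inr w) = Sum.inr w := rfl

theorem shearY_add (a a' : B₂ → ZMod p) :
    (shearY (a + a') : Perm (Om2 B₂ F₂ F p)) = shearY a * shearY a' := by
  ext (⟨⟨u, y⟩ | z, x⟩ | w)
  · simp only [Perm.mul_apply, shearY_inl_inl, Pi.add_apply]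
    congr 4
    ring
  · rfl
  · rfl

theorem shearY_zero : (shearY 0 : Perm (Om2 B₂ F₂ F p)) = 1 := by
  ext (⟨⟨u, y⟩ | z, x⟩ | w)
  · simp
  · rfl
  · rfl

theorem shearY_nsmul (a : B₂ → ZMod p) (n : ℕ) :
    (shearY (n • a) : Perm (Om2 B₂ F₂ F p)) = shearY a ^ n := by
  induction n with
  | zero => rw [zero_smul, shearY_zero, pow_zero]
  | succ n ih => rw [succ_nsmul, shearY_add, ih, pow_succ]

theorem shearY_pow_p (a : B₂ → ZMod p) : (shearY a : Perm (Om2 B₂ F₂ F p)) ^ p = 1 := by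
  rw [← shearY_nsmul]
  have : p • a = 0 := by
    ext b
    simp
  rw [this, shearY_zero]

/-- the function defining the transvection `x ↦ x + a y` -/
def hX (a : B₂ → ZMod p) : Om B₂ F₂ p → ZMod p :=
  Sum.elim (fun uy => a uy.1 * uy.2) (fun _ => 0)

@[simp] theorem hX_inl (a : B₂ → ZMod p) (u : B₂) (y : ZMod p) :
    hX (F₂ := F₂) a (Sum.inl (u, y)) = a u * y := rfl

@[simp] theorem hX_inr (a : B₂ → ZMod p) (z : F₂) : hX (F₂ := F₂) a (Sum.inr z) = 0 := rfl

/-- the transvection `x ↦ x + a y` on the planes -/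
def shearX (a : B₂ → ZMod p) : Perm (Om2 B₂ F₂ F p) := base (hX a)

/-- the scalar `ζ` on the blocks of the planes in `U` -/
def lamU (U : Finset B₂) (ζ : (ZMod p)ˣ) : Om B₂ F₂ p → (ZMod p)ˣ :=
  Sum.elim (fun uy => if uy.1 ∈ U then ζ else 1) (fun _ => 1)

@[simp] theorem lamU_inl (U : Finset B₂) (ζ : (ZMod p)ˣ) (u : B₂) (y : ZMod p) :
    lamU (F₂ := F₂) U ζ (Sum.inl (u, y)) = if u ∈ U then ζ else 1 := rfl

@[simp] theorem lamU_inr (U : Finset B₂) (ζ : (ZMod p)ˣ) (z : F₂) :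
    lamU (F₂ := F₂) U ζ (Sum.inr z) = 1 := rfl

/-- the scalar `ζ⁻¹` on the planes in `U` -/
def muU (U : Finset B₂) (ζ : (ZMod p)ˣ) : B₂ → (ZMod p)ˣ := fun u => if u ∈ U then ζ⁻¹ else 1

/-- the element acting as `diag(ζ⁻¹, ζ)` on the planes in `U` -/
def x0 (U : Finset B₂) (ζ : (ZMod p)ˣ) : Perm (Om2 B₂ F₂ F p) :=
  mono (diag (muU U ζ)) (lamU U ζ) (fun _ => 0)

/-- the restriction of a function to `U` -/
def resU (U : Finset B₂) (c : ZMod p) : B₂ → ZMod p := fun u => if u ∈ U then c else 0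

theorem x0_eq (U : Finset B₂) (ζ : (ZMod p)ˣ) :
    (x0 U ζ : Perm (Om2 B₂ F₂ F p)) =
      shearY (resU U ((ζ⁻¹ : (ZMod p)ˣ) : ZMod p)) * shearX (resU U (-(ζ : ZMod p))) *
        shearY (resU U ((ζ⁻¹ : (ZMod p)ˣ) : ZMod p)) *
        (shearY (resU U (-1)) * shearX (resU U 1) * shearY (resU U (-1))) := by
  have hζ : (ζ : ZMod p) * ((ζ⁻¹ : (ZMod p)ˣ) : ZMod p) = 1 := by
    rw [← Units.val_mul, mul_inv_cancel, Units.val_one]
  ext (⟨⟨u, y⟩ | z, x⟩ | w)
  · by_cases hu : u ∈ U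
    · simp only [x0, shearX, Perm.mul_apply, shearY_inl_inl, base_inl, hX_inl, mono_inl, diag_inl,
        lamU_inl, muU, resU, if_pos hu, add_zero]
      congr 2
      · congr 2
        linear_combination (-(x - ((ζ⁻¹ : (ZMod p)ˣ) : ZMod p) * y)) * hζ
      · linear_combination y * hζ
    · simp only [x0, shearX, Perm.mul_apply, shearY_inl_inl, base_inl, hX_inl, mono_inl, diag_inl,
        lamU_inl, muU, resU, if_neg hu, add_zero, zero_mul, Units.val_one, one_mul]
  · simp only [x0, shearX, Perm.mul_apply, shearY_inl_inr, base_inl, hX_inr, mono_inl, diag_inr,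
      lamU_inr, add_zero, Units.val_one, one_mul]
  · rfl


/-- functions on the blocks that are constant on the planes in `U` -/
def FU (F₂ : Type) (p : ℕ) (U : Finset B₂) (f : Om B₂ F₂ p → ZMod p) : Prop :=
  ∀ u ∈ U, ∀ y : ZMod p, f (Sum.inl (u, y)) = f (Sum.inl (u, 0))

/-- functions on the planes that vanish outside `U` -/
def CU (p : ℕ) (U : Finset B₂) (c : B₂ → ZMod p) : Prop := ∀ u, u ∉ U → c u = 0

/-- the first factor of `Qp`: translations of the `x`-coordinate -/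
def Q1 (F₂ F : Type) [Fintype F₂] [DecidableEq F₂] [Fintype F] [DecidableEq F] (p : ℕ)
    [Fact p.Prime] (U : Finset B₂) : Subgroup (Perm (Om2 B₂ F₂ F p)) where
  carrier := {g | ∃ f : Om B₂ F₂ p → ZMod p, FU F₂ p U f ∧ g = base f}
  one_mem' := ⟨0, fun _ _ _ => rfl, base_zero.symm⟩
  mul_mem' := by
    rintro _ _ ⟨f, hf, rfl⟩ ⟨f', hf', rfl⟩
    refine ⟨f + f', fun u hu y => ?_, (base_add f f').symm⟩
    rw [Pi.add_apply, Pi.add_apply, hf u hu y, hf' u hu y]
  inv_mem' := by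
    rintro _ ⟨f, hf, rfl⟩
    refine ⟨-f, fun u hu y => ?_, (base_neg f).symm⟩
    rw [Pi.neg_apply, Pi.neg_apply, hf u hu y]

/-- the second factor of `Qp`: translations of the `y`-coordinate on the planes in `U` -/
def Q2 (F₂ F : Type) [Fintype F₂] [DecidableEq F₂] [Fintype F] [DecidableEq F] (p : ℕ)
    [Fact p.Prime] (U : Finset B₂) : Subgroup (Perm (Om2 B₂ F₂ F p)) where
  carrier := {g | ∃ c : B₂ → ZMod p, CU p U c ∧ g = lift (base c)}
  one_mem' := ⟨0, fun _ _ => rfl, by rw [base_zero, lift_one]⟩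
  mul_mem' := by
    rintro _ _ ⟨c, hc, rfl⟩ ⟨c', hc', rfl⟩
    refine ⟨c + c', fun u hu => ?_, by rw [base_add, lift_mul]⟩
    rw [Pi.add_apply, hc u hu, hc' u hu, add_zero]
  inv_mem' := by
    rintro _ ⟨c, hc, rfl⟩
    refine ⟨-c, fun u hu => ?_, by rw [base_neg, lift_inv]⟩
    rw [Pi.neg_apply, hc u hu, neg_zero]

/-- the abelian subgroup acting regularly on the planes in `U` and on the other blocks -/
def Qp (F₂ F : Type) [Fintype F₂] [DecidableEq F₂] [Fintype F] [DecidableEq F] (p : ℕ)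
    [Fact p.Prime] (U : Finset B₂) : Subgroup (Perm (Om2 B₂ F₂ F p)) :=
  Q1 F₂ F p U ⊔ Q2 F₂ F p U

theorem mem_normalizer_Qp (U : Finset B₂) (g : Perm (Om2 B₂ F₂ F p))
    (h1 : ∀ q ∈ Q1 F₂ F p U, g * q * g⁻¹ ∈ Qp F₂ F p U)
    (h2 : ∀ q ∈ Q2 F₂ F p U, g * q * g⁻¹ ∈ Qp F₂ F p U) :
    g ∈ Subgroup.normalizer ((Qp F₂ F p U : Subgroup _) : Set _) := by
  apply Subgroup.mem_normalizer_fintype
  have : Qp F₂ F p U ≤ (Qp F₂ F p U).comap (MulAut.conj g).toMonoidHom := by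
    unfold Qp
    rw [sup_le_iff]
    exact ⟨fun q hq => h1 q hq, fun q hq => h2 q hq⟩
  intro q hq
  exact this hq

/-- conjugating `Q1` by a transvection -/
theorem shearY_mul_base (U : Finset B₂) (a : B₂ → ZMod p) (ha : CU p U a)
    (f : Om B₂ F₂ p → ZMod p) (hf : FU F₂ p U f) :
    (shearY a * base f : Perm (Om2 B₂ F₂ F p)) =
      base f * lift (base (fun u => a u * f (Sum.inl (u, 0)))) * shearY a := by
  ext (⟨⟨u, y⟩ | z, x⟩ | w)
  · by_cases hu : u ∈ U
    · simp only [Perm.mul_apply, shearY_inl_inl, base_inl, lift_inl, hf u hu]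
      congr 4
      ring
    · simp only [Perm.mul_apply, shearY_inl_inl, base_inl, lift_inl, ha u hu, zero_mul, add_zero]
  · simp only [Perm.mul_apply, shearY_inl_inr, base_inl, lift_inl, base_inr]
  · rfl

theorem shearY_mul_lift (a c : B₂ → ZMod p) :
    (shearY a * lift (base c) : Perm (Om2 B₂ F₂ F p)) = lift (base c) * shearY a := by
  ext (⟨⟨u, y⟩ | z, x⟩ | w)
  · simp only [Perm.mul_apply, shearY_inl_inl, base_inl, lift_inl]
    congr 4
    ring
  · rfl
  · rfl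

theorem shearY_mem_normalizer (U : Finset B₂) (a : B₂ → ZMod p) (ha : CU p U a) :
    (shearY a : Perm (Om2 B₂ F₂ F p)) ∈
      Subgroup.normalizer ((Qp F₂ F p U : Subgroup _) : Set _) := by
  apply mem_normalizer_Qp
  · rintro _ ⟨f, hf, rfl⟩
    rw [shearY_mul_base U a ha f hf, mul_inv_cancel_right]
    refine Subgroup.mul_mem_sup ⟨f, hf, rfl⟩ ⟨_, fun u hu => ?_, rfl⟩
    rw [ha u hu, zero_mul]
  · rintro _ ⟨c, hc, rfl⟩
    rw [shearY_mul_lift, mul_inv_cancel_right]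
    exact Subgroup.mem_sup_right ⟨c, hc, rfl⟩

theorem base_hX_mul_lift (a c : B₂ → ZMod p) :
    (base (hX a) * lift (base c) : Perm (Om2 B₂ F₂ F p)) =
      lift (base c) * base (hX (F₂ := F₂) (fun u => a u * c u) ∘ fun b =>
        Sum.elim (fun uy => Sum.inl (uy.1, 1)) Sum.inr b) * base (hX a) := by
  ext (⟨⟨u, y⟩ | z, x⟩ | w)
  · simp only [Perm.mul_apply, base_inl, lift_inl, hX_inl, Function.comp_apply, Sum.elim_inl,
      mul_one]
    congr 2
    ring
  · simp only [Perm.mul_apply, base_inl, lift_inl, base_inr, hX_inr, Function.comp_apply,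
      Sum.elim_inr, add_zero]
  · rfl

theorem shearX_mem_normalizer (U : Finset B₂) (a : B₂ → ZMod p) :
    (shearX a : Perm (Om2 B₂ F₂ F p)) ∈
      Subgroup.normalizer ((Qp F₂ F p U : Subgroup _) : Set _) := by
  apply mem_normalizer_Qp
  · rintro _ ⟨f, hf, rfl⟩
    unfold shearX
    rw [base_comm, mul_inv_cancel_right]
    exact Subgroup.mem_sup_left ⟨f, hf, rfl⟩
  · rintro _ ⟨c, hc, rfl⟩
    unfold shearX
    rw [base_hX_mul_lift, mul_inv_cancel_right]
    have h1 : (lift (base c) : Perm (Om2 B₂ F₂ F p)) ∈ Qp F₂ F p U :=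
      Subgroup.mem_sup_right ⟨c, hc, rfl⟩
    have h2 : (base (hX (F₂ := F₂) (fun u => a u * c u) ∘ fun b =>
        Sum.elim (fun uy => Sum.inl (uy.1, 1)) Sum.inr b) : Perm (Om2 B₂ F₂ F p)) ∈
        Qp F₂ F p U := Subgroup.mem_sup_left ⟨_, fun u hu y => rfl, rfl⟩
    exact mul_mem h1 h2


theorem diag_symm_inl {B F : Type} (μ : B → (ZMod p)ˣ) (b : B) (x : ZMod p) :
    (diag (F := F) μ).symm (Sum.inl (b, x)) = Sum.inl (b, ((μ b)⁻¹ : (ZMod p)ˣ) * x) := by
  rw [← Perm.inv_def, ← diag_inv, diag_inl]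
  rfl

theorem diag_symm_inr {B F : Type} (μ : B → (ZMod p)ˣ) (z : F) :
    (diag (F := F) (p := p) μ).symm (Sum.inr z) = Sum.inr z := by
  rw [← Perm.inv_def, ← diag_inv, diag_inr]

theorem x0_mul_lift (U : Finset B₂) (ζ : (ZMod p)ˣ) (c : B₂ → ZMod p) :
    (x0 U ζ * lift (base c) : Perm (Om2 B₂ F₂ F p)) =
      lift (base (fun u => (muU U ζ u : ZMod p) * c u)) * x0 U ζ := by
  ext (⟨⟨u, y⟩ | z, x⟩ | w)
  · simp only [x0, Perm.mul_apply, lift_inl, base_inl, mono_inl, diag_inl, lamU_inl, add_zero]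
    congr 4
    ring
  · simp only [x0, Perm.mul_apply, lift_inl, base_inr, mono_inl, diag_inr, lamU_inr]
  · rfl

theorem x0_mem_normalizer_Qp (U : Finset B₂) (ζ : (ZMod p)ˣ) :
    (x0 U ζ : Perm (Om2 B₂ F₂ F p)) ∈
      Subgroup.normalizer ((Qp F₂ F p U : Subgroup _) : Set _) := by
  apply mem_normalizer_Qp
  · rintro _ ⟨f, hf, rfl⟩
    unfold x0
    rw [mono_mul_base, mul_inv_cancel_right]
    refine Subgroup.mem_sup_left ⟨_, fun u hu y => ?_, rfl⟩
    simp only [diag_symm_inl, lamU_inl, if_pos hu]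
    rw [hf u hu, hf u hu (_ * 0)]
  · rintro _ ⟨c, hc, rfl⟩
    rw [x0_mul_lift, mul_inv_cancel_right]
    refine Subgroup.mem_sup_right ⟨_, fun u hu => ?_, rfl⟩
    rw [hc u hu, mul_zero]

theorem x0_eq_diag_mul_lift (U : Finset B₂) (ζ : (ZMod p)ˣ) :
    (x0 U ζ : Perm (Om2 B₂ F₂ F p)) = diag (lamU U ζ) * lift (diag (muU U ζ)) := by
  ext (⟨⟨u, y⟩ | z, x⟩ | w)
  · simp only [x0, Perm.mul_apply, lift_inl, mono_inl, diag_inl, lamU_inl, add_zero]
  · simp only [x0, Perm.mul_apply, lift_inl, mono_inl, diag_inr, diag_inl, lamU_inr, add_zero]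
  · rfl

theorem x0_mem_normalizer_Wr (U : Finset B₂) (ζ : (ZMod p)ˣ) (R₂ : Subgroup (Perm B₂))
    (hU : ∀ σ ∈ R₂, ∀ u, σ u ∈ U ↔ u ∈ U) :
    (x0 U ζ : Perm (Om2 B₂ F₂ F p)) ∈
      Subgroup.normalizer ((Wr F p (Wr F₂ p R₂) : Subgroup _) : Set _) := by
  rw [x0_eq_diag_mul_lift]
  apply mul_mem
  · apply diag_mem_normalizer_Wr
    rintro _ ⟨c, σ, hσ, rfl⟩ (⟨u, y⟩ | z)
    · simp only [Perm.mul_apply, lift_inl, base_inl, lamU_inl]
      by_cases hu : u ∈ U
      · rw [if_pos hu, if_pos ((hU σ hσ u).mpr hu)]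
      · rw [if_neg hu, if_neg (fun h => hu ((hU σ hσ u).mp h))]
    · rfl
  · apply lift_mem_normalizer_Wr
    apply diag_mem_normalizer_Wr
    intro σ hσ u
    unfold muU
    by_cases hu : u ∈ U
    · rw [if_pos hu, if_pos ((hU σ hσ u).mpr hu)]
    · rw [if_neg hu, if_neg (fun h => hu ((hU σ hσ u).mp h))]

theorem Qp_le_Wr (U : Finset B₂) (R₂ : Subgroup (Perm B₂)) :
    Qp F₂ F p U ≤ Wr F p (Wr F₂ p R₂) := by
  unfold Qp
  rw [sup_le_iff]
  constructor
  · rintro _ ⟨f, -, rfl⟩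
    exact base_mem_Wr _ f
  · rintro _ ⟨c, -, rfl⟩
    exact lift_mem_Wr (base_mem_Wr R₂ c)

theorem units_pow_prime_pow (ζ : (ZMod p)ˣ) (j : ℕ) : ζ ^ (p ^ j) = ζ := by
  induction j with
  | zero => rw [pow_zero, pow_one]
  | succ j ih =>
    rw [pow_succ, pow_mul, ih]
    apply Units.ext
    rw [Units.val_pow_eq_pow_val, ZMod.pow_card]

theorem prod_lamU (U : Finset B₂) (ζ : (ZMod p)ˣ) :
    ∏ b, lamU (F₂ := F₂) U ζ b = ζ ^ (U.card * p) := by
  rw [Fintype.prod_sum_type, Fintype.prod_prod_type]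
  simp only [lamU_inl, lamU_inr, Finset.prod_const_one, mul_one, Finset.prod_const,
    Finset.card_univ, ZMod.card]
  rw [Finset.prod_pow, pow_mul]
  congr 1
  have := Finset.prod_ite_mem (Finset.univ : Finset B₂) U (fun _ => ζ)
  rw [this, Finset.univ_inter, Finset.prod_const]

theorem prod_lamU_of_card (U : Finset B₂) (ζ : (ZMod p)ˣ) (j : ℕ) (hU : U.card = p ^ j) :
    ∏ b, lamU (F₂ := F₂) U ζ b = ζ := by
  rw [prod_lamU, hU, ← pow_succ, units_pow_prime_pow]


/-- the `x`-coordinate -/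
def xcoord : Om2 B₂ F₂ F p → ZMod p := Sum.elim (fun bx => bx.2) (fun _ => 0)

/-- the `y`-coordinate -/
def ycoord : Om2 B₂ F₂ F p → ZMod p :=
  Sum.elim (fun bx => Sum.elim (fun uy => uy.2) (fun _ => 0) bx.1) (fun _ => 0)

/-- `Qp` is its own centralizer in the symmetric group -/
theorem centralizer_Qp_le [Subsingleton F] (U : Finset B₂) (g : Perm (Om2 B₂ F₂ F p))
    (hg : ∀ q ∈ Qp F₂ F p U, q * g = g * q) : g ∈ Qp F₂ F p U := by
  have hcomm : ∀ q ∈ Qp F₂ F p U, ∀ ω, g (q ω) = q (g ω) := fun q hq ω => by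
    have := congrArg (fun k : Perm (Om2 B₂ F₂ F p) => k ω) (hg q hq)
    simpa using this.symm
  -- blocks outside the planes of `U`
  have hblock : ∀ b : Om B₂ F₂ p, (∀ x : ZMod p, FU F₂ p U (Pi.single b x)) →
      ∃ t : ZMod p, ∀ x, g (Sum.inl (b, x)) = Sum.inl (b, x + t) := by
    intro b hb
    have hq : ∀ x : ZMod p, (base (Pi.single b x) : Perm (Om2 B₂ F₂ F p)) ∈ Qp F₂ F p U :=
      fun x => Subgroup.mem_sup_left ⟨_, hb x, rfl⟩
    have hmove : base (Pi.single b 1) (g (Sum.inl (b, 0))) ≠ g (Sum.inl (b, 0)) := by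
      rw [← hcomm _ (hq 1), base_inl, Pi.single_eq_same, zero_add]
      intro h
      have h1 : (1 : ZMod p) = 0 := (Prod.ext_iff.mp (Sum.inl_injective (g.injective h))).2
      exact one_ne_zero h1
    rcases hw : g (Sum.inl (b, 0)) with ⟨b', t⟩ | w
    · have hb' : b' = b := by
        by_contra hne
        apply hmove
        rw [hw, base_inl, Pi.single_eq_of_ne hne, add_zero]
      subst hb'
      refine ⟨t, fun x => ?_⟩
      have h1 : (Sum.inl (b', x) : Om2 B₂ F₂ F p) = base (Pi.single b' x) (Sum.inl (b', 0)) := by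
        rw [base_inl, Pi.single_eq_same, zero_add]
      rw [h1, hcomm _ (hq x), hw, base_inl, Pi.single_eq_same, add_comm]
    · rw [hw, base_inr] at hmove
      exact absurd rfl hmove
  -- planes in `U`
  have hplane : ∀ u ∈ U, ∃ i₀ j₀ : ZMod p, ∀ j i : ZMod p,
      g (Sum.inl (Sum.inl (u, j), i)) = Sum.inl (Sum.inl (u, j + j₀), i + i₀) := by
    intro u hu
    set fa : ZMod p → Om B₂ F₂ p → ZMod p := fun i b =>
      Sum.elim (fun uy => if uy.1 = u then i else 0) (fun _ => 0) b with hfa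
    have hfaU : ∀ i, FU F₂ p U (fa i) := fun i u' hu' y' => rfl
    have hqa : ∀ i, (base (fa i) : Perm (Om2 B₂ F₂ F p)) ∈ Qp F₂ F p U :=
      fun i => Subgroup.mem_sup_left ⟨_, hfaU i, rfl⟩
    have hcc : ∀ j : ZMod p, CU p U (Pi.single u j) := fun j u' hu' =>
      Pi.single_eq_of_ne (by rintro rfl; exact hu' hu) _
    have hqc : ∀ j : ZMod p, (lift (base (Pi.single u j)) : Perm (Om2 B₂ F₂ F p)) ∈
        Qp F₂ F p U := fun j => Subgroup.mem_sup_right ⟨_, hcc j, rfl⟩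
    have hmove : base (fa 1) (g (Sum.inl (Sum.inl (u, 0), 0))) ≠
        g (Sum.inl (Sum.inl (u, 0), 0)) := by
      rw [← hcomm _ (hqa 1), base_inl]
      intro h
      have h1 := (Prod.ext_iff.mp (Sum.inl_injective (g.injective h))).2
      simp only [hfa, Sum.elim_inl, if_true, zero_add] at h1
      exact one_ne_zero h1
    rcases hw : g (Sum.inl (Sum.inl (u, 0), 0)) with ⟨⟨u', j₀⟩ | z, i₀⟩ | w
    · have hu' : u' = u := by
        by_contra hne
        apply hmove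
        rw [hw, base_inl]
        simp only [hfa, Sum.elim_inl, if_neg hne, add_zero]
      subst hu'
      refine ⟨i₀, j₀, fun j i => ?_⟩
      have h1 : (Sum.inl (Sum.inl (u', j), i) : Om2 B₂ F₂ F p) =
          (lift (base (Pi.single u' j)) * base (fa i) : Perm (Om2 B₂ F₂ F p))
            (Sum.inl (Sum.inl (u', 0), 0)) := by
        simp only [Perm.mul_apply, base_inl, lift_inl, hfa, Sum.elim_inl, if_true,
          Pi.single_eq_same, zero_add]
      rw [h1, hcomm _ (mul_mem (hqc j) (hqa i)), hw]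
      simp only [Perm.mul_apply, base_inl, lift_inl, hfa, Sum.elim_inl, if_true,
        Pi.single_eq_same]
      rw [add_comm i₀ i, add_comm j₀ j]
    · rw [hw, base_inl] at hmove
      simp only [hfa, Sum.elim_inr, add_zero] at hmove
      exact absurd rfl hmove
    · rw [hw, base_inr] at hmove
      exact absurd rfl hmove
  have hsingleU : ∀ (u : B₂) (j : ZMod p), u ∉ U →
      ∀ x : ZMod p, FU F₂ p U (Pi.single (Sum.inl (u, j)) x) := by
    intro u j hu x u' hu' y'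
    have h1 : (Sum.inl (u', y') : Om B₂ F₂ p) ≠ Sum.inl (u, j) := by
      intro h
      have h' : u' = u := (Prod.ext_iff.mp (Sum.inl_injective h)).1
      rw [h'] at hu'
      exact hu hu'
    have h2 : (Sum.inl (u', 0) : Om B₂ F₂ p) ≠ Sum.inl (u, j) := by
      intro h
      have h' : u' = u := (Prod.ext_iff.mp (Sum.inl_injective h)).1
      rw [h'] at hu'
      exact hu hu'
    rw [Pi.single_eq_of_ne h1, Pi.single_eq_of_ne h2]
  have hsingleR : ∀ (z : F₂) (x : ZMod p), FU F₂ p U (Pi.single (Sum.inr z) x) := by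
    intro z x u' hu' y'
    rw [Pi.single_eq_of_ne (by simp), Pi.single_eq_of_ne (by simp)]
  -- fixed points
  have hfix : ∀ w : F, g (Sum.inr w) = Sum.inr w := by
    intro w
    rcases hw : g (Sum.inr w) with ⟨⟨u, j⟩ | z, i⟩ | w'
    · exfalso
      by_cases hu : u ∈ U
      · obtain ⟨i₀, j₀, h⟩ := hplane u hu
        have h1 := h (j - j₀) (i - i₀)
        rw [sub_add_cancel, sub_add_cancel, ← hw] at h1
        exact Sum.inl_ne_inr (g.injective h1)
      · obtain ⟨t, h⟩ := hblock (Sum.inl (u, j)) (hsingleU u j hu)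
        have h1 := h (i - t)
        rw [sub_add_cancel, ← hw] at h1
        exact Sum.inl_ne_inr (g.injective h1)
    · exfalso
      obtain ⟨t, h⟩ := hblock (Sum.inr z) (hsingleR z)
      have h1 := h (i - t)
      rw [sub_add_cancel, ← hw] at h1
      exact Sum.inl_ne_inr (g.injective h1)
    · rw [Subsingleton.elim w' w]
  -- the two functions
  set f₀ : Om B₂ F₂ p → ZMod p := fun b => xcoord (g (Sum.inl (b, 0))) with hf₀
  set c₀ : B₂ → ZMod p := fun u => if u ∈ U then ycoord (g (Sum.inl (Sum.inl (u, 0), 0))) else 0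
    with hc₀
  have hf₀U : FU F₂ p U f₀ := by
    intro u hu j
    obtain ⟨i₀, j₀, h⟩ := hplane u hu
    simp only [hf₀, h, xcoord, Sum.elim_inl]
  have hc₀U : CU p U c₀ := fun u hu => if_neg hu
  have hgeq : g = base f₀ * lift (base c₀) := by
    ext (⟨⟨u, j⟩ | z, i⟩ | w)
    · by_cases hu : u ∈ U
      · obtain ⟨i₀, j₀, h⟩ := hplane u hu
        simp only [Perm.mul_apply, lift_inl, base_inl, hf₀, hc₀, if_pos hu, h, xcoord, ycoord,
          Sum.elim_inl, zero_add]
      · obtain ⟨t, h⟩ := hblock (Sum.inl (u, j)) (hsingleU u j hu)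
        simp only [Perm.mul_apply, lift_inl, base_inl, hf₀, hc₀, if_neg hu, add_zero, h, xcoord,
          Sum.elim_inl, zero_add]
    · obtain ⟨t, h⟩ := hblock (Sum.inr z) (hsingleR z)
      simp only [Perm.mul_apply, lift_inl, base_inr, base_inl, hf₀, h, xcoord, Sum.elim_inl,
        zero_add]
    · rw [hfix w]
      rfl
  rw [hgeq]
  exact Subgroup.mul_mem_sup ⟨f₀, hf₀U, rfl⟩ ⟨c₀, hc₀U, rfl⟩

end Cfsg.Agent.Lib.Helper26.AnFus
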