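import Mathlib
import Cfsg.Agent.Lib.Helper26.AnFusA

set_option autoImplicit false
set_option linter.unusedSectionVars false

/-! Transfer of the generating set of the simplicity criterion from an ambient group to a
subgroup (S5165). -/

namespace Cfsg.Agent.Lib.Helper26.AnFus

variable {H : Type*} [Group H]

/-- every `p`-element of `A` centralizing `Q` lies in `Q` -/
def PCenIn (A : Subgroup H) (p : ℕ) (Q : Subgroup H) : Prop :=
  ∀ y ∈ A, (∀ q ∈ Q, q * y = y * q) → (∃ k : ℕ, orderOf y = p ^ k) → y ∈ Q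

/-- the generating set of the criterion, for the subgroup `A` of `H` -/
def GenSetIn (A : Subgroup H) (p : ℕ) (S : Subgroup H) : Set H :=
  {x | x ∈ A ∧ x ∈ Subgroup.normalizer (S : Set H) ∧ ∃ Q : Subgroup H, Q ≤ S ∧ PCenIn A p Q ∧
    x ∈ Subgroup.normalizer (Q : Set H) ∧
    x ∈ Subgroup.closure {y | y ∈ A ∧ y ∈ Subgroup.normalizer (Q : Set H) ∧
      ∃ k : ℕ, orderOf y = p ^ k}}

theorem mem_normalizer_subgroupOf {A S : Subgroup H} {x : H} (hxA : x ∈ A)
    (hx : x ∈ Subgroup.normalizer (S : Set H)) :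
    (⟨x, hxA⟩ : A) ∈ Subgroup.normalizer ((S.subgroupOf A : Subgroup A) : Set A) := by
  rw [Subgroup.mem_normalizer_iff]
  intro h
  rw [Subgroup.mem_subgroupOf, Subgroup.mem_subgroupOf]
  exact Subgroup.mem_normalizer_iff.mp hx (h : H)

theorem normalizer_of_subgroupOf {A S : Subgroup H} (hSA : S ≤ A) {x : A}
    (hx : x ∈ Subgroup.normalizer ((S.subgroupOf A : Subgroup A) : Set A)) :
    (x : H) ∈ Subgroup.normalizer (S : Set H) := by
  rw [Subgroup.mem_normalizer_iff] at hx ⊢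
  intro h
  constructor
  · intro hh
    have := (hx ⟨h, hSA hh⟩).mp (Subgroup.mem_subgroupOf.mpr hh)
    exact Subgroup.mem_subgroupOf.mp this
  · intro hh
    have hhA : h ∈ A := by
      have h1 : (x : H) * h * (x : H)⁻¹ ∈ A := hSA hh
      have h2 : h = (x : H)⁻¹ * ((x : H) * h * (x : H)⁻¹) * (x : H) := by group
      rw [h2]
      exact mul_mem (mul_mem (inv_mem x.2) h1) x.2
    have := (hx ⟨h, hhA⟩).mpr (Subgroup.mem_subgroupOf.mpr hh)
    exact Subgroup.mem_subgroupOf.mp this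

theorem genSetIn_transfer {A S : Subgroup H} {p : ℕ} (hSA : S ≤ A) {x : H}
    (hx : x ∈ GenSetIn A p S) :
    ∃ hxA : x ∈ A, (⟨x, hxA⟩ : A) ∈ GenSet' p (S.subgroupOf A) := by
  obtain ⟨hxA, hxS, Q, hQS, hQpc, hxQ, hxc⟩ := hx
  refine ⟨hxA, mem_normalizer_subgroupOf hxA hxS, Q.subgroupOf A, ?_, ?_,
    mem_normalizer_subgroupOf hxA hxQ, ?_⟩
  · intro y hy
    exact Subgroup.mem_subgroupOf.mpr (hQS (Subgroup.mem_subgroupOf.mp hy))
  · intro y hy hk
    rw [Subgroup.mem_subgroupOf]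
    apply hQpc (y : H) y.2
    · intro q hq
      have := hy ⟨q, hSA (hQS hq)⟩ (Subgroup.mem_subgroupOf.mpr hq)
      exact congrArg Subtype.val this
    · obtain ⟨k, hk⟩ := hk
      exact ⟨k, by rw [← hk]; exact Subgroup.orderOf_coe y⟩
  · have key : ∀ z ∈ Subgroup.closure {y | y ∈ A ∧ y ∈ Subgroup.normalizer (Q : Set H) ∧
        ∃ k : ℕ, orderOf y = p ^ k},
        ∃ hz : z ∈ A, (⟨z, hz⟩ : A) ∈ Subgroup.closure
          {y : A | y ∈ Subgroup.normalizer ((Q.subgroupOf A : Subgroup A) : Set A) ∧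
            ∃ k : ℕ, orderOf y = p ^ k} := by
      intro z hz
      induction hz using Subgroup.closure_induction with
      | mem y hy =>
        obtain ⟨hyA, hyQ, k, hk⟩ := hy
        refine ⟨hyA, Subgroup.subset_closure ⟨mem_normalizer_subgroupOf hyA hyQ, k, ?_⟩⟩
        rw [← hk]
        exact (Subgroup.orderOf_coe (⟨y, hyA⟩ : A)).symm
      | one => exact ⟨A.one_mem, Subgroup.one_mem _⟩
      | mul a b _ _ ha hb =>
        obtain ⟨haA, ha'⟩ := ha
        obtain ⟨hbA, hb'⟩ := hb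
        exact ⟨A.mul_mem haA hbA, Subgroup.mul_mem _ ha' hb'⟩
      | inv a _ ha =>
        obtain ⟨haA, ha'⟩ := ha
        exact ⟨A.inv_mem haA, Subgroup.inv_mem _ ha'⟩
    obtain ⟨_, h⟩ := key x hxc
    exact h

theorem closure_genSetIn_transfer {A S : Subgroup H} {p : ℕ} (hSA : S ≤ A) {x : H}
    (hx : x ∈ Subgroup.closure (GenSetIn A p S)) :
    ∃ hxA : x ∈ A, (⟨x, hxA⟩ : A) ∈ Subgroup.closure (GenSet' p (S.subgroupOf A)) := by
  induction hx using Subgroup.closure_induction with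
  | mem y hy =>
    obtain ⟨hyA, h⟩ := genSetIn_transfer hSA hy
    exact ⟨hyA, Subgroup.subset_closure h⟩
  | one => exact ⟨A.one_mem, Subgroup.one_mem _⟩
  | mul a b _ _ ha hb =>
    obtain ⟨haA, ha'⟩ := ha
    obtain ⟨hbA, hb'⟩ := hb
    exact ⟨A.mul_mem haA hbA, Subgroup.mul_mem _ ha' hb'⟩
  | inv a _ ha =>
    obtain ⟨haA, ha'⟩ := ha
    exact ⟨A.inv_mem haA, Subgroup.inv_mem _ ha'⟩

end Cfsg.Agent.Lib.Helper26.AnFus
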