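import Mathlib
import Cfsg.Agent.Lib.Helper26.AnFusD
import Cfsg.Agent.Lib.Helper26.AnFusF
import Cfsg.Agent.Lib.Helper26.AnFusG

set_option autoImplicit false
set_option linter.unusedSectionVars false

/-! The normalizer of the Sylow `p`-subgroup `Z_p ≀ (Z_p ≀ R₂)` (`p` odd) in the alternating group
is generated by the generating set of the simplicity criterion (S5165). -/

namespace Cfsg.Agent.Lib.Helper26.AnFus

open Equiv Equiv.Perm

variable {B₂ F₂ F : Type} [Fintype B₂] [DecidableEq B₂] [Fintype F₂] [DecidableEq F₂]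
  [Fintype F] [DecidableEq F] {p : ℕ} [Fact p.Prime]

theorem exists_pow_of_pow_p {X : Type*} [Group X] {y : X} (h : y ^ p = 1) :
    ∃ k : ℕ, orderOf y = p ^ k := by
  have hp : p.Prime := Fact.out
  have h1 : orderOf y ∣ p ^ 1 := by rw [pow_one]; exact orderOf_dvd_of_pow_eq_one h
  obtain ⟨k, -, hk⟩ := (Nat.dvd_prime_pow hp).mp h1
  exact ⟨k, hk⟩

theorem normalizer_gen_odd [Subsingleton F] (hodd : p ≠ 2)
    (hpB : p ≤ Fintype.card (Om B₂ F₂ p)) (R₂ : Subgroup (Perm B₂)) (U : Finset B₂)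
    (hU : ∀ σ ∈ R₂, ∀ u, σ u ∈ U ↔ u ∈ U) (j : ℕ) (hUc : U.card = p ^ j)
    (g : Perm (Om2 B₂ F₂ F p)) (hgA : g ∈ alternatingGroup (Om2 B₂ F₂ F p))
    (hg : g ∈ Subgroup.normalizer ((Wr F p (Wr F₂ p R₂) : Subgroup _) : Set _)) :
    g ∈ Subgroup.closure
      (GenSetIn (alternatingGroup (Om2 B₂ F₂ F p)) p (Wr F p (Wr F₂ p R₂))) := by
  have hp : p.Prime := Fact.out
  have hp3 : 3 ≤ p := by
    have := hp.two_le
    omega
  have h3 : 3 ≤ Fintype.card (Om B₂ F₂ p) := le_trans hp3 hpB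
  obtain ⟨π, lam, t, rfl⟩ := mono_of_normalizer g (fun f => normalizer_Wr_base hg f)
  set d : (ZMod p)ˣ := ∏ b, lam b with hd
  set x : Perm (Om2 B₂ F₂ F p) := x0 U d⁻¹ with hx
  have hxS : x ∈ Subgroup.normalizer ((Wr F p (Wr F₂ p R₂) : Subgroup _) : Set _) :=
    x0_mem_normalizer_Wr U d⁻¹ R₂ hU
  have hxQ : x ∈ Subgroup.normalizer ((Qp F₂ F p U : Subgroup _) : Set _) :=
    x0_mem_normalizer_Qp U d⁻¹
  have hpelt : ∀ y : Perm (Om2 B₂ F₂ F p), y ^ p = 1 →
      y ∈ alternatingGroup (Om2 B₂ F₂ F p) := by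
    intro y hy
    rw [mem_alternatingGroup]
    apply sign_eq_one_of_pow_prime_pow hodd y 1
    rw [pow_one]; exact hy
  have hres : ∀ c : ZMod p, CU p U (resU U c) := fun c u hu => if_neg hu
  have hY : ∀ c : ZMod p, (shearY (resU U c) : Perm (Om2 B₂ F₂ F p)) ∈
      Subgroup.closure {y | y ∈ alternatingGroup (Om2 B₂ F₂ F p) ∧
        y ∈ Subgroup.normalizer ((Qp F₂ F p U : Subgroup _) : Set _) ∧
        ∃ k : ℕ, orderOf y = p ^ k} := fun c =>
    Subgroup.subset_closure ⟨hpelt _ (shearY_pow_p _), shearY_mem_normalizer U _ (hres c),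
      exists_pow_of_pow_p (shearY_pow_p _)⟩
  have hX : ∀ c : ZMod p, (shearX (resU U c) : Perm (Om2 B₂ F₂ F p)) ∈
      Subgroup.closure {y | y ∈ alternatingGroup (Om2 B₂ F₂ F p) ∧
        y ∈ Subgroup.normalizer ((Qp F₂ F p U : Subgroup _) : Set _) ∧
        ∃ k : ℕ, orderOf y = p ^ k} := fun c =>
    Subgroup.subset_closure ⟨hpelt _ (base_pow_p _), shearX_mem_normalizer U _,
      exists_pow_of_pow_p (base_pow_p _)⟩
  have hxcl : x ∈ Subgroup.closure {y | y ∈ alternatingGroup (Om2 B₂ F₂ F p) ∧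
      y ∈ Subgroup.normalizer ((Qp F₂ F p U : Subgroup _) : Set _) ∧
      ∃ k : ℕ, orderOf y = p ^ k} := by
    rw [hx, x0_eq]
    exact mul_mem (mul_mem (mul_mem (hY _) (hX _)) (hY _)) (mul_mem (mul_mem (hY _) (hX _)) (hY _))
  have hxA : x ∈ alternatingGroup (Om2 B₂ F₂ F p) := by
    have : Subgroup.closure {y | y ∈ alternatingGroup (Om2 B₂ F₂ F p) ∧
        y ∈ Subgroup.normalizer ((Qp F₂ F p U : Subgroup _) : Set _) ∧
        ∃ k : ℕ, orderOf y = p ^ k} ≤ alternatingGroup (Om2 B₂ F₂ F p) := by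
      rw [Subgroup.closure_le]
      exact fun y hy => hy.1
    exact this hxcl
  have hxG : x ∈ GenSetIn (alternatingGroup (Om2 B₂ F₂ F p)) p (Wr F p (Wr F₂ p R₂)) :=
    ⟨hxA, hxS, Qp F₂ F p U, Qp_le_Wr U R₂, fun y _ hy _ => centralizer_Qp_le U y hy, hxQ, hxcl⟩
  -- the correction of determinant one
  set g' : Perm (Om2 B₂ F₂ F p) := mono π lam t * x with hg'
  have hg'eq : g' = mono (π * diag (muU U d⁻¹))
      (fun b => lam (diag (muU U d⁻¹) b) * lamU U d⁻¹ b)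
      (fun b => (lam (diag (muU U d⁻¹) b) : ZMod p) * 0 + t (diag (muU U d⁻¹) b)) := by
    rw [hg', hx]
    unfold x0
    rw [mono_mul]
  have hdet : ∏ b, (lam (diag (muU U d⁻¹) b) * lamU U d⁻¹ b) = 1 := by
    rw [Finset.prod_mul_distrib, Equiv.prod_comp (diag (muU U d⁻¹)) lam,
      prod_lamU_of_card U d⁻¹ j hUc, ← hd, mul_inv_cancel]
  have hg'A : g' ∈ alternatingGroup (Om2 B₂ F₂ F p) := mul_mem hgA hxA
  have hg'K : g' ∈ KE (Om B₂ F₂ p) F p := by
    have hsign := mem_alternatingGroup.mp hg'A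
    rw [hg'eq] at hsign ⊢
    exact mono_mem_KE hodd hpB h3 _ _ _ hdet hsign
  have hg'G : g' ∈ GenSetIn (alternatingGroup (Om2 B₂ F₂ F p)) p (Wr F p (Wr F₂ p R₂)) := by
    refine ⟨hg'A, mul_mem hg hxS, baseGroup (Om B₂ F₂ p) F p, baseGroup_le_Wr _,
      fun y _ hy _ => centralizer_baseGroup_le y hy, ?_, ?_⟩
    · rw [hg'eq]
      exact mono_mem_normalizer _ _ _
    · refine Subgroup.closure_mono ?_ hg'K
      rintro y ⟨hyN, k, hk⟩
      refine ⟨?_, hyN, k, hk⟩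
      rw [mem_alternatingGroup]
      apply sign_eq_one_of_pow_prime_pow hodd y k
      rw [← hk]
      exact pow_orderOf_eq_one y
  have : mono π lam t = g' * x⁻¹ := by rw [hg', mul_inv_cancel_right]
  rw [this]
  exact mul_mem (Subgroup.subset_closure hg'G) (inv_mem (Subgroup.subset_closure hxG))

end Cfsg.Agent.Lib.Helper26.AnFus
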