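import Mathlib
import Cfsg.Agent.Lib.Helper26.AnFusC
import Cfsg.Agent.Lib.Helper26.AnFusH
import Cfsg.Agent.Lib.Helper20.SymGenG
import Cfsg.Agent.Lib.Helper20.SylNormG

set_option autoImplicit false
set_option linter.unusedSectionVars false

/-! Sylow subgroups of alternating groups: conjugation of `p`-subgroups, generation by elements of
order `p`, and the absence of proper nontrivial fusion-closed subgroups (S5165). -/

namespace Cfsg.Agent.Lib.Helper26.AnFus

open Equiv Equiv.Perm Cfsg.Agent.Lib.Helper3.Fus Cfsg.Agent.Lib.Helper20.SymGen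

section general

variable {Ω : Type} [Fintype Ω] [DecidableEq Ω] {p : ℕ} [Fact p.Prime]

/-- every `p`-subgroup of the alternating group is conjugate into a given Sylow subgroup -/
theorem sylow_conj (P₀ : Sylow p (alternatingGroup Ω)) (P : Subgroup (Perm Ω))
    (hPA : P ≤ alternatingGroup Ω) (hP : IsPGroup p P) :
    ∃ g ∈ alternatingGroup Ω, ∀ x ∈ P, g * x * g⁻¹ ∈
      (P₀ : Subgroup (alternatingGroup Ω)).map (alternatingGroup Ω).subtype := by
  have hP' : IsPGroup p (P.subgroupOf (alternatingGroup Ω)) := hP.comap_subtype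
  obtain ⟨Q, hQ⟩ := hP'.exists_le_sylow
  obtain ⟨g, hg⟩ := MulAction.exists_smul_eq (alternatingGroup Ω) Q P₀
  refine ⟨g, g.2, fun x hx => ?_⟩
  have h1 : (⟨x, hPA hx⟩ : alternatingGroup Ω) ∈ (Q : Subgroup (alternatingGroup Ω)) :=
    hQ (Subgroup.mem_subgroupOf.mpr hx)
  have h2 : g * ⟨x, hPA hx⟩ * g⁻¹ ∈ (P₀ : Subgroup (alternatingGroup Ω)) := by
    rw [← hg, Sylow.coe_subgroup_smul]
    exact ⟨_, h1, rfl⟩
  exact ⟨_, h2, rfl⟩

theorem card_alt_factorization (hodd : p ≠ 2) [Nontrivial Ω] :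
    (Nat.card (alternatingGroup Ω)).factorization p = (Nat.card (Perm Ω)).factorization p := by
  have hp : p.Prime := Fact.out
  have h1 : 2 * Nat.card (alternatingGroup Ω) = Nat.card (Perm Ω) := by
    rw [Nat.card_eq_fintype_card, Nat.card_eq_fintype_card]
    exact two_mul_card_alternatingGroup
  have h2 : (Nat.factorization 2) p = 0 := by
    apply Nat.factorization_eq_zero_of_not_dvd
    intro h
    exact hodd ((Nat.prime_dvd_prime_iff_eq hp Nat.prime_two).mp h)
  rw [← h1, Nat.factorization_mul (by norm_num) Nat.card_pos.ne', Finsupp.add_apply, h2,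
    zero_add]

/-- generation of a Sylow `p`-subgroup of an alternating group by elements of order `p` -/
theorem sylow_alt_gen [Nontrivial Ω] (P₀ : Sylow p (alternatingGroup Ω)) :
    ∃ J₀ : Set (Perm Ω), Subgroup.closure J₀ =
      (P₀ : Subgroup (alternatingGroup Ω)).map (alternatingGroup Ω).subtype ∧
      ∀ a ∈ J₀, a ^ p = 1 := by
  have hp : p.Prime := Fact.out
  set S' : Subgroup (Perm Ω) :=
    (P₀ : Subgroup (alternatingGroup Ω)).map (alternatingGroup Ω).subtype with hS'
  have hS'A : S' ≤ alternatingGroup Ω := Subgroup.map_subtype_le _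
  have hS'p : IsPGroup p S' := P₀.isPGroup'.map _
  obtain ⟨P, hP⟩ := hS'p.exists_le_sylow
  obtain ⟨I, hI, ho, hs⟩ := gen_of_isMaxP p (Fintype.card Ω) Ω rfl (P : Subgroup (Perm Ω))
    (IsMaxP.of_sylow P)
  -- `S' = P ⊓ A`
  have hinf : (P : Subgroup (Perm Ω)) ⊓ alternatingGroup Ω = S' := by
    apply le_antisymm
    · have h1 : IsPGroup p (((P : Subgroup (Perm Ω)) ⊓ alternatingGroup Ω).subgroupOf
          (alternatingGroup Ω)) := (P.isPGroup'.to_le inf_le_left).comap_subtype
      have h2 : (P₀ : Subgroup (alternatingGroup Ω)) ≤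
          ((P : Subgroup (Perm Ω)) ⊓ alternatingGroup Ω).subgroupOf (alternatingGroup Ω) := by
        intro x hx
        rw [Subgroup.mem_subgroupOf]
        exact ⟨hP ⟨x, hx, rfl⟩, x.2⟩
      have h3 := P₀.is_maximal' h1 h2
      intro x hx
      have : (⟨x, hx.2⟩ : alternatingGroup Ω) ∈ (P₀ : Subgroup (alternatingGroup Ω)) := by
        rw [← h3, Subgroup.mem_subgroupOf]
        exact hx
      exact ⟨_, this, rfl⟩
    · exact le_inf hP hS'A
  by_cases hp2 : p = 2
  · subst hp2
    obtain ⟨J, hJ, hJ2⟩ := closure_even (P : Subgroup (Perm Ω)) I hI ho hs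
    exact ⟨J, by rw [hJ, hinf], hJ2⟩
  · -- `p` odd: `P ≤ A`
    have hPA : (P : Subgroup (Perm Ω)) ≤ alternatingGroup Ω := by
      intro x hx
      obtain ⟨k, hk⟩ := P.isPGroup' ⟨x, hx⟩
      rw [mem_alternatingGroup]
      apply sign_eq_one_of_pow_prime_pow hp2 x k
      have := congrArg Subtype.val hk
      simpa using this
    refine ⟨I, ?_, ho⟩
    rw [hI, ← hinf, inf_eq_left.mpr hPA]

end general

section model

variable {B F : Type} [Fintype B] [DecidableEq B] [Fintype F] [DecidableEq F] {p : ℕ}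
  [Fact p.Prime]

/-- a Sylow `p`-subgroup of the alternating group on `(B × ZMod p) ⊕ F` has no proper nontrivial
fusion-closed subgroup -/
theorem fclosed_sylow (h3 : 3 ≤ Fintype.card B) (hF : Fintype.card F < p)
    (P₀ : Sylow p (alternatingGroup (Om B F p)))
    (T : Subgroup (alternatingGroup (Om B F p))) (hT : T ≤ P₀) (hTne : T ≠ ⊥)
    (hcl : FClosed (P₀ : Subgroup (alternatingGroup (Om B F p))) T) :
    T = P₀ := by
  have hp : p.Prime := Fact.out
  have hntO : Nontrivial (Om B F p) := by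
    rw [← Fintype.one_lt_card_iff_nontrivial, card_om]
    have := hp.two_le
    nlinarith
  obtain ⟨J₀, hJ₀, hJ₀p⟩ := sylow_alt_gen P₀
  set S' : Subgroup (Perm (Om B F p)) := (P₀ : Subgroup (alternatingGroup (Om B F p))).map
    (alternatingGroup (Om B F p)).subtype with hS'
  set T' : Subgroup (Perm (Om B F p)) := T.map (alternatingGroup (Om B F p)).subtype with hT'
  have hmemS : ∀ x : alternatingGroup (Om B F p), (x : Perm (Om B F p)) ∈ S' ↔
      x ∈ (P₀ : Subgroup (alternatingGroup (Om B F p))) := by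
    intro x
    constructor
    · rintro ⟨y, hy, hyx⟩
      rwa [← Subtype.ext hyx]
    · intro hx
      exact ⟨x, hx, rfl⟩
  have hmemT : ∀ x : alternatingGroup (Om B F p), (x : Perm (Om B F p)) ∈ T' ↔ x ∈ T := by
    intro x
    constructor
    · rintro ⟨y, hy, hyx⟩
      rwa [← Subtype.ext hyx]
    · intro hx
      exact ⟨x, hx, rfl⟩
  have key : S' ≤ T' := by
    apply fclosed_main h3 hF S' T' (Subgroup.map_mono hT) (Subgroup.map_subtype_le _)
      (sylow_conj P₀) ?_ ?_ J₀ hJ₀ hJ₀p
    · -- an element of order `p`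
      have hTp : IsPGroup p T := P₀.isPGroup'.to_le hT
      have hnt : Nontrivial T := by
        rw [Subgroup.nontrivial_iff_ne_bot]
        exact hTne
      obtain ⟨k, hkpos, hk⟩ := hTp.nontrivial_iff_card.mp hnt
      obtain ⟨x, hx⟩ := exists_prime_orderOf_dvd_card' (G := T) p (by
        rw [hk]
        exact dvd_pow_self p hkpos.ne')
      refine ⟨((x : alternatingGroup (Om B F p)) : Perm (Om B F p)), (hmemT _).mpr x.2, ?_⟩
      rw [Subgroup.orderOf_coe, Subgroup.orderOf_coe, hx]
    · rintro _ ⟨x, hx, rfl⟩ g hgA hgS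
      have h1 : (⟨g, hgA⟩ : alternatingGroup (Om B F p)) * x *
          (⟨g, hgA⟩ : alternatingGroup (Om B F p))⁻¹ ∈
          (P₀ : Subgroup (alternatingGroup (Om B F p))) := (hmemS _).mp hgS
      have h2 := hcl x hx ⟨g, hgA⟩ h1
      exact (hmemT _).mpr h2
  apply le_antisymm hT
  intro x hx
  exact (hmemT x).mp (key ((hmemS x).mpr hx))

end model

end Cfsg.Agent.Lib.Helper26.AnFus
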