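import Mathlib
import Cfsg.Agent.Lib.Helper26.AnFusI

set_option autoImplicit false
set_option linter.unusedSectionVars false

/-! Simplicity of the `p`-fusion system of the alternating group on `(B × ZMod p) ⊕ F`: final
assembly (S5165). -/

namespace Cfsg.Agent.Lib.Helper26.AnFus

open Equiv Equiv.Perm Cfsg Cfsg.FusionSystem Cfsg.Agent.Lib.Helper3.Fus
  Cfsg.Agent.Lib.Helper20.SymGen Cfsg.Agent.Lib.Helper22.Pronormal

section two

variable {B F : Type} [Fintype B] [DecidableEq B] [Fintype F] [DecidableEq F]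

/-- the image in the symmetric group of a Sylow subgroup of the alternating group is a maximal
`p`-subgroup of the alternating group -/
theorem sylIn_map {Ω : Type} [Fintype Ω] [DecidableEq Ω] {p : ℕ} [Fact p.Prime]
    (P₀ : Sylow p (alternatingGroup Ω)) :
    SylIn p ((P₀ : Subgroup (alternatingGroup Ω)).map (alternatingGroup Ω).subtype)
      (alternatingGroup Ω) := by
  refine ⟨Subgroup.map_subtype_le _, P₀.isPGroup'.map _, fun Q hQ hQA hPQ => ?_⟩
  have h1 : IsPGroup p (Q.subgroupOf (alternatingGroup Ω)) := hQ.comap_subtype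
  have h2 : (P₀ : Subgroup (alternatingGroup Ω)) ≤ Q.subgroupOf (alternatingGroup Ω) := by
    intro x hx
    rw [Subgroup.mem_subgroupOf]
    exact hPQ ⟨x, hx, rfl⟩
  have h3 := P₀.is_maximal' h1 h2
  apply le_antisymm _ hPQ
  intro x hx
  have : (⟨x, hQA hx⟩ : alternatingGroup Ω) ∈ (P₀ : Subgroup (alternatingGroup Ω)) := by
    rw [← h3, Subgroup.mem_subgroupOf]
    exact hx
  exact ⟨_, this, rfl⟩

theorem normalizer_map_subtype {H : Type*} [Group H] {A : Subgroup H} (S : Subgroup A) {x : A}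
    (hx : x ∈ Subgroup.normalizer (S : Set A)) :
    (x : H) ∈ Subgroup.normalizer ((S.map A.subtype : Subgroup H) : Set H) := by
  rw [Subgroup.mem_normalizer_iff] at hx ⊢
  intro h
  constructor
  · rintro ⟨y, hy, rfl⟩
    exact ⟨x * y * x⁻¹, (hx y).mp hy, rfl⟩
  · rintro ⟨y, hy, hyx⟩
    have hyx' : (y : H) = (x : H) * h * (x : H)⁻¹ := hyx
    have hh : h = ((x⁻¹ * y * x : A) : H) := by
      show h = (x : H)⁻¹ * (y : H) * (x : H)
      rw [hyx']; group
    rw [hh]
    refine ⟨x⁻¹ * y * x, ?_, rfl⟩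
    apply (hx (x⁻¹ * y * x)).mpr
    have : x * (x⁻¹ * y * x) * x⁻¹ = y := by group
    rw [this]
    exact hy

/-- **`p = 2`** -/
theorem isSimple_two [Fact (Nat.Prime 2)] (h3 : 3 ≤ Fintype.card B) (hF : Fintype.card F < 2)
    {G' : Type*} [Group G'] [Finite G'] (φ₀ : alternatingGroup (Om B F 2) ≃* G')
    (S : Sylow 2 G') : (groupFusionSystem (S : Subgroup G')).IsSimple 2 := by
  have hcardO : 6 ≤ Fintype.card (Om B F 2) := by
    rw [card_om]; omega
  have hntO : Nontrivial (Om B F 2) := by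
    rw [← Fintype.one_lt_card_iff_nontrivial]; omega
  obtain ⟨P₀⟩ : Nonempty (Sylow 2 (alternatingGroup (Om B F 2))) := inferInstance
  -- self-normalizing
  have hself : ∀ g : alternatingGroup (Om B F 2),
      g ∈ Subgroup.normalizer ((P₀ : Subgroup (alternatingGroup (Om B F 2))) : Set _) →
      g ∈ (P₀ : Subgroup (alternatingGroup (Om B F 2))) := by
    intro g hg
    have h1 := Cfsg.Agent.Lib.Helper20.SylNorm.alt_normalizer_le hcardO _ (sylIn_map P₀)
      (g : Perm (Om B F 2)) g.2 (normalizer_map_subtype _ hg)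
    obtain ⟨y, hy, hyg⟩ := h1
    rwa [← Subtype.ext hyg]
  apply isSimple_of_iso_gen' φ₀ (P₀ : Subgroup (alternatingGroup (Om B F 2)))
    P₀.card_eq_multiplicity
  · apply P₀.ne_bot_of_dvd_card
    have h1 : 2 * Nat.card (alternatingGroup (Om B F 2)) =
        (Fintype.card (Om B F 2)).factorial := by
      rw [Nat.card_eq_fintype_card, ← Fintype.card_perm]
      exact two_mul_card_alternatingGroup
    have h2 : 4 ∣ (Fintype.card (Om B F 2)).factorial := Nat.dvd_factorial (by norm_num) (by omega)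
    rw [← h1] at h2
    obtain ⟨c, hc⟩ := h2
    exact ⟨c, by omega⟩
  · intro g hg
    have hgP := hself g hg
    apply Subgroup.subset_closure
    refine ⟨hg, (P₀ : Subgroup (alternatingGroup (Om B F 2))), le_rfl, ?_, hg, ?_⟩
    · intro y hy _
      apply hself
      rw [Subgroup.mem_normalizer_iff]
      intro h
      constructor
      · intro hh
        have := hy h hh
        have e : y * h * y⁻¹ = h := by rw [← this]; group
        rw [e]; exact hh
      · intro hh
        have := hy _ hh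
        have e : h = y * h * y⁻¹ := by
          have e1 : y * h * y⁻¹ * y = y * (y * h * y⁻¹) := this
          have e2 : y * h = y * (y * h * y⁻¹) := by rw [← e1]; group
          exact mul_left_cancel e2
        rw [e]; exact hh
    · apply Subgroup.subset_closure
      refine ⟨hg, ?_⟩
      obtain ⟨k, hk⟩ := (IsPGroup.iff_orderOf.mp P₀.isPGroup') ⟨g, hgP⟩
      exact ⟨k, by rw [← hk]; exact (Subgroup.orderOf_mk g hgP).symm⟩
  · intro T hT hTne hcl
    exact fclosed_sylow h3 hF P₀ T hT hTne hcl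

end two


section odd

variable {p : ℕ} [Fact p.Prime]

/-- the wreath product with a Sylow subgroup has the order of a Sylow subgroup -/
theorem card_Wr_sylow {B F : Type} [Fintype B] [DecidableEq B] [Fintype F] [DecidableEq F]
    (hF : Fintype.card F < p) (R : Subgroup (Perm B))
    (hR : Nat.card R = p ^ padicValNat p (Fintype.card B).factorial) :
    Nat.card (Wr F p R) = p ^ padicValNat p (Fintype.card (Om B F p)).factorial := by
  rw [card_Wr, hR, ← pow_add, card_om, mul_comm (Fintype.card B) p,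
    padicValNat_factorial_mul_add _ hF, padicValNat_factorial_mul, add_comm]

variable {B₂ F₂ F : Type} [Fintype B₂] [DecidableEq B₂] [Fintype F₂] [DecidableEq F₂]
  [Fintype F] [DecidableEq F]

/-- **`p` odd** -/
theorem isSimple_odd [Subsingleton F] (hodd : p ≠ 2) [Nonempty B₂] (hF₂ : Fintype.card F₂ < p)
    {G' : Type*} [Group G'] [Finite G'] (φ₀ : alternatingGroup (Om2 B₂ F₂ F p) ≃* G')
    (S : Sylow p G') : (groupFusionSystem (S : Subgroup G')).IsSimple p := by
  classical
  have hp : p.Prime := Fact.out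
  have hp3 : 3 ≤ p := by
    have := hp.two_le
    omega
  have hF : Fintype.card F < p := by
    have : Fintype.card F ≤ 1 := Fintype.card_le_one_iff_subsingleton.mpr inferInstance
    omega
  have hB₂pos : 0 < Fintype.card B₂ := Fintype.card_pos
  have hpB : p ≤ Fintype.card (Om B₂ F₂ p) := by
    rw [card_om]
    nlinarith
  have h3 : 3 ≤ Fintype.card (Om B₂ F₂ p) := le_trans hp3 hpB
  have hntO : Nontrivial (Om2 B₂ F₂ F p) := by
    rw [← Fintype.one_lt_card_iff_nontrivial, card_om]
    nlinarith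
  obtain ⟨R₂⟩ : Nonempty (Sylow p (Perm B₂)) := inferInstance
  -- an orbit of `R₂`
  obtain ⟨u₀⟩ : Nonempty B₂ := inferInstance
  set U : Finset B₂ := (MulAction.orbit (R₂ : Subgroup (Perm B₂)) u₀).toFinset with hUdef
  have hmemU : ∀ u, u ∈ U ↔ u ∈ MulAction.orbit (R₂ : Subgroup (Perm B₂)) u₀ := fun u => by
    rw [hUdef, Set.mem_toFinset]
  have hU : ∀ σ ∈ (R₂ : Subgroup (Perm B₂)), ∀ u, σ u ∈ U ↔ u ∈ U := by
    intro σ hσ u
    rw [hmemU, hmemU]
    have : σ u = (⟨σ, hσ⟩ : (R₂ : Subgroup (Perm B₂))) • u := rfl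
    rw [this, ← MulAction.orbit_eq_iff, MulAction.orbit_smul, MulAction.orbit_eq_iff]
  obtain ⟨j, hj⟩ := R₂.isPGroup'.card_orbit u₀
  have hUc : U.card = p ^ j := by
    rw [← hj, hUdef, Set.toFinset_card, Nat.card_eq_fintype_card]
  -- the Sylow subgroup
  set S' : Subgroup (Perm (Om2 B₂ F₂ F p)) := Wr F p (Wr F₂ p (R₂ : Subgroup (Perm B₂))) with hS'
  have hS'A : S' ≤ alternatingGroup (Om2 B₂ F₂ F p) :=
    Wr_le_alt hodd (Wr_isPGroup R₂.isPGroup')
  have hcard' : Nat.card S' = p ^ padicValNat p (Fintype.card (Om2 B₂ F₂ F p)).factorial := by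
    apply card_Wr_sylow hF
    apply card_Wr_sylow hF₂
    rw [R₂.card_eq_multiplicity, Nat.card_perm, Nat.card_eq_fintype_card,
      Nat.factorization_def _ hp]
  set S₀ : Subgroup (alternatingGroup (Om2 B₂ F₂ F p)) :=
    S'.subgroupOf (alternatingGroup (Om2 B₂ F₂ F p)) with hS₀
  have hcard : Nat.card S₀ =
      p ^ (Nat.card (alternatingGroup (Om2 B₂ F₂ F p))).factorization p := by
    rw [Nat.card_congr (Subgroup.subgroupOfEquivOfLe hS'A).toEquiv, hcard',
      card_alt_factorization hodd, Nat.card_perm, Nat.card_eq_fintype_card,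
      Nat.factorization_def _ hp]
  apply isSimple_of_iso_gen' φ₀ S₀ hcard
  · -- nontrivial
    obtain ⟨b⟩ : Nonempty (Om B₂ F₂ p) := ⟨Sum.inl (u₀, 0)⟩
    intro hbot
    have h1 : (⟨base (Pi.single b 1), hS'A (base_mem_Wr _ _)⟩ :
        alternatingGroup (Om2 B₂ F₂ F p)) ∈ S₀ := by
      rw [hS₀, Subgroup.mem_subgroupOf]
      exact base_mem_Wr _ _
    rw [hbot, Subgroup.mem_bot] at h1
    have h2 : (base (Pi.single b 1) : Perm (Om2 B₂ F₂ F p)) = 1 := congrArg Subtype.val h1
    refine base_ne_one ?_ h2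
    intro h
    have := congrFun h b
    rw [Pi.single_eq_same] at this
    exact one_ne_zero this
  · intro g hg
    have h1 := normalizer_of_subgroupOf hS'A hg
    have h2 := normalizer_gen_odd hodd hpB (R₂ : Subgroup (Perm B₂)) U hU j hUc
      (g : Perm (Om2 B₂ F₂ F p)) g.2 h1
    obtain ⟨_, h⟩ := closure_genSetIn_transfer hS'A h2
    exact h
  · intro T hT hTne hcl
    have := fclosed_sylow h3 hF (Sylow.ofCard S₀ hcard) T hT hTne hcl
    rw [this, Sylow.coe_ofCard]

end odd

end Cfsg.Agent.Lib.Helper26.AnFus
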