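/-
helper26: S2262 leaf PO-33 (`recip_bound_33`): self-reciprocal monic cubics over the field with 3 elements.
Planner helper19, notes/S2262_leaves.lean.
-/
import Cfsg.Agent.Lib.Helper26.AutPSLPO3

set_option autoImplicit false

namespace Cfsg.Agent.Lib.Helper26.AutPSLPO33

open Polynomial Cfsg.Agent.Lib.Helper19.AutPSL Cfsg.Agent.Lib.Helper26.AutPSLPO3

variable {F : Type*} [Field F] [Fintype F]

/-- (PO-33) -/
theorem recip_bound_33 (P : F[X]) (hP : P.Monic) (hdeg : P.natDegree = 3)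
    (h0 : P.coeff 0 ≠ 0) (hrec : IsRecip P) (hq : Fintype.card F = 3) :
    ∃ (j : ℕ) (c : F), 1 ≤ j ∧ 2 * ((Fintype.card F - 1) * j) ≤ Fintype.card F ^ 3 - 1 ∧
      P ∣ X ^ j - C c := by
  obtain ⟨hcc, hb⟩ := coeff_rel P hP hdeg h0 hrec
  set a := P.coeff 2 with ha
  set c := P.coeff 0 with hc
  have hPeq : P = (X + C c) * (X ^ 2 + C (a - c) * X + 1 : F[X]) := by
    rw [← factor_cubic a c hcc, ← hb]
    exact eq_cubic P hP hdeg
  have hcc' : (C c * C c : F[X]) = 1 := by rw [← C_mul, hcc, C_1]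
  have h3F : (3 : F) = 0 := by
    have := Nat.cast_card_eq_zero F
    rw [hq] at this
    exact_mod_cast this
  have h3 : (3 : F[X]) = 0 := by
    have := congrArg (C : F → F[X]) h3F
    rwa [C_ofNat, C_0] at this
  have hpow : a ^ 3 = a := by
    have := FiniteField.pow_card a
    rwa [hq] at this
  have hprod : a * ((a - c) * (a + c)) = 0 := by
    linear_combination hpow + (-a) * hcc
  have hbound : ∀ j, j ≤ 6 → 2 * ((Fintype.card F - 1) * j) ≤ Fintype.card F ^ 3 - 1 := by
    intro j hj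
    rw [hq]
    norm_num
    omega
  rcases mul_eq_zero.mp hprod with h | h
  · -- a = 0 : P = X^3 + c
    refine ⟨3, -c, by norm_num, hbound 3 (by norm_num), ?_⟩
    rw [hPeq, h]
    refine ⟨1, ?_⟩
    simp only [C_sub, C_neg, C_0]
    linear_combination (X) * hcc'
  rcases mul_eq_zero.mp h with h | h
  · -- a = c
    have hac : a = c := sub_eq_zero.mp h
    refine ⟨4, 1, by norm_num, hbound 4 (by norm_num), ?_⟩
    rw [hPeq, hac]
    refine ⟨X - C c, ?_⟩
    simp only [sub_self, C_0, C_1]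
    linear_combination (X ^ 2 + 1) * hcc'
  · -- a = -c
    have hac : a = -c := eq_neg_of_add_eq_zero_left h
    refine ⟨6, 1, by norm_num, hbound 6 (by norm_num), ?_⟩
    have hsq : (X + C c) * (X - C c) = (X ^ 2 - 1 : F[X]) := by
      linear_combination (-1 : F[X]) * hcc'
    have h6 : (X ^ 6 - C 1 : F[X]) = (X ^ 2 - 1) ^ 3 := by
      rw [C_1]
      linear_combination (X ^ 2 * (X ^ 2 - 1)) * h3
    have hQ' : (X ^ 2 + C (a - c) * X + 1 : F[X]) = (X - C c) ^ 2 := by
      rw [hac]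
      simp only [C_sub, C_neg]
      linear_combination (-1 : F[X]) * hcc'
    rw [hPeq, hQ', h6, ← hsq]
    exact ⟨(X + C c) ^ 2 * (X - C c), by ring⟩

end Cfsg.Agent.Lib.Helper26.AutPSLPO33
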