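import Cfsg.Agent.Lib.Helper26.FSKNormSat
import Cfsg.Agent.Lib.Helper26.FSNormalizer

/-!
BGH Theorem B (Benson–Grodal–Henke), part A: small abelian subgroups and the `K`-normalizer
system as a fusion system.
-/

set_option autoImplicit false
set_option linter.unusedSectionVars false
set_option linter.style.haveILetI false

namespace Cfsg.Agent.Lib.Helper26.Bgh

open Cfsg Cfsg.FusionSystem Cfsg.Agent.Lib.Helper26

variable {Ω : Type*} [Group Ω] {S : Subgroup Ω}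

/-- `x` is small: `x ^ p = 1`, or `p = 2` and `x ^ 4 = 1`. -/
def Sm (p : ℕ) (x : Ω) : Prop := x ^ p = 1 ∨ (p = 2 ∧ x ^ 4 = 1)

/-- the exponent bound: `4` for `p = 2`, else `p`. -/
def ex (p : ℕ) : ℕ := if p = 2 then 4 else p

theorem sm_iff {p : ℕ} (x : Ω) : Sm p x ↔ x ^ ex p = 1 := by
  unfold Sm ex
  by_cases hp : p = 2
  · rw [if_pos hp]
    constructor
    · rintro (h | ⟨-, h⟩)
      · rw [hp] at h
        have : x ^ 4 = (x ^ 2) ^ 2 := by rw [← pow_mul]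
        rw [this, h, one_pow]
      · exact h
    · intro h
      exact Or.inr ⟨hp, h⟩
  · rw [if_neg hp]
    constructor
    · rintro (h | ⟨h2, -⟩)
      · exact h
      · exact absurd h2 hp
    · intro h
      exact Or.inl h

theorem sm_one (p : ℕ) : Sm p (1 : Ω) := Or.inl (one_pow p)

theorem Sm.mul {p : ℕ} {x y : Ω} (hx : Sm p x) (hy : Sm p y) (hxy : x * y = y * x) : Sm p (x * y) := by
  rw [sm_iff] at hx hy ⊢
  rw [(Commute.mul_pow (show Commute x y from hxy) (ex p)), hx, hy, one_mul]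

theorem Sm.inv {p : ℕ} {x : Ω} (hx : Sm p x) : Sm p x⁻¹ := by
  rw [sm_iff] at hx ⊢
  rw [inv_pow, hx, inv_one]

theorem Sm.map {p : ℕ} {Ω' : Type*} [Group Ω'] {x : Ω} (hx : Sm p x) (f : Ω →* Ω') : Sm p (f x) := by
  rw [sm_iff] at hx ⊢
  rw [← map_pow, hx, map_one]

/-- `A` is small abelian. -/
def SmallAb (p : ℕ) (A : Subgroup Ω) : Prop :=
  (∀ a ∈ A, ∀ b ∈ A, a * b = b * a) ∧ ∀ a ∈ A, Sm p a

theorem SmallAb.mono {p : ℕ} {A A' : Subgroup Ω} (hA : SmallAb p A) (h : A' ≤ A) : SmallAb p A' :=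
  ⟨fun a ha b hb => hA.1 a (h ha) b (h hb), fun a ha => hA.2 a (h ha)⟩

theorem SmallAb.range {p : ℕ} {A : Subgroup Ω} (hA : SmallAb p A) (φ : A →* Ω) : SmallAb p φ.range := by
  refine ⟨?_, ?_⟩
  · rintro _ ⟨a, rfl⟩ _ ⟨b, rfl⟩
    rw [← map_mul, ← map_mul]
    congr 1
    exact Subtype.ext (hA.1 a a.2 b b.2)
  · rintro _ ⟨a, rfl⟩
    have h := hA.2 a a.2
    rw [sm_iff] at h ⊢
    rw [← map_pow]
    have : a ^ ex p = 1 := Subtype.ext (by simpa using h)
    rw [this, map_one]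

theorem SmallAb.sup {p : ℕ} {A B : Subgroup Ω} (hA : SmallAb p A) (hB : SmallAb p B)
    (hAB : ∀ a ∈ A, ∀ b ∈ B, a * b = b * a) : SmallAb p (A ⊔ B) := by
  have hcomm : ∀ x ∈ A ⊔ B, ∀ y ∈ A ⊔ B, x * y = y * x := by
    have h1 : ((A : Set Ω) ∪ B) ⊆ Subgroup.centralizer ((A : Set Ω) ∪ B) := by
      intro x hx
      rw [SetLike.mem_coe, Subgroup.mem_centralizer_iff]
      intro y hy
      rcases hx with hx | hx <;> rcases hy with hy | hy
      · exact hA.1 y hy x hx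
      · exact (hAB x hx y hy).symm
      · exact hAB y hy x hx
      · exact hB.1 y hy x hx
    have h2 : A ⊔ B ≤ Subgroup.centralizer ((A : Set Ω) ∪ B) := by
      rw [Subgroup.sup_eq_closure]
      exact (Subgroup.closure_le _).mpr h1
    have h3 : Subgroup.centralizer ((A : Set Ω) ∪ B) = Subgroup.centralizer ((A ⊔ B : Subgroup Ω) : Set Ω) := by
      rw [Subgroup.sup_eq_closure, Subgroup.centralizer_closure]
    intro x hx y hy
    have := h2 hx
    rw [h3, Subgroup.mem_centralizer_iff] at this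
    exact (this y hy).symm
  refine ⟨hcomm, ?_⟩
  intro x hx
  have hx' := hx
  rw [Subgroup.sup_eq_closure] at hx'
  induction hx' using Subgroup.closure_induction with
  | mem y hy =>
    rcases hy with hy | hy
    · exact hA.2 y hy
    · exact hB.2 y hy
  | one => exact sm_one p
  | mul a b ha hb iha ihb =>
    have haA : a ∈ A ⊔ B := by rw [Subgroup.sup_eq_closure]; exact ha
    have hbA : b ∈ A ⊔ B := by rw [Subgroup.sup_eq_closure]; exact hb
    exact (iha haA).mul (ihb hbA) (hcomm a haA b hbA)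
  | inv a ha iha =>
    have haA : a ∈ A ⊔ B := by rw [Subgroup.sup_eq_closure]; exact ha
    exact (iha haA).inv

/-! ### The `K`-normalizer system -/

theorem map_eq_of_kact {P Q : Subgroup Ω} (ψ : ↥(P ⊔ Q) →* Ω) (k : MulAut Q)
    (hψk : ∀ q : Q, ψ (Subgroup.inclusion le_sup_right q) = k q) : (Q.subgroupOf (P ⊔ Q)).map ψ = Q := by
  ext z
  rw [mem_map_subgroupOf]
  constructor
  · rintro ⟨y, hy, rfl⟩
    have := hψk ⟨y, hy⟩
    have e1 : Subgroup.inclusion (le_sup_right : Q ≤ P ⊔ Q) ⟨y, hy⟩ = y := Subtype.ext rfl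
    rw [e1] at this
    rw [this]
    exact (k ⟨y, hy⟩).2
  · intro hz
    refine ⟨Subgroup.inclusion le_sup_right (k⁻¹ ⟨z, hz⟩), (k⁻¹ ⟨z, hz⟩).2, ?_⟩
    rw [hψk]
    show ((k (k⁻¹ ⟨z, hz⟩) : Q) : Ω) = z
    rw [MulAut.apply_inv_self]

/-- The `K`-normalizer fusion system `N_F^K(Q)`. -/
def kNormSystem (F : FusionSystem S) (Q : Subgroup Ω) (hQ : Q ≤ S) (K : Subgroup (MulAut Q)) :
    FusionSystem (NK S Q K) where
  Hom P := {φ | KHom F Q K P φ}
  le_of_mem h := ⟨h.2.1, h.2.2.1⟩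
  injective_of_mem h := F.injective_of_mem h.1
  conj_mem := by
    intro P g hP hg
    have hPS : P ≤ S := hP.trans (NK_le S Q K)
    have hgS : g ∈ S := NK_le S Q K hg
    obtain ⟨α, hα, hαg⟩ := (mem_NK.mp hg).2
    refine ⟨F.conj_mem hPS hgS, hP, fun x => ?_, conjHom (P ⊔ Q) g, F.conj_mem (sup_le hPS hQ) hgS,
      fun x => rfl, α, hα, fun q => ?_⟩
    · exact Subgroup.mul_mem _ (Subgroup.mul_mem _ hg (hP x.2)) (Subgroup.inv_mem _ hg)
    · rw [hαg q]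
      rfl
  comp_mem := by
    rintro P R φ ψ ⟨hφ, hP, hφN, φ', hφ', hφ'φ, k₁, hk₁, hφ'k⟩ ⟨hψ, hR, hψN, ψ', hψ', hψ'ψ, k₂, hk₂, hψ'k⟩ h
    refine ⟨F.comp_mem hφ hψ h, hP, fun x => hψN _, ?_⟩
    have hφ'Q := map_eq_of_kact φ' k₁ hφ'k
    have hval : ∀ x : ↥(P ⊔ Q), φ' x ∈ R ⊔ Q := by
      intro x
      have := ext_apply_mem_sup φ φ' hφ'φ hφ'Q x
      refine (sup_le_sup_right ?_ Q) this
      rintro _ ⟨y, rfl⟩
      exact h y
    refine ⟨ψ'.comp (φ'.codRestrict (R ⊔ Q) hval), F.comp_mem hφ' hψ' hval, fun x => ?_, k₂ * k₁,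
      K.mul_mem hk₂ hk₁, fun q => ?_⟩
    · show ψ' ⟨φ' (Subgroup.inclusion le_sup_left x), _⟩ = ψ ⟨φ x, _⟩
      rw [← hψ'ψ]
      congr 1
      apply Subtype.ext
      exact hφ'φ x
    · show ψ' ⟨φ' (Subgroup.inclusion le_sup_right q), _⟩ = ((k₂ (k₁ q) : Q) : Ω)
      rw [← hψ'k (k₁ q)]
      congr 1
      apply Subtype.ext
      exact hφ'k q
  inv_mem := by
    rintro P φ ⟨hφ, hP, hφN, φ', hφ', hφ'φ, k, hk, hφ'k⟩
    obtain ⟨χ, hχ, hχφ'⟩ := F.inv_mem hφ'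
    have hle1 : φ.range ≤ φ'.range := by
      rintro _ ⟨x, rfl⟩
      exact ⟨Subgroup.inclusion le_sup_left x, hφ'φ x⟩
    have hle2 : Q ≤ φ'.range := by
      intro q hq
      refine ⟨Subgroup.inclusion le_sup_right (k⁻¹ ⟨q, hq⟩), ?_⟩
      rw [hφ'k]
      show ((k (k⁻¹ ⟨q, hq⟩) : Q) : Ω) = q
      rw [MulAut.apply_inv_self]
    have hle : φ.range ⊔ Q ≤ φ'.range := sup_le hle1 hle2
    have key : ∀ x : P, χ (Subgroup.inclusion hle1 ⟨φ x, ⟨x, rfl⟩⟩) = (x : Ω) := by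
      intro x
      have : χ (Subgroup.inclusion hle1 ⟨φ x, ⟨x, rfl⟩⟩) =
          ((Subgroup.inclusion le_sup_left x : ↥(P ⊔ Q)) : Ω) := by
        rw [← hχφ' (Subgroup.inclusion le_sup_left x)]
        congr 1
        apply Subtype.ext
        exact (hφ'φ x).symm
      rw [this]
      rfl
    refine ⟨χ.comp (Subgroup.inclusion hle1), ⟨inclusion_comp_mem F hle1 hχ, ?_, ?_,
      χ.comp (Subgroup.inclusion hle), inclusion_comp_mem F hle hχ, fun x => rfl, k⁻¹, K.inv_mem hk, ?_⟩, ?_⟩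
    · rintro _ ⟨x, rfl⟩
      exact hφN x
    · rintro ⟨_, x, rfl⟩
      show χ (Subgroup.inclusion hle1 ⟨φ x, ⟨x, rfl⟩⟩) ∈ NK S Q K
      rw [key x]
      exact hP x.2
    · intro q
      show χ (Subgroup.inclusion hle (Subgroup.inclusion le_sup_right q)) = ((k⁻¹ q : Q) : Ω)
      have h1 := hχφ' (Subgroup.inclusion le_sup_right (k⁻¹ q))
      have h2 : (Subgroup.inclusion hle (Subgroup.inclusion le_sup_right q) : ↥φ'.range) =
          ⟨φ' (Subgroup.inclusion le_sup_right (k⁻¹ q)), ⟨_, rfl⟩⟩ := by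
        apply Subtype.ext
        show (q : Ω) = φ' (Subgroup.inclusion le_sup_right (k⁻¹ q))
        rw [hφ'k]
        show (q : Ω) = ((k (k⁻¹ q) : Q) : Ω)
        rw [MulAut.apply_inv_self]
      rw [h2, h1]
      rfl
    · intro x
      exact key x

theorem mem_kNormSystem_iff (F : FusionSystem S) (Q : Subgroup Ω) (hQ : Q ≤ S) (K : Subgroup (MulAut Q))
    (P : Subgroup Ω) (φ : P →* Ω) : φ ∈ (kNormSystem F Q hQ K).Hom P ↔ KHom F Q K P φ := Iff.rfl

end Cfsg.Agent.Lib.Helper26.Bgh
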