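import Cfsg.Agent.Lib.Helper26.OrderPCubeA
import Cfsg.Agent.Lib.Helper16.StronglyEmbedded

/-!
Automorphisms of an essential subgroup centralizing an abelian subgroup of index `p` ("transvections"):
modulo inner automorphisms they form a group of order at most `p`.  Part A: general tools.
-/

set_option autoImplicit false
universe u

namespace Cfsg.Agent.Lib.Helper26

open Cfsg

/-- In a group with a strongly `p`-embedded subgroup `E`, a nontrivial `p`-element of `E` does not commute with a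
conjugate, by an element outside `E`, of a nontrivial `p`-element of `E`. -/
theorem spe_not_commute {X : Type*} [Group X] [Finite X] {p : ℕ} [Fact p.Prime] {E : Subgroup X}
    (hE : IsStronglyPEmbedded p E) {a b g : X} (ha : a ∈ E) (hb : b ∈ E) (ha1 : a ≠ 1) (hb1 : b ≠ 1) {k : ℕ}
    (hak : a ^ (p ^ k) = 1) (hbk : b ^ (p ^ k) = 1) (hg : g ∉ E)
    (hcomm : a * (g * b * g⁻¹) = (g * b * g⁻¹) * a) : False := by
  have hpp : p.Prime := Fact.out
  have hQE : Subgroup.zpowers a ≤ E := Subgroup.zpowers_le.mpr ha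
  have hQp : IsPGroup p (Subgroup.zpowers a) := by
    rintro ⟨x, hx⟩
    obtain ⟨n, rfl⟩ := Subgroup.mem_zpowers_iff.mp hx
    refine ⟨k, Subtype.ext ?_⟩
    show (a ^ n) ^ (p ^ k) = 1
    rw [← zpow_natCast, ← zpow_mul, mul_comm, zpow_mul, zpow_natCast, hak, one_zpow]
  have hQ1 : Subgroup.zpowers a ≠ ⊥ := by
    intro h
    rw [Subgroup.zpowers_eq_bot] at h
    exact ha1 h
  obtain ⟨s, hs⟩ : ∃ s, s = g * b * g⁻¹ := ⟨_, rfl⟩
  rw [← hs] at hcomm
  have hscomm : ∀ x ∈ Subgroup.zpowers a, s * x * s⁻¹ = x := by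
    intro x hx
    obtain ⟨n, rfl⟩ := Subgroup.mem_zpowers_iff.mp hx
    have : Commute s a := hcomm.symm
    rw [(this.zpow_right n).eq, mul_inv_cancel_right]
  have hsN : s ∈ Subgroup.normalizer ((Subgroup.zpowers a : Subgroup X) : Set X) := by
    rw [Subgroup.mem_normalizer_iff]
    intro h
    constructor
    · intro hh
      rw [hscomm h hh]
      exact hh
    · intro hh
      have h2 := hscomm _ hh
      have h3 : h = s * h * s⁻¹ := by
        have : s * (s * h * s⁻¹) * s⁻¹ = s * h * s⁻¹ := h2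
        have h4 : s * h * s⁻¹ = s⁻¹ * (s * (s * h * s⁻¹) * s⁻¹) * s := by group
        rw [this] at h4
        calc h = s⁻¹ * (s * h * s⁻¹) * s := by group
          _ = s * h * s⁻¹ := h4.symm
      rw [h3]
      exact hh
  have hsE : s ∈ E := Cfsg.Agent.Lib.Helper16.spe_normalizer_le hE hQE hQp hQ1 hsN
  have hsEg : s ∈ E.map (MulAut.conj g).toMonoidHom := ⟨b, hb, by rw [hs]; rfl⟩
  have hs1 : s ≠ 1 := by
    intro h
    apply hb1
    rw [hs] at h
    have : b = g⁻¹ * (g * b * g⁻¹) * g := by group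
    rw [this, h]
    group
  have hsk : s ^ (p ^ k) = 1 := by
    rw [hs, conj_pow, hbk]
    group
  have hle : Subgroup.zpowers s ≤ E ⊓ E.map (MulAut.conj g).toMonoidHom :=
    Subgroup.zpowers_le.mpr ⟨hsE, hsEg⟩
  have hdvd : p ∣ Nat.card ↥(E ⊓ E.map (MulAut.conj g).toMonoidHom) := by
    have h1 : Nat.card (Subgroup.zpowers s) ∣ Nat.card ↥(E ⊓ E.map (MulAut.conj g).toMonoidHom) :=
      Subgroup.card_dvd_of_le hle
    rw [Nat.card_zpowers] at h1
    have h2 : orderOf s ∣ p ^ k := orderOf_dvd_of_pow_eq_one hsk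
    obtain ⟨i, -, hi⟩ := (Nat.dvd_prime_pow hpp).mp h2
    have hi0 : i ≠ 0 := by
      rintro rfl
      rw [pow_zero, orderOf_eq_one_iff] at hi
      exact hs1 hi
    exact (hi ▸ dvd_pow_self p hi0 : p ∣ orderOf s).trans h1
  exact Cfsg.Agent.Lib.Helper16.spe_inter_conj hE hg hdvd

section Chain

variable {H : Type u} [Group H] [Finite H] {p : ℕ} [Fact p.Prime]

/-- An element of `A` stabilising an `A`-invariant chain from `⊥` to `⊤` is inner. -/
theorem EssData.mem_inn_of_chainStab (hH : IsPGroup p H) {A : Subgroup (MulAut H)} (hd : EssData p H A)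
    (T : ℕ → Subgroup H) (hmono : Monotone T) (h0 : T 0 = ⊥) (n : ℕ) (hn : T n = ⊤)
    (hinv : ∀ γ ∈ A, ∀ i x, x ∈ T i ↔ γ x ∈ T i) {α : MulAut H} (hαA : α ∈ A)
    (hα : α ∈ chainStab T hmono) : α ∈ Inn H := by
  have hBn := chainStab_inf_normal T hmono A hinv
  have hBp0 : IsPGroup p ↥(chainStab T hmono ⊓ A) := by
    apply isPGroup_of_chainStab T hmono (fun i => inferInstance)
      (fun i => (hH.to_subgroup (T i)).exists_card_eq) n hn _ inf_le_left
    intro β _
    refine ⟨0, fun x hx => ?_⟩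
    rw [h0, Subgroup.mem_bot] at hx
    rw [hx, map_one]
  have hBp : IsPGroup p ↥((chainStab T hmono ⊓ A).subgroupOf A) := hBp0.comap_subtype
  exact hd.core _ hBn hBp ⟨α, hαA⟩ (by rw [Subgroup.mem_subgroupOf]; exact ⟨hα, hαA⟩)

/-- The chain `⊥ ≤ K ≤ ⊤`: membership in its stabiliser. -/
theorem mem_chainStab_chain4 {K : Subgroup H} {α : MulAut H} (h1 : ∀ x ∈ K, α x = x)
    (h2 : ∀ x, x⁻¹ * α x ∈ K) : α ∈ chainStab (chain4 K ⊤) (chain4_mono le_top) := by
  have hK : ∀ x, x ∈ K ↔ α x ∈ K := by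
    intro x
    constructor
    · intro hx
      rw [h1 x hx]
      exact hx
    · intro hx
      have := K.mul_mem hx (K.inv_mem (h2 x))
      have e : α x * (x⁻¹ * α x)⁻¹ = x := by group
      rwa [e] at this
  refine ⟨fun i x => ?_, fun i x hx => ?_⟩
  · match i with
    | 0 =>
      show x ∈ (⊥ : Subgroup H) ↔ α x ∈ (⊥ : Subgroup H)
      rw [Subgroup.mem_bot, Subgroup.mem_bot, map_eq_one_iff α α.injective]
    | 1 => exact hK x
    | 2 => exact ⟨fun _ => Subgroup.mem_top _, fun _ => Subgroup.mem_top _⟩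
    | (n + 3) => exact ⟨fun _ => Subgroup.mem_top _, fun _ => Subgroup.mem_top _⟩
  · match i with
    | 0 =>
      show x⁻¹ * α x ∈ (⊥ : Subgroup H)
      rw [Subgroup.mem_bot, h1 x hx, inv_mul_cancel]
    | 1 => exact h2 x
    | 2 => exact Subgroup.mem_top _
    | (n + 3) => exact Subgroup.mem_top _

theorem isPGroup_chainStab_chain4 (hH : IsPGroup p H) (K : Subgroup H) :
    IsPGroup p ↥(chainStab (chain4 K ⊤) (chain4_mono le_top)) := by
  apply isPGroup_of_chainStab (chain4 K ⊤) (chain4_mono le_top) (fun i => inferInstance)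
    (fun i => (hH.to_subgroup _).exists_card_eq) 2 rfl _ le_rfl
  intro β _
  refine ⟨0, fun x hx => ?_⟩
  have hx' : x ∈ (⊥ : Subgroup H) := hx
  rw [Subgroup.mem_bot] at hx'
  rw [hx', map_one]

/-- An element of `A` centralising an `A`-invariant subgroup `K` and `H/K` is inner. -/
theorem EssData.mem_inn_of_stab (hH : IsPGroup p H) {A : Subgroup (MulAut H)} (hd : EssData p H A)
    {K : Subgroup H} (hK : ∀ γ ∈ A, ∀ x, x ∈ K ↔ γ x ∈ K) {α : MulAut H} (hαA : α ∈ A)
    (h1 : ∀ x ∈ K, α x = x) (h2 : ∀ x, x⁻¹ * α x ∈ K) : α ∈ Inn H := by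
  apply hd.mem_inn_of_chainStab hH (chain4 K ⊤) (chain4_mono le_top) rfl 2 rfl _ hαA
    (mem_chainStab_chain4 h1 h2)
  intro γ hγ i x
  match i with
  | 0 =>
    show x ∈ (⊥ : Subgroup H) ↔ γ x ∈ (⊥ : Subgroup H)
    rw [Subgroup.mem_bot, Subgroup.mem_bot, map_eq_one_iff γ γ.injective]
  | 1 => exact hK γ hγ x
  | 2 => exact ⟨fun _ => Subgroup.mem_top _, fun _ => Subgroup.mem_top _⟩
  | (n + 3) => exact ⟨fun _ => Subgroup.mem_top _, fun _ => Subgroup.mem_top _⟩

/-- A subgroup of index `p` in a finite group is maximal. -/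
theorem eq_top_of_lt_of_card_mul {K L : Subgroup H} (hidx : Nat.card H = p * Nat.card K) (hKL : K ≤ L)
    (hne : K ≠ L) : L = ⊤ := by
  have hpp : p.Prime := Fact.out
  have h1 : Nat.card K ∣ Nat.card L := Subgroup.card_dvd_of_le hKL
  obtain ⟨m, hm⟩ := h1
  have h2 : Nat.card L ∣ Nat.card H := Subgroup.card_subgroup_dvd_card L
  rw [hidx, hm, mul_comm p] at h2
  have hpos : 0 < Nat.card K := Nat.card_pos
  have h3 : m ∣ p := Nat.dvd_of_mul_dvd_mul_left hpos h2
  rcases (Nat.dvd_prime hpp).mp h3 with h | h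
  · exfalso
    apply hne
    apply Subgroup.eq_of_le_of_card_ge hKL
    rw [hm, h, mul_one]
  · apply Subgroup.eq_top_of_card_eq
    rw [hm, h, hidx, mul_comm]

end Chain

end Cfsg.Agent.Lib.Helper26
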