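import Cfsg.Agent.Lib.Helper26.BghA
import Cfsg.Agent.Lib.Helper26.EssTransvA
import Cfsg.Agent.Lib.Helper26.FSAlperin
import Cfsg.Agent.Lib.Helper27.FSCentric

/-!
BGH Theorem B, part B: stability lemma and basic facts on `N_F^K(B)` for `K = Aut_S(B)`.
-/

set_option autoImplicit false
set_option linter.unusedSectionVars false
set_option linter.style.haveILetI false

namespace Cfsg.Agent.Lib.Helper26.Bgh

open Cfsg Cfsg.FusionSystem Cfsg.Agent.Lib.Helper26 Cfsg.Agent.Lib.Helper27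

universe u

section Stab

variable {H : Type u} [Group H] [Finite H] {p : ℕ} [Fact p.Prime]

/-- An element of `A` centralising an `A`-invariant subgroup `K` and `H/K` is inner, provided normal
`p`-subgroups of `A` consist of inner automorphisms. -/
theorem mem_inn_of_stab_core (hH : IsPGroup p H) {A : Subgroup (MulAut H)}
    (hcore : ∀ N : Subgroup A, N.Normal → IsPGroup p N → ∀ x ∈ N, (x : MulAut H) ∈ Inn H)
    {K : Subgroup H} (hK : ∀ γ ∈ A, ∀ x, x ∈ K ↔ γ x ∈ K) {α : MulAut H} (hαA : α ∈ A)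
    (h1 : ∀ x ∈ K, α x = x) (h2 : ∀ x, x⁻¹ * α x ∈ K) : α ∈ Inn H := by
  have hinv : ∀ γ ∈ A, ∀ i x, x ∈ chain4 K ⊤ i ↔ γ x ∈ chain4 K ⊤ i := by
    intro γ hγ i x
    match i with
    | 0 =>
      show x ∈ (⊥ : Subgroup H) ↔ γ x ∈ (⊥ : Subgroup H)
      rw [Subgroup.mem_bot, Subgroup.mem_bot, map_eq_one_iff γ γ.injective]
    | 1 => exact hK γ hγ x
    | 2 => exact ⟨fun _ => Subgroup.mem_top _, fun _ => Subgroup.mem_top _⟩
    | (n + 3) => exact ⟨fun _ => Subgroup.mem_top _, fun _ => Subgroup.mem_top _⟩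
  have hα : α ∈ chainStab (chain4 K ⊤) (chain4_mono le_top) := mem_chainStab_chain4 h1 h2
  have hBn := chainStab_inf_normal (chain4 K ⊤) (chain4_mono le_top) A hinv
  have hBp0 : IsPGroup p ↥(chainStab (chain4 K ⊤) (chain4_mono le_top) ⊓ A) :=
    (isPGroup_chainStab_chain4 hH K).to_le inf_le_left
  have hBp : IsPGroup p ↥((chainStab (chain4 K ⊤) (chain4_mono le_top) ⊓ A).subgroupOf A) :=
    hBp0.comap_subtype
  exact hcore _ hBn hBp ⟨α, hαA⟩ (by rw [Subgroup.mem_subgroupOf]; exact ⟨hα, hαA⟩)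

end Stab

variable {Ω : Type u} [Group Ω] {S : Subgroup Ω}

/-- A map of a system from a finite subgroup `Q` into `Q` is an automorphism of the system. -/
theorem aut_of_hom_self (F : FusionSystem S) {Q : Subgroup Ω} [Finite Q] {φ : Q →* Ω} (hφ : φ ∈ F.Hom Q)
    (hφQ : ∀ x, φ x ∈ Q) : ∃ a ∈ F.autGroup Q, ∀ x : Q, ((a x : Q) : Ω) = φ x := by
  have hle : φ.range ≤ Q := by
    rintro _ ⟨x, rfl⟩
    exact hφQ x
  have hr : φ.range = Q := by
    apply Subgroup.eq_of_le_of_card_ge hle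
    rw [Nat.card_congr (MonoidHom.ofInjective (F.injective_of_mem hφ)).toEquiv]
  refine ⟨homEquiv F hφ hr, ?_, fun x => rfl⟩
  rw [mem_autGroup_iff_isFIso F (hom_le F hφ)]
  exact homEquiv_isFIso F hφ hr

/-- `Y ≤ P` as soon as `P` normalizes `Y` and `N_Y(P) ≤ P` (finite `p`-groups). -/
theorem le_of_normalizer_inf_le [Finite S] {p : ℕ} [Fact p.Prime] (hS : IsPGroup p S) {P Y : Subgroup Ω}
    (hPS : P ≤ S) (hYS : Y ≤ S) (hPY : P ≤ Subgroup.normalizer (Y : Set Ω))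
    (h : ∀ y ∈ Y, y ∈ Subgroup.normalizer (P : Set Ω) → y ∈ P) : Y ≤ P := by
  by_contra hYP
  have hPYS : P ⊔ Y ≤ S := sup_le hPS hYS
  have hfin : Finite ↥(P ⊔ Y) := finite_of_le hPYS
  have hpg : IsPGroup p ↥(P ⊔ Y) := hS.to_le hPYS
  have hne : P ≠ P ⊔ Y := fun h => hYP (h ▸ le_sup_right)
  obtain ⟨g, hgN, hgP⟩ := exists_mem_normalizerIn_not_mem hpg (le_sup_left : P ≤ P ⊔ Y) hne
  have hgPY : g ∈ P ⊔ Y := normalizerIn_le _ _ hgN
  have hgN' : g ∈ Subgroup.normalizer (P : Set Ω) := hgN.2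
  have hgPY' : g ∈ ((P ⊔ Y : Subgroup Ω) : Set Ω) := hgPY
  rw [Subgroup.coe_mul_of_left_le_normalizer_right P Y hPY] at hgPY'
  obtain ⟨x, hx, q, hq, rfl⟩ := hgPY'
  have hqN : q ∈ Subgroup.normalizer (P : Set Ω) := by
    have : q = x⁻¹ * (x * q) := by simp
    rw [this]
    exact Subgroup.mul_mem _ (Subgroup.inv_mem _ (Subgroup.le_normalizer hx)) hgN'
  exact hgP (P.mul_mem hx (h q hq hqN))

/-! ### `K = Aut_S(B)` -/

section KB

variable [Finite S] {p : ℕ} [Fact p.Prime]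

theorem fullyKNormalized_of_fc (F : FusionSystem S) {B : Subgroup Ω} (hB : F.IsFullyCentralized B) :
    FullyKNormalized F B (autInducedBy S B) := by
  have hfinB : Finite B := finite_of_le hB.1
  refine ⟨hB.1, fun Q' e he => ?_⟩
  have hfinQ' : Finite Q' := finite_of_le he.le_right
  rw [card_NK, card_NK, inf_idem]
  have h1 : Nat.card (centralizerIn S Q') ≤ Nat.card (centralizerIn S B) :=
    hB.2 Q' ((isConj_iff_exists_isFIso F).mpr ⟨e, he⟩)
  have h2 : Nat.card ↥(autInducedBy S Q' ⊓ kmap e (autInducedBy S B)) ≤ Nat.card ↥(autInducedBy S B) := by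
    have : Nat.card ↥(kmap e (autInducedBy S B)) = Nat.card ↥(autInducedBy S B) :=
      card_map_congr e (autInducedBy S B)
    rw [← this]
    exact Subgroup.card_le_of_le inf_le_right
  exact Nat.mul_le_mul h1 h2

variable (F : FusionSystem S) {B : Subgroup Ω}

/-- For a map of `N_F^K(B)`: `x` centralizes `B` iff its image does. -/
theorem khom_mem_cen_iff {K : Subgroup (MulAut B)} {P : Subgroup Ω} {φ : P →* Ω} (hφ : KHom F B K P φ) (x : P) :
    (x : Ω) ∈ centralizerIn S B ↔ φ x ∈ centralizerIn S B := by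
  obtain ⟨hφF, hP, hφN, ψ, hψ, hψφ, k, hk, hψk⟩ := hφ
  have hinj := F.injective_of_mem hψ
  rw [mem_centralizerIn_iff, mem_centralizerIn_iff]
  constructor
  · rintro ⟨hxS, hx⟩
    refine ⟨hom_apply_mem F hφF x, fun b hb => ?_⟩
    have h1 := hx (k⁻¹ ⟨b, hb⟩ : B) (k⁻¹ ⟨b, hb⟩ : B).2
    have h2 : Subgroup.inclusion (le_sup_right : B ≤ P ⊔ B) (k⁻¹ ⟨b, hb⟩) * Subgroup.inclusion le_sup_left x =
        Subgroup.inclusion le_sup_left x * Subgroup.inclusion (le_sup_right : B ≤ P ⊔ B) (k⁻¹ ⟨b, hb⟩) :=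
      Subtype.ext h1
    have h3 := congrArg ψ h2
    rw [map_mul, map_mul, hψφ, hψk] at h3
    have h4 : ((k (k⁻¹ ⟨b, hb⟩) : B) : Ω) = b := by rw [MulAut.apply_inv_self]
    rw [h4] at h3
    exact h3
  · rintro ⟨-, hx⟩
    refine ⟨(hP.trans (NK_le S B K)) x.2, fun b hb => ?_⟩
    have h1 := hx (k ⟨b, hb⟩ : B) (k ⟨b, hb⟩ : B).2
    rw [← hψφ, ← hψk, ← map_mul, ← map_mul] at h1
    have h2 := hinj h1
    exact congrArg Subtype.val h2

theorem khom_of_cen {P : Subgroup Ω} {φ : P →* Ω} (hφ : φ ∈ F.centralizerHom B P) :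
    KHom F B (autInducedBy S B) P φ := by
  obtain ⟨h1, h2, h3, ψ, hψ, hψφ, hψQ⟩ := hφ
  exact ⟨h1, h2.trans (centralizerIn_le_NK S B _), fun x => centralizerIn_le_NK S B _ (h3 x), ψ, hψ, hψφ, 1,
    Subgroup.one_mem _, hψQ⟩

theorem khom_mono {F E : FusionSystem S} (hEF : ∀ P : Subgroup Ω, E.Hom P ⊆ F.Hom P) {K : Subgroup (MulAut B)}
    {P : Subgroup Ω} {φ : P →* Ω} (hφ : KHom E B K P φ) : KHom F B K P φ := by
  obtain ⟨h1, h2, h3, ψ, hψ, hψφ, hk⟩ := hφ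
  exact ⟨hEF P h1, h2, h3, ψ, hEF _ hψ, hψφ, hk⟩

/-- An abelian `B` lies in `N_S^K(B)`. -/
theorem le_NK_of_comm (hBS : B ≤ S) (hBab : ∀ a ∈ B, ∀ b ∈ B, a * b = b * a) (K : Subgroup (MulAut B)) : B ≤ NK S B K := by
  refine le_trans ?_ (centralizerIn_le_NK S B K)
  intro b hb
  rw [mem_centralizerIn_iff]
  exact ⟨hBS hb, fun y hy => hBab y hy b hb⟩

/-- An automorphism in `N_F^K(B)` of a subgroup `R ≥ B` acts on `B` as an element of `K`. -/
theorem aut_restrict_mem (hBS : B ≤ S) {K : Subgroup (MulAut B)} {R : Subgroup Ω} (hBR : B ≤ R) {α : MulAut R}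
    (hα : α ∈ (kNormSystem F B hBS K).autGroup R) (hRT : R ≤ NK S B K) :
    ∃ k ∈ K, ∀ b : B, ((α (Subgroup.inclusion hBR b) : R) : Ω) = k b := by
  have h1 := (mem_autGroup_iff (kNormSystem F B hBS K) hRT α).mp hα
  obtain ⟨-, -, -, ψ, -, hψφ, k, hk, hψk⟩ := h1
  refine ⟨k, hk, fun b => ?_⟩
  rw [← hψk b]
  have : Subgroup.inclusion (le_sup_right : B ≤ R ⊔ B) b =
      Subgroup.inclusion (le_sup_left : R ≤ R ⊔ B) (Subgroup.inclusion hBR b) := Subtype.ext rfl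
  rw [this, hψφ]
  rfl

end KB

end Cfsg.Agent.Lib.Helper26.Bgh
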