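import Cfsg.Agent.Lib.Helper26.BghB

/-!
BGH Theorem B, part C: the context `Ctx` (a fully centralized abelian `B` with `C_F(B) ≤ C_E(B)`), the systems
`N_F^K(B)`, `N_E^K(B)` for `K = Aut_S(B)`, and the transported stability lemma.
-/

set_option autoImplicit false
set_option linter.unusedSectionVars false
set_option linter.style.haveILetI false

namespace Cfsg.Agent.Lib.Helper26.Bgh

open Cfsg Cfsg.FusionSystem Cfsg.Agent.Lib.Helper26 Cfsg.Agent.Lib.Helper27

universe u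

variable {Ω : Type u} [Group Ω] {S : Subgroup Ω}

/-- The standing hypotheses. -/
structure Ctx (p : ℕ) (S : Subgroup Ω) (F E : FusionSystem S) (B : Subgroup Ω) : Prop where
  hS : IsPGroup p S
  hF : F.IsSaturated p
  hE : E.IsSaturated p
  hEF : ∀ P : Subgroup Ω, E.Hom P ⊆ F.Hom P
  hBS : B ≤ S
  hBab : ∀ a ∈ B, ∀ b ∈ B, a * b = b * a
  hBF : F.IsFullyCentralized B
  hBE : E.IsFullyCentralized B
  hC : ∀ (P : Subgroup Ω) (φ : P →* Ω), φ ∈ F.centralizerHom B P → φ ∈ E.centralizerHom B P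

/-- `N_S^K(B)` for `K = Aut_S(B)`. -/
abbrev TB (S B : Subgroup Ω) : Subgroup Ω := NK S B (autInducedBy S B)

/-- normal `p`-subgroups of `A` are inner. -/
def CoreInn (p : ℕ) (R : Subgroup Ω) (A : Subgroup (MulAut R)) : Prop :=
  ∀ N : Subgroup A, N.Normal → IsPGroup p N → ∀ x ∈ N, (x : MulAut R) ∈ Inn R

namespace Ctx

variable {p : ℕ} {F E : FusionSystem S} {B : Subgroup Ω}

variable [Finite S] [Fact p.Prime]

/-- `N_F^K(B)`. -/
def FK (h : Ctx p S F E B) : FusionSystem (TB S B) := kNormSystem F B h.hBS (autInducedBy S B)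

/-- `N_E^K(B)`. -/
def EK (h : Ctx p S F E B) : FusionSystem (TB S B) := kNormSystem E B h.hBS (autInducedBy S B)

theorem mem_FK_iff (h : Ctx p S F E B) (P : Subgroup Ω) (φ : P →* Ω) :
    φ ∈ h.FK.Hom P ↔ KHom F B (autInducedBy S B) P φ := Iff.rfl

theorem mem_EK_iff (h : Ctx p S F E B) (P : Subgroup Ω) (φ : P →* Ω) :
    φ ∈ h.EK.Hom P ↔ KHom E B (autInducedBy S B) P φ := Iff.rfl

theorem EK_le_FK (h : Ctx p S F E B) (P : Subgroup Ω) : h.EK.Hom P ⊆ h.FK.Hom P :=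
  fun _ hφ => khom_mono h.hEF hφ

theorem FK_le (h : Ctx p S F E B) (P : Subgroup Ω) : h.FK.Hom P ⊆ F.Hom P := fun _ hφ => hφ.1

theorem EK_le (h : Ctx p S F E B) (P : Subgroup Ω) : h.EK.Hom P ⊆ E.Hom P := fun _ hφ => hφ.1

theorem T_le (_h : Ctx p S F E B) : TB S B ≤ S := NK_le S B _

theorem B_le_T (h : Ctx p S F E B) : B ≤ TB S B := le_NK_of_comm h.hBS h.hBab _

theorem cen_le_T (_h : Ctx p S F E B) : centralizerIn S B ≤ TB S B := centralizerIn_le_NK S B _

theorem B_le_cen (h : Ctx p S F E B) : B ≤ centralizerIn S B := by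
  intro b hb
  rw [mem_centralizerIn_iff]
  exact ⟨h.hBS hb, fun y hy => h.hBab y hy b hb⟩

theorem cen_hom_mem_EK (h : Ctx p S F E B) {P : Subgroup Ω} {φ : P →* Ω} (hφ : φ ∈ F.centralizerHom B P) :
    φ ∈ h.EK.Hom P := khom_of_cen E (h.hC P φ hφ)

theorem mem_cen_iff (h : Ctx p S F E B) {P : Subgroup Ω} {φ : P →* Ω} (hφ : φ ∈ h.FK.Hom P) (x : P) :
    (x : Ω) ∈ centralizerIn S B ↔ φ x ∈ centralizerIn S B := khom_mem_cen_iff F hφ x

theorem T_pg (h : Ctx p S F E B) : IsPGroup p (TB S B) := h.hS.to_le h.T_le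

theorem T_fin (h : Ctx p S F E B) : Finite (TB S B) := finite_of_le h.T_le

theorem FK_sat (h : Ctx p S F E B) : h.FK.IsSaturated p :=
  kNormalizer_saturated' h.hS F h.hF (fullyKNormalized_of_fc F h.hBF) rfl h.FK (fun _ _ => Iff.rfl)

theorem EK_sat (h : Ctx p S F E B) : h.EK.IsSaturated p :=
  kNormalizer_saturated' h.hS E h.hE (fullyKNormalized_of_fc E h.hBE) rfl h.EK (fun _ _ => Iff.rfl)

/-- the centralizer of `B` is normalized by `T`. -/
theorem conj_mem_cen (h : Ctx p S F E B) {t c : Ω} (ht : t ∈ TB S B) (hc : c ∈ centralizerIn S B) :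
    t * c * t⁻¹ ∈ centralizerIn S B := by
  have hsub : (conjHom (centralizerIn S B) t) ∈ h.FK.Hom (centralizerIn S B) :=
    h.FK.conj_mem h.cen_le_T ht
  have := (h.mem_cen_iff hsub ⟨c, hc⟩).mp hc
  exact this

/-- `B` is normal in `N_F^K(B)`. -/
theorem FK_isNormal (h : Ctx p S F E B) : h.FK.IsNormal B := by
  refine ⟨h.B_le_T, fun P φ hφ => ?_⟩
  have hφ' := hφ
  obtain ⟨hφF, hP, hφN, ψ, hψ, hψφ, k, hk, hψk⟩ := hφ'
  have hψB := map_eq_of_kact ψ k hψk
  refine ⟨ψ, ?_, hψφ, hψB⟩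
  have hle : P ⊔ B ⊔ B ≤ P ⊔ B := sup_le le_rfl le_sup_right
  refine ⟨hψ, sup_le hP h.B_le_T, fun x => ?_, ψ.comp (Subgroup.inclusion hle), inclusion_comp_mem F hle hψ,
    fun x => ?_, k, hk, fun b => ?_⟩
  · have := ext_apply_mem_sup φ ψ hψφ hψB x
    refine (sup_le ?_ h.B_le_T) this
    rintro _ ⟨y, rfl⟩
    exact hφN y
  · show ψ (Subgroup.inclusion hle (Subgroup.inclusion le_sup_left x)) = ψ x
    congr 1
  · show ψ (Subgroup.inclusion hle (Subgroup.inclusion le_sup_right b)) = ((k b : B) : Ω)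
    rw [← hψk b]
    congr 1

/-- Transported stability lemma. -/
theorem stab_mem_inn (h : Ctx p S F E B) {R R' : Subgroup Ω} (hcore : CoreInn p R (h.FK.autGroup R))
    {e : R ≃* R'} (he : IsFIso h.FK e) {τ : MulAut R'} (hτ : τ ∈ h.FK.autGroup R')
    (h1 : ∀ x : R', (x : Ω) ∈ centralizerIn S B → τ x = x)
    (h2 : ∀ x : R', (x : Ω)⁻¹ * ((τ x : R') : Ω) ∈ centralizerIn S B) : τ ∈ Inn R' := by
  haveI := h.T_fin
  have hRT : R ≤ TB S B := he.le_left
  have hR'T : R' ≤ TB S B := he.le_right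
  haveI : Finite R := finite_of_le hRT
  have hRp : IsPGroup p R := h.T_pg.to_le hRT
  have hτ₀ : MulAut.congr e.symm τ ∈ h.FK.autGroup R := congr_mem_autGroup h.FK he.symm hτ
  have hesymm : IsFIso h.FK e.symm := he.symm
  have hK : ∀ γ ∈ h.FK.autGroup R, ∀ x : R, x ∈ (centralizerIn S B).subgroupOf R ↔
      γ x ∈ (centralizerIn S B).subgroupOf R := by
    intro γ hγ x
    have hγF := (mem_autGroup_iff h.FK hRT γ).mp hγ
    exact h.mem_cen_iff hγF x
  have h1' : ∀ x ∈ (centralizerIn S B).subgroupOf R, (MulAut.congr e.symm τ) x = x := by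
    intro x hx
    have hex : ((e x : R') : Ω) ∈ centralizerIn S B := (h.mem_cen_iff he x).mp hx
    show e.symm.symm.symm (τ (e.symm.symm x)) = x
    have : e.symm.symm x = e x := rfl
    rw [this, h1 (e x) hex]
    exact e.symm_apply_apply x
  have h2' : ∀ x : R, x⁻¹ * (MulAut.congr e.symm τ) x ∈ (centralizerIn S B).subgroupOf R := by
    intro x
    have h3 := h2 (e x)
    have h4 : ((e x)⁻¹ * τ (e x) : R') = e (x⁻¹ * (MulAut.congr e.symm τ) x) := by
      rw [map_mul, map_inv]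
      congr 1
      show τ (e x) = e (e.symm (τ (e x)))
      rw [e.apply_symm_apply]
    have h5 : (((e x)⁻¹ * τ (e x) : R') : Ω) ∈ centralizerIn S B := h3
    rw [h4] at h5
    exact (h.mem_cen_iff he _).mpr h5
  obtain ⟨r, hr⟩ := mem_inn_of_stab_core hRp hcore hK hτ₀ h1' h2'
  refine ⟨e r, ?_⟩
  ext y
  have h6 := congrArg (fun a : MulAut R => a (e.symm y)) hr
  simp only [MulAut.conj_apply] at h6
  have h7 : (MulAut.congr e.symm τ) (e.symm y) = e.symm (τ y) := by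
    show e.symm (τ (e (e.symm y))) = e.symm (τ y)
    rw [e.apply_symm_apply]
  rw [h7] at h6
  have h8 := congrArg e h6
  rw [e.apply_symm_apply, map_mul, map_mul, map_inv, e.apply_symm_apply] at h8
  rw [MulAut.conj_apply, h8]

end Ctx

end Cfsg.Agent.Lib.Helper26.Bgh
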