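import Cfsg.Agent.Lib.Helper26.BghC

/-!
BGH Theorem B, part D: automorphisms in `N_F^K(B)` of a centric radical subgroup fixing `B` pointwise
lie in `N_E^K(B)`.
-/

set_option autoImplicit false
set_option linter.unusedSectionVars false
set_option linter.style.haveILetI false

namespace Cfsg.Agent.Lib.Helper26.Bgh

open Cfsg Cfsg.FusionSystem Cfsg.Agent.Lib.Helper26 Cfsg.Agent.Lib.Helper27

universe u

variable {Ω : Type u} [Group Ω] {S : Subgroup Ω}

namespace Ctx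

variable {p : ℕ} {F E : FusionSystem S} {B : Subgroup Ω} [Finite S] [Fact p.Prime]

/-- A map of `N_F^K(B)` defined on `R ≥ B` acts on `B` as an element of `K`. -/
theorem hom_restrict_mem (h : Ctx p S F E B) {R : Subgroup Ω} (hBR : B ≤ R) {φ : R →* Ω}
    (hφ : φ ∈ h.FK.Hom R) :
    ∃ k ∈ autInducedBy S B, ∀ b : B, φ (Subgroup.inclusion hBR b) = k b := by
  obtain ⟨-, -, -, ψ, -, hψφ, k, hk, hψk⟩ := hφ
  refine ⟨k, hk, fun b => ?_⟩
  rw [← hψk b]
  have : Subgroup.inclusion (le_sup_right : B ≤ R ⊔ B) b =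
      Subgroup.inclusion (le_sup_left : R ≤ R ⊔ B) (Subgroup.inclusion hBR b) := Subtype.ext rfl
  rw [this, hψφ]

/-- the image of `R ≥ B` under a map of `N_F^K(B)` contains `B`. -/
theorem le_range (h : Ctx p S F E B) {R : Subgroup Ω} (hBR : B ≤ R) {φ : R →* Ω}
    (hφ : φ ∈ h.FK.Hom R) : B ≤ φ.range := by
  obtain ⟨k, -, hk⟩ := h.hom_restrict_mem hBR hφ
  intro b hb
  refine ⟨Subgroup.inclusion hBR (k⁻¹ ⟨b, hb⟩), ?_⟩
  rw [hk]
  show ((k (k⁻¹ ⟨b, hb⟩) : B) : Ω) = b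
  rw [MulAut.apply_inv_self]

/-- `x ∈ T` normalizes `R ⊓ C_S(B)` when it normalizes `R`. -/
theorem conj_mem_inf (h : Ctx p S F E B) {R : Subgroup Ω} {g y : Ω} (hgT : g ∈ TB S B)
    (hgR : ∀ z ∈ R, g * z * g⁻¹ ∈ R) (hy : y ∈ R ⊓ centralizerIn S B) :
    g * y * g⁻¹ ∈ R ⊓ centralizerIn S B :=
  ⟨hgR y hy.1, h.conj_mem_cen hgT hy.2⟩

/-- **Lemma A.** For a centric subgroup `R ≥ B` of `N_F^K(B)` in which stabilizers of `R ⊓ C_S(B)` are inner:
`C_T(R ⊓ C_S(B)) ≤ R ⊓ C_S(B)`. -/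
theorem cen_inf_le (h : Ctx p S F E B) {R : Subgroup Ω} (hBR : B ≤ R) (hRc : h.FK.IsCentric R)
    (hstab : ∀ τ ∈ h.FK.autGroup R, (∀ x : R, (x : Ω) ∈ centralizerIn S B → τ x = x) →
      (∀ x : R, (x : Ω)⁻¹ * ((τ x : R) : Ω) ∈ centralizerIn S B) → τ ∈ Inn R) :
    centralizerIn (TB S B) (R ⊓ centralizerIn S B) ≤ R ⊓ centralizerIn S B := by
  haveI := h.T_fin
  have hT := h.T_pg
  have hRT : R ≤ TB S B := hRc.1
  haveI : Finite R := finite_of_le hRT
  have hYT : centralizerIn (TB S B) (R ⊓ centralizerIn S B) ≤ TB S B := centralizerIn_le _ _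
  haveI : Finite ↥(centralizerIn (TB S B) (R ⊓ centralizerIn S B)) := finite_of_le hYT
  have hBR₀ : B ≤ R ⊓ centralizerIn S B := le_inf hBR h.B_le_cen
  have hYC : centralizerIn (TB S B) (R ⊓ centralizerIn S B) ≤ centralizerIn S B := by
    intro y hy
    rw [mem_centralizerIn_iff] at hy ⊢
    exact ⟨h.T_le hy.1, fun b hb => hy.2 b (hBR₀ hb)⟩
  have hYR : centralizerIn (TB S B) (R ⊓ centralizerIn S B) ≤ R := by
    apply le_of_normalizer_inf_le hT hRT hYT
    · intro g hg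
      apply mem_normalizer_of_conj_mem_finite
      intro y hy
      rw [mem_centralizerIn_iff] at hy ⊢
      refine ⟨(TB S B).mul_mem ((TB S B).mul_mem (hRT hg) hy.1) ((TB S B).inv_mem (hRT hg)), fun x hx => ?_⟩
      have hgR : ∀ z ∈ R, g⁻¹ * z * g⁻¹⁻¹ ∈ R := fun z hz =>
        R.mul_mem (R.mul_mem (R.inv_mem hg) hz) (R.inv_mem (R.inv_mem hg))
      have hx' := h.conj_mem_inf ((TB S B).inv_mem (hRT hg)) hgR hx
      have h1 := hy.2 _ hx'
      calc x * (g * y * g⁻¹) = g * ((g⁻¹ * x * g⁻¹⁻¹) * y) * g⁻¹ := by group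
        _ = g * (y * (g⁻¹ * x * g⁻¹⁻¹)) * g⁻¹ := by rw [h1]
        _ = g * y * g⁻¹ * x := by group
    · intro y hy hyN
      have hyT : y ∈ TB S B := hYT hy
      have hyC : y ∈ centralizerIn S B := hYC hy
      have hcy : R.normalizerMonoidHom ⟨y, hyN⟩ ∈ h.FK.autGroup R :=
        autInducedBy_le_autGroup h.FK hRT (normalizerMonoidHom_mem_autInducedBy hyT hyN)
      have hinn : R.normalizerMonoidHom ⟨y, hyN⟩ ∈ Inn R := by
        apply hstab _ hcy
        · intro x hx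
          apply Subtype.ext
          show y * (x : Ω) * y⁻¹ = x
          have := (mem_centralizerIn_iff.mp hy).2 (x : Ω) ⟨x.2, hx⟩
          rw [← this]
          group
        · intro x
          show (x : Ω)⁻¹ * (y * (x : Ω) * y⁻¹) ∈ centralizerIn S B
          have h1 : (x : Ω)⁻¹ * y * ((x : Ω)⁻¹)⁻¹ ∈ centralizerIn S B :=
            h.conj_mem_cen ((TB S B).inv_mem (hRT x.2)) hyC
          have h2 := (centralizerIn S B).mul_mem h1 ((centralizerIn S B).inv_mem hyC)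
          have e : (x : Ω)⁻¹ * y * ((x : Ω)⁻¹)⁻¹ * y⁻¹ = (x : Ω)⁻¹ * (y * (x : Ω) * y⁻¹) := by group
          rwa [e] at h2
      exact mem_of_normalizerMonoidHom_mem_inn h.FK hRc hyT hyN hinn
  exact le_inf hYR hYC

end Ctx

end Cfsg.Agent.Lib.Helper26.Bgh
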