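import Cfsg.Agent.Lib.Helper26.BghD

/-!
BGH Theorem B, part E: the main extension argument inside `N_F^K(B)`.
-/

set_option autoImplicit false
set_option linter.unusedSectionVars false
set_option linter.style.haveILetI false

namespace Cfsg.Agent.Lib.Helper26.Bgh

open Cfsg Cfsg.FusionSystem Cfsg.Agent.Lib.Helper26 Cfsg.Agent.Lib.Helper27

universe u

variable {Ω : Type u} [Group Ω] {S : Subgroup Ω}

namespace Ctx

variable {p : ℕ} {F E : FusionSystem S} {B : Subgroup Ω} [Finite S] [Fact p.Prime]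

/-- An automorphism in `N_F^K(B)` of a centric subgroup `R ≥ B` (with inner stabilizers) that fixes `B`
pointwise lies in `N_E^K(B)`. -/
theorem aut_mem_of_fix (h : Ctx p S F E B) {R : Subgroup Ω} (hBR : B ≤ R) (hRc : h.FK.IsCentric R)
    (hcore : CoreInn p R (h.FK.autGroup R)) {α : MulAut R} (hα : α ∈ h.FK.autGroup R)
    (hαB : ∀ b : B, ((α (Subgroup.inclusion hBR b) : R) : Ω) = b) : α ∈ h.EK.autGroup R := by
  haveI := h.T_fin
  have hT := h.T_pg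
  have hRT : R ≤ TB S B := hRc.1
  haveI : Finite R := finite_of_le hRT
  have hR₀R : R ⊓ centralizerIn S B ≤ R := inf_le_left
  have hR₀T : R ⊓ centralizerIn S B ≤ TB S B := hR₀R.trans hRT
  haveI : Finite ↥(R ⊓ centralizerIn S B) := finite_of_le hR₀T
  have hBR₀ : B ≤ R ⊓ centralizerIn S B := le_inf hBR h.B_le_cen
  have hαF : equivHom (α : R ≃* R) ∈ h.FK.Hom R := (mem_autGroup_iff_isFIso h.FK hRT α).mp hα
  -- the restriction of `α` to `R₀ = R ⊓ C_S(B)`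
  have hα₀F : (equivHom (α : R ≃* R)).comp (Subgroup.inclusion hR₀R) ∈ h.FK.Hom (R ⊓ centralizerIn S B) :=
    inclusion_comp_mem h.FK hR₀R hαF
  have hα₀val : ∀ x : ↥(R ⊓ centralizerIn S B),
      ((equivHom (α : R ≃* R)).comp (Subgroup.inclusion hR₀R)) x ∈ R ⊓ centralizerIn S B := by
    intro x
    refine ⟨(α (Subgroup.inclusion hR₀R x)).2, ?_⟩
    exact (h.mem_cen_iff hαF (Subgroup.inclusion hR₀R x)).mp x.2.2
  have hα₀C : (equivHom (α : R ≃* R)).comp (Subgroup.inclusion hR₀R) ∈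
      F.centralizerHom B (R ⊓ centralizerIn S B) := by
    have hle : R ⊓ centralizerIn S B ⊔ B ≤ R := sup_le hR₀R hBR
    refine ⟨h.FK_le _ hα₀F, inf_le_right, fun x => (hα₀val x).2,
      (equivHom (α : R ≃* R)).comp (Subgroup.inclusion hle), inclusion_comp_mem F hle (h.FK_le _ hαF),
      fun x => rfl, fun b => ?_⟩
    have := hαB b
    rw [← this]
    rfl
  have hα₀E : (equivHom (α : R ≃* R)).comp (Subgroup.inclusion hR₀R) ∈ h.EK.Hom (R ⊓ centralizerIn S B) :=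
    h.cen_hom_mem_EK hα₀C
  obtain ⟨a₀, ha₀, ha₀x⟩ := aut_of_hom_self h.EK hα₀E hα₀val
  -- a fully normalized conjugate of `R₀` in `N_E^K(B)`
  obtain ⟨Q₀, -, -, hQ₀R, ⟨D⟩⟩ := exists_normHom_of_saturated hT h.EK h.EK_sat hR₀T
  have hRN : R ≤ normalizerIn (TB S B) (R ⊓ centralizerIn S B) := by
    intro g hg
    refine ⟨hRT hg, ?_⟩
    apply mem_normalizer_of_conj_mem_finite
    intro y hy
    exact h.conj_mem_inf (hRT hg) (fun z hz => R.mul_mem (R.mul_mem hg hz) (R.inv_mem hg)) hy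
  have hζR : D.φ.comp (Subgroup.inclusion hRN) ∈ h.EK.Hom R := inclusion_comp_mem h.EK hRN D.mem
  obtain ⟨R', hR'⟩ : ∃ R' : Subgroup Ω, (D.φ.comp (Subgroup.inclusion hRN)).range = R' := ⟨_, rfl⟩
  let e : R ≃* R' := homEquiv h.EK hζR hR'
  have heE : IsFIso h.EK e := homEquiv_isFIso h.EK hζR hR'
  have heF : IsFIso h.FK e := h.EK_le_FK _ heE
  have hR'T : R' ≤ TB S B := heE.le_right
  haveI : Finite R' := finite_of_le hR'T
  have hR'c : h.FK.IsCentric R' :=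
    isCentric_of_isConj h.FK hRc ((isConj_iff_exists_isFIso h.FK).mpr ⟨e, heF⟩)
  have he_apply : ∀ x : R, ((e x : R') : Ω) = D.φ (Subgroup.inclusion hRN x) := fun x => rfl
  -- `e` and `D.e` agree on `R₀`
  have heD : ∀ x : ↥(R ⊓ centralizerIn S B), ((e (Subgroup.inclusion hR₀R x) : R') : Ω) = ((D.e x : Q₀) : Ω) := by
    intro x
    rw [he_apply, D.e_apply]
    congr 1
  have hQ₀R' : Q₀ ≤ R' := by
    intro y hy
    have := heD (D.e.symm ⟨y, hy⟩)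
    rw [D.e.apply_symm_apply] at this
    have h' : y = ((e (Subgroup.inclusion hR₀R (D.e.symm ⟨y, hy⟩)) : R') : Ω) := this.symm
    rw [h']
    exact (e _).2
  have hDφP : D.φP ∈ h.FK.Hom (R ⊓ centralizerIn S B) := h.EK_le_FK _ D.φP_mem
  have hQ₀C : Q₀ ≤ centralizerIn S B := by
    intro y hy
    have h1 := (h.mem_cen_iff hDφP (D.e.symm ⟨y, hy⟩)).mp (D.e.symm ⟨y, hy⟩).2.2
    have h2 : D.φP (D.e.symm ⟨y, hy⟩) = ((D.e (D.e.symm ⟨y, hy⟩) : Q₀) : Ω) := rfl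
    rw [h2, D.e.apply_symm_apply] at h1
    exact h1
  have hQ₀eq : Q₀ = R' ⊓ centralizerIn S B := by
    apply le_antisymm (le_inf hQ₀R' hQ₀C)
    rintro y ⟨hyR', hyC⟩
    have hx : ((e.symm ⟨y, hyR'⟩ : R) : Ω) ∈ centralizerIn S B := by
      apply (h.mem_cen_iff heF (e.symm ⟨y, hyR'⟩)).mpr
      show ((e (e.symm ⟨y, hyR'⟩) : R') : Ω) ∈ centralizerIn S B
      rw [e.apply_symm_apply]
      exact hyC
    have := heD ⟨(e.symm ⟨y, hyR'⟩ : R), (e.symm ⟨y, hyR'⟩).2, hx⟩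
    have h3 : Subgroup.inclusion hR₀R ⟨((e.symm ⟨y, hyR'⟩ : R) : Ω), (e.symm ⟨y, hyR'⟩).2, hx⟩ = e.symm ⟨y, hyR'⟩ :=
      Subtype.ext rfl
    rw [h3, e.apply_symm_apply] at this
    have h4 : y = ((D.e ⟨(e.symm ⟨y, hyR'⟩ : R), (e.symm ⟨y, hyR'⟩).2, hx⟩ : Q₀) : Ω) := this
    rw [h4]
    exact (D.e _).2
  have hBR' : B ≤ R' := by
    rw [← hR']
    exact h.le_range hBR (h.EK_le_FK _ hζR)
  have hBQ₀ : B ≤ Q₀ := by
    rw [hQ₀eq]
    exact le_inf hBR' h.B_le_cen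
  haveI : Finite Q₀ := finite_of_le (hQ₀R'.trans hR'T)
  -- transported automorphisms
  have hα' : MulAut.congr e α ∈ h.FK.autGroup R' := congr_mem_autGroup h.FK heF hα
  have ha₀' : MulAut.congr D.e a₀ ∈ h.EK.autGroup Q₀ := congr_mem_autGroup h.EK D.e_isFIso ha₀
  have hrel : ∀ y : Q₀, (((MulAut.congr D.e a₀) y : Q₀) : Ω) =
      (((MulAut.congr e α) ⟨y, hQ₀R' y.2⟩ : R') : Ω) := by
    intro y
    have h1 : e.symm ⟨y, hQ₀R' y.2⟩ = Subgroup.inclusion hR₀R (D.e.symm y) := by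
      apply e.injective
      rw [e.apply_symm_apply]
      apply Subtype.ext
      rw [heD, D.e.apply_symm_apply]
    show ((D.e (a₀ (D.e.symm y)) : Q₀) : Ω) = ((e (α (e.symm ⟨y, hQ₀R' y.2⟩)) : R') : Ω)
    rw [h1, ← heD]
    congr 2
    apply Subtype.ext
    exact ha₀x _
  -- receptivity of `Q₀`
  have hφ : equivHom ((MulAut.congr D.e a₀ : MulAut Q₀) : Q₀ ≃* Q₀) ∈ h.EK.Hom Q₀ :=
    (mem_autGroup_iff_isFIso h.EK (hQ₀R'.trans hR'T) _).mp ha₀'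
  obtain ⟨ψ, hψ, hψφ⟩ := hQ₀R.2 Q₀ _ hφ (equivHom_range _)
  have hconjQ₀ : ∀ g ∈ R', ∀ y ∈ Q₀, g * y * g⁻¹ ∈ Q₀ := by
    intro g hg y hy
    rw [hQ₀eq] at hy ⊢
    exact h.conj_mem_inf (hR'T hg) (fun z hz => R'.mul_mem (R'.mul_mem hg hz) (R'.inv_mem hg)) hy
  have hR'ext : R' ≤ extender (TB S B) Q₀ (equivHom ((MulAut.congr D.e a₀ : MulAut Q₀) : Q₀ ≃* Q₀)) := by
    intro g hg
    rw [mem_extender_iff]
    refine ⟨hR'T hg, mem_normalizer_of_conj_mem_finite (hconjQ₀ g hg),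
      (((MulAut.congr e α) ⟨g, hg⟩ : R') : Ω), hR'T ((MulAut.congr e α) ⟨g, hg⟩).2, fun x hx => ?_⟩
    rw [equivHom_apply, equivHom_apply]
    have e1 := hrel ⟨g * x * g⁻¹, hx⟩
    have e2 := hrel x
    have e3 : (⟨g * (x : Ω) * g⁻¹, hQ₀R' hx⟩ : R') = ⟨g, hg⟩ * ⟨x, hQ₀R' x.2⟩ * ⟨g, hg⟩⁻¹ := Subtype.ext rfl
    show (((MulAut.congr D.e a₀) ⟨g * x * g⁻¹, hx⟩ : Q₀) : Ω) = _
    rw [e1, e3, map_mul, map_mul, map_inv]
    show _ = (((MulAut.congr e α) ⟨g, hg⟩ : R') : Ω) * (((MulAut.congr D.e a₀) x : Q₀) : Ω) * _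
    rw [e2]
    rfl
  have hψR' : ψ.comp (Subgroup.inclusion hR'ext) ∈ h.EK.Hom R' := inclusion_comp_mem h.EK hR'ext hψ
  -- `τ₀ = ψ ∘ α'⁻¹`
  have hα'inv : IsFIso h.FK (((MulAut.congr e α)⁻¹ : MulAut R') : R' ≃* R') :=
    (mem_autGroup_iff_isFIso h.FK hR'T _).mp ((h.FK.autGroup R').inv_mem hα')
  have hτ₀ : (ψ.comp (Subgroup.inclusion hR'ext)).comp
      (((MulAut.congr e α)⁻¹ : MulAut R') : R' ≃* R').toMonoidHom ∈ h.FK.Hom R' :=
    comp_equiv_mem h.FK hα'inv (h.EK_le_FK _ hψR')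
  have hτ₀Q : ∀ y : Q₀, ((ψ.comp (Subgroup.inclusion hR'ext)).comp
      (((MulAut.congr e α)⁻¹ : MulAut R') : R' ≃* R').toMonoidHom) ⟨y, hQ₀R' y.2⟩ = y := by
    intro y
    have h1 : ((MulAut.congr e α)⁻¹ : MulAut R') ⟨y, hQ₀R' y.2⟩ =
        ⟨(((MulAut.congr D.e a₀)⁻¹ : MulAut Q₀) y : Q₀), hQ₀R' (((MulAut.congr D.e a₀)⁻¹ : MulAut Q₀) y).2⟩ := by
      rw [MulAut.inv_apply, MulEquiv.symm_apply_eq]
      apply Subtype.ext
      rw [← hrel]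
      show (y : Ω) = (((MulAut.congr D.e a₀) (((MulAut.congr D.e a₀)⁻¹ : MulAut Q₀) y) : Q₀) : Ω)
      rw [MulAut.apply_inv_self]
    show ψ (Subgroup.inclusion hR'ext (((MulAut.congr e α)⁻¹ : MulAut R') ⟨y, hQ₀R' y.2⟩)) = y
    rw [h1]
    have h2 := hψφ _ (((MulAut.congr D.e a₀)⁻¹ : MulAut Q₀) y).2
      (hR'ext (hQ₀R' (((MulAut.congr D.e a₀)⁻¹ : MulAut Q₀) y).2))
    have h3 : (Subgroup.inclusion hR'ext ⟨(((MulAut.congr D.e a₀)⁻¹ : MulAut Q₀) y : Q₀),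
        hQ₀R' (((MulAut.congr D.e a₀)⁻¹ : MulAut Q₀) y).2⟩ : ↥(extender (TB S B) Q₀ _)) =
        ⟨(((MulAut.congr D.e a₀)⁻¹ : MulAut Q₀) y : Q₀),
          hR'ext (hQ₀R' (((MulAut.congr D.e a₀)⁻¹ : MulAut Q₀) y).2)⟩ := Subtype.ext rfl
    rw [h3, h2, equivHom_apply]
    have h4 : (⟨((((MulAut.congr D.e a₀)⁻¹ : MulAut Q₀) y : Q₀) : Ω),
        (((MulAut.congr D.e a₀)⁻¹ : MulAut Q₀) y).2⟩ : Q₀) = ((MulAut.congr D.e a₀)⁻¹ : MulAut Q₀) y :=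
      Subtype.ext rfl
    rw [h4]
    show (((MulAut.congr D.e a₀) (((MulAut.congr D.e a₀)⁻¹ : MulAut Q₀) y) : Q₀) : Ω) = y
    rw [MulAut.apply_inv_self]
  -- stabilizers in `R'` are inner
  have hstab : ∀ τ ∈ h.FK.autGroup R', (∀ x : R', (x : Ω) ∈ centralizerIn S B → τ x = x) →
      (∀ x : R', (x : Ω)⁻¹ * ((τ x : R') : Ω) ∈ centralizerIn S B) → τ ∈ Inn R' :=
    fun τ hτ h1 h2 => h.stab_mem_inn hcore heF hτ h1 h2
  have hCQ₀ : centralizerIn (TB S B) Q₀ ≤ Q₀ := by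
    rw [hQ₀eq]
    exact h.cen_inf_le hBR' hR'c hstab
  -- `y⁻¹ τ₀(y)` centralizes `Q₀`
  have hτ₀C : ∀ y : R', (y : Ω)⁻¹ * ((ψ.comp (Subgroup.inclusion hR'ext)).comp
      (((MulAut.congr e α)⁻¹ : MulAut R') : R' ≃* R').toMonoidHom) y ∈ Q₀ := by
    intro y
    apply hCQ₀
    rw [mem_centralizerIn_iff]
    refine ⟨(TB S B).mul_mem ((TB S B).inv_mem (hR'T y.2)) (hom_apply_mem h.FK hτ₀ y), fun x hx => ?_⟩
    have hw : (y : Ω) * x * (y : Ω)⁻¹ ∈ Q₀ := hconjQ₀ y y.2 x hx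
    have e1 := hτ₀Q ⟨(y : Ω) * x * (y : Ω)⁻¹, hw⟩
    have e2 := hτ₀Q ⟨x, hx⟩
    have e3 : (⟨(y : Ω) * x * (y : Ω)⁻¹, hQ₀R' hw⟩ : R') = y * ⟨x, hQ₀R' hx⟩ * y⁻¹ := Subtype.ext rfl
    rw [e3, map_mul, map_mul, map_inv, e2] at e1
    -- e1 : τ₀ y * x * (τ₀ y)⁻¹ = y * x * y⁻¹
    generalize ((ψ.comp (Subgroup.inclusion hR'ext)).comp
      (((MulAut.congr e α)⁻¹ : MulAut R') : R' ≃* R').toMonoidHom) y = t at e1 ⊢
    have e4 : t * x = (y : Ω) * x * (y : Ω)⁻¹ * t := by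
      have : t * x = t * x * t⁻¹ * t := by group
      rw [this]
      exact congrArg (· * t) e1
    calc x * ((y : Ω)⁻¹ * t) = (y : Ω)⁻¹ * ((y : Ω) * x * (y : Ω)⁻¹ * t) := by group
      _ = (y : Ω)⁻¹ * (t * x) := by rw [e4]
      _ = (y : Ω)⁻¹ * t * x := by group
  have hτ₀val : ∀ y : R', ((ψ.comp (Subgroup.inclusion hR'ext)).comp
      (((MulAut.congr e α)⁻¹ : MulAut R') : R' ≃* R').toMonoidHom) y ∈ R' := by
    intro y
    have := R'.mul_mem y.2 (hQ₀R' (hτ₀C y))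
    rwa [mul_inv_cancel_left] at this
  obtain ⟨τ, hτ, hτx⟩ := aut_of_hom_self h.FK hτ₀ hτ₀val
  have hτinn : τ ∈ Inn R' := by
    apply hstab τ hτ
    · intro x hx
      apply Subtype.ext
      rw [hτx]
      have hxQ : (x : Ω) ∈ Q₀ := by rw [hQ₀eq]; exact ⟨x.2, hx⟩
      exact hτ₀Q ⟨x, hxQ⟩
    · intro x
      rw [hτx]
      exact hQ₀C (hτ₀C x)
  have hτE : τ ∈ h.EK.autGroup R' := inn_le_autGroup h.EK hR'T hτinn
  -- `α' = τ⁻¹ ∘ ψ`
  have hψval : ∀ y : R', (ψ.comp (Subgroup.inclusion hR'ext)) y ∈ R' := by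
    intro y
    have h1 := hτ₀val ((MulAut.congr e α) y)
    have h2 : ((MulAut.congr e α)⁻¹ : MulAut R') ((MulAut.congr e α) y) = y := by
      rw [MulAut.inv_apply, MulEquiv.symm_apply_apply]
    have h3 : ((ψ.comp (Subgroup.inclusion hR'ext)).comp
      (((MulAut.congr e α)⁻¹ : MulAut R') : R' ≃* R').toMonoidHom) ((MulAut.congr e α) y) =
        (ψ.comp (Subgroup.inclusion hR'ext)) y := by
      show (ψ.comp (Subgroup.inclusion hR'ext)) (((MulAut.congr e α)⁻¹ : MulAut R') ((MulAut.congr e α) y)) = _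
      rw [h2]
    rw [h3] at h1
    exact h1
  have hτinvE : equivHom ((τ⁻¹ : MulAut R') : R' ≃* R') ∈ h.EK.Hom R' :=
    (mem_autGroup_iff_isFIso h.EK hR'T _).mp ((h.EK.autGroup R').inv_mem hτE)
  have hcomp := h.EK.comp_mem hψR' hτinvE hψval
  have hα'E : MulAut.congr e α ∈ h.EK.autGroup R' := by
    rw [mem_autGroup_iff_isFIso h.EK hR'T]
    have : equivHom ((MulAut.congr e α : MulAut R') : R' ≃* R') =
        (equivHom ((τ⁻¹ : MulAut R') : R' ≃* R')).comp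
          ((ψ.comp (Subgroup.inclusion hR'ext)).codRestrict R' hψval) := by
      ext y
      show (((MulAut.congr e α) y : R') : Ω) = (((τ⁻¹ : MulAut R') ⟨(ψ.comp (Subgroup.inclusion hR'ext)) y, hψval y⟩ : R') : Ω)
      congr 1
      rw [MulAut.inv_apply, MulEquiv.eq_symm_apply]
      apply Subtype.ext
      rw [hτx]
      show ψ (Subgroup.inclusion hR'ext (((MulAut.congr e α)⁻¹ : MulAut R') ((MulAut.congr e α) y))) = _
      rw [MulAut.inv_apply, MulEquiv.symm_apply_apply]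
      rfl
    unfold IsFIso
    rw [this]
    exact hcomp
  exact (congr_mem_autGroup_iff h.EK heE α).mp hα'E

end Ctx

end Cfsg.Agent.Lib.Helper26.Bgh
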