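import Cfsg.Agent.Lib.Helper26.FSAlperin
import Cfsg.Agent.Lib.Helper26.FSNormalCrit
import Cfsg.Agent.Lib.Helper8.PResidual

/-!
Subsystems cut out by a predicate; Alperin's theorem in predicate form; `Aut_F(P) = O^p(Aut_F(P)) Aut_S(P)`.
-/

set_option autoImplicit false

namespace Cfsg.Agent.Lib.Helper26

open Cfsg Cfsg.FusionSystem

variable {Ω : Type*} [Group Ω] {S : Subgroup Ω}

/-- A family of predicates on homomorphisms that is closed under the fusion system operations. -/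
structure HomPred (F : FusionSystem S) where
  C : ∀ P : Subgroup Ω, (P →* Ω) → Prop
  conj : ∀ {P : Subgroup Ω} {g : Ω}, P ≤ S → g ∈ S → C P (conjHom P g)
  comp : ∀ {P Q : Subgroup Ω} {φ : P →* Ω} {ψ : Q →* Ω}, φ ∈ F.Hom P → ψ ∈ F.Hom Q → C P φ → C Q ψ →
    ∀ h : ∀ x : P, φ x ∈ Q, C P (ψ.comp (φ.codRestrict Q h))
  inv : ∀ {P : Subgroup Ω} {φ : P →* Ω}, φ ∈ F.Hom P → C P φ → ∀ ψ ∈ F.Hom φ.range,
    (∀ x : P, ψ ⟨φ x, ⟨x, rfl⟩⟩ = (x : Ω)) → C φ.range ψ

/-- The subsystem of the maps satisfying the predicate. -/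
def HomPred.system {F : FusionSystem S} (C : HomPred F) : FusionSystem S where
  Hom P := {φ | φ ∈ F.Hom P ∧ C.C P φ}
  le_of_mem h := F.le_of_mem h.1
  injective_of_mem h := F.injective_of_mem h.1
  conj_mem hP hg := ⟨F.conj_mem hP hg, C.conj hP hg⟩
  comp_mem hφ hψ h := ⟨F.comp_mem hφ.1 hψ.1 h, C.comp hφ.1 hψ.1 hφ.2 hψ.2 h⟩
  inv_mem hφ := by
    obtain ⟨ψ, hψ, hψx⟩ := F.inv_mem hφ.1
    exact ⟨ψ, ⟨hψ, C.inv hφ.1 hφ.2 ψ hψ hψx⟩, hψx⟩

/-- **Alperin's theorem, predicate form.** -/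
theorem HomPred.forall_of_aut [Finite S] {p : ℕ} [Fact p.Prime] (hS : IsPGroup p S) {F : FusionSystem S}
    (hF : F.IsSaturated p) (C : HomPred F)
    (h : ∀ P : Subgroup Ω, (P = S ∨ F.IsEssential p P) → ∀ α ∈ F.autGroup P,
      C.C P (P.subtype.comp (α : P ≃* P).toMonoidHom))
    (P : Subgroup Ω) (φ : P →* Ω) (hφ : φ ∈ F.Hom P) : C.C P φ := by
  have := alperin hS F hF C.system ?_ P hφ
  · exact this.2
  · intro R hR α hα
    have hRS : R ≤ S := by
      rcases hR with rfl | hR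
      · exact le_rfl
      · exact hR.1.1
    rw [mem_autGroup_iff _ hRS]
    exact ⟨(mem_autGroup_iff F hRS α).mp hα, h R hR α hα⟩

section PResidual

variable {A : Type*} [Group A]

theorem map_pResidual_le_of_injective {B : Type*} [Group B] (p : ℕ) (f : A →* B) (hf : Function.Injective f) :
    (pResidual p A).map f ≤ pResidual p B := by
  unfold pResidual
  rw [MonoidHom.map_closure, Subgroup.closure_le]
  rintro _ ⟨g, hg, rfl⟩
  apply Subgroup.subset_closure
  show Nat.Coprime (orderOf (f g)) p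
  rw [orderOf_injective f hf]
  exact hg

/-- `G = O^p(G) T` for a Sylow `p`-subgroup `T`. -/
theorem pResidual_sup_sylow [Finite A] (p : ℕ) [Fact p.Prime] (T : Sylow p A) :
    pResidual p A ⊔ (T : Subgroup A) = ⊤ := by
  have hn : (pResidual p A).Normal := Cfsg.Agent.Lib.Helper8.pResidual_normal p A
  have hq : IsPGroup p (A ⧸ pResidual p A) :=
    Cfsg.Agent.Lib.Helper8.isPGroup_quotient_pResidual p (pResidual p A) le_rfl
  have hsurj : Function.Surjective (QuotientGroup.mk' (pResidual p A)) := QuotientGroup.mk'_surjective _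
  have h1 : ((T.mapSurjective hsurj : Sylow p (A ⧸ pResidual p A)) : Subgroup (A ⧸ pResidual p A)) = ⊤ := by
    have htop : IsPGroup p (⊤ : Subgroup (A ⧸ pResidual p A)) := hq.to_subgroup _
    obtain ⟨T', hT'⟩ := htop.exists_le_sylow
    have h2 : (T' : Subgroup (A ⧸ pResidual p A)) = ⊤ := top_le_iff.mp hT'
    obtain ⟨g, hg⟩ := MulAction.exists_smul_eq (A ⧸ pResidual p A) T' (T.mapSurjective hsurj)
    rw [← hg, Sylow.coe_subgroup_smul, h2]
    simp
  rw [Sylow.coe_mapSurjective] at h1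
  have h3 := congrArg (Subgroup.comap (QuotientGroup.mk' (pResidual p A))) h1
  rw [Subgroup.comap_map_eq, QuotientGroup.ker_mk', Subgroup.comap_top, sup_comm] at h3
  exact h3

/-- Every element is a product of an element of `O^p` and an element of a given Sylow `p`-subgroup. -/
theorem exists_mul_pResidual_sylow [Finite A] (p : ℕ) [Fact p.Prime] (T : Sylow p A) (a : A) :
    ∃ b ∈ pResidual p A, ∃ t ∈ (T : Subgroup A), a = b * t := by
  have hn : (pResidual p A).Normal := Cfsg.Agent.Lib.Helper8.pResidual_normal p A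
  have h : a ∈ ((pResidual p A ⊔ (T : Subgroup A) : Subgroup A) : Set A) := by
    rw [pResidual_sup_sylow p T]
    trivial
  rw [Subgroup.normal_mul] at h
  obtain ⟨b, hb, t, ht, rfl⟩ := h
  exact ⟨b, hb, t, ht, rfl⟩

end PResidual

/-- For fully normalized `P` in a saturated system, every element of `Aut_F(P)` is the product of an element of
`O^p(Aut_F(P))` and an automorphism induced by `N_S(P)`. -/
theorem exists_mul_pResidual_autS [Finite S] {p : ℕ} [Fact p.Prime] (hS : IsPGroup p S) (F : FusionSystem S)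
    (hF : F.IsSaturated p) {P : Subgroup Ω} (hP : F.IsFullyNormalized P) (α : F.autGroup P) :
    ∃ β ∈ pResidual p (F.autGroup P), ∃ s ∈ S, ∃ hs : s ∈ Subgroup.normalizer (P : Set Ω),
      (α : MulAut P) = (β : MulAut P) * P.normalizerMonoidHom ⟨s, hs⟩ := by
  have hfinP : Finite P := finite_of_le hP.1
  obtain ⟨-, T, hT⟩ := (saturated_fn hS F hF hP).2
  obtain ⟨β, hβ, t, ht, hα⟩ := exists_mul_pResidual_sylow p T α
  rw [hT, Subgroup.mem_subgroupOf] at ht
  obtain ⟨s, hsS, hsN, hts⟩ := (mem_autInducedBy_iff' _ _ _).mp ht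
  refine ⟨β, hβ, s, hsS, hsN, ?_⟩
  rw [← hts, hα]
  rfl

end Cfsg.Agent.Lib.Helper26
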