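import Cfsg.Agent.Lib.Helper26.BghE
import Cfsg.Agent.Lib.Helper26.EssChain
import Cfsg.Agent.Lib.Helper26.FSSubsystem
import Cfsg.Agent.Lib.Helper26.FSNormalCrit

/-!
BGH Theorem B, part F: `N_F^K(B) ≤ N_E^K(B)` by Alperin's theorem.
-/

set_option autoImplicit false
set_option linter.unusedSectionVars false
set_option linter.style.haveILetI false

namespace Cfsg.Agent.Lib.Helper26.Bgh

open Cfsg Cfsg.FusionSystem Cfsg.Agent.Lib.Helper26 Cfsg.Agent.Lib.Helper27

universe u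

variable {Ω : Type u} [Group Ω] {S : Subgroup Ω}

/-- powers of an automorphism of `R ≥ B` acting on `B` as `k`. -/
theorem pow_restrict {B R : Subgroup Ω} (hBR : B ≤ R) (α : MulAut R) (k : MulAut B)
    (hk : ∀ b : B, ((α (Subgroup.inclusion hBR b) : R) : Ω) = k b) (n : ℕ) (b : B) :
    (((α ^ n) (Subgroup.inclusion hBR b) : R) : Ω) = (k ^ n) b := by
  induction n generalizing b with
  | zero => rfl
  | succ m ih =>
    rw [pow_succ', pow_succ', MulAut.mul_apply, MulAut.mul_apply]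
    have h1 : (α ^ m) (Subgroup.inclusion hBR b) = Subgroup.inclusion hBR ((k ^ m) b) := Subtype.ext (ih b)
    rw [h1, hk]

/-- a `p'`-automorphism acting on `B` as an element of a `p`-group acts trivially. -/
theorem fix_of_coprime {p : ℕ} [Fact p.Prime] {B R : Subgroup Ω} (hBR : B ≤ R) (α : MulAut R) {K : Subgroup (MulAut B)}
    (hK : IsPGroup p K) {k : MulAut B} (hkK : k ∈ K)
    (hk : ∀ b : B, ((α (Subgroup.inclusion hBR b) : R) : Ω) = k b) {n : ℕ} (hn : α ^ n = 1) (hnp : Nat.Coprime n p) :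
    ∀ b : B, ((α (Subgroup.inclusion hBR b) : R) : Ω) = b := by
  have h1 : k ^ n = 1 := by
    ext b
    rw [← pow_restrict hBR α k hk n b, hn]
    rfl
  obtain ⟨j, hj⟩ := hK ⟨k, hkK⟩
  have hj' : k ^ (p ^ j) = 1 := congrArg Subtype.val hj
  have hcop : Nat.Coprime n (p ^ j) := Nat.Coprime.pow_right j hnp
  have h2 : k ^ (Nat.gcd n (p ^ j)) = 1 := by
    rw [← orderOf_dvd_iff_pow_eq_one]
    exact Nat.dvd_gcd (orderOf_dvd_iff_pow_eq_one.mpr h1) (orderOf_dvd_iff_pow_eq_one.mpr hj')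
  rw [hcop, pow_one] at h2
  intro b
  rw [hk, h2]
  rfl

namespace Ctx

variable {p : ℕ} {F E : FusionSystem S} {B : Subgroup Ω} [Finite S] [Fact p.Prime]

theorem coreInn_of_essential (h : Ctx p S F E B) {R : Subgroup Ω} (hR : h.FK.IsEssential p R) :
    CoreInn p R (h.FK.autGroup R) := by
  haveI := h.T_fin
  exact (essData_of_essential h.T_pg h.FK hR).core

theorem coreInn_top (h : Ctx p S F E B) : CoreInn p (TB S B) (h.FK.autGroup (TB S B)) := by
  haveI := h.T_fin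
  intro N hN hNp x hx
  obtain ⟨-, T₀, hT₀⟩ := (saturated_fn h.T_pg h.FK h.FK_sat (top_fullyNormalized h.FK)).2
  haveI := hN
  have h1 : N ≤ T₀ := hNp.le_sylow_of_normal T₀
  have h2 : x ∈ (T₀ : Subgroup (h.FK.autGroup (TB S B))) := h1 hx
  rw [hT₀, Subgroup.mem_subgroupOf] at h2
  obtain ⟨s, hs, hsN, hxs⟩ := (mem_autInducedBy_iff' _ _ _).mp h2
  refine ⟨⟨s, hs⟩, ?_⟩
  rw [hxs]
  ext y
  rfl

/-- The key inclusion of automizers. -/
theorem aut_le (h : Ctx p S F E B) {R : Subgroup Ω} (hBR : B ≤ R) (hRc : h.FK.IsCentric R)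
    (hfn : h.FK.IsFullyNormalized R) (hcore : CoreInn p R (h.FK.autGroup R)) :
    h.FK.autGroup R ≤ h.EK.autGroup R := by
  haveI := h.T_fin
  have hRT : R ≤ TB S B := hRc.1
  haveI : Finite R := finite_of_le hRT
  have hK : IsPGroup p (autInducedBy S B) := autInducedBy_isPGroup h.hS B
  have hres : pResidual p (h.FK.autGroup R) ≤ (h.EK.autGroup R).subgroupOf (h.FK.autGroup R) := by
    unfold pResidual
    rw [Subgroup.closure_le]
    intro g hg
    have hg' : Nat.Coprime (orderOf g) p := hg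
    show (g : MulAut R) ∈ h.EK.autGroup R
    obtain ⟨k, hkK, hk⟩ := aut_restrict_mem F h.hBS hBR g.2 hRT
    have hn : (g : MulAut R) ^ (orderOf g) = 1 := by
      have := pow_orderOf_eq_one g
      exact congrArg Subtype.val this
    exact h.aut_mem_of_fix hBR hRc hcore g.2 (fix_of_coprime hBR (g : MulAut R) hK hkK hk hn hg')
  intro α hα
  obtain ⟨β, hβ, s, hs, hsN, hαβ⟩ := exists_mul_pResidual_autS h.T_pg h.FK h.FK_sat hfn ⟨α, hα⟩
  have h1 : (β : MulAut R) ∈ h.EK.autGroup R := hres hβ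
  have h2 : R.normalizerMonoidHom ⟨s, hsN⟩ ∈ h.EK.autGroup R :=
    autInducedBy_le_autGroup h.EK hRT (normalizerMonoidHom_mem_autInducedBy hs hsN)
  have h3 : α = (β : MulAut R) * R.normalizerMonoidHom ⟨s, hsN⟩ := hαβ
  rw [h3]
  exact (h.EK.autGroup R).mul_mem h1 h2

/-- **(a2)** `N_F^K(B) ≤ N_E^K(B)`. -/
theorem FK_le_EK (h : Ctx p S F E B) : ∀ P : Subgroup Ω, h.FK.Hom P ⊆ h.EK.Hom P := by
  haveI := h.T_fin
  apply alperin h.T_pg h.FK h.FK_sat h.EK
  rintro R (rfl | hR)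
  · exact h.aut_le h.B_le_T (isCentric_self h.FK) (top_fullyNormalized h.FK) h.coreInn_top
  · have hBR : B ≤ R :=
      le_of_isNormal_of_centric_radical h.T_pg h.FK h.FK_isNormal hR.1 (radical_of_essential h.T_pg h.FK R hR)
    exact h.aut_le hBR hR.1 hR.2.1 (h.coreInn_of_essential hR)

end Ctx

end Cfsg.Agent.Lib.Helper26.Bgh
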