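import Cfsg.Agent.Lib.Helper26.BghF
import Cfsg.Agent.Lib.Helper26.FSHyperfocal

/-!
BGH Theorem B, part G: the inductive hypotheses `Hyp`, inheritance by centralizer systems, and the context `Ctx`
obtained from the induction hypothesis.
-/

set_option autoImplicit false
set_option linter.unusedSectionVars false
set_option linter.style.haveILetI false

namespace Cfsg.Agent.Lib.Helper26.Bgh

open Cfsg Cfsg.FusionSystem Cfsg.Agent.Lib.Helper26 Cfsg.Agent.Lib.Helper27

universe u

variable {Ω : Type u} [Group Ω] {S : Subgroup Ω}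

/-- the hyperfocal subgroup of a subsystem (over a smaller group) is contained in that of the system. -/
theorem hyp_le_of_sub {T : Subgroup Ω} (E : FusionSystem T) (F : FusionSystem S) (hTS : T ≤ S)
    (hEF : ∀ P : Subgroup Ω, E.Hom P ⊆ F.Hom P) (p : ℕ) :
    E.hyperfocalSubgroup p ≤ F.hyperfocalSubgroup p := by
  unfold hyperfocalSubgroup
  rw [Subgroup.closure_le]
  rintro _ ⟨P, α, x, hP, hα, rfl⟩
  have hle : E.autGroup P ≤ F.autGroup P := by
    intro β hβ
    rw [mem_autGroup_iff F (hP.trans hTS)]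
    exact hEF P ((mem_autGroup_iff E hP β).mp hβ)
  have h1 := map_pResidual_le_of_injective p (Subgroup.inclusion hle) (Subgroup.inclusion_injective hle)
  have h2 : Subgroup.inclusion hle α ∈ pResidual p (F.autGroup P) := h1 ⟨α, hα, rfl⟩
  exact mem_hyperfocal_of F p (hP.trans hTS) (Subgroup.inclusion hle α) h2 x

/-- The standing hypotheses of the general theorem. -/
structure Hyp (p : ℕ) (S : Subgroup Ω) (F E : FusionSystem S) (H : Subgroup Ω) : Prop where
  hS : IsPGroup p S
  hF : F.IsSaturated p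
  hE : E.IsSaturated p
  hEF : ∀ P : Subgroup Ω, E.Hom P ⊆ F.Hom P
  hH : F.StronglyClosed H
  hhyp : F.hyperfocalSubgroup p ≤ H
  hsm : ∀ A : Subgroup Ω, A ≤ H → SmallAb p A → F.Hom A ⊆ E.Hom A

/-- The induction hypothesis: the theorem for all smaller `p`-groups. -/
def IH (p : ℕ) (Ω : Type u) [Group Ω] (n : ℕ) : Prop :=
  ∀ S' : Subgroup Ω, Finite S' → Nat.card S' < n → ∀ (F' E' : FusionSystem S') (H' : Subgroup Ω),
    Hyp p S' F' E' H' → ∀ P : Subgroup Ω, F'.Hom P ⊆ E'.Hom P

namespace Hyp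

variable {p : ℕ} {F E : FusionSystem S} {H : Subgroup Ω} [Finite S] [Fact p.Prime]

theorem H_le (h : Hyp p S F E H) : H ≤ S := h.hH.1

/-- Centralizer systems inherit the hypotheses. -/
theorem cen (h : Hyp p S F E H) {B : Subgroup Ω} (hBH : B ≤ H) (hBsm : SmallAb p B)
    (hBF : F.IsFullyCentralized B) (hBE : E.IsFullyCentralized B) :
    Hyp p (centralizerIn S B) (centralizerSystem F B hBF.1) (centralizerSystem E B hBF.1)
      (H ⊓ centralizerIn S B) where
  hS := h.hS.to_le (centralizerIn_le S B)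
  hF := centralizerSystem_saturated h.hS F h.hF hBF _ (centralizerSystem_isCentralizerSystem F B hBF.1)
  hE := centralizerSystem_saturated h.hS E h.hE hBE _ (centralizerSystem_isCentralizerSystem E B hBF.1)
  hEF := by
    rintro P φ ⟨h1, h2, h3, ψ, hψ, rest⟩
    exact ⟨h.hEF _ h1, h2, h3, ψ, h.hEF _ hψ, rest⟩
  hH := by
    refine ⟨inf_le_right, fun R hR φ hφ x => ⟨h.hH.2 R (hR.trans inf_le_left) φ hφ.1 x, hφ.2.2.1 x⟩⟩
  hhyp := by
    apply le_inf
    · refine le_trans ?_ h.hhyp
      exact hyp_le_of_sub (centralizerSystem F B hBF.1) F (centralizerIn_le S B)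
        (fun P φ (hφ : φ ∈ F.centralizerHom B P) => hφ.1) p
    · exact hyperfocal_le _ p
  hsm := by
    rintro A hA hAsm φ ⟨h1, h2, h3, ψ, hψ, hψφ, hψB⟩
    have hsup : SmallAb p (A ⊔ B) :=
      hAsm.sup hBsm (fun a ha b hb => ((mem_centralizerIn_iff.mp (h2 ha)).2 b hb).symm)
    have hle : A ⊔ B ≤ H := sup_le (hA.trans inf_le_left) hBH
    have hψE : ψ ∈ E.Hom (A ⊔ B) := h.hsm _ hle hsup hψ
    have hφE : φ ∈ E.Hom A := by
      have h4 := inclusion_comp_mem E (le_sup_left : A ≤ A ⊔ B) hψE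
      have h5 : ψ.comp (Subgroup.inclusion (le_sup_left : A ≤ A ⊔ B)) = φ := MonoidHom.ext hψφ
      rw [h5] at h4
      exact h4
    exact ⟨hφE, h2, h3, ψ, hψE, hψφ, hψB⟩

/-- The context for a non-central fully centralized small abelian `B ≤ H`, from the induction hypothesis. -/
theorem ctx (h : Hyp p S F E H) (ih : IH p Ω (Nat.card S)) {B : Subgroup Ω} (hBH : B ≤ H) (hBsm : SmallAb p B)
    (hBF : F.IsFullyCentralized B) (hBE : E.IsFullyCentralized B)
    (hnc : ∃ b ∈ B, ∃ s ∈ S, s * b ≠ b * s) : Ctx p S F E B where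
  hS := h.hS
  hF := h.hF
  hE := h.hE
  hEF := h.hEF
  hBS := hBF.1
  hBab := hBsm.1
  hBF := hBF
  hBE := hBE
  hC := by
    have hlt : Nat.card (centralizerIn S B) < Nat.card S := by
      by_contra hlt
      push Not at hlt
      have h1 : centralizerIn S B = S := Subgroup.eq_of_le_of_card_ge (centralizerIn_le S B) hlt
      obtain ⟨b, hb, s, hs, hsb⟩ := hnc
      have h2 : s ∈ centralizerIn S B := by rw [h1]; exact hs
      exact hsb ((mem_centralizerIn_iff.mp h2).2 b hb).symm
    exact ih (centralizerIn S B) (finite_of_le (centralizerIn_le S B)) hlt _ _ _ (h.cen hBH hBsm hBF hBE)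

end Hyp

end Cfsg.Agent.Lib.Helper26.Bgh
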