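import Cfsg.Agent.Lib.Helper26.BghG

/-!
BGH Theorem B, part H: lemma (b) — a map of `F` defined on `R` lies in `E` as soon as `R` has a normal small abelian
subgroup `B ≤ H` which is not central in `S` (under the fixed-point hypothesis `Fix` and the induction hypothesis).
-/

set_option autoImplicit false
set_option linter.unusedSectionVars false
set_option linter.style.haveILetI false

namespace Cfsg.Agent.Lib.Helper26.Bgh

open Cfsg Cfsg.FusionSystem Cfsg.Agent.Lib.Helper26 Cfsg.Agent.Lib.Helper27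

universe u

variable {Ω : Type u} [Group Ω] {S : Subgroup Ω}

/-- every map of `F` fixes the small central elements of `S` lying in `H`. -/
def Fix (p : ℕ) (S : Subgroup Ω) (F : FusionSystem S) (H : Subgroup Ω) : Prop :=
  ∀ (P : Subgroup Ω) (φ : P →* Ω), φ ∈ F.Hom P → ∀ x : P, (∀ s ∈ S, s * (x : Ω) = x * s) → (x : Ω) ∈ H →
    Sm p (x : Ω) → φ x = x

theorem normalizerIn_le_NK_autInducedBy (S B : Subgroup Ω) : normalizerIn S B ≤ NK S B (autInducedBy S B) :=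
  fun _ hx => mem_NK_of_normalizerMonoidHom_mem hx.1 hx.2 (normalizerMonoidHom_mem_autInducedBy hx.1 hx.2)

namespace Hyp

variable {p : ℕ} {F E : FusionSystem S} {H : Subgroup Ω} [Finite S] [Fact p.Prime]

/-- **Lemma (b).** -/
theorem lemma_b (h : Hyp p S F E H) (ih : IH p Ω (Nat.card S)) (hfix : Fix p S F H)
    {R B : Subgroup Ω} {γ : R →* Ω} (hγ : γ ∈ F.Hom R) (hBR : B ≤ R)
    (hBn : ∀ g ∈ R, ∀ b ∈ B, g * b * g⁻¹ ∈ B) (hBsm : SmallAb p B) (hBH : B ≤ H)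
    (hnc : ∃ b ∈ B, ∃ s ∈ S, s * b ≠ b * s) : γ ∈ E.Hom R := by
  have hRS : R ≤ S := hom_le F hγ
  haveI : Finite R := finite_of_le hRS
  have hBS : B ≤ S := hBR.trans hRS
  haveI : Finite B := finite_of_le hBS
  -- `γ|_B`
  have hγB : γ.comp (Subgroup.inclusion hBR) ∈ F.Hom B := inclusion_comp_mem F hBR hγ
  have hγBE : γ.comp (Subgroup.inclusion hBR) ∈ E.Hom B := h.hsm B hBH hBsm hγB
  obtain ⟨B', hB'⟩ : ∃ B' : Subgroup Ω, (γ.comp (Subgroup.inclusion hBR)).range = B' := ⟨_, rfl⟩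
  have hB'S : B' ≤ S := by
    rw [← hB']
    rintro _ ⟨x, rfl⟩
    exact hom_apply_mem F hγB x
  haveI : Finite B' := finite_of_le hB'S
  obtain ⟨B₁, -, -, hB₁R, ⟨D⟩⟩ := exists_normHom_of_saturated h.hS E h.hE hB'S
  have hval : ∀ x : B, (γ.comp (Subgroup.inclusion hBR)) x ∈ B' := fun x => by
    rw [← hB']
    exact ⟨x, rfl⟩
  -- `ζ = (η γ)|_B`
  obtain ⟨ζ, hζdef⟩ : ∃ ζ : B →* Ω, ζ = D.φP.comp ((γ.comp (Subgroup.inclusion hBR)).codRestrict B' hval) :=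
    ⟨_, rfl⟩
  have hζE : ζ ∈ E.Hom B := by
    rw [hζdef]
    exact E.comp_mem hγBE D.φP_mem hval
  have hζF : ζ ∈ F.Hom B := h.hEF _ hζE
  have hζapp : ∀ x : B, ζ x = D.φP ⟨γ (Subgroup.inclusion hBR x), hval x⟩ := fun x => by
    rw [hζdef]
    rfl
  have hζr : ζ.range = B₁ := by
    ext z
    constructor
    · rintro ⟨x, rfl⟩
      rw [hζapp]
      have : D.φP ⟨γ (Subgroup.inclusion hBR x), hval x⟩ ∈ D.φP.range := ⟨_, rfl⟩
      rwa [D.φP_range] at this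
    · intro hz
      have hz' : z ∈ D.φP.range := by
        rw [D.φP_range]
        exact hz
      obtain ⟨y, rfl⟩ := hz'
      obtain ⟨x, hx⟩ : ∃ x : B, (γ.comp (Subgroup.inclusion hBR)) x = y := by
        have h' : (y : Ω) ∈ (γ.comp (Subgroup.inclusion hBR)).range := by
          rw [hB']
          exact y.2
        exact h'
      refine ⟨x, ?_⟩
      rw [hζapp]
      congr 1
      exact Subtype.ext hx
  have hB₁S : B₁ ≤ S := hB₁R.1
  have hB₁sm : SmallAb p B₁ := by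
    have := hBsm.range ζ
    rwa [hζr] at this
  have hB₁H : B₁ ≤ H := by
    intro z hz
    rw [← hζr] at hz
    obtain ⟨x, rfl⟩ := hz
    exact h.hH.2 B hBH ζ hζF x
  have hB₁E : E.IsFullyCentralized B₁ := receptive_fullyCentralized E B₁ hB₁R
  have hB₁F : F.IsFullyCentralized B₁ := by
    refine ⟨hB₁S, ?_⟩
    rintro Q ⟨φ, hφ, hr⟩
    exact hB₁E.2 Q ⟨φ, h.hsm B₁ hB₁H hB₁sm hφ, hr⟩
  have hnc₁ : ∃ b ∈ B₁, ∃ s ∈ S, s * b ≠ b * s := by
    by_contra hcon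
    push Not at hcon
    obtain ⟨b, hb, s, hs, hsb⟩ := hnc
    obtain ⟨χ, hχ, hχζ⟩ := F.inv_mem hζF
    have hy : ζ ⟨b, hb⟩ ∈ B₁ := by
      rw [← hζr]
      exact ⟨_, rfl⟩
    have h1 := hfix ζ.range χ hχ ⟨ζ ⟨b, hb⟩, ⟨_, rfl⟩⟩ (hcon _ hy) (hB₁H hy) (hB₁sm.2 _ hy)
    have h2 := hχζ ⟨b, hb⟩
    rw [h2] at h1
    have h3 : b = ζ ⟨b, hb⟩ := h1
    rw [← h3] at hy
    exact hsb (hcon b hy s hs)
  have hctx : Ctx p S F E B₁ := h.ctx ih hB₁H hB₁sm hB₁F hB₁E hnc₁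
  -- extension of `ζ`
  obtain ⟨ε, hε, hεζ⟩ := hB₁R.2 B ζ hζE hζr
  have hγN : ∀ g : R, γ g ∈ normalizerIn S B' := by
    intro g
    refine ⟨hom_apply_mem F hγ g, mem_normalizer_of_conj_mem_finite (fun y hy => ?_)⟩
    rw [← hB'] at hy ⊢
    obtain ⟨x, rfl⟩ := hy
    refine ⟨⟨(g : Ω) * x * (g : Ω)⁻¹, hBn g g.2 x x.2⟩, ?_⟩
    show γ (Subgroup.inclusion hBR ⟨(g : Ω) * x * (g : Ω)⁻¹, hBn g g.2 x x.2⟩) =
      γ g * γ (Subgroup.inclusion hBR x) * (γ g)⁻¹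
    rw [← map_inv, ← map_mul, ← map_mul]
    congr 1
  obtain ⟨θ, hθdef⟩ : ∃ θ : R →* Ω, θ = D.φ.comp (γ.codRestrict (normalizerIn S B') hγN) := ⟨_, rfl⟩
  have hθF : θ ∈ F.Hom R := by
    rw [hθdef]
    exact F.comp_mem hγ (h.hEF _ D.mem) hγN
  have hθapp : ∀ x : R, θ x = D.φ ⟨γ x, hγN x⟩ := fun x => by
    rw [hθdef]
    rfl
  have hθB : ∀ x : B, θ (Subgroup.inclusion hBR x) = ζ x := by
    intro x
    rw [hθapp, hζapp]
    rfl
  have hRext : R ≤ extender S B ζ := by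
    intro g hg
    rw [mem_extender_iff]
    refine ⟨hRS hg, mem_normalizer_of_conj_mem_finite (hBn g hg), θ ⟨g, hg⟩, hom_apply_mem F hθF _,
      fun x hx => ?_⟩
    rw [← hθB, ← hθB, ← map_inv, ← map_mul, ← map_mul]
    congr 1
  have hεR : ε.comp (Subgroup.inclusion hRext) ∈ E.Hom R := inclusion_comp_mem E hRext hε
  have hεB : ∀ x : B, (ε.comp (Subgroup.inclusion hRext)) (Subgroup.inclusion hBR x) = ζ x := by
    intro x
    exact hεζ x x.2 (hRext (hBR x.2))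
  obtain ⟨R₁, hR₁⟩ : ∃ R₁ : Subgroup Ω, (ε.comp (Subgroup.inclusion hRext)).range = R₁ := ⟨_, rfl⟩
  let e : R ≃* R₁ := homEquiv E hεR hR₁
  have heE : IsFIso E e := homEquiv_isFIso E hεR hR₁
  have heF : IsFIso F e := h.hEF _ heE
  have he_apply : ∀ x : R, ((e x : R₁) : Ω) = (ε.comp (Subgroup.inclusion hRext)) x := fun x => rfl
  have hR₁S : R₁ ≤ S := heE.le_right
  haveI : Finite R₁ := finite_of_le hR₁S
  haveI : Finite B₁ := finite_of_le hB₁S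
  have heB : ∀ x : B, ((e (Subgroup.inclusion hBR x) : R₁) : Ω) = ζ x := fun x => by
    rw [he_apply, hεB]
  have hB₁R₁ : B₁ ≤ R₁ := by
    intro z hz
    rw [← hζr] at hz
    obtain ⟨x, rfl⟩ := hz
    rw [← heB]
    exact (e _).2
  -- `ψ = θ ∘ e⁻¹`
  have hψF : θ.comp e.symm.toMonoidHom ∈ F.Hom R₁ := comp_equiv_mem F heF.symm hθF
  have hψfix : ∀ (z : Ω) (hz : z ∈ B₁), (θ.comp e.symm.toMonoidHom) ⟨z, hB₁R₁ hz⟩ = z := by
    intro z hz
    have hz' := hz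
    rw [← hζr] at hz'
    obtain ⟨x, rfl⟩ := hz'
    have h1 : e.symm ⟨ζ x, hB₁R₁ hz⟩ = Subgroup.inclusion hBR x := by
      rw [MulEquiv.symm_apply_eq]
      apply Subtype.ext
      rw [heB]
    show θ (e.symm ⟨ζ x, hB₁R₁ hz⟩) = ζ x
    rw [h1, hθB]
  have hR₁N : R₁ ≤ normalizerIn S B₁ := by
    intro y hy
    refine ⟨hR₁S hy, mem_normalizer_of_conj_mem_finite (fun z hz => ?_)⟩
    rw [← hR₁] at hy
    obtain ⟨g, rfl⟩ := hy
    rw [← hζr] at hz ⊢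
    obtain ⟨x, rfl⟩ := hz
    refine ⟨⟨(g : Ω) * x * (g : Ω)⁻¹, hBn g g.2 x x.2⟩, ?_⟩
    rw [← hεB, ← hεB, ← map_inv, ← map_mul, ← map_mul]
    congr 1
  have hψN : ∀ y : R₁, (θ.comp e.symm.toMonoidHom) y ∈ normalizerIn S B₁ := by
    intro y
    show θ (e.symm y) ∈ normalizerIn S B₁
    rw [hθapp]
    exact D.val _
  have hsup : R₁ ⊔ B₁ ≤ R₁ := sup_le le_rfl hB₁R₁
  have hψFK : θ.comp e.symm.toMonoidHom ∈ hctx.FK.Hom R₁ := by
    rw [hctx.mem_FK_iff]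
    refine ⟨hψF, hR₁N.trans (normalizerIn_le_NK_autInducedBy S B₁),
      fun y => normalizerIn_le_NK_autInducedBy S B₁ (hψN y),
      (θ.comp e.symm.toMonoidHom).comp (Subgroup.inclusion hsup), inclusion_comp_mem F hsup hψF,
      fun x => rfl, 1, Subgroup.one_mem _, fun q => ?_⟩
    exact hψfix q q.2
  have hψE : θ.comp e.symm.toMonoidHom ∈ E.Hom R₁ := hctx.EK_le _ (hctx.FK_le_EK R₁ hψFK)
  -- `θ = ψ ∘ ε_R`
  have hεval : ∀ x : R, (ε.comp (Subgroup.inclusion hRext)) x ∈ R₁ := fun x => by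
    rw [← hR₁]
    exact ⟨x, rfl⟩
  have hθE : θ ∈ E.Hom R := by
    have h1 := E.comp_mem hεR hψE hεval
    have h2 : (θ.comp e.symm.toMonoidHom).comp ((ε.comp (Subgroup.inclusion hRext)).codRestrict R₁ hεval) = θ := by
      ext x
      show θ (e.symm ⟨(ε.comp (Subgroup.inclusion hRext)) x, hεval x⟩) = θ x
      congr 1
      rw [MulEquiv.symm_apply_eq]
      exact Subtype.ext rfl
    rw [h2] at h1
    exact h1
  -- `γ = η⁻¹ ∘ θ`
  obtain ⟨η', hη', hη'η⟩ := E.inv_mem D.mem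
  have hθval : ∀ x : R, θ x ∈ D.φ.range := fun x => by
    rw [hθapp]
    exact ⟨_, rfl⟩
  have h3 := E.comp_mem hθE hη' hθval
  have h4 : η'.comp (θ.codRestrict D.φ.range hθval) = γ := by
    ext x
    show η' ⟨θ x, hθval x⟩ = γ x
    have h5 : η' ⟨D.φ ⟨γ x, hγN x⟩, ⟨_, rfl⟩⟩ = γ x := hη'η ⟨γ x, hγN x⟩
    refine Eq.trans ?_ h5
    congr 1
    exact Subtype.ext (hθapp x)
  rw [h4] at h3
  exact h3

end Hyp

end Cfsg.Agent.Lib.Helper26.Bgh
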