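import Cfsg.Agent.Lib.Helper26.BghH
import Cfsg.Agent.Lib.Helper1.CritExtra

/-!
BGH Theorem B, part I: stage 1 — under the fixed-point hypothesis `Fix` and the induction hypothesis, `F ≤ E`.
-/

set_option autoImplicit false
set_option linter.unusedSectionVars false
set_option linter.style.haveILetI false

namespace Cfsg.Agent.Lib.Helper26.Bgh

open Cfsg Cfsg.FusionSystem Cfsg.Agent.Lib.Helper26 Cfsg.Agent.Lib.Helper27

universe u

variable {Ω : Type u} [Group Ω] {S : Subgroup Ω}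

/-- a maximal abelian subgroup of `D`. -/
theorem exists_max_abelian {P : Type*} [Group P] [Finite P] (D : Subgroup P) :
    ∃ A : Subgroup P, A ≤ D ∧ IsMulCommutative A ∧
      ∀ B : Subgroup P, A ≤ B → B ≤ D → IsMulCommutative B → B = A := by
  classical
  have hbot : IsMulCommutative (⊥ : Subgroup P) := by
    refine ⟨⟨fun a b => ?_⟩⟩
    have ha : a = 1 := Subtype.ext (Subgroup.mem_bot.mp a.2)
    have hb : b = 1 := Subtype.ext (Subgroup.mem_bot.mp b.2)
    rw [ha, hb]
  have hm := Nat.findGreatest_spec (P := fun k => ∃ A : Subgroup P, (A ≤ D ∧ IsMulCommutative A) ∧ Nat.card A = k)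
    (m := Nat.card (⊥ : Subgroup P)) (n := Nat.card P) (Subgroup.card_le_card_group _) ⟨⊥, ⟨bot_le, hbot⟩, rfl⟩
  obtain ⟨A, hA, hAm⟩ := hm
  refine ⟨A, hA.1, hA.2, fun B hAB hBD hBab => ?_⟩
  have h1 : Nat.card B ≤ Nat.findGreatest
      (fun k => ∃ A : Subgroup P, (A ≤ D ∧ IsMulCommutative A) ∧ Nat.card A = k) (Nat.card P) :=
    Nat.le_findGreatest (Subgroup.card_le_card_group B) ⟨B, ⟨hBD, hBab⟩, rfl⟩
  exact (Subgroup.eq_of_le_of_card_ge hAB (by rw [hAm]; exact h1)).symm

/-- normal `p`-subgroups of `Aut_F(S)` are inner. -/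
theorem coreInn_self [Finite S] {p : ℕ} [Fact p.Prime] (hS : IsPGroup p S) (F : FusionSystem S)
    (hF : F.IsSaturated p) : CoreInn p S (F.autGroup S) := by
  intro N hN hNp x hx
  obtain ⟨-, T₀, hT₀⟩ := (saturated_fn hS F hF (top_fullyNormalized F)).2
  haveI := hN
  have h1 : N ≤ T₀ := hNp.le_sylow_of_normal T₀
  have h2 : x ∈ (T₀ : Subgroup (F.autGroup S)) := h1 hx
  rw [hT₀, Subgroup.mem_subgroupOf] at h2
  obtain ⟨s, hs, hsN, hxs⟩ := (mem_autInducedBy_iff' _ _ _).mp h2
  refine ⟨⟨s, hs⟩, ?_⟩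
  rw [hxs]
  ext y
  rfl

namespace Hyp

variable {p : ℕ} {F E : FusionSystem S} {H : Subgroup Ω} [Finite S] [Fact p.Prime]

/-- **Stage 1.** -/
theorem stage1 (h : Hyp p S F E H) (ih : IH p Ω (Nat.card S)) (hfix : Fix p S F H) :
    ∀ P : Subgroup Ω, F.Hom P ⊆ E.Hom P := by
  apply alperin h.hS F h.hF E
  intro P hP
  have hPc : F.IsCentric P := by
    rcases hP with rfl | hP
    · exact isCentric_self F
    · exact hP.1
  have hPS : P ≤ S := hPc.1
  haveI : Finite P := finite_of_le hPS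
  have hPp : IsPGroup p P := h.hS.to_le hPS
  have hcore : CoreInn p P (F.autGroup P) := by
    rcases hP with rfl | hP
    · exact coreInn_self h.hS F h.hF
    · exact (essData_of_essential h.hS F hP).core
  obtain ⟨D, -, hDle, hDsm, -, -, hDA⟩ :=
    Cfsg.Agent.Lib.Helper1.CritExtra.exists_refined_critical hPp (F.autGroup P) (inn_le_autGroup F hPS)
  obtain ⟨A, hAD, hAab, hAmax⟩ := exists_max_abelian D
  obtain ⟨hAn, hAp⟩ := hDA A hAD hAab hAmax
  -- the image of `A` in `Ω`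
  have hA'P : A.map P.subtype ≤ P := Subgroup.map_subtype_le A
  have hA'sm : SmallAb p (A.map P.subtype) := by
    refine ⟨?_, ?_⟩
    · rintro _ ⟨a, ha, rfl⟩ _ ⟨b, hb, rfl⟩
      have h1 := hAab.is_comm.comm ⟨a, ha⟩ ⟨b, hb⟩
      have h2 : a * b = b * a := congrArg Subtype.val h1
      exact congrArg Subtype.val h2
    · rintro _ ⟨a, ha, rfl⟩
      rcases hDsm a (hAD ha) with h1 | ⟨h1, h2⟩
      · left
        have := congrArg Subtype.val h1
        simpa using this
      · right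
        refine ⟨h1, ?_⟩
        have := congrArg Subtype.val h2
        simpa using this
  have hA'H : A.map P.subtype ≤ H := by
    refine le_trans ?_ h.hhyp
    refine le_trans (Subgroup.map_mono (hAD.trans hDle)) ?_
    rw [MonoidHom.map_closure, Subgroup.closure_le]
    rintro _ ⟨y, ⟨α, hα, x, rfl⟩, rfl⟩
    exact mem_hyperfocal_of F p hPS α hα x
  have hA'n : ∀ g ∈ P, ∀ b ∈ A.map P.subtype, g * b * g⁻¹ ∈ A.map P.subtype := by
    rintro g hg _ ⟨a, ha, rfl⟩
    exact ⟨_, hAn.conj_mem a ha ⟨g, hg⟩, rfl⟩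
  by_cases hcen : ∀ b ∈ A.map P.subtype, ∀ s ∈ S, s * b = b * s
  · -- `Aut_F(P)` is a `p`-group
    have hfixA : ∀ α ∈ F.autGroup P, ∀ a ∈ A, α a = a := by
      intro α hα a ha
      have hmem : (a : Ω) ∈ A.map P.subtype := ⟨a, ha, rfl⟩
      have := hfix P (P.subtype.comp α.toMonoidHom) ((mem_autGroup_iff F hPS α).mp hα) a
        (hcen _ hmem) (hA'H hmem) (hA'sm.2 _ hmem)
      exact Subtype.ext this
    have hpg : IsPGroup p (F.autGroup P) := by
      intro g
      obtain ⟨k, hk⟩ := hAp (g : MulAut P) g.2 (hfixA _ g.2)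
      refine ⟨k, ?_⟩
      apply Subtype.ext
      show (g : MulAut P) ^ (p ^ k) = 1
      rw [← hk]
      exact pow_orderOf_eq_one _
    intro α hα
    have := hcore ⊤ inferInstance (hpg.to_subgroup ⊤) ⟨α, hα⟩ (Subgroup.mem_top _)
    exact inn_le_autGroup E hPS this
  · push Not at hcen
    intro α hα
    rw [mem_autGroup_iff E hPS]
    exact h.lemma_b ih hfix ((mem_autGroup_iff F hPS α).mp hα) hA'P hA'n hA'sm hA'H hcen

end Hyp

end Cfsg.Agent.Lib.Helper26.Bgh
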