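import Cfsg.Agent.Lib.Helper26.BghI

/-!
BGH Theorem B, part J: stage 2, the induction, and the main theorem.
-/

set_option autoImplicit false
set_option linter.unusedSectionVars false
set_option linter.style.haveILetI false

namespace Cfsg.Agent.Lib.Helper26.Bgh

open Cfsg Cfsg.FusionSystem Cfsg.Agent.Lib.Helper26 Cfsg.Agent.Lib.Helper27

universe u

variable {Ω : Type u} [Group Ω] {S : Subgroup Ω}

/-- the small central elements of `S` lying in `H`. -/
def smallCenter (p : ℕ) (S H : Subgroup Ω) : Subgroup Ω where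
  carrier := {z | z ∈ S ∧ (∀ s ∈ S, s * z = z * s) ∧ z ∈ H ∧ Sm p z}
  one_mem' := ⟨S.one_mem, fun s _ => by rw [mul_one, one_mul], H.one_mem, sm_one p⟩
  mul_mem' := by
    rintro a b ⟨ha1, ha2, ha3, ha4⟩ ⟨hb1, hb2, hb3, hb4⟩
    refine ⟨S.mul_mem ha1 hb1, fun s hs => ?_, H.mul_mem ha3 hb3, ha4.mul hb4 (hb2 a ha1)⟩
    rw [← mul_assoc, ha2 s hs, mul_assoc, hb2 s hs, ← mul_assoc]
  inv_mem' := by
    rintro a ⟨ha1, ha2, ha3, ha4⟩
    refine ⟨S.inv_mem ha1, fun s hs => ?_, H.inv_mem ha3, ha4.inv⟩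
    have := ha2 s hs
    calc s * a⁻¹ = a⁻¹ * (a * s) * a⁻¹ := by group
      _ = a⁻¹ * (s * a) * a⁻¹ := by rw [this]
      _ = a⁻¹ * s := by group

theorem mem_smallCenter {p : ℕ} {S H : Subgroup Ω} {z : Ω} :
    z ∈ smallCenter p S H ↔ z ∈ S ∧ (∀ s ∈ S, s * z = z * s) ∧ z ∈ H ∧ Sm p z := Iff.rfl

namespace Hyp

variable {p : ℕ} {F E : FusionSystem S} {H : Subgroup Ω} [Finite S] [Fact p.Prime]

/-- **Lemma (c).** If `F` and `E` have the same maps on a central small abelian `Z ≤ H` and `C_F(Z) ≤ C_E(Z)`, then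
`F ≤ E`. -/
theorem of_central (h : Hyp p S F E H) {Z : Subgroup Ω} (hZS : Z ≤ S) (hZc : ∀ z ∈ Z, ∀ s ∈ S, s * z = z * s)
    (hZH : Z ≤ H) (hZsm : SmallAb p Z)
    (hC : ∀ (P : Subgroup Ω) (φ : P →* Ω), φ ∈ F.centralizerHom Z P → φ ∈ E.centralizerHom Z P) :
    ∀ P : Subgroup Ω, F.Hom P ⊆ E.Hom P := by
  apply alperin h.hS F h.hF E
  intro P hP α hα
  have hPc : F.IsCentric P := by
    rcases hP with rfl | hP
    · exact isCentric_self F
    · exact hP.1
  have hPS : P ≤ S := hPc.1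
  have hCZ : centralizerIn S Z = S := by
    apply le_antisymm (centralizerIn_le _ _)
    intro s hs
    rw [mem_centralizerIn_iff]
    exact ⟨hs, fun y hy => (hZc y hy s hs).symm⟩
  have hfc : E.IsFullyCentralized Z := by
    refine ⟨hZS, fun Q _ => ?_⟩
    rw [hCZ]
    exact Subgroup.card_le_of_le (centralizerIn_le S Q)
  have hZP : Z ≤ P := by
    intro z hz
    apply hPc.2 P (isConj_refl F hPS)
    rw [mem_centralizerIn_iff]
    exact ⟨hZS hz, fun x hx => hZc z hz x (hPS hx)⟩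
  have hαF := (mem_autGroup_iff F hPS α).mp hα
  have hφ' : (P.subtype.comp α.toMonoidHom).comp (Subgroup.inclusion hZP) ∈ E.Hom Z :=
    h.hsm Z hZH hZsm (inclusion_comp_mem F hZP hαF)
  obtain ⟨φi, hφi, hφiφ⟩ := E.inv_mem hφ'
  have hφir : φi.range = Z := by
    apply le_antisymm
    · rintro _ ⟨⟨_, x, rfl⟩, rfl⟩
      rw [hφiφ]
      exact x.2
    · intro x hx
      exact ⟨_, hφiφ ⟨x, hx⟩⟩
  have hrec : E.IsReceptive Z := saturated_fc h.hS E h.hE hfc
  obtain ⟨χ, hχ, hχφi⟩ := hrec.2 _ φi hφi hφir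
  have hPext : P ≤ extender S ((P.subtype.comp α.toMonoidHom).comp (Subgroup.inclusion hZP)).range φi := by
    refine le_trans ?_ (centralizerIn_le_extender _ φi)
    intro y hy
    rw [mem_centralizerIn_iff]
    refine ⟨hPS hy, ?_⟩
    rintro _ ⟨x, rfl⟩
    show ((α (Subgroup.inclusion hZP x) : P) : Ω) * y = y * ((α (Subgroup.inclusion hZP x) : P) : Ω)
    have h1 : α (Subgroup.inclusion hZP x) * α (α⁻¹ ⟨y, hy⟩) = α (α⁻¹ ⟨y, hy⟩) * α (Subgroup.inclusion hZP x) := by
      rw [← map_mul, ← map_mul]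
      congr 1
      apply Subtype.ext
      exact (hZc x x.2 _ (hPS (α⁻¹ ⟨y, hy⟩).2)).symm
    have h2 : α (α⁻¹ ⟨y, hy⟩) = ⟨y, hy⟩ := by simp
    rw [h2] at h1
    exact congrArg Subtype.val h1
  have hχP' : χ.comp (Subgroup.inclusion hPext) ∈ E.Hom P := inclusion_comp_mem E hPext hχ
  have hχP : χ.comp (Subgroup.inclusion hPext) ∈ F.Hom P := h.hEF P hχP'
  have hαval : ∀ x : P, (P.subtype.comp α.toMonoidHom) x ∈ P := fun x => (α x).2
  have hρ := F.comp_mem hαF hχP hαval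
  have hρZ : ∀ x : Z,
      ((χ.comp (Subgroup.inclusion hPext)).comp ((P.subtype.comp α.toMonoidHom).codRestrict P hαval))
        (Subgroup.inclusion hZP x) = x := by
    intro x
    have hmem : ((α (Subgroup.inclusion hZP x) : P) : Ω) ∈
        ((P.subtype.comp α.toMonoidHom).comp (Subgroup.inclusion hZP)).range := ⟨x, rfl⟩
    have h1 := hχφi _ hmem (hPext (α (Subgroup.inclusion hZP x)).2)
    show χ (Subgroup.inclusion hPext (α (Subgroup.inclusion hZP x))) = x
    rw [← hφiφ x]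
    exact h1
  have hρC : ((χ.comp (Subgroup.inclusion hPext)).comp ((P.subtype.comp α.toMonoidHom).codRestrict P hαval)) ∈
      F.centralizerHom Z P := by
    have hsup : P ⊔ Z ≤ P := sup_le le_rfl hZP
    refine ⟨hρ, by rw [hCZ]; exact hPS, fun x => by rw [hCZ]; exact hom_apply_mem F hρ x, ?_⟩
    refine ⟨_, inclusion_comp_mem F hsup hρ, fun x => rfl, fun x => ?_⟩
    exact hρZ x
  have hρ' := (hC P _ hρC).1
  obtain ⟨χi, hχi, hχiχ⟩ := E.inv_mem hχP'
  have hval : ∀ x : P,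
      ((χ.comp (Subgroup.inclusion hPext)).comp ((P.subtype.comp α.toMonoidHom).codRestrict P hαval)) x ∈
        (χ.comp (Subgroup.inclusion hPext)).range := fun x => ⟨_, rfl⟩
  have hfinal := E.comp_mem hρ' hχi hval
  rw [mem_autGroup_iff E hPS]
  have : χi.comp (((χ.comp (Subgroup.inclusion hPext)).comp
      ((P.subtype.comp α.toMonoidHom).codRestrict P hαval)).codRestrict _ hval) =
      P.subtype.comp α.toMonoidHom := by
    ext x
    show χi ⟨(χ.comp (Subgroup.inclusion hPext)) (α x), _⟩ = ((α x : P) : Ω)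
    exact hχiχ (α x)
  rw [this] at hfinal
  exact hfinal

/-- **The inductive step.** -/
theorem step (h : Hyp p S F E H) (ih : IH p Ω (Nat.card S)) : ∀ P : Subgroup Ω, F.Hom P ⊆ E.Hom P := by
  have hZS : smallCenter p S H ≤ S := fun z hz => hz.1
  have hZc : ∀ z ∈ smallCenter p S H, ∀ s ∈ S, s * z = z * s := fun z hz => hz.2.1
  have hZH : smallCenter p S H ≤ H := fun z hz => hz.2.2.1
  have hZsm : SmallAb p (smallCenter p S H) :=
    ⟨fun a ha b hb => hb.2.1 a ha.1, fun a ha => ha.2.2.2⟩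
  have hCZ : centralizerIn S (smallCenter p S H) = S := by
    apply le_antisymm (centralizerIn_le _ _)
    intro s hs
    rw [mem_centralizerIn_iff]
    exact ⟨hs, fun y hy => (hZc y hy s hs).symm⟩
  have hZF : F.IsFullyCentralized (smallCenter p S H) := by
    refine ⟨hZS, fun Q _ => ?_⟩
    rw [hCZ]
    exact Subgroup.card_le_of_le (centralizerIn_le S Q)
  have hZE : E.IsFullyCentralized (smallCenter p S H) := by
    refine ⟨hZS, fun Q _ => ?_⟩
    rw [hCZ]
    exact Subgroup.card_le_of_le (centralizerIn_le S Q)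
  have h' := h.cen hZH hZsm hZF hZE
  haveI : Finite ↥(centralizerIn S (smallCenter p S H)) := finite_of_le (centralizerIn_le S _)
  have ih' : IH p Ω (Nat.card ↥(centralizerIn S (smallCenter p S H))) := by
    rw [hCZ]
    exact ih
  have hfix' : Fix p (centralizerIn S (smallCenter p S H)) (centralizerSystem F (smallCenter p S H) hZF.1)
      (H ⊓ centralizerIn S (smallCenter p S H)) := by
    rintro P φ ⟨h1, h2, h3, ψ, hψ, hψφ, hψZ⟩ x hxc hxH hxsm
    have hxZ : (x : Ω) ∈ smallCenter p S H := by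
      refine ⟨centralizerIn_le S _ (h2 x.2), fun s hs => hxc s ?_, hxH.1, hxsm⟩
      rw [hCZ]
      exact hs
    rw [← hψφ x]
    have h4 := hψZ ⟨x, hxZ⟩
    have h5 : Subgroup.inclusion (le_sup_right : smallCenter p S H ≤ P ⊔ smallCenter p S H) ⟨x, hxZ⟩ =
        Subgroup.inclusion (le_sup_left : P ≤ P ⊔ smallCenter p S H) x := Subtype.ext rfl
    rw [h5] at h4
    exact h4
  have hst := h'.stage1 ih' hfix'
  exact h.of_central hZS hZc hZH hZsm (fun P φ hφ => hst P hφ)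

end Hyp

/-- the induction. -/
theorem ih_all (p : ℕ) [Fact p.Prime] (Ω : Type u) [Group Ω] : ∀ n : ℕ, IH p Ω n := by
  intro n
  induction n with
  | zero =>
    intro S' _ hlt
    exact absurd hlt (Nat.not_lt_zero _)
  | succ n ihn =>
    intro S' hfin hlt F' E' H' h'
    haveI := hfin
    rcases Nat.lt_succ_iff_lt_or_eq.mp hlt with hlt' | heq
    · exact ihn S' hfin hlt' F' E' H' h'
    · apply h'.step
      rw [heq]
      exact ihn

/-- **Main theorem (general form of BGH Theorem B).** -/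
theorem bgh_main {p : ℕ} [Fact p.Prime] [Finite S] {F E : FusionSystem S} {H : Subgroup Ω} (h : Hyp p S F E H) :
    ∀ P : Subgroup Ω, F.Hom P ⊆ E.Hom P :=
  h.step (ih_all p Ω _)

/-- the hypothesis on small abelian subgroups, from the hypotheses as stated. -/
theorem hsm_of {p : ℕ} {F E : FusionSystem S} {H : Subgroup Ω} (hH : F.StronglyClosed H)
    (hodd : p ≠ 2 → ∀ A B : Subgroup Ω, A ≤ H → B ≤ H → Cfsg.IsElementaryAbelian p A →
      Cfsg.IsElementaryAbelian p B → E.homSet A B = F.homSet A B)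
    (htwo : p = 2 → ∀ A B : Subgroup Ω, A ≤ H → B ≤ H → IsMulCommutative ↥A → IsMulCommutative ↥B →
      (∀ a ∈ A, a ^ 4 = 1) → (∀ b ∈ B, b ^ 4 = 1) → E.homSet A B = F.homSet A B) :
    ∀ A : Subgroup Ω, A ≤ H → SmallAb p A → F.Hom A ⊆ E.Hom A := by
  intro A hA hAsm φ hφ
  have hB : φ.range ≤ H := by
    rintro _ ⟨x, rfl⟩
    exact hH.2 A hA φ hφ x
  have hBsm : SmallAb p φ.range := hAsm.range φ
  have hmem : φ ∈ F.homSet A φ.range := ⟨hφ, fun x => ⟨x, rfl⟩⟩
  have hcomm : ∀ {C : Subgroup Ω}, SmallAb p C → IsMulCommutative ↥C := fun {C} hC =>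
    ⟨⟨fun a b => Subtype.ext (hC.1 a a.2 b b.2)⟩⟩
  by_cases hp : p = 2
  · have hpow : ∀ {C : Subgroup Ω}, SmallAb p C → ∀ a ∈ C, a ^ 4 = 1 := by
      intro C hC a ha
      have := (sm_iff a).mp (hC.2 a ha)
      unfold ex at this
      rwa [if_pos hp] at this
    rw [← htwo hp A φ.range hA hB (hcomm hAsm) (hcomm hBsm) (hpow hAsm) (hpow hBsm)] at hmem
    exact hmem.1
  · have hpow : ∀ {C : Subgroup Ω}, SmallAb p C → ∀ a ∈ C, a ^ p = 1 := by
      intro C hC a ha
      have := (sm_iff a).mp (hC.2 a ha)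
      unfold ex at this
      rwa [if_neg hp] at this
    rw [← hodd hp A φ.range hA hB ⟨hcomm hAsm, hpow hAsm⟩ ⟨hcomm hBsm, hpow hBsm⟩] at hmem
    exact hmem.1

end Cfsg.Agent.Lib.Helper26.Bgh
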