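import Mathlib
import Cfsg.Agent.Lib.Helper26.CSDDefs

set_option autoImplicit false

namespace Cfsg.Agent.Lib.Helper26.CSD

open Cfsg.Agent.Lib.Helper17.ClassGraph
open scoped commutatorElement

variable {G : Type*} [Group G]

theorem Hyp.coprime {Sg Th : Set ℕ} {p q : ℕ} (h : Hyp G Sg Th p q) {x y : G}
    (hx : p ∣ ind x) (hy : q ∣ ind y) : (ind x).Coprime (ind y) := by
  apply Nat.coprime_of_dvd
  intro k hk hkx hky
  exact h.sep x k k (h.closP x k hk hx hkx) (h.closQ y k hk hy hky) hk hk hkx hkx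

/-- local dichotomy -/
theorem Hyp.dich [Finite G] {Sg Th : Set ℕ} {p q : ℕ} (h : Hyp G Sg Th p q) {x y : G}
    (hx : p ∣ ind x) (hy : q ∣ ind y) : Small x y ∨ Small y x := by
  have hcop := h.coprime hx hy
  have hdvd : ind (x * y) ∣ ind x * ind y := ind_mul_dvd hcop
  by_cases hc : (ind (x * y)).Coprime (ind x)
  · -- `ind (x*y) ∣ ind y`
    left
    have hd : ind (x * y) ∣ ind y := hc.dvd_of_dvd_mul_left hdvd
    have hle : ind (y * x) ≤ ind y := by
      rw [ind_mul_comm]; exact Nat.le_of_dvd (ind_pos y) hd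
    exact fun g => comm_mem_rstab hcop.symm hle g
  · right
    have hc2 : (ind (x * y)).Coprime (ind y) := by
      apply Nat.coprime_of_dvd
      intro t ht ht1 ht2
      apply hc
      apply Nat.coprime_of_dvd
      intro s hs hs1 hs2
      exact h.sep (x * y) s t (h.closP x s hs hx hs2) (h.closQ y t ht hy ht2) hs ht hs1 ht1
    have hd : ind (x * y) ∣ ind x := hc2.dvd_of_dvd_mul_right hdvd
    have hle : ind (x * y) ≤ ind x := Nat.le_of_dvd (ind_pos x) hd
    exact fun g => comm_mem_rstab hcop hle g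

end Cfsg.Agent.Lib.Helper26.CSD
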