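import Mathlib
import Cfsg.Agent.Lib.Helper26.CSDDefs
import Cfsg.Agent.Lib.Helper13.SzSubA

set_option autoImplicit false

namespace Cfsg.Agent.Lib.Helper26.CSD

open Cfsg.Agent.Lib.Helper17.ClassGraph
open scoped commutatorElement

variable {G : Type*} [Group G]

/-- (NC) if every element outside the normal subgroup `H` has class size prime to `s`, then the
Sylow `s`-subgroups are central modulo `H`. -/
theorem comm_mem_of_out [Finite G] (H : Subgroup G) [H.Normal] (s : ℕ) [Fact s.Prime]
    (hout : ∀ g : G, g ∉ H → ¬ s ∣ ind g) (S : Sylow s G) {a : G} (ha : a ∈ S) (g : G) :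
    ⁅g, a⁆ ∈ H := by
  set π := QuotientGroup.mk' H with hπ
  set C : Subgroup G :=
    Subgroup.comap π (Subgroup.centralizer (((S : Subgroup G).map π : Subgroup (G ⧸ H)) : Set (G ⧸ H)))
    with hC
  have memC : ∀ x : G, x ∈ C ↔ ∀ b ∈ S, Commute (π b) (π x) := by
    intro x
    rw [hC, Subgroup.mem_comap, Subgroup.mem_centralizer_iff]
    constructor
    · intro h b hb
      exact h (π b) (Subgroup.mem_map_of_mem π hb)
    · rintro h _ ⟨b, hb, rfl⟩
      exact h b hb
  have hCtop : C = ⊤ := by
    by_contra hne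
    obtain ⟨g₀, hg₀⟩ := Cfsg.Agent.Lib.Helper13.SzSub.exists_not_mem_conj hne
    by_cases hgH : g₀ ∈ H
    · apply hg₀ 1
      rw [memC]
      intro b _
      have : π (1 * g₀ * 1⁻¹) = 1 := by
        rw [one_mul, inv_one, mul_one]
        exact (QuotientGroup.eq_one_iff g₀).mpr hgH
      rw [this]
      exact Commute.one_right _
    · obtain ⟨l, hl⟩ := exists_conj_mem_centralizer_sylow S g₀ (hout g₀ hgH)
      apply hg₀ l
      rw [memC]
      intro b hb
      rw [Subgroup.mem_centralizer_iff] at hl
      have := hl b hb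
      exact (Commute.map (show Commute b (l * g₀ * l⁻¹) from this) π)
  have hg : g ∈ C := by rw [hCtop]; exact Subgroup.mem_top g
  rw [memC] at hg
  have h1 : π ⁅g, a⁆ = 1 := by
    rw [map_commutatorElement, commutatorElement_eq_one_iff_commute]
    exact (hg a ha).symm
  exact (QuotientGroup.eq_one_iff _).mp h1

end Cfsg.Agent.Lib.Helper26.CSD
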