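import Mathlib
import Cfsg.Agent.Lib.Helper26.CSDDefs

set_option autoImplicit false

namespace Cfsg.Agent.Lib.Helper26.CSD

open Cfsg.Agent.Lib.Helper17.ClassGraph
open scoped commutatorElement

variable {G : Type*} [Group G]

theorem Small.rstab_le [Finite G] {x y : G} (_h : Small x y) (hcop : (ind x).Coprime (ind y)) :
    rstab (cl y) ≤ Subgroup.centralizer ({x} : Set G) := by
  have := rstab_cl_normal y
  have hd : Nat.card (rstab (cl y)) ∣ ind y := card_rstab_cl_dvd y
  exact le_centralizer_of_coprime _ x (Nat.Coprime.coprime_dvd_left hd hcop.symm)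

theorem conj_eq_comm_mul (g x : G) : g * x * g⁻¹ = ⁅g, x⁆ * x := by
  rw [commutatorElement_def]; group

theorem Small.commute_comm [Finite G] {x y : G} (h : Small x y) (hcop : (ind x).Coprime (ind y))
    (g : G) : Commute x ⁅g, x⁆ := by
  have h1 := h.rstab_le hcop (h g)
  rw [mem_centralizer_singleton] at h1
  exact h1.symm

theorem Small.commute_conj [Finite G] {x y : G} (h : Small x y) (hcop : (ind x).Coprime (ind y))
    (g : G) : Commute x (g * x * g⁻¹) := by
  rw [conj_eq_comm_mul]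
  exact (h.commute_comm hcop g).mul_right (Commute.refl x)

theorem Small.comm_pow [Finite G] {x y : G} (h : Small x y) (hcop : (ind x).Coprime (ind y))
    (g : G) (k : ℕ) : ⁅g, x ^ k⁆ = ⁅g, x⁆ ^ k := by
  have hc : Commute ⁅g, x⁆ x := (h.commute_comm hcop g).symm
  have e1 : g * x ^ k * g⁻¹ = (g * x * g⁻¹) ^ k := (conj_pow (a := g) (b := x) (i := k)).symm
  have e2 : ⁅g, x ^ k⁆ = g * x ^ k * g⁻¹ * (x ^ k)⁻¹ := by
    rw [commutatorElement_def]
  rw [e2, e1, conj_eq_comm_mul, hc.mul_pow, mul_assoc, mul_inv_cancel, mul_one]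

theorem Small.pow [Finite G] {x y : G} (h : Small x y) (hcop : (ind x).Coprime (ind y)) (k : ℕ) :
    Small (x ^ k) y := by
  intro g
  rw [h.comm_pow hcop g k]
  exact (rstab (cl y)).pow_mem (h g) k

theorem Small.prime_dvd [Finite G] {x y : G} (h : Small x y) (hcop : (ind x).Coprime (ind y))
    {u j : ℕ} (hu : u.Prime) (ho : orderOf x = u ^ j) {g : G} (hg : ¬ Commute g x) :
    u ∣ ind y := by
  have hc1 : ⁅g, x⁆ ≠ 1 := by
    intro h1
    exact hg (commutatorElement_eq_one_iff_commute.mp h1)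
  -- `⁅g,x⁆ ^ (u^j) = 1`
  have hpow : ⁅g, x⁆ ^ (u ^ j) = 1 := by
    rw [← h.comm_pow hcop g (u ^ j), ← ho, pow_orderOf_eq_one]
    rw [commutatorElement_def]; group
  have hdvd : orderOf ⁅g, x⁆ ∣ u ^ j := orderOf_dvd_of_pow_eq_one hpow
  obtain ⟨i, _, hi⟩ := (Nat.dvd_prime_pow hu).mp hdvd
  have hi0 : i ≠ 0 := by
    rintro rfl
    rw [pow_zero, orderOf_eq_one_iff] at hi
    exact hc1 hi
  have hud : u ∣ orderOf ⁅g, x⁆ := by
    rw [hi]; exact dvd_pow_self u hi0
  have hcard : orderOf ⁅g, x⁆ ∣ Nat.card (rstab (cl y)) := by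
    have := orderOf_dvd_natCard (⟨⁅g, x⁆, h g⟩ : rstab (cl y))
    rwa [Subgroup.orderOf_mk] at this
  exact dvd_trans hud (dvd_trans hcard (card_rstab_cl_dvd y))

end Cfsg.Agent.Lib.Helper26.CSD
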