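/-
helper26: S4257 (class size prime graph: connected => diameter <= 3), the core theorem.
`Hyp.core`: under `Hyp G Sg Th p q` (no class size has a prime of `Sg` and a prime of `Th`; `Sg`, `Th` closed
under adjacency from `p`, `q`) one of `Sg`, `Th` is a union of connected components.
Plan: notes/S4257_plan.md. Packages: ORD helper8, SPEC helper17, CAM helper2, EXCL helper29,
SMALL/DICH/NORM/NC helper26.
-/
import Mathlib
import Cfsg.Agent.Lib.Helper26.CSDDefs
import Cfsg.Agent.Lib.Helper26.CSDSmall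
import Cfsg.Agent.Lib.Helper26.CSDDich
import Cfsg.Agent.Lib.Helper26.CSDNorm
import Cfsg.Agent.Lib.Helper26.CSDNC
import Cfsg.Agent.Lib.Helper8.CSDORD
import Cfsg.Agent.Lib.Helper17.CSDSPEC
import Cfsg.Agent.Lib.Helper2.CSDCAM
import Cfsg.Agent.Lib.Helper29.CSDEXCL

set_option autoImplicit false

namespace Cfsg.Agent.Lib.Helper26.CSD

open Cfsg.Agent.Lib.Helper17.ClassGraph
open scoped commutatorElement

variable {G : Type*} [Group G]

/-- global dichotomy -/
theorem Hyp.dichotomy [Finite G] {Sg Th : Set ℕ} {p q : ℕ} (h : Hyp G Sg Th p q) :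
    (∀ x y : G, p ∣ ind x → q ∣ ind y → Small x y) ∨
    (∀ x y : G, p ∣ ind x → q ∣ ind y → Small y x) := by
  by_cases hc : ∀ x y : G, p ∣ ind x → q ∣ ind y → Small x y
  · exact Or.inl hc
  · right
    push Not at hc
    obtain ⟨x₀, y₀, hx₀, hy₀, hn⟩ := hc
    have h0 : Small y₀ x₀ := (h.dich hx₀ hy₀).resolve_left hn
    intro x y hx hy
    rcases h.dich hx hy with h' | h'
    · exact (Cfsg.Agent.Lib.Helper29.CSD.Hyp.excl h hx hy hx₀ hy₀ h' h0).elim
    · exact h'

/-- one-sided main theorem -/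
theorem Hyp.oneSided [Finite G] {Sg Th : Set ℕ} {p q : ℕ} (h : Hyp G Sg Th p q)
    (hI : ∀ x y : G, p ∣ ind x → q ∣ ind y → Small x y) :
    ∀ (g : G) (s t : ℕ), s ∈ Sg → s.Prime → t.Prime → s ∣ ind g → t ∣ ind g → t ∈ Sg := by
  classical
  obtain ⟨y₀, hy₀⟩ := h.exQ
  -- the set `A` and its centralizer
  set A : Set G := {x | p ∣ ind x} with hA
  have hAconj : ∀ x ∈ A, ∀ c : G, c * x * c⁻¹ ∈ A := by
    intro x hx c
    show p ∣ ind (c * x * c⁻¹)
    rw [ind_conj]; exact hx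
  set H : Subgroup G := Subgroup.centralizer A with hH
  have memH : ∀ w : G, w ∈ H ↔ ∀ x ∈ A, Commute w x := by
    intro w
    rw [hH, Subgroup.mem_centralizer_iff]
    constructor
    · intro hw x hx; exact (hw x hx).symm
    · intro hw x hx; exact (hw x hx).symm
  have Hn : H.Normal := by
    constructor
    intro w hw c
    rw [memH] at hw ⊢
    intro x hx
    have h1 := hw (c⁻¹ * x * c⁻¹⁻¹) (hAconj x hx c⁻¹)
    have e : x = c * (c⁻¹ * x * c⁻¹⁻¹) * c⁻¹ := by group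
    rw [e]
    have : Commute (c * w * c⁻¹) (c * (c⁻¹ * x * c⁻¹⁻¹) * c⁻¹) := by
      have := h1.map (MulAut.conj c)
      simpa [MulAut.conj_apply] using this
    exact this
  -- (H2)
  have H2 : ∀ g : G, g ∉ H → ∃ u : ℕ, u ∈ Th ∧ u.Prime ∧ u ∣ ind g := by
    intro g hg
    rw [memH] at hg
    push Not at hg
    obtain ⟨x, hx, hgx⟩ := hg
    obtain ⟨k, u, huT, hsp, hnc⟩ := Cfsg.Agent.Lib.Helper29.CSD.Hyp.exists_spec h hx hy₀ (hI x y₀ hx hy₀) hgx
    exact ⟨u, huT, hsp.1, Cfsg.Agent.Lib.Helper17.CSD.Spec.dvd_ind hsp hnc⟩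
  have H2' : ∀ g : G, g ∉ H → ∀ s : ℕ, s ∈ Sg → s.Prime → ¬ s ∣ ind g := by
    intro g hg s hs hsp hsg
    obtain ⟨u, huT, hup, hug⟩ := H2 g hg
    exact h.sep g s u hs huT hsp hup hsg hug
  -- (H1)
  have H1 : ∀ (w : G) (s : ℕ), s ∈ Sg → s.Prime → s ∣ ind w → w ∈ H := by
    intro w s hs hsp hsw
    by_contra hw
    exact H2' w hw s hs hsp hsw
  have pSg : p ∈ Sg := by
    obtain ⟨x, hx⟩ := h.exP
    exact h.closP x p h.pprime hx hx
  have AH : ∀ x ∈ A, x ∈ H := fun x hx => H1 x p pSg h.pprime hx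
  have HleC : ∀ x ∈ A, ∀ k : ℕ, H ≤ Subgroup.centralizer ({x ^ k} : Set G) := by
    intro x hx k w hw
    rw [mem_centralizer_singleton]
    exact (((memH w).mp hw x hx).pow_right k).eq
  -- (NC)
  have NC : ∀ (s : ℕ) [Fact s.Prime], s ∈ Sg → ∀ (S : Sylow s G) (a : G), a ∈ S →
      ∀ g : G, ⁅g, a⁆ ∈ H := by
    intro s _ hs S a ha g
    exact comm_mem_of_out H s (fun g hg => H2' g hg s hs Fact.out) S ha g
  -- class sizes of powers of elements of `A` are `Sg`-numbers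
  have SgNum : ∀ x ∈ A, ∀ k : ℕ, ∀ t : ℕ, t.Prime → t ∣ ind (x ^ k) → t ∈ Sg := by
    intro x hx k t ht htd
    exact h.closP x t ht hx (dvd_trans htd (Cfsg.Agent.Lib.Helper8.CSD.ind_pow_dvd x k))
  have NC2 : ∀ x ∈ A, ∀ k : ℕ, (Subgroup.centralizer ({x ^ k} : Set G)).Normal := by
    intro x hx k
    exact centralizer_normal_of H Sg NC (x ^ k) (HleC x hx k) (SgNum x hx k)
  -- (4c)
  have C4 : ∀ (t : ℕ) [Fact t.Prime], t ∉ Sg → ∀ T : Sylow t G, (T : Subgroup G) ≤ H := by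
    intro t _ ht T w hw
    rw [memH]
    intro x hx
    have hn := NC2 x hx 1
    rw [pow_one] at hn
    have htx : ¬ t ∣ ind x := fun hd => ht (h.closP x t Fact.out hx hd)
    have := sylow_le_centralizer_of_normal t x hn htx T hw
    rw [mem_centralizer_singleton] at this
    exact this
  -- (7f) a prime power order element of `A`
  have E7 : ∃ (x₀ : G) (u j : ℕ), u.Prime ∧ orderOf x₀ = u ^ j ∧ p ∣ ind x₀ := by
    obtain ⟨x, hx⟩ := h.exP
    by_contra hcon
    push Not at hcon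
    have : Fact p.Prime := ⟨h.pprime⟩
    obtain ⟨P⟩ : Nonempty (Sylow p G) := inferInstance
    have hP : (P : Subgroup G) ≤ Subgroup.centralizer ({x} : Set G) := by
      intro a ha
      rw [mem_centralizer_singleton]
      by_contra hax
      obtain ⟨k, u, j, hu, ho, hnc⟩ := Cfsg.Agent.Lib.Helper8.CSD.exists_ppo_pow_not_commute x a hax
      have hnp : ¬ p ∣ ind (x ^ k) := hcon (x ^ k) u j hu ho
      have hn := NC2 x hx k
      have := sylow_le_centralizer_of_normal p (x ^ k) hn hnp P ha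
      rw [mem_centralizer_singleton] at this
      exact hnc this
    exact not_dvd_ind_of_sylow_le p x P hP hx
  obtain ⟨x₀, u, j, hu, hox, hpx₀⟩ := E7
  have hx₀A : x₀ ∈ A := hpx₀
  -- `x₀` is special with prime `u ∈ Th`, `u ∉ Sg`
  have hx₀nc : ∃ g₀ : G, ¬ Commute g₀ x₀ := by
    by_contra hc
    push Not at hc
    have : x₀ ∈ Subgroup.center G := by
      rw [Subgroup.mem_center_iff]; intro g; exact (hc g).eq
    rw [← ind_eq_one_iff] at this
    rw [this] at hpx₀
    exact h.pprime.one_lt.ne' (Nat.dvd_one.mp hpx₀)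
  obtain ⟨g₀, hg₀⟩ := hx₀nc
  have hcop₀ : (ind x₀).Coprime (ind y₀) := h.coprime hpx₀ hy₀
  have huy : u ∣ ind y₀ := (hI x₀ y₀ hpx₀ hy₀).prime_dvd hcop₀ hu hox hg₀
  have huT : u ∈ Th := h.closQ y₀ u hu hy₀ huy
  have huS : u ∉ Sg := fun hs => h.sep y₀ u u hs huT hu hu huy huy
  have : Fact u.Prime := ⟨hu⟩
  -- (7h)
  have FS1 : ∀ w ∈ H, (orderOf w).Coprime u → ∀ t : ℕ, t.Prime → t ∣ ind w → t ∈ Sg := by
    intro w hw hwu t ht htw
    have hc : Commute w x₀ := (memH w).mp hw x₀ hx₀A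
    have hco : (orderOf w).Coprime (orderOf x₀) := by
      rw [hox]; exact Nat.Coprime.pow_right j hwu
    obtain ⟨d1, d2⟩ := Cfsg.Agent.Lib.Helper8.CSD.ind_dvd_ind_mul_of_coprime hc hco (orderOf_pos w) (orderOf_pos x₀)
    exact h.closP (w * x₀) t ht (dvd_trans hpx₀ d2) (dvd_trans htw d1)
  -- (7i)
  have CI : ∀ r w : G, r ∈ H → w ∈ H → (∃ j : ℕ, orderOf r = u ^ j) → (orderOf w).Coprime u →
      Commute r w := by
    intro r w hr hw hrj hwu
    have key := Cfsg.Agent.Lib.Helper2.CSD.camina_commute (K := H) u (by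
      intro w' hw'
      have hw'u : (orderOf (w' : G)).Coprime u := by
        rwa [Subgroup.orderOf_coe]
      have hnd : ¬ u ∣ ind (w' : G) := fun hd => huS (FS1 w' w'.2 hw'u u hu hd)
      obtain ⟨R', hR'⟩ := exists_sylow_le_of_not_dvd_index (Subgroup.centralizer ({(w' : G)} : Set G)) hnd
      have hR'H : (R' : Subgroup G) ≤ H := C4 u huS R'
      refine ⟨R'.subtype hR'H, ?_⟩
      intro r' hr'
      have h1 : (r' : G) ∈ (R' : Subgroup G) := by
        have h2 : r' ∈ ((R'.subtype hR'H : Sylow u H) : Subgroup H) := hr'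
        rw [Sylow.coe_subtype, Subgroup.mem_subgroupOf] at h2
        exact h2
      have := hR' h1
      rw [mem_centralizer_singleton] at this
      exact Subtype.ext (by simpa using this)) ⟨r, hr⟩ ⟨w, hw⟩
      (by obtain ⟨j', hj'⟩ := hrj; exact ⟨j', by rw [← hj']; exact (Subgroup.orderOf_mk r hr)⟩)
      (by rw [Subgroup.orderOf_mk]; exact hwu)
    have := congrArg Subtype.val key.eq
    exact this
  -- (7j)
  intro g s t hs hsp htp hsg htg
  by_contra htS
  have : Fact t.Prime := ⟨htp⟩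
  have hgH : g ∈ H := H1 g s hs hsp hsg
  have htu : t ≠ u := by
    rintro rfl
    exact h.sep g s t hs huT hsp htp hsg htg
  obtain ⟨a, b, ha, hb, hgab, ⟨ja, hoa⟩, hbu⟩ := Cfsg.Agent.Lib.Helper8.CSD.exists_pi_decomp g u hu
  have haH : a ∈ H := by
    obtain ⟨n, rfl⟩ := Subgroup.mem_zpowers_iff.mp ha
    exact H.zpow_mem hgH n
  have hbH : b ∈ H := by
    obtain ⟨n, rfl⟩ := Subgroup.mem_zpowers_iff.mp hb
    exact H.zpow_mem hgH n
  have htb : ¬ t ∣ ind b := fun hd => htS (FS1 b hbH hbu t htp hd)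
  obtain ⟨T', hT'⟩ := exists_sylow_le_of_not_dvd_index (Subgroup.centralizer ({b} : Set G)) htb
  have hT'H : (T' : Subgroup G) ≤ H := C4 t htS T'
  have hT'g : (T' : Subgroup G) ≤ Subgroup.centralizer ({g} : Set G) := by
    intro τ hτ
    rw [mem_centralizer_singleton]
    have hτb : Commute τ b := by
      have := hT' hτ
      rw [mem_centralizer_singleton] at this
      exact this
    have hτo : (orderOf τ).Coprime u := by
      obtain ⟨k, hk⟩ := IsPGroup.iff_orderOf.mp T'.2 (⟨τ, hτ⟩ : (T' : Subgroup G))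
      rw [Subgroup.orderOf_mk] at hk
      rw [hk]
      exact Nat.Coprime.pow_left k ((Nat.coprime_primes htp hu).mpr htu)
    have hτa : Commute τ a := (CI a τ haH (hT'H hτ) ⟨ja, hoa⟩ hτo).symm
    rw [hgab]
    exact (hτa.mul_right hτb).eq
  exact not_dvd_ind_of_sylow_le t g T' hT'g htg

theorem Hyp.core [Finite G] {Sg Th : Set ℕ} {p q : ℕ} (h : Hyp G Sg Th p q) :
    (∀ (g : G) (s t : ℕ), s ∈ Sg → s.Prime → t.Prime → s ∣ ind g → t ∣ ind g → t ∈ Sg) ∨
    (∀ (g : G) (s t : ℕ), s ∈ Th → s.Prime → t.Prime → s ∣ ind g → t ∣ ind g → t ∈ Th) := by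
  rcases h.dichotomy with h1 | h1
  · exact Or.inl (h.oneSided h1)
  · exact Or.inr (h.symm.oneSided (fun x y hx hy => h1 y x hy hx))

end Cfsg.Agent.Lib.Helper26.CSD
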