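/-
helper26: Package B of helper23's S4064 project (CTI-groups): a normal subgroup of a finite
CTI-group which is "PSL-like" (abstract `PSL₂(2ⁿ)`) is the whole group.
-/
import Cfsg.Agent.Lib.Helper17.CTIA1

set_option autoImplicit false
set_option linter.style.haveILetI false

namespace Cfsg.Agent.Lib.Helper26.CTIB

open Cfsg Cfsg.Agent.Lib.Helper23.CTI Cfsg.Agent.Lib.Helper17.CTIA

/-- in a finite nilpotent group, a `p`-element and a `q`-element commute (`p ≠ q`) -/
theorem commute_of_nilpotent {K : Type*} [Group K] [Finite K] (hK : Group.IsNilpotent K)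
    {p q : ℕ} [Fact p.Prime] [Fact q.Prime] (hpq : p ≠ q) (x y : K)
    (hx : ∃ k : ℕ, x ^ p ^ k = 1) (hy : ∃ k : ℕ, y ^ q ^ k = 1) : x * y = y * x := by
  have hnorm := ((Group.isNilpotent_of_finite_tfae (G := K)).out 0 3).mp hK
  have hxp : IsPGroup p (Subgroup.zpowers x) := by
    rintro ⟨g, hg⟩
    obtain ⟨n, rfl⟩ := Subgroup.mem_zpowers_iff.mp hg
    obtain ⟨k, hk⟩ := hx
    refine ⟨k, Subtype.ext ?_⟩
    rw [Subgroup.coe_pow, Subgroup.coe_mk, Subgroup.coe_one, ← zpow_natCast, ← zpow_mul,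
      mul_comm, zpow_mul, zpow_natCast, hk, one_zpow]
  have hyq : IsPGroup q (Subgroup.zpowers y) := by
    rintro ⟨g, hg⟩
    obtain ⟨n, rfl⟩ := Subgroup.mem_zpowers_iff.mp hg
    obtain ⟨k, hk⟩ := hy
    refine ⟨k, Subtype.ext ?_⟩
    rw [Subgroup.coe_pow, Subgroup.coe_mk, Subgroup.coe_one, ← zpow_natCast, ← zpow_mul,
      mul_comm, zpow_mul, zpow_natCast, hk, one_zpow]
  obtain ⟨X, hX⟩ := hxp.exists_le_sylow
  obtain ⟨Y, hY⟩ := hyq.exists_le_sylow
  have hdis : Disjoint (X : Subgroup K) (Y : Subgroup K) :=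
    IsPGroup.disjoint_of_ne p q hpq _ _ X.2 Y.2
  exact Subgroup.commute_of_normal_of_disjoint _ _ (hnorm p inferInstance X)
    (hnorm q inferInstance Y) hdis x y (hX (Subgroup.mem_zpowers x)) (hY (Subgroup.mem_zpowers y))

theorem exists_odd_prime_elt {H : Type*} [Group H] [Finite H] (P : Sylow 2 H)
    (hq : 4 ≤ Nat.card (P : Subgroup H))
    (hcent : ∀ t ∈ (P : Subgroup H), t ≠ 1 →
      Subgroup.centralizer ({t} : Set H) = (P : Subgroup H))
    (htrans : ∀ s ∈ (P : Subgroup H), s ≠ 1 → ∀ t ∈ (P : Subgroup H), t ≠ 1 →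
      ∃ g ∈ Subgroup.normalizer ((P : Subgroup H) : Set H), g * s * g⁻¹ = t) :
    ∃ d ∈ Subgroup.normalizer ((P : Subgroup H) : Set H), ∃ ℓ : ℕ, ℓ.Prime ∧ Odd ℓ ∧
      orderOf d = ℓ := by
  classical
  haveI : Fact (Nat.Prime 2) := ⟨Nat.prime_two⟩
  haveI : Fintype (P : Subgroup H) := Fintype.ofFinite _
  -- two distinct non-identity elements of `P`
  obtain ⟨t₁, ht₁⟩ : ∃ t₁ : (P : Subgroup H), t₁ ≠ 1 := by
    by_contra hcon
    push Not at hcon
    have : Nat.card (P : Subgroup H) ≤ 1 := by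
      rw [Nat.card_eq_fintype_card]
      exact Fintype.card_le_one_iff.mpr fun a b => by rw [hcon a, hcon b]
    omega
  obtain ⟨t₂, -, ht₂⟩ : ∃ t₂ ∈ (Finset.univ : Finset (P : Subgroup H)),
      t₂ ∉ ({1, t₁} : Finset (P : Subgroup H)) := by
    apply Finset.exists_mem_notMem_of_card_lt_card
    rw [Finset.card_univ, ← Nat.card_eq_fintype_card]
    exact lt_of_le_of_lt (Finset.card_le_two) (by omega)
  rw [Finset.mem_insert, Finset.mem_singleton, not_or] at ht₂
  have h1 : (t₁ : H) ≠ 1 := fun e => ht₁ (Subtype.ext e)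
  have h2 : (t₂ : H) ≠ 1 := fun e => ht₂.1 (Subtype.ext e)
  obtain ⟨n, hnN, hn⟩ := htrans t₁ t₁.2 h1 t₂ t₂.2 h2
  have hnP : n ∉ (P : Subgroup H) := by
    intro hnP
    rw [← hcent t₁ t₁.2 h1, mem_cent_singleton] at hnP
    apply ht₂.2
    apply Subtype.ext
    rw [← hn, ← hnP, mul_inv_cancel_right]
  rcases Nat.eq_two_pow_or_exists_odd_prime_and_dvd (orderOf n) with ⟨k, hk⟩ | ⟨ℓ, hℓ, hdvd, hodd⟩
  · exfalso
    apply hnP
    have hp : IsPGroup 2 (Subgroup.zpowers n) := by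
      rintro ⟨g, hg⟩
      obtain ⟨m, rfl⟩ := Subgroup.mem_zpowers_iff.mp hg
      refine ⟨k, Subtype.ext ?_⟩
      rw [Subgroup.coe_pow, Subgroup.coe_mk, Subgroup.coe_one, ← zpow_natCast, ← zpow_mul,
        mul_comm, zpow_mul, zpow_natCast, ← hk, pow_orderOf_eq_one, one_zpow]
    have := hp.inf_normalizer_sylow P
    have hmem : n ∈ Subgroup.zpowers n ⊓ Subgroup.normalizer (P : Set H) :=
      ⟨Subgroup.mem_zpowers n, hnN⟩
    rw [this] at hmem
    exact hmem.2
  · refine ⟨n ^ (orderOf n / ℓ), Subgroup.pow_mem _ hnN _, ℓ, hℓ, hodd, ?_⟩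
    exact orderOf_pow_orderOf_div (orderOf_pos n).ne' hdvd

/-- **Package B**: a PSL-like normal subgroup of a finite CTI-group is the whole group.
Proof: `C = C_G(t)` (`t ∈ P#`) meets `S` in `P`; by Frattini and transitivity of `N_S(P)` on `P#`,
`S ≠ G` gives `c ∈ C ∖ S`.  CTI makes `C` normalized by `N_S(P)`, hence `C` centralizes `P`.  For `d`
in `N_S(P)` of odd prime order, `[c, d] ∈ C ∩ S = P` and `p ↦ [p, d]` is a bijection of `P`, so some
`w = c p` is centralized by `d`; `C_G(w)` is nilpotent and contains `d` and `t`, so `d ∈ C_S(t) = P`,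
a contradiction. -/
theorem eq_top_of_normal_PSLlike {G : Type*} [Group G] [Finite G] (h : IsCTI G) (S : Subgroup G)
    [S.Normal] (hS : PSLlike S) : S = ⊤ := by
  classical
  haveI : Fact (Nat.Prime 2) := ⟨Nat.prime_two⟩
  obtain ⟨P, hq, hcent, htrans, -⟩ := hS.exists_syl
  by_contra hne
  have hab : ∀ a ∈ (P : Subgroup S), ∀ b ∈ (P : Subgroup S), a * b = b * a := by
    intro a ha b hb
    by_cases ha1 : a = 1
    · rw [ha1, one_mul, mul_one]
    · rw [← hcent a ha ha1, mem_cent_singleton] at hb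
      exact hb
  obtain ⟨t, htP, ht1⟩ : ∃ t ∈ (P : Subgroup S), t ≠ 1 := by
    by_contra hcon
    push Not at hcon
    have hbot : (P : Subgroup S) = ⊥ := (Subgroup.eq_bot_iff_forall _).mpr hcon
    rw [hbot, Subgroup.card_bot] at hq
    omega
  have ht1' : (t : G) ≠ 1 := fun e => ht1 (Subtype.ext e)
  -- `C = C_G(t)` meets `S` in `P`
  have hCS : ∀ x : G, x ∈ Subgroup.centralizer ({(t : G)} : Set G) → ∀ hx : x ∈ S,
      (⟨x, hx⟩ : S) ∈ (P : Subgroup S) := by
    intro x hxC hx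
    rw [← hcent t htP ht1, mem_cent_singleton]
    rw [mem_cent_singleton] at hxC
    exact Subtype.ext hxC
  have hPC : ∀ p : S, p ∈ (P : Subgroup S) →
      (p : G) ∈ Subgroup.centralizer ({(t : G)} : Set G) := by
    intro p hp
    rw [mem_cent_singleton]
    exact congrArg Subtype.val (hab t htP p hp)
  -- the normalizer of `P` in `S` normalizes `C`
  have hNC : ∀ n : S, n ∈ Subgroup.normalizer ((P : Subgroup S) : Set S) → (n : G) ∈
      Subgroup.normalizer ((Subgroup.centralizer ({(t : G)} : Set G) : Subgroup G) : Set G) := by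
    intro n hn
    refine cti_mem_normalizer h (hPC t htP) ht1' ?_
    rw [Subgroup.mem_set_normalizer_iff] at hn
    exact hPC (n * t * n⁻¹) ((hn t).mp htP)
  -- `C` centralizes `P`
  have hCP : ∀ c ∈ Subgroup.centralizer ({(t : G)} : Set G), ∀ p : S, p ∈ (P : Subgroup S) →
      c * (p : G) = (p : G) * c := by
    intro c hc p hp
    by_cases hp1 : p = 1
    · rw [hp1, Subgroup.coe_one, mul_one, one_mul]
    · obtain ⟨n, hnN, hn⟩ := htrans t htP ht1 p hp hp1
      have hn' := hNC n hnN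
      rw [Subgroup.mem_set_normalizer_iff] at hn'
      have hx : (n : G)⁻¹ * c * n ∈ Subgroup.centralizer ({(t : G)} : Set G) := by
        apply (hn' ((n : G)⁻¹ * c * n)).mpr
        have : (n : G) * ((n : G)⁻¹ * c * n) * (n : G)⁻¹ = c := by group
        rw [this]
        exact hc
      rw [mem_cent_singleton] at hx
      have hpn : (p : G) = (n : G) * t * (n : G)⁻¹ := by
        rw [← hn]; rfl
      rw [hpn]
      calc c * ((n : G) * t * (n : G)⁻¹) = n * (((n : G)⁻¹ * c * n) * t) * (n : G)⁻¹ := by group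
        _ = n * (t * ((n : G)⁻¹ * c * n)) * (n : G)⁻¹ := by rw [hx]
        _ = (n : G) * t * (n : G)⁻¹ * c := by group
  -- Frattini: an element of `C` outside `S`
  obtain ⟨c, hcC, hcS⟩ : ∃ c ∈ Subgroup.centralizer ({(t : G)} : Set G), c ∉ S := by
    obtain ⟨g, hg⟩ : ∃ g : G, g ∉ S := by
      by_contra hcon
      push Not at hcon
      exact hne ((Subgroup.eq_top_iff' S).mpr hcon)
    have hfr := Sylow.normalizer_sup_eq_top P
    have hgm : g ∈ Subgroup.normalizer (((P : Subgroup S).map S.subtype : Subgroup G) : Set G) ⊔ S := by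
      rw [hfr]; trivial
    obtain ⟨y, hy, z, hz, rfl⟩ := Subgroup.mem_sup_of_normal_right.mp hgm
    have hyS : y ∉ S := fun hyS => hg (S.mul_mem hyS hz)
    rw [Subgroup.mem_set_normalizer_iff] at hy
    have htm : (t : G) ∈ ((P : Subgroup S).map S.subtype : Subgroup G) :=
      Subgroup.mem_map_of_mem _ htP
    obtain ⟨p, hp, hpe⟩ := (hy t).mp htm
    have hp1 : p ≠ 1 := by
      rintro rfl
      apply ht1'
      have : y * (t : G) * y⁻¹ = 1 := hpe.symm
      have h2 : (t : G) = y⁻¹ * (y * (t : G) * y⁻¹) * y := by group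
      rw [h2, this]; group
    obtain ⟨n₀, hn₀N, hn₀⟩ := htrans t htP ht1 p hp hp1
    refine ⟨(n₀ : G)⁻¹ * y, ?_, ?_⟩
    · rw [mem_cent_singleton]
      have e1 : y * (t : G) * y⁻¹ = (n₀ : G) * t * (n₀ : G)⁻¹ := by
        rw [← hpe, ← hn₀]; rfl
      calc (t : G) * ((n₀ : G)⁻¹ * y) = (n₀ : G)⁻¹ * ((n₀ : G) * t * (n₀ : G)⁻¹) * y := by group
        _ = (n₀ : G)⁻¹ * (y * (t : G) * y⁻¹) * y := by rw [e1]
        _ = (n₀ : G)⁻¹ * y * t := by group
    · intro hmem
      apply hyS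
      have : y = (n₀ : G) * ((n₀ : G)⁻¹ * y) := by group
      rw [this]
      exact S.mul_mem n₀.2 hmem
  -- an element `d` of odd prime order normalizing `P`
  obtain ⟨d, hdN, ℓ, hℓ, hodd, hord⟩ := exists_odd_prime_elt P hq hcent htrans
  haveI : Fact ℓ.Prime := ⟨hℓ⟩
  have hℓ2 : ℓ ≠ 2 := by
    rintro rfl
    exact absurd hodd (by decide)
  have hdP : d ∉ (P : Subgroup S) := by
    intro hdP
    obtain ⟨k, hk⟩ := P.2 ⟨d, hdP⟩
    have hk' : d ^ 2 ^ k = 1 := by
      have := congrArg Subtype.val hk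
      simpa using this
    have hdvd : ℓ ∣ 2 ^ k := hord ▸ orderOf_dvd_of_pow_eq_one hk'
    exact hℓ2 ((Nat.prime_dvd_prime_iff_eq hℓ Nat.prime_two).mp (hℓ.dvd_of_dvd_pow hdvd))
  have hfpf : ∀ x ∈ (P : Subgroup S), x * d = d * x → x = 1 := by
    intro x hx hxd
    by_contra hx1
    apply hdP
    rw [← hcent x hx hx1, mem_cent_singleton]
    exact hxd
  have hdN' := hdN
  rw [Subgroup.mem_set_normalizer_iff] at hdN'
  have hdC := hNC d hdN
  rw [Subgroup.mem_set_normalizer_iff] at hdC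
  -- the commutator of `c` and `d` lies in `P`
  have hkS : c⁻¹ * (d : G) * c * (d : G)⁻¹ ∈ S := by
    have h1 : c⁻¹ * (d : G) * c ∈ S := by
      have := (inferInstance : S.Normal).conj_mem (d : G) d.2 c⁻¹
      rwa [inv_inv] at this
    exact S.mul_mem h1 (S.inv_mem d.2)
  have hkC : c⁻¹ * (d : G) * c * (d : G)⁻¹ ∈ Subgroup.centralizer ({(t : G)} : Set G) := by
    have h1 : (d : G) * c * (d : G)⁻¹ ∈ Subgroup.centralizer ({(t : G)} : Set G) :=
      (hdC c).mp hcC
    have h2 : c⁻¹ * (d : G) * c * (d : G)⁻¹ = c⁻¹ * ((d : G) * c * (d : G)⁻¹) := by group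
    rw [h2]
    exact Subgroup.mul_mem _ (Subgroup.inv_mem _ hcC) h1
  have hkP := hCS _ hkC hkS
  -- the map `p ↦ p d p⁻¹ d⁻¹` is a bijection of `P`
  have hfmem : ∀ p : (P : Subgroup S), (p : S) * d * (p : S)⁻¹ * d⁻¹ ∈ (P : Subgroup S) := by
    intro p
    have h1 : d * (p : S)⁻¹ * d⁻¹ ∈ (P : Subgroup S) :=
      (hdN' _).mp (Subgroup.inv_mem _ p.2)
    have h2 : (p : S) * d * (p : S)⁻¹ * d⁻¹ = (p : S) * (d * (p : S)⁻¹ * d⁻¹) := by group
    rw [h2]
    exact Subgroup.mul_mem _ p.2 h1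
  have hinj : Function.Injective (fun p : (P : Subgroup S) =>
      (⟨(p : S) * d * (p : S)⁻¹ * d⁻¹, hfmem p⟩ : (P : Subgroup S))) := by
    intro p₁ p₂ he
    have he' : (p₁ : S) * d * (p₁ : S)⁻¹ * d⁻¹ = (p₂ : S) * d * (p₂ : S)⁻¹ * d⁻¹ :=
      congrArg Subtype.val he
    have hx : ((p₂ : S)⁻¹ * (p₁ : S)) * d = d * ((p₂ : S)⁻¹ * (p₁ : S)) := by
      have e1 : (p₁ : S) * d * (p₁ : S)⁻¹ = (p₂ : S) * d * (p₂ : S)⁻¹ := mul_right_cancel he'
      calc ((p₂ : S)⁻¹ * (p₁ : S)) * d = (p₂ : S)⁻¹ * ((p₁ : S) * d * (p₁ : S)⁻¹) * p₁ := by group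
        _ = (p₂ : S)⁻¹ * ((p₂ : S) * d * (p₂ : S)⁻¹) * p₁ := by rw [e1]
        _ = d * ((p₂ : S)⁻¹ * (p₁ : S)) := by group
    have := hfpf _ (Subgroup.mul_mem _ (Subgroup.inv_mem _ p₂.2) p₁.2) hx
    apply Subtype.ext
    exact (inv_mul_eq_one.mp this).symm
  obtain ⟨p, hp⟩ := (Finite.injective_iff_surjective.mp hinj) ⟨_, hkP⟩
  have hp' : ((p : S) : G) * d * ((p : S) : G)⁻¹ * (d : G)⁻¹ = c⁻¹ * (d : G) * c * (d : G)⁻¹ := by
    have := congrArg (fun x : (P : Subgroup S) => ((x : S) : G)) hp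
    simpa using this
  -- the fixed point `w`
  have hwd : c * ((p : S) : G) * d = d * (c * ((p : S) : G)) := by
    have e1 : ((p : S) : G) * d * ((p : S) : G)⁻¹ = c⁻¹ * (d : G) * c := mul_right_cancel hp'
    calc c * ((p : S) : G) * d = c * (((p : S) : G) * d * ((p : S) : G)⁻¹) * ((p : S) : G) := by
          group
      _ = c * (c⁻¹ * (d : G) * c) * ((p : S) : G) := by rw [e1]
      _ = d * (c * ((p : S) : G)) := by group
  have hwS : c * ((p : S) : G) ∉ S := by
    intro hmem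
    apply hcS
    have : c = c * ((p : S) : G) * ((p : S) : G)⁻¹ := by group
    rw [this]
    exact S.mul_mem hmem (S.inv_mem (p : S).2)
  have hw1 : c * ((p : S) : G) ≠ 1 := fun e => hwS (e ▸ S.one_mem)
  have hwt : c * ((p : S) : G) * t = t * (c * ((p : S) : G)) := by
    have e1 : ((p : S) : G) * t = t * ((p : S) : G) :=
      congrArg Subtype.val (hab (p : S) p.2 t htP)
    have e2 : (t : G) * c = c * t := mem_cent_singleton.mp hcC
    rw [mul_assoc, e1, ← mul_assoc, ← e2, mul_assoc]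
  have hKnil := isCTI_cn h _ hw1
  have hdK : (d : G) ∈ Subgroup.centralizer ({c * ((p : S) : G)} : Set G) :=
    mem_cent_singleton.mpr hwd
  have htK : (t : G) ∈ Subgroup.centralizer ({c * ((p : S) : G)} : Set G) :=
    mem_cent_singleton.mpr hwt
  have hcomm := commute_of_nilpotent hKnil hℓ2
    (⟨(d : G), hdK⟩ : Subgroup.centralizer ({c * ((p : S) : G)} : Set G)) ⟨(t : G), htK⟩
    ⟨1, by
      apply Subtype.ext
      rw [pow_one, Subgroup.coe_pow, Subgroup.coe_mk, Subgroup.coe_one, ← Subgroup.coe_pow,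
        ← hord, pow_orderOf_eq_one, Subgroup.coe_one]⟩
    (by
      obtain ⟨k, hk⟩ := P.2 ⟨t, htP⟩
      refine ⟨k, ?_⟩
      apply Subtype.ext
      have hk' : t ^ 2 ^ k = 1 := by
        have := congrArg Subtype.val hk
        simpa using this
      rw [Subgroup.coe_pow, Subgroup.coe_mk, Subgroup.coe_one, ← Subgroup.coe_pow, hk',
        Subgroup.coe_one])
  apply hdP
  rw [← hcent t htP ht1, mem_cent_singleton]
  apply Subtype.ext
  have := congrArg Subtype.val hcomm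
  exact this.symm

end Cfsg.Agent.Lib.Helper26.CTIB
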