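/-
helper26: Package F of helper23's S4064 project (CTI-groups), part 1: the elementary abelian
subgroup `E` of involutions of the Sylow 2-subgroup, the two-point stabilizer `D` and `|D| = |E| - 1`.
-/
import Cfsg.Agent.Lib.Helper23.CTIDefs2
import Cfsg.Agent.Lib.Helper17.CTIA1

set_option autoImplicit false
set_option linter.style.haveILetI false

namespace Cfsg.Agent.Lib.Helper26.CTIF

open Cfsg Cfsg.Agent.Lib.Helper23.CTI Cfsg.Agent.Lib.Helper17.CTIA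

variable {G : Type*} [Group G]

theorem orderOf_eq_two_iff (x : G) : orderOf x = 2 ↔ x ≠ 1 ∧ x * x = 1 := by
  rw [orderOf_eq_prime_iff, pow_two]
  exact and_comm

/-- the normalizer of the Sylow 2-subgroup -/
abbrev ZN (Z : ZData G) : Subgroup G := Subgroup.normalizer ((Z.P : Subgroup G) : Set G)

/-- the subgroup of `P` consisting of the identity and the involutions of `P` -/
def ZE (Z : ZData G) : Subgroup G where
  carrier := {x | x ∈ (Z.P : Subgroup G) ∧ x * x = 1}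
  one_mem' := ⟨Subgroup.one_mem _, mul_one 1⟩
  mul_mem' := by
    rintro x y ⟨hx, hx2⟩ ⟨hy, hy2⟩
    refine ⟨Subgroup.mul_mem _ hx hy, ?_⟩
    have hc : x * y = y * x := by
      by_cases hx1 : x = 1
      · rw [hx1, one_mul, mul_one]
      · exact Z.hcentral x hx ((orderOf_eq_two_iff x).mpr ⟨hx1, hx2⟩) y hy
    calc x * y * (x * y) = x * (y * x) * y := by group
      _ = x * (x * y) * y := by rw [hc]
      _ = (x * x) * (y * y) := by group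
      _ = 1 := by rw [hx2, hy2, one_mul]
  inv_mem' := by
    rintro x ⟨hx, hx2⟩
    refine ⟨Subgroup.inv_mem _ hx, ?_⟩
    rw [← mul_inv_rev, hx2, inv_one]

theorem mem_ZE (Z : ZData G) (x : G) : x ∈ ZE Z ↔ x ∈ (Z.P : Subgroup G) ∧ x * x = 1 := Iff.rfl

theorem ZE_le (Z : ZData G) : ZE Z ≤ (Z.P : Subgroup G) := fun _ hx => hx.1

theorem ZE_central (Z : ZData G) {z x : G} (hz : z ∈ ZE Z) (hx : x ∈ (Z.P : Subgroup G)) :
    z * x = x * z := by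
  by_cases hz1 : z = 1
  · rw [hz1, one_mul, mul_one]
  · exact Z.hcentral z hz.1 ((orderOf_eq_two_iff z).mpr ⟨hz1, hz.2⟩) x hx

theorem ZE_conj (Z : ZData G) {g z : G} (hg : g ∈ ZN Z) (hz : z ∈ ZE Z) :
    g * z * g⁻¹ ∈ ZE Z := by
  rw [Subgroup.mem_set_normalizer_iff] at hg
  refine ⟨(hg z).mp hz.1, ?_⟩
  calc g * z * g⁻¹ * (g * z * g⁻¹) = g * (z * z) * g⁻¹ := by group
    _ = 1 := by rw [hz.2, mul_one, mul_inv_cancel]

theorem invol_of_mem_ZE (Z : ZData G) {z : G} (hz : z ∈ ZE Z) (hz1 : z ≠ 1) : orderOf z = 2 :=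
  (orderOf_eq_two_iff z).mpr ⟨hz1, hz.2⟩

theorem mem_ZE_of_invol (Z : ZData G) {z : G} (hz : z ∈ (Z.P : Subgroup G))
    (hz2 : orderOf z = 2) : z ∈ ZE Z :=
  ⟨hz, ((orderOf_eq_two_iff z).mp hz2).2⟩

theorem u_inv (Z : ZData G) : Z.u⁻¹ = Z.u :=
  inv_eq_of_mul_eq_one_left ((orderOf_eq_two_iff Z.u).mp Z.hu).2

/-- the base point -/
abbrev pa (Z : ZData G) : G ⧸ ZN Z := ((1 : G) : G ⧸ ZN Z)

/-- the second point -/
abbrev pb (Z : ZData G) : G ⧸ ZN Z := ((Z.u : G) : G ⧸ ZN Z)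

theorem pa_ne_pb (Z : ZData G) : pa Z ≠ pb Z := by
  intro h
  rw [QuotientGroup.eq, inv_one, one_mul] at h
  exact Z.huN h

theorem stab_pa (Z : ZData G) : MulAction.stabilizer G (pa Z) = ZN Z :=
  MulAction.stabilizer_quotient _

theorem mem_stab_pb (Z : ZData G) (d : G) :
    d ∈ MulAction.stabilizer G (pb Z) ↔ Z.u * d * Z.u⁻¹ ∈ ZN Z := by
  rw [MulAction.mem_stabilizer_iff]
  have h1 : d • pb Z = ((d * Z.u : G) : G ⧸ ZN Z) := rfl
  rw [h1, QuotientGroup.eq]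
  have h2 : (d * Z.u)⁻¹ * Z.u = (Z.u * d * Z.u⁻¹)⁻¹ := by
    rw [u_inv]
    have := u_inv Z
    calc (d * Z.u)⁻¹ * Z.u = Z.u⁻¹ * d⁻¹ * Z.u := by group
      _ = Z.u⁻¹ * d⁻¹ * Z.u⁻¹ := by rw [this]
      _ = (Z.u * d * Z.u)⁻¹ := by group
  rw [h2, inv_mem_iff]

/-- the two-point stabilizer -/
abbrev ZD (Z : ZData G) : Subgroup G :=
  MulAction.stabilizer G (pa Z) ⊓ MulAction.stabilizer G (pb Z)

theorem mem_ZD (Z : ZData G) (d : G) : d ∈ ZD Z ↔ d ∈ ZN Z ∧ Z.u * d * Z.u⁻¹ ∈ ZN Z := by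
  rw [Subgroup.mem_inf, stab_pa, mem_stab_pb]

theorem ZD_le (Z : ZData G) : ZD Z ≤ ZN Z := fun _ hd => ((mem_ZD Z _).mp hd).1

/-- `P` contains an involution -/
theorem exists_invol [Finite G] (Z : ZData G) : ∃ s ∈ ZE Z, s ≠ 1 := by
  haveI : Fact (Nat.Prime 2) := ⟨Nat.prime_two⟩
  have h2 : 2 ∣ Nat.card G := Z.hu ▸ orderOf_dvd_natCard Z.u
  have h2P : 2 ∣ Nat.card (Z.P : Subgroup G) := Z.P.dvd_card_of_dvd_card h2
  obtain ⟨s, hs⟩ := exists_prime_orderOf_dvd_card' 2 h2P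
  refine ⟨(s : G), ⟨s.2, ?_⟩, ?_⟩
  · have := ((orderOf_eq_two_iff s).mp hs).2
    exact congrArg Subtype.val this
  · intro h1
    exact ((orderOf_eq_two_iff s).mp hs).1 (Subtype.ext h1)

/-- `D` acts regularly on the involutions of `P`, so `|D| = |E| - 1` -/
theorem card_ZD [Finite G] (Z : ZData G) : Nat.card (ZD Z) = Nat.card (ZE Z) - 1 := by
  obtain ⟨s, hsE, hs1⟩ := exists_invol Z
  have hs2 := invol_of_mem_ZE Z hsE hs1
  have hmem : ∀ d : ZD Z, (d : G) * s * (d : G)⁻¹ ∈ ((ZE Z : Set G) \ {1}) := by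
    intro d
    refine ⟨ZE_conj Z (ZD_le Z d.2) hsE, ?_⟩
    intro h1
    apply hs1
    have h1' : (d : G) * s * (d : G)⁻¹ = 1 := h1
    calc s = (d : G)⁻¹ * ((d : G) * s * (d : G)⁻¹) * (d : G) := by group
      _ = 1 := by rw [h1']; group
  have hbij : Function.Bijective (fun d : ZD Z =>
      (⟨(d : G) * s * (d : G)⁻¹, hmem d⟩ : ((ZE Z : Set G) \ {1} : Set G))) := by
    constructor
    · intro d₁ d₂ he
      have he' : (d₁ : G) * s * (d₁ : G)⁻¹ = (d₂ : G) * s * (d₂ : G)⁻¹ := congrArg Subtype.val he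
      have ht := hmem d₂
      obtain ⟨d₀, -, huniq⟩ := Z.hreg s hsE.1 hs2 _ ht.1.1
        (invol_of_mem_ZE Z ht.1 (fun h => ht.2 h))
      have e1 := huniq d₁ ⟨((mem_ZD Z _).mp d₁.2).1, ((mem_ZD Z _).mp d₁.2).2, he'⟩
      have e2 := huniq d₂ ⟨((mem_ZD Z _).mp d₂.2).1, ((mem_ZD Z _).mp d₂.2).2, rfl⟩
      exact Subtype.ext (e1.trans e2.symm)
    · rintro ⟨t, htE, ht1⟩
      obtain ⟨d₀, ⟨hd1, hd2, hd3⟩, -⟩ := Z.hreg s hsE.1 hs2 t htE.1
        (invol_of_mem_ZE Z htE (fun h => ht1 h))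
      exact ⟨⟨d₀, (mem_ZD Z _).mpr ⟨hd1, hd2⟩⟩, Subtype.ext hd3⟩
  rw [Nat.card_eq_of_bijective _ hbij, Nat.card_coe_set_eq,
    Set.ncard_sdiff_singleton_of_mem (Subgroup.one_mem _), ← Nat.card_coe_set_eq]
  rfl

end Cfsg.Agent.Lib.Helper26.CTIF
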