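/-
helper26: Package F of helper23's S4064 project (CTI-groups), part 2: Feit's theorem S0885 applied
to the Zassenhaus data, and the small case `|M| - 1 ≤ 2 e`, which gives a PSL-like group.
-/
import Cfsg.Agent.Lib.Helper26.CTIF1
import Cfsg.Agent.S0885
import Cfsg.Agent.Lib.Helper5.Zassenhaus

set_option autoImplicit false
set_option linter.style.haveILetI false

namespace Cfsg.Agent.Lib.Helper26.CTIF

open Cfsg Cfsg.Agent.Lib.Helper23.CTI Cfsg.Agent.Lib.Helper17.CTIA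

variable {G : Type*} [Group G]

theorem exists_ZD_ne_one (Z : ZData G) : ∃ x ∈ ZD Z, x ≠ 1 := by
  obtain ⟨x, hx1, hxa, hxb⟩ := Cfsg.Agent.Lib.Helper5.Zass.zass_two_point_ne Z.hZ (pa_ne_pb Z)
  exact ⟨x, Subgroup.mem_inf.mpr ⟨MulAction.mem_stabilizer_iff.mpr hxa,
    MulAction.mem_stabilizer_iff.mpr hxb⟩, hx1⟩

theorem two_le_card_ZD [Finite G] (Z : ZData G) : 2 ≤ Nat.card (ZD Z) := by
  obtain ⟨x, hx, hx1⟩ := exists_ZD_ne_one Z
  by_contra hlt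
  have h1 : Nat.card (ZD Z) = 1 := by
    have : 0 < Nat.card (ZD Z) := Nat.card_pos
    omega
  have hbot := Subgroup.card_eq_one.mp h1
  rw [hbot] at hx
  exact hx1 (Subgroup.mem_bot.mp hx)

theorem exists_card_ZE [Finite G] (Z : ZData G) : ∃ n : ℕ, 2 ≤ n ∧ Nat.card (ZE Z) = 2 ^ n := by
  haveI : Fact (Nat.Prime 2) := ⟨Nat.prime_two⟩
  have hp : IsPGroup 2 (ZE Z) := Z.P.2.to_le (ZE_le Z)
  obtain ⟨n, hn⟩ := hp.exists_card_eq
  refine ⟨n, ?_, hn⟩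
  have h1 := two_le_card_ZD Z
  rw [card_ZD, hn] at h1
  by_contra hlt
  have : n = 0 ∨ n = 1 := by omega
  rcases this with rfl | rfl <;> simp at h1

theorem odd_card_ZD [Finite G] (Z : ZData G) : Odd (Nat.card (ZE Z) - 1) := by
  obtain ⟨n, hn, hq⟩ := exists_card_ZE Z
  obtain ⟨k, rfl⟩ : ∃ k, n = k + 1 := ⟨n - 1, by omega⟩
  rw [hq, pow_succ]
  have : 1 ≤ 2 ^ k := Nat.one_le_two_pow
  exact ⟨2 ^ k - 1, by omega⟩

/-- Feit's theorem S0885 applied to the Zassenhaus data -/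
theorem feit [Finite G] (Z : ZData G) :
    Nat.card Z.M - 1 ≤ 2 * (Nat.card (ZE Z) - 1) ∨
      (IsPGroup 2 Z.M ∧ ∃ x y : Z.M, x * y ≠ y * x) := by
  classical
  letI : Fintype (G ⧸ ZN Z) := Fintype.ofFinite _
  have hh : Fintype.card (G ⧸ ZN Z) = Nat.card Z.M + 1 := by
    rw [← Nat.card_eq_fintype_card]
    exact Z.hcard
  have hHa : Z.M ≤ MulAction.stabilizer G (pa Z) := by
    rw [stab_pa]
    exact Z.hMN
  rcases Cfsg.Agent.S0885.result Z.hZ (pa_ne_pb Z) (Nat.card Z.M) (Nat.card (ZE Z) - 1) hh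
    (card_ZD Z) (odd_card_ZD Z) Z.M hHa hh.symm Z.hfix with h | ⟨h1, h2, -⟩
  · exact Or.inl h
  · exact Or.inr ⟨h1, h2⟩

/-- the small case: `G` is PSL-like -/
theorem psllike_of_small [Finite G] [IsSimpleGroup G] (Z : ZData G)
    (hM : Nat.card Z.M - 1 ≤ 2 * (Nat.card (ZE Z) - 1)) : PSLlike G := by
  obtain ⟨n, hn, hq⟩ := exists_card_ZE Z
  have hq4 : 4 ≤ Nat.card (ZE Z) := by
    rw [hq]
    calc 4 = 2 ^ 2 := by norm_num
      _ ≤ 2 ^ n := Nat.pow_le_pow_right (by norm_num) hn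
  have hdvd : Nat.card (ZE Z) ∣ Nat.card Z.M := Subgroup.card_dvd_of_le ((ZE_le Z).trans Z.hPM)
  have hMpos : 0 < Nat.card Z.M := Nat.card_pos
  obtain ⟨k, hk⟩ := hdvd
  have hk1 : k = 1 := by
    rcases Nat.lt_or_ge k 2 with hlt | hge
    · rcases Nat.eq_zero_or_pos k with rfl | hpos
      · rw [mul_zero] at hk; omega
      · omega
    · exfalso
      have : Nat.card (ZE Z) * 2 ≤ Nat.card (ZE Z) * k := Nat.mul_le_mul_left _ hge
      omega
  rw [hk1, mul_one] at hk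
  have hEM : ZE Z = Z.M :=
    Subgroup.eq_of_le_of_card_ge ((ZE_le Z).trans Z.hPM) (le_of_eq hk)
  have hPM' : (Z.P : Subgroup G) = Z.M := le_antisymm Z.hPM (hEM ▸ ZE_le Z)
  have hPE : (Z.P : Subgroup G) = ZE Z := hPM'.trans hEM.symm
  refine ⟨inferInstance, Z.P, ?_, ?_, ?_, ?_⟩
  · rw [hPE]
    exact hq4
  · intro t ht ht1
    have htE : t ∈ ZE Z := hPE ▸ ht
    rw [Z.hcent t ht (invol_of_mem_ZE Z htE ht1), hPM']
  · intro s hs hs1 t ht ht1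
    have hsE : s ∈ ZE Z := hPE ▸ hs
    have htE : t ∈ ZE Z := hPE ▸ ht
    obtain ⟨d, ⟨hd1, -, hd3⟩, -⟩ := Z.hreg s hs (invol_of_mem_ZE Z hsE hs1) t ht
      (invol_of_mem_ZE Z htE ht1)
    exact ⟨d, hd1, hd3⟩
  · rw [Subgroup.index_eq_card, Z.hcard, hPM']

end Cfsg.Agent.Lib.Helper26.CTIF
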