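/-
helper26: Package F of helper23's S4064 project (CTI-groups), part 3: the big case.  `M = P` is a
Suzuki 2-group; with the counting leaf `suzuki_count` (helper17) and the CTI hypothesis we obtain the
residual configuration `KillData`.
-/
import Cfsg.Agent.Lib.Helper26.CTIF2
import Cfsg.Agent.S0345
import Cfsg.Agent.S1137
import Cfsg.Agent.S1138
import Cfsg.Agent.Lib.Helper17.CTIFsuzuki_count

set_option autoImplicit false
set_option linter.style.haveILetI false

namespace Cfsg.Agent.Lib.Helper26.CTIF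

open Cfsg Cfsg.Agent.Lib.Helper23.CTI Cfsg.Agent.Lib.Helper17.CTIA

variable {G : Type*} [Group G]

/-- conjugation action of the two-point stabilizer on the Sylow 2-subgroup -/
noncomputable def conjHom (Z : ZData G) : ZD Z →* MulAut (Z.P : Subgroup G) :=
  (Subgroup.normalizerMonoidHom (Z.P : Subgroup G)).comp (Subgroup.inclusion (ZD_le Z))

theorem conjHom_apply (Z : ZData G) (d : ZD Z) (x : (Z.P : Subgroup G)) :
    ((conjHom Z d) x : G) = (d : G) * x * (d : G)⁻¹ := rfl

theorem M_eq_P (Z : ZData G) (hM : IsPGroup 2 Z.M) : Z.M = (Z.P : Subgroup G) :=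
  Z.P.3 hM Z.hPM

theorem isSuzuki [Finite G] [IsSimpleGroup G] (Z : ZData G)
    (hna : ∃ x y : (Z.P : Subgroup G), x * y ≠ y * x) :
    IsSuzukiTwoGroup (Z.P : Subgroup G) := by
  refine ⟨inferInstance, Z.P.2, hna, ?_, (conjHom Z).range, ?_, ?_⟩
  · -- two distinct involutions
    obtain ⟨s, hsE, hs1⟩ := exists_invol Z
    obtain ⟨d, hd, hd1⟩ := exists_ZD_ne_one Z
    have hs2 := invol_of_mem_ZE Z hsE hs1
    have hdN := ZD_le Z hd
    have htE : d * s * d⁻¹ ∈ ZE Z := ZE_conj Z hdN hsE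
    have ht1 : d * s * d⁻¹ ≠ 1 := by
      intro h1
      apply hs1
      calc s = d⁻¹ * (d * s * d⁻¹) * d := by group
        _ = 1 := by rw [h1]; group
    refine ⟨⟨s, hsE.1⟩, ⟨d * s * d⁻¹, htE.1⟩, ?_, ?_, ?_, ?_, ?_⟩
    · intro he
      have he' : s = d * s * d⁻¹ := congrArg Subtype.val he
      obtain ⟨d₀, -, huniq⟩ := Z.hreg s hsE.1 hs2 s hsE.1 hs2
      have e1 := huniq d ⟨((mem_ZD Z _).mp hd).1, ((mem_ZD Z _).mp hd).2, he'.symm⟩
      have e2 := huniq 1 ⟨Subgroup.one_mem _, by simp, by simp⟩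
      exact hd1 (e1.trans e2.symm)
    · intro h1
      exact hs1 (congrArg Subtype.val h1)
    · exact Subtype.ext hsE.2
    · intro h1
      exact ht1 (congrArg Subtype.val h1)
    · exact Subtype.ext htE.2
  · haveI : IsCyclic (ZD Z) := (Cfsg.Agent.S0345.result Z.hZ (pa_ne_pb Z)).1
    exact isCyclic_of_surjective (conjHom Z).rangeRestrict (conjHom Z).rangeRestrict_surjective
  · intro x y hx1 hx2 hy1 hy2
    have hxo : orderOf (x : G) = 2 :=
      (orderOf_eq_two_iff _).mpr ⟨fun e => hx1 (Subtype.ext e), congrArg Subtype.val hx2⟩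
    have hyo : orderOf (y : G) = 2 :=
      (orderOf_eq_two_iff _).mpr ⟨fun e => hy1 (Subtype.ext e), congrArg Subtype.val hy2⟩
    obtain ⟨d₀, ⟨hd1, hd2, hd3⟩, huniq⟩ := Z.hreg (x : G) x.2 hxo (y : G) y.2 hyo
    refine ⟨⟨conjHom Z ⟨d₀, (mem_ZD Z _).mpr ⟨hd1, hd2⟩⟩, ⟨_, rfl⟩⟩, ?_, ?_⟩
    · exact Subtype.ext hd3
    · rintro ⟨k, ⟨d', rfl⟩⟩ hk
      have hk' : (d' : G) * x * (d' : G)⁻¹ = y := congrArg Subtype.val hk
      have e1 := huniq d' ⟨((mem_ZD Z _).mp d'.2).1, ((mem_ZD Z _).mp d'.2).2, hk'⟩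
      have : d' = ⟨d₀, (mem_ZD Z _).mpr ⟨hd1, hd2⟩⟩ := Subtype.ext e1
      apply Subtype.ext
      simp only [this]

theorem mem_center_iff (Z : ZData G) (hS : IsSuzukiTwoGroup (Z.P : Subgroup G))
    (x : (Z.P : Subgroup G)) : x ∈ Subgroup.center (Z.P : Subgroup G) ↔ (x : G) ∈ ZE Z := by
  have h37 := Cfsg.Agent.S1137.result hS
  constructor
  · intro hx
    exact ⟨x.2, congrArg Subtype.val (h37.2 x hx)⟩
  · intro hx
    by_cases hx1 : x = 1
    · rw [hx1]; exact Subgroup.one_mem _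
    · exact ((h37.1 x).mp ⟨hx1, Subtype.ext hx.2⟩).1

theorem card_center (Z : ZData G) (hS : IsSuzukiTwoGroup (Z.P : Subgroup G)) :
    Nat.card (Subgroup.center (Z.P : Subgroup G)) = Nat.card (ZE Z) :=
  Nat.card_congr
    { toFun := fun x => ⟨((x : (Z.P : Subgroup G)) : G), (mem_center_iff Z hS _).mp x.2⟩
      invFun := fun z => ⟨⟨(z : G), ZE_le Z z.2⟩, (mem_center_iff Z hS _).mpr z.2⟩
      left_inv := fun _ => rfl
      right_inv := fun _ => rfl }

/-- the big case: the residual configuration -/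
theorem killData_of_big [Finite G] [IsSimpleGroup G] (h : IsCTI G) (Z : ZData G)
    (hbig : ¬ (Nat.card Z.M - 1 ≤ 2 * (Nat.card (ZE Z) - 1)))
    (hM2 : IsPGroup 2 Z.M) (hna : ∃ x y : Z.M, x * y ≠ y * x) : HasKillData G := by
  classical
  have hMP := M_eq_P Z hM2
  have hnaP : ∃ x y : (Z.P : Subgroup G), x * y ≠ y * x := by
    obtain ⟨x, y, hxy⟩ := hna
    refine ⟨⟨x, hMP ▸ x.2⟩, ⟨y, hMP ▸ y.2⟩, fun e => hxy (Subtype.ext ?_)⟩
    have e' := congrArg Subtype.val e
    exact e'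
  have hS := isSuzuki Z hnaP
  obtain ⟨n, hn, hq⟩ := exists_card_ZE Z
  have h37 := Cfsg.Agent.S1137.result hS
  have h38 := Cfsg.Agent.S1138.result hS
  have hqc : Nat.card (Subgroup.center (Z.P : Subgroup G)) = 2 ^ n := by
    rw [card_center Z hS, hq]
  have hD : Nat.card (ZD Z) = 2 ^ n - 1 := by rw [card_ZD, hq]
  have hsq1 : ∀ x : (Z.P : Subgroup G), x * x = 1 → x ∈ Subgroup.center (Z.P : Subgroup G) := by
    intro x hx
    by_cases hx1 : x = 1
    · rw [hx1]; exact Subgroup.one_mem _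
    · exact ((h37.1 x).mp ⟨hx1, hx⟩).1
  have hcomm : ∀ x y : (Z.P : Subgroup G),
      x * y * x⁻¹ * y⁻¹ ∈ Subgroup.center (Z.P : Subgroup G) := by
    intro x y
    have := h38.2.1 x⁻¹ y⁻¹
    simpa only [inv_inv] using this
  have hfree : ∀ d : ZD Z, ∀ z ∈ Subgroup.center (Z.P : Subgroup G), z ≠ 1 →
      conjHom Z d z = z → d = 1 := by
    intro d z hz hz1 hdz
    have hzE := (mem_center_iff Z hS z).mp hz
    have hz1' : (z : G) ≠ 1 := fun e => hz1 (Subtype.ext e)
    have hzo := invol_of_mem_ZE Z hzE hz1'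
    obtain ⟨d₀, -, huniq⟩ := Z.hreg (z : G) z.2 hzo (z : G) z.2 hzo
    have hdz' : (d : G) * z * (d : G)⁻¹ = z := congrArg Subtype.val hdz
    have e1 := huniq d ⟨((mem_ZD Z _).mp d.2).1, ((mem_ZD Z _).mp d.2).2, hdz'⟩
    have e2 := huniq 1 ⟨Subgroup.one_mem _, by simp, by simp⟩
    exact Subtype.ext (e1.trans e2.symm)
  have hinv : ∀ d : ZD Z, ∀ x y : (Z.P : Subgroup G), y ∉ Subgroup.center (Z.P : Subgroup G) →
      x * y = y * x → conjHom Z d x * y = y * conjHom Z d x := by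
    intro d x y hy hxy
    -- `s = y²` is a non-identity element of `E`
    have hsE : (y : G) * (y : G) ∈ ZE Z := (mem_center_iff Z hS (y * y)).mp (h38.1 y)
    have hs1 : (y : G) * (y : G) ≠ 1 := by
      intro e
      exact hy (hsq1 y (Subtype.ext e))
    have hsC : (y : G) * (y : G) ∈ Subgroup.centralizer ({(y : G)} : Set G) := by
      rw [mem_cent_singleton, mul_assoc]
    have hdN := ZD_le Z d.2
    have hdsE := ZE_conj Z hdN hsE
    have hdsC : (d : G) * ((y : G) * (y : G)) * (d : G)⁻¹ ∈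
        Subgroup.centralizer ({(y : G)} : Set G) := by
      rw [mem_cent_singleton]
      exact (ZE_central Z hdsE y.2).symm
    have hnorm := cti_mem_normalizer h hsC hs1 hdsC
    rw [Subgroup.mem_set_normalizer_iff] at hnorm
    have hxC : (x : G) ∈ Subgroup.centralizer ({(y : G)} : Set G) := by
      rw [mem_cent_singleton]
      exact (congrArg Subtype.val hxy).symm
    have hdx := (hnorm (x : G)).mp hxC
    rw [SetLike.mem_coe, mem_cent_singleton] at hdx
    apply Subtype.ext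
    exact hdx.symm
  have hcard : Nat.card (Z.P : Subgroup G) = (2 ^ n) ^ 2 ∨
      Nat.card (Z.P : Subgroup G) = (2 ^ n) ^ 3 := by
    have := h38.2.2.1
    rw [hqc] at this
    exact this
  obtain ⟨hP3, hconj⟩ := Cfsg.Agent.Lib.Helper17.CTIFLeaf.suzuki_count (conjHom Z) n hn hqc hD
    h38.1 hsq1 h37.2 hcomm hfree hinv hcard hnaP
  have hMcard : Nat.card Z.M = (2 ^ n) ^ 3 := by rw [hMP, hP3]
  refine ⟨G ⧸ ZN Z, inferInstance, Fintype.ofFinite _, pa Z, pb Z, (Z.P : Subgroup G), ZE Z, n,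
    ?_⟩
  letI : Fintype (G ⧸ ZN Z) := Fintype.ofFinite _
  have hh : Fintype.card (G ⧸ ZN Z) = (2 ^ n) ^ 3 + 1 := by
    rw [← Nat.card_eq_fintype_card, ← hMcard]
    exact Z.hcard
  refine
    { hn := hn
      S :=
        { hZ := Z.hZ
          hab := pa_ne_pb Z
          simple := inferInstance
          hh := hh
          he := hD
          hodd := by
            have := odd_card_ZD Z
            rwa [hq] at this
          hlt := by
            rw [hMcard, hq] at hbig
            omega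
          hHa := by
            rw [stab_pa]
            exact Subgroup.le_normalizer
          hHcard := by rw [hP3, hh]
          hHfix := fun u hu hu1 c hc => Z.hfix u (hMP ▸ hu) hu1 c hc }
      hEH := ZE_le Z
      hEcard := hq
      hEcentral := fun z hz x hx => ZE_central Z hz hx
      hEnorm := fun g hg z hz => ZE_conj Z hg hz
      hcomm := ?_
      hconj := ?_ }
  · intro x hx y hy
    have := hcomm ⟨x, hx⟩ ⟨y, hy⟩
    exact (mem_center_iff Z hS _).mp this
  · intro x hx hxE z hz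
    have hxc : (⟨x, hx⟩ : (Z.P : Subgroup G)) ∉ Subgroup.center (Z.P : Subgroup G) :=
      fun hc => hxE ((mem_center_iff Z hS _).mp hc)
    have hzc : (⟨z, ZE_le Z hz⟩ : (Z.P : Subgroup G)) ∈ Subgroup.center (Z.P : Subgroup G) :=
      (mem_center_iff Z hS _).mpr hz
    obtain ⟨g, hg⟩ := hconj _ hxc _ hzc
    exact ⟨(g : G), g.2, congrArg Subtype.val hg⟩

/-- **Package F**: a simple CTI-group with Zassenhaus data is PSL-like or carries the residual
configuration. -/
theorem psllike_or_hasKillData.{u} {G : Type u} [Group G] [Finite G] (h : IsCTI G)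
    [IsSimpleGroup G] (Z : ZData G) : PSLlike G ∨ HasKillData G := by
  by_cases hM : Nat.card Z.M - 1 ≤ 2 * (Nat.card (ZE Z) - 1)
  · exact Or.inl (psllike_of_small Z hM)
  · rcases feit Z with h1 | ⟨h1, h2⟩
    · exact absurd h1 hM
    · exact Or.inr (killData_of_big h Z hM h1 h2)

end Cfsg.Agent.Lib.Helper26.CTIF
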