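import Cfsg.Agent.Lib.Helper26.FSExtendMod
import Cfsg.Prelude.Def_FusionComponents

/-!
S5153: fully normalized subgroups descend to subnormal subsystems.
-/

set_option autoImplicit false

namespace Cfsg.Agent.Lib.Helper26

open Cfsg Cfsg.FusionSystem

variable {Ω : Type*} [Group Ω]

theorem isConj_of_subsystem {S U : Subgroup Ω} {F : FusionSystem S} {D : FusionSystem U} (hD : D.IsSubsystemOf F)
    {P Q : Subgroup Ω} (h : D.IsConj P Q) : F.IsConj P Q := by
  obtain ⟨φ, hφ, hr⟩ := h
  exact ⟨φ, hD P hφ, hr⟩

/-- A fully normalized subgroup of `F` inside a strongly closed `U` is fully normalized in every subsystem over `U`. -/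
theorem fullyNormalized_of_subsystem {S : Subgroup Ω} [Finite S] {p : ℕ} [Fact p.Prime] (hS : IsPGroup p S)
    (F : FusionSystem S) (hF : F.IsSaturated p) {U : Subgroup Ω} (D : FusionSystem U) (hD : D.IsSubsystemOf F)
    (hU : F.StronglyClosed U) {P : Subgroup Ω} (hPU : P ≤ U) (hP : F.IsFullyNormalized P) :
    D.IsFullyNormalized P := by
  refine ⟨hPU, fun P' hPP' => ?_⟩
  have hFconj : F.IsConj P' P := isConj_symm F (isConj_of_subsystem hD hPP')
  have hA := (saturated_fn hS F hF hP).2
  have hR := saturated_fn_receptive hS F hF hP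
  obtain ⟨φ, hφ, hval, -⟩ := exists_normalizer_hom hS F hA hR hFconj
  have hle : normalizerIn U P' ≤ normalizerIn S P' := inf_le_inf_right _ hU.1
  have hfin : Finite (normalizerIn U P) := finite_of_le ((normalizerIn_le U P).trans hU.1)
  let f : normalizerIn U P' → normalizerIn U P := fun x =>
    ⟨φ (Subgroup.inclusion hle x), by
      refine ⟨apply_mem_of_stronglyClosed F hU hφ _ x.2.1, ?_⟩
      exact (hval (Subgroup.inclusion hle x)).2⟩
  have hf : Function.Injective f := by
    intro a b hab
    have h1 : φ (Subgroup.inclusion hle a) = φ (Subgroup.inclusion hle b) := congrArg Subtype.val hab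
    exact Subgroup.inclusion_injective hle (F.injective_of_mem hφ h1)
  exact Nat.card_le_card_of_injective f hf

theorem le_of_isSubnormalIn {p : ℕ} {T S : Subgroup Ω} {E : FusionSystem T} {F : FusionSystem S}
    (hE : E.IsSubnormalIn F p) : T ≤ S := by
  induction hE with
  | refl F p => exact le_rfl
  | step _ hDF ih => exact ih.trans hDF.1.2.2.2.1.1

/-- S5153. -/
theorem fullyNormalized_of_subnormal {p : ℕ} {T S : Subgroup Ω} {E : FusionSystem T} {F : FusionSystem S}
    (hE : E.IsSubnormalIn F p) : Fact p.Prime → Finite S → IsPGroup p S → F.IsSaturated p →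
    ∀ P : Subgroup Ω, P ≤ T → F.IsFullyNormalized P → E.IsFullyNormalized P := by
  induction hE with
  | refl F p =>
    intro _ _ _ _ P _ hP
    exact hP
  | step hED hDF ih =>
    rename_i T U S E D F p
    intro hp hfin hS hF P hPT hP
    have hUsc : F.StronglyClosed U := hDF.1.2.2.2.1
    have hDsub : D.IsSubsystemOf F := hDF.1.2.2.1
    have hDsat : D.IsSaturated p := hDF.1.1
    have hTU : T ≤ U := le_of_isSubnormalIn hED
    have hPD : D.IsFullyNormalized P := fullyNormalized_of_subsystem hS F hF D hDsub hUsc (hPT.trans hTU) hP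
    have hfinU : Finite U := finite_of_le hUsc.1
    exact ih hp hfinU (hS.to_le hUsc.1) hDsat P hPT hPD

end Cfsg.Agent.Lib.Helper26
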