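import Cfsg.Agent.Lib.Helper26.FSTrF
import Cfsg.Agent.Lib.Helper26.FSSubnormal

/-!
Transport of fusion systems along an isomorphism: composition, systems invariant under an automorphism.
-/

set_option autoImplicit false

namespace Cfsg.Agent.Lib.Helper26.FSTr

open Cfsg Cfsg.FusionSystem Cfsg.Agent.Lib.Helper26

section Trans

variable {Ω Ω' Ω'' : Type*} [Group Ω] [Group Ω'] [Group Ω''] {U : Subgroup Ω} {U' : Subgroup Ω'}
  {U'' : Subgroup Ω''}

theorem mapS_trans (e : U ≃* U') (f : U' ≃* U'') (P : Subgroup Ω) :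
    mapS (e.trans f) P = mapS f (mapS e P) := by
  ext z
  constructor
  · intro hz
    obtain ⟨x, hx, rfl⟩ := mem_mapS.mp hz
    exact apply_mem_mapS f (e x) (apply_mem_mapS e x hx)
  · intro hz
    obtain ⟨y, hy, rfl⟩ := mem_mapS.mp hz
    obtain ⟨x, hx, hxy⟩ := mem_mapS.mp hy
    have : e x = y := Subtype.ext hxy
    rw [← this]
    exact apply_mem_mapS (e.trans f) x hx

theorem Ind.trans {e : U ≃* U'} {f : U' ≃* U''} {P : Subgroup Ω} {φ : P →* Ω} {P' : Subgroup Ω'}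
    {φ' : P' →* Ω'} {P'' : Subgroup Ω''} {φ'' : P'' →* Ω''} (h₁ : Ind e φ φ') (h₂ : Ind f φ' φ'')
    (hPP' : mapS e P ≤ P') : Ind (e.trans f) φ φ'' := by
  intro x hx hφx h'
  have hx' : ((e ⟨x, hx⟩ : U') : Ω') ∈ P' := hPP' (apply_mem_mapS e ⟨x, hx⟩ x.2)
  have h3 := h₁ x hx hφx hx'
  have h4 := h₂ ⟨_, hx'⟩ (e ⟨x, hx⟩).2 (h3 ▸ (e ⟨φ x, hφx⟩).2) h'
  show φ'' ⟨((f (e ⟨x, hx⟩) : U'') : Ω''), h'⟩ = ((f (e ⟨φ x, hφx⟩) : U'') : Ω'')
  rw [h4]
  congr 2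
  exact Subtype.ext h3

variable {e : U ≃* U'} {f : U' ≃* U''} {T : Subgroup Ω} {E : FusionSystem T} {T' : Subgroup Ω'}
  {E' : FusionSystem T'} {T'' : Subgroup Ω''} {E'' : FusionSystem T''}

theorem Img.trans (h₁ : Img e E E') (h₂ : Img f E' E'') : Img (e.trans f) E E'' := by
  refine ⟨h₁.le, ?_, fun P'' φ'' => ?_⟩
  · rw [h₂.eq, h₁.eq, mapS_trans]
  · constructor
    · intro hφ''
      obtain ⟨P', φ', hφ', hP', hind'⟩ := h₂.exists_lift hφ''
      obtain ⟨P, φ, hφ, hP, hind⟩ := h₁.exists_lift hφ'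
      refine ⟨P, φ, hφ, ?_, hind.trans hind' hP.le⟩
      rw [mapS_trans, hP, hP']
    · rintro ⟨P, φ, hφ, hP, hind⟩
      have hPU : P ≤ U := (hom_le E hφ).trans h₁.le
      have hφU : ∀ x, φ x ∈ U := fun x => h₁.le (hom_apply_mem E hφ x)
      have hφ' := h₁.mapH_mem hφ
      rw [mapS_trans] at hP
      subst hP
      refine h₂.mem_of_ind hφ' ?_
      -- `φ''` is induced by `mapH e φ` along `f`
      intro y hy hφy h'
      obtain ⟨x, rfl⟩ := (eqvS e hPU).surjective y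
      have e1 : (⟨((eqvS e hPU x : mapS e P) : Ω'), hy⟩ : U') = e ⟨x, hPU x.2⟩ := Subtype.ext rfl
      have h3 := hind x (hPU x.2) (hφU x) (by
        show ((f (e ⟨x, hPU x.2⟩) : U'') : Ω'') ∈ _
        rw [← e1]
        exact h')
      have e2 : (⟨mapH e hPU φ hφU (eqvS e hPU x), hφy⟩ : U') = e ⟨φ x, hφU x⟩ :=
        Subtype.ext (mapH_eqvS e hPU φ hφU x)
      rw [e2]
      have h3' : φ'' ⟨((f (e ⟨x, hPU x.2⟩) : U'') : Ω''), (by
          show ((f (e ⟨x, hPU x.2⟩) : U'') : Ω'') ∈ _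
          rw [← e1]
          exact h')⟩ = ((f (e ⟨φ x, hφU x⟩) : U'') : Ω'') := h3
      rw [← h3']
      congr 1

end Trans

section SelfImg

variable {Ω : Type*} [Group Ω] {U : Subgroup Ω} {T : Subgroup Ω} {D : FusionSystem T}

/-- A system stable under `e` and `e.symm` is its own image. -/
theorem img_self (e : U ≃* U) (hTU : T ≤ U) (hTT : mapS e T = T)
    (h₁ : ∀ (P : Subgroup Ω) (φ : P →* Ω), φ ∈ D.Hom P → ∀ φ' : mapS e P →* Ω, Ind e φ φ' →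
      φ' ∈ D.Hom (mapS e P))
    (h₂ : ∀ (P : Subgroup Ω) (φ : P →* Ω), φ ∈ D.Hom P → ∀ φ' : mapS e.symm P →* Ω, Ind e.symm φ φ' →
      φ' ∈ D.Hom (mapS e.symm P)) :
    Img e D D := by
  refine ⟨hTU, hTT.symm, fun P' φ' => ⟨fun hφ' => ?_, ?_⟩⟩
  · have hP'U : P' ≤ U := (hom_le D hφ').trans hTU
    have hφ'U : ∀ x, φ' x ∈ U := fun x => hTU (hom_apply_mem D hφ' x)
    refine ⟨mapS e.symm P', mapH e.symm hP'U φ' hφ'U, h₂ P' φ' hφ' _ (ind_mapH e.symm hP'U φ' hφ'U),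
      mapS_mapS_symm e hP'U, ?_⟩
    have := (ind_mapH e.symm hP'U φ' hφ'U).symm hφ'U
    simpa using this
  · rintro ⟨P, φ, hφ, hP, hind⟩
    subst hP
    exact h₁ P φ hφ φ' hind

/-- Conjugating a map of `F` by a map of `F` gives a map of `F`. -/
theorem conj_mem_of_mem {S : Subgroup Ω} (F : FusionSystem S) {U' : Subgroup Ω} (e : U ≃* U')
    (he : toHom e ∈ F.Hom U) {P : Subgroup Ω} {φ : P →* Ω} (hφ : φ ∈ F.Hom P) (hPU : P ≤ U)
    (hφU : ∀ x, φ x ∈ U) {φ' : mapS e P →* Ω} (hind : Ind e φ φ') : φ' ∈ F.Hom (mapS e P) := by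
  have hεP : (toHom e).comp (Subgroup.inclusion hPU) ∈ F.Hom P := inclusion_comp_mem F hPU he
  obtain ⟨ι, hι, hιx⟩ := F.inv_mem hεP
  have hιP : ∀ z, ι z ∈ P := by
    rintro ⟨_, x, rfl⟩
    rw [hιx]
    exact x.2
  have h1 := F.comp_mem hι hφ hιP
  have h2 := F.comp_mem h1 he (fun z => hφU _)
  have hr : ((toHom e).comp (Subgroup.inclusion hPU)).range = mapS e P := by
    ext z
    constructor
    · rintro ⟨x, rfl⟩
      exact apply_mem_mapS e ⟨x, hPU x.2⟩ x.2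
    · intro hz
      obtain ⟨x, hx, rfl⟩ := mem_mapS.mp hz
      exact ⟨⟨x, hx⟩, rfl⟩
  have h3 := hom_congr F hr h2
  have e1 : φ' = ((toHom e).comp ((φ.comp (ι.codRestrict P hιP)).codRestrict U (fun z => hφU _))).comp
      (Subgroup.inclusion hr.ge) := by
    ext y
    obtain ⟨x, rfl⟩ := (eqvS e hPU).surjective y
    have e2 : eqvS e hPU x = (⟨((e ⟨x, hPU x.2⟩ : U') : Ω), apply_mem_mapS e ⟨x, hPU x.2⟩ x.2⟩ : mapS e P) :=
      Subtype.ext rfl
    rw [e2, hind x (hPU x.2) (hφU x)]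
    have e3 : ι.codRestrict P hιP (Subgroup.inclusion hr.ge
        (⟨((e ⟨x, hPU x.2⟩ : U') : Ω), apply_mem_mapS e ⟨x, hPU x.2⟩ x.2⟩ : mapS e P)) = x :=
      Subtype.ext (hιx x)
    show _ = ((e ⟨φ (ι.codRestrict P hιP (Subgroup.inclusion hr.ge _)), _⟩ : U') : Ω)
    congr 3
    rw [e3]
  rw [e1]
  exact h3

/-- A subsystem invariant under `Aut_F(T)` is its own image under an element of `Aut_F(T)`. -/
theorem img_self_of_autInv {S : Subgroup Ω} {F : FusionSystem S} (hinv : AutInv D F) (α : MulAut T)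
    (hα : α ∈ F.autGroup T) : Img (α : T ≃* T) D D := by
  have key : ∀ β : MulAut T, β ∈ F.autGroup T → ∀ (P : Subgroup Ω) (φ : P →* Ω), φ ∈ D.Hom P →
      ∀ φ' : mapS (β : T ≃* T) P →* Ω, Ind (β : T ≃* T) φ φ' → φ' ∈ D.Hom (mapS (β : T ≃* T) P) := by
    intro β hβ P φ hφ φ' hind
    have hPT : P ≤ T := hom_le D hφ
    obtain ⟨χ, hχ, hχ'⟩ := hinv.exists hPT hφ hβ
    have hχind : Ind (β : T ≃* T) φ (P' := mapS (β : T ≃* T) P) χ := by
      intro x hx hφx h'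
      exact hχ' ⟨x, hx⟩ x.2 h'
    have := Ind.unique hPT (hom_apply_mem D hφ) hind hχind
    rw [this]
    exact hχ
  refine img_self (α : T ≃* T) le_rfl (mapS_self _) (key α hα) ?_
  exact key α⁻¹ ((F.autGroup T).inv_mem hα)

end SelfImg

end Cfsg.Agent.Lib.Helper26.FSTr
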