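import Cfsg.Agent.Lib.Helper26.CravF
import Cfsg.Agent.Lib.Helper26.FSTrG

/-!
Towards S5141, part G: the `p'`-residual of a weakly normal subsystem is weakly normal; conclusion.
-/

set_option autoImplicit false

namespace Cfsg.Agent.Lib.Helper26.Crav

open Cfsg Cfsg.FusionSystem Cfsg.Agent.Lib.Helper26 Cfsg.Agent.Lib.Helper27 Cfsg.Agent.Lib.Helper26.PPLeast

variable {Ω : Type*} [Group Ω] {S T : Subgroup Ω}

/-- The image of a system over `T` under an automorphism of `T`, as a system over `T`. -/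
theorem exists_img_self [Finite T] (β : MulAut T) (D : FusionSystem T) :
    ∃ Dβ : FusionSystem T, FSTr.Img (β : T ≃* T) D Dβ := by
  obtain ⟨D₁, h₁⟩ := FSTr.exists_img (β : T ≃* T) le_rfl D
  have hT : FSTr.mapS (β : T ≃* T) T = T := FSTr.mapS_self _
  revert D₁
  rw [hT]
  intro D₁ h₁
  exact ⟨D₁, h₁⟩

section

variable [Finite S] {p : ℕ} [Fact p.Prime]

/-- The `p'`-residual of `E` is contained in each of its images under `Aut_F(T)`. -/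
theorem pPrimeResidual_le_img (hS : IsPGroup p S) (F : FusionSystem S) (E : FusionSystem T)
    (hE : E.IsInvariantIn F) (D : FusionSystem T) (hD : E.IsPPrimeResidual p D) (β : MulAut T)
    (hβ : β ∈ F.autGroup T) (Dβ : FusionSystem T) (hImg : FSTr.Img (β : T ≃* T) D Dβ) :
    D.IsSubsystemOf Dβ := by
  have hTS : T ≤ S := hE.2.1.1
  have hTp : IsPGroup p T := hS.to_le hTS
  have hfinT : Finite T := finite_of_le hTS
  have hEE : FSTr.Img (β : T ≃* T) E E := FSTr.img_self_of_autInv hE.2.2.1 β hβ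
  apply hD.2.2 Dβ (hImg.isSaturated hTp hD.1)
  refine ⟨hImg.isSubsystemOf hEE hD.2.1.1, fun P' hP'T => ?_⟩
  rw [MonoidHom.map_closure, Subgroup.closure_le]
  rintro _ ⟨ξ', ⟨k, hk⟩, rfl⟩
  show (ξ' : MulAut P') ∈ Dβ.autGroup P'
  have hPP' : FSTr.mapS (β : T ≃* T) (FSTr.mapS (β : T ≃* T).symm P') = P' := FSTr.mapS_mapS_symm _ hP'T
  have hPT : FSTr.mapS (β : T ≃* T).symm P' ≤ T := FSTr.mapS_le _ _
  obtain ⟨ξ, hξ⟩ : ∃ ξ, ξ = (FSTr.autMap (β : T ≃* T) hPT hPP').symm (ξ' : MulAut P') := ⟨_, rfl⟩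
  have hξ' : FSTr.autMap (β : T ≃* T) hPT hPP' ξ = (ξ' : MulAut P') := by
    rw [hξ, MulEquiv.apply_symm_apply]
  have hξE : ξ ∈ E.autGroup _ := by
    rw [← hEE.autMap_mem_iff hPT hPP' ξ, hξ']
    exact ξ'.2
  have hord : orderOf (⟨ξ, hξE⟩ : E.autGroup _) = p ^ k := by
    rw [Subgroup.orderOf_mk, ← hk, ← Subgroup.orderOf_coe, ← hξ', MulEquiv.orderOf_eq]
  have hξD : ξ ∈ D.autGroup _ :=
    hD.2.1.2 _ hPT ⟨⟨ξ, hξE⟩, Subgroup.subset_closure ⟨k, hord⟩, rfl⟩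
  rw [← hξ', hImg.autMap_mem_iff hPT hPP' ξ]
  exact hξD

/-- The `p'`-residual of an invariant saturated subsystem is invariant under `Aut_F(T)`. -/
theorem autInv_pPrimeResidual (hS : IsPGroup p S) (F : FusionSystem S) (E : FusionSystem T)
    (hE : E.IsInvariantIn F) (D : FusionSystem T) (hD : E.IsPPrimeResidual p D) : AutInv D F := by
  have hTS : T ≤ S := hE.2.1.1
  have hfinT : Finite T := finite_of_le hTS
  intro P hPT φ hφ α hα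
  obtain ⟨Dβ, hImg⟩ := exists_img_self α⁻¹ D
  have hsub := pPrimeResidual_le_img hS F E hE D hD α⁻¹ (Subgroup.inv_mem _ hα) Dβ hImg
  obtain ⟨P₀, φ₀, hφ₀, hP₀, hind⟩ := hImg.exists_lift (hsub P hφ)
  have hP₀T : P₀ ≤ T := hom_le D hφ₀
  have hmem : ∀ y : T, (y : Ω) ∈ P → ((α y : T) : Ω) ∈ P₀ := by
    intro y hy
    rw [← hP₀] at hy
    obtain ⟨x₀, hx₀, hx₀y⟩ := FSTr.mem_mapS.mp hy
    have h1 : α⁻¹ x₀ = y := Subtype.ext hx₀y
    have h2 : x₀ = α y := by rw [← h1, MulAut.apply_inv_self]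
    rw [← h2]
    exact hx₀
  have hle : imgAut α P ≤ P₀ := by
    rintro _ ⟨x, hx, rfl⟩
    exact hmem x hx
  refine ⟨φ₀.comp (Subgroup.inclusion hle), inclusion_comp_mem D hle hφ₀, fun x hφx hαx => ?_⟩
  have h' : (((α⁻¹ : MulAut T) ⟨((α ⟨x, hPT x.2⟩ : T) : Ω), (α ⟨x, hPT x.2⟩).2⟩ : T) : Ω) ∈ P := by
    have : (⟨((α ⟨x, hPT x.2⟩ : T) : Ω), (α ⟨x, hPT x.2⟩).2⟩ : T) = α ⟨x, hPT x.2⟩ := rfl
    rw [this, MulAut.inv_apply_self]
    exact x.2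
  have h1 := hind ⟨((α ⟨x, hPT x.2⟩ : T) : Ω), hmem _ x.2⟩ (α ⟨x, hPT x.2⟩).2 (hom_apply_mem D hφ₀ _) h'
  have e1 : (⟨(((α⁻¹ : MulAut T) ⟨((α ⟨x, hPT x.2⟩ : T) : Ω), (α ⟨x, hPT x.2⟩).2⟩ : T) : Ω), h'⟩ : P) = x := by
    apply Subtype.ext
    have : (⟨((α ⟨x, hPT x.2⟩ : T) : Ω), (α ⟨x, hPT x.2⟩).2⟩ : T) = α ⟨x, hPT x.2⟩ := rfl
    show (((α⁻¹ : MulAut T) ⟨((α ⟨x, hPT x.2⟩ : T) : Ω), (α ⟨x, hPT x.2⟩).2⟩ : T) : Ω) = x
    rw [this, MulAut.inv_apply_self]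
  have h2 : φ x = (((α⁻¹ : MulAut T) ⟨φ₀ ⟨((α ⟨x, hPT x.2⟩ : T) : Ω), hmem _ x.2⟩, hom_apply_mem D hφ₀ _⟩ : T) : Ω) := by
    rw [e1] at h1
    exact h1
  show φ₀ ⟨((α ⟨x, hPT x.2⟩ : T) : Ω), _⟩ = ((α ⟨φ x, hφx⟩ : T) : Ω)
  have e2 : (⟨φ x, hφx⟩ : T) = (α⁻¹ : MulAut T) ⟨φ₀ ⟨((α ⟨x, hPT x.2⟩ : T) : Ω), hmem _ x.2⟩, hom_apply_mem D hφ₀ _⟩ :=
    Subtype.ext h2
  rw [e2, MulAut.apply_inv_self]

/-- The `p'`-residual of a weakly normal subsystem is weakly normal. -/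
theorem weaklyNormal_pPrimeResidual (hS : IsPGroup p S) (F : FusionSystem S) (E : FusionSystem T)
    (hE : E.IsWeaklyNormalIn F p) (D : FusionSystem T) (hD : E.IsPPrimeResidual p D) :
    D.IsWeaklyNormalIn F p := by
  obtain ⟨hEsat, hFsat, hEinv⟩ := hE
  have hTS : T ≤ S := hEinv.2.1.1
  have hTp : IsPGroup p T := hS.to_le hTS
  have hfinT : Finite T := finite_of_le hTS
  refine ⟨hD.1, hFsat, ?_, hEinv.2.1, autInv_pPrimeResidual hS F E hEinv D hD, ?_⟩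
  · exact fun P φ hφ => hEinv.1 P (hD.2.1.1 P hφ)
  · obtain ⟨-, hfratD, -⟩ := Cfsg.Agent.S5114.result p hTp E hEsat D hD.2.1.1 (fun P hPc => hD.2.1.2 P hPc.1)
    intro P hPT φ hφ
    obtain ⟨α₁, hα₁, φ₁, hφ₁, hφα₁⟩ := hEinv.2.2.2 P hPT φ hφ
    obtain ⟨α₂, hα₂, φ₂, hφ₂, hφα₂⟩ := hfratD P φ₁ hφ₁
    have hα₂F : α₂ ∈ F.autGroup T :=
      (mem_autGroup_iff F hTS α₂).mpr (hEinv.1 T ((mem_autGroup_iff E le_rfl α₂).mp hα₂))
    refine ⟨α₁ * α₂, Subgroup.mul_mem _ hα₁ hα₂F, φ₂, hφ₂, fun x hx => ?_⟩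
    have hφ₁T : φ₁ x ∈ T := hom_apply_mem E hφ₁ x
    rw [hφα₁ x hφ₁T, MulAut.mul_apply]
    congr 2
    apply Subtype.ext
    exact hφα₂ x hx

/-- **Craven's theorem** (S5141): the `p'`-residual of a weakly normal subsystem is normal. -/
theorem normal_pPrimeResidual (hS : IsPGroup p S) (F : FusionSystem S) (hF : F.IsSaturated p)
    (E : FusionSystem T) (hE : E.IsWeaklyNormalIn F p) (D : FusionSystem T) (hD : E.IsPPrimeResidual p D) :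
    D.IsNormalIn F p :=
  ⟨weaklyNormal_pPrimeResidual hS F E hE D hD,
    extension_of_pPrimeResidual hS F hF E hE.1 hE.2.2 D hD⟩

end

end Cfsg.Agent.Lib.Helper26.Crav
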