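import Cfsg.Agent.Lib.Helper26.OlvNA
import Cfsg.Agent.Lib.Helper26.CravG

/-!
Towards S5293 (the focal subgroup of `C_F(T)` centralizes a normal subsystem over `T`), part A:
an Alperin-Frattini criterion for containment of fusion systems, and: every map of a normal subsystem `E` between
`E`-centric subgroups is nice.
-/

set_option autoImplicit false

namespace Cfsg.Agent.Lib.Helper26.CenE

open Cfsg Cfsg.FusionSystem Cfsg.Agent.Lib.Helper26 Cfsg.Agent.Lib.Helper27 Cfsg.Agent.Lib.Helper26.OlvN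
  Cfsg.Agent.Lib.Helper26.Crav

variable {Ω : Type*} [Group Ω] {S : Subgroup Ω}

/-- **Alperin-Frattini criterion.** A system `E'` over `S` containing `Aut_F(S)` and the `p`-elements of `Aut_F(P)` for
all `F`-essential `P` contains the saturated system `F`. -/
theorem hom_subset_of_pgen [Finite S] {p : ℕ} [Fact p.Prime] (hS : IsPGroup p S) (F : FusionSystem S)
    (hF : F.IsSaturated p) (E' : FusionSystem S) (htop : F.autGroup S ≤ E'.autGroup S)
    (hK : ∀ P : Subgroup Ω, F.IsEssential p P → pgenAut F p P ≤ E'.autGroup P) :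
    ∀ P : Subgroup Ω, F.Hom P ⊆ E'.Hom P := by
  apply alperin_strong hS F hF
  intro P hP IH
  rcases hP with rfl | hess
  · exact htop
  · have hne : P ≠ S := essential_ne_top hS F hF hess
    have hess' := hess
    obtain ⟨hcen, hfn, -⟩ := hess
    have hPS : P ≤ S := hfn.1
    have hfinP : Finite P := finite_of_le hPS
    obtain ⟨-, R, hR⟩ := (saturated_fn hS F hF hfn).2
    have hRec := saturated_fn_receptive hS F hF hfn
    let K' : Subgroup ↥(F.autGroup P) := Subgroup.closure {α : F.autGroup P | ∃ k : ℕ, orderOf α = p ^ k}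
    have hK'n : K'.Normal := by
      apply Cfsg.Agent.Lib.Helper8.closure_normal_of_conj_invariant
      rintro g s ⟨k, hk⟩
      exact ⟨k, by rw [Cfsg.Agent.Lib.Helper8.orderOf_conj', hk]⟩
    let B : Subgroup ↥(F.autGroup P) := (E'.autGroup P).subgroupOf (F.autGroup P)
    have hK'B : K' ≤ B := by
      intro γ hγ
      show (γ : MulAut P) ∈ E'.autGroup P
      exact hK P hess' ⟨γ, hγ, rfl⟩
    obtain ⟨U, hU⟩ := sylowIn_inf_of_normal R K'
    have hfrat := Sylow.normalizer_sup_eq_top U
    have hUmap : (U : Subgroup ↥K').map K'.subtype = (R : Subgroup ↥(F.autGroup P)) ⊓ K' := by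
      rw [hU]
      exact Subgroup.map_subgroupOf_eq_of_le inf_le_right
    rw [hUmap] at hfrat
    obtain ⟨g₀, hg₀N, hg₀P⟩ := exists_mem_normalizerIn_not_mem hS hPS hne
    have hNB : Subgroup.normalizer
        (((R : Subgroup ↥(F.autGroup P)) ⊓ K' : Subgroup ↥(F.autGroup P)) : Set ↥(F.autGroup P)) ≤ B := by
      intro γ hγ
      have hNT : normalizerIn S P ≤ extender S P (equivHom ((γ : MulAut P) : P ≃* P)) := by
        intro t ht
        have htS : t ∈ S := ht.1
        have htN : t ∈ Subgroup.normalizer (P : Set Ω) := ht.2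
        have haF : P.normalizerMonoidHom ⟨t, htN⟩ ∈ F.autGroup P :=
          autInducedBy_le_autGroup F hPS (normalizerMonoidHom_mem_autInducedBy htS htN)
        have haR : (⟨_, haF⟩ : ↥(F.autGroup P)) ∈ (R : Subgroup ↥(F.autGroup P)) := by
          rw [hR, Subgroup.mem_subgroupOf]
          exact normalizerMonoidHom_mem_autInducedBy htS htN
        have haK : (⟨_, haF⟩ : ↥(F.autGroup P)) ∈ K' := by
          apply Subgroup.subset_closure
          obtain ⟨k, hk⟩ := (IsPGroup.iff_orderOf.mp R.isPGroup') ⟨_, haR⟩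
          rw [Subgroup.orderOf_mk] at hk
          exact ⟨k, hk⟩
        have h1 := (Subgroup.mem_normalizer_iff.mp hγ _).mp ⟨haR, haK⟩
        have h2 : (γ * ⟨_, haF⟩ * γ⁻¹ : ↥(F.autGroup P)) ∈ (R : Subgroup ↥(F.autGroup P)) := h1.1
        rw [hR, Subgroup.mem_subgroupOf] at h2
        obtain ⟨h, hhS, hh⟩ := (mem_autInducedBy_iff S P _).mp h2
        rw [mem_extender_iff]
        refine ⟨htS, htN, h, hhS, fun x hx => ?_⟩
        have h3 := hh ((γ : MulAut P) x)
        have h4 : ((γ * ⟨_, haF⟩ * γ⁻¹ : ↥(F.autGroup P)) : MulAut P) ((γ : MulAut P) x) =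
            (γ : MulAut P) ⟨t * x * t⁻¹, hx⟩ := by
          show (γ : MulAut P) ((P.normalizerMonoidHom ⟨t, htN⟩) ((γ : MulAut P)⁻¹ ((γ : MulAut P) x))) = _
          rw [MulAut.inv_apply_self]
          rfl
        rw [h4] at h3
        exact h3
      show (γ : MulAut P) ∈ E'.autGroup P
      exact mem_autGroup_of_extender F E' hRec IH γ.2 (hNT hg₀N) hg₀P
    intro α hα
    have htop' : (⟨α, hα⟩ : ↥(F.autGroup P)) ∈ (⊤ : Subgroup ↥(F.autGroup P)) := Subgroup.mem_top _
    rw [← hfrat] at htop'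
    exact (sup_le hNB hK'B) htop'

variable {T : Subgroup Ω}

/-- Every map of a normal subsystem `E` of `F` whose source is `E`-centric is nice. -/
theorem hom_subset_niceSystem [Finite S] {p : ℕ} [Fact p.Prime] (hS : IsPGroup p S) (F : FusionSystem S)
    (hF : F.IsSaturated p) (E : FusionSystem T) (hE : E.IsNormalIn F p) :
    ∀ P : Subgroup Ω, E.Hom P ⊆ (niceSystem E F hE.1.2.2.2.1).Hom P := by
  obtain ⟨⟨hEsat, -, hEinv⟩, hext⟩ := hE
  have hT : F.StronglyClosed T := hEinv.2.1
  have hTS : T ≤ S := hT.1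
  have hfinT : Finite T := finite_of_le hTS
  have hpT : IsPGroup p T := hS.to_le hTS
  apply hom_subset_of_pgen hpT E hEsat
  · intro α hα
    rw [mem_autGroup_iff _ le_rfl]
    refine ⟨(mem_autGroup_iff E le_rfl α).mp hα, fun _ => ?_⟩
    obtain ⟨β, hβ, hβT, hβc⟩ := hext α hα
    have hTA : T ⊔ centralizerIn S T ≤ S := sup_le hTS (centralizerIn_le S T)
    refine ⟨(T ⊔ centralizerIn S T).subtype.comp β.toMonoidHom, (mem_autGroup_iff F hTA β).mp hβ,
      fun x => hβT x, fun c hc => ?_⟩
    exact (hβc c hc).1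
  · intro P hess
    exact pgen_le_niceSystem hS F hF E hEsat hEinv hess.1

end Cfsg.Agent.Lib.Helper26.CenE
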