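import Cfsg.Agent.Lib.Helper26.OlvNJ

/-!
Towards S5243 (Oliver's lemma), part K: auxiliary lemmas for the inclusion `E ⊆ X`: the restriction of a system to a
strongly closed subgroup, going up for `E·K`, and `U C_S(U)` is centric for fully centralized `U`.
-/

set_option autoImplicit false

namespace Cfsg.Agent.Lib.Helper26.OlvN

open Cfsg Cfsg.FusionSystem Cfsg.Agent.Lib.Helper26 Cfsg.Agent.Lib.Helper27 Cfsg.Agent.Lib.Helper26.PPLeast

variable {Ω : Type*} [Group Ω] {S T : Subgroup Ω}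

/-- The restriction of a system to a strongly closed subgroup. -/
def subOn (X : FusionSystem S) (T : Subgroup Ω) (hT : X.StronglyClosed T) : FusionSystem T where
  Hom P := {φ | P ≤ T ∧ φ ∈ X.Hom P}
  le_of_mem := by
    rintro P φ ⟨hPT, hφ⟩
    exact ⟨hPT, fun x => hT.2 P hPT φ hφ x⟩
  injective_of_mem := by
    rintro P φ ⟨-, hφ⟩
    exact X.injective_of_mem hφ
  conj_mem := by
    intro P g hP hg
    exact ⟨hP, X.conj_mem (hP.trans hT.1) (hT.1 hg)⟩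
  comp_mem := by
    rintro P Q φ ψ ⟨hPT, hφ⟩ ⟨-, hψ⟩ h
    exact ⟨hPT, X.comp_mem hφ hψ h⟩
  inv_mem := by
    rintro P φ ⟨hPT, hφ⟩
    obtain ⟨ψ, hψ, hψx⟩ := X.inv_mem hφ
    refine ⟨ψ, ⟨?_, hψ⟩, hψx⟩
    rintro _ ⟨x, rfl⟩
    exact hT.2 P hPT φ hφ x

theorem mem_subOn_iff (X : FusionSystem S) (T : Subgroup Ω) (hT : X.StronglyClosed T) (P : Subgroup Ω)
    (φ : P →* Ω) : φ ∈ (subOn X T hT).Hom P ↔ P ≤ T ∧ φ ∈ X.Hom P := Iff.rfl

/-- For fully centralized `U`, the subgroup `U C_S(U)` is centric. -/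
theorem isCentric_sup_centralizerIn [Finite S] (F : FusionSystem S) {U : Subgroup Ω}
    (hU : F.IsFullyCentralized U) : F.IsCentric (U ⊔ centralizerIn S U) := by
  have hUS : U ≤ S := hU.1
  have hQS : U ⊔ centralizerIn S U ≤ S := sup_le hUS (centralizerIn_le S U)
  refine ⟨hQS, ?_⟩
  rintro R ⟨φ, hφ, rfl⟩
  have hUQ : U ≤ U ⊔ centralizerIn S U := le_sup_left
  have hCQ : centralizerIn S U ≤ U ⊔ centralizerIn S U := le_sup_right
  obtain ⟨φU, hφUdef⟩ : ∃ φU : U →* Ω, φU = φ.comp (Subgroup.inclusion hUQ) := ⟨_, rfl⟩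
  have hφU : φU ∈ F.Hom U := hφUdef ▸ inclusion_comp_mem F hUQ hφ
  have hconj : F.IsConj U φU.range := ⟨φU, hφU, rfl⟩
  obtain ⟨φC, hφCdef⟩ : ∃ φC : ↥(centralizerIn S U) →* Ω, φC = φ.comp (Subgroup.inclusion hCQ) := ⟨_, rfl⟩
  have hφC : φC ∈ F.Hom (centralizerIn S U) := hφCdef ▸ inclusion_comp_mem F hCQ hφ
  have hle : φC.range ≤ centralizerIn S φU.range := by
    rintro _ ⟨c, rfl⟩
    rw [mem_centralizerIn_iff]
    refine ⟨hom_apply_mem F hφC c, ?_⟩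
    rintro _ ⟨u, rfl⟩
    have hc := (mem_centralizerIn_iff.mp c.2).2 u u.2
    have h1 : Subgroup.inclusion hUQ u * Subgroup.inclusion hCQ c =
        Subgroup.inclusion hCQ c * Subgroup.inclusion hUQ u := Subtype.ext hc
    rw [hφUdef, hφCdef]
    show φ (Subgroup.inclusion hUQ u) * φ (Subgroup.inclusion hCQ c) =
      φ (Subgroup.inclusion hCQ c) * φ (Subgroup.inclusion hUQ u)
    rw [← map_mul, ← map_mul, h1]
  have hfinC : Finite ↥(centralizerIn S φU.range) := finite_of_le (centralizerIn_le S _)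
  have heq : φC.range = centralizerIn S φU.range := by
    apply Subgroup.eq_of_le_of_card_ge hle
    rw [Nat.card_congr (MonoidHom.ofInjective (F.injective_of_mem hφC)).toEquiv.symm]
    exact hU.2 _ hconj
  intro c hc
  have hc' : c ∈ centralizerIn S φU.range := by
    rw [mem_centralizerIn_iff] at hc ⊢
    refine ⟨hc.1, ?_⟩
    rintro _ ⟨u, rfl⟩
    apply hc.2
    rw [hφUdef]
    exact ⟨_, rfl⟩
  rw [← heq] at hc'
  obtain ⟨c₀, rfl⟩ := hc'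
  rw [hφCdef]
  exact ⟨_, rfl⟩

/-- Under the Frattini condition every subgroup is `X`-conjugate to a fully `F`-normalized subgroup. -/
theorem exists_fn_conj_of_frat [Finite S] (F X : FusionSystem S) (hXF : X.IsSubsystemOf F) (hfrat : Frat X F)
    {P : Subgroup Ω} (hPS : P ≤ S) : ∃ φ₀ ∈ X.Hom P, F.IsFullyNormalized φ₀.range := by
  obtain ⟨Q', hPQ', hQ'n⟩ := exists_fullyNormalized_conj F hPS
  obtain ⟨φ, hφ, hφr⟩ := hPQ'
  obtain ⟨α, hα, φ₀, hφ₀, hφα⟩ := hfrat P φ hφ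
  have hφ₀E : φ₀ ∈ F.Hom P := hXF P hφ₀
  have hφ₀T : ∀ x, φ₀ x ∈ S := hom_apply_mem F hφ₀E
  have hPQE : F.IsConj P φ₀.range := ⟨φ₀, hφ₀E, rfl⟩
  have hPQ'E : F.IsConj P Q' := ⟨φ, hφ, hφr⟩
  have hQT : φ₀.range ≤ S := isConj_le_right F hPQE
  have hiff : ∀ y : S, (y : Ω) ∈ Q' ↔ ((α⁻¹ y : S) : Ω) ∈ φ₀.range := by
    intro y
    rw [← hφr]
    constructor
    · rintro ⟨x, hx⟩
      refine ⟨x, ?_⟩
      have h1 := hφα x (hφ₀T x)
      rw [hx] at h1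
      have h2 : y = α ⟨φ₀ x, hφ₀T x⟩ := Subtype.ext h1
      rw [h2, MulAut.inv_apply_self]
    · rintro ⟨x, hx⟩
      refine ⟨x, ?_⟩
      rw [hφα x (hφ₀T x)]
      have h2 : (⟨φ₀ x, hφ₀T x⟩ : S) = α⁻¹ y := Subtype.ext hx
      rw [h2, MulAut.apply_inv_self]
  have hcard : Nat.card (normalizerIn S Q') ≤ Nat.card (normalizerIn S φ₀.range) :=
    card_normalizerIn_le_of_aut α⁻¹ hQT hiff
  refine ⟨φ₀, hφ₀, hQT, fun Q'' hQQ'' => ?_⟩
  exact (hQ'n.2 Q'' (isConj_trans F (isConj_trans F (isConj_symm F hPQ'E) hPQE) hQQ'')).trans hcard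

namespace KData

variable {F : FusionSystem S} {E : FusionSystem T} {K : Subgroup (MulAut T)}

/-- **Going up for `E·K`**: a map of `F` on `M ≤ T` whose restriction to an `E`-centric subgroup lies in `E·K` lies in
`E·K`. -/
theorem mem_D_of_restrict [Finite S] {p : ℕ} [Fact p.Prime] (h : KData F E K) (hS : IsPGroup p S)
    (hEsat : E.IsSaturated p) (hKp : pgenAut F p T ≤ K) {M R : Subgroup Ω} (hRM : R ≤ M) (hMT : M ≤ T)
    (hRc : E.IsCentric R) {ψ : M →* Ω} (hψ : ψ ∈ F.Hom M)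
    (hres : ψ.comp (Subgroup.inclusion hRM) ∈ h.D.Hom R) : ψ ∈ h.D.Hom M := by
  obtain ⟨β, hβ, ψ₀, hψ₀, hψβ⟩ := h.inv.2.2.2 M hMT ψ hψ
  obtain ⟨β', hβ', ψ₀', hψ₀', hres'⟩ := (h.mem_D_iff _ _).mp hres
  have hψ₀T : ∀ x, ψ₀ x ∈ T := hom_apply_mem E hψ₀
  have hψ₀'T : ∀ x, ψ₀' x ∈ T := hom_apply_mem E hψ₀'
  obtain ⟨φR, hφR⟩ : ∃ φR : R →* Ω, φR = ψ₀.comp (Subgroup.inclusion hRM) := ⟨_, rfl⟩
  have hφRx : ∀ x : R, φR x = ψ₀ (Subgroup.inclusion hRM x) := fun x => by rw [hφR]; rfl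
  have hφRE : φR ∈ E.Hom R := hφR ▸ inclusion_comp_mem E hRM hψ₀
  have hR'c : E.IsCentric φR.range := isCentric_of_isConj E hRc ⟨φR, hφRE, rfl⟩
  obtain ⟨ι, hι, hιx⟩ := E.inv_mem hφRE
  have hιR : ∀ z, ι z ∈ R := by
    rintro ⟨_, x, rfl⟩
    rw [hιx]
    exact x.2
  have hβ'F : β' ∈ F.autGroup T := h.KF hβ'
  have hδF : β'⁻¹ * β ∈ F.autGroup T := mul_mem (inv_mem hβ'F) hβ
  have e : resAut (β'⁻¹ * β) φR.range hR'c.1 = ψ₀'.comp (ι.codRestrict R hιR) := by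
    ext ⟨_, x, rfl⟩
    have h1 : ι.codRestrict R hιR ⟨φR x, ⟨x, rfl⟩⟩ = x := Subtype.ext (hιx x)
    show (((β'⁻¹ * β) ⟨φR x, _⟩ : T) : Ω) = ψ₀' (ι.codRestrict R hιR ⟨φR x, ⟨x, rfl⟩⟩)
    rw [h1, MulAut.mul_apply]
    have h2 := hψβ (Subgroup.inclusion hRM x) (hψ₀T _)
    have h3 := hres' x (hψ₀'T x)
    have e1 : β ⟨φR x, hR'c.1 ⟨x, rfl⟩⟩ = β' ⟨ψ₀' x, hψ₀'T x⟩ := by
      apply Subtype.ext
      rw [← h3]
      show _ = ψ (Subgroup.inclusion hRM x)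
      rw [h2]
      congr 2
      exact Subtype.ext (hφRx x)
    rw [e1, MulAut.inv_apply_self]
  have hδres : resAut (β'⁻¹ * β) φR.range hR'c.1 ∈ E.Hom φR.range := by
    rw [e]
    exact E.comp_mem hι hψ₀' hιR
  have hδK := h.mem_K_of_resAut_mem hS hEsat hKp hδF hR'c hδres
  have hβK : β ∈ K := by
    have : β = β' * (β'⁻¹ * β) := by group
    rw [this]
    exact K.mul_mem hβ' hδK
  exact (h.mem_D_iff _ _).mpr ⟨β, hβK, ψ₀, hψ₀, hψβ⟩

end KData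

end Cfsg.Agent.Lib.Helper26.OlvN
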