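import Cfsg.Agent.Lib.Helper26.CenEA
import Cfsg.Agent.Lib.Helper26.OlvNK
import Cfsg.Agent.Lib.Helper26.FSNormalizer
import Mathlib.GroupTheory.Commutator.Basic

/-!
Towards S5293, part B: Alperin reduction for `E ⊆ C_F(X)`, and `E ⊆ C_F([C_S(T), C_S(T)])`.
-/

set_option autoImplicit false

namespace Cfsg.Agent.Lib.Helper26.CenE

open Cfsg Cfsg.FusionSystem Cfsg.Agent.Lib.Helper26 Cfsg.Agent.Lib.Helper27 Cfsg.Agent.Lib.Helper26.OlvN
  Cfsg.Agent.Lib.Helper26.Crav
open scoped commutatorElement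

variable {Ω : Type*} [Group Ω] {S T : Subgroup Ω}

/-- `α ∈ Aut(P)` has an extension to `P X` in `F` fixing `X` elementwise. -/
def FixExt (F : FusionSystem S) (X P : Subgroup Ω) (α : MulAut P) : Prop :=
  ∃ ψ ∈ F.Hom (P ⊔ X), (∀ x : P, ψ (Subgroup.inclusion le_sup_left x) = ((α x : P) : Ω)) ∧
    ∀ x : X, ψ (Subgroup.inclusion le_sup_right x) = x

/-- **Alperin reduction.** If every automorphism in `E` of `T` and of the `E`-essential subgroups extends to a map of
`F` fixing `X ≤ C_S(T)` elementwise, then `E ⊆ C_F(X)`. -/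
theorem centralizes_of_aut [Finite S] {p : ℕ} [Fact p.Prime] (hS : IsPGroup p S) (F : FusionSystem S)
    (E : FusionSystem T) (hEsat : E.IsSaturated p) (hEF : E.IsSubsystemOf F) (hT : F.StronglyClosed T)
    {X : Subgroup Ω} (hX : X ≤ centralizerIn S T)
    (h : ∀ P : Subgroup Ω, (P = T ∨ E.IsEssential p P) → ∀ α ∈ E.autGroup P, FixExt F X P α) :
    ∀ P : Subgroup Ω, E.Hom P ⊆ F.centralizerHom X P := by
  have hTS : T ≤ S := hT.1
  have hfinT : Finite T := finite_of_le hTS
  have hpT : IsPGroup p T := hS.to_le hTS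
  have hXS : X ≤ S := hX.trans (centralizerIn_le S T)
  have hTC : T ≤ centralizerIn S X := by
    intro t ht
    rw [mem_centralizerIn_iff]
    refine ⟨hTS ht, fun x hx => ?_⟩
    exact ((mem_centralizerIn_iff.mp (hX hx)).2 t ht).symm
  have hTcl : (centralizerSystem F X hXS).StronglyClosed T :=
    ⟨hTC, fun R hRT φ hφ x => hT.2 R hRT φ hφ.1 x⟩
  have key : ∀ P : Subgroup Ω, E.Hom P ⊆ (subOn (centralizerSystem F X hXS) T hTcl).Hom P := by
    apply alperin_strong hpT E hEsat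
    intro P hP _ α hα
    have hPT : P ≤ T := by
      rcases hP with rfl | hess
      · exact le_rfl
      · exact hess.1.1
    rw [mem_autGroup_iff _ hPT]
    have hαE := (mem_autGroup_iff E hPT α).mp hα
    obtain ⟨ψ, hψ, hψP, hψX⟩ := h P hP α hα
    refine ⟨hPT, hEF P hαE, hPT.trans hTC, fun x => hTC (hPT (α x).2), ψ, hψ, fun x => ?_, hψX⟩
    rw [hψP x]
    rfl
  intro P φ hφ
  exact (key P hφ).2

/-- The correction term of a nice extension commutes with the image of `φ`. -/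
theorem niceExt_corr_comm {F : FusionSystem S} {P : Subgroup Ω} {φ : P →* Ω}
    {ψ : ↥(P ⊔ centralizerIn S T) →* Ω} (h : NiceExt F T P φ ψ) (hT : F.StronglyClosed T) (hPT : P ≤ T)
    (c : ↥(P ⊔ centralizerIn S T)) (hc : (c : Ω) ∈ centralizerIn S T) (x : P) :
    φ x * ((c : Ω)⁻¹ * ψ c) = (c : Ω)⁻¹ * ψ c * φ x := by
  have hφT : φ x ∈ T := h.apply_mem hT hPT x
  have h1 : φ x * (c : Ω) = (c : Ω) * φ x := mem_centralizerIn_comm hc hφT
  have h2 : Subgroup.inclusion le_sup_left x * c = c * Subgroup.inclusion le_sup_left x := by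
    apply Subtype.ext
    exact mem_centralizerIn_comm hc (hPT x.2)
  have h3 : φ x * ψ c = ψ c * φ x := by
    rw [← h.ext x, ← map_mul, ← map_mul, h2]
  have h1' : φ x * (c : Ω)⁻¹ = (c : Ω)⁻¹ * φ x := by
    rw [eq_inv_mul_iff_mul_eq, ← mul_assoc, ← h1, mul_inv_cancel_right]
  calc φ x * ((c : Ω)⁻¹ * ψ c) = (φ x * (c : Ω)⁻¹) * ψ c := by group
    _ = ((c : Ω)⁻¹ * φ x) * ψ c := by rw [h1']
    _ = (c : Ω)⁻¹ * (φ x * ψ c) := by group
    _ = (c : Ω)⁻¹ * (ψ c * φ x) := by rw [h3]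
    _ = (c : Ω)⁻¹ * ψ c * φ x := by group

theorem commutator_self_le {G : Type*} [Group G] (A : Subgroup G) : ⁅A, A⁆ ≤ A := by
  rw [Subgroup.commutator_le]
  intro a ha b hb
  rw [commutatorElement_def]
  exact A.mul_mem (A.mul_mem (A.mul_mem ha hb) (A.inv_mem ha)) (A.inv_mem hb)

/-- A commutator is unchanged when its entries are multiplied by commuting "central" elements. -/
theorem commutator_mul_central {G : Type*} [Group G] (a b u v : G) (hua : u * a = a * u) (hub : u * b = b * u)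
    (hva : v * a = a * v) (huv : u * v = v * u) : ⁅a * u, b * v⁆ = ⁅a, b⁆ := by
  have cua : Commute u a := hua
  have cub : Commute u b := hub
  have cva : Commute v a := hva
  have cuv : Commute u v := huv
  rw [commutatorElement_def, commutatorElement_def]
  have e1 : a * u * (b * v) * (a * u)⁻¹ = a * (b * v) * a⁻¹ := by
    have c1 : Commute u (b * v) := cub.mul_right cuv
    calc a * u * (b * v) * (a * u)⁻¹ = a * (u * (b * v)) * u⁻¹ * a⁻¹ := by group
      _ = a * ((b * v) * u) * u⁻¹ * a⁻¹ := by rw [c1.eq]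
      _ = a * (b * v) * a⁻¹ := by group
  rw [e1]
  have c2 : Commute v a⁻¹ := cva.inv_right
  calc a * (b * v) * a⁻¹ * (b * v)⁻¹ = a * b * (v * a⁻¹) * v⁻¹ * b⁻¹ := by group
    _ = a * b * (a⁻¹ * v) * v⁻¹ * b⁻¹ := by rw [c2.eq]
    _ = a * b * a⁻¹ * b⁻¹ := by group

/-- A nice extension of a map with self-centralizing image fixes the commutators of `C_S(T)`. -/
theorem niceExt_apply_commutator {F : FusionSystem S} {P : Subgroup Ω} {φ : P →* Ω}
    {ψ : ↥(P ⊔ centralizerIn S T) →* Ω} (h : NiceExt F T P φ ψ) (hT : F.StronglyClosed T) (hPT : P ≤ T)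
    (hcen : centralizerIn T φ.range ≤ φ.range) (a b : ↥(P ⊔ centralizerIn S T))
    (ha : (a : Ω) ∈ centralizerIn S T) (hb : (b : Ω) ∈ centralizerIn S T) :
    ψ ⁅a, b⁆ = ⁅(a : Ω), (b : Ω)⁆ := by
  rw [map_commutatorElement]
  have hza : (a : Ω)⁻¹ * ψ a ∈ T := h.mod a ha
  have hzb : (b : Ω)⁻¹ * ψ b ∈ T := h.mod b hb
  obtain ⟨xb, hxb⟩ := h.corr_mem hT hPT hcen b hb
  have e1 : ψ a = (a : Ω) * ((a : Ω)⁻¹ * ψ a) := by group
  have e2 : ψ b = (b : Ω) * ((b : Ω)⁻¹ * ψ b) := by group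
  rw [e1, e2]
  apply commutator_mul_central
  · exact mem_centralizerIn_comm ha hza
  · exact mem_centralizerIn_comm hb hza
  · exact mem_centralizerIn_comm ha hzb
  · rw [← hxb]
    exact (niceExt_corr_comm h hT hPT a ha xb).symm

/-- A nice extension of a map with self-centralizing image fixes `[C_S(T), C_S(T)]` elementwise. -/
theorem niceExt_apply_of_mem_commutator {F : FusionSystem S} {P : Subgroup Ω} {φ : P →* Ω}
    {ψ : ↥(P ⊔ centralizerIn S T) →* Ω} (h : NiceExt F T P φ ψ) (hT : F.StronglyClosed T) (hPT : P ≤ T)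
    (hcen : centralizerIn T φ.range ≤ φ.range) (y : Ω) (hy : y ∈ ⁅centralizerIn S T, centralizerIn S T⁆)
    (hy' : y ∈ P ⊔ centralizerIn S T) : ψ ⟨y, hy'⟩ = y := by
  revert hy'
  rw [Subgroup.commutator_def] at hy
  induction hy using Subgroup.closure_induction with
  | mem z hz =>
    intro hy'
    obtain ⟨a, ha, b, hb, rfl⟩ := hz
    have := niceExt_apply_commutator h hT hPT hcen ⟨a, Subgroup.mem_sup_right ha⟩ ⟨b, Subgroup.mem_sup_right hb⟩ ha hb
    exact this
  | one =>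
    intro hy'
    exact map_one ψ
  | mul z w _ _ ihz ihw =>
    intro hy'
    have hz' : z ∈ P ⊔ centralizerIn S T := by
      apply Subgroup.mem_sup_right
      exact (commutator_self_le _) (by rw [Subgroup.commutator_def]; assumption)
    have hw' : w ∈ P ⊔ centralizerIn S T := by
      apply Subgroup.mem_sup_right
      exact (commutator_self_le _) (by rw [Subgroup.commutator_def]; assumption)
    have e : (⟨z * w, hy'⟩ : ↥(P ⊔ centralizerIn S T)) = ⟨z, hz'⟩ * ⟨w, hw'⟩ := rfl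
    rw [e, map_mul, ihz hz', ihw hw']
  | inv z _ ihz =>
    intro hy'
    have hz' : z ∈ P ⊔ centralizerIn S T := by
      apply Subgroup.mem_sup_right
      exact (commutator_self_le _) (by rw [Subgroup.commutator_def]; assumption)
    have e : (⟨z⁻¹, hy'⟩ : ↥(P ⊔ centralizerIn S T)) = (⟨z, hz'⟩)⁻¹ := rfl
    rw [e, map_inv, ihz hz']

end Cfsg.Agent.Lib.Helper26.CenE
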