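import Cfsg.Agent.Lib.Helper26.FSDirectProdA
import Cfsg.Prelude.Def_TwoFusion

/-!
Direct products `S = S₁ × S₂` with both factors strongly closed (S5130), part B.
-/

set_option autoImplicit false

namespace Cfsg.Agent.Lib.Helper26

open Cfsg Cfsg.FusionSystem

variable {Ω : Type*} [Group Ω] {S : Subgroup Ω}

/-- A homomorphism on `A ⊔ B` with values in `K` on `A` and on `B` has all values in `K`. -/
theorem forall_mem_of_sup {A B : Subgroup Ω} (ζ : ↥(A ⊔ B) →* Ω) (K : Subgroup Ω)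
    (hA : ∀ x : A, ζ (Subgroup.inclusion le_sup_left x) ∈ K)
    (hB : ∀ x : B, ζ (Subgroup.inclusion le_sup_right x) ∈ K) : ∀ y, ζ y ∈ K := by
  have hK : A ⊔ B ≤ (K.comap ζ).map (A ⊔ B).subtype := by
    apply sup_le
    · intro x hx
      exact ⟨Subgroup.inclusion le_sup_left ⟨x, hx⟩, hA ⟨x, hx⟩, rfl⟩
    · intro x hx
      exact ⟨Subgroup.inclusion le_sup_right ⟨x, hx⟩, hB ⟨x, hx⟩, rfl⟩
  intro y
  obtain ⟨y', hy', hyy'⟩ := hK y.2
  have : y' = y := Subtype.ext hyy'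
  rw [← this]
  exact hy'

/-- An injective self-map of a finite subgroup, as an automorphism in the system. -/
theorem exists_aut_of_hom [Finite S] (F : FusionSystem S) {D : Subgroup Ω} {ψ : D →* Ω} (hψ : ψ ∈ F.Hom D)
    (hD : ∀ y, ψ y ∈ D) : ∃ β ∈ F.autGroup D, ∀ y : D, ((β y : D) : Ω) = ψ y := by
  have hDS : D ≤ S := hom_le F hψ
  have hfinD : Finite D := finite_of_le hDS
  have hr : ψ.range = D := by
    apply le_antisymm
    · rintro _ ⟨y, rfl⟩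
      exact hD y
    · obtain ⟨f, hf⟩ : ∃ f : D → D, ∀ s, f s = ⟨ψ s, hD s⟩ := ⟨_, fun _ => rfl⟩
      have hinj : Function.Injective f := by
        intro a b hab
        rw [hf, hf] at hab
        exact F.injective_of_mem hψ (congrArg Subtype.val hab)
      have hsurj := Finite.surjective_of_injective hinj
      intro t ht
      obtain ⟨s, hs⟩ := hsurj ⟨t, ht⟩
      rw [hf] at hs
      exact ⟨s, congrArg Subtype.val hs⟩
  refine ⟨homEquiv F hψ hr, (mem_autGroup_iff_isFIso F hDS _).mpr (homEquiv_isFIso F hψ hr), fun y => rfl⟩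

section Prod

variable {S₁ S₂ : Subgroup Ω}

theorem prod_centralizes (hprod : IsInternalDirectProduct S₁ S₂ S) {Q : Subgroup Ω} (hQ : Q ≤ S₁) :
    S₂ ≤ centralizerIn S Q := by
  intro b hb
  rw [mem_centralizerIn_iff]
  exact ⟨hprod.2.1 hb, fun x hx => hprod.2.2.1 x (hQ hx) b hb⟩

theorem prod_le_centralizerIn (hprod : IsInternalDirectProduct S₁ S₂ S) : S₁ ≤ centralizerIn S S₂ := by
  intro a ha
  rw [mem_centralizerIn_iff]
  exact ⟨hprod.1 ha, fun x hx => (hprod.2.2.1 a ha x hx).symm⟩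

/-- Every element of `S₁ ⊔ S₂` is a product. -/
theorem prod_dec (hprod : IsInternalDirectProduct S₁ S₂ S) {g : Ω} (hg : g ∈ S₁ ⊔ S₂) :
    ∃ a ∈ S₁, ∃ b ∈ S₂, g = a * b := by
  rw [Subgroup.sup_eq_closure] at hg
  induction hg using Subgroup.closure_induction with
  | mem x hx =>
    rcases hx with hx | hx
    · exact ⟨x, hx, 1, one_mem _, (mul_one x).symm⟩
    · exact ⟨1, one_mem _, x, hx, (one_mul x).symm⟩
  | one => exact ⟨1, one_mem _, 1, one_mem _, (mul_one 1).symm⟩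
  | mul x y _ _ ihx ihy =>
    obtain ⟨a, ha, b, hb, rfl⟩ := ihx
    obtain ⟨a', ha', b', hb', rfl⟩ := ihy
    refine ⟨a * a', mul_mem ha ha', b * b', mul_mem hb hb', ?_⟩
    have := hprod.2.2.1 a' ha' b hb
    calc a * b * (a' * b') = a * (b * a') * b' := by group
      _ = a * (a' * b) * b' := by rw [this]
      _ = a * a' * (b * b') := by group
  | inv x _ ih =>
    obtain ⟨a, ha, b, hb, rfl⟩ := ih
    refine ⟨a⁻¹, inv_mem ha, b⁻¹, inv_mem hb, ?_⟩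
    have := hprod.2.2.1 a ha b hb
    rw [this, mul_inv_rev]

theorem prod_dec' (hprod : IsInternalDirectProduct S₁ S₂ S) {g : Ω} (hg : g ∈ S) :
    ∃ a ∈ S₁, ∃ b ∈ S₂, g = a * b := prod_dec hprod (hprod.2.2.2.2 ▸ hg)

theorem prod_hdec (hprod : IsInternalDirectProduct S₁ S₂ S) :
    ∀ g ∈ S, ∃ a ∈ S₁, ∃ b ∈ S, (∀ x ∈ S₁, x * b = b * x) ∧ g = a * b := by
  intro g hg
  obtain ⟨a, ha, b, hb, rfl⟩ := prod_dec' hprod hg
  exact ⟨a, ha, b, hprod.2.1 hb, fun x hx => hprod.2.2.1 x hx b hb, rfl⟩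

/-- A strongly closed subgroup is only conjugate to itself. -/
theorem eq_of_isConj_stronglyClosed [Finite S] (F : FusionSystem S) {T Q : Subgroup Ω} (hT : F.StronglyClosed T)
    (h : F.IsConj T Q) : Q = T := by
  obtain ⟨φ, hφ, rfl⟩ := h
  have hfinT : Finite T := finite_of_le hT.1
  have hle : φ.range ≤ T := by
    rintro _ ⟨x, rfl⟩
    exact hT.2 T le_rfl φ hφ x
  apply Subgroup.eq_of_le_of_card_ge hle
  rw [Nat.card_congr (MonoidHom.ofInjective (F.injective_of_mem hφ)).toEquiv]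

theorem fullyCentralized_of_stronglyClosed [Finite S] (F : FusionSystem S) {T : Subgroup Ω}
    (hT : F.StronglyClosed T) : F.IsFullyCentralized T := by
  refine ⟨hT.1, fun Q hQ => ?_⟩
  rw [eq_of_isConj_stronglyClosed F hT hQ]

variable [Finite S] {p : ℕ} [Fact p.Prime]

/-- `R` is saturated. -/
theorem prod_R_saturated (F : FusionSystem S) (hF : F.IsSaturated p)
    (hprod : IsInternalDirectProduct S₁ S₂ S) (h₁ : F.StronglyClosed S₁)
    (R : FusionSystem S₁) (hR : ∀ P : Subgroup Ω, P ≤ S₁ → R.Hom P = F.Hom P) : R.IsSaturated p :=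
  restrict_saturated F hF h₁ (prod_hdec hprod) R hR

/-- `R'` is saturated. -/
theorem prod_R'_saturated (hS : IsPGroup p S) (F : FusionSystem S) (hF : F.IsSaturated p)
    (hprod : IsInternalDirectProduct S₁ S₂ S) (h₁ : F.StronglyClosed S₁) (h₂ : F.StronglyClosed S₂)
    (R' : FusionSystem S₁) (hR' : ∀ P : Subgroup Ω, P ≤ S₁ → R'.Hom P = F.centralizerHom S₂ P) :
    R'.IsSaturated p := by
  have hS₂S : S₂ ≤ S := hprod.2.1
  obtain ⟨E, hE⟩ : ∃ E : FusionSystem (centralizerIn S S₂), E = centralizerSystem F S₂ hS₂S := ⟨_, rfl⟩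
  have hEC : F.IsCentralizerSystem S₂ E := hE ▸ centralizerSystem_isCentralizerSystem F S₂ hS₂S
  have hEsat : E.IsSaturated p :=
    centralizerSystem_saturated hS F hF (fullyCentralized_of_stronglyClosed F h₂) E hEC
  haveI : Finite (centralizerIn S S₂) := finite_of_le (centralizerIn_le S S₂)
  have hEF : ∀ (P : Subgroup Ω) (φ : P →* Ω), φ ∈ E.Hom P → φ ∈ F.Hom P := by
    intro P φ hφ
    rw [hEC P] at hφ
    exact hφ.1
  have h₁E : E.StronglyClosed S₁ :=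
    ⟨prod_le_centralizerIn hprod, fun Q hQ φ hφ x => h₁.2 Q hQ φ (hEF Q φ hφ) x⟩
  apply restrict_saturated E hEsat h₁E _ R' (fun P hP => by rw [hR' P hP, hEC P])
  intro g hg
  obtain ⟨hgS, hgc⟩ := mem_centralizerIn_iff.mp hg
  obtain ⟨a, ha, b, hb, rfl⟩ := prod_dec' hprod hgS
  refine ⟨a, ha, b, ?_, fun x hx => hprod.2.2.1 x hx b hb, rfl⟩
  rw [mem_centralizerIn_iff]
  refine ⟨hS₂S hb, fun x hx => ?_⟩
  have h1 := hgc x hx
  have h2 := hprod.2.2.1 a ha x hx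
  -- x * (a * b) = (a * b) * x and a * x = x * a give x * b = b * x
  have : a * (x * b) = a * (b * x) := by
    calc a * (x * b) = (a * x) * b := by group
      _ = (x * a) * b := by rw [h2]
      _ = x * (a * b) := by group
      _ = (a * b) * x := h1
      _ = a * (b * x) := by group
  exact mul_left_cancel this

/-- Strong invariance of `R'` in `F`. -/
theorem prod_strongInv_R' (F : FusionSystem S) (hF : F.IsSaturated p)
    (hprod : IsInternalDirectProduct S₁ S₂ S) (h₁ : F.StronglyClosed S₁) (h₂ : F.StronglyClosed S₂)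
    (R' : FusionSystem S₁) (hR' : ∀ P : Subgroup Ω, P ≤ S₁ → R'.Hom P = F.centralizerHom S₂ P) :
    StrongInv R' F := by
  intro P Q hPQ hQT φ hφ hφQ ψ hψ
  have hPT : P ≤ S₁ := hPQ.trans hQT
  rw [hR' P hPT] at hφ
  obtain ⟨hφF, -, -, φ', hφ', hφ'P, hφ'S₂⟩ := hφ
  obtain ⟨ψ', hψ', hψ'Q⟩ := exists_ext_sup (S₂ := S₂) F hF (fun Q hQ => prod_centralizes hprod hQ) h₁ h₂ hQT hψ
  have hPQ' : P ⊔ S₂ ≤ Q ⊔ S₂ := sup_le_sup_right hPQ S₂
  have hφ'Q : ∀ y : ↥(P ⊔ S₂), φ' y ∈ Q ⊔ S₂ := by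
    apply forall_mem_of_sup
    · intro x
      rw [hφ'P]
      exact (le_sup_left : Q ≤ Q ⊔ S₂) (hφQ x)
    · intro x
      rw [hφ'S₂]
      exact (le_sup_right : S₂ ≤ Q ⊔ S₂) x.2
  obtain ⟨χ', hχ', hχ'x⟩ := exists_conj_map F hPQ' hφ' hφ'Q hψ'
  -- the target subgroup
  have hD : (P.subgroupOf Q).map ψ ≤ S₁ := by
    rintro _ ⟨y, -, rfl⟩
    exact h₁.2 Q hQT ψ hψ y
  have hsurj := surj_on_stronglyClosed F h₂ (le_sup_right : S₂ ≤ Q ⊔ S₂) hψ'
  have hle : (P.subgroupOf Q).map ψ ⊔ S₂ ≤ ((P ⊔ S₂).subgroupOf (Q ⊔ S₂)).map ψ' := by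
    apply sup_le
    · rintro _ ⟨y, hy, rfl⟩
      refine ⟨Subgroup.inclusion le_sup_left y, ?_, hψ'Q y⟩
      rw [SetLike.mem_coe, Subgroup.mem_subgroupOf]
      exact (le_sup_left : P ≤ P ⊔ S₂) hy
    · intro s hs
      obtain ⟨t', ht', ht⟩ := hsurj s hs
      refine ⟨⟨t', (le_sup_right : S₂ ≤ Q ⊔ S₂) ht'⟩, ?_, ht⟩
      rw [SetLike.mem_coe, Subgroup.mem_subgroupOf]
      exact (le_sup_right : S₂ ≤ P ⊔ S₂) ht'
  have hχ'' : χ'.comp (Subgroup.inclusion hle) ∈ F.Hom ((P.subgroupOf Q).map ψ ⊔ S₂) :=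
    inclusion_comp_mem F hle hχ'
  have hχ : (χ'.comp (Subgroup.inclusion hle)).comp (Subgroup.inclusion le_sup_left) ∈
      F.Hom ((P.subgroupOf Q).map ψ) := inclusion_comp_mem F le_sup_left hχ''
  refine ⟨(χ'.comp (Subgroup.inclusion hle)).comp (Subgroup.inclusion le_sup_left), ?_, fun x hx => ?_⟩
  · rw [hR' _ hD]
    refine ⟨hχ, hD.trans (prod_le_centralizerIn hprod), fun z => ?_, _, hχ'', fun z => rfl, fun s => ?_⟩
    · exact prod_le_centralizerIn hprod (h₁.2 _ hD _ hχ z)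
    · obtain ⟨t', ht', ht⟩ := hsurj s s.2
      have hmem : ψ' (Subgroup.inclusion hPQ' ⟨t', (le_sup_right : S₂ ≤ P ⊔ S₂) ht'⟩) ∈
          ((P ⊔ S₂).subgroupOf (Q ⊔ S₂)).map ψ' := by
        refine ⟨_, ?_, rfl⟩
        rw [SetLike.mem_coe, Subgroup.mem_subgroupOf]
        exact (le_sup_right : S₂ ≤ P ⊔ S₂) ht'
      have h1 := hχ'x ⟨t', (le_sup_right : S₂ ≤ P ⊔ S₂) ht'⟩ hmem
      have h3 : φ' ⟨t', (le_sup_right : S₂ ≤ P ⊔ S₂) ht'⟩ = t' := hφ'S₂ ⟨t', ht'⟩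
      have h2 : ψ' ⟨φ' ⟨t', (le_sup_right : S₂ ≤ P ⊔ S₂) ht'⟩, hφ'Q _⟩ = (s : Ω) := by
        have e : (⟨φ' ⟨t', (le_sup_right : S₂ ≤ P ⊔ S₂) ht'⟩, hφ'Q _⟩ : ↥(Q ⊔ S₂)) =
            ⟨t', (le_sup_right : S₂ ≤ Q ⊔ S₂) ht'⟩ := Subtype.ext h3
        rw [e]
        exact ht
      have key : ∀ (z : Ω) (hz : z ∈ ((P ⊔ S₂).subgroupOf (Q ⊔ S₂)).map ψ'), z = (s : Ω) → χ' ⟨z, hz⟩ = s := by
        intro z hz hzs
        have hz' : z = ψ' (Subgroup.inclusion hPQ' ⟨t', (le_sup_right : S₂ ≤ P ⊔ S₂) ht'⟩) := hzs.trans ht.symm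
        subst hz'
        exact h1.trans h2
      exact key _ _ rfl
  · show χ' ⟨ψ (Subgroup.inclusion hPQ x), _⟩ = ψ ⟨φ x, hφQ x⟩
    have h1 := hχ'x (Subgroup.inclusion le_sup_left x) (by
      refine ⟨_, ?_, rfl⟩
      rw [SetLike.mem_coe, Subgroup.mem_subgroupOf]
      exact (le_sup_left : P ≤ P ⊔ S₂) x.2)
    have h2 : ψ' ⟨φ' (Subgroup.inclusion le_sup_left x), hφ'Q _⟩ = ψ ⟨φ x, hφQ x⟩ := by
      rw [← hψ'Q]
      congr 1
      apply Subtype.ext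
      exact hφ'P x
    rw [← h2, ← h1]
    congr 1
    apply Subtype.ext
    exact (hψ'Q (Subgroup.inclusion hPQ x)).symm

end Prod

end Cfsg.Agent.Lib.Helper26
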