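import Cfsg.Agent.Lib.Helper26.CravC
import Cfsg.Agent.Lib.Helper26.FSDirectProdB
import Cfsg.Agent.Lib.Helper26.FSNormalExt

/-!
Towards S5141, part D: automorphisms of `P C_S(T)` (in `F`) that are trivial on the `E`-centric subgroup `P` and
"semisimple" extend to automorphisms of `T C_S(T)` trivial on `T`.
-/

set_option autoImplicit false

namespace Cfsg.Agent.Lib.Helper26.Crav

open Cfsg Cfsg.FusionSystem Cfsg.Agent.Lib.Helper26 Cfsg.Agent.Lib.Helper27 Cfsg.Agent.Lib.Helper26.PPLeast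

variable {Ω : Type*} [Group Ω] {S T : Subgroup Ω}

section Stab

variable [Finite S] {p : ℕ} [Fact p.Prime]

/-- The stabilizer of the chain `1 ≤ A ≤ U` inside `Aut_F(U)`. -/
def chainStab (F : FusionSystem S) (U A : Subgroup Ω) : Subgroup (MulAut U) where
  carrier := {ε | ε ∈ F.autGroup U ∧ (∀ x : U, (x : Ω) ∈ A → ε x = x) ∧ ∀ x : U, ((x⁻¹ * ε x : U) : Ω) ∈ A}
  one_mem' := by
    refine ⟨Subgroup.one_mem _, fun x _ => rfl, fun x => ?_⟩
    simp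
  mul_mem' := by
    rintro ε₁ ε₂ ⟨h1, h1A, h1U⟩ ⟨h2, h2A, h2U⟩
    refine ⟨Subgroup.mul_mem _ h1 h2, fun x hx => ?_, fun x => ?_⟩
    · rw [MulAut.mul_apply, h2A x hx, h1A x hx]
    · have e : x⁻¹ * (ε₁ * ε₂) x = (x⁻¹ * ε₁ x) * (x⁻¹ * ε₂ x) := by
        have h3 : ε₂ x = x * (x⁻¹ * ε₂ x) := by group
        rw [MulAut.mul_apply]
        conv_lhs => rw [h3]
        rw [map_mul, h1A _ (h2U x)]
        group
      rw [e]
      exact A.mul_mem (h1U x) (h2U x)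
  inv_mem' := by
    rintro ε ⟨h1, h1A, h1U⟩
    refine ⟨Subgroup.inv_mem _ h1, fun x hx => ?_, fun x => ?_⟩
    · have h3 : ε⁻¹ (ε x) = ε⁻¹ x := by rw [h1A x hx]
      rw [MulAut.inv_apply_self] at h3
      exact h3.symm
    · have h3 := h1U (ε⁻¹ x)
      rw [MulAut.apply_inv_self] at h3
      have e : x⁻¹ * ε⁻¹ x = ((ε⁻¹ x)⁻¹ * x)⁻¹ := by group
      rw [e]
      exact A.inv_mem h3

omit [Finite S] in
theorem mem_chainStab_iff (F : FusionSystem S) (U A : Subgroup Ω) (ε : MulAut U) :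
    ε ∈ chainStab F U A ↔ (ε ∈ F.autGroup U ∧ (∀ x : U, (x : Ω) ∈ A → ε x = x) ∧
      ∀ x : U, ((x⁻¹ * ε x : U) : Ω) ∈ A) := Iff.rfl

/-- For `U` fully automized and `A ≤ U` invariant under `Aut_F(U)`, the stabilizer in `Aut_F(U)` of the chain `1 ≤ A ≤ U`
lies in `Aut_S(U)`. -/
theorem chainStab_le_autInducedBy (hS : IsPGroup p S) (F : FusionSystem S) {U A : Subgroup Ω}
    (hUA : F.IsFullyAutomized p U) (hAU : A ≤ U)
    (hAinv : ∀ ω ∈ F.autGroup U, ∀ x : U, (x : Ω) ∈ A → ((ω x : U) : Ω) ∈ A) :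
    chainStab F U A ≤ autInducedBy S U := by
  have hUS : U ≤ S := hUA.1
  have hfinA : Finite A := finite_of_le (hAU.trans hUS)
  have hAp : IsPGroup p A := hS.to_le (hAU.trans hUS)
  obtain ⟨a, ha⟩ := hAp.exists_card_eq
  have hZp : IsPGroup p (chainStab F U A) := by
    rintro ⟨ε, hε, hεA, hεU⟩
    refine ⟨a, ?_⟩
    apply Subtype.ext
    show ε ^ (p ^ a) = 1
    ext x
    have h1 : ε x = x * (x⁻¹ * ε x) := by group
    have h2 := aut_pow_apply_of_fixed ε h1 (hεA _ (hεU x)) (p ^ a)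
    rw [h2]
    have h3 : (⟨((x⁻¹ * ε x : U) : Ω), hεU x⟩ : A) ^ (p ^ a) = 1 := by
      rw [← ha]
      exact pow_card_eq_one'
    have h4 : (x⁻¹ * ε x) ^ (p ^ a) = 1 := by
      apply Subtype.ext
      have := congrArg (fun z : A => (z : Ω)) h3
      simpa using this
    rw [h4, mul_one]
    rfl
  have hZle : chainStab F U A ≤ F.autGroup U := fun ε hε => hε.1
  obtain ⟨χ, hχ, hχB⟩ := exists_conj_mem_autInducedBy F hUA (chainStab F U A) hZle hZp
  intro ε hε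
  obtain ⟨hεF, hεA, hεU⟩ := hε
  have hχinv : χ⁻¹ ∈ F.autGroup U := Subgroup.inv_mem _ hχ
  have hβ : χ⁻¹ * ε * χ ∈ chainStab F U A := by
    refine ⟨Subgroup.mul_mem _ (Subgroup.mul_mem _ hχinv hεF) hχ, fun x hx => ?_, fun x => ?_⟩
    · rw [MulAut.mul_apply, MulAut.mul_apply, hεA _ (hAinv χ hχ x hx), MulAut.inv_apply_self]
    · have h1 := hεU (χ x)
      have h2 := hAinv χ⁻¹ hχinv _ h1
      have e : (χ⁻¹ ((χ x)⁻¹ * ε (χ x)) : U) = x⁻¹ * (χ⁻¹ * ε * χ) x := by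
        rw [map_mul, map_inv, MulAut.inv_apply_self]
        rfl
      rw [e] at h2
      exact h2
  have h1 := hχB _ hβ
  have e : χ * (χ⁻¹ * ε * χ) * χ⁻¹ = ε := by group
  rw [e] at h1
  exact h1

end Stab

/-- An exponent congruent to `1` modulo `b` and divisible by `p ^ a`. -/
theorem exists_exp (p a b : ℕ) (hp : 0 < p) (hb : b.Coprime p) (hb0 : b ≠ 0) :
    ∃ j u q : ℕ, j = p ^ a * u ∧ j = b * q + 1 := by
  have hcop : (p ^ a).Coprime b := (hb.symm.pow_left a)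
  have h1 := Nat.ModEq.pow_totient hcop
  have hpos : 0 < Nat.totient b := Nat.totient_pos.mpr (Nat.pos_of_ne_zero hb0)
  obtain ⟨n, hn⟩ := Nat.exists_eq_succ_of_ne_zero hpos.ne'
  have hj1 : 1 ≤ (p ^ a) ^ Nat.totient b := Nat.pow_pos (Nat.pow_pos hp)
  obtain ⟨q, hq⟩ := (Nat.modEq_iff_dvd' hj1).mp h1.symm
  refine ⟨(p ^ a) ^ Nat.totient b, (p ^ a) ^ n, q, ?_, ?_⟩
  · rw [hn, pow_succ]
    ring
  · omega

section Geom

variable {P : Subgroup Ω}

/-- `(P C_S(T)) ∩ T = P` when `C_T(P) ≤ P`. -/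
theorem mem_of_mem_sup_of_mem (hPT : P ≤ T) (hcen : centralizerIn T P ≤ P) {y : Ω}
    (hy : y ∈ P ⊔ centralizerIn S T) (hyT : y ∈ T) : y ∈ P := by
  obtain ⟨x, c, h⟩ := exists_mul_of_mem_sup hPT ⟨y, hy⟩
  have hyx : y = x * c := congrArg Subtype.val h
  have hcT : (c : Ω) ∈ T := by
    have : (c : Ω) = (x : Ω)⁻¹ * y := by rw [hyx]; group
    rw [this]
    exact T.mul_mem (T.inv_mem (hPT x.2)) hyT
  have hcP : (c : Ω) ∈ P :=
    hcen (mem_centralizerIn_iff.mpr ⟨hcT, fun z hz => mem_centralizerIn_comm c.2 (hPT hz)⟩)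
  rw [hyx]
  exact P.mul_mem x.2 hcP

theorem conj_mem_sup_of_mem_normalizerIn (hPT : P ≤ T) {n : Ω} (hn : n ∈ normalizerIn T P) {y : Ω}
    (hy : y ∈ P ⊔ centralizerIn S T) : n * y * n⁻¹ ∈ P ⊔ centralizerIn S T ∧ y⁻¹ * (n * y * n⁻¹) ∈ P := by
  obtain ⟨x, c, h⟩ := exists_mul_of_mem_sup hPT ⟨y, hy⟩
  have hyx : y = x * c := congrArg Subtype.val h
  have h1 : n * (c : Ω) = (c : Ω) * n := mem_centralizerIn_comm c.2 hn.1
  have h2 : n * (c : Ω) * n⁻¹ = c := by rw [h1, mul_inv_cancel_right]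
  have h3 : n * (x : Ω) * n⁻¹ ∈ P := (Subgroup.mem_normalizer_iff.mp hn.2 x).mp x.2
  have h4 : n * y * n⁻¹ = (n * x * n⁻¹) * c := by
    rw [hyx]
    calc n * ((x : Ω) * c) * n⁻¹ = (n * x * n⁻¹) * (n * c * n⁻¹) := by group
      _ = _ := by rw [h2]
  refine ⟨?_, ?_⟩
  · rw [h4]
    exact Subgroup.mul_mem _ (Subgroup.mem_sup_left h3) (Subgroup.mem_sup_right c.2)
  · have h5 : (x : Ω)⁻¹ * (n * x * n⁻¹) ∈ P := P.mul_mem (P.inv_mem x.2) h3
    have h6 : (x : Ω)⁻¹ * (n * x * n⁻¹) * (c : Ω) = (c : Ω) * ((x : Ω)⁻¹ * (n * x * n⁻¹)) :=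
      mem_centralizerIn_comm c.2 (hPT h5)
    have h7 : y⁻¹ * (n * y * n⁻¹) = (x : Ω)⁻¹ * (n * x * n⁻¹) := by
      rw [h4, hyx]
      calc ((x : Ω) * c)⁻¹ * (n * x * n⁻¹ * c) = (c : Ω)⁻¹ * ((x : Ω)⁻¹ * (n * x * n⁻¹) * c) := by group
        _ = (c : Ω)⁻¹ * ((c : Ω) * ((x : Ω)⁻¹ * (n * x * n⁻¹))) := by rw [h6]
        _ = _ := by group
    rw [h7]
    exact h5

theorem sup_le_normalizerIn [Finite S] (hTS : T ≤ S) (hPT : P ≤ T) :
    normalizerIn T P ⊔ centralizerIn S T ≤ normalizerIn S (P ⊔ centralizerIn S T) := by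
  have hVS : P ⊔ centralizerIn S T ≤ S := sup_centralizerIn_le hTS hPT
  apply sup_le
  · intro n hn
    refine ⟨hTS hn.1, ?_⟩
    have : Finite ↥(P ⊔ centralizerIn S T) := finite_of_le hVS
    apply mem_normalizer_of_conj_mem_finite
    intro y hy
    exact (conj_mem_sup_of_mem_normalizerIn hPT hn hy).1
  · exact le_sup_right.trans (le_normalizerIn hVS)

end Geom

/-- The commutator of an automorphism fixing `A` pointwise with an automorphism acting trivially modulo `A`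
stabilizes the chain `1 ≤ A ≤ V`. -/
theorem comm_stab {V A : Subgroup Ω} (δ c : MulAut V) (hδA : ∀ x : V, (x : Ω) ∈ A → δ x = x)
    (hc'A : ∀ x : V, (x : Ω) ∈ A → ((c⁻¹ x : V) : Ω) ∈ A)
    (hcU : ∀ y : V, ((y⁻¹ * c y : V) : Ω) ∈ A) (hc'U : ∀ y : V, ((y⁻¹ * c⁻¹ y : V) : Ω) ∈ A) :
    (∀ x : V, (x : Ω) ∈ A → (δ * c * δ⁻¹ * c⁻¹) x = x) ∧
      ∀ y : V, ((y⁻¹ * (δ * c * δ⁻¹ * c⁻¹) y : V) : Ω) ∈ A := by
  have hδ'A : ∀ x : V, (x : Ω) ∈ A → δ⁻¹ x = x := by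
    intro x hx
    have h3 : δ⁻¹ (δ x) = δ⁻¹ x := by rw [hδA x hx]
    rw [MulAut.inv_apply_self] at h3
    exact h3.symm
  constructor
  · intro x hx
    rw [MulAut.mul_apply, MulAut.mul_apply, MulAut.mul_apply, hδ'A _ (hc'A x hx), MulAut.apply_inv_self,
      hδA x hx]
  · intro y
    obtain ⟨p₁, hp₁⟩ : ∃ p₁ : V, p₁ = y⁻¹ * c⁻¹ y := ⟨_, rfl⟩
    have hp₁A : (p₁ : Ω) ∈ A := hp₁ ▸ hc'U y
    obtain ⟨y₂, hy₂⟩ : ∃ y₂ : V, y₂ = δ⁻¹ (c⁻¹ y) := ⟨_, rfl⟩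
    obtain ⟨p₂, hp₂⟩ : ∃ p₂ : V, p₂ = y₂⁻¹ * c y₂ := ⟨_, rfl⟩
    have hp₂A : (p₂ : Ω) ∈ A := hp₂ ▸ hcU y₂
    have h1 : c y₂ = y₂ * p₂ := by rw [hp₂]; group
    have h2 : δ y₂ = c⁻¹ y := by rw [hy₂, MulAut.apply_inv_self]
    have h3 : c⁻¹ y = y * p₁ := by rw [hp₁]; group
    have h4 : (δ * c * δ⁻¹ * c⁻¹) y = y * p₁ * p₂ := by
      rw [MulAut.mul_apply, MulAut.mul_apply, MulAut.mul_apply, ← hy₂, h1, map_mul, h2, h3, hδA _ hp₂A]
    rw [h4]
    have h5 : y⁻¹ * (y * p₁ * p₂) = p₁ * p₂ := by group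
    rw [h5]
    exact A.mul_mem hp₁A hp₂A

section Step

variable [Finite S] {p : ℕ} [Fact p.Prime]

/-- **The extension step.** -/
theorem extend_step (hS : IsPGroup p S) (F : FusionSystem S) (hF : F.IsSaturated p) (E : FusionSystem T)
    (hE : E.IsInvariantIn F) {j : ℕ} (hjT : ∀ z : T, z ^ j = 1) {P : Subgroup Ω} (hPc : E.IsCentric P)
    (δ : MulAut ↥(P ⊔ centralizerIn S T)) (hδ : δ ∈ F.autGroup (P ⊔ centralizerIn S T)) (hδj : δ ^ j = δ)
    (hδP : ∀ x : ↥(P ⊔ centralizerIn S T), (x : Ω) ∈ P → δ x = x) :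
    ∃ δ₁ : MulAut ↥(normalizerIn T P ⊔ centralizerIn S T),
      δ₁ ∈ F.autGroup (normalizerIn T P ⊔ centralizerIn S T) ∧ δ₁ ^ j = δ₁ ∧
      (∀ x : ↥(normalizerIn T P ⊔ centralizerIn S T), (x : Ω) ∈ normalizerIn T P → δ₁ x = x) ∧
      ∀ (c : Ω) (hc : c ∈ centralizerIn S T),
        ((δ₁ ⟨c, Subgroup.mem_sup_right hc⟩ : ↥(normalizerIn T P ⊔ centralizerIn S T)) : Ω) =
        ((δ ⟨c, Subgroup.mem_sup_right hc⟩ : ↥(P ⊔ centralizerIn S T)) : Ω) := by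
  have hE' := hE
  obtain ⟨hEF, hT, hinv, hfrat⟩ := hE
  have hTS : T ≤ S := hT.1
  have hPT : P ≤ T := hPc.1
  have hVS : P ⊔ centralizerIn S T ≤ S := sup_centralizerIn_le hTS hPT
  have hP₁T : normalizerIn T P ≤ T := normalizerIn_le T P
  have hNS : normalizerIn T P ⊔ centralizerIn S T ≤ S := sup_centralizerIn_le hTS hP₁T
  have hPP₁ : P ≤ normalizerIn T P := le_normalizerIn hPT
  have hVN : P ⊔ centralizerIn S T ≤ normalizerIn T P ⊔ centralizerIn S T := sup_le_sup_right hPP₁ _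
  have hNN : normalizerIn T P ⊔ centralizerIn S T ≤ normalizerIn S (P ⊔ centralizerIn S T) :=
    sup_le_normalizerIn hTS hPT
  have hcenP : ∀ Q, F.IsConj P Q → centralizerIn T Q ≤ Q := ((isCentric_iff_of_invariant hE' P).mp hPc).2
  have hcenPP : centralizerIn T P ≤ P := hcenP P (isConj_refl F (hPT.trans hTS))
  have hfinV : Finite ↥(P ⊔ centralizerIn S T) := finite_of_le hVS
  have hfinN : Finite ↥(normalizerIn T P ⊔ centralizerIn S T) := finite_of_le hNS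
  -- a fully normalized conjugate `U` of `V`
  obtain ⟨U, hVU, hUA, hUR, ⟨ζ⟩⟩ := exists_normHom_of_saturated hS F hF hVS
  have hUS : U ≤ S := ζ.leQ
  have hζT : ∀ y : ↥(P ⊔ centralizerIn S T), (y : Ω) ∈ T ↔ ((ζ.e y : U) : Ω) ∈ T := fun y =>
    apply_mem_iff_of_stronglyClosed F hT ζ.mem (Subgroup.inclusion (le_normalizerIn ζ.le) y)
  -- the composite `e' = ζ.e ∘ δ`
  have hδF : IsFIso F (δ : ↥(P ⊔ centralizerIn S T) ≃* ↥(P ⊔ centralizerIn S T)) :=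
    (mem_autGroup_iff_isFIso F hVS δ).mp hδ
  obtain ⟨e', he'def⟩ : ∃ e' : ↥(P ⊔ centralizerIn S T) ≃* U,
      e' = (δ : ↥(P ⊔ centralizerIn S T) ≃* ↥(P ⊔ centralizerIn S T)).trans ζ.e := ⟨_, rfl⟩
  have he' : IsFIso F e' := he'def ▸ hδF.trans ζ.e_isFIso
  have he'x : ∀ y, e' y = ζ.e (δ y) := fun y => by rw [he'def]; rfl
  obtain ⟨θ', hθ', hθ'x⟩ := hUR.2 _ (equivHom e') he' (equivHom_range e')
  have hAinv : ∀ ω ∈ F.autGroup U, ∀ x : U, (x : Ω) ∈ U ⊓ T → ((ω x : U) : Ω) ∈ U ⊓ T := by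
    intro ω hω x hx
    refine ⟨(ω x).2, ?_⟩
    exact apply_mem_of_stronglyClosed F hT ((mem_autGroup_iff F hUS ω).mp hω) x hx.2
  have hext : normalizerIn T P ⊔ centralizerIn S T ≤ extender S (P ⊔ centralizerIn S T) (equivHom e') := by
    apply sup_le
    · intro n hn
      have hnN : n ∈ normalizerIn S (P ⊔ centralizerIn S T) := hNN (Subgroup.mem_sup_left hn)
      rw [mem_extender_iff]
      refine ⟨hnN.1, hnN.2, ?_⟩
      obtain ⟨cn, hcn⟩ : ∃ cn : MulAut ↥(P ⊔ centralizerIn S T),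
          cn = (P ⊔ centralizerIn S T).normalizerMonoidHom ⟨n, hnN.2⟩ := ⟨_, rfl⟩
      have hcnx : ∀ y, ((cn y : ↥(P ⊔ centralizerIn S T)) : Ω) = n * y * n⁻¹ := fun y => by rw [hcn]; rfl
      have hcn'x : ∀ y, ((cn⁻¹ y : ↥(P ⊔ centralizerIn S T)) : Ω) = n⁻¹ * y * n := by
        intro y
        have h1 : cn (cn⁻¹ y) = y := MulAut.apply_inv_self _ cn y
        have h2 := hcnx (cn⁻¹ y)
        rw [h1] at h2
        rw [h2]
        group
      have hcnS : cn ∈ autInducedBy S (P ⊔ centralizerIn S T) :=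
        hcn ▸ normalizerMonoidHom_mem_autInducedBy hnN.1 hnN.2
      have hcnF : cn ∈ F.autGroup (P ⊔ centralizerIn S T) := autInducedBy_le_autGroup F hVS hcnS
      obtain ⟨ε, hε⟩ : ∃ ε : MulAut ↥(P ⊔ centralizerIn S T), ε = δ * cn * δ⁻¹ * cn⁻¹ := ⟨_, rfl⟩
      have hεF : ε ∈ F.autGroup (P ⊔ centralizerIn S T) := by
        rw [hε]
        exact Subgroup.mul_mem _ (Subgroup.mul_mem _ (Subgroup.mul_mem _ hδ hcnF) (Subgroup.inv_mem _ hδ))
          (Subgroup.inv_mem _ hcnF)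
      have hn' : n⁻¹ ∈ normalizerIn T P := Subgroup.inv_mem _ hn
      have hstab := comm_stab (A := P) δ cn hδP
        (fun x hx => by
          rw [hcn'x]
          have := (Subgroup.mem_normalizer_iff.mp hn'.2 x).mp hx
          simpa using this)
        (fun y => by
          show ((y : Ω))⁻¹ * ((cn y : ↥(P ⊔ centralizerIn S T)) : Ω) ∈ P
          rw [hcnx]
          exact (conj_mem_sup_of_mem_normalizerIn hPT hn y.2).2)
        (fun y => by
          show ((y : Ω))⁻¹ * ((cn⁻¹ y : ↥(P ⊔ centralizerIn S T)) : Ω) ∈ P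
          rw [hcn'x]
          have := (conj_mem_sup_of_mem_normalizerIn hPT hn' y.2).2
          simpa using this)
      rw [← hε] at hstab
      obtain ⟨hεA, hεU⟩ := hstab
      -- transport to `U`
      have hε' : MulAut.congr ζ.e ε ∈ chainStab F U (U ⊓ T) := by
        refine ⟨congr_mem_autGroup F ζ.e_isFIso hεF, fun u hu => ?_, fun u => ?_⟩
        · have h1 : ((ζ.e.symm u : ↥(P ⊔ centralizerIn S T)) : Ω) ∈ T := by
            rw [hζT, MulEquiv.apply_symm_apply]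
            exact hu.2
          have h2 := mem_of_mem_sup_of_mem hPT hcenPP (ζ.e.symm u).2 h1
          show ζ.e (ε (ζ.e.symm u)) = u
          rw [hεA _ h2, MulEquiv.apply_symm_apply]
        · have h1 := hεU (ζ.e.symm u)
          have e1 : u⁻¹ * (MulAut.congr ζ.e ε) u = ζ.e ((ζ.e.symm u)⁻¹ * ε (ζ.e.symm u)) := by
            rw [map_mul, map_inv, MulEquiv.apply_symm_apply]
            rfl
          rw [e1]
          exact ⟨Subtype.coe_prop _, (hζT _).mp (hPT h1)⟩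
      have h1 := chainStab_le_autInducedBy hS F hUA inf_le_left hAinv hε'
      have h2 := ζ.autS_map_le cn hcnS
      obtain ⟨h, hhS, hh⟩ := (mem_autInducedBy_iff S U _).mp (Subgroup.mul_mem _ h1 h2)
      refine ⟨h, hhS, fun x hx => ?_⟩
      have e1 : (⟨n * (x : Ω) * n⁻¹, hx⟩ : ↥(P ⊔ centralizerIn S T)) = cn x := Subtype.ext (hcnx x).symm
      rw [e1]
      show ((e' (cn x) : U) : Ω) = h * ((e' x : U) : Ω) * h⁻¹
      rw [← hh (e' x)]
      congr 1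
      rw [he'x, he'x, hε]
      simp [MulAut.congr, MulAut.mul_apply]
    · exact le_sup_right.trans (le_extender hVS _ (fun x => hUS (e' x).2))
  -- the extension `θ` of `e'` to `N`
  obtain ⟨θ, hθdef⟩ : ∃ θ : ↥(normalizerIn T P ⊔ centralizerIn S T) →* Ω,
      θ = θ'.comp (Subgroup.inclusion hext) := ⟨_, rfl⟩
  have hθ : θ ∈ F.Hom (normalizerIn T P ⊔ centralizerIn S T) := hθdef ▸ inclusion_comp_mem F hext hθ'
  have hθV : ∀ y : ↥(P ⊔ centralizerIn S T), θ (Subgroup.inclusion hVN y) = ((ζ.e (δ y) : U) : Ω) := by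
    intro y
    rw [hθdef, ← he'x]
    exact hθ'x y y.2 (hext (hVN y.2))
  -- `ζ` restricted to `N`
  obtain ⟨ζN, hζNdef⟩ : ∃ ζN : ↥(normalizerIn T P ⊔ centralizerIn S T) →* Ω,
      ζN = ζ.φ.comp (Subgroup.inclusion hNN) := ⟨_, rfl⟩
  have hζN : ζN ∈ F.Hom (normalizerIn T P ⊔ centralizerIn S T) := hζNdef ▸ inclusion_comp_mem F hNN ζ.mem
  have hζNV : ∀ y : ↥(P ⊔ centralizerIn S T), ζN (Subgroup.inclusion hVN y) = ((ζ.e y : U) : Ω) := by
    intro y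
    rw [hζNdef]
    rfl
  have hθP : ∀ y : ↥(normalizerIn T P ⊔ centralizerIn S T), (y : Ω) ∈ P → θ y = ζN y := by
    intro y hy
    have e1 : y = Subgroup.inclusion hVN ⟨(y : Ω), Subgroup.mem_sup_left hy⟩ := Subtype.ext rfl
    rw [e1, hθV, hζNV, hδP _ hy]
  have hθP₁ : ∀ n : ↥(normalizerIn T P ⊔ centralizerIn S T), (n : Ω) ∈ normalizerIn T P →
      ∃ x₀ : ↥(P ⊔ centralizerIn S T), (x₀ : Ω) ∈ P ∧ θ n = ζN (n * Subgroup.inclusion hVN x₀) := by
    intro n hn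
    have hPN : P ≤ normalizerIn T P ⊔ centralizerIn S T := hPP₁.trans le_sup_left
    obtain ⟨φP, hφPdef⟩ : ∃ φP : P →* Ω, φP = ζN.comp (Subgroup.inclusion hPN) := ⟨_, rfl⟩
    have hφP : φP ∈ F.Hom P := hφPdef ▸ inclusion_comp_mem F hPN hζN
    have hcenQ : centralizerIn T φP.range ≤ φP.range := hcenP _ ⟨φP, hφP, rfl⟩
    have hw : (ζN n)⁻¹ * θ n ∈ centralizerIn T φP.range := by
      rw [mem_centralizerIn_iff]
      constructor
      · exact T.mul_mem (T.inv_mem (apply_mem_of_stronglyClosed F hT hζN n hn.1))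
          (apply_mem_of_stronglyClosed F hT hθ n hn.1)
      · rintro _ ⟨x, rfl⟩
        have hx' : (n : Ω) * x * (n : Ω)⁻¹ ∈ P := (Subgroup.mem_normalizer_iff.mp hn.2 x).mp x.2
        obtain ⟨x', hx'def⟩ : ∃ x' : ↥(normalizerIn T P ⊔ centralizerIn S T),
            x' = n * Subgroup.inclusion hPN x * n⁻¹ := ⟨_, rfl⟩
        have hx'P : (x' : Ω) ∈ P := by rw [hx'def]; exact hx'
        have h1 := hθP x' hx'P
        have h2 := hθP (Subgroup.inclusion hPN x) x.2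
        rw [hx'def, map_mul, map_mul, map_mul, map_mul, h2, map_inv, map_inv] at h1
        have h3 : φP x = ζN (Subgroup.inclusion hPN x) := by rw [hφPdef]; rfl
        rw [h3]
        obtain ⟨a, ha⟩ : ∃ a, a = ζN n := ⟨_, rfl⟩
        obtain ⟨b, hb⟩ : ∃ b, b = θ n := ⟨_, rfl⟩
        obtain ⟨q, hq⟩ : ∃ q, q = ζN (Subgroup.inclusion hPN x) := ⟨_, rfl⟩
        rw [← ha, ← hb, ← hq] at h1 ⊢
        calc q * (a⁻¹ * b) = a⁻¹ * (a * q * a⁻¹) * b := by group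
          _ = a⁻¹ * (b * q * b⁻¹) * b := by rw [h1]
          _ = a⁻¹ * b * q := by group
    obtain ⟨x₀, hx₀⟩ := hcenQ hw
    refine ⟨Subgroup.inclusion le_sup_left x₀, x₀.2, ?_⟩
    have h3 : φP x₀ = ζN (Subgroup.inclusion hPN x₀) := by rw [hφPdef]; rfl
    have e1 : Subgroup.inclusion hVN (Subgroup.inclusion le_sup_left x₀) = Subgroup.inclusion hPN x₀ :=
      Subtype.ext rfl
    rw [map_mul, e1, ← h3, hx₀]
    group
  -- the inverse of `ζN`
  obtain ⟨ι, hι, hιx⟩ := F.inv_mem hζN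
  have hθr : ∀ g : ↥(normalizerIn T P ⊔ centralizerIn S T), θ g ∈ ζN.range := by
    intro g
    obtain ⟨n, c, rfl⟩ := exists_mul_of_mem_sup hP₁T g
    obtain ⟨x₀, -, hx₀⟩ := hθP₁ (Subgroup.inclusion le_sup_left n) n.2
    rw [map_mul, hx₀]
    have e1 : (Subgroup.inclusion le_sup_right c : ↥(normalizerIn T P ⊔ centralizerIn S T)) =
        Subgroup.inclusion hVN (Subgroup.inclusion le_sup_right c) := Subtype.ext rfl
    rw [e1, hθV, ← hζNV]
    exact ζN.range.mul_mem ⟨_, rfl⟩ ⟨_, rfl⟩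
  have hδ'mem := F.comp_mem hθ hι hθr
  have hιN : ∀ w : ζN.range, ι w ∈ normalizerIn T P ⊔ centralizerIn S T := by
    rintro ⟨_, g, rfl⟩
    rw [hιx]
    exact g.2
  obtain ⟨δ', hδ'F, hδ'x⟩ := Cfsg.Agent.Lib.Helper26.exists_aut_of_hom F hδ'mem (fun g => hιN _)
  have key : ∀ g g' : ↥(normalizerIn T P ⊔ centralizerIn S T), θ g = ζN g' → δ' g = g' := by
    intro g g' h
    apply Subtype.ext
    rw [hδ'x]
    have e1 : (θ.codRestrict ζN.range hθr) g = ⟨ζN g', ⟨g', rfl⟩⟩ := Subtype.ext h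
    show ι ((θ.codRestrict ζN.range hθr) g) = g'
    rw [e1, hιx]
  have hδ'V : ∀ y : ↥(P ⊔ centralizerIn S T), δ' (Subgroup.inclusion hVN y) = Subgroup.inclusion hVN (δ y) := by
    intro y
    apply key
    rw [hθV, hζNV]
  have hδ'P₁ : ∀ n : ↥(normalizerIn T P ⊔ centralizerIn S T), (n : Ω) ∈ normalizerIn T P →
      ∃ x₀ : ↥(P ⊔ centralizerIn S T), (x₀ : Ω) ∈ P ∧ δ' n = n * Subgroup.inclusion hVN x₀ := by
    intro n hn
    obtain ⟨x₀, hx₀P, hx₀⟩ := hθP₁ n hn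
    exact ⟨x₀, hx₀P, key _ _ hx₀⟩
  -- the `j`-th power
  have hpowV : ∀ (α : MulAut ↥(normalizerIn T P ⊔ centralizerIn S T)),
      (∀ y : ↥(P ⊔ centralizerIn S T), α (Subgroup.inclusion hVN y) = Subgroup.inclusion hVN (δ y)) →
      ∀ y : ↥(P ⊔ centralizerIn S T), (α ^ j) (Subgroup.inclusion hVN y) = Subgroup.inclusion hVN (δ y) := by
    intro α hα y
    have h1 := aut_pow_restrict hVN α δ (fun y => congrArg Subtype.val (hα y).symm) j y
    rw [hδj] at h1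
    exact Subtype.ext h1.symm
  have hδ₁V := hpowV δ' hδ'V
  have hδ₁P₁ : ∀ n : ↥(normalizerIn T P ⊔ centralizerIn S T), (n : Ω) ∈ normalizerIn T P →
      (δ' ^ j) n = n := by
    intro n hn
    obtain ⟨x₀, hx₀P, hx₀⟩ := hδ'P₁ n hn
    have h2 : δ' (Subgroup.inclusion hVN x₀) = Subgroup.inclusion hVN x₀ := by
      rw [hδ'V, hδP x₀ hx₀P]
    have h3 := aut_pow_apply_of_fixed δ' hx₀ h2 j
    rw [h3]
    have h4 : (Subgroup.inclusion hVN x₀) ^ j = 1 := by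
      apply Subtype.ext
      have h5 := hjT ⟨(x₀ : Ω), hPT hx₀P⟩
      have h6 := congrArg (fun z : T => (z : Ω)) h5
      simpa using h6
    rw [h4, mul_one]
  have hfix : ∀ (α : MulAut ↥(normalizerIn T P ⊔ centralizerIn S T)) (k : ℕ)
      (n : ↥(normalizerIn T P ⊔ centralizerIn S T)), α n = n → (α ^ k) n = n := by
    intro α k n h
    induction k with
    | zero => rfl
    | succ k ih => rw [pow_succ, MulAut.mul_apply, h, ih]
  refine ⟨δ' ^ j, Subgroup.pow_mem _ hδ'F j, ?_, hδ₁P₁, fun c hc => ?_⟩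
  · ext g
    obtain ⟨n, c, rfl⟩ := exists_mul_of_mem_sup hP₁T g
    rw [map_mul, map_mul]
    have h1 := hfix (δ' ^ j) j _ (hδ₁P₁ (Subgroup.inclusion le_sup_left n) n.2)
    have e1 : (Subgroup.inclusion le_sup_right c : ↥(normalizerIn T P ⊔ centralizerIn S T)) =
        Subgroup.inclusion hVN (Subgroup.inclusion le_sup_right c) := Subtype.ext rfl
    have h2 := hpowV (δ' ^ j) hδ₁V (Subgroup.inclusion le_sup_right c)
    rw [h1, hδ₁P₁ _ n.2, e1, h2, hδ₁V]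
  · have h2 := hδ₁V ⟨c, Subgroup.mem_sup_right hc⟩
    exact congrArg Subtype.val h2

/-- **Going up to `T`.** An automorphism of `P C_S(T)` in `F`, trivial on the `E`-centric subgroup `P` and with
`δ ^ j = δ` for an exponent `j` killing `T`, agrees on `C_S(T)` with an automorphism of `T C_S(T)` in `F` that is trivial
on `T`. -/
theorem exists_aut_of_trivial (hS : IsPGroup p S) (F : FusionSystem S) (hF : F.IsSaturated p) (E : FusionSystem T)
    (hE : E.IsInvariantIn F) {j : ℕ} (hjT : ∀ z : T, z ^ j = 1) {P : Subgroup Ω} (hPc : E.IsCentric P)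
    (δ : MulAut ↥(P ⊔ centralizerIn S T)) (hδ : δ ∈ F.autGroup (P ⊔ centralizerIn S T)) (hδj : δ ^ j = δ)
    (hδP : ∀ x : ↥(P ⊔ centralizerIn S T), (x : Ω) ∈ P → δ x = x) :
    ∃ κ : MulAut ↥(T ⊔ centralizerIn S T), κ ∈ F.autGroup (T ⊔ centralizerIn S T) ∧
      (∀ x : ↥(T ⊔ centralizerIn S T), (x : Ω) ∈ T → κ x = x) ∧
      ∀ (c : Ω) (hc : c ∈ centralizerIn S T),
        ((κ ⟨c, Subgroup.mem_sup_right hc⟩ : ↥(T ⊔ centralizerIn S T)) : Ω) =
        ((δ ⟨c, Subgroup.mem_sup_right hc⟩ : ↥(P ⊔ centralizerIn S T)) : Ω) := by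
  have hTS : T ≤ S := hE.2.1.1
  have hTp : IsPGroup p T := hS.to_le hTS
  have hfinT : Finite T := finite_of_le hTS
  have main : ∀ d : ℕ, ∀ (P : Subgroup Ω) (_ : E.IsCentric P) (δ : MulAut ↥(P ⊔ centralizerIn S T))
      (_ : δ ∈ F.autGroup (P ⊔ centralizerIn S T)) (_ : δ ^ j = δ)
      (_ : ∀ x : ↥(P ⊔ centralizerIn S T), (x : Ω) ∈ P → δ x = x), Nat.card T - Nat.card P = d →
      ∃ κ : MulAut ↥(T ⊔ centralizerIn S T), κ ∈ F.autGroup (T ⊔ centralizerIn S T) ∧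
        (∀ x : ↥(T ⊔ centralizerIn S T), (x : Ω) ∈ T → κ x = x) ∧
        ∀ (c : Ω) (hc : c ∈ centralizerIn S T),
          ((κ ⟨c, Subgroup.mem_sup_right hc⟩ : ↥(T ⊔ centralizerIn S T)) : Ω) =
          ((δ ⟨c, Subgroup.mem_sup_right hc⟩ : ↥(P ⊔ centralizerIn S T)) : Ω) := by
    intro d
    induction d using Nat.strong_induction_on with
    | _ d ih =>
      intro P hPc δ hδ hδj hδP hd
      by_cases hPT : P = T
      · subst hPT
        exact ⟨δ, hδ, hδP, fun c hc => rfl⟩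
      · obtain ⟨δ₁, hδ₁, hδ₁j, hδ₁P, hδ₁c⟩ := extend_step hS F hF E hE hjT hPc δ hδ hδj hδP
        have hNc : E.IsCentric (normalizerIn T P) :=
          isCentric_of_le E hPc (le_normalizerIn hPc.1) (normalizerIn_le T P)
        have hlt : Nat.card P < Nat.card (normalizerIn T P) := card_lt_card_normalizerIn hTp hPc.1 hPT
        have hle : Nat.card (normalizerIn T P) ≤ Nat.card T := Subgroup.card_le_of_le (normalizerIn_le T P)
        obtain ⟨κ, hκ, hκT, hκc⟩ := ih (Nat.card T - Nat.card (normalizerIn T P)) (by omega) _ hNc δ₁ hδ₁ hδ₁j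
          hδ₁P rfl
        exact ⟨κ, hκ, hκT, fun c hc => (hκc c hc).trans (hδ₁c c hc)⟩
  exact main _ P hPc δ hδ hδj hδP rfl

end Step

end Cfsg.Agent.Lib.Helper26.Crav
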