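import Cfsg.Agent.Lib.Helper26.OlvNF
import Cfsg.Agent.Lib.Helper26.CravD
import Cfsg.Agent.Lib.Helper26.FSAlperin

/-!
Towards S5243 (Oliver's lemma), part G: centric subgroups `P` with `C_T(P ∩ T) ≰ P ∩ T` are not radical, in any
subsystem.
-/

set_option autoImplicit false

namespace Cfsg.Agent.Lib.Helper26.OlvN

open Cfsg Cfsg.FusionSystem Cfsg.Agent.Lib.Helper26 Cfsg.Agent.Lib.Helper27 Cfsg.Agent.Lib.Helper26.PPLeast

variable {Ω : Type*} [Group Ω] {S T : Subgroup Ω}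

/-- The range of the restriction to `P ∩ T` is the intersection of the range with `T`. -/
theorem range_resT (F : FusionSystem S) (hT : F.StronglyClosed T) {P : Subgroup Ω} {φ : P →* Ω}
    (hφ : φ ∈ F.Hom P) : (resT T φ).range = φ.range ⊓ T := by
  ext y
  constructor
  · rintro ⟨x, rfl⟩
    exact ⟨⟨_, rfl⟩, apply_mem_of_stronglyClosed F hT hφ _ x.2.2⟩
  · rintro ⟨⟨x, rfl⟩, hyT⟩
    exact ⟨⟨x, ⟨x.2, mem_of_apply_mem_of_stronglyClosed F hT hφ x hyT⟩⟩, rfl⟩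

theorem isConj_inf (F : FusionSystem S) (hT : F.StronglyClosed T) {P Q : Subgroup Ω} (h : F.IsConj P Q) :
    F.IsConj (P ⊓ T) (Q ⊓ T) := by
  obtain ⟨φ, hφ, rfl⟩ := h
  exact ⟨resT T φ, inclusion_comp_mem F inf_le_left hφ, range_resT F hT hφ⟩

section

variable [Finite S] {p : ℕ} [Fact p.Prime]

/-- The stabilizer of the chain `1 ≤ A ≤ U` is a `p`-group. -/
theorem chainStab_isPGroup (hS : IsPGroup p S) (F : FusionSystem S) {U A : Subgroup Ω} (hAS : A ≤ S) :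
    IsPGroup p (Crav.chainStab F U A) := by
  have hfinA : Finite A := finite_of_le hAS
  have hAp : IsPGroup p A := hS.to_le hAS
  obtain ⟨a, ha⟩ := hAp.exists_card_eq
  rintro ⟨ε, hε, hεA, hεU⟩
  refine ⟨a, ?_⟩
  apply Subtype.ext
  show ε ^ (p ^ a) = 1
  ext x
  have h1 : ε x = x * (x⁻¹ * ε x) := by group
  have h2 := aut_pow_apply_of_fixed ε h1 (hεA _ (hεU x)) (p ^ a)
  rw [h2]
  have h3 : (⟨((x⁻¹ * ε x : U) : Ω), hεU x⟩ : A) ^ (p ^ a) = 1 := by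
    rw [← ha]
    exact pow_card_eq_one'
  have h4 : (x⁻¹ * ε x) ^ (p ^ a) = 1 := by
    apply Subtype.ext
    have := congrArg (fun z : A => (z : Ω)) h3
    simpa using this
  rw [h4, mul_one]
  rfl

omit [Finite S] [Fact p.Prime] in
/-- The stabilizer of the chain is normal in `Aut_F(U)` when `A` is invariant. -/
theorem chainStab_normal (F : FusionSystem S) {U A : Subgroup Ω}
    (hAinv : ∀ ω ∈ F.autGroup U, ∀ x : U, (x : Ω) ∈ A → ((ω x : U) : Ω) ∈ A) :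
    ((Crav.chainStab F U A).subgroupOf (F.autGroup U)).Normal := by
  constructor
  intro ε hε ω
  rw [Subgroup.mem_subgroupOf] at hε ⊢
  obtain ⟨hεF, hεA, hεU⟩ := hε
  have hω : (ω : MulAut U) ∈ F.autGroup U := ω.2
  have hωinv : (ω : MulAut U)⁻¹ ∈ F.autGroup U := Subgroup.inv_mem _ hω
  show (ω : MulAut U) * (ε : MulAut U) * (ω : MulAut U)⁻¹ ∈ Crav.chainStab F U A
  refine ⟨Subgroup.mul_mem _ (Subgroup.mul_mem _ hω hεF) hωinv, fun x hx => ?_, fun x => ?_⟩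
  · rw [MulAut.mul_apply, MulAut.mul_apply, hεA _ (hAinv _ hωinv x hx), MulAut.apply_inv_self]
  · have h1 := hεU ((ω : MulAut U)⁻¹ x)
    have h2 := hAinv _ hω _ h1
    have e : ((ω : MulAut U) (((ω : MulAut U)⁻¹ x)⁻¹ * (ε : MulAut U) ((ω : MulAut U)⁻¹ x)) : U) =
        x⁻¹ * ((ω : MulAut U) * (ε : MulAut U) * (ω : MulAut U)⁻¹) x := by
      rw [map_mul, map_inv, MulAut.apply_inv_self]
      rfl
    rw [e] at h2
    exact h2

/-- **Non-radicality.** If `P` is `F`-centric and `C_T(P ∩ T) ≰ P ∩ T` for the strongly closed subgroup `T`, then in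
every subsystem `X` of `F` over `S` the group `Aut_S(P) ∩ O_p(Aut_X(P))` is not contained in `Inn(P)`. -/
theorem not_le_inn_of_bad (hS : IsPGroup p S) (F X : FusionSystem S) (hXF : X.IsSubsystemOf F)
    (hT : F.StronglyClosed T) {P : Subgroup Ω} (hPc : F.IsCentric P)
    (hbad : ¬ centralizerIn T (P ⊓ T) ≤ P ⊓ T) :
    ¬ (autInducedBy S P ⊓ (pCore p ↥(X.autGroup P)).map (X.autGroup P).subtype ≤ Inn P) := by
  have hPS : P ≤ S := hPc.1
  have hSN : S ≤ Subgroup.normalizer (T : Set Ω) := le_normalizer_of_stronglyClosed F hT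
  obtain ⟨C, hC⟩ : ∃ C, C = centralizerIn T (P ⊓ T) := ⟨_, rfl⟩
  have hCT : C ≤ T := hC ▸ centralizerIn_le T _
  -- conjugation by elements of `P` preserves `C`
  have hconj : ∀ x ∈ P, ∀ y ∈ C, x * y * x⁻¹ ∈ C := by
    intro x hx y hy
    rw [hC] at hy ⊢
    rw [mem_centralizerIn_iff] at hy ⊢
    have hxN := hSN (hPS hx)
    refine ⟨(Subgroup.mem_normalizer_iff.mp hxN y).mp hy.1, fun r hr => ?_⟩
    have hr' : x⁻¹ * r * x ∈ P ⊓ T := by
      refine ⟨P.mul_mem (P.mul_mem (P.inv_mem hx) hr.1) hx, ?_⟩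
      have := (Subgroup.mem_normalizer_iff.mp (Subgroup.inv_mem _ hxN) r).mp hr.2
      simpa using this
    have h1 := hy.2 _ hr'
    calc r * (x * y * x⁻¹) = x * ((x⁻¹ * r * x) * y) * x⁻¹ := by group
      _ = x * (y * (x⁻¹ * r * x)) * x⁻¹ := by rw [h1]
      _ = x * y * x⁻¹ * r := by group
  have hPN : P ≤ Subgroup.normalizer (C : Set Ω) := by
    intro x hx
    apply mem_normalizer_of_conj_mem (hconj x hx)
    intro y hy
    have := hconj x⁻¹ (P.inv_mem hx) y hy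
    simpa using this
  have hCS : C ≤ S := hCT.trans hT.1
  have hMS : P ⊔ C ≤ S := sup_le hPS hCS
  have hne : P ≠ P ⊔ C := by
    intro h
    apply hbad
    rw [← hC]
    intro c hc
    refine ⟨?_, hCT hc⟩
    rw [h]
    exact (le_sup_right : C ≤ P ⊔ C) hc
  have hfinM : Finite ↥(P ⊔ C) := finite_of_le hMS
  obtain ⟨g, hgN, hgP⟩ := exists_mem_normalizerIn_not_mem (hS.to_le hMS) (le_sup_left : P ≤ P ⊔ C) hne
  obtain ⟨x, c, hxc⟩ := exists_mul_of_mem_sup' hPN ⟨g, hgN.1⟩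
  have hg : g = (x : Ω) * (c : Ω) := congrArg Subtype.val hxc
  have hcN : (c : Ω) ∈ Subgroup.normalizer (P : Set Ω) := by
    have h1 : (c : Ω) = (x : Ω)⁻¹ * g := by rw [hg]; group
    rw [h1]
    exact Subgroup.mul_mem _ (Subgroup.inv_mem _ (Subgroup.le_normalizer x.2)) hgN.2
  have hcP : (c : Ω) ∉ P := by
    intro h
    apply hgP
    rw [hg]
    exact P.mul_mem x.2 h
  have hcS : (c : Ω) ∈ S := hCS c.2
  have hcC : (c : Ω) ∈ centralizerIn T (P ⊓ T) := hC ▸ c.2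
  rw [mem_centralizerIn_iff] at hcC
  obtain ⟨κ, hκ⟩ : ∃ κ : MulAut P, κ = P.normalizerMonoidHom ⟨c, hcN⟩ := ⟨_, rfl⟩
  have hκx : ∀ y : P, ((κ y : P) : Ω) = (c : Ω) * y * (c : Ω)⁻¹ := fun y => by rw [hκ]; rfl
  have hκS : κ ∈ autInducedBy S P := hκ ▸ normalizerMonoidHom_mem_autInducedBy hcS hcN
  have hκX : κ ∈ X.autGroup P := autInducedBy_le_autGroup X hPS hκS
  have hκstab : κ ∈ Crav.chainStab X P (P ⊓ T) := by
    refine ⟨hκX, fun y hy => ?_, fun y => ?_⟩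
    · apply Subtype.ext
      rw [hκx]
      have := hcC.2 y hy
      rw [mul_inv_eq_iff_eq_mul]
      exact this.symm
    · refine ⟨(y⁻¹ * κ y).2, ?_⟩
      show ((y⁻¹ * κ y : P) : Ω) ∈ T
      rw [Subgroup.coe_mul, hκx, Subgroup.coe_inv]
      have hyN := hSN (hPS y.2)
      have h1 : (y : Ω)⁻¹ * (c : Ω) * ((y : Ω)⁻¹)⁻¹ ∈ T :=
        (Subgroup.mem_normalizer_iff.mp (Subgroup.inv_mem _ hyN) c).mp hcC.1
      have e : (y : Ω)⁻¹ * ((c : Ω) * y * (c : Ω)⁻¹) = ((y : Ω)⁻¹ * (c : Ω) * ((y : Ω)⁻¹)⁻¹) * (c : Ω)⁻¹ := by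
        group
      rw [e]
      exact T.mul_mem h1 (T.inv_mem hcC.1)
  have hAinv : ∀ ω ∈ X.autGroup P, ∀ y : P, (y : Ω) ∈ P ⊓ T → ((ω y : P) : Ω) ∈ P ⊓ T := by
    intro ω hω y hy
    refine ⟨(ω y).2, ?_⟩
    have hωF : P.subtype.comp ω.toMonoidHom ∈ F.Hom P := hXF P ((mem_autGroup_iff X hPS ω).mp hω)
    exact apply_mem_of_stronglyClosed F hT hωF y hy.2
  have hnorm := chainStab_normal X hAinv
  have hpgrp : IsPGroup p (Crav.chainStab X P (P ⊓ T)) := chainStab_isPGroup hS X (inf_le_left.trans hPS)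
  have hcore : (Crav.chainStab X P (P ⊓ T)).subgroupOf (X.autGroup P) ≤ pCore p (X.autGroup P) :=
    le_sSup ⟨hnorm, hpgrp.comap_subtype⟩
  intro hle
  have hκI : κ ∈ Inn P := by
    apply hle
    refine ⟨hκS, ⟨⟨κ, hκX⟩, hcore ?_, rfl⟩⟩
    rw [Subgroup.mem_subgroupOf]
    exact hκstab
  rw [hκ] at hκI
  exact hcP (mem_of_normalizerMonoidHom_mem_inn F hPc hcS hcN hκI)

end

end Cfsg.Agent.Lib.Helper26.OlvN
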