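import Cfsg.Agent.Lib.Helper26.CenEB
import Cfsg.Agent.Lib.Helper26.OlvNG
import Cfsg.Agent.Lib.Helper1.Coprime

/-!
Towards S5293, part C: making an extension commute with a `p'`-automorphism (Schur-Zassenhaus).
-/

set_option autoImplicit false

namespace Cfsg.Agent.Lib.Helper26.CenE

open Cfsg Cfsg.FusionSystem Cfsg.Agent.Lib.Helper26 Cfsg.Agent.Lib.Helper27 Cfsg.Agent.Lib.Helper26.OlvN
  Cfsg.Agent.Lib.Helper26.Crav

variable {Ω : Type*} [Group Ω] {S : Subgroup Ω}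

/-- The automorphisms of `W` fixing `P` elementwise. -/
def fixSub (W P : Subgroup Ω) : Subgroup (MulAut W) where
  carrier := {c | ∀ x : W, (x : Ω) ∈ P → c x = x}
  one_mem' := fun _ _ => rfl
  mul_mem' := by
    intro c d hc hd x hx
    rw [MulAut.mul_apply, hd x hx, hc x hx]
  inv_mem' := by
    intro c hc x hx
    have h3 : c⁻¹ (c x) = c⁻¹ x := by rw [hc x hx]
    rw [MulAut.inv_apply_self] at h3
    exact h3.symm

theorem mem_fixSub_iff (W P : Subgroup Ω) (c : MulAut W) :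
    c ∈ fixSub W P ↔ ∀ x : W, (x : Ω) ∈ P → c x = x := Iff.rfl

/-- The automorphisms of `W` acting trivially modulo `P`. -/
theorem inv_trivMod {W P : Subgroup Ω} (a : MulAut W) (haW : ∀ y : W, ((y⁻¹ * a y : W) : Ω) ∈ P) :
    ∀ y : W, ((y⁻¹ * a⁻¹ y : W) : Ω) ∈ P := by
  intro y
  have h3 := haW (a⁻¹ y)
  rw [MulAut.apply_inv_self] at h3
  have e : y⁻¹ * a⁻¹ y = ((a⁻¹ y)⁻¹ * y)⁻¹ := by group
  rw [e]
  exact P.inv_mem h3

/-- An automorphism preserving `P` and trivial modulo `P` has an inverse preserving `P`. -/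
theorem inv_preserves {W P : Subgroup Ω} (a : MulAut W) (haW : ∀ y : W, ((y⁻¹ * a y : W) : Ω) ∈ P) :
    ∀ x : W, (x : Ω) ∈ P → ((a⁻¹ x : W) : Ω) ∈ P := by
  intro x hx
  have h1 := inv_trivMod a haW x
  have e : a⁻¹ x = x * (x⁻¹ * a⁻¹ x) := by group
  rw [e]
  exact P.mul_mem hx h1

variable [Finite S] {p : ℕ} [Fact p.Prime]

/-- **Schur-Zassenhaus step.** In `Aut_F(W)`, an automorphism `a` preserving `P` and trivial modulo `P` can be corrected
by an element of the chain stabilizer so that it commutes with a given `p'`-automorphism `b` fixing `P` elementwise. -/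
theorem exists_commuting_ext (hS : IsPGroup p S) (F : FusionSystem S) {W P : Subgroup Ω} (hWS : W ≤ S)
    (hPW : P ≤ W) (a b : MulAut W) (ha : a ∈ F.autGroup W) (hb : b ∈ F.autGroup W)
    (haW : ∀ y : W, ((y⁻¹ * a y : W) : Ω) ∈ P)
    (hbP : ∀ x : W, (x : Ω) ∈ P → b x = x) (hcop : (orderOf b).Coprime p) :
    ∃ a' : MulAut W, a' ∈ F.autGroup W ∧ (∀ x : W, (x : Ω) ∈ P → a' x = a x) ∧
      (∀ y : W, ((y⁻¹ * a' y : W) : Ω) ∈ P) ∧ b * a' = a' * b := by
  have hp : p.Prime := Fact.out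
  have hfinW : Finite W := finite_of_le hWS
  have hfinA : Finite (MulAut W) := inferInstance
  have hPS : P ≤ S := hPW.trans hWS
  have hNp : IsPGroup p (Crav.chainStab F W P) := chainStab_isPGroup hS F hPS
  -- `b` normalizes the chain stabilizer
  have hbN : b ∈ Subgroup.normalizer ((Crav.chainStab F W P : Subgroup (MulAut W)) : Set (MulAut W)) := by
    apply Cfsg.Agent.Lib.Helper1.mem_normalizer_of_forall_conj_mem
    rintro n ⟨hnF, hnP, hnW⟩
    have hb'P : ∀ x : W, (x : Ω) ∈ P → b⁻¹ x = x := (fixSub W P).inv_mem hbP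
    refine ⟨Subgroup.mul_mem _ (Subgroup.mul_mem _ hb hnF) (Subgroup.inv_mem _ hb), fun x hx => ?_, fun y => ?_⟩
    · rw [MulAut.mul_apply, MulAut.mul_apply, hb'P x hx, hnP x hx, hbP x hx]
    · obtain ⟨v, hv⟩ : ∃ v : W, v = b⁻¹ y := ⟨_, rfl⟩
      obtain ⟨q, hq⟩ : ∃ q : W, q = v⁻¹ * n v := ⟨_, rfl⟩
      have hqP : (q : Ω) ∈ P := hq ▸ hnW v
      have e1 : n v = v * q := by rw [hq]; group
      have e0 : b v = y := by rw [hv, MulAut.apply_inv_self]
      have e2 : (b * n * b⁻¹) y = y * q := by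
        rw [MulAut.mul_apply, MulAut.mul_apply, ← hv, e1, map_mul, e0, hbP _ hqP]
      rw [e2]
      have e3 : y⁻¹ * (y * q) = q := by group
      rw [e3]
      exact hqP
  have hnorm : Subgroup.zpowers b ≤ Subgroup.normalizer ((Crav.chainStab F W P : Subgroup (MulAut W)) : Set (MulAut W)) :=
    (Subgroup.zpowers_le).mpr hbN
  have hcard : Nat.Coprime (Nat.card (Subgroup.zpowers b)) (Nat.card (Crav.chainStab F W P)) := by
    obtain ⟨k, hk⟩ := hNp.exists_card_eq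
    rw [Nat.card_zpowers, hk]
    exact hcop.pow_right k
  have hsolv : Group.IsSolvable (Subgroup.zpowers b) ∨ Group.IsSolvable (Crav.chainStab F W P) :=
    Or.inr (IsNilpotent.to_isSolvable (h := hNp.isNilpotent))
  have hx : ∀ a' ∈ Subgroup.zpowers b, a⁻¹ * a' * a * a'⁻¹ ∈ Crav.chainStab F W P := by
    intro a' ha'
    have ha'P : a' ∈ fixSub W P := ((Subgroup.zpowers_le).mpr ((mem_fixSub_iff W P b).mpr hbP)) ha'
    have ha'F : a' ∈ F.autGroup W := ((Subgroup.zpowers_le).mpr hb) ha'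
    have h1 := Crav.comm_stab a' a⁻¹ ha'P ?_ (inv_trivMod a haW) ?_
    · have h2 : a' * a⁻¹ * a'⁻¹ * a⁻¹⁻¹ ∈ Crav.chainStab F W P :=
        ⟨Subgroup.mul_mem _ (Subgroup.mul_mem _ (Subgroup.mul_mem _ ha'F (Subgroup.inv_mem _ ha))
          (Subgroup.inv_mem _ ha'F)) (Subgroup.inv_mem _ (Subgroup.inv_mem _ ha)), h1.1, h1.2⟩
      have e : a⁻¹ * a' * a * a'⁻¹ = (a' * a⁻¹ * a'⁻¹ * a⁻¹⁻¹)⁻¹ := by group
      rw [e]
      exact Subgroup.inv_mem _ h2
    · intro x hx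
      rw [inv_inv]
      have e : a x = x * (x⁻¹ * a x) := by group
      rw [e]
      exact P.mul_mem hx (haW x)
    · intro y
      rw [inv_inv]
      exact haW y
  obtain ⟨n, hn, hcen⟩ := Cfsg.Agent.Lib.Helper1.exists_mul_mem_centralizer hnorm hcard hsolv a hx
  obtain ⟨hnF, hnP, hnW⟩ := hn
  refine ⟨a * n, Subgroup.mul_mem _ ha hnF, fun x hx => ?_, fun y => ?_, ?_⟩
  · rw [MulAut.mul_apply, hnP x hx]
  · have e : y⁻¹ * (a * n) y = (y⁻¹ * n y) * ((n y)⁻¹ * a (n y)) := by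
      rw [MulAut.mul_apply]
      group
    rw [e]
    exact P.mul_mem (hnW y) (haW (n y))
  · exact (Subgroup.mem_centralizer_iff.mp hcen) b (Subgroup.mem_zpowers b)

end Cfsg.Agent.Lib.Helper26.CenE
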