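import Cfsg.Agent.Lib.Helper26.CenEC

/-!
Towards S5293, part D: extensions of `α ∈ Aut_E(P)` fixing `[Q, ζ]` for a `p'`-automorphism `ζ` of `Q ≤ C_S(T)` in
`C_F(T)`.
-/

set_option autoImplicit false

namespace Cfsg.Agent.Lib.Helper26.CenE

open Cfsg Cfsg.FusionSystem Cfsg.Agent.Lib.Helper26 Cfsg.Agent.Lib.Helper27 Cfsg.Agent.Lib.Helper26.OlvN
  Cfsg.Agent.Lib.Helper26.Crav

variable {Ω : Type*} [Group Ω] {S T : Subgroup Ω}

/-- The subgroup `[Q, ζ]` generated by the `u⁻¹ ζ(u)`. -/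
def autComm {Q : Subgroup Ω} (ζ : MulAut Q) : Subgroup Ω :=
  Subgroup.closure {y | ∃ u : Q, y = (u : Ω)⁻¹ * ((ζ u : Q) : Ω)}

theorem autComm_le {Q : Subgroup Ω} (ζ : MulAut Q) : autComm ζ ≤ Q := by
  unfold autComm
  rw [Subgroup.closure_le]
  rintro _ ⟨u, rfl⟩
  exact Q.mul_mem (Q.inv_mem u.2) (ζ u).2

theorem mem_autComm {Q : Subgroup Ω} (ζ : MulAut Q) (u : Q) : (u : Ω)⁻¹ * ((ζ u : Q) : Ω) ∈ autComm ζ :=
  Subgroup.subset_closure ⟨u, rfl⟩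

/-- An automorphism `a'` of `W = P Q`, trivial modulo `P ≤ T` and commuting with `b` (which fixes `P` and induces `ζ`
on `Q ≤ C_S(T)`), fixes `[Q, ζ]` elementwise. -/
theorem apply_of_mem_autComm {P Q W : Subgroup Ω} (hPT : P ≤ T) (hQ : Q ≤ centralizerIn S T) (hQW : Q ≤ W)
    (ζ : MulAut Q) (a' b : MulAut W) (ha'W : ∀ y : W, ((y⁻¹ * a' y : W) : Ω) ∈ P)
    (hbP : ∀ x : W, (x : Ω) ∈ P → b x = x) (hbQ : ∀ u : Q, ((b ⟨u, hQW u.2⟩ : W) : Ω) = ((ζ u : Q) : Ω))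
    (hcomm : b * a' = a' * b) (y : Ω) (hy : y ∈ autComm ζ) (hyW : y ∈ W) : a' ⟨y, hyW⟩ = ⟨y, hyW⟩ := by
  revert hyW
  unfold autComm at hy
  induction hy using Subgroup.closure_induction with
  | mem z hz =>
    intro hyW
    obtain ⟨u, rfl⟩ := hz
    obtain ⟨u', hu'⟩ : ∃ u' : W, u' = ⟨u, hQW u.2⟩ := ⟨_, rfl⟩
    have e0 : (⟨(u : Ω)⁻¹ * ((ζ u : Q) : Ω), hyW⟩ : W) = u'⁻¹ * b u' := by
      apply Subtype.ext
      rw [hu']
      show _ = ((⟨u, hQW u.2⟩ : W) : Ω)⁻¹ * ((b ⟨u, hQW u.2⟩ : W) : Ω)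
      rw [hbQ u]
    obtain ⟨w, hw⟩ : ∃ w : W, w = u'⁻¹ * a' u' := ⟨_, rfl⟩
    have hwP : (w : Ω) ∈ P := hw ▸ ha'W u'
    have e1 : a' u' = u' * w := by rw [hw]; group
    have e2 : a' (b u') = b u' * w := by
      have h1 : (a' * b) u' = (b * a') u' := by rw [hcomm]
      rw [MulAut.mul_apply, MulAut.mul_apply, e1, map_mul, hbP w hwP] at h1
      exact h1
    -- `w` commutes with `u'⁻¹ b(u')`
    have hcm : w * (u'⁻¹ * b u') = (u'⁻¹ * b u') * w := by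
      apply Subtype.ext
      have hmem : ((u'⁻¹ * b u' : W) : Ω) ∈ centralizerIn S T := by
        rw [← e0]
        exact hQ (Q.mul_mem (Q.inv_mem u.2) (ζ u).2)
      exact mem_centralizerIn_comm hmem (hPT hwP)
    rw [e0, map_mul, map_inv, e1, e2]
    calc (u' * w)⁻¹ * (b u' * w) = w⁻¹ * ((u'⁻¹ * b u') * w) := by group
      _ = w⁻¹ * (w * (u'⁻¹ * b u')) := by rw [hcm]
      _ = u'⁻¹ * b u' := by group
  | one =>
    intro hyW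
    exact map_one a'
  | mul z w hz hw ihz ihw =>
    intro hyW
    have hz' : z ∈ W := hQW (autComm_le ζ hz)
    have hw' : w ∈ W := hQW (autComm_le ζ hw)
    have e : (⟨z * w, hyW⟩ : W) = ⟨z, hz'⟩ * ⟨w, hw'⟩ := rfl
    rw [e, map_mul, ihz hz', ihw hw']
  | inv z hz ihz =>
    intro hyW
    have hz' : z ∈ W := hQW (autComm_le ζ hz)
    have e : (⟨z⁻¹, hyW⟩ : W) = (⟨z, hz'⟩)⁻¹ := rfl
    rw [e, map_inv, ihz hz']

end Cfsg.Agent.Lib.Helper26.CenE
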