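import Cfsg.Agent.Lib.Helper26.CenED

/-!
Towards S5293, part E: the extension of `α ∈ Aut_E(P)` fixing `[Q, ζ]`.
-/

set_option autoImplicit false

namespace Cfsg.Agent.Lib.Helper26.CenE

open Cfsg Cfsg.FusionSystem Cfsg.Agent.Lib.Helper26 Cfsg.Agent.Lib.Helper27 Cfsg.Agent.Lib.Helper26.OlvN
  Cfsg.Agent.Lib.Helper26.Crav

variable {Ω : Type*} [Group Ω] {S T : Subgroup Ω}

/-- A map of `F` on the finite subgroup `W` with values in `W` is onto `W`. -/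
theorem range_eq_of_forall_mem [Finite S] (F : FusionSystem S) {W : Subgroup Ω} {φ : W →* Ω} (hφ : φ ∈ F.Hom W)
    (h : ∀ w : W, φ w ∈ W) : φ.range = W := by
  have hWS : W ≤ S := (F.le_of_mem hφ).1
  have hfinW : Finite W := finite_of_le hWS
  apply Subgroup.eq_of_le_of_card_ge
  · rintro _ ⟨w, rfl⟩
    exact h w
  · rw [Nat.card_congr (MonoidHom.ofInjective (F.injective_of_mem hφ)).toEquiv]

theorem range_aut {P : Subgroup Ω} (α : MulAut P) : (P.subtype.comp α.toMonoidHom).range = P := by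
  apply le_antisymm
  · rintro _ ⟨x, rfl⟩
    exact (α x).2
  · intro y hy
    refine ⟨α⁻¹ ⟨y, hy⟩, ?_⟩
    show ((α (α⁻¹ ⟨y, hy⟩) : P) : Ω) = y
    rw [MulAut.apply_inv_self]

variable [Finite S] {p : ℕ} [Fact p.Prime]

/-- **Key step.** Let `P ≤ T` with `C_T(P) ≤ P` and `α ∈ Aut(P)` nice; let `ζ` be a `p'`-automorphism of `Q ≤ C_S(T)` in
`C_F(T)`. Then `α` extends to a map of `F` on `P [Q, ζ]` fixing `[Q, ζ]` elementwise. -/
theorem fixExt_of_coprime (hS : IsPGroup p S) (F : FusionSystem S) (hT : F.StronglyClosed T) {P : Subgroup Ω}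
    (hPT : P ≤ T) (hcen : centralizerIn T P ≤ P) (α : MulAut P)
    (hnice : Nice F T P (P.subtype.comp α.toMonoidHom)) {Q : Subgroup Ω} (hQ : Q ≤ centralizerIn S T)
    (ζ : MulAut Q) (hζ : Q.subtype.comp ζ.toMonoidHom ∈ F.centralizerHom T Q) (hcop : (orderOf ζ).Coprime p) :
    FixExt F (autComm ζ) P α := by
  have hTS : T ≤ S := hT.1
  have hPS : P ≤ S := hPT.trans hTS
  have hQS : Q ≤ S := hQ.trans (centralizerIn_le S T)
  obtain ⟨ψ, hψ⟩ := hnice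
  obtain ⟨-, -, -, ζb, hζb, hζbQ, hζbT⟩ := hζ
  have hcen' : centralizerIn T (P.subtype.comp α.toMonoidHom).range ≤ (P.subtype.comp α.toMonoidHom).range := by
    rw [range_aut]
    exact hcen
  obtain ⟨W, hWdef⟩ : ∃ W : Subgroup Ω, W = P ⊔ Q := ⟨_, rfl⟩
  have hPW : P ≤ W := hWdef ▸ le_sup_left
  have hQW : Q ≤ W := hWdef ▸ le_sup_right
  have hWS : W ≤ S := hWdef ▸ sup_le hPS hQS
  have hWV : W ≤ P ⊔ centralizerIn S T := hWdef ▸ sup_le_sup_left hQ P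
  have hWQT : W ≤ Q ⊔ T := hWdef ▸ sup_le (hPT.trans le_sup_right) le_sup_left
  have hfinW : Finite W := finite_of_le hWS
  -- decomposition of the elements of `W`
  have hPN : P ≤ Subgroup.normalizer (Q : Set Ω) := by
    intro x hx
    apply Subgroup.centralizer_le_normalizer
    rw [Subgroup.mem_centralizer_iff]
    intro q hq
    exact (mem_centralizerIn_comm (hQ hq) (hPT hx)).symm
  have hdec : ∀ w : W, ∃ (x : P) (q : Q), (w : Ω) = (x : Ω) * (q : Ω) := by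
    intro w
    have hw : (w : Ω) ∈ P ⊔ Q := hWdef ▸ w.2
    obtain ⟨x, q, h⟩ := exists_mul_of_mem_sup' hPN ⟨w, hw⟩
    exact ⟨x, q, congrArg Subtype.val h⟩
  -- the two maps on `W`
  obtain ⟨a₀, ha₀def⟩ : ∃ a₀ : W →* Ω, a₀ = ψ.comp (Subgroup.inclusion hWV) := ⟨_, rfl⟩
  have ha₀ : a₀ ∈ F.Hom W := ha₀def ▸ inclusion_comp_mem F hWV hψ.mem
  obtain ⟨b₀, hb₀def⟩ : ∃ b₀ : W →* Ω, b₀ = ζb.comp (Subgroup.inclusion hWQT) := ⟨_, rfl⟩
  have hb₀ : b₀ ∈ F.Hom W := hb₀def ▸ inclusion_comp_mem F hWQT hζb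
  have ha₀P : ∀ (x : P), a₀ ⟨x, hPW x.2⟩ = ((α x : P) : Ω) := by
    intro x
    rw [ha₀def]
    exact hψ.ext x
  have ha₀Q : ∀ (w : W), (w : Ω) ∈ centralizerIn S T → (w : Ω)⁻¹ * a₀ w ∈ P := by
    intro w hw
    have h1 := hψ.corr_mem hT hPT hcen' (Subgroup.inclusion hWV w) hw
    rw [range_aut] at h1
    rw [ha₀def]
    exact h1
  have ha₀W : ∀ w : W, (w : Ω)⁻¹ * a₀ w ∈ P := by
    intro w
    obtain ⟨x, q, hxq⟩ := hdec w
    have hw : w = ⟨x, hPW x.2⟩ * ⟨q, hQW q.2⟩ := Subtype.ext hxq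
    have hq := ha₀Q ⟨q, hQW q.2⟩ (hQ q.2)
    have hcm : ((x : Ω)⁻¹ * ((α x : P) : Ω)) * (q : Ω) = (q : Ω) * ((x : Ω)⁻¹ * ((α x : P) : Ω)) :=
      mem_centralizerIn_comm (hQ q.2) (hPT (P.mul_mem (P.inv_mem x.2) (α x).2))
    rw [hw, map_mul, ha₀P x]
    have e : (((⟨x, hPW x.2⟩ * ⟨q, hQW q.2⟩ : W) : Ω))⁻¹ * (((α x : P) : Ω) * a₀ ⟨q, hQW q.2⟩) =
        ((x : Ω)⁻¹ * ((α x : P) : Ω)) * ((q : Ω)⁻¹ * a₀ ⟨q, hQW q.2⟩) := by
      show ((x : Ω) * (q : Ω))⁻¹ * _ = _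
      calc ((x : Ω) * (q : Ω))⁻¹ * (((α x : P) : Ω) * a₀ ⟨q, hQW q.2⟩)
          = (q : Ω)⁻¹ * (((x : Ω)⁻¹ * ((α x : P) : Ω)) * (q : Ω)) * ((q : Ω)⁻¹ * a₀ ⟨q, hQW q.2⟩) := by group
        _ = (q : Ω)⁻¹ * ((q : Ω) * ((x : Ω)⁻¹ * ((α x : P) : Ω))) * ((q : Ω)⁻¹ * a₀ ⟨q, hQW q.2⟩) := by rw [hcm]
        _ = _ := by group
    rw [e]
    exact P.mul_mem (P.mul_mem (P.inv_mem x.2) (α x).2) hq
  have ha₀mem : ∀ w : W, a₀ w ∈ W := by
    intro w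
    have e : a₀ w = (w : Ω) * ((w : Ω)⁻¹ * a₀ w) := by group
    rw [e]
    exact W.mul_mem w.2 (hPW (ha₀W w))
  have hb₀P : ∀ (w : W), (w : Ω) ∈ P → b₀ w = (w : Ω) := by
    intro w hw
    rw [hb₀def]
    exact hζbT ⟨w, hPT hw⟩
  have hb₀Q : ∀ (u : Q), b₀ ⟨u, hQW u.2⟩ = ((ζ u : Q) : Ω) := by
    intro u
    rw [hb₀def]
    exact hζbQ u
  have hb₀mem : ∀ w : W, b₀ w ∈ W := by
    intro w
    obtain ⟨x, q, hxq⟩ := hdec w
    have hw : w = ⟨x, hPW x.2⟩ * ⟨q, hQW q.2⟩ := Subtype.ext hxq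
    rw [hw, map_mul, hb₀P _ x.2, hb₀Q q]
    exact W.mul_mem (hPW x.2) (hQW (ζ q).2)
  have hra : a₀.range = W := range_eq_of_forall_mem F ha₀ ha₀mem
  have hrb : b₀.range = W := range_eq_of_forall_mem F hb₀ hb₀mem
  obtain ⟨a, hadef⟩ : ∃ a : MulAut W, a = homEquiv F ha₀ hra := ⟨_, rfl⟩
  obtain ⟨b, hbdef⟩ : ∃ b : MulAut W, b = homEquiv F hb₀ hrb := ⟨_, rfl⟩
  have haF : a ∈ F.autGroup W := by
    rw [mem_autGroup_iff_isFIso F hWS, hadef]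
    exact homEquiv_isFIso F ha₀ hra
  have hbF : b ∈ F.autGroup W := by
    rw [mem_autGroup_iff_isFIso F hWS, hbdef]
    exact homEquiv_isFIso F hb₀ hrb
  have hacoe : ∀ w : W, ((a w : W) : Ω) = a₀ w := fun w => by rw [hadef]; rfl
  have hbcoe : ∀ w : W, ((b w : W) : Ω) = b₀ w := fun w => by rw [hbdef]; rfl
  have haW : ∀ y : W, ((y⁻¹ * a y : W) : Ω) ∈ P := by
    intro y
    show (y : Ω)⁻¹ * ((a y : W) : Ω) ∈ P
    rw [hacoe]
    exact ha₀W y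
  have hbP : ∀ x : W, (x : Ω) ∈ P → b x = x := by
    intro x hx
    apply Subtype.ext
    rw [hbcoe]
    exact hb₀P x hx
  have hbQ : ∀ u : Q, ((b ⟨u, hQW u.2⟩ : W) : Ω) = ((ζ u : Q) : Ω) := by
    intro u
    rw [hbcoe]
    exact hb₀Q u
  -- the order of `b`
  have hbpowQ : ∀ (n : ℕ) (u : Q), (((b ^ n) ⟨u, hQW u.2⟩ : W) : Ω) = (((ζ ^ n) u : Q) : Ω) := by
    intro n
    induction n with
    | zero => intro u; rfl
    | succ n ih =>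
      intro u
      rw [pow_succ, pow_succ, MulAut.mul_apply, MulAut.mul_apply]
      have e : b ⟨u, hQW u.2⟩ = ⟨(ζ u : Q), hQW (ζ u).2⟩ := Subtype.ext (hbQ u)
      rw [e]
      exact ih (ζ u)
  have hbord : b ^ orderOf ζ = 1 := by
    have hfix : b ^ orderOf ζ ∈ fixSub W P := (fixSub W P).pow_mem hbP _
    ext w
    obtain ⟨x, q, hxq⟩ := hdec w
    have hw : w = ⟨x, hPW x.2⟩ * ⟨q, hQW q.2⟩ := Subtype.ext hxq
    rw [hw, map_mul, hfix _ x.2]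
    have e : (b ^ orderOf ζ) ⟨q, hQW q.2⟩ = ⟨q, hQW q.2⟩ := by
      apply Subtype.ext
      rw [hbpowQ, pow_orderOf_eq_one]
      rfl
    rw [e]
    rfl
  have hbcop : (orderOf b).Coprime p := Nat.Coprime.coprime_dvd_left (orderOf_dvd_of_pow_eq_one hbord) hcop
  obtain ⟨a', ha'F, ha'P, ha'W, hcomm⟩ := exists_commuting_ext hS F hWS hPW a b haF hbF haW hbP hbcop
  -- the extension
  have hXW : P ⊔ autComm ζ ≤ W := sup_le hPW ((autComm_le ζ).trans hQW)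
  refine ⟨(equivHom (a' : W ≃* W)).comp (Subgroup.inclusion hXW),
    inclusion_comp_mem F hXW ((mem_autGroup_iff_isFIso F hWS a').mp ha'F), fun x => ?_, fun y => ?_⟩
  · show ((a' ⟨x, _⟩ : W) : Ω) = _
    rw [ha'P ⟨x, hPW x.2⟩ x.2, hacoe]
    exact ha₀P x
  · have hyW : (y : Ω) ∈ W := hQW (autComm_le ζ y.2)
    have h1 := apply_of_mem_autComm hPT hQ hQW ζ a' b ha'W hbP hbQ hcomm y y.2 hyW
    exact congrArg Subtype.val h1

end Cfsg.Agent.Lib.Helper26.CenE
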