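import Cfsg.Agent.Lib.Helper26.FSKNormSys

/-!
Saturation of `K`-normalizer systems (AKO Theorem I.5.5).
-/

set_option autoImplicit false

namespace Cfsg.Agent.Lib.Helper26

open Cfsg Cfsg.FusionSystem

variable {Ω : Type*} [Group Ω] {S : Subgroup Ω}

theorem autInducedBy_mono_left {A B : Subgroup Ω} (h : A ≤ B) (P : Subgroup Ω) :
    autInducedBy A P ≤ autInducedBy B P := by
  intro a ha
  obtain ⟨g, hg, hga⟩ := (mem_autInducedBy_iff A P a).mp ha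
  exact (mem_autInducedBy_iff B P a).mpr ⟨g, h hg, hga⟩

/-- The elements of `Aut_F^{K_P}(PQ)` acting on `P` as an element of `N_{N_S^K(Q)}(P)`. -/
def YP (F : FusionSystem S) (Q : Subgroup Ω) (K : Subgroup (MulAut Q)) (P : Subgroup Ω) :
    Subgroup (MulAut ↥(P ⊔ Q)) where
  carrier := {α | α ∈ F.autGroup (P ⊔ Q) ⊓ KP Q K P ∧ ∃ h ∈ normalizerIn (NK S Q K) P,
    ∀ x : ↥(P ⊔ Q), (x : Ω) ∈ P → ((α x : ↥(P ⊔ Q)) : Ω) = h * x * h⁻¹}
  one_mem' := ⟨Subgroup.one_mem _, 1, Subgroup.one_mem _, fun x _ => by simp⟩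
  mul_mem' := by
    rintro α β ⟨hα, h, hh, hαh⟩ ⟨hβ, l, hl, hβl⟩
    refine ⟨Subgroup.mul_mem _ hα hβ, h * l, Subgroup.mul_mem _ hh hl, fun x hx => ?_⟩
    show ((α (β x) : ↥(P ⊔ Q)) : Ω) = _
    have h1 : ((β x : ↥(P ⊔ Q)) : Ω) ∈ P := (hβ.2.1 x).mp hx
    rw [hαh (β x) h1, hβl x hx]
    group
  inv_mem' := by
    rintro α ⟨hα, h, hh, hαh⟩
    refine ⟨Subgroup.inv_mem _ hα, h⁻¹, Subgroup.inv_mem _ hh, fun x hx => ?_⟩
    have h1 : ((α⁻¹ x : ↥(P ⊔ Q)) : Ω) ∈ P := by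
      have := hα.2.1 (α⁻¹ x)
      rw [MulAut.apply_inv_self] at this
      exact this.mpr hx
    have h2 := hαh (α⁻¹ x) h1
    rw [MulAut.apply_inv_self] at h2
    have h3 : (x : Ω) = h * ((α⁻¹ x : ↥(P ⊔ Q)) : Ω) * h⁻¹ := h2
    calc ((α⁻¹ x : ↥(P ⊔ Q)) : Ω) = h⁻¹ * (h * ((α⁻¹ x : ↥(P ⊔ Q)) : Ω) * h⁻¹) * h := by group
      _ = h⁻¹ * x * h⁻¹⁻¹ := by rw [← h3, inv_inv]

/-- The image of an extension to `RQ` acting on `Q` by an automorphism. -/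
theorem range_ext_eq {R Q : Subgroup Ω} (ψ : ↥(R ⊔ Q) →* Ω) (φ : R →* Ω) (k : MulAut Q)
    (hψφ : ∀ x : R, ψ (Subgroup.inclusion le_sup_left x) = φ x)
    (hψk : ∀ q : Q, ψ (Subgroup.inclusion le_sup_right q) = k q) : ψ.range = φ.range ⊔ Q := by
  have h0 : ψ.range = ((R ⊔ Q).subgroupOf (R ⊔ Q)).map ψ := by
    rw [Subgroup.subgroupOf_self, ← MonoidHom.range_eq_map]
  rw [h0, map_subgroupOf_sup le_sup_left le_sup_right]
  congr 1
  · ext z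
    rw [mem_map_subgroupOf]
    constructor
    · rintro ⟨y, hy, rfl⟩
      have := hψφ ⟨y, hy⟩
      have e : Subgroup.inclusion (le_sup_left : R ≤ R ⊔ Q) ⟨y, hy⟩ = y := Subtype.ext rfl
      rw [e] at this
      rw [this]
      exact ⟨_, rfl⟩
    · rintro ⟨x, rfl⟩
      exact ⟨Subgroup.inclusion le_sup_left x, x.2, hψφ x⟩
  · ext z
    rw [mem_map_subgroupOf]
    constructor
    · rintro ⟨y, hy, rfl⟩
      have := hψk ⟨y, hy⟩
      have e : Subgroup.inclusion (le_sup_right : Q ≤ R ⊔ Q) ⟨y, hy⟩ = y := Subtype.ext rfl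
      rw [e] at this
      rw [this]
      exact (k ⟨y, hy⟩).2
    · intro hz
      refine ⟨Subgroup.inclusion le_sup_right (k⁻¹ ⟨z, hz⟩), (k⁻¹ ⟨z, hz⟩).2, ?_⟩
      rw [hψk]
      show ((k (k⁻¹ ⟨z, hz⟩) : Q) : Ω) = z
      rw [MulAut.apply_inv_self]

/-- The conjugation by an element of the extender, transported to `PQ`, lies in `Y_P`. -/
theorem congr_conj_mem_YP [Finite S] (F : FusionSystem S) {Q : Subgroup Ω} {K : Subgroup (MulAut Q)} (hQS : Q ≤ S)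
    {R P : Subgroup Ω} (hR : R ≤ NK S Q K) (e : ↥(R ⊔ Q) ≃* ↥(P ⊔ Q)) (he : IsFIso F e) (φ : R →* Ω)
    (hφr : φ.range = P) (heφ : ∀ x : R, ((e (Subgroup.inclusion le_sup_left x) : ↥(P ⊔ Q)) : Ω) = φ x)
    (k : MulAut Q) (hk : k ∈ K)
    (hek : ∀ q : Q, ((e (Subgroup.inclusion le_sup_right q) : ↥(P ⊔ Q)) : Ω) = k q) {g : Ω}
    (hg : g ∈ extender (NK S Q K) R φ) (α : MulAut ↥(R ⊔ Q))
    (hα : ∀ t : ↥(R ⊔ Q), ((α t : ↥(R ⊔ Q)) : Ω) = g * t * g⁻¹) :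
    MulAut.congr e α ∈ YP F Q K P := by
  have hRQS : R ⊔ Q ≤ S := sup_le (hR.trans (NK_le S Q K)) hQS
  have hPQS : P ⊔ Q ≤ S := he.le_right
  have hfinPQ : Finite ↥(P ⊔ Q) := finite_of_le hPQS
  have hfinP : Finite P := finite_of_le (le_sup_left.trans hPQS)
  obtain ⟨hgNK, hgR, h, hhNK, hgh⟩ := (mem_extender_iff _ _ _ _).mp hg
  obtain ⟨κ, hκ, hκg⟩ := hgNK.2
  -- action on elements of `P`
  have hactP : ∀ x : R, ((MulAut.congr e α (e (Subgroup.inclusion le_sup_left x)) : ↥(P ⊔ Q)) : Ω) =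
      h * φ x * h⁻¹ := by
    intro x
    rw [congr_apply, MulEquiv.symm_apply_apply]
    have hx : g * (x : Ω) * g⁻¹ ∈ R := (Subgroup.mem_normalizer_iff.mp hgR _).mp x.2
    have e1 : α (Subgroup.inclusion le_sup_left x) = Subgroup.inclusion le_sup_left ⟨g * x * g⁻¹, hx⟩ :=
      Subtype.ext (hα _)
    rw [e1, heφ, hgh x hx]
  have hmemP : ∀ y : ↥(P ⊔ Q), (y : Ω) ∈ P → ∃ x : R, e (Subgroup.inclusion le_sup_left x) = y := by
    intro y hy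
    obtain ⟨x, hx⟩ := hφr.ge hy
    exact ⟨x, Subtype.ext ((heφ x).trans hx)⟩
  have hact : ∀ y : ↥(P ⊔ Q), (y : Ω) ∈ P → ((MulAut.congr e α y : ↥(P ⊔ Q)) : Ω) = h * y * h⁻¹ := by
    intro y hy
    obtain ⟨x, rfl⟩ := hmemP y hy
    rw [hactP x, heφ]
  have hstab : ∀ y : ↥(P ⊔ Q), (y : Ω) ∈ P → ((MulAut.congr e α y : ↥(P ⊔ Q)) : Ω) ∈ P := by
    intro y hy
    obtain ⟨x, rfl⟩ := hmemP y hy
    have hx : g * (x : Ω) * g⁻¹ ∈ R := (Subgroup.mem_normalizer_iff.mp hgR _).mp x.2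
    rw [hactP x, ← hgh x hx]
    exact hφr.le ⟨_, rfl⟩
  have hhP : h ∈ Subgroup.normalizer (P : Set Ω) := by
    apply mem_normalizer_of_conj_mem_finite
    intro y hy
    rw [← hact ⟨y, Subgroup.mem_sup_left hy⟩ hy]
    exact hstab _ hy
  refine ⟨⟨?_, ?_, ?_⟩, h, ⟨hhNK, hhP⟩, hact⟩
  · apply congr_mem_autGroup F he
    apply autInducedBy_le_autGroup F hRQS
    rw [mem_autInducedBy_iff]
    exact ⟨g, hgNK.1, hα⟩
  · intro y
    exact mem_iff_apply_mem_of_finite (MulAut.congr e α : ↥(P ⊔ Q) ≃* ↥(P ⊔ Q)).toEquiv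
      {y : ↥(P ⊔ Q) | (y : Ω) ∈ P} hstab y
  · refine ⟨k * κ * k⁻¹, K.mul_mem (K.mul_mem hk hκ) (K.inv_mem hk), fun q => ?_⟩
    rw [congr_apply]
    have e1 : e.symm (Subgroup.inclusion le_sup_right q) = Subgroup.inclusion le_sup_right (k⁻¹ q) := by
      rw [MulEquiv.symm_apply_eq]
      apply Subtype.ext
      rw [hek]
      simp
    have e2 : α (Subgroup.inclusion le_sup_right (k⁻¹ q)) = Subgroup.inclusion le_sup_right (κ (k⁻¹ q)) := by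
      apply Subtype.ext
      rw [hα]
      exact (hκg _).symm
    rw [e1, e2, hek]
    rfl

/-- Transport of a conjugation action along a homomorphism restricting to an isomorphism `Q' ≃* Q`. -/
theorem transport_action {D Q' Q : Subgroup Ω} (ν : D →* Ω) (hQ'D : Q' ≤ D) (σ : Q' ≃* Q)
    (hνσ : ∀ t : Q', ν (Subgroup.inclusion hQ'D t) = σ t) (x : D) (γ : MulAut Q')
    (hγ : ∀ t : Q', ((γ t : Q') : Ω) = x * t * (x : Ω)⁻¹) (q : Q) :
    ((MulAut.congr σ γ q : Q) : Ω) = ν x * q * (ν x)⁻¹ := by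
  rw [congr_apply]
  have h1 : (q : Ω) = ν (Subgroup.inclusion hQ'D (σ.symm q)) := by
    rw [hνσ]
    simp
  have h2 : Subgroup.inclusion hQ'D (γ (σ.symm q)) = x * Subgroup.inclusion hQ'D (σ.symm q) * x⁻¹ :=
    Subtype.ext (hγ _)
  rw [← hνσ, h2, map_mul, map_mul, map_inv, ← h1]

theorem congr_aut_trans {Q' Q : Subgroup Ω} (β : MulAut Q') (θ : Q' ≃* Q) (b : MulAut Q') :
    MulAut.congr ((β : Q' ≃* Q').trans θ) b = MulAut.congr θ (β * b * β⁻¹) := by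
  ext y
  rfl

/-- Elements acting on the image of `PQ` through `K_P` act on the image of `Q` through `K` and stabilize the
image of `P`. -/
theorem act_of_mem_kmap_KP {Q : Subgroup Ω} {K : Subgroup (MulAut Q)} {P R' Q' : Subgroup Ω}
    (e : ↥(P ⊔ Q) ≃* R') (eQ : Q ≃* Q')
    (heQ : ∀ q : Q, ((eQ q : Q') : Ω) = e (Subgroup.inclusion le_sup_right q)) {x : Ω} {γ : MulAut R'}
    (hγK : γ ∈ kmap e (KP Q K P)) (hγ : ∀ t : R', ((γ t : R') : Ω) = x * t * x⁻¹) :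
    (∃ k ∈ K, ∀ t : Q', ((MulAut.congr eQ k t : Q') : Ω) = x * t * x⁻¹) ∧
      ∀ y : ↥(P ⊔ Q), (y : Ω) ∈ P → ∃ y' : ↥(P ⊔ Q), (y' : Ω) ∈ P ∧ x * (e y : Ω) * x⁻¹ = e y' := by
  have hα := mem_kmap.mp hγK
  have hγα : ∀ z : ↥(P ⊔ Q), γ (e z) = e ((MulAut.congr e).symm γ z) := by
    intro z
    rw [congr_symm_apply]
    simp
  obtain ⟨hαP, k, hk, hαk⟩ := hα
  constructor
  · refine ⟨k, hk, fun t => ?_⟩
    rw [congr_apply, heQ]
    have e1 : Subgroup.inclusion (le_sup_right : Q ≤ P ⊔ Q) (k (eQ.symm t)) =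
        (MulAut.congr e).symm γ (Subgroup.inclusion le_sup_right (eQ.symm t)) := Subtype.ext (hαk _).symm
    rw [e1, ← hγα, hγ]
    congr 2
    rw [← heQ]
    simp
  · intro y hy
    refine ⟨(MulAut.congr e).symm γ y, (hαP y).mp hy, ?_⟩
    rw [← hγα, hγ]

section Sys

variable (F : FusionSystem S) {Q : Subgroup Ω} {K : Subgroup (MulAut Q)} (E : FusionSystem (NK S Q K))
  (hE : ∀ (P : Subgroup Ω) (φ : P →* Ω), φ ∈ E.Hom P ↔ KHom F Q K P φ)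

include hE

/-- (B2a) restrictions of elements of `Aut_F^{K_P}(PQ)` lie in `Aut_E(P)`. -/
theorem resP_mem_autGroup (hQS : Q ≤ S) {P : Subgroup Ω} (hP : P ≤ NK S Q K) {α : MulAut ↥(P ⊔ Q)}
    (hαF : α ∈ F.autGroup (P ⊔ Q)) (hαK : α ∈ KP Q K P) : resP α hαK.1 ∈ E.autGroup P := by
  have hPQS : P ⊔ Q ≤ S := sup_le (hP.trans (NK_le S Q K)) hQS
  rw [mem_autGroup_iff E hP, hE]
  have h1 : equivHom (α : ↥(P ⊔ Q) ≃* ↥(P ⊔ Q)) ∈ F.Hom (P ⊔ Q) := (mem_autGroup_iff F hPQS α).mp hαF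
  obtain ⟨k, hk, hαk⟩ := hαK.2
  refine ⟨inclusion_comp_mem F le_sup_left h1, hP, fun x => hP (resP α hαK.1 x).2, _, h1, fun x => rfl, k, hk, hαk⟩

/-- (B2b) every element of `Aut_E(P)` is such a restriction. -/
theorem exists_resP_eq [Finite S] (hQS : Q ≤ S) {P : Subgroup Ω} (hP : P ≤ NK S Q K) {γ : MulAut P}
    (hγ : γ ∈ E.autGroup P) :
    ∃ (α : MulAut ↥(P ⊔ Q)) (hαK : α ∈ KP Q K P), α ∈ F.autGroup (P ⊔ Q) ∧ resP α hαK.1 = γ := by
  have hPQS : P ⊔ Q ≤ S := sup_le (hP.trans (NK_le S Q K)) hQS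
  have hfin : Finite ↥(P ⊔ Q) := finite_of_le hPQS
  obtain ⟨-, -, -, ψ, hψ, hψγ, k, hk, hψk⟩ := (hE P _).mp ((mem_autGroup_iff E hP γ).mp hγ)
  have hr : ψ.range = P ⊔ Q := by
    have h0 : ψ.range = ((P ⊔ Q).subgroupOf (P ⊔ Q)).map ψ := by
      rw [Subgroup.subgroupOf_self, ← MonoidHom.range_eq_map]
    rw [h0, map_subgroupOf_sup le_sup_left le_sup_right]
    congr 1
    · ext z
      rw [mem_map_subgroupOf]
      constructor
      · rintro ⟨y, hy, rfl⟩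
        have := hψγ ⟨y, hy⟩
        have e : Subgroup.inclusion (le_sup_left : P ≤ P ⊔ Q) ⟨y, hy⟩ = y := Subtype.ext rfl
        rw [e] at this
        rw [this]
        exact (γ ⟨y, hy⟩).2
      · intro hz
        refine ⟨Subgroup.inclusion le_sup_left (γ⁻¹ ⟨z, hz⟩), (γ⁻¹ ⟨z, hz⟩).2, ?_⟩
        rw [hψγ]
        show ((γ (γ⁻¹ ⟨z, hz⟩) : P) : Ω) = z
        rw [MulAut.apply_inv_self]
    · ext z
      rw [mem_map_subgroupOf]
      constructor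
      · rintro ⟨y, hy, rfl⟩
        have := hψk ⟨y, hy⟩
        have e : Subgroup.inclusion (le_sup_right : Q ≤ P ⊔ Q) ⟨y, hy⟩ = y := Subtype.ext rfl
        rw [e] at this
        rw [this]
        exact (k ⟨y, hy⟩).2
      · intro hz
        refine ⟨Subgroup.inclusion le_sup_right (k⁻¹ ⟨z, hz⟩), (k⁻¹ ⟨z, hz⟩).2, ?_⟩
        rw [hψk]
        show ((k (k⁻¹ ⟨z, hz⟩) : Q) : Ω) = z
        rw [MulAut.apply_inv_self]
  let α : MulAut ↥(P ⊔ Q) := homEquiv F hψ hr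
  have hαapp : ∀ x, ((α x : ↥(P ⊔ Q)) : Ω) = ψ x := fun x => rfl
  have hαK : α ∈ KP Q K P := by
    refine ⟨fun x => ?_, k, hk, fun q => ?_⟩
    · apply mem_iff_apply_mem_of_finite (α : ↥(P ⊔ Q) ≃* ↥(P ⊔ Q)).toEquiv {y : ↥(P ⊔ Q) | (y : Ω) ∈ P}
      intro y hy
      show ((α y : ↥(P ⊔ Q)) : Ω) ∈ P
      rw [hαapp]
      have := hψγ ⟨y, hy⟩
      have e : Subgroup.inclusion (le_sup_left : P ≤ P ⊔ Q) ⟨y, hy⟩ = y := Subtype.ext rfl
      rw [e] at this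
      rw [this]
      exact (γ ⟨y, hy⟩).2
    · rw [hαapp, hψk]
  refine ⟨α, hαK, ?_, ?_⟩
  · rw [mem_autGroup_iff_isFIso F hPQS]
    exact homEquiv_isFIso F hψ hr
  · ext x
    rw [resP_apply, hαapp, hψγ]
    rfl

/-- Step 2, first half: if `PQ` is fully `K_P`-normalized in `F` then `P` is fully automized in `E`. -/
theorem fullyAutomized_of_fullyKNormalized [Finite S] {p : ℕ} [Fact p.Prime] (hS : IsPGroup p S)
    (hF : F.IsSaturated p) (hQS : Q ≤ S) {P : Subgroup Ω} (hP : P ≤ NK S Q K)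
    (hPQ : FullyKNormalized F (P ⊔ Q) (KP Q K P)) : E.IsFullyAutomized p P := by
  have hPQS : P ⊔ Q ≤ S := hPQ.1
  have hfin : Finite ↥(P ⊔ Q) := finite_of_le hPQS
  obtain ⟨R, hR⟩ := fullyKNormalized_sylow hS F hF hPQ
  let ρ : ↥(F.autGroup (P ⊔ Q) ⊓ KP Q K P) →* ↥(E.autGroup P) :=
    ((resHomP Q K P).comp (Subgroup.inclusion inf_le_right)).codRestrict (E.autGroup P)
      (fun a => resP_mem_autGroup F E hE hQS hP a.2.1 a.2.2)
  have hρapp : ∀ (a : ↥(F.autGroup (P ⊔ Q) ⊓ KP Q K P)) (x : P),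
      (((ρ a : MulAut P) x : P) : Ω) = (((a : MulAut ↥(P ⊔ Q)) (Subgroup.inclusion le_sup_left x) : ↥(P ⊔ Q)) : Ω) :=
    fun a x => rfl
  have hρ : Function.Surjective ρ := by
    rintro ⟨γ, hγ⟩
    obtain ⟨α, hαK, hαF, hαγ⟩ := exists_resP_eq F E hE hQS hP hγ
    refine ⟨⟨α, hαF, hαK⟩, ?_⟩
    apply Subtype.ext
    exact hαγ
  refine ⟨hP, R.mapSurjective hρ, ?_⟩
  rw [Sylow.coe_mapSurjective, hR]
  ext γ
  rw [Subgroup.mem_subgroupOf]
  constructor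
  · rintro ⟨a, ha, rfl⟩
    rw [SetLike.mem_coe, Subgroup.mem_subgroupOf] at ha
    obtain ⟨g, hgS, hg⟩ := (mem_autInducedBy_iff S (P ⊔ Q) _).mp ha.1
    have hgNK : g ∈ NK S (P ⊔ Q) (KP Q K P) := ⟨hgS, _, ha.2, hg⟩
    rw [NK_KP_eq] at hgNK
    rw [mem_autInducedBy_iff]
    refine ⟨g, hgNK.1, fun x => ?_⟩
    rw [hρapp, hg]
    rfl
  · intro hγ
    obtain ⟨g, hg, hgγ⟩ := (mem_autInducedBy_iff (NK S Q K) P _).mp hγ
    have hgN : g ∈ Subgroup.normalizer (P : Set Ω) := mem_normalizer_of_aut _ g hgγ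
    have hgNK : g ∈ NK S (P ⊔ Q) (KP Q K P) := by
      rw [NK_KP_eq]
      exact ⟨hg, hgN⟩
    have hgPQ : g ∈ Subgroup.normalizer ((P ⊔ Q : Subgroup Ω) : Set Ω) := mem_normalizer_of_mem_actSubgroup hgNK.2
    have h1 : (P ⊔ Q).normalizerMonoidHom ⟨g, hgPQ⟩ ∈ autInducedBy S (P ⊔ Q) ⊓ KP Q K P :=
      ⟨normalizerMonoidHom_mem_autInducedBy hgNK.1 hgPQ, normalizerMonoidHom_mem_of_mem_NK hgNK hgPQ⟩
    have h2 : (P ⊔ Q).normalizerMonoidHom ⟨g, hgPQ⟩ ∈ F.autGroup (P ⊔ Q) :=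
      autInducedBy_le_autGroup F hPQS h1.1
    refine ⟨⟨_, h2, h1.2⟩, ?_, ?_⟩
    · rw [SetLike.mem_coe, Subgroup.mem_subgroupOf]
      exact h1
    · apply Subtype.ext
      ext x
      rw [hρapp, hgγ]
      rfl

/-- Step 2, second half: if `PQ` is fully `K_P`-normalized in `F` then `P` is receptive in `E`. -/
theorem receptive_of_fullyKNormalized [Finite S] {p : ℕ} [Fact p.Prime] (hS : IsPGroup p S)
    (hF : F.IsSaturated p) (hQS : Q ≤ S) {P : Subgroup Ω} (hP : P ≤ NK S Q K)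
    (hPQ : FullyKNormalized F (P ⊔ Q) (KP Q K P)) : E.IsReceptive P := by
  refine ⟨hP, fun R φ hφ hφr => ?_⟩
  have hPQS : P ⊔ Q ≤ S := hPQ.1
  have hfinPQ : Finite ↥(P ⊔ Q) := finite_of_le hPQS
  obtain ⟨hφF, hR, hφS₀, φ', hφ', hφ'φ, k, hk, hφ'k⟩ := (hE R φ).mp hφ
  have hRQS : R ⊔ Q ≤ S := sup_le (hR.trans (NK_le S Q K)) hQS
  have hr : φ'.range = P ⊔ Q := by
    rw [range_ext_eq φ' φ k hφ'φ hφ'k, hφr]
  let e : ↥(R ⊔ Q) ≃* ↥(P ⊔ Q) := homEquiv F hφ' hr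
  have he : IsFIso F e := homEquiv_isFIso F hφ' hr
  have heapp : ∀ x, ((e x : ↥(P ⊔ Q)) : Ω) = φ' x := fun x => rfl
  have heφ : ∀ x : R, ((e (Subgroup.inclusion le_sup_left x) : ↥(P ⊔ Q)) : Ω) = φ x := fun x => hφ'φ x
  have hek : ∀ q : Q, ((e (Subgroup.inclusion le_sup_right q) : ↥(P ⊔ Q)) : Ω) = k q := fun q => hφ'k q
  have hNle : extender (NK S Q K) R φ ≤ normalizerIn (NK S Q K) R := extender_le _ R φ
  have hNS : extender (NK S Q K) R φ ≤ S := (hNle.trans (normalizerIn_le _ _)).trans (NK_le S Q K)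
  have hNnorm : ∀ g ∈ extender (NK S Q K) R φ, g ∈ Subgroup.normalizer ((R ⊔ Q : Subgroup Ω) : Set Ω) :=
    fun g hg => mem_normalizer_sup (hNle hg).2 (mem_normalizer_of_mem_actSubgroup (hNle hg).1.2)
  -- the transported `p`-group `X`
  have hXY : (autInducedBy (extender (NK S Q K) R φ) (R ⊔ Q)).map (MulAut.congr e).toMonoidHom ≤ YP F Q K P := by
    rintro _ ⟨α, hα, rfl⟩
    obtain ⟨g, hg, hgα⟩ := (mem_autInducedBy_iff _ _ α).mp hα
    exact congr_conj_mem_YP F hQS hR e he φ hφr heφ k hk hek hg α hgα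
  have hXp : IsPGroup p ↥((autInducedBy (extender (NK S Q K) R φ) (R ⊔ Q)).map (MulAut.congr e).toMonoidHom) :=
    (autInducedBy_isPGroup (hS.to_le hNS) (R ⊔ Q)).map _
  -- the Sylow subgroup of `Y`
  have hSyl := fullyKNormalized_sylow hS F hF hPQ
  have hle : autInducedBy S (P ⊔ Q) ⊓ KP Q K P ≤ F.autGroup (P ⊔ Q) ⊓ KP Q K P :=
    inf_le_inf_right _ (autInducedBy_le_autGroup F hPQS)
  have hYA : YP F Q K P ≤ F.autGroup (P ⊔ Q) ⊓ KP Q K P := fun α hα => hα.1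
  have hAY : autInducedBy S (P ⊔ Q) ⊓ KP Q K P ≤ YP F Q K P := by
    intro α hα
    refine ⟨hle hα, ?_⟩
    obtain ⟨g, hgS, hg⟩ := (mem_autInducedBy_iff S (P ⊔ Q) _).mp hα.1
    have hgNK : g ∈ NK S (P ⊔ Q) (KP Q K P) := ⟨hgS, _, hα.2, hg⟩
    rw [NK_KP_eq] at hgNK
    exact ⟨g, hgNK, fun x _ => hg x⟩
  have hSylY : ∃ R' : Sylow p ↥(YP F Q K P),
      (R' : Subgroup ↥(YP F Q K P)) = (autInducedBy S (P ⊔ Q) ⊓ KP Q K P).subgroupOf (YP F Q K P) := by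
    rw [sylowIn_iff_card hAY]
    obtain ⟨h1, h2⟩ := (sylowIn_iff_card hle).mp hSyl
    exact ⟨h1, fun B hBY hB => h2 B (hBY.trans hYA) hB⟩
  obtain ⟨y, hy, hyX⟩ := exists_conj_le_of_sylowIn hSylY hXY hXp
  obtain ⟨hyA, h, hh, hyh⟩ := hy
  -- the correction `s`
  have hhNK : h ∈ NK S (P ⊔ Q) (KP Q K P) := by
    rw [NK_KP_eq]
    exact hh
  have hhPQ : h ∈ Subgroup.normalizer ((P ⊔ Q : Subgroup Ω) : Set Ω) := mem_normalizer_of_mem_actSubgroup hhNK.2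
  have hs : (P ⊔ Q).normalizerMonoidHom ⟨h, hhPQ⟩ ∈ autInducedBy S (P ⊔ Q) ⊓ KP Q K P :=
    ⟨normalizerMonoidHom_mem_autInducedBy hhNK.1 hhPQ, normalizerMonoidHom_mem_of_mem_NK hhNK hhPQ⟩
  -- `χ = s⁻¹ y`
  have hχA : ((P ⊔ Q).normalizerMonoidHom ⟨h, hhPQ⟩)⁻¹ * y ∈ F.autGroup (P ⊔ Q) ⊓ KP Q K P :=
    Subgroup.mul_mem _ (Subgroup.inv_mem _ (hle hs)) hyA
  have hχP : ∀ x : ↥(P ⊔ Q), (x : Ω) ∈ P →
      (((P ⊔ Q).normalizerMonoidHom ⟨h, hhPQ⟩)⁻¹ * y) x = x := by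
    intro x hx
    have e1 : y x = (P ⊔ Q).normalizerMonoidHom ⟨h, hhPQ⟩ x := by
      apply Subtype.ext
      rw [hyh x hx]
      rfl
    rw [MulAut.mul_apply, e1, MulAut.inv_apply_self]
  have hχX : ∀ v ∈ (autInducedBy (extender (NK S Q K) R φ) (R ⊔ Q)).map (MulAut.congr e).toMonoidHom,
      (((P ⊔ Q).normalizerMonoidHom ⟨h, hhPQ⟩)⁻¹ * y) * v * (((P ⊔ Q).normalizerMonoidHom ⟨h, hhPQ⟩)⁻¹ * y)⁻¹ ∈
        autInducedBy S (P ⊔ Q) ⊓ KP Q K P := by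
    intro v hv
    have h1 : y * v * y⁻¹ ∈ autInducedBy S (P ⊔ Q) ⊓ KP Q K P := hyX ⟨v, hv, rfl⟩
    have h2 := Subgroup.mul_mem _ (Subgroup.mul_mem _ (Subgroup.inv_mem _ hs) h1) hs
    have e1 : (((P ⊔ Q).normalizerMonoidHom ⟨h, hhPQ⟩)⁻¹ * y) * v *
        (((P ⊔ Q).normalizerMonoidHom ⟨h, hhPQ⟩)⁻¹ * y)⁻¹ =
        ((P ⊔ Q).normalizerMonoidHom ⟨h, hhPQ⟩)⁻¹ * (y * v * y⁻¹) * (P ⊔ Q).normalizerMonoidHom ⟨h, hhPQ⟩ := by
      group
    rw [e1]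
    exact h2
  generalize ((P ⊔ Q).normalizerMonoidHom ⟨h, hhPQ⟩)⁻¹ * y = χ at hχA hχP hχX
  obtain ⟨kχ, hkχ, hχk⟩ := hχA.2.2
  -- the corrected isomorphism
  have he₂ : IsFIso F (e.trans (χ : ↥(P ⊔ Q) ≃* ↥(P ⊔ Q))) :=
    he.trans ((mem_autGroup_iff_isFIso F hPQS χ).mp hχA.1)
  have hNN' : extender (NK S Q K) R φ ⊔ Q ≤
      extender S (R ⊔ Q) (equivHom (e.trans (χ : ↥(P ⊔ Q) ≃* ↥(P ⊔ Q)))) := by
    apply sup_le
    · intro g hg
      have hgN := hNnorm g hg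
      have hc : (R ⊔ Q).normalizerMonoidHom ⟨g, hgN⟩ ∈ autInducedBy (extender (NK S Q K) R φ) (R ⊔ Q) :=
        normalizerMonoidHom_mem_autInducedBy hg hgN
      have h1 := hχX (MulAut.congr e ((R ⊔ Q).normalizerMonoidHom ⟨g, hgN⟩)) ⟨_, hc, rfl⟩
      obtain ⟨h', hh'S, hh'⟩ := (mem_autInducedBy_iff S (P ⊔ Q) _).mp h1.1
      rw [mem_extender_iff]
      refine ⟨hNS hg, hgN, h', hh'S, fun t ht => ?_⟩
      have h2 := hh' (χ (e t))
      show ((χ (e ⟨g * t * g⁻¹, ht⟩) : ↥(P ⊔ Q)) : Ω) = h' * ((χ (e t) : ↥(P ⊔ Q)) : Ω) * h'⁻¹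
      rw [← h2]
      simp only [MulAut.mul_apply, MulAut.inv_apply_self]
      rw [congr_apply, MulEquiv.symm_apply_apply]
      rfl
    · exact le_sup_right.trans (le_extender hRQS _ (hom_apply_mem F he₂))
  have hFC := fullyKNormalized_fullyCentralized hS F hF hPQ
  have hRec := saturated_fc hS F hF hFC
  obtain ⟨ψ', hψ', hψ'e⟩ := hRec.2 (R ⊔ Q) _ he₂ (equivHom_range _)
  have hNN'' : extender (NK S Q K) R φ ≤
      extender S (R ⊔ Q) (equivHom (e.trans (χ : ↥(P ⊔ Q) ≃* ↥(P ⊔ Q)))) := le_sup_left.trans hNN'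
  -- the value of `ψ'` on `Q`
  have hψ'Q : ∀ (q : Q) (hq : (q : Ω) ∈ extender S (R ⊔ Q) (equivHom (e.trans (χ : ↥(P ⊔ Q) ≃* ↥(P ⊔ Q))))),
      ψ' ⟨q, hq⟩ = ((kχ * k) q : Q) := by
    intro q hq
    rw [hψ'e q (Subgroup.mem_sup_right q.2) hq]
    show ((χ (e ⟨q, Subgroup.mem_sup_right q.2⟩) : ↥(P ⊔ Q)) : Ω) = _
    have e1 : e ⟨q, Subgroup.mem_sup_right q.2⟩ = Subgroup.inclusion le_sup_right (k q) :=
      Subtype.ext (hek q)
    rw [e1, hχk]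
    rfl
  refine ⟨ψ'.comp (Subgroup.inclusion hNN''), ?_, fun x hxR hxN => ?_⟩
  · rw [hE]
    refine ⟨inclusion_comp_mem F hNN'' hψ', hNle.trans (normalizerIn_le _ _), fun g => ?_,
      ψ'.comp (Subgroup.inclusion hNN'), inclusion_comp_mem F hNN' hψ', fun g => rfl, kχ * k,
      K.mul_mem hkχ hk, fun q => hψ'Q q _⟩
    -- values in `N_S^K(Q)`
    have hgNK : (g : Ω) ∈ NK S Q K := (hNle g.2).1
    obtain ⟨κ, hκ, hκg⟩ := hgNK.2
    refine ⟨hom_apply_mem F hψ' _, (kχ * k) * κ * (kχ * k)⁻¹,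
      K.mul_mem (K.mul_mem (K.mul_mem hkχ hk) hκ) (K.inv_mem (K.mul_mem hkχ hk)), fun q => ?_⟩
    show ((((kχ * k) * κ * (kχ * k)⁻¹) q : Q) : Ω) = ψ' (Subgroup.inclusion hNN'' g) * q * (ψ' (Subgroup.inclusion hNN'' g))⁻¹
    set q₀ : Q := (kχ * k)⁻¹ q with hq₀
    have hq₀mem : (q₀ : Ω) ∈ extender S (R ⊔ Q) (equivHom (e.trans (χ : ↥(P ⊔ Q) ≃* ↥(P ⊔ Q)))) :=
      hNN' (Subgroup.mem_sup_right q₀.2)
    have hκmem : ((κ q₀ : Q) : Ω) ∈ extender S (R ⊔ Q) (equivHom (e.trans (χ : ↥(P ⊔ Q) ≃* ↥(P ⊔ Q)))) :=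
      hNN' (Subgroup.mem_sup_right (κ q₀).2)
    have h1 : (q : Ω) = ψ' ⟨q₀, hq₀mem⟩ := by
      rw [hψ'Q q₀ hq₀mem, hq₀]
      simp
    have h2 : ψ' ⟨(κ q₀ : Q), hκmem⟩ = ((kχ * k) (κ q₀) : Q) := hψ'Q (κ q₀) hκmem
    have h3 : (⟨(κ q₀ : Q), hκmem⟩ : ↥(extender S (R ⊔ Q) (equivHom (e.trans (χ : ↥(P ⊔ Q) ≃* ↥(P ⊔ Q)))))) =
        Subgroup.inclusion hNN'' g * ⟨q₀, hq₀mem⟩ * (Subgroup.inclusion hNN'' g)⁻¹ := by
      apply Subtype.ext
      exact hκg q₀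
    rw [h3, map_mul, map_mul, map_inv, ← h1] at h2
    rw [h2]
    rfl
  · show ψ' ⟨x, hNN'' hxN⟩ = φ ⟨x, hxR⟩
    rw [hψ'e x (Subgroup.mem_sup_left hxR) (hNN'' hxN)]
    show ((χ (e ⟨x, Subgroup.mem_sup_left hxR⟩) : ↥(P ⊔ Q)) : Ω) = φ ⟨x, hxR⟩
    have hmem : ((e ⟨x, Subgroup.mem_sup_left hxR⟩ : ↥(P ⊔ Q)) : Ω) ∈ P := by
      have := heφ ⟨x, hxR⟩
      have e1 : Subgroup.inclusion (le_sup_left : R ≤ R ⊔ Q) ⟨x, hxR⟩ = ⟨x, Subgroup.mem_sup_left hxR⟩ := rfl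
      rw [e1] at this
      rw [this]
      exact hφr.le ⟨_, rfl⟩
    rw [hχP _ hmem]
    exact heφ ⟨x, hxR⟩

/-- Step 1, core estimate. -/
theorem card_NK_le_of_fullyNormalized [Finite S] {p : ℕ} [Fact p.Prime] (hS : IsPGroup p S)
    (hF : F.IsSaturated p) (hQ : FullyKNormalized F Q K) {P : Subgroup Ω} (hPn : E.IsFullyNormalized P)
    {Q' : Subgroup Ω} (θ : Q' ≃* Q) (hθF : IsFIso F θ)
    {R' : Subgroup Ω} (e : ↥(P ⊔ Q) ≃* R') (he : IsFIso F e)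
    (hθe : ∀ q : Q, ((θ.symm q : Q') : Ω) = e (Subgroup.inclusion le_sup_right q)) :
    Nat.card (NK S R' (kmap e (KP Q K P))) ≤ Nat.card (normalizerIn (NK S Q K) P) := by
  have hP : P ≤ NK S Q K := hPn.1
  have hQS : Q ≤ S := hQ.1
  have hPQS : P ⊔ Q ≤ S := sup_le (hP.trans (NK_le S Q K)) hQS
  have hR'S : R' ≤ S := he.le_right
  have hQ'S : Q' ≤ S := hθF.le_left
  obtain ⟨χ, hχ, θ', hθ', hθ'χ⟩ := exists_ext_of_fullyKNormalized hS F hF hQ θ hθF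
  have hk₁ : MulAut.congr θ χ ∈ K := congr_mem_of_mem_kmap_symm θ hχ.2
  -- the `P`-part of `R'` acts on `Q'` through `K'`
  have hPpart : ∀ x : P, ((e (Subgroup.inclusion le_sup_left x) : R') : Ω) ∈ NK S Q' (kmap θ.symm K) := by
    intro x
    obtain ⟨κ, hκ, hκx⟩ := (hP x.2).2
    refine ⟨hR'S (e _).2, MulAut.congr θ.symm κ, congr_mem_kmap θ.symm hκ, fun t => ?_⟩
    rw [congr_apply, hθe]
    have e1 : Subgroup.inclusion (le_sup_right : Q ≤ P ⊔ Q) (κ (θ t)) =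
        Subgroup.inclusion le_sup_left x * Subgroup.inclusion le_sup_right (θ t) *
          (Subgroup.inclusion le_sup_left x)⁻¹ := Subtype.ext (hκx _)
    show ((e (Subgroup.inclusion le_sup_right (κ (θ t))) : R') : Ω) = _
    rw [e1, map_mul, map_mul, map_inv]
    show (e (Subgroup.inclusion le_sup_left x) : Ω) * (e (Subgroup.inclusion le_sup_right (θ t)) : Ω) *
      ((e (Subgroup.inclusion le_sup_left x) : R') : Ω)⁻¹ = _
    rw [← hθe]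
    simp
  have hR'D : ∀ z : ↥(P ⊔ Q), equivHom e z ∈ NK S Q' (kmap θ.symm K) ⊔ Q' := by
    have hle : P.subgroupOf (P ⊔ Q) ⊔ Q.subgroupOf (P ⊔ Q) ≤
        (NK S Q' (kmap θ.symm K) ⊔ Q').comap (equivHom e) := by
      apply sup_le
      · intro z hz
        rw [Subgroup.mem_subgroupOf] at hz
        exact Subgroup.mem_sup_left (hPpart ⟨z, hz⟩)
      · intro z hz
        rw [Subgroup.mem_subgroupOf] at hz
        have h1 := hθe ⟨z, hz⟩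
        rw [Subgroup.mem_comap]
        apply Subgroup.mem_sup_right
        have e1 : Subgroup.inclusion (le_sup_right : Q ≤ P ⊔ Q) ⟨z, hz⟩ = z := Subtype.ext rfl
        rw [e1] at h1
        show ((e z : R') : Ω) ∈ Q'
        rw [← h1]
        exact (θ.symm ⟨z, hz⟩).2
    intro z
    have hz : z ∈ P.subgroupOf (P ⊔ Q) ⊔ Q.subgroupOf (P ⊔ Q) := by
      rw [← Subgroup.subgroupOf_sup le_sup_left le_sup_right, Subgroup.subgroupOf_self]
      trivial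
    exact hle hz
  -- the composite `μ`
  have hμ : θ'.comp ((equivHom e).codRestrict _ hR'D) ∈ F.Hom (P ⊔ Q) := F.comp_mem he hθ' hR'D
  have hμQ : ∀ q : Q, θ'.comp ((equivHom e).codRestrict _ hR'D) (Subgroup.inclusion le_sup_right q) =
      (MulAut.congr θ χ q : Q) := by
    intro q
    have e1 : (equivHom e).codRestrict _ hR'D (Subgroup.inclusion le_sup_right q) =
        Subgroup.inclusion le_sup_right (θ.symm q) := Subtype.ext (hθe q).symm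
    show θ' _ = _
    rw [e1, hθ'χ]
    rfl
  -- `θ'` maps `N_S^{K'}(Q')` into `N_S^K(Q)`
  have hθ'NK : ∀ d : ↥(NK S Q' (kmap θ.symm K) ⊔ Q'), (d : Ω) ∈ NK S Q' (kmap θ.symm K) → θ' d ∈ NK S Q K := by
    intro d hd
    obtain ⟨γ, hγ, hγd⟩ := hd.2
    have h1 := transport_action θ' le_sup_right ((χ : Q' ≃* Q').trans θ) hθ'χ d γ hγd
    refine ⟨hom_apply_mem F hθ' d, MulAut.congr ((χ : Q' ≃* Q').trans θ) γ, ?_, h1⟩
    rw [congr_aut_trans]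
    apply congr_mem_of_mem_kmap_symm
    exact Subgroup.mul_mem _ (Subgroup.mul_mem _ hχ.2 hγ) (Subgroup.inv_mem _ hχ.2)
  -- the map `φ₁`
  have hφ₁F : (θ'.comp ((equivHom e).codRestrict _ hR'D)).comp (Subgroup.inclusion le_sup_left) ∈ F.Hom P :=
    inclusion_comp_mem F le_sup_left hμ
  have hφ₁E : (θ'.comp ((equivHom e).codRestrict _ hR'D)).comp (Subgroup.inclusion le_sup_left) ∈ E.Hom P := by
    rw [hE]
    refine ⟨hφ₁F, hP, fun x => ?_, _, hμ, fun x => rfl, _, hk₁, hμQ⟩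
    exact hθ'NK _ (hPpart x)
  have hφ₁app : ∀ x : P, (θ'.comp ((equivHom e).codRestrict _ hR'D)).comp (Subgroup.inclusion le_sup_left) x =
      θ' ⟨(e (Subgroup.inclusion le_sup_left x) : Ω), hR'D _⟩ := fun x => rfl
  generalize (θ'.comp ((equivHom e).codRestrict _ hR'D)).comp (Subgroup.inclusion le_sup_left) = φ₁
    at hφ₁F hφ₁E hφ₁app
  have hconj : E.IsConj P φ₁.range := ⟨_, hφ₁E, rfl⟩
  refine le_trans ?_ (hPn.2 _ hconj)
  have hP''S : φ₁.range ≤ S := range_le F hφ₁F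
  have hfinP'' : Finite φ₁.range := finite_of_le hP''S
  have hfinN : Finite (normalizerIn (NK S Q K) φ₁.range) :=
    finite_of_le ((normalizerIn_le _ _).trans (NK_le S Q K))
  -- elements of `N_S^{K'}(R')`
  have hy : ∀ y ∈ NK S R' (kmap e (KP Q K P)), y ∈ NK S Q' (kmap θ.symm K) ∧
      ∀ z : ↥(P ⊔ Q), (z : Ω) ∈ P → ∃ z' : ↥(P ⊔ Q), (z' : Ω) ∈ P ∧ y * (e z : Ω) * y⁻¹ = e z' := by
    intro y hy
    obtain ⟨γ, hγK, hγ⟩ := hy.2
    obtain ⟨⟨k, hk, hky⟩, h2⟩ := act_of_mem_kmap_KP e θ.symm hθe hγK hγ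
    exact ⟨⟨hy.1, MulAut.congr θ.symm k, congr_mem_kmap θ.symm hk, hky⟩, h2⟩
  have hnorm : ∀ (y : Ω) (hyN : y ∈ NK S R' (kmap e (KP Q K P))),
      θ' ⟨y, Subgroup.mem_sup_left (hy y hyN).1⟩ ∈ Subgroup.normalizer (φ₁.range : Set Ω) := by
    intro y hyN
    apply mem_normalizer_of_conj_mem_finite
    rintro _ ⟨x, rfl⟩
    obtain ⟨z', hz'P, hz'⟩ := (hy y hyN).2 (Subgroup.inclusion le_sup_left x) x.2
    refine ⟨⟨z', hz'P⟩, ?_⟩
    rw [hφ₁app, hφ₁app, ← map_inv, ← map_mul, ← map_mul]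
    congr 1
    apply Subtype.ext
    show ((e (Subgroup.inclusion le_sup_left ⟨z', hz'P⟩) : R') : Ω) =
      y * ((e (Subgroup.inclusion le_sup_left x) : R') : Ω) * y⁻¹
    rw [hz']
    rfl
  let f : ↥(NK S R' (kmap e (KP Q K P))) → ↥(normalizerIn (NK S Q K) φ₁.range) := fun y =>
    ⟨θ' ⟨y, Subgroup.mem_sup_left (hy y y.2).1⟩, hθ'NK _ (hy y y.2).1, hnorm y y.2⟩
  have hinj : Function.Injective f := by
    intro a b hab
    have h1 : θ' ⟨a, Subgroup.mem_sup_left (hy a a.2).1⟩ = θ' ⟨b, Subgroup.mem_sup_left (hy b b.2).1⟩ :=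
      congrArg (fun t : ↥(normalizerIn (NK S Q K) φ₁.range) => (t : Ω)) hab
    have h2 := F.injective_of_mem hθ' h1
    exact Subtype.ext (congrArg (fun t : ↥(NK S Q' (kmap θ.symm K) ⊔ Q') => (t : Ω)) h2)
  exact Nat.card_le_card_of_injective f hinj

/-- Step 1: if `P` is fully normalized in `E` then `PQ` is fully `K_P`-normalized in `F`. -/
theorem fullyKNormalized_of_fullyNormalized [Finite S] {p : ℕ} [Fact p.Prime] (hS : IsPGroup p S)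
    (hF : F.IsSaturated p) (hQ : FullyKNormalized F Q K) {P : Subgroup Ω} (hPn : E.IsFullyNormalized P) :
    FullyKNormalized F (P ⊔ Q) (KP Q K P) := by
  have hP : P ≤ NK S Q K := hPn.1
  have hQS : Q ≤ S := hQ.1
  have hPQS : P ⊔ Q ≤ S := sup_le (hP.trans (NK_le S Q K)) hQS
  refine ⟨hPQS, fun R' e he => ?_⟩
  rw [NK_KP_eq]
  have hφQ : (equivHom e).comp (Subgroup.inclusion le_sup_right) ∈ F.Hom Q := inclusion_comp_mem F le_sup_right he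
  exact card_NK_le_of_fullyNormalized F E hE hS hF hQ hPn (homEquiv F hφQ rfl).symm (homEquiv_isFIso F hφQ rfl).symm
    e he (fun q => rfl)

/-- AKO Theorem I.5.5: the `K`-normalizer system of a fully `K`-normalized subgroup is saturated. -/
theorem kNormalizer_saturated [Finite S] {p : ℕ} [Fact p.Prime] (hS : IsPGroup p S)
    (hF : F.IsSaturated p) (hQ : FullyKNormalized F Q K) : E.IsSaturated p := by
  intro P hP
  have hfin : Finite (NK S Q K) := finite_of_le (NK_le S Q K)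
  obtain ⟨P₁, hconj, hFN⟩ := exists_fullyNormalized_conj E hP
  have h1 := fullyKNormalized_of_fullyNormalized F E hE hS hF hQ hFN
  exact ⟨P₁, hconj, fullyAutomized_of_fullyKNormalized F E hE hS hF hQ.1 hFN.1 h1,
    receptive_of_fullyKNormalized F E hE hS hF hQ.1 hFN.1 h1⟩

end Sys

/-- Version over a subgroup equal to `N_S^K(Q)`. -/
theorem kNormalizer_saturated' [Finite S] {p : ℕ} [Fact p.Prime] (hS : IsPGroup p S) (F : FusionSystem S)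
    (hF : F.IsSaturated p) {Q : Subgroup Ω} {K : Subgroup (MulAut Q)} (hQ : FullyKNormalized F Q K)
    {T : Subgroup Ω} (hT : T = NK S Q K) (E : FusionSystem T)
    (hE : ∀ (P : Subgroup Ω) (φ : P →* Ω), φ ∈ E.Hom P ↔ KHom F Q K P φ) : E.IsSaturated p := by
  subst hT
  exact kNormalizer_saturated F E hE hS hF hQ

/-! ### The cases `K = ⊤` and `K = ⊥` -/

theorem NK_top (S Q : Subgroup Ω) : NK S Q ⊤ = normalizerIn S Q := by
  ext x
  constructor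
  · intro hx
    exact NK_le_normalizerIn S Q ⊤ hx
  · rintro ⟨hxS, hxN⟩
    exact ⟨hxS, Q.normalizerMonoidHom ⟨x, hxN⟩, Subgroup.mem_top _, fun _ => rfl⟩

theorem NK_bot (S Q : Subgroup Ω) : NK S Q ⊥ = centralizerIn S Q := by
  apply le_antisymm
  · rintro x ⟨hxS, α, hα, hαx⟩
    rw [Subgroup.mem_bot] at hα
    rw [mem_centralizerIn_iff]
    refine ⟨hxS, fun t ht => ?_⟩
    have := hαx ⟨t, ht⟩
    rw [hα] at this
    have h2 : t = x * t * x⁻¹ := this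
    calc t * x = (x * t * x⁻¹) * x := by rw [← h2]
      _ = x * t := by group
  · exact centralizerIn_le_NK S Q ⊥

theorem kmap_top {Q Q' : Subgroup Ω} (e : Q ≃* Q') : kmap e (⊤ : Subgroup (MulAut Q)) = ⊤ := by
  rw [eq_top_iff]
  intro γ _
  rw [mem_kmap]
  exact Subgroup.mem_top _

theorem kmap_bot {Q Q' : Subgroup Ω} (e : Q ≃* Q') : kmap e (⊥ : Subgroup (MulAut Q)) = ⊥ := by
  unfold kmap
  rw [Subgroup.map_bot]

theorem fullyKNormalized_top (F : FusionSystem S) {Q : Subgroup Ω} (hQ : F.IsFullyNormalized Q) :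
    FullyKNormalized F Q ⊤ := by
  refine ⟨hQ.1, fun Q' e he => ?_⟩
  rw [kmap_top, NK_top, NK_top]
  exact hQ.2 Q' ((isConj_iff_exists_isFIso F).mpr ⟨e, he⟩)

theorem fullyKNormalized_bot (F : FusionSystem S) {Q : Subgroup Ω} (hQ : F.IsFullyCentralized Q) :
    FullyKNormalized F Q ⊥ := by
  refine ⟨hQ.1, fun Q' e he => ?_⟩
  rw [kmap_bot, NK_bot, NK_bot]
  exact hQ.2 Q' ((isConj_iff_exists_isFIso F).mpr ⟨e, he⟩)

theorem KHom_top_iff (F : FusionSystem S) (Q P : Subgroup Ω) (φ : P →* Ω) :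
    KHom F Q ⊤ P φ ↔ φ ∈ F.normalizerHom Q P := by
  unfold KHom
  rw [NK_top]
  constructor
  · rintro ⟨h1, h2, h3, ψ, hψ, hψφ, k, -, hψk⟩
    refine ⟨h1, h2, h3, ψ, hψ, hψφ, ?_⟩
    ext z
    rw [mem_map_subgroupOf]
    constructor
    · rintro ⟨y, hy, rfl⟩
      have := hψk ⟨y, hy⟩
      have e1 : Subgroup.inclusion (le_sup_right : Q ≤ P ⊔ Q) ⟨y, hy⟩ = y := Subtype.ext rfl
      rw [e1] at this
      rw [this]
      exact (k ⟨y, hy⟩).2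
    · intro hz
      refine ⟨Subgroup.inclusion le_sup_right (k⁻¹ ⟨z, hz⟩), (k⁻¹ ⟨z, hz⟩).2, ?_⟩
      rw [hψk]
      show ((k (k⁻¹ ⟨z, hz⟩) : Q) : Ω) = z
      rw [MulAut.apply_inv_self]
  · rintro ⟨h1, h2, h3, ψ, hψ, hψφ, hψQ⟩
    exact ⟨h1, h2, h3, ψ, hψ, hψφ, restrictAut ψ (F.injective_of_mem hψ) le_sup_right hψQ, Subgroup.mem_top _,
      fun q => rfl⟩

theorem KHom_bot_iff (F : FusionSystem S) (Q P : Subgroup Ω) (φ : P →* Ω) :
    KHom F Q ⊥ P φ ↔ φ ∈ F.centralizerHom Q P := by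
  unfold KHom
  rw [NK_bot]
  constructor
  · rintro ⟨h1, h2, h3, ψ, hψ, hψφ, k, hk, hψk⟩
    rw [Subgroup.mem_bot] at hk
    refine ⟨h1, h2, h3, ψ, hψ, hψφ, fun q => ?_⟩
    rw [hψk, hk]
    rfl
  · rintro ⟨h1, h2, h3, ψ, hψ, hψφ, hψQ⟩
    exact ⟨h1, h2, h3, ψ, hψ, hψφ, 1, Subgroup.one_mem _, hψQ⟩

/-- S5098: the normalizer system of a fully normalized subgroup is saturated. -/
theorem normalizerSystem_saturated [Finite S] {p : ℕ} [Fact p.Prime] (hS : IsPGroup p S) (F : FusionSystem S)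
    (hF : F.IsSaturated p) {Q : Subgroup Ω} (hQ : F.IsFullyNormalized Q) (E : FusionSystem (normalizerIn S Q))
    (hE : F.IsNormalizerSystem Q E) : E.IsSaturated p := by
  apply kNormalizer_saturated' hS F hF (fullyKNormalized_top F hQ) (NK_top S Q).symm E
  intro P φ
  rw [KHom_top_iff, hE P]

/-- S5099: the centralizer system of a fully centralized subgroup is saturated. -/
theorem centralizerSystem_saturated [Finite S] {p : ℕ} [Fact p.Prime] (hS : IsPGroup p S) (F : FusionSystem S)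
    (hF : F.IsSaturated p) {Q : Subgroup Ω} (hQ : F.IsFullyCentralized Q) (E : FusionSystem (centralizerIn S Q))
    (hE : F.IsCentralizerSystem Q E) : E.IsSaturated p := by
  apply kNormalizer_saturated' hS F hF (fullyKNormalized_bot F hQ) (NK_bot S Q).symm E
  intro P φ
  rw [KHom_bot_iff, hE P]

end Cfsg.Agent.Lib.Helper26
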