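import Cfsg.Agent.Lib.Helper26.CenEE
import Cfsg.Agent.Lib.Helper26.FSKNormSat
import Cfsg.Agent.Lib.Helper26.FSFocal

/-!
S5293: for a normal subsystem `E` of `F` over `T`, the focal subgroup of `C_F(T)` lies in the join of the subgroups
`X ≤ C_S(T)` with `E ⊆ C_F(X)`.
-/

set_option autoImplicit false

namespace Cfsg.Agent.Lib.Helper26.CenE

open Cfsg Cfsg.FusionSystem Cfsg.Agent.Lib.Helper26 Cfsg.Agent.Lib.Helper27 Cfsg.Agent.Lib.Helper26.OlvN
  Cfsg.Agent.Lib.Helper26.Crav
open scoped commutatorElement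

variable {Ω : Type*} [Group Ω] {S T : Subgroup Ω}

theorem fullyCentralized_of_sc [Finite S] (F : FusionSystem S) (hT : F.StronglyClosed T) :
    F.IsFullyCentralized T := by
  refine ⟨hT.1, ?_⟩
  rintro Q ⟨φ, hφ, rfl⟩
  have hfinT : Finite T := finite_of_le hT.1
  have hle : φ.range ≤ T := by
    rintro _ ⟨x, rfl⟩
    exact hT.2 T le_rfl φ hφ x
  have : φ.range = T := by
    apply Subgroup.eq_of_le_of_card_ge hle
    rw [Nat.card_congr (MonoidHom.ofInjective (F.injective_of_mem hφ)).toEquiv]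
  rw [this]

variable [Finite S] {p : ℕ} [Fact p.Prime]

/-- The sources `T` and the `E`-essential subgroups are `E`-centric; automorphisms of them in `E` are nice. -/
theorem nice_of_aut (hS : IsPGroup p S) (F : FusionSystem S) (hF : F.IsSaturated p) (E : FusionSystem T)
    (hE : E.IsNormalIn F p) {P : Subgroup Ω} (hP : P = T ∨ E.IsEssential p P) (α : MulAut P)
    (hα : α ∈ E.autGroup P) :
    P ≤ T ∧ centralizerIn T P ≤ P ∧ Nice F T P (P.subtype.comp α.toMonoidHom) := by
  have hT : F.StronglyClosed T := hE.1.2.2.2.1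
  have hfinT : Finite T := finite_of_le hT.1
  have hPc : E.IsCentric P := by
    rcases hP with rfl | hess
    · exact isCentric_self E
    · exact hess.1
  have hPT : P ≤ T := hPc.1
  have hαE := (mem_autGroup_iff E hPT α).mp hα
  exact ⟨hPT, hPc.2 P (isConj_refl E hPT), (hom_subset_niceSystem hS F hF E hE P hαE).2 hPc⟩

/-- `E ⊆ C_F([C_S(T), C_S(T)])`. -/
theorem commutator_good (hS : IsPGroup p S) (F : FusionSystem S) (hF : F.IsSaturated p) (E : FusionSystem T)
    (hE : E.IsNormalIn F p) :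
    ∀ P : Subgroup Ω, E.Hom P ⊆ F.centralizerHom ⁅centralizerIn S T, centralizerIn S T⁆ P := by
  have hT : F.StronglyClosed T := hE.1.2.2.2.1
  apply centralizes_of_aut hS F E hE.1.1 hE.1.2.2.1 hT (commutator_self_le _)
  intro P hP α hα
  obtain ⟨hPT, hcen, ψ, hψ⟩ := nice_of_aut hS F hF E hE hP α hα
  have hcen' : centralizerIn T (P.subtype.comp α.toMonoidHom).range ≤ (P.subtype.comp α.toMonoidHom).range := by
    rw [range_aut]
    exact hcen
  have hle : P ⊔ ⁅centralizerIn S T, centralizerIn S T⁆ ≤ P ⊔ centralizerIn S T :=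
    sup_le_sup_left (commutator_self_le _) P
  refine ⟨ψ.comp (Subgroup.inclusion hle), inclusion_comp_mem F hle hψ.mem, fun x => hψ.ext x, fun y => ?_⟩
  exact niceExt_apply_of_mem_commutator hψ hT hPT hcen' y y.2 _

/-- `E ⊆ C_F([Q, ζ])` for a `p'`-automorphism `ζ` of `Q ≤ C_S(T)` in `C_F(T)`. -/
theorem autComm_good (hS : IsPGroup p S) (F : FusionSystem S) (hF : F.IsSaturated p) (E : FusionSystem T)
    (hE : E.IsNormalIn F p) {Q : Subgroup Ω} (hQ : Q ≤ centralizerIn S T) (ζ : MulAut Q)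
    (hζ : Q.subtype.comp ζ.toMonoidHom ∈ F.centralizerHom T Q) (hcop : (orderOf ζ).Coprime p) :
    ∀ P : Subgroup Ω, E.Hom P ⊆ F.centralizerHom (autComm ζ) P := by
  have hT : F.StronglyClosed T := hE.1.2.2.2.1
  apply centralizes_of_aut hS F E hE.1.1 hE.1.2.2.1 hT ((autComm_le ζ).trans hQ)
  intro P hP α hα
  obtain ⟨hPT, hcen, hnice⟩ := nice_of_aut hS F hF E hE hP α hα
  exact fixExt_of_coprime hS F hT hPT hcen α hnice hQ ζ hζ hcop

/-- **S5293.** -/
theorem focal_le (hS : IsPGroup p S) (F : FusionSystem S) (hF : F.IsSaturated p) (E : FusionSystem T)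
    (hE : E.IsNormalIn F p) (C : Subgroup Ω)
    (hC : C = sSup {X : Subgroup Ω | X ≤ centralizerIn S T ∧ ∀ P : Subgroup Ω, E.Hom P ⊆ F.centralizerHom X P})
    (D : FusionSystem (centralizerIn S T)) (hD : F.IsCentralizerSystem T D) : D.focalSubgroup ≤ C := by
  have hT : F.StronglyClosed T := hE.1.2.2.2.1
  have hAS : centralizerIn S T ≤ S := centralizerIn_le S T
  haveI hfinA : Finite ↥(centralizerIn S T) := finite_of_le hAS
  have hpA : IsPGroup p ↥(centralizerIn S T) := hS.to_le hAS
  have hDsat : D.IsSaturated p := centralizerSystem_saturated hS F hF (fullyCentralized_of_sc F hT) D hD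
  have hgood : ∀ X : Subgroup Ω, X ≤ centralizerIn S T → (∀ P : Subgroup Ω, E.Hom P ⊆ F.centralizerHom X P) →
      X ≤ C := by
    intro X hX hXE
    rw [hC]
    exact le_sSup ⟨hX, hXE⟩
  rw [focal_eq hpA D hDsat]
  apply sup_le
  · unfold hyperfocalSubgroup
    rw [Subgroup.closure_le]
    rintro _ ⟨Q, α, x, hQA, hα, rfl⟩
    have key : ∀ g : ↥(D.autGroup Q), g ∈ pResidual p ↥(D.autGroup Q) →
        ∀ x : Q, (x : Ω)⁻¹ * (((g : MulAut Q) x : Q) : Ω) ∈ C := by
      intro g hg
      unfold pResidual at hg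
      induction hg using Subgroup.closure_induction with
      | mem g hg =>
        intro x
        have hcop : (orderOf (g : MulAut Q)).Coprime p := by
          rw [Subgroup.orderOf_coe]
          exact hg
        have hζ : Q.subtype.comp (g : MulAut Q).toMonoidHom ∈ F.centralizerHom T Q := by
          rw [← hD Q]
          exact (mem_autGroup_iff D hQA _).mp g.2
        have h1 := hgood _ ((autComm_le (g : MulAut Q)).trans hQA)
          (autComm_good hS F hF E hE hQA (g : MulAut Q) hζ hcop)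
        exact h1 (mem_autComm (g : MulAut Q) x)
      | one =>
        intro x
        show (x : Ω)⁻¹ * (x : Ω) ∈ C
        rw [inv_mul_cancel]
        exact C.one_mem
      | mul g h _ _ ihg ihh =>
        intro x
        have e : (x : Ω)⁻¹ * ((((g * h : ↥(D.autGroup Q)) : MulAut Q) x : Q) : Ω) =
            ((x : Ω)⁻¹ * (((h : MulAut Q) x : Q) : Ω)) *
              ((((h : MulAut Q) x : Q) : Ω)⁻¹ * (((g : MulAut Q) ((h : MulAut Q) x) : Q) : Ω)) := by
          show (x : Ω)⁻¹ * (((g : MulAut Q) ((h : MulAut Q) x) : Q) : Ω) = _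
          group
        rw [e]
        exact C.mul_mem (ihh x) (ihg _)
      | inv g _ ihg =>
        intro x
        have h1 := ihg ((g : MulAut Q)⁻¹ x)
        rw [MulAut.apply_inv_self] at h1
        have e : (x : Ω)⁻¹ * ((((g⁻¹ : ↥(D.autGroup Q)) : MulAut Q) x : Q) : Ω) =
            (((((g : MulAut Q)⁻¹ x : Q) : Ω))⁻¹ * (x : Ω))⁻¹ := by
          show (x : Ω)⁻¹ * ((((g : MulAut Q)⁻¹ x : Q)) : Ω) = _
          group
        rw [e]
        exact C.inv_mem h1
    exact key α hα x
  · exact hgood _ (commutator_self_le _) (commutator_good hS F hF E hE)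

end Cfsg.Agent.Lib.Helper26.CenE
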