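import Cfsg.Agent.Lib.Helper26.PPI10

/-!
# Existence and uniqueness of the saturated subsystems of `p`-power index: the chain (helper26)
-/

set_option autoImplicit false
set_option linter.unusedSectionVars false
set_option linter.unusedVariables false
set_option linter.style.haveILetI false

namespace Cfsg.Agent.Lib.Helper26.PPI

open Cfsg Cfsg.FusionSystem Cfsg.Agent.Lib.Helper26 Cfsg.Agent.Lib.Helper27.FM
open Cfsg.Agent.Lib.Helper27.BS MulAction

universe u

variable {Ω : Type u} [Group Ω]
variable {p : ℕ}

theorem fusionSystem_eq_of_hom {T : Subgroup Ω} (E E' : FusionSystem T) (h : ∀ P : Subgroup Ω, E.Hom P = E'.Hom P) :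
    E = E' := by
  cases E
  cases E'
  congr
  funext P
  exact h P

theorem exists_ppower_index_aux [Fact p.Prime] (n : ℕ) :
    ∀ (S : Subgroup Ω) [Finite S], IsPGroup p S → Nat.card S = n →
      ∀ (F : FusionSystem S), F.IsSaturated p → ∀ T : Subgroup Ω, T ≤ S → F.hyperfocalSubgroup p ≤ T →
        ∃ E : FusionSystem T, E.IsSaturated p ∧ E.HasPPowerIndexIn F p := by
  induction n using Nat.strong_induction_on with
  | _ n ih =>
    intro S _ hS hcardS F hF T hTS hT
    by_cases hTeq : T = S
    · subst hTeq
      exact ⟨F, hF, fun P => subset_rfl, hT, fun P hP => Subgroup.map_subtype_le _⟩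
    · have hp : p.Prime := Fact.out
      obtain ⟨k, hk⟩ := hS.exists_card_eq
      haveI : Finite T := finite_of_le hTS
      obtain ⟨m, hm⟩ := (hS.to_le hTS).exists_card_eq
      have hmk : m < k := by
        by_contra hge
        push Not at hge
        have h1 : Nat.card ↥S ≤ Nat.card ↥T := by
          rw [hk, hm]
          exact Nat.pow_le_pow_right hp.pos hge
        exact hTeq (Subgroup.eq_of_le_of_card_ge hTS h1)
      set H : Subgroup ↥S := T.subgroupOf S with hHdef
      have hH : Nat.card H = p ^ m := by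
        rw [← hm]
        exact Nat.card_congr (Subgroup.subgroupOfEquivOfLe hTS).toEquiv
      obtain ⟨K, hK, hHK⟩ := Sylow.exists_subgroup_card_pow_prime_le p (m := k - 1)
        (by rw [hk]; exact pow_dvd_pow p (Nat.sub_le k 1)) H hH (by omega)
      have hKidx : K.index = p := by
        have h1 := K.index_mul_card
        rw [hK, hk] at h1
        have h2 : p ^ k = p * p ^ (k - 1) := by
          rw [← pow_succ']
          congr 1
          omega
        rw [h2] at h1
        exact Nat.eq_of_mul_eq_mul_right (pow_pos hp.pos _) h1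
      haveI : K.Normal := Subgroup.normal_of_index_eq_minFac_card (by
        rw [hKidx, hk, hp.pow_minFac (by omega)])
      have hcardQ : Nat.card (↥S ⧸ K) = p := by rw [← Subgroup.index_eq_card]; exact hKidx
      haveI : IsCyclic (↥S ⧸ K) := isCyclic_of_prime_card hcardQ
      letI : CommGroup (↥S ⧸ K) := IsCyclic.commGroup
      set π : ↥S →* ↥S ⧸ K := QuotientGroup.mk' K with hπdef
      have hker : ∀ s : ↥S, π s = 1 ↔ s ∈ K := fun s => QuotientGroup.eq_one_iff s
      have hTM : T ≤ kerSub π := by
        intro x hx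
        rw [mem_kerSub]
        exact ⟨hTS hx, (hker _).mpr (hHK (Subgroup.mem_subgroupOf.mpr hx))⟩
      have hπ : PStable F π := pStable_of_hyp_le hS F hF π (hT.trans hTM)
      obtain ⟨E₁, hE₁sat, hE₁F, hE₁res⟩ := exists_ppi_of_hom hS F hF π (QuotientGroup.mk'_surjective K) hcardQ hπ
      obtain ⟨c, hc⟩ : ∃ c : ↥S, π c ≠ 1 := by
        by_contra hall
        push Not at hall
        have h1 : K = ⊤ := by
          rw [eq_top_iff]
          intro s _
          exact (hker s).mp (hall s)
        rw [h1, Subgroup.index_top] at hKidx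
        exact hp.one_lt.ne hKidx
      have hlt : Nat.card ↥(kerSub π) < n := by rw [← hcardS]; exact card_kerSub_lt π c hc
      haveI : Finite ↥(kerSub π) := finite_of_le (kerSub_le π)
      obtain ⟨E, hEsat, hEsub, hEhyp, hEres⟩ := ih _ hlt (kerSub π) (hS.to_le (kerSub_le π)) rfl E₁ hE₁sat T hTM
        ((hyperfocal_le_of_subsystem E₁ F hE₁F).trans hT)
      refine ⟨E, hEsat, fun P φ hφ => hE₁F P (hEsub P hφ), hT, fun P hP => ?_⟩
      exact (map_pResidual_le_of_le (hE₁res P (hP.trans hTM))).trans (hEres P hP)

/-- **Existence and uniqueness of the saturated subsystem of `p`-power index over `T ≥ hyp(F)`.** -/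
theorem exists_unique_ppower_index {S : Subgroup Ω} [Finite S] [Fact p.Prime] (hS : IsPGroup p S)
    (F : FusionSystem S) (hF : F.IsSaturated p) (T : Subgroup Ω) (hTS : T ≤ S)
    (hT : F.hyperfocalSubgroup p ≤ T) :
    ∃ E : FusionSystem T, (E.IsSaturated p ∧ E.HasPPowerIndexIn F p) ∧
      ∀ E' : FusionSystem T, E'.IsSaturated p → E'.HasPPowerIndexIn F p → E' = E := by
  obtain ⟨E, hE, hEi⟩ := exists_ppower_index_aux (p := p) (Nat.card S) S hS rfl F hF T hTS hT
  refine ⟨E, ⟨hE, hEi⟩, fun E' hE' hEi' => ?_⟩
  exact fusionSystem_eq_of_hom E' E (Cfsg.Agent.Lib.Helper27.ppower_index_unique hS F E' E hE' hE hEi' hEi)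

end Cfsg.Agent.Lib.Helper26.PPI
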