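import Cfsg.Agent.Lib.Helper26.FSCentricExt
import Cfsg.Agent.Lib.Helper26.FSChain

/-!
Extension of maps modulo a strongly closed subgroup `T`: every map `φ : P → S` of a saturated fusion system admits
`ψ : PT → S` with `ψ(x) ∈ φ(x)T` for `x ∈ P`.
-/

set_option autoImplicit false

namespace Cfsg.Agent.Lib.Helper26

open Cfsg Cfsg.FusionSystem

variable {Ω : Type*} [Group Ω] {S : Subgroup Ω}

/-- Maps of the system preserve a strongly closed subgroup. -/
theorem apply_mem_of_stronglyClosed (F : FusionSystem S) {T : Subgroup Ω} (hT : F.StronglyClosed T)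
    {R : Subgroup Ω} {ψ : R →* Ω} (hψ : ψ ∈ F.Hom R) (y : R) (hy : (y : Ω) ∈ T) : ψ y ∈ T := by
  have h1 := inclusion_comp_mem F (inf_le_left : R ⊓ T ≤ R) hψ
  exact hT.2 (R ⊓ T) inf_le_right _ h1 ⟨y, y.2, hy⟩

theorem mem_of_apply_mem_of_stronglyClosed (F : FusionSystem S) {T : Subgroup Ω} (hT : F.StronglyClosed T)
    {R : Subgroup Ω} {ψ : R →* Ω} (hψ : ψ ∈ F.Hom R) (y : R) (hy : ψ y ∈ T) : (y : Ω) ∈ T := by
  obtain ⟨χ, hχ, hχy⟩ := F.inv_mem hψ
  have := apply_mem_of_stronglyClosed F hT hχ ⟨ψ y, ⟨y, rfl⟩⟩ hy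
  rwa [hχy] at this

theorem apply_mem_iff_of_stronglyClosed (F : FusionSystem S) {T : Subgroup Ω} (hT : F.StronglyClosed T)
    {R : Subgroup Ω} {ψ : R →* Ω} (hψ : ψ ∈ F.Hom R) (y : R) : (y : Ω) ∈ T ↔ ψ y ∈ T :=
  ⟨apply_mem_of_stronglyClosed F hT hψ y, mem_of_apply_mem_of_stronglyClosed F hT hψ y⟩

/-- A map defined on a subgroup containing the strongly closed `T` maps `T` onto `T`. -/
theorem exists_preimage_of_stronglyClosed [Finite S] (F : FusionSystem S) {T : Subgroup Ω} (hT : F.StronglyClosed T)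
    {R : Subgroup Ω} (hTR : T ≤ R) {ψ : R →* Ω} (hψ : ψ ∈ F.Hom R) (t : Ω) (ht : t ∈ T) :
    ∃ y : R, (y : Ω) ∈ T ∧ ψ y = t := by
  have hfinT : Finite T := finite_of_le hT.1
  let f : T → T := fun x => ⟨ψ ⟨x, hTR x.2⟩, apply_mem_of_stronglyClosed F hT hψ _ x.2⟩
  have hinj : Function.Injective f := by
    intro a b hab
    have h1 : ψ ⟨a, hTR a.2⟩ = ψ ⟨b, hTR b.2⟩ := congrArg Subtype.val hab
    have h2 := F.injective_of_mem hψ h1
    exact Subtype.ext (congrArg (fun z : R => (z : Ω)) h2)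
  obtain ⟨x, hx⟩ := (Finite.injective_iff_surjective.mp hinj) ⟨t, ht⟩
  exact ⟨⟨x, hTR x.2⟩, x.2, congrArg Subtype.val hx⟩

theorem exists_mul_of_mem_sup' {P T : Subgroup Ω} (hPT : P ≤ Subgroup.normalizer (T : Set Ω)) (y : ↥(P ⊔ T)) :
    ∃ (x : P) (t : T), y = Subgroup.inclusion le_sup_left x * Subgroup.inclusion le_sup_right t := by
  have hy : (y : Ω) ∈ ((P ⊔ T : Subgroup Ω) : Set Ω) := y.2
  rw [Subgroup.coe_mul_of_left_le_normalizer_right P T hPT] at hy
  obtain ⟨x, hx, t, ht, hxt⟩ := hy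
  exact ⟨⟨x, hx⟩, ⟨t, ht⟩, Subtype.ext hxt.symm⟩

/-- `φ` extends to `P ⊔ T` modulo `T`. -/
def ExtMod (F : FusionSystem S) (T P : Subgroup Ω) (φ : P →* Ω) : Prop :=
  ∃ ψ ∈ F.Hom (P ⊔ T), ∀ x : P, (φ x)⁻¹ * ψ (Subgroup.inclusion le_sup_left x) ∈ T

theorem extMod_conj (F : FusionSystem S) {T : Subgroup Ω} (hT : F.StronglyClosed T) {P : Subgroup Ω} {g : Ω}
    (hP : P ≤ S) (hg : g ∈ S) : ExtMod F T P (conjHom P g) := by
  refine ⟨conjHom (P ⊔ T) g, F.conj_mem (sup_le hP hT.1) hg, fun x => ?_⟩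
  have : (conjHom P g x)⁻¹ * conjHom (P ⊔ T) g (Subgroup.inclusion le_sup_left x) = 1 := by
    rw [conjHom_apply, conjHom_apply]
    exact inv_mul_cancel _
  rw [this]
  exact T.one_mem

theorem extMod_comp (F : FusionSystem S) {T : Subgroup Ω} (hT : F.StronglyClosed T) {P Q : Subgroup Ω}
    {φ : P →* Ω} {χ : Q →* Ω} (hφ : φ ∈ F.Hom P) (hχ : χ ∈ F.Hom Q) (h : ∀ x : P, φ x ∈ Q)
    (cφ : ExtMod F T P φ) (cχ : ExtMod F T Q χ) : ExtMod F T P (χ.comp (φ.codRestrict Q h)) := by
  obtain ⟨ψφ, hψφ, hφx⟩ := cφ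
  obtain ⟨ψχ, hψχ, hχx⟩ := cχ
  have hPS : P ≤ S := hom_le F hφ
  have hnorm := le_normalizer_of_stronglyClosed F hT
  have hmaps : ∀ y : ↥(P ⊔ T), ψφ y ∈ Q ⊔ T := by
    intro y
    obtain ⟨x, t, rfl⟩ := exists_mul_of_mem_sup' (hPS.trans hnorm) y
    rw [map_mul]
    apply Subgroup.mul_mem
    · have h1 := hφx x
      have h2 : ψφ (Subgroup.inclusion le_sup_left x) = φ x * ((φ x)⁻¹ * ψφ (Subgroup.inclusion le_sup_left x)) := by
        simp
      rw [h2]
      exact Subgroup.mul_mem _ (Subgroup.mem_sup_left (h x)) (Subgroup.mem_sup_right h1)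
    · exact Subgroup.mem_sup_right (apply_mem_of_stronglyClosed F hT hψφ _ t.2)
  refine ⟨ψχ.comp (ψφ.codRestrict (Q ⊔ T) hmaps), F.comp_mem hψφ hψχ hmaps, fun x => ?_⟩
  show (χ ⟨φ x, h x⟩)⁻¹ * ψχ ⟨ψφ (Subgroup.inclusion le_sup_left x), hmaps _⟩ ∈ T
  set tx := (φ x)⁻¹ * ψφ (Subgroup.inclusion le_sup_left x) with htx
  have htxT : tx ∈ T := hφx x
  have e : (⟨ψφ (Subgroup.inclusion le_sup_left x), hmaps _⟩ : ↥(Q ⊔ T)) =
      Subgroup.inclusion le_sup_left (⟨φ x, h x⟩ : Q) * Subgroup.inclusion le_sup_right (⟨tx, htxT⟩ : T) := by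
    apply Subtype.ext
    show ψφ (Subgroup.inclusion le_sup_left x) = φ x * tx
    rw [htx]; simp
  rw [e, map_mul, ← mul_assoc]
  apply T.mul_mem (hχx ⟨φ x, h x⟩)
  exact apply_mem_of_stronglyClosed F hT hψχ _ htxT

theorem extMod_inv [Finite S] (F : FusionSystem S) {T : Subgroup Ω} (hT : F.StronglyClosed T) {P : Subgroup Ω}
    {φ : P →* Ω} (hφ : φ ∈ F.Hom P) (cφ : ExtMod F T P φ) (χ : φ.range →* Ω)
    (hχx : ∀ x : P, χ ⟨φ x, ⟨x, rfl⟩⟩ = (x : Ω)) : ExtMod F T φ.range χ := by
  obtain ⟨ψφ, hψφ, hφx⟩ := cφ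
  have hPS : P ≤ S := hom_le F hφ
  have hnorm := le_normalizer_of_stronglyClosed F hT
  -- the image of `ψφ` is `φ(P) T`
  have hr : ψφ.range = φ.range ⊔ T := by
    apply le_antisymm
    · rintro _ ⟨y, rfl⟩
      obtain ⟨x, t, rfl⟩ := exists_mul_of_mem_sup' (hPS.trans hnorm) y
      rw [map_mul]
      apply Subgroup.mul_mem
      · have h2 : ψφ (Subgroup.inclusion le_sup_left x) =
            φ x * ((φ x)⁻¹ * ψφ (Subgroup.inclusion le_sup_left x)) := by simp
        rw [h2]
        exact Subgroup.mul_mem _ (Subgroup.mem_sup_left ⟨x, rfl⟩) (Subgroup.mem_sup_right (hφx x))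
      · exact Subgroup.mem_sup_right (apply_mem_of_stronglyClosed F hT hψφ _ t.2)
    · apply sup_le
      · rintro _ ⟨x, rfl⟩
        obtain ⟨y, -, hy⟩ := exists_preimage_of_stronglyClosed F hT le_sup_right hψφ _ (T.inv_mem (hφx x))
        refine ⟨Subgroup.inclusion le_sup_left x * y, ?_⟩
        rw [map_mul, hy]
        simp
      · intro t ht
        obtain ⟨y, -, hy⟩ := exists_preimage_of_stronglyClosed F hT le_sup_right hψφ t ht
        exact ⟨y, hy⟩
  obtain ⟨ψ', hψ', hψ'y⟩ := F.inv_mem hψφ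
  refine ⟨ψ'.comp (Subgroup.inclusion hr.ge), hom_congr F hr hψ', ?_⟩
  rintro ⟨_, x, rfl⟩
  -- `φ x = ψφ (x t')` with `t' ∈ T`
  obtain ⟨y, hyT, hy⟩ := exists_preimage_of_stronglyClosed F hT le_sup_right hψφ _ (T.inv_mem (hφx x))
  have e : (Subgroup.inclusion hr.ge (Subgroup.inclusion le_sup_left (⟨φ x, ⟨x, rfl⟩⟩ : φ.range))) =
      ⟨ψφ (Subgroup.inclusion le_sup_left x * y), ⟨_, rfl⟩⟩ := by
    apply Subtype.ext
    show φ x = ψφ (Subgroup.inclusion le_sup_left x * y)
    rw [map_mul, hy]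
    simp
  show (χ ⟨φ x, ⟨x, rfl⟩⟩)⁻¹ * ψ' (Subgroup.inclusion hr.ge (Subgroup.inclusion le_sup_left ⟨φ x, ⟨x, rfl⟩⟩)) ∈ T
  rw [e, hψ'y, hχx]
  show (x : Ω)⁻¹ * ((x : Ω) * (y : Ω)) ∈ T
  rw [inv_mul_cancel_left]
  exact hyT

/-- The predicate `ExtMod`, restricted to sources of order at least `d`, is closed under the operations of the
system. -/
def extModPred [Finite S] (F : FusionSystem S) {T : Subgroup Ω} (hT : F.StronglyClosed T) (d : ℕ) : HomPred F where
  C P φ := d ≤ Nat.card P → ExtMod F T P φ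
  conj := fun hP hg _ => extMod_conj F hT hP hg
  comp := by
    intro P Q φ χ hφ hχ cφ cχ h hd
    have hQS : Q ≤ S := hom_le F hχ
    have hfinQ : Finite Q := finite_of_le hQS
    have hcard : Nat.card P ≤ Nat.card Q := by
      apply Nat.card_le_card_of_injective (φ.codRestrict Q h)
      intro a b hab
      exact F.injective_of_mem hφ (congrArg Subtype.val hab)
    exact extMod_comp F hT hφ hχ h (cφ hd) (cχ (hd.trans hcard))
  inv := by
    intro P φ hφ cφ χ _ hχx hd
    have hcard : Nat.card φ.range = Nat.card P :=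
      (Nat.card_congr (MonoidHom.ofInjective (F.injective_of_mem hφ)).toEquiv).symm
    exact extMod_inv F hT hφ (cφ (hcard ▸ hd)) χ hχx

/-- `ExtMod` for an automorphism acting trivially modulo `T`. -/
theorem extMod_of_trivial_mod (F : FusionSystem S) {T : Subgroup Ω} (hT : F.StronglyClosed T) {U : Subgroup Ω}
    (hUS : U ≤ S) (a : MulAut U) (ha : ∀ x : U, ((x⁻¹ * a x : U) : Ω) ∈ T) :
    ExtMod F T U (U.subtype.comp (a : U ≃* U).toMonoidHom) := by
  refine ⟨(U ⊔ T).subtype, subtype_mem F (sup_le hUS hT.1), fun x => ?_⟩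
  have := T.inv_mem (ha x)
  have e : (((x⁻¹ * a x : U) : Ω))⁻¹ = ((a x : U) : Ω)⁻¹ * (x : Ω) := by
    simp
  rw [e] at this
  exact this

/-- `ExtMod` for an automorphism of a receptive `U` that extends to `N_{UT}(U)`, given `ExtMod` for bigger
subgroups. -/
theorem extMod_of_extends (F : FusionSystem S) {T U U₁ : Subgroup Ω} (hUU₁ : U ≤ U₁) {φ : U →* Ω}
    {ψ₁ : U₁ →* Ω} (hext : ∀ x : U, ψ₁ (Subgroup.inclusion hUU₁ x) = φ x)
    (c : ExtMod F T U₁ ψ₁) : ExtMod F T U φ := by
  obtain ⟨Ψ, hΨ, hΨx⟩ := c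
  refine ⟨Ψ.comp (Subgroup.inclusion (sup_le_sup_right hUU₁ T)), inclusion_comp_mem F _ hΨ, fun x => ?_⟩
  have := hΨx (Subgroup.inclusion hUU₁ x)
  rw [hext] at this
  exact this

theorem extMod_all [Finite S] {p : ℕ} [Fact p.Prime] (hS : IsPGroup p S) (F : FusionSystem S)
    (hF : F.IsSaturated p) {T : Subgroup Ω} (hT : F.StronglyClosed T) :
    ∀ (P : Subgroup Ω) (φ : P →* Ω), φ ∈ F.Hom P → ExtMod F T P φ := by
  have hnormT := le_normalizer_of_stronglyClosed F hT
  have main : ∀ k : ℕ, ∀ (P : Subgroup Ω) (φ : P →* Ω), φ ∈ F.Hom P → Nat.card S - k ≤ Nat.card P →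
      ExtMod F T P φ := by
    intro k
    induction k using Nat.strong_induction_on with
    | _ k ih =>
      intro P φ hφ hcard
      refine (extModPred F hT (Nat.card S - k)).forall_of_aut hS hF ?_ P φ hφ hcard
      intro U hU α hα hdU
      have hUn : F.IsFullyNormalized U := by
        rcases hU with rfl | hU
        · exact top_fullyNormalized F
        · exact hU.2.1
      have hUS : U ≤ S := hUn.1
      have hfinU : Finite U := finite_of_le hUS
      by_cases hTU : T ≤ U
      · -- `U ⊔ T = U`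
        have hle : U ⊔ T ≤ U := sup_le le_rfl hTU
        refine ⟨(U.subtype.comp (α : U ≃* U).toMonoidHom).comp (Subgroup.inclusion hle),
          inclusion_comp_mem F hle ((mem_autGroup_iff F hUS α).mp hα), fun x => ?_⟩
        have e : Subgroup.inclusion hle (Subgroup.inclusion le_sup_left x) = x := Subtype.ext rfl
        show ((α x : U) : Ω)⁻¹ * ((α (Subgroup.inclusion hle (Subgroup.inclusion le_sup_left x)) : U) : Ω) ∈ T
        rw [e, inv_mul_cancel]
        exact T.one_mem
      · -- the main case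
        have hUT_S : U ⊔ T ≤ S := sup_le hUS hT.1
        have hfinUT : Finite ↥(U ⊔ T) := finite_of_le hUT_S
        have hne : U ≠ U ⊔ T := fun h => hTU (h ▸ le_sup_right)
        have hlt := card_lt_card_normalizerIn (hS.to_le hUT_S) (le_sup_left : U ≤ U ⊔ T) hne
        set U₁ := normalizerIn (U ⊔ T) U with hU₁
        have hUU₁ : U ≤ U₁ := le_inf le_sup_left Subgroup.le_normalizer
        have hU₁S : U₁ ≤ S := inf_le_left.trans hUT_S
        have hkpos : 0 < k := by
          rcases Nat.eq_zero_or_pos k with rfl | h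
          · exfalso
            have h1 : Nat.card U ≤ Nat.card S := Subgroup.card_le_of_le hUS
            have h2 : U = S := Subgroup.eq_of_le_of_card_ge hUS (by omega)
            exact hTU (h2 ▸ hT.1)
          · exact h
        have IH : ∀ ψ₁ : U₁ →* Ω, ψ₁ ∈ F.Hom U₁ → ExtMod F T U₁ ψ₁ := fun ψ₁ hψ₁ =>
          ih (k - 1) (by omega) U₁ ψ₁ hψ₁ (by omega)
        -- the chain `T ∩ U ≤ U`
        let Tch : ℕ → Subgroup U := fun i => if i = 0 then T.subgroupOf U else ⊤
        have hTch0 : Tch 0 = T.subgroupOf U := rfl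
        have hTchs : ∀ i, Tch (i + 1) = ⊤ := fun i => if_neg (Nat.succ_ne_zero i)
        have hmono : Monotone Tch := by
          apply monotone_nat_of_le_succ
          intro i
          rw [hTchs]
          exact le_top
        have hinv : ∀ γ ∈ F.autGroup U, ∀ i x, x ∈ Tch i ↔ γ x ∈ Tch i := by
          intro γ hγ i x
          rcases i with _ | i
          · exact mem_iff_aut_mem_of_stronglyClosed F hT hUS hγ x
          · rw [hTchs]
            exact ⟨fun _ => Subgroup.mem_top _, fun _ => Subgroup.mem_top _⟩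
        have hA₀n := chainStab_inf_normal Tch hmono (F.autGroup U) hinv
        set A₀ := (chainStab Tch hmono ⊓ F.autGroup U).subgroupOf (F.autGroup U) with hA₀
        have hA₀mem : ∀ a : F.autGroup U, a ∈ A₀ → ∀ x : U, ((x⁻¹ * (a : MulAut U) x : U) : Ω) ∈ T := by
          intro a ha x
          rw [hA₀, Subgroup.mem_subgroupOf] at ha
          have := ha.1.2 0 x (by rw [hTchs]; exact Subgroup.mem_top _)
          rw [hTch0, Subgroup.mem_subgroupOf] at this
          exact this
        -- the Sylow subgroup `Aut_S(U)`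
        obtain ⟨-, R₀, hR₀⟩ := (saturated_fn hS F hF hUn).2
        set TA := (autInducedBy S U).subgroupOf (F.autGroup U) with hTA
        have hSylD : ∃ R : Sylow p ↥A₀, (R : Subgroup ↥A₀) = (TA ⊓ A₀).subgroupOf A₀ := by
          rw [sylowIn_iff_card inf_le_right]
          refine ⟨(hR₀ ▸ R₀.isPGroup').to_le inf_le_left, fun B hBA₀ hB => ?_⟩
          obtain ⟨γ, hγ⟩ := exists_conj_le_sylow R₀ hB
          rw [← card_map_conj B γ]
          apply Subgroup.card_le_of_le
          apply le_inf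
          · rw [← hR₀]; exact hγ
          · rintro _ ⟨b, hb, rfl⟩
            exact hA₀n.conj_mem b (hBA₀ hb) γ
        obtain ⟨R, hR⟩ := hSylD
        have hfrat := Sylow.normalizer_sup_eq_top R
        have hRmap : (R : Subgroup ↥A₀).map A₀.subtype = TA ⊓ A₀ := by
          rw [hR]
          exact Subgroup.map_subgroupOf_eq_of_le inf_le_right
        rw [hRmap] at hfrat
        have hα_mem : (⟨α, hα⟩ : F.autGroup U) ∈
            ((Subgroup.normalizer ((TA ⊓ A₀ : Subgroup (F.autGroup U)) : Set (F.autGroup U)) ⊔ A₀ :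
              Subgroup (F.autGroup U)) : Set (F.autGroup U)) := by
          rw [hfrat]; trivial
        rw [Subgroup.mul_normal] at hα_mem
        obtain ⟨β, hβ, a₀, ha₀, hβa⟩ := hα_mem
        -- `ExtMod` for `a₀`
        have c_a₀ := extMod_of_trivial_mod F hT hUS (a₀ : MulAut U) (hA₀mem a₀ ha₀)
        -- `ExtMod` for `β`
        have hβF := (mem_autGroup_iff F hUS (β : MulAut U)).mp β.2
        have ha₀F := (mem_autGroup_iff F hUS (a₀ : MulAut U)).mp a₀.2
        have c_β : ExtMod F T U (U.subtype.comp ((β : MulAut U) : U ≃* U).toMonoidHom) := by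
          have hrec := saturated_fn_receptive hS F hF hUn
          have hrange : (U.subtype.comp ((β : MulAut U) : U ≃* U).toMonoidHom).range = U :=
            equivHom_range _
          obtain ⟨ψ, hψ, hψx⟩ := hrec.2 U _ hβF hrange
          have hU₁ext : U₁ ≤ extender S U (U.subtype.comp ((β : MulAut U) : U ≃* U).toMonoidHom) := by
            intro s hs
            have hsUT : s ∈ U ⊔ T := hs.1
            have hsN : s ∈ Subgroup.normalizer (U : Set Ω) := hs.2
            obtain ⟨u, t, hut⟩ := exists_mul_of_mem_sup' (hUS.trans hnormT) ⟨s, hsUT⟩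
            have hs_eq : s = (u : Ω) * (t : Ω) := congrArg Subtype.val hut
            have htN : (t : Ω) ∈ Subgroup.normalizer (U : Set Ω) := by
              have : (t : Ω) = (u : Ω)⁻¹ * s := by rw [hs_eq]; simp
              rw [this]
              exact Subgroup.mul_mem _ (Subgroup.inv_mem _ (Subgroup.le_normalizer u.2)) hsN
            have htS : (t : Ω) ∈ S := hT.1 t.2
            rw [hs_eq]
            apply Subgroup.mul_mem
            · exact le_extender hUS _ (fun x => hUS ((β : MulAut U) x).2) u.2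
            · -- `c_t ∈ TA ⊓ A₀`
              have hctS : U.normalizerMonoidHom ⟨t, htN⟩ ∈ autInducedBy S U :=
                normalizerMonoidHom_mem_autInducedBy htS htN
              have hctA : U.normalizerMonoidHom ⟨t, htN⟩ ∈ F.autGroup U :=
                autInducedBy_le_autGroup F hUS hctS
              have hctD : (⟨U.normalizerMonoidHom ⟨t, htN⟩, hctA⟩ : F.autGroup U) ∈ TA ⊓ A₀ := by
                refine ⟨hctS, ?_⟩
                change _ ∈ (chainStab Tch hmono ⊓ F.autGroup U).subgroupOf (F.autGroup U)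
                rw [Subgroup.mem_subgroupOf]
                refine ⟨⟨hinv _ hctA, fun i x _ => ?_⟩, hctA⟩
                rcases i with _ | i
                · rw [hTch0, Subgroup.mem_subgroupOf]
                  show (x : Ω)⁻¹ * ((t : Ω) * x * (t : Ω)⁻¹) ∈ T
                  have h1 : (x : Ω)⁻¹ * (t : Ω) * ((x : Ω)⁻¹)⁻¹ ∈ T :=
                    (Subgroup.mem_normalizer_iff.mp (hnormT (S.inv_mem (hUS x.2))) _).mp t.2
                  have h2 : (x : Ω)⁻¹ * ((t : Ω) * x * (t : Ω)⁻¹) =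
                      ((x : Ω)⁻¹ * (t : Ω) * ((x : Ω)⁻¹)⁻¹) * (t : Ω)⁻¹ := by
                    simp [mul_assoc]
                  rw [h2]
                  exact T.mul_mem h1 (T.inv_mem t.2)
                · rw [hTchs]; exact Subgroup.mem_top _
              -- conjugate by `β`
              have hconj : β * ⟨U.normalizerMonoidHom ⟨t, htN⟩, hctA⟩ * β⁻¹ ∈ TA ⊓ A₀ :=
                (Subgroup.mem_normalizer_iff.mp hβ _).mp hctD
              obtain ⟨h, hhS, hhN, hh⟩ := (mem_autInducedBy_iff' _ _ _).mp hconj.1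
              rw [mem_extender_iff]
              refine ⟨htS, htN, h, hhS, fun x hx => ?_⟩
              have h1 : ((((β * ⟨U.normalizerMonoidHom ⟨t, htN⟩, hctA⟩ * β⁻¹ : F.autGroup U) : MulAut U)
                  ((β : MulAut U) x) : U) : Ω) =
                  ((U.normalizerMonoidHom ⟨h, hhN⟩ ((β : MulAut U) x) : U) : Ω) := by
                have hh' : ((β * ⟨U.normalizerMonoidHom ⟨t, htN⟩, hctA⟩ * β⁻¹ : F.autGroup U) : MulAut U) =
                    U.normalizerMonoidHom ⟨h, hhN⟩ := hh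
                rw [hh']
              have h2 : ((((β * ⟨U.normalizerMonoidHom ⟨t, htN⟩, hctA⟩ * β⁻¹ : F.autGroup U) : MulAut U)
                  ((β : MulAut U) x) : U) : Ω) =
                  (((β : MulAut U) (U.normalizerMonoidHom ⟨t, htN⟩ x) : U) : Ω) := by
                show ((((β : MulAut U) * U.normalizerMonoidHom ⟨t, htN⟩ * (β : MulAut U)⁻¹)
                  ((β : MulAut U) x) : U) : Ω) = _
                simp [MulAut.mul_apply]
              rw [h2] at h1
              show (((β : MulAut U) ⟨(t : Ω) * x * (t : Ω)⁻¹, hx⟩ : U) : Ω) = h * (((β : MulAut U) x : U) : Ω) * h⁻¹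
              have h3 : (⟨(t : Ω) * x * (t : Ω)⁻¹, hx⟩ : U) = U.normalizerMonoidHom ⟨t, htN⟩ x := Subtype.ext rfl
              rw [h3, h1]
              rfl
          have hψ₁ := inclusion_comp_mem F hU₁ext hψ
          apply extMod_of_extends F hUU₁ (ψ₁ := ψ.comp (Subgroup.inclusion hU₁ext)) ?_ (IH _ hψ₁)
          intro x
          exact hψx x x.2 (hU₁ext (hUU₁ x.2))
        -- combine
        have hmapsU : ∀ x : U, (U.subtype.comp ((a₀ : MulAut U) : U ≃* U).toMonoidHom) x ∈ U := fun x =>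
          ((a₀ : MulAut U) x).2
        have hcomp := extMod_comp F hT ha₀F hβF hmapsU c_a₀ c_β
        have e : U.subtype.comp ((α : MulAut U) : U ≃* U).toMonoidHom =
            (U.subtype.comp ((β : MulAut U) : U ≃* U).toMonoidHom).comp
              ((U.subtype.comp ((a₀ : MulAut U) : U ≃* U).toMonoidHom).codRestrict U hmapsU) := by
          ext x
          have h1 : α = (β : MulAut U) * (a₀ : MulAut U) := by
            have := congrArg Subtype.val hβa
            exact this.symm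
          rw [h1]
          rfl
        rw [e]
        exact hcomp
  intro P φ hφ
  exact main (Nat.card S) P φ hφ (by omega)

end Cfsg.Agent.Lib.Helper26
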