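import Cfsg.Agent.Lib.Helper26.CenSP
import Cfsg.Agent.Lib.Helper27.FSTwistT
import Cfsg.Agent.Lib.Helper27.FSPPowerExt
import Cfsg.Agent.Lib.Helper26.PPI11

/-!
Towards S5155 (the centralizer subsystem `C_F(E)` of a normal subsystem), part A: `C_S(E)` is strongly closed, and the
automorphism groups of the centralizer system `C_F(T)` on subgroups of a receptive subgroup `Y ≤ C_S(T)` are permuted by
`Aut_F(Y)`.
-/

set_option autoImplicit false

namespace Cfsg.Agent.Lib.Helper26.CenF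

open Cfsg Cfsg.FusionSystem Cfsg.Agent.Lib.Helper26 Cfsg.Agent.Lib.Helper27 Cfsg.Agent.Lib.Helper26.OlvN
  Cfsg.Agent.Lib.Helper26.Crav Cfsg.Agent.Lib.Helper26.CenE Cfsg.Agent.Lib.Helper26.CenS

variable {Ω : Type*} [Group Ω] {S T : Subgroup Ω}

/-- `T ≤ C_S(Y)` when `Y ≤ C_S(T)`. -/
theorem le_centralizerIn_of_le_centralizerIn {Y : Subgroup Ω} (hTS : T ≤ S) (hYA : Y ≤ centralizerIn S T) :
    T ≤ centralizerIn S Y := by
  intro t ht
  rw [mem_centralizerIn_iff]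
  refine ⟨hTS ht, fun y hy => ?_⟩
  exact (mem_centralizerIn_comm (hYA hy) ht).symm

/-- A subgroup of `C_S(T)` normalizes `T`. -/
theorem le_normalizer_of_le_centralizerIn {P : Subgroup Ω} (hPA : P ≤ centralizerIn S T) :
    P ≤ Subgroup.normalizer (T : Set Ω) := by
  intro x hx
  rw [Subgroup.mem_normalizer_iff]
  intro t
  have hc : ∀ t' : Ω, t' ∈ T → x * t' * x⁻¹ = t' := by
    intro t' ht'
    have := mem_centralizerIn_comm (hPA hx) ht'
    rw [← this, mul_inv_cancel_right]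
  constructor
  · intro ht
    rw [hc t ht]
    exact ht
  · intro ht
    have hc' : x⁻¹ * (x * t * x⁻¹) * x = x * t * x⁻¹ := by
      have := mem_centralizerIn_comm (hPA hx) ht
      rw [mul_assoc, this, inv_mul_cancel_left]
    have e : x⁻¹ * (x * t * x⁻¹) * x = t := by group
    rw [e] at hc'
    rw [hc']
    exact ht

/-- A map of `C_F(T)` given by an automorphism of `P ≤ C_S(T)`, extended to an automorphism of `P T` in `F` fixing `T`. -/
theorem exists_aut_sup_of_cen [Finite S] (F : FusionSystem S) (hTS : T ≤ S) {P : Subgroup Ω}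
    (hPA : P ≤ centralizerIn S T) {ξ : MulAut P}
    (hξ : ξ ∈ (centralizerSystem F T hTS).autGroup P) :
    ∃ Ξ ∈ F.autGroup (P ⊔ T),
      (∀ x : P, Ξ (Subgroup.inclusion le_sup_left x) = Subgroup.inclusion le_sup_left (ξ x)) ∧
      ∀ t : T, Ξ (Subgroup.inclusion le_sup_right t) = Subgroup.inclusion le_sup_right t := by
  have h1 := (mem_autGroup_iff (centralizerSystem F T hTS) hPA ξ).mp hξ
  obtain ⟨-, -, -, ψ, hψ, hψP, hψT⟩ := h1
  have hψW : ∀ w, ψ w ∈ P ⊔ T := by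
    intro w
    obtain ⟨x, t, rfl⟩ := exists_mul_of_mem_sup' (le_normalizer_of_le_centralizerIn hPA) w
    rw [map_mul, hψP, hψT]
    exact Subgroup.mul_mem _ (Subgroup.mem_sup_left (ξ x).2) (Subgroup.mem_sup_right t.2)
  obtain ⟨Ξ, hΞ, hΞx⟩ := Cfsg.Agent.Lib.Helper26.exists_aut_of_hom F hψ hψW
  refine ⟨Ξ, hΞ, fun x => ?_, fun t => ?_⟩
  · apply Subtype.ext
    rw [hΞx, hψP]
    rfl
  · apply Subtype.ext
    rw [hΞx, hψT]
    rfl

/-- Conversely, an automorphism of `P ≤ C_S(T)` with an extension to `P T` in `F` fixing `T` is in `Aut_{C_F(T)}(P)`. -/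
theorem mem_cen_autGroup_of_ext (F : FusionSystem S) (hTS : T ≤ S) {P : Subgroup Ω}
    (hPA : P ≤ centralizerIn S T) {ξ : MulAut P} (Ξ : MulAut ↥(P ⊔ T)) (hΞ : Ξ ∈ F.autGroup (P ⊔ T))
    (hΞP : ∀ x : P, Ξ (Subgroup.inclusion le_sup_left x) = Subgroup.inclusion le_sup_left (ξ x))
    (hΞT : ∀ t : T, Ξ (Subgroup.inclusion le_sup_right t) = Subgroup.inclusion le_sup_right t) :
    ξ ∈ (centralizerSystem F T hTS).autGroup P := by
  have hPS : P ≤ S := hPA.trans (centralizerIn_le S T)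
  have hWS : P ⊔ T ≤ S := sup_le hPS hTS
  rw [mem_autGroup_iff (centralizerSystem F T hTS) hPA ξ]
  have hΞF : equivHom (Ξ : _ ≃* _) ∈ F.Hom (P ⊔ T) := (mem_autGroup_iff F hWS Ξ).mp hΞ
  have e : P.subtype.comp ξ.toMonoidHom = (equivHom (Ξ : _ ≃* _)).comp (Subgroup.inclusion le_sup_left) := by
    ext x
    show ((ξ x : P) : Ω) = ((Ξ (Subgroup.inclusion le_sup_left x) : ↥(P ⊔ T)) : Ω)
    rw [hΞP]
    rfl
  refine ⟨?_, hPA, fun x => hPA (ξ x).2, equivHom (Ξ : _ ≃* _), hΞF, fun x => ?_, fun t => ?_⟩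
  · rw [e]
    exact inclusion_comp_mem F le_sup_left hΞF
  · show ((Ξ (Subgroup.inclusion le_sup_left x) : ↥(P ⊔ T)) : Ω) = ((ξ x : P) : Ω)
    rw [hΞP]
    rfl
  · show ((Ξ (Subgroup.inclusion le_sup_right t) : ↥(P ⊔ T)) : Ω) = (t : Ω)
    rw [hΞT]
    rfl

/-- **Invariance of `C_F(T)` on `Y`.** For a receptive `Y ≤ C_S(T)` (`T` strongly closed), `β ∈ Aut_F(Y)` and `P ≤ Y`, the
`β`-conjugate of an element of `Aut_{C_F(T)}(P)` lies in `Aut_{C_F(T)}(β P)`. -/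
theorem congr_mem_cen_autGroup [Finite S] (F : FusionSystem S) {Y : Subgroup Ω} (hT : F.StronglyClosed T)
    (hYrec : F.IsReceptive Y) (hYA : Y ≤ centralizerIn S T) {β : MulAut Y} (hβ : β ∈ F.autGroup Y)
    {P : Subgroup Ω} (hP : P ≤ Y) {ξ : MulAut P} (hξ : ξ ∈ (centralizerSystem F T hT.1).autGroup P) :
    MulAut.congr (resIsoT F hYrec.1 hβ hP) ξ ∈ (centralizerSystem F T hT.1).autGroup (imgAut β P) := by
  have hTS : T ≤ S := hT.1
  have hYS : Y ≤ S := hYrec.1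
  have hPA : P ≤ centralizerIn S T := hP.trans hYA
  have hQY : imgAut β P ≤ Y := imgAut_le β P
  have hQA : imgAut β P ≤ centralizerIn S T := hQY.trans hYA
  have hUS : Y ⊔ centralizerIn S Y ≤ S := sup_cen_le hYS
  obtain ⟨Ξ, hΞ, hΞP, hΞT⟩ := exists_aut_sup_of_cen F hTS hPA hξ
  obtain ⟨β', hβ', hβ'x⟩ := exists_extension_centralizer F hYrec β hβ
  have hβ'F : equivHom (β' : _ ≃* _) ∈ F.Hom (Y ⊔ centralizerIn S Y) := (mem_autGroup_iff F hUS β').mp hβ'
  have hβ'iso : IsFIso F (β' : ↥(Y ⊔ centralizerIn S Y) ≃* ↥(Y ⊔ centralizerIn S Y)) := hβ'F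
  have hTC : T ≤ centralizerIn S Y := le_centralizerIn_of_le_centralizerIn hTS hYA
  have hTU : T ≤ Y ⊔ centralizerIn S Y := hTC.trans le_sup_right
  have hle : P ⊔ T ≤ Y ⊔ centralizerIn S Y := sup_le (hP.trans le_sup_left) hTU
  have hle' : imgAut β P ⊔ T ≤ Y ⊔ centralizerIn S Y := sup_le (hQY.trans le_sup_left) hTU
  have hβ'T : ∀ z : ↥(Y ⊔ centralizerIn S Y), (z : Ω) ∈ T ↔ ((β' z : ↥(Y ⊔ centralizerIn S Y)) : Ω) ∈ T :=
    fun z => apply_mem_iff_of_stronglyClosed F hT hβ'F z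
  have hβ'P : ∀ z : ↥(Y ⊔ centralizerIn S Y), (z : Ω) ∈ P ↔
      ((β' z : ↥(Y ⊔ centralizerIn S Y)) : Ω) ∈ imgAut β P := by
    intro z
    constructor
    · intro hz
      have e : z = Subgroup.inclusion le_sup_left (⟨z, hP hz⟩ : Y) := Subtype.ext rfl
      rw [e, hβ'x]
      exact apply_mem_imgAut β _ hz
    · intro hz
      obtain ⟨x, hx, hxz⟩ := mem_imgAut.mp hz
      have e : β' z = β' (Subgroup.inclusion le_sup_left x) := by
        rw [hβ'x]
        exact Subtype.ext hxz.symm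
      have := β'.injective e
      rw [this]
      exact hx
  have hiff : ∀ z : ↥(Y ⊔ centralizerIn S Y), (z : Ω) ∈ P ⊔ T ↔
      ((β' z : ↥(Y ⊔ centralizerIn S Y)) : Ω) ∈ imgAut β P ⊔ T := by
    intro z
    constructor
    · intro hz
      obtain ⟨x, t, h⟩ := exists_mul_of_mem_sup' (le_normalizer_of_le_centralizerIn hPA) ⟨(z : Ω), hz⟩
      have hzu : (z : Ω) = (x : Ω) * (t : Ω) := congrArg Subtype.val h
      have e : z = (⟨x, hle (Subgroup.mem_sup_left x.2)⟩ : ↥(Y ⊔ centralizerIn S Y)) * ⟨t, hTU t.2⟩ :=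
        Subtype.ext hzu
      rw [e, map_mul]
      exact Subgroup.mul_mem _ (Subgroup.mem_sup_left ((hβ'P _).mp x.2))
        (Subgroup.mem_sup_right ((hβ'T _).mp t.2))
    · intro hz
      obtain ⟨u, t, h⟩ := exists_mul_of_mem_sup' (le_normalizer_of_le_centralizerIn hQA) ⟨_, hz⟩
      have hzu : ((β' z : ↥(Y ⊔ centralizerIn S Y)) : Ω) = (u : Ω) * (t : Ω) := congrArg Subtype.val h
      have e : β' z = (⟨u, hle' (Subgroup.mem_sup_left u.2)⟩ : ↥(Y ⊔ centralizerIn S Y)) * ⟨t, hTU t.2⟩ :=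
        Subtype.ext hzu
      have e2 : z = β'⁻¹ (⟨u, hle' (Subgroup.mem_sup_left u.2)⟩ : ↥(Y ⊔ centralizerIn S Y)) *
          β'⁻¹ ⟨t, hTU t.2⟩ := by
        rw [← map_mul, ← e, MulAut.inv_apply_self]
      rw [e2]
      apply Subgroup.mul_mem
      · apply Subgroup.mem_sup_left
        rw [hβ'P, MulAut.apply_inv_self]
        exact u.2
      · apply Subgroup.mem_sup_right
        rw [hβ'T, MulAut.apply_inv_self]
        exact t.2
  obtain ⟨e, hedef⟩ : ∃ e : ↥(P ⊔ T) ≃* ↥(imgAut β P ⊔ T),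
      e = isoRestrict (β' : ↥(Y ⊔ centralizerIn S Y) ≃* ↥(Y ⊔ centralizerIn S Y)) _ _ hle hle' hiff := ⟨_, rfl⟩
  have he : IsFIso F e := hedef ▸ isoRestrict_isFIso F hβ'iso _ _ hle hle' hiff
  have hex : ∀ z : ↥(P ⊔ T), ((e z : ↥(imgAut β P ⊔ T)) : Ω) =
      ((β' ⟨z, hle z.2⟩ : ↥(Y ⊔ centralizerIn S Y)) : Ω) := fun z => by rw [hedef]; rfl
  have heP : ∀ x : P, e (Subgroup.inclusion le_sup_left x) =
      Subgroup.inclusion le_sup_left (resIsoT F hYS hβ hP x) := by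
    intro x
    apply Subtype.ext
    rw [hex]
    have e1 : (⟨((Subgroup.inclusion (le_sup_left : P ≤ P ⊔ T) x : ↥(P ⊔ T)) : Ω), hle (Subgroup.inclusion le_sup_left x).2⟩ :
        ↥(Y ⊔ centralizerIn S Y)) = Subgroup.inclusion le_sup_left (⟨x, hP x.2⟩ : Y) := Subtype.ext rfl
    rw [e1, hβ'x]
    rfl
  have heT : ∀ t : T, ∃ t' : T, e (Subgroup.inclusion le_sup_right t) = Subgroup.inclusion le_sup_right t' := by
    intro t
    have h1 : ((e (Subgroup.inclusion le_sup_right t) : ↥(imgAut β P ⊔ T)) : Ω) ∈ T := by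
      rw [hex]
      exact (hβ'T _).mp t.2
    exact ⟨⟨_, h1⟩, Subtype.ext rfl⟩
  have heT' : ∀ t : T, ∃ t' : T, e.symm (Subgroup.inclusion le_sup_right t) = Subgroup.inclusion le_sup_right t' := by
    intro t
    have h1 : ((e.symm (Subgroup.inclusion le_sup_right t) : ↥(P ⊔ T)) : Ω) ∈ T := by
      have h2 := hex (e.symm (Subgroup.inclusion le_sup_right t))
      rw [MulEquiv.apply_symm_apply] at h2
      apply (hβ'T ⟨_, hle (e.symm (Subgroup.inclusion le_sup_right t)).2⟩).mpr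
      rw [← h2]
      exact t.2
    exact ⟨⟨_, h1⟩, Subtype.ext rfl⟩
  apply mem_cen_autGroup_of_ext F hTS hQA (MulAut.congr e Ξ) (congr_mem_autGroup F he hΞ)
  · intro y
    show e (Ξ (e.symm (Subgroup.inclusion le_sup_left y))) = _
    obtain ⟨x, hx⟩ : ∃ x : P, resIsoT F hYS hβ hP x = y := ⟨(resIsoT F hYS hβ hP).symm y, MulEquiv.apply_symm_apply _ _⟩
    have e1 : e.symm (Subgroup.inclusion le_sup_left y) = Subgroup.inclusion le_sup_left x := by
      rw [MulEquiv.symm_apply_eq, heP, hx]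
    rw [e1, hΞP, heP]
    congr 1
    show _ = (resIsoT F hYS hβ hP) (ξ ((resIsoT F hYS hβ hP).symm y))
    rw [← hx, MulEquiv.symm_apply_apply]
  · intro t
    show e (Ξ (e.symm (Subgroup.inclusion le_sup_right t))) = _
    obtain ⟨t', ht'⟩ := heT' t
    rw [ht', hΞT, ← ht', MulEquiv.apply_symm_apply]

end Cfsg.Agent.Lib.Helper26.CenF
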