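import Cfsg.Agent.Lib.Helper26.CenFA

/-!
Towards S5155, part B: a saturated subsystem of `p`-power index in `C_F(T)` over a receptive `Y ≤ C_S(T)` is invariant
under `Aut_F(Y)`.
-/

set_option autoImplicit false

namespace Cfsg.Agent.Lib.Helper26.CenF

open Cfsg Cfsg.FusionSystem Cfsg.Agent.Lib.Helper26 Cfsg.Agent.Lib.Helper27 Cfsg.Agent.Lib.Helper26.OlvN
  Cfsg.Agent.Lib.Helper26.Crav Cfsg.Agent.Lib.Helper26.CenE Cfsg.Agent.Lib.Helper26.CenS

variable {Ω : Type*} [Group Ω] {S T : Subgroup Ω}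

/-- The twist system by `Aut_F(Y)` contains the `p'`-generated part of `Aut_{C_F(T)}(P)` for `P ≤ Y` if `D` does. -/
theorem pResidual_le_twistSystemA_cen [Finite S] (F : FusionSystem S) {Y : Subgroup Ω} (hT : F.StronglyClosed T)
    (hYrec : F.IsReceptive Y) (hYA : Y ≤ centralizerIn S T) (D : FusionSystem Y) (p : ℕ)
    (h : ∀ P : Subgroup Ω, P ≤ Y →
      (pResidual p ((centralizerSystem F T hT.1).autGroup P)).map
        ((centralizerSystem F T hT.1).autGroup P).subtype ≤ D.autGroup P) {P : Subgroup Ω} (hP : P ≤ Y) :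
    (pResidual p ((centralizerSystem F T hT.1).autGroup P)).map
        ((centralizerSystem F T hT.1).autGroup P).subtype ≤
      (twistSystemA D (F.autGroup Y : Set (MulAut Y))).autGroup P := by
  have hYS : Y ≤ S := hYrec.1
  unfold Cfsg.pResidual
  rw [MonoidHom.map_closure, Subgroup.closure_le]
  rintro _ ⟨ξ, hξ, rfl⟩
  have hξ' : Nat.Coprime (orderOf ξ) p := hξ
  apply Subgroup.subset_closure
  show P.subtype.comp (ξ : MulAut P).toMonoidHom ∈ (twistSystemA D (F.autGroup Y : Set (MulAut Y))).Hom P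
  have hξE : (ξ : MulAut P) ∈ D.autGroup P :=
    h P hP ⟨ξ, Subgroup.subset_closure hξ, rfl⟩
  refine ⟨(mem_autGroup_iff D hP _).mp hξE, ?_⟩
  rintro β hβ Q rfl
  have hξ'F : MulAut.congr (resIsoT F hYS hβ hP) (ξ : MulAut P) ∈
      (centralizerSystem F T hT.1).autGroup (imgAut β P) :=
    congr_mem_cen_autGroup F hT hYrec hYA hβ hP ξ.2
  have hord : Nat.Coprime (orderOf (⟨MulAut.congr (resIsoT F hYS hβ hP) (ξ : MulAut P), hξ'F⟩ :
      (centralizerSystem F T hT.1).autGroup (imgAut β P))) p := by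
    rw [Subgroup.orderOf_mk, MulEquiv.orderOf_eq, Subgroup.orderOf_coe]
    exact hξ'
  have hmem : MulAut.congr (resIsoT F hYS hβ hP) (ξ : MulAut P) ∈ D.autGroup (imgAut β P) :=
    h _ (imgAut_le β P) ⟨⟨_, hξ'F⟩, Subgroup.subset_closure hord, rfl⟩
  refine ⟨_, (mem_autGroup_iff D (imgAut_le β P) _).mp hmem, ?_⟩
  intro y hy h' z hz
  have e1 := resIsoT_symm_apply F hYS hβ hP y hy h'
  show (((resIsoT F hYS hβ hP) ((ξ : MulAut P) ((resIsoT F hYS hβ hP).symm ⟨β y, h'⟩)) : imgAut β P) : Ω) = _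
  rw [e1, resIsoT_apply]
  congr 2
  exact Subtype.ext hz.symm

/-- A saturated subsystem of `C_F(T)` over a receptive `Y ≤ C_S(T)` whose automorphism groups contain the
`O^p(Aut_{C_F(T)}(P))` is invariant under `Aut_F(Y)`. -/
theorem autInv_of_ppower_index_cen [Finite S] {p : ℕ} [Fact p.Prime] (hS : IsPGroup p S) (F : FusionSystem S)
    {Y : Subgroup Ω} (hT : F.StronglyClosed T) (hYrec : F.IsReceptive Y) (hYA : Y ≤ centralizerIn S T)
    (D : FusionSystem Y) (hD : D.IsSaturated p) (hDC : D.IsSubsystemOf (centralizerSystem F T hT.1))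
    (h : ∀ P : Subgroup Ω, P ≤ Y →
      (pResidual p ((centralizerSystem F T hT.1).autGroup P)).map
        ((centralizerSystem F T hT.1).autGroup P).subtype ≤ D.autGroup P) : AutInv D F := by
  have hAS : centralizerIn S T ≤ S := centralizerIn_le S T
  have hfinA : Finite ↥(centralizerIn S T) := finite_of_le hAS
  have hpA : IsPGroup p ↥(centralizerIn S T) := hS.to_le hAS
  intro P hPT φ hφ α hα
  have h1 := hom_subset_of_ppower_index hpA (centralizerSystem F T hT.1) D
    (twistSystemA D (F.autGroup Y : Set (MulAut Y))) hD hDC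
    (fun P hP => pResidual_le_twistSystemA_cen F hT hYrec hYA D p h hP) P hφ
  obtain ⟨χ, hχ, hχ'⟩ := h1.2 α hα _ rfl
  exact ⟨χ, hχ, fun x hφx hαx => hχ' ⟨x, hPT x.2⟩ x.2 hαx ⟨φ x, hφx⟩ rfl⟩

end Cfsg.Agent.Lib.Helper26.CenF
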