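import Cfsg.Agent.Lib.Helper26.CenFB

/-!
Towards S5155, part C: maps of `F` on `P T` (`P ≤ Y ≤ C_S(T)`, with `Y` and `T` strongly closed) decompose as an element of
`Aut_F(Y)` after a map of `C_F(T)`.
-/

set_option autoImplicit false

namespace Cfsg.Agent.Lib.Helper26.CenF

open Cfsg Cfsg.FusionSystem Cfsg.Agent.Lib.Helper26 Cfsg.Agent.Lib.Helper27 Cfsg.Agent.Lib.Helper26.OlvN
  Cfsg.Agent.Lib.Helper26.Crav Cfsg.Agent.Lib.Helper26.CenE Cfsg.Agent.Lib.Helper26.CenS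

variable {Ω : Type*} [Group Ω] {S T : Subgroup Ω} [Finite S] {p : ℕ} [Fact p.Prime]

/-- A map of `F` defined on `P T` with `P ≤ Y` is an element of `Aut_F(Y)` after a map of `C_F(T)`. -/
theorem exists_decomp_of_sup (hS : IsPGroup p S) (F : FusionSystem S) (hF : F.IsSaturated p)
    (hT : F.StronglyClosed T) {Y : Subgroup Ω} (hY : F.StronglyClosed Y) (hYA : Y ≤ centralizerIn S T)
    {P : Subgroup Ω} (hP : P ≤ Y) {φW : ↥(P ⊔ T) →* Ω} (hφW : φW ∈ F.Hom (P ⊔ T)) :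
    ∃ μ ∈ F.autGroup Y, ∃ δ ∈ F.centralizerHom T P, ∀ (x : P) (h : δ x ∈ Y),
      φW (Subgroup.inclusion le_sup_left x) = ((μ ⟨δ x, h⟩ : Y) : Ω) := by
  have hTS : T ≤ S := hT.1
  have hfinT : Finite T := finite_of_le hTS
  have hPA : P ≤ centralizerIn S T := hP.trans hYA
  have hUS : T ⊔ centralizerIn S T ≤ S := sup_cen_le hTS
  -- the automorphism `γ` of `T` induced by `φW`
  have hφT : φW.comp (Subgroup.inclusion le_sup_right) ∈ F.Hom T := inclusion_comp_mem F le_sup_right hφW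
  have hφTT : ∀ t : T, (φW.comp (Subgroup.inclusion le_sup_right)) t ∈ T := fun t => hT.2 T le_rfl _ hφT t
  obtain ⟨γ, hγ, hγx⟩ := exists_aut_of_hom_self F hφT hφTT
  obtain ⟨β, hβ, hβT, hβC⟩ := exists_extension_sup hS F hF hT γ hγ
  have hβR : CenS.Restricts le_sup_left β γ := hβT
  -- `φW` maps `C_{PT}(T)` into `C_S(T)`
  have hφA : ∀ c : ↥(P ⊔ T), (c : Ω) ∈ centralizerIn S T → φW c ∈ centralizerIn S T := by
    intro c hc
    rw [mem_centralizerIn_iff]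
    refine ⟨hom_apply_mem F hφW c, fun t' ht' => ?_⟩
    obtain ⟨t₀, ht₀⟩ : ∃ t₀ : T, γ t₀ = ⟨t', ht'⟩ := ⟨γ⁻¹ ⟨t', ht'⟩, MulAut.apply_inv_self _ _ _⟩
    have h1 : t' = φW (Subgroup.inclusion le_sup_right t₀) := by
      have := hγx t₀
      rw [ht₀] at this
      exact this
    have h2 : Subgroup.inclusion le_sup_right t₀ * c = c * Subgroup.inclusion le_sup_right t₀ :=
      Subtype.ext (mem_centralizerIn_comm hc t₀.2)
    rw [h1, ← map_mul, ← map_mul, h2]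
  have hφWY : ∀ w : ↥(P ⊔ T), φW w ∈ T ⊔ centralizerIn S T := by
    intro w
    obtain ⟨c, t, rfl⟩ := exists_mul_of_mem_sup' (le_normalizer_of_le_centralizerIn hPA) w
    rw [map_mul]
    apply Subgroup.mul_mem
    · exact Subgroup.mem_sup_right (hφA _ (hPA c.2))
    · exact Subgroup.mem_sup_left (hφTT t)
  -- `δ = β⁻¹ ∘ φW`
  have hβ' : equivHom ((β⁻¹ : MulAut ↥(T ⊔ centralizerIn S T)) : _ ≃* _) ∈ F.Hom (T ⊔ centralizerIn S T) :=
    (mem_autGroup_iff F hUS _).mp (Subgroup.inv_mem _ hβ)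
  have hδ := F.comp_mem hφW hβ' hφWY
  obtain ⟨δ, hδdef⟩ : ∃ δ : ↥(P ⊔ T) →* Ω,
      δ = (equivHom ((β⁻¹ : MulAut ↥(T ⊔ centralizerIn S T)) : _ ≃* _)).comp
        (φW.codRestrict (T ⊔ centralizerIn S T) hφWY) := ⟨_, rfl⟩
  rw [← hδdef] at hδ
  have hδx : ∀ w, δ w = ((β⁻¹ ⟨φW w, hφWY w⟩ : ↥(T ⊔ centralizerIn S T)) : Ω) := fun w => by rw [hδdef]; rfl
  have hδT : ∀ t : T, δ (Subgroup.inclusion le_sup_right t) = t := by
    intro t
    rw [hδx]
    have e : (⟨φW (Subgroup.inclusion le_sup_right t), hφWY _⟩ : ↥(T ⊔ centralizerIn S T)) =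
        Subgroup.inclusion le_sup_left (γ t) := by
      apply Subtype.ext
      show φW (Subgroup.inclusion le_sup_right t) = ((γ t : T) : Ω)
      rw [hγx]
      rfl
    rw [e, hβR.inv, MulAut.inv_apply_self]
    rfl
  have hδA : ∀ c : P, δ (Subgroup.inclusion le_sup_left c) ∈ centralizerIn S T := by
    intro c
    rw [hδx]
    apply aut_apply_mem_cen F hT β⁻¹ (Subgroup.inv_mem _ hβ)
    show φW (Subgroup.inclusion le_sup_left c) ∈ centralizerIn S T
    exact hφA _ (hPA c.2)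
  have hδX : δ.comp (Subgroup.inclusion le_sup_left) ∈ F.centralizerHom T P :=
    ⟨inclusion_comp_mem F le_sup_left hδ, hPA, hδA, δ, hδ, fun _ => rfl, hδT⟩
  -- the restriction of `β` to `Y`
  have hYU : Y ≤ T ⊔ centralizerIn S T := hYA.trans le_sup_right
  have hβF : equivHom (β : _ ≃* _) ∈ F.Hom (T ⊔ centralizerIn S T) := (mem_autGroup_iff F hUS β).mp hβ
  obtain ⟨μ, hμ, hμR⟩ := CenS.exists_restrict_aut F hYU hUS β hβ
    (fun y hy => apply_mem_of_stronglyClosed F hY hβF y hy)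
  refine ⟨μ, hμ, _, hδX, fun x h => ?_⟩
  have h1 := hμR ⟨_, h⟩
  have h2 : Subgroup.inclusion hYU ⟨(δ.comp (Subgroup.inclusion le_sup_left)) x, h⟩ =
      β⁻¹ ⟨φW (Subgroup.inclusion le_sup_left x), hφWY _⟩ := by
    apply Subtype.ext
    show δ (Subgroup.inclusion le_sup_left x) = _
    rw [hδx]
  rw [h2, MulAut.apply_inv_self] at h1
  have h3 := congrArg Subtype.val h1
  exact h3

end Cfsg.Agent.Lib.Helper26.CenF
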