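import Cfsg.Agent.Lib.Helper26.CenFC

/-!
Towards S5155, part D: the Frattini condition for a subsystem `D` over `Y` in `F`, given the Frattini condition in the
centralizer system `C_F(T)`.
-/

set_option autoImplicit false

namespace Cfsg.Agent.Lib.Helper26.CenF

open Cfsg Cfsg.FusionSystem Cfsg.Agent.Lib.Helper26 Cfsg.Agent.Lib.Helper27 Cfsg.Agent.Lib.Helper26.OlvN
  Cfsg.Agent.Lib.Helper26.Crav Cfsg.Agent.Lib.Helper26.CenE Cfsg.Agent.Lib.Helper26.CenS

variable {Ω : Type*} [Group Ω] {S T : Subgroup Ω}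

/-- A decomposable map followed by an element of `Aut_F(Y)` is decomposable. -/
theorem dec_aut_comp {Y : Subgroup Ω} {D : FusionSystem Y} {F : FusionSystem S} {P : Subgroup Ω} {ψ φ : P →* Ω}
    (h : Dec D F P ψ) {α : MulAut Y} (hα : α ∈ F.autGroup Y)
    (hφ : ∀ (x : P) (hx : ψ x ∈ Y), φ x = ((α ⟨ψ x, hx⟩ : Y) : Ω)) : Dec D F P φ := by
  obtain ⟨α', hα', φ₀, hφ₀, hψ⟩ := h
  refine ⟨α * α', Subgroup.mul_mem _ hα hα', φ₀, hφ₀, fun x hx => ?_⟩
  have h1 := hψ x hx
  have h2 : ψ x ∈ Y := by rw [h1]; exact (α' _).2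
  rw [hφ x h2, MulAut.mul_apply]
  congr 2
  exact Subtype.ext h1

variable [Finite S] {p : ℕ} [Fact p.Prime]

/-- An isomorphism of `F` from a subgroup of `Y` onto a receptive subgroup is decomposable. -/
theorem decI_of_receptive (hS : IsPGroup p S) (F : FusionSystem S) (hF : F.IsSaturated p)
    (hT : F.StronglyClosed T) {Y : Subgroup Ω} (hY : F.StronglyClosed Y) (hYA : Y ≤ centralizerIn S T)
    (D : FusionSystem Y) (hA : ∀ P : Subgroup Ω, P ≤ Y → ∀ ψ ∈ F.centralizerHom T P, Dec D F P ψ)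
    {R Q' : Subgroup Ω} (hR : R ≤ Y) (hrec : F.IsReceptive Q') (f : R ≃* Q') (hf : IsFIso F f) :
    DecI D F f := by
  have hTS : T ≤ S := hT.1
  have hRS : R ≤ S := hR.trans hY.1
  obtain ⟨ψ, hψ, hψx⟩ := hrec.2 R (equivHom f) hf (equivHom_range f)
  have hTC : T ≤ centralizerIn S R :=
    (le_centralizerIn_of_le_centralizerIn hTS hYA).trans (centralizerIn_anti hR)
  have hle : R ⊔ T ≤ extender S R (equivHom f) :=
    sup_le (le_extender hRS _ (fun x => hom_apply_mem F hf x)) (hTC.trans (centralizerIn_le_extender R _))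
  obtain ⟨μ, hμ, δ, hδ, hδx⟩ := exists_decomp_of_sup hS F hF hT hY hYA hR (inclusion_comp_mem F hle hψ)
  apply dec_aut_comp (hA R hR δ hδ) hμ
  intro x hx
  rw [← hδx x hx]
  exact (hψx x x.2 (hle (Subgroup.mem_sup_left x.2))).symm

/-- **Frattini condition.** Every map of `F` between subgroups of `Y` is decomposable. -/
theorem dec_of_hom (hS : IsPGroup p S) (F : FusionSystem S) (hF : F.IsSaturated p)
    (hT : F.StronglyClosed T) {Y : Subgroup Ω} (hY : F.StronglyClosed Y) (hYA : Y ≤ centralizerIn S T)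
    (D : FusionSystem Y) (hinv : AutInv D F)
    (hA : ∀ P : Subgroup Ω, P ≤ Y → ∀ ψ ∈ F.centralizerHom T P, Dec D F P ψ)
    {P : Subgroup Ω} (hP : P ≤ Y) {φ : P →* Ω} (hφ : φ ∈ F.Hom P) : Dec D F P φ := by
  have hYS : Y ≤ S := hY.1
  have hQY : φ.range ≤ Y := by
    rintro _ ⟨x, rfl⟩
    exact hY.2 P hP φ hφ x
  obtain ⟨Q', hconj, hfn⟩ := exists_fullyNormalized_conj F (hQY.trans hYS)
  obtain ⟨θ, hθ⟩ := (isConj_iff_exists_isFIso F).mp hconj
  have hrec : F.IsReceptive Q' := saturated_fn_receptive hS F hF hfn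
  have he : IsFIso F (homEquiv F hφ rfl) := homEquiv_isFIso F hφ rfl
  have h1 : DecI D F ((homEquiv F hφ rfl).trans θ) :=
    decI_of_receptive hS F hF hT hY hYA D hA hP hrec _ (he.trans hθ)
  have h2 : DecI D F θ := decI_of_receptive hS F hF hT hY hYA D hA hQY hrec _ hθ
  have h3 := DecI.trans hinv h1 (DecI.symm hinv h2)
  unfold DecI at h3
  apply h3.congr
  intro x
  show φ x = ((θ.symm (θ (homEquiv F hφ rfl x)) : φ.range) : Ω)
  rw [MulEquiv.symm_apply_apply]
  rfl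

end Cfsg.Agent.Lib.Helper26.CenF
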