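import Cfsg.Agent.Lib.Helper26.FSExtendMod

/-!
Products of strongly closed subgroups (S5128) and `T C_S(T)` (S5255).
-/

set_option autoImplicit false

namespace Cfsg.Agent.Lib.Helper26

open Cfsg Cfsg.FusionSystem

variable {Ω : Type*} [Group Ω] {S : Subgroup Ω}

/-- Auxiliary: from the extension modulo `T`, membership of `φ x` in a subgroup `H ≥ T` follows from that of the
extension. -/
theorem mem_of_extMod_mem {F : FusionSystem S} {T H R : Subgroup Ω} (hTH : T ≤ H) {φ : R →* Ω}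
    {ψ : ↥(R ⊔ T) →* Ω} (x : R) (hx : (φ x)⁻¹ * ψ (Subgroup.inclusion le_sup_left x) ∈ T)
    (hψ : ψ (Subgroup.inclusion le_sup_left x) ∈ H) : φ x ∈ H := by
  have h1 : φ x = ψ (Subgroup.inclusion le_sup_left x) * ((φ x)⁻¹ * ψ (Subgroup.inclusion le_sup_left x))⁻¹ := by
    simp
  rw [h1]
  exact H.mul_mem hψ (H.inv_mem (hTH hx))

/-- S5128. -/
theorem stronglyClosed_sup [Finite S] {p : ℕ} [Fact p.Prime] (hS : IsPGroup p S) (F : FusionSystem S)
    (hF : F.IsSaturated p) (T₁ T₂ : Subgroup Ω) (h₁ : F.StronglyClosed T₁) (h₂ : F.StronglyClosed T₂) :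
    F.StronglyClosed (T₁ ⊔ T₂) := by
  refine ⟨sup_le h₁.1 h₂.1, fun R hR φ hφ x => ?_⟩
  obtain ⟨ψ, hψ, hψx⟩ := extMod_all hS F hF h₁ R φ hφ
  apply mem_of_extMod_mem (F := F) le_sup_left x (hψx x)
  have hx : (x : Ω) ∈ ((T₁ ⊔ T₂ : Subgroup Ω) : Set Ω) := hR x.2
  rw [Subgroup.coe_mul_of_left_le_normalizer_right T₁ T₂ (h₁.1.trans (le_normalizer_of_stronglyClosed F h₂))] at hx
  obtain ⟨t₁, ht₁, t₂, ht₂, hxt⟩ := hx
  have ht₂' : t₂ ∈ R ⊔ T₁ := by
    have : t₂ = t₁⁻¹ * (x : Ω) := by rw [← hxt]; simp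
    rw [this]
    exact Subgroup.mul_mem _ (Subgroup.inv_mem _ (Subgroup.mem_sup_right ht₁)) (Subgroup.mem_sup_left x.2)
  have e : Subgroup.inclusion le_sup_left x =
      (⟨t₁, Subgroup.mem_sup_right ht₁⟩ : ↥(R ⊔ T₁)) * ⟨t₂, ht₂'⟩ := Subtype.ext hxt.symm
  rw [e, map_mul]
  exact Subgroup.mul_mem _ (Subgroup.mem_sup_left (apply_mem_of_stronglyClosed F h₁ hψ _ ht₁))
    (Subgroup.mem_sup_right (apply_mem_of_stronglyClosed F h₂ hψ _ ht₂))

/-- S5255. -/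
theorem stronglyClosed_sup_centralizerIn [Finite S] {p : ℕ} [Fact p.Prime] (hS : IsPGroup p S) (F : FusionSystem S)
    (hF : F.IsSaturated p) (T : Subgroup Ω) (hT : F.StronglyClosed T) :
    F.StronglyClosed (T ⊔ centralizerIn S T) := by
  refine ⟨sup_le hT.1 (centralizerIn_le S T), fun R hR φ hφ x => ?_⟩
  obtain ⟨ψ, hψ, hψx⟩ := extMod_all hS F hF hT R φ hφ
  apply mem_of_extMod_mem (F := F) le_sup_left x (hψx x)
  have hx : (x : Ω) ∈ ((T ⊔ centralizerIn S T : Subgroup Ω) : Set Ω) := hR x.2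
  rw [Subgroup.coe_mul_of_right_le_normalizer_left T (centralizerIn S T)
    ((centralizerIn_le S T).trans (le_normalizer_of_stronglyClosed F hT))] at hx
  obtain ⟨t, ht, c, hc, hxt⟩ := hx
  have hc' : c ∈ R ⊔ T := by
    have : c = t⁻¹ * (x : Ω) := by rw [← hxt]; simp
    rw [this]
    exact Subgroup.mul_mem _ (Subgroup.inv_mem _ (Subgroup.mem_sup_right ht)) (Subgroup.mem_sup_left x.2)
  have e : Subgroup.inclusion le_sup_left x =
      (⟨t, Subgroup.mem_sup_right ht⟩ : ↥(R ⊔ T)) * ⟨c, hc'⟩ := Subtype.ext hxt.symm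
  rw [e, map_mul]
  apply Subgroup.mul_mem _ (Subgroup.mem_sup_left (apply_mem_of_stronglyClosed F hT hψ _ ht))
  apply Subgroup.mem_sup_right
  rw [mem_centralizerIn_iff]
  refine ⟨hom_apply_mem F hψ _, fun t' ht' => ?_⟩
  obtain ⟨y', hy'T, hy'⟩ := exists_preimage_of_stronglyClosed F hT le_sup_right hψ t' ht'
  rw [← hy', ← map_mul, ← map_mul]
  congr 1
  apply Subtype.ext
  show (y' : Ω) * c = c * (y' : Ω)
  exact (mem_centralizerIn_iff.mp hc).2 _ hy'T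

end Cfsg.Agent.Lib.Helper26
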