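import Cfsg.Agent.Lib.Helper26.CenFD
import Cfsg.Agent.Lib.Helper26.FSStronglyClosedProd

/-!
Towards S5155, part E: an automorphism of `Y` in `C_F(T)` (with `Y ≤ C_S(T)`, `Y` and `T` strongly closed) extends to
`Y C_S(Y)` with good control of the action on `C_S(Y)`.
-/

set_option autoImplicit false

namespace Cfsg.Agent.Lib.Helper26.CenF

open Cfsg Cfsg.FusionSystem Cfsg.Agent.Lib.Helper26 Cfsg.Agent.Lib.Helper27 Cfsg.Agent.Lib.Helper26.OlvN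
  Cfsg.Agent.Lib.Helper26.Crav Cfsg.Agent.Lib.Helper26.CenE Cfsg.Agent.Lib.Helper26.CenS

variable {Ω : Type*} [Group Ω] {S T : Subgroup Ω} [Finite S] {p : ℕ} [Fact p.Prime]

omit [Finite S] in
/-- An element commuting with `Y` and with `T` centralizes `Y T`. -/
theorem mem_centralizerIn_sup {Y : Subgroup Ω} (hYA : Y ≤ centralizerIn S T) {c : Ω} (hcS : c ∈ S)
    (hcY : ∀ y : Ω, y ∈ Y → y * c = c * y) (hcT : ∀ t : Ω, t ∈ T → t * c = c * t) :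
    c ∈ centralizerIn S (Y ⊔ T) := by
  rw [mem_centralizerIn_iff]
  refine ⟨hcS, fun x hx => ?_⟩
  obtain ⟨y, t, h⟩ := exists_mul_of_mem_sup' (le_normalizer_of_le_centralizerIn hYA) ⟨x, hx⟩
  have hx' : x = (y : Ω) * (t : Ω) := congrArg Subtype.val h
  rw [hx', mul_assoc, hcT t t.2, ← mul_assoc, hcY y y.2, mul_assoc]

/-- **Extension.** An automorphism `ξ` of `Y` in `C_F(T)` extends to `β ∈ Aut_F(Y C_S(Y))` acting on `C_S(Y)` modulo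
`C_S(Y T)`, and acting on `C_S(Y T)` as a map of `C_F(T)`. -/
theorem exists_ext_of_cen_aut (hS : IsPGroup p S) (F : FusionSystem S) (hF : F.IsSaturated p)
    (hT : F.StronglyClosed T) {Y : Subgroup Ω} (hY : F.StronglyClosed Y) (hYA : Y ≤ centralizerIn S T)
    {ξ : MulAut Y} (hξ : ξ ∈ (centralizerSystem F T hT.1).autGroup Y) :
    ∃ β ∈ F.autGroup (Y ⊔ centralizerIn S Y), CenS.Restricts le_sup_left β ξ ∧
      (∀ c : ↥(Y ⊔ centralizerIn S Y), (c : Ω) ∈ centralizerIn S Y →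
        (c : Ω)⁻¹ * ((β c : ↥(Y ⊔ centralizerIn S Y)) : Ω) ∈ centralizerIn S (Y ⊔ T)) ∧
      ∃ φ ∈ F.centralizerHom T (centralizerIn S (Y ⊔ T)),
        ∀ (z : ↥(centralizerIn S (Y ⊔ T))) (hz : (z : Ω) ∈ Y ⊔ centralizerIn S Y),
          φ z = ((β ⟨z, hz⟩ : ↥(Y ⊔ centralizerIn S Y)) : Ω) := by
  have hTS : T ≤ S := hT.1
  have hYS : Y ≤ S := hY.1
  have hWS : Y ⊔ centralizerIn S Y ≤ S := sup_cen_le hYS
  obtain ⟨Ξ, hΞ, hΞY, hΞT⟩ := exists_aut_sup_of_cen F hTS hYA hξ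
  have hV : F.StronglyClosed (Y ⊔ T) := stronglyClosed_sup hS F hF Y T hY hT
  have hVrec : F.IsReceptive (Y ⊔ T) :=
    saturated_fn_receptive hS F hF (fullyNormalized_of_stronglyClosed F hV)
  have hVS : Y ⊔ T ≤ S := hV.1
  have hΞF : equivHom (Ξ : _ ≃* _) ∈ F.Hom (Y ⊔ T) := (mem_autGroup_iff F hVS Ξ).mp hΞ
  obtain ⟨ψ, hψ, hψx⟩ := hVrec.2 (Y ⊔ T) (equivHom (Ξ : _ ≃* _)) hΞF (equivHom_range _)
  have hψV : ∀ (v : Ω) (hv : v ∈ Y ⊔ T) (hN : v ∈ extender S (Y ⊔ T) (equivHom (Ξ : _ ≃* _))),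
      ψ ⟨v, hN⟩ = ((Ξ ⟨v, hv⟩ : ↥(Y ⊔ T)) : Ω) := fun v hv hN => hψx v hv hN
  have hVext : Y ⊔ T ≤ extender S (Y ⊔ T) (equivHom (Ξ : _ ≃* _)) :=
    le_extender hVS _ (fun x => hVS (Ξ x).2)
  have hΞt : ∀ (t : Ω) (ht : t ∈ T), ((Ξ ⟨t, Subgroup.mem_sup_right ht⟩ : ↥(Y ⊔ T)) : Ω) = t := by
    intro t ht
    have := hΞT ⟨t, ht⟩
    exact congrArg Subtype.val this
  have hΞy : ∀ (y : Ω) (hy : y ∈ Y), ((Ξ ⟨y, Subgroup.mem_sup_left hy⟩ : ↥(Y ⊔ T)) : Ω) = ((ξ ⟨y, hy⟩ : Y) : Ω) := by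
    intro y hy
    have := hΞY ⟨y, hy⟩
    exact congrArg Subtype.val this
  have hconjT : ∀ c : Ω, c ∈ S → ∀ t : Ω, t ∈ T → c * t * c⁻¹ ∈ T := fun c hc t ht =>
    (Subgroup.mem_normalizer_iff.mp (le_normalizer_of_stronglyClosed F hT hc) t).mp ht
  have hBext : centralizerIn S Y ≤ extender S (Y ⊔ T) (equivHom (Ξ : _ ≃* _)) := by
    intro c hc
    rw [mem_extender_iff]
    have hcS : c ∈ S := (mem_centralizerIn_iff.mp hc).1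
    have hcN : c ∈ Subgroup.normalizer ((Y ⊔ T : Subgroup Ω) : Set Ω) :=
      le_normalizer_of_stronglyClosed F hV hcS
    refine ⟨hcS, hcN, c, hcS, fun x hx => ?_⟩
    obtain ⟨y, t, rfl⟩ := exists_mul_of_mem_sup' (le_normalizer_of_le_centralizerIn hYA) x
    have hct : c * (t : Ω) * c⁻¹ ∈ T := hconjT c hcS t t.2
    have hyc : (y : Ω) * c = c * (y : Ω) := comm_of_mem_centralizerIn hc y.2
    have e1 : (⟨c * ((Subgroup.inclusion le_sup_left y * Subgroup.inclusion le_sup_right t : ↥(Y ⊔ T)) : Ω) * c⁻¹,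
        hx⟩ : ↥(Y ⊔ T)) =
        Subgroup.inclusion le_sup_left y * Subgroup.inclusion le_sup_right ⟨c * (t : Ω) * c⁻¹, hct⟩ := by
      apply Subtype.ext
      show c * ((y : Ω) * (t : Ω)) * c⁻¹ = (y : Ω) * (c * (t : Ω) * c⁻¹)
      calc c * ((y : Ω) * (t : Ω)) * c⁻¹ = (c * (y : Ω)) * (t : Ω) * c⁻¹ := by group
        _ = ((y : Ω) * c) * (t : Ω) * c⁻¹ := by rw [hyc]
        _ = _ := by group
    show ((Ξ _ : ↥(Y ⊔ T)) : Ω) = c * ((Ξ _ : ↥(Y ⊔ T)) : Ω) * c⁻¹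
    rw [e1, map_mul, map_mul, hΞY, hΞT, hΞT]
    show ((ξ y : Y) : Ω) * (c * (t : Ω) * c⁻¹) = c * (((ξ y : Y) : Ω) * (t : Ω)) * c⁻¹
    have hyc' : ((ξ y : Y) : Ω) * c = c * ((ξ y : Y) : Ω) := comm_of_mem_centralizerIn hc (ξ y).2
    calc ((ξ y : Y) : Ω) * (c * (t : Ω) * c⁻¹) = (((ξ y : Y) : Ω) * c) * (t : Ω) * c⁻¹ := by group
      _ = (c * ((ξ y : Y) : Ω)) * (t : Ω) * c⁻¹ := by rw [hyc']
      _ = _ := by group
  have hWext : Y ⊔ centralizerIn S Y ≤ extender S (Y ⊔ T) (equivHom (Ξ : _ ≃* _)) :=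
    sup_le (le_sup_left.trans hVext) hBext
  obtain ⟨β₀, hβ₀def⟩ : ∃ β₀ : ↥(Y ⊔ centralizerIn S Y) →* Ω, β₀ = ψ.comp (Subgroup.inclusion hWext) := ⟨_, rfl⟩
  have hβ₀ : β₀ ∈ F.Hom (Y ⊔ centralizerIn S Y) := hβ₀def ▸ inclusion_comp_mem F hWext hψ
  have hβ₀x : ∀ w : ↥(Y ⊔ centralizerIn S Y), β₀ w = ψ ⟨w, hWext w.2⟩ := fun w => by rw [hβ₀def]; rfl
  have hβ₀Y : ∀ y : Y, β₀ (Subgroup.inclusion le_sup_left y) = ((ξ y : Y) : Ω) := by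
    intro y
    rw [hβ₀x]
    have := hψV y (Subgroup.mem_sup_left y.2) (hWext (Subgroup.mem_sup_left y.2))
    rw [hΞy y y.2] at this
    exact this
  have hβ₀C : ∀ c : ↥(Y ⊔ centralizerIn S Y), (c : Ω) ∈ centralizerIn S Y → β₀ c ∈ centralizerIn S Y := by
    intro c hc
    apply apply_mem_centralizerIn_of_hom F hβ₀ _ c hc
    intro x' hx'
    refine ⟨ξ⁻¹ ⟨x', hx'⟩, ?_⟩
    rw [hβ₀Y, MulAut.apply_inv_self]
  have hβ₀W : ∀ w, β₀ w ∈ Y ⊔ centralizerIn S Y := by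
    intro w
    obtain ⟨x, c, rfl⟩ := exists_mul_of_mem_sup_cen w
    rw [map_mul, hβ₀Y]
    exact Subgroup.mul_mem _ (Subgroup.mem_sup_left (ξ x).2) (Subgroup.mem_sup_right (hβ₀C _ c.2))
  obtain ⟨β, hβ, hβx⟩ := Cfsg.Agent.Lib.Helper26.exists_aut_of_hom F hβ₀ hβ₀W
  have hβψ : ∀ w : ↥(Y ⊔ centralizerIn S Y), ((β w : ↥(Y ⊔ centralizerIn S Y)) : Ω) = ψ ⟨w, hWext w.2⟩ :=
    fun w => by rw [hβx, hβ₀x]
  have hβR : CenS.Restricts le_sup_left β ξ := by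
    intro y
    apply Subtype.ext
    rw [hβx, hβ₀Y]
    rfl
  -- the action on `C_S(Y)`
  have hmod : ∀ c : ↥(Y ⊔ centralizerIn S Y), (c : Ω) ∈ centralizerIn S Y →
      (c : Ω)⁻¹ * ((β c : ↥(Y ⊔ centralizerIn S Y)) : Ω) ∈ centralizerIn S (Y ⊔ T) := by
    intro c hc
    have hcS : (c : Ω) ∈ S := (mem_centralizerIn_iff.mp hc).1
    have hβc : ((β c : ↥(Y ⊔ centralizerIn S Y)) : Ω) ∈ centralizerIn S Y := by
      rw [hβx]
      exact hβ₀C c hc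
    have hβcS : ((β c : ↥(Y ⊔ centralizerIn S Y)) : Ω) ∈ S := (mem_centralizerIn_iff.mp hβc).1
    apply mem_centralizerIn_sup hYA (S.mul_mem (S.inv_mem hcS) hβcS)
    · intro y hy
      have h1 : y * (c : Ω) = (c : Ω) * y := comm_of_mem_centralizerIn hc hy
      have h2 : y * ((β c : ↥(Y ⊔ centralizerIn S Y)) : Ω) = ((β c : ↥(Y ⊔ centralizerIn S Y)) : Ω) * y :=
        comm_of_mem_centralizerIn hβc hy
      have h3 : y * (c : Ω)⁻¹ = (c : Ω)⁻¹ * y := by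
        calc y * (c : Ω)⁻¹ = (c : Ω)⁻¹ * ((c : Ω) * y) * (c : Ω)⁻¹ := by group
          _ = (c : Ω)⁻¹ * (y * (c : Ω)) * (c : Ω)⁻¹ := by rw [h1]
          _ = _ := by group
      rw [← mul_assoc, h3, mul_assoc, h2, mul_assoc]
    · intro t ht
      have hct : (c : Ω) * t * (c : Ω)⁻¹ ∈ T := hconjT _ hcS t ht
      have htN : t ∈ extender S (Y ⊔ T) (equivHom (Ξ : _ ≃* _)) := hVext (Subgroup.mem_sup_right ht)
      have hctN : (c : Ω) * t * (c : Ω)⁻¹ ∈ extender S (Y ⊔ T) (equivHom (Ξ : _ ≃* _)) :=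
        hVext (Subgroup.mem_sup_right hct)
      have e1 : (⟨(c : Ω) * t * (c : Ω)⁻¹, hctN⟩ : ↥(extender S (Y ⊔ T) (equivHom (Ξ : _ ≃* _)))) =
          ⟨c, hWext c.2⟩ * ⟨t, htN⟩ * ⟨c, hWext c.2⟩⁻¹ := Subtype.ext rfl
      have h1 := congrArg ψ e1
      rw [map_mul, map_mul, map_inv, ← hβψ c, hψV _ (Subgroup.mem_sup_right hct) hctN,
        hψV _ (Subgroup.mem_sup_right ht) htN, hΞt _ hct, hΞt _ ht] at h1
      -- `c t c⁻¹ = β(c) t β(c)⁻¹`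
      obtain ⟨b, hb⟩ : ∃ b : Ω, b = ((β c : ↥(Y ⊔ centralizerIn S Y)) : Ω) := ⟨_, rfl⟩
      rw [← hb] at h1 ⊢
      calc t * ((c : Ω)⁻¹ * b) = (c : Ω)⁻¹ * ((c : Ω) * t * (c : Ω)⁻¹) * b := by group
        _ = (c : Ω)⁻¹ * (b * t * b⁻¹) * b := by rw [h1]
        _ = _ := by group
  refine ⟨β, hβ, hβR, hmod, ?_⟩
  -- the action on `C_S(Y T)`
  have hP₁B : centralizerIn S (Y ⊔ T) ≤ centralizerIn S Y := centralizerIn_anti le_sup_left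
  have hP₁A : centralizerIn S (Y ⊔ T) ≤ centralizerIn S T := centralizerIn_anti le_sup_right
  have hP₁ext : centralizerIn S (Y ⊔ T) ⊔ T ≤ extender S (Y ⊔ T) (equivHom (Ξ : _ ≃* _)) :=
    sup_le (hP₁B.trans hBext) (le_sup_right.trans hVext)
  have hψ₁ : ψ.comp (Subgroup.inclusion hP₁ext) ∈ F.Hom (centralizerIn S (Y ⊔ T) ⊔ T) :=
    inclusion_comp_mem F hP₁ext hψ
  refine ⟨(ψ.comp (Subgroup.inclusion hP₁ext)).comp (Subgroup.inclusion le_sup_left),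
    ⟨inclusion_comp_mem F le_sup_left hψ₁, hP₁A, fun x => ?_, _, hψ₁, fun _ => rfl, fun t => ?_⟩, fun z hz => ?_⟩
  · have hxW : (x : Ω) ∈ Y ⊔ centralizerIn S Y := Subgroup.mem_sup_right (hP₁B x.2)
    have h1 := hmod ⟨x, hxW⟩ (hP₁B x.2)
    have h2 : ((ψ.comp (Subgroup.inclusion hP₁ext)).comp (Subgroup.inclusion le_sup_left)) x =
        ((β ⟨x, hxW⟩ : ↥(Y ⊔ centralizerIn S Y)) : Ω) := by
      rw [hβψ]
      rfl
    rw [h2]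
    have e : ((β ⟨x, hxW⟩ : ↥(Y ⊔ centralizerIn S Y)) : Ω) =
        (x : Ω) * ((x : Ω)⁻¹ * ((β ⟨x, hxW⟩ : ↥(Y ⊔ centralizerIn S Y)) : Ω)) := by group
    rw [e]
    exact Subgroup.mul_mem _ (hP₁A x.2) (hP₁A h1)
  · exact (hψV _ (Subgroup.mem_sup_right t.2) _).trans (hΞt _ t.2)
  · rw [hβψ]
    rfl

end Cfsg.Agent.Lib.Helper26.CenF
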