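import Cfsg.Agent.Lib.Helper26.CenFE

/-!
Towards S5155, part F: the extension condition for subsystems of `C_F(T)` over `Y`, when the focal subgroup of `C_F(T)` lies
in `Y`.
-/

set_option autoImplicit false

namespace Cfsg.Agent.Lib.Helper26.CenF

open Cfsg Cfsg.FusionSystem Cfsg.Agent.Lib.Helper26 Cfsg.Agent.Lib.Helper27 Cfsg.Agent.Lib.Helper26.OlvN
  Cfsg.Agent.Lib.Helper26.Crav Cfsg.Agent.Lib.Helper26.CenE Cfsg.Agent.Lib.Helper26.CenS

variable {Ω : Type*} [Group Ω] {S T : Subgroup Ω}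

/-- An automorphism with a super-nice extension has the extension property. -/
theorem extProp_of_mem_snSub (F : FusionSystem S) {Y : Subgroup Ω} {α : MulAut Y} (h : α ∈ snSub F Y) :
    ExtProp F Y α := by
  obtain ⟨σ, hσ, hσx, hσm⟩ := h
  refine ⟨σ, hσ, fun x => congrArg Subtype.val (hσx x), fun c hc => ⟨hσm c, ?_⟩⟩
  have hc2 : (c : Ω) ∈ Subgroup.centralizer (Y : Set Ω) := hc.2
  refine Subgroup.mul_mem _ (Subgroup.inv_mem _ hc2) ?_
  exact apply_mem_centralizer_of_ext le_sup_left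
    ((Y ⊔ centralizerIn S Y).subtype.comp σ.toMonoidHom) α (fun x => congrArg Subtype.val (hσx x)) c hc.2

variable [Finite S] {p : ℕ} [Fact p.Prime]

/-- An automorphism of `Y` in `C_F(T)` of order prime to `p` has a super-nice extension in `F`. -/
theorem mem_snSub_of_coprime_cen (hS : IsPGroup p S) (F : FusionSystem S) (hF : F.IsSaturated p)
    (hT : F.StronglyClosed T) {Y : Subgroup Ω} (hY : F.StronglyClosed Y) (hYA : Y ≤ centralizerIn S T)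
    (hfoc : ∀ (P : Subgroup Ω) (φ : P →* Ω), φ ∈ F.centralizerHom T P → ∀ x : P, (x : Ω)⁻¹ * φ x ∈ Y)
    {ξ : MulAut Y} (hξ : ξ ∈ (centralizerSystem F T hT.1).autGroup Y) {m : ℕ} (hm : m.Coprime p) (hm0 : m ≠ 0)
    (hξm : ξ ^ m = 1) : ξ ∈ snSub F Y := by
  have hYS : Y ≤ S := hY.1
  have hWS : Y ⊔ centralizerIn S Y ≤ S := sup_cen_le hYS
  obtain ⟨β, hβ, hβR, hmod, φ, hφ, hφβ⟩ := exists_ext_of_cen_aut hS F hF hT hY hYA hξ
  have hPD : Y ≤ Y ⊔ centralizerIn S (Y ⊔ T) := le_sup_left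
  have hP₁B : centralizerIn S (Y ⊔ T) ≤ centralizerIn S Y := centralizerIn_anti le_sup_left
  -- a product formula
  have hprod : ∀ (y : Y) (c : ↥(Y ⊔ centralizerIn S Y)), (c : Ω) ∈ centralizerIn S Y →
      (((Subgroup.inclusion le_sup_left y * c)⁻¹ * β (Subgroup.inclusion le_sup_left y * c) :
        ↥(Y ⊔ centralizerIn S Y)) : Ω) =
      ((y : Ω)⁻¹ * ((ξ y : Y) : Ω)) * ((c : Ω)⁻¹ * ((β c : ↥(Y ⊔ centralizerIn S Y)) : Ω)) := by
    intro y c hc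
    rw [map_mul, hβR y]
    show ((y : Ω) * (c : Ω))⁻¹ * (((ξ y : Y) : Ω) * ((β c : ↥(Y ⊔ centralizerIn S Y)) : Ω)) = _
    have h1 : ((y : Ω)⁻¹ * ((ξ y : Y) : Ω)) * (c : Ω) = (c : Ω) * ((y : Ω)⁻¹ * ((ξ y : Y) : Ω)) :=
      comm_of_mem_centralizerIn hc (Y.mul_mem (Y.inv_mem y.2) (ξ y).2)
    obtain ⟨b, hb⟩ : ∃ b : Ω, b = ((β c : ↥(Y ⊔ centralizerIn S Y)) : Ω) := ⟨_, rfl⟩
    rw [← hb]
    calc ((y : Ω) * (c : Ω))⁻¹ * (((ξ y : Y) : Ω) * b)
        = (c : Ω)⁻¹ * (((y : Ω)⁻¹ * ((ξ y : Y) : Ω)) * (c : Ω)) * ((c : Ω)⁻¹ * b) := by group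
      _ = (c : Ω)⁻¹ * ((c : Ω) * ((y : Ω)⁻¹ * ((ξ y : Y) : Ω))) * ((c : Ω)⁻¹ * b) := by rw [h1]
      _ = _ := by group
  have h2 : β ∈ modSub (Y ⊔ centralizerIn S Y) (Y ⊔ centralizerIn S (Y ⊔ T)) := by
    intro w
    obtain ⟨y, c, rfl⟩ := exists_mul_of_mem_sup_cen w
    rw [hprod y _ c.2]
    exact Subgroup.mul_mem _ (Subgroup.mem_sup_left (Y.mul_mem (Y.inv_mem y.2) (ξ y).2))
      (Subgroup.mem_sup_right (hmod _ c.2))
  have hYn : Y ≤ Subgroup.normalizer ((centralizerIn S (Y ⊔ T) : Subgroup Ω) : Set Ω) := by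
    apply le_normalizer_of_le_centralizerIn (S := S)
    intro y hy
    rw [mem_centralizerIn_iff]
    refine ⟨hYS hy, fun z hz => ?_⟩
    exact (comm_of_mem_centralizerIn (hP₁B hz) hy).symm
  have h1 : ∀ w : ↥(Y ⊔ centralizerIn S Y), (w : Ω) ∈ Y ⊔ centralizerIn S (Y ⊔ T) →
      ((w⁻¹ * β w : ↥(Y ⊔ centralizerIn S Y)) : Ω) ∈ Y := by
    intro w hw
    obtain ⟨y, z, h⟩ := exists_mul_of_mem_sup' hYn ⟨(w : Ω), hw⟩
    have hwyz : (w : Ω) = (y : Ω) * (z : Ω) := congrArg Subtype.val h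
    have hzW : (z : Ω) ∈ Y ⊔ centralizerIn S Y := Subgroup.mem_sup_right (hP₁B z.2)
    have e : w = Subgroup.inclusion le_sup_left y * ⟨z, hzW⟩ := Subtype.ext hwyz
    rw [e, hprod y _ (hP₁B z.2)]
    refine Y.mul_mem (Y.mul_mem (Y.inv_mem y.2) (ξ y).2) ?_
    rw [← hφβ z hzW]
    exact hfoc _ φ hφ z
  have h0 : ∀ x : ↥(Y ⊔ centralizerIn S Y), (x : Ω) ∈ Y → (β ^ m) x = x := by
    intro x hx
    have e : x = Subgroup.inclusion le_sup_left (⟨(x : Ω), hx⟩ : Y) := Subtype.ext rfl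
    have h3 := (hβR.pow m) ⟨(x : Ω), hx⟩
    rw [hξm] at h3
    rw [e, h3]
    rfl
  obtain ⟨j, hj1, hj2⟩ := exists_pprime_pow hS hWS hPD β h2 h1 hm hm0 h0
  have hPn : ∀ u : ↥(Y ⊔ centralizerIn S Y), ∀ x : Ω, x ∈ Y → (u : Ω) * x * (u : Ω)⁻¹ ∈ Y := by
    intro u x hx
    exact (Subgroup.mem_normalizer_iff.mp (le_normalizer_of_stronglyClosed F hY (hWS u.2)) x).mp hx
  have hmodY := modSub_of_coprime hS hWS hPD hPn (β ^ j) (Subgroup.pow_mem _ h2 j) (pow_modOn hPD h1 j) hm hj1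
  refine ⟨β ^ j, Subgroup.pow_mem _ hβ j, fun x => ?_, hmodY⟩
  rw [hj2 _ x.2]
  exact hβR x

/-- **The extension condition.** -/
theorem autGroup_le_extSubgroup (hS : IsPGroup p S) (F : FusionSystem S) (hF : F.IsSaturated p)
    (hT : F.StronglyClosed T) {Y : Subgroup Ω} (hY : F.StronglyClosed Y) (hYA : Y ≤ centralizerIn S T)
    (hfoc : ∀ (P : Subgroup Ω) (φ : P →* Ω), φ ∈ F.centralizerHom T P → ∀ x : P, (x : Ω)⁻¹ * φ x ∈ Y)
    (D : FusionSystem Y) (hDsat : D.IsSaturated p) (hDC : D.IsSubsystemOf (centralizerSystem F T hT.1)) :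
    D.autGroup Y ≤ extSubgroup F hY.1 := by
  have hYS : Y ≤ S := hY.1
  have hfinY : Finite Y := finite_of_le hYS
  have hYp : IsPGroup p Y := hS.to_le hYS
  have hFA := (saturated_fn hYp D hDsat (top_fullyNormalized D)).2
  apply autGroup_le_of_fullyAutomized (centralizerSystem F T hT.1) D hDC le_rfl hFA
  · intro α hα
    obtain ⟨g, hg, hgα⟩ := (mem_autInducedBy_iff Y Y α).mp hα
    exact extProp_of_inner F hYS hg hgα
  · unfold Cfsg.pResidual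
    rw [MonoidHom.map_closure, Subgroup.closure_le]
    rintro _ ⟨ξ, hξ, rfl⟩
    have hξ' : Nat.Coprime (orderOf ξ) p := hξ
    have hfinA : Finite (MulAut Y) := inferInstance
    have hm0 : orderOf ξ ≠ 0 := (orderOf_pos ξ).ne'
    have hξm : (ξ : MulAut Y) ^ orderOf ξ = 1 := by
      rw [← Subgroup.coe_pow, pow_orderOf_eq_one]
      rfl
    exact extProp_of_mem_snSub F (mem_snSub_of_coprime_cen hS F hF hT hY hYA hfoc ξ.2 hξ' hm0 hξm)

end Cfsg.Agent.Lib.Helper26.CenF
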