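import Cfsg.Agent.Lib.Helper26.CenFF

/-!
S5155: the centralizer subsystem `C_F(E)` of a normal subsystem `E` of a saturated fusion system `F`: a normal subsystem of `F`
over `C_S(E)` contained in `C_F(T)`, obtained as the subsystem of `p`-power index of `C_F(T)` over `C_S(E)`.
-/

set_option autoImplicit false

namespace Cfsg.Agent.Lib.Helper26.CenF

open Cfsg Cfsg.FusionSystem Cfsg.Agent.Lib.Helper26 Cfsg.Agent.Lib.Helper27 Cfsg.Agent.Lib.Helper26.OlvN
  Cfsg.Agent.Lib.Helper26.Crav Cfsg.Agent.Lib.Helper26.CenE Cfsg.Agent.Lib.Helper26.CenS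

variable {Ω : Type*} [Group Ω] {S T : Subgroup Ω} [Finite S] {p : ℕ} [Fact p.Prime]

/-- `C_S(E)` is strongly closed in `F`. -/
theorem cenSub_stronglyClosed (hS : IsPGroup p S) (F : FusionSystem S) (hF : F.IsSaturated p)
    (E : FusionSystem T) (hE : E.IsNormalIn F p) : F.StronglyClosed (cenSub E F p) := by
  have hEinv : E.IsInvariantIn F := hE.1.2.2
  have hCn : ∀ s : Ω, s ∈ S → ∀ a : Ω, a ∈ cenSub E F p → s * a * s⁻¹ ∈ cenSub E F p :=
    fun s hs a ha => conj_mem_cenSub F E hEinv hs ha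
  refine ⟨(cenSub_le E F p).trans (centralizerIn_le S T), fun R hRC φ hφ x => ?_⟩
  have h1 := hom_subset_closedSystem hS F hF E hE hCn R hφ
  exact (h1.2 x).mp (hRC x.2)

/-- **S5155.** The centralizer subsystem of a normal subsystem. -/
theorem exists_normal_cen (hS : IsPGroup p S) (F : FusionSystem S) (hF : F.IsSaturated p)
    (E : FusionSystem T) (hE : E.IsNormalIn F p) :
    ∃ D : FusionSystem (cenSub E F p), D.IsNormalIn F p ∧ ∀ P : Subgroup Ω, D.Hom P ⊆ F.centralizerHom T P := by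
  have hEinv : E.IsInvariantIn F := hE.1.2.2
  have hT : F.StronglyClosed T := hEinv.2.1
  have hTS : T ≤ S := hT.1
  have hY : F.StronglyClosed (cenSub E F p) := cenSub_stronglyClosed hS F hF E hE
  have hYA : cenSub E F p ≤ centralizerIn S T := cenSub_le E F p
  have hYS : cenSub E F p ≤ S := hY.1
  have hAS : centralizerIn S T ≤ S := centralizerIn_le S T
  have hfinA : Finite ↥(centralizerIn S T) := finite_of_le hAS
  have hpA : IsPGroup p ↥(centralizerIn S T) := hS.to_le hAS
  have hCsat : (centralizerSystem F T hTS).IsSaturated p :=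
    centralizerSystem_saturated hS F hF (fullyCentralized_of_sc F hT) _
      (centralizerSystem_isCentralizerSystem F T hTS)
  have hfoc : ∀ (P : Subgroup Ω) (φ : P →* Ω), φ ∈ F.centralizerHom T P → ∀ x : P,
      (x : Ω)⁻¹ * φ x ∈ cenSub E F p :=
    fun P φ hφ x => inv_mul_apply_mem_cenSub hS F hF E hE hφ x
  have hhyp : (centralizerSystem F T hTS).hyperfocalSubgroup p ≤ cenSub E F p := by
    refine (hyperfocal_le_focal _ p).trans ?_
    unfold focalSubgroup
    rw [Subgroup.closure_le]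
    rintro y ⟨P, φ, x, hφ, rfl⟩
    exact hfoc P φ hφ x
  obtain ⟨D, ⟨hDsat, hDi⟩, -⟩ :=
    Cfsg.Agent.Lib.Helper26.PPI.exists_unique_ppower_index hpA (centralizerSystem F T hTS) hCsat
      (cenSub E F p) hYA hhyp
  have hYn : ((cenSub E F p).subgroupOf (centralizerIn S T)).Normal := by
    constructor
    intro a ha g
    show ((g * a * g⁻¹ : ↥(centralizerIn S T)) : Ω) ∈ cenSub E F p
    exact conj_mem_cenSub F E hEinv (hAS g.2) ha
  have hDn : D.IsNormalIn (centralizerSystem F T hTS) p :=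
    isNormalIn_of_ppower_index hpA (centralizerSystem F T hTS) hCsat hYA hYn hhyp D hDsat hDi
  have hYrec : F.IsReceptive (cenSub E F p) :=
    saturated_fn_receptive hS F hF (fullyNormalized_of_stronglyClosed F hY)
  have hinv : AutInv D F := autInv_of_ppower_index_cen hS F hT hYrec hYA D hDsat hDi.1 hDi.2.2
  have hCF : (centralizerSystem F T hTS).autGroup (cenSub E F p) ≤ F.autGroup (cenSub E F p) :=
    Subgroup.closure_mono (fun β hβ => hβ.1)
  have hAdec : ∀ P : Subgroup Ω, P ≤ cenSub E F p → ∀ ψ ∈ F.centralizerHom T P, Dec D F P ψ := by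
    intro P hP ψ hψ
    obtain ⟨α, hα, φ₀, hφ₀, h⟩ := hDn.1.2.2.2.2.2 P hP ψ hψ
    exact ⟨α, hCF hα, φ₀, hφ₀, h⟩
  have hext := autGroup_le_extSubgroup hS F hF hT hY hYA hfoc D hDsat hDi.1
  refine ⟨D, ⟨⟨hDsat, hF, fun P φ hφ => (hDi.1 P hφ).1, hY, hinv, ?_⟩, fun α hα => hext hα⟩,
    fun P φ hφ => hDi.1 P hφ⟩
  intro P hP φ hφ
  exact dec_of_hom hS F hF hT hY hYA D hinv hAdec hP hφ

end Cfsg.Agent.Lib.Helper26.CenF
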