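import Cfsg.Agent.Lib.Helper26.EssTransvB

/-!
Finite `p`-groups whose centre has index `p²`: the subgroups strictly between the centre and the group.
-/

set_option autoImplicit false
set_option linter.unusedSectionVars false
universe u

namespace Cfsg.Agent.Lib.Helper26

open scoped commutatorElement

section CenIdx

variable {G : Type u} [Group G] [Finite G] {p : ℕ} [Fact p.Prime]

/-- A finite `p`-group whose centre has index `p²`. -/
structure CI (p : ℕ) (G : Type u) [Group G] : Prop where
  hG : IsPGroup p G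
  card : Nat.card G = p ^ 2 * Nat.card (Subgroup.center G)

theorem CI.of_index_le (hG : IsPGroup p G) (hna : ¬ ∀ a b : G, a * b = b * a)
    (h : (Subgroup.center G).index ≤ p ^ 2) : CI p G := by
  have hpp : p.Prime := Fact.out
  refine ⟨hG, ?_⟩
  obtain ⟨n, hn⟩ := hG.index (Subgroup.center G)
  have h1 := Subgroup.card_mul_index (Subgroup.center G)
  have hn2 : n ≤ 2 := by
    rw [hn] at h
    exact (Nat.pow_le_pow_iff_right hpp.one_lt).mp h
  have hn0 : n ≠ 0 := by
    rintro rfl
    rw [pow_zero, Subgroup.index_eq_one] at hn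
    apply hna
    intro x y
    have hy : y ∈ Subgroup.center G := hn ▸ Subgroup.mem_top y
    exact Subgroup.mem_center_iff.mp hy x
  have hn1 : n ≠ 1 := by
    rintro rfl
    rw [pow_one] at hn
    have hq : Nat.card (G ⧸ Subgroup.center G) = p := hn
    haveI : IsCyclic (G ⧸ Subgroup.center G) := isCyclic_of_prime_card hq
    apply hna
    exact commutative_of_cyclic_center_quotient (QuotientGroup.mk' (Subgroup.center G))
      (by rw [QuotientGroup.ker_mk'])
  have : n = 2 := by omega
  subst this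
  rw [← h1, hn, mul_comm]

theorem CI.comm_mem_center (h : CI p G) (x y : G) : ⁅x, y⁆ ∈ Subgroup.center G := by
  have hpp : p.Prime := Fact.out
  have hq : Nat.card (G ⧸ Subgroup.center G) = p ^ 2 := by
    have h1 := Subgroup.card_mul_index (Subgroup.center G)
    rw [h.card, mul_comm] at h1
    have hpos : 0 < Nat.card (Subgroup.center G) := Nat.card_pos
    exact Nat.eq_of_mul_eq_mul_right hpos h1
  have hqc : IsMulCommutative (G ⧸ Subgroup.center G) := IsPGroup.isMulCommutative_of_card_eq_prime_sq hq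
  rw [← QuotientGroup.eq_one_iff, commutatorElement_def]
  simp only [QuotientGroup.mk_mul, QuotientGroup.mk_inv]
  have := isMulCommutative_iff.mp hqc (x : G ⧸ Subgroup.center G) (y : G ⧸ Subgroup.center G)
  rw [this]
  group

theorem CI.not_comm (h : CI p G) : ¬ ∀ a b : G, a * b = b * a := by
  have hpp : p.Prime := Fact.out
  intro hab
  have htop : Subgroup.center G = ⊤ := by
    rw [eq_top_iff]
    intro z _
    rw [Subgroup.mem_center_iff]
    intro g
    exact hab g z
  have h1 := h.card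
  rw [htop, Subgroup.card_top] at h1
  have hpos : 0 < Nat.card G := Nat.card_pos
  have h2 : p ^ 2 = 1 := by
    have : 1 * Nat.card G = p ^ 2 * Nat.card G := by rw [one_mul]; exact h1
    exact (Nat.eq_of_mul_eq_mul_right hpos this).symm
  have := hpp.one_lt
  have h3 : 1 < p ^ 2 := Nat.one_lt_pow (by norm_num) this
  omega

/-- A subgroup strictly between the centre and the group. -/
structure CI.Mid (P : Subgroup G) : Prop where
  le : Subgroup.center G ≤ P
  ne_center : P ≠ Subgroup.center G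
  ne_top : P ≠ ⊤

theorem CI.card_mid (h : CI p G) {P : Subgroup G} (hP : CI.Mid P) :
    Nat.card P = p * Nat.card (Subgroup.center G) ∧ Nat.card G = p * Nat.card P := by
  have hpp : p.Prime := Fact.out
  obtain ⟨a, ha⟩ := (h.hG.to_subgroup (Subgroup.center G)).exists_card_eq
  obtain ⟨b, hb⟩ := (h.hG.to_subgroup P).exists_card_eq
  have hG : Nat.card G = p ^ (a + 2) := by rw [h.card, ha, pow_add, mul_comm]
  have h1 : a ≤ b := by
    have := Subgroup.card_dvd_of_le hP.le
    rw [ha, hb] at this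
    exact (Nat.pow_dvd_pow_iff_le_right hpp.one_lt).mp this
  have h2 : b ≤ a + 2 := by
    have := Subgroup.card_subgroup_dvd_card P
    rw [hG, hb] at this
    exact (Nat.pow_dvd_pow_iff_le_right hpp.one_lt).mp this
  have h3 : b ≠ a := by
    rintro rfl
    apply hP.ne_center
    exact (Subgroup.eq_of_le_of_card_ge hP.le (by rw [ha, hb])).symm
  have h4 : b ≠ a + 2 := by
    rintro rfl
    apply hP.ne_top
    apply Subgroup.eq_top_of_card_eq
    rw [hb, hG]
  have : b = a + 1 := by omega
  subst this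
  refine ⟨by rw [hb, ha, pow_succ, mul_comm], by rw [hG, hb, pow_succ, mul_comm]⟩

theorem CI.normal_of_le (h : CI p G) {P : Subgroup G} (hP : Subgroup.center G ≤ P) : P.Normal := by
  constructor
  intro y hy g
  have h1 := hP (h.comm_mem_center g y)
  have : g * y * g⁻¹ = ⁅g, y⁆ * y := by rw [commutatorElement_def]; group
  rw [this]
  exact P.mul_mem h1 hy

theorem CI.comm_mid (h : CI p G) {P : Subgroup G} (hP : CI.Mid P) : ∀ a ∈ P, ∀ b ∈ P, a * b = b * a := by
  have hpp : p.Prime := Fact.out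
  have hn : ((Subgroup.center G).subgroupOf P).Normal := by
    constructor
    intro y hy g
    rw [Subgroup.mem_subgroupOf] at hy ⊢
    have := Subgroup.mem_center_iff.mp hy (g : G)
    show (g : G) * y * (g : G)⁻¹ ∈ Subgroup.center G
    rw [this, mul_inv_cancel_right]
    exact hy
  have hcard : Nat.card (P ⧸ (Subgroup.center G).subgroupOf P) = p := by
    have h1 := Subgroup.card_eq_card_quotient_mul_card_subgroup ((Subgroup.center G).subgroupOf P)
    have h2 : Nat.card ((Subgroup.center G).subgroupOf P) = Nat.card (Subgroup.center G) :=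
      Nat.card_congr (Subgroup.subgroupOfEquivOfLe hP.le).toEquiv
    rw [h2, (h.card_mid hP).1] at h1
    have hpos : 0 < Nat.card (Subgroup.center G) := Nat.card_pos
    exact (Nat.eq_of_mul_eq_mul_right hpos h1).symm
  haveI : IsCyclic (P ⧸ (Subgroup.center G).subgroupOf P) := isCyclic_of_prime_card hcard
  have key := commutative_of_cyclic_center_quotient
    (QuotientGroup.mk' ((Subgroup.center G).subgroupOf P)) (by
      rw [QuotientGroup.ker_mk']
      intro y hy
      rw [Subgroup.mem_subgroupOf] at hy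
      rw [Subgroup.mem_center_iff]
      intro g
      apply Subtype.ext
      exact Subgroup.mem_center_iff.mp hy (g : G))
  intro a ha b hb
  exact congrArg Subtype.val (key ⟨a, ha⟩ ⟨b, hb⟩)

theorem CI.decomp {P : Subgroup G} [P.Normal] (hidx : Nat.card G = p * Nat.card P) {s : G} (hs : s ∉ P)
    (x : G) : ∃ i : ℕ, x * (s ^ i)⁻¹ ∈ P :=
  (mem_or_exists_pow_mem hidx s x).resolve_left hs

/-- A subgroup between centre and group is self-centralizing. -/
theorem CI.self_centralizing (h : CI p G) {P : Subgroup G} (hP : CI.Mid P) {g : G}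
    (hg : ∀ x ∈ P, g * x = x * g) : g ∈ P := by
  by_contra hgP
  haveI := h.normal_of_le hP.le
  apply h.not_comm
  have hPab := h.comm_mid hP
  intro a b
  obtain ⟨i, hi⟩ := CI.decomp (h.card_mid hP).2 hgP a
  obtain ⟨j, hj⟩ := CI.decomp (h.card_mid hP).2 hgP b
  obtain ⟨u, hu⟩ : ∃ u, u = a * (g ^ i)⁻¹ := ⟨_, rfl⟩
  obtain ⟨w, hw⟩ : ∃ w, w = b * (g ^ j)⁻¹ := ⟨_, rfl⟩
  have ha : a = u * g ^ i := by rw [hu]; group
  have hb : b = w * g ^ j := by rw [hw]; group
  have huP : u ∈ P := hu ▸ hi
  have hwP : w ∈ P := hw ▸ hj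
  have c1 : Commute u w := hPab u huP w hwP
  have c2 : Commute g u := hg u huP
  have c3 : Commute g w := hg w hwP
  rw [ha, hb]
  have : Commute (u * g ^ i) (w * g ^ j) := by
    apply Commute.mul_left
    · exact Commute.mul_right c1 (c2.symm.pow_right j)
    · exact Commute.mul_right (c3.pow_left i) ((Commute.refl g).pow_pow i j)
  exact this

theorem CI.inf_eq (h : CI p G) {P₁ P₂ : Subgroup G} (h₁ : CI.Mid P₁) (h₂ : CI.Mid P₂) (hne : P₁ ≠ P₂) :
    P₁ ⊓ P₂ = Subgroup.center G := by
  by_contra hcon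
  have hmid : CI.Mid (P₁ ⊓ P₂) := by
    refine ⟨le_inf h₁.le h₂.le, hcon, fun htop => h₁.ne_top ?_⟩
    rw [eq_top_iff, ← htop]
    exact inf_le_left
  have hc := (h.card_mid hmid).1
  have hc1 := (h.card_mid h₁).1
  have hc2 := (h.card_mid h₂).1
  have e1 : P₁ ⊓ P₂ = P₁ := Subgroup.eq_of_le_of_card_ge inf_le_left (by rw [hc, hc1])
  have e2 : P₁ ⊓ P₂ = P₂ := Subgroup.eq_of_le_of_card_ge inf_le_right (by rw [hc, hc2])
  exact hne (e1.symm.trans e2)

theorem CI.exists_mul (h : CI p G) {P₁ P₂ : Subgroup G} (h₁ : CI.Mid P₁) (h₂ : CI.Mid P₂) (hne : P₁ ≠ P₂)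
    (g : G) : ∃ u₁ ∈ P₁, ∃ u₂ ∈ P₂, g = u₁ * u₂ := by
  haveI := h.normal_of_le h₁.le
  have hnle : ¬ P₂ ≤ P₁ := by
    intro hle
    apply hne
    exact (Subgroup.eq_of_le_of_card_ge hle (by rw [(h.card_mid h₁).1, (h.card_mid h₂).1])).symm
  obtain ⟨s, hs₂, hs₁⟩ := SetLike.not_le_iff_exists.mp hnle
  obtain ⟨i, hi⟩ := CI.decomp (h.card_mid h₁).2 hs₁ g
  exact ⟨g * (s ^ i)⁻¹, hi, s ^ i, P₂.pow_mem hs₂ i, by group⟩

/-- Elements of a subgroup `P` between centre and group, modulo the centre, are powers of any non-central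
element of `P`. -/
theorem CI.decomp_mid (h : CI p G) {P : Subgroup G} (hP : CI.Mid P) {x : G} (hx : x ∈ P)
    (hxZ : x ∉ Subgroup.center G) {v : G} (hv : v ∈ P) : ∃ i : ℕ, v * (x ^ i)⁻¹ ∈ Subgroup.center G := by
  have hn : ((Subgroup.center G).subgroupOf P).Normal := by
    constructor
    intro y hy g
    rw [Subgroup.mem_subgroupOf] at hy ⊢
    have := Subgroup.mem_center_iff.mp hy (g : G)
    show (g : G) * y * (g : G)⁻¹ ∈ Subgroup.center G
    rw [this, mul_inv_cancel_right]
    exact hy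
  have hidx : Nat.card P = p * Nat.card ((Subgroup.center G).subgroupOf P) := by
    have h2 : Nat.card ((Subgroup.center G).subgroupOf P) = Nat.card (Subgroup.center G) :=
      Nat.card_congr (Subgroup.subgroupOfEquivOfLe hP.le).toEquiv
    rw [h2, (h.card_mid hP).1]
  have hx' : (⟨x, hx⟩ : P) ∉ (Subgroup.center G).subgroupOf P := hxZ
  obtain ⟨i, hi⟩ := (mem_or_exists_pow_mem hidx (⟨x, hx⟩ : P) ⟨v, hv⟩).resolve_left hx'
  refine ⟨i, ?_⟩
  rw [Subgroup.mem_subgroupOf] at hi
  simpa using hi

/-- An element commuting with a non-central element of `P` centralizes `P`. -/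
theorem CI.centralizes_of_commute (h : CI p G) {P : Subgroup G} (hP : CI.Mid P) {u : G} (hu : u ∈ P)
    (huZ : u ∉ Subgroup.center G) {g : G} (hg : g * u = u * g) : ∀ v ∈ P, g * v = v * g := by
  intro v hv
  obtain ⟨i, hi⟩ := h.decomp_mid hP hu huZ hv
  obtain ⟨z, hz⟩ : ∃ z, z = v * (u ^ i)⁻¹ := ⟨_, rfl⟩
  have hzZ : z ∈ Subgroup.center G := hz ▸ hi
  have hv' : v = z * u ^ i := by rw [hz]; group
  have c1 : Commute g z := (Subgroup.mem_center_iff.mp hzZ g)
  have c2 : Commute g u := hg
  rw [hv']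
  exact (c1.mul_right (c2.pow_right i)).eq

/-- If `N` is central and contains the commutators `[u, s]` for `u` in an abelian normal subgroup `P` of index
`p` and some `s ∉ P`, then `N` contains all commutators. -/
theorem comm_mem_of_central (N : Subgroup G) (hN : N ≤ Subgroup.center G) {P : Subgroup G} [P.Normal]
    (hPab : ∀ a ∈ P, ∀ b ∈ P, a * b = b * a) (hidx : Nat.card G = p * Nat.card P) {s : G} (hs : s ∉ P)
    (hcomm : ∀ u ∈ P, u⁻¹ * (s * u * s⁻¹) ∈ N) (x y : G) : ⁅x, y⁆ ∈ N := by
  haveI hNn : N.Normal := by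
    constructor
    intro n hn g
    have := Subgroup.mem_center_iff.mp (hN hn) g
    rw [this, mul_inv_cancel_right]
    exact hn
  obtain ⟨i, hi⟩ := CI.decomp hidx hs x
  obtain ⟨j, hj⟩ := CI.decomp hidx hs y
  obtain ⟨u, hu⟩ : ∃ u, u = x * (s ^ i)⁻¹ := ⟨_, rfl⟩
  obtain ⟨w, hw⟩ : ∃ w, w = y * (s ^ j)⁻¹ := ⟨_, rfl⟩
  have hx : x = u * s ^ i := by rw [hu]; group
  have hy : y = w * s ^ j := by rw [hw]; group
  have huP : u ∈ P := hu ▸ hi
  have hwP : w ∈ P := hw ▸ hj
  have hsc : ∀ v ∈ P, Commute (QuotientGroup.mk s : G ⧸ N) (QuotientGroup.mk v) := by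
    intro v hv
    have h1 := hcomm v hv
    rw [← QuotientGroup.eq_one_iff] at h1
    simp only [QuotientGroup.mk_mul, QuotientGroup.mk_inv] at h1
    show (QuotientGroup.mk s : G ⧸ N) * QuotientGroup.mk v = QuotientGroup.mk v * QuotientGroup.mk s
    have h2 : (QuotientGroup.mk s : G ⧸ N) * QuotientGroup.mk v * (QuotientGroup.mk s)⁻¹ = QuotientGroup.mk v := by
      have := inv_mul_eq_one.mp h1
      exact this.symm
    calc (QuotientGroup.mk s : G ⧸ N) * QuotientGroup.mk v
        = ((QuotientGroup.mk s : G ⧸ N) * QuotientGroup.mk v * (QuotientGroup.mk s)⁻¹) * QuotientGroup.mk s := by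
          group
      _ = QuotientGroup.mk v * QuotientGroup.mk s := by rw [h2]
  have c1 : Commute (QuotientGroup.mk u : G ⧸ N) (QuotientGroup.mk w) := by
    show (QuotientGroup.mk u : G ⧸ N) * QuotientGroup.mk w = QuotientGroup.mk w * QuotientGroup.mk u
    rw [← QuotientGroup.mk_mul, ← QuotientGroup.mk_mul, hPab u huP w hwP]
  have c2 := hsc u huP
  have c3 := hsc w hwP
  have hxy : Commute (QuotientGroup.mk x : G ⧸ N) (QuotientGroup.mk y) := by
    rw [hx, hy, QuotientGroup.mk_mul, QuotientGroup.mk_mul, QuotientGroup.mk_pow, QuotientGroup.mk_pow]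
    apply Commute.mul_left
    · exact Commute.mul_right c1 (c2.symm.pow_right j)
    · exact Commute.mul_right (c3.pow_left i) ((Commute.refl _).pow_pow i j)
  rw [← QuotientGroup.eq_one_iff, commutatorElement_def]
  simp only [QuotientGroup.mk_mul, QuotientGroup.mk_inv]
  rw [hxy.eq]
  group

end CenIdx

end Cfsg.Agent.Lib.Helper26
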