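import Cfsg.Agent.Lib.Helper26.TwoTransvD

/-!
Two transvections on a finite abelian `p`-group `H` (part E): further decomposition facts and the torus element.
-/

set_option autoImplicit false
set_option linter.unusedSectionVars false
universe u

namespace Cfsg.Agent.Lib.Helper26

open Cfsg

section Torus

variable {H : Type u} [Group H] [Finite H] {p : ℕ} [Fact p.Prime]
variable {hab : ∀ a b : H, a * b = b * a} {A : Subgroup (MulAut H)} {t γ : MulAut H} {H₁ : Subgroup H}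

namespace TTPair

/-- `V ∩ H₁ = Z₁`. -/
theorem V_inf_H₁ (h : TTPair p hab A t γ H₁) {v : H} (hv : v ∈ h.V) (hv1 : v ∈ H₁) : v ∈ tCen hab t := by
  obtain ⟨z₁, hz₁, z₂, hz₂, rfl⟩ := hv
  have hz₁H : z₁ ∈ H₁ := h.tv.tCen_le hz₁
  have hz₂H : z₂ ∈ H₁ := by
    have := H₁.mul_mem (H₁.inv_mem hz₁H) hv1
    rwa [inv_mul_cancel_left] at this
  rw [h.cen'_inf hz₂ hz₂H, mul_one]
  exact hz₁

theorem cen_le_V (h : TTPair p hab A t γ H₁) : tCen hab t ≤ h.V := left_le_prodSub hab _ _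

/-- `H₁ = C Z₁`. -/
theorem H₁_decomp (h : TTPair p hab A t γ H₁) {x : H} (hx : x ∈ H₁) :
    ∃ c ∈ h.C, ∃ z ∈ tCen hab t, x = c * z := by
  obtain ⟨c, hc, v, hv, rfl⟩ := h.sup x
  refine ⟨c, hc, v, h.V_inf_H₁ hv ?_, rfl⟩
  have := H₁.mul_mem (H₁.inv_mem (h.C_le hc)) hx
  rwa [inv_mul_cancel_left] at this

theorem C_inf_cen (h : TTPair p hab A t γ H₁) {x : H} (hC : x ∈ h.C) (hz : x ∈ tCen hab t) : x = 1 :=
  h.disj hC (h.cen_le_V hz)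

theorem w_mem_V_of_Lfix (h : TTPair p hab A t γ H₁) {ℓ : MulAut H} (hℓ : ℓ ∈ Lfix hab t γ H₁) (y : H) :
    y⁻¹ * ℓ y ∈ h.V := by
  obtain ⟨c, hc, v, hv, rfl⟩ := h.sup y
  have hcfix : ℓ c = c := hℓ.1 c ((h.mem_C c).mp hc).1 ((h.mem_C c).mp hc).2
  have hv' : ℓ v ∈ h.V := (hℓ.2 v).mp hv
  rw [map_mul, hcfix]
  have e : (c * v)⁻¹ * (c * ℓ v) = v⁻¹ * ℓ v := by group
  rw [e]
  exact Subgroup.mul_mem _ (Subgroup.inv_mem _ hv) hv'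

/-- Frattini-type factorisation, strong form. -/
theorem frattini' (h : TTPair p hab A t γ H₁) {β : MulAut H} (hβ : β ∈ A) :
    ∃ ℓ ∈ A, (∀ c ∈ h.C, ℓ c = c) ∧ (∀ y, y⁻¹ * ℓ y ∈ h.V) ∧
      (ℓ⁻¹ * β) * t * (ℓ⁻¹ * β)⁻¹ ∈ Subgroup.zpowers t := by
  obtain ⟨ℓ, hℓA, hℓ, hmem⟩ := h.conj_class hβ
  refine ⟨ℓ, hℓA, fun c hc => hℓ.1 c ((h.mem_C c).mp hc).1 ((h.mem_C c).mp hc).2,
    fun y => h.w_mem_V_of_Lfix hℓ y, ?_⟩
  have := conj_mem_zpowers hmem ℓ⁻¹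
  have e1 : ℓ⁻¹ * (β * t * β⁻¹) * ℓ⁻¹⁻¹ = (ℓ⁻¹ * β) * t * (ℓ⁻¹ * β)⁻¹ := by group
  have e2 : ℓ⁻¹ * (ℓ * t * ℓ⁻¹) * ℓ⁻¹⁻¹ = t := by group
  rw [e1, e2] at this
  exact this

theorem pow_p_eq (h : TTPair p hab A t γ H₁) (x : H) : ∃ c ∈ h.C, x ^ p = c ^ p := by
  obtain ⟨c, hc, v, hv, rfl⟩ := h.sup x
  refine ⟨c, hc, ?_⟩
  rw [(show Commute c v from hab c v).mul_pow, h.V_exp hv, mul_one]

/-- The torus element: it fixes `C` pointwise, inverts `V`, and commutes with `t`. -/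
theorem torus (h : TTPair p hab A t γ H₁) :
    ∃ η ∈ A, (∀ c ∈ h.C, η c = c) ∧ (∀ v ∈ h.V, η v = v⁻¹) ∧ η * t = t * η := by
  obtain ⟨e₂, he₂, he₂1⟩ := h.tv'.exists_ne_one
  obtain ⟨t', ht'⟩ : ∃ t', t' = γ * t * γ⁻¹ := ⟨_, rfl⟩
  have htv' : Tv p hab t' (H₁.map γ.toMonoidHom) := ht' ▸ h.tv'
  have ht'A : t' ∈ A := ht' ▸ h.t'A
  have he₂' : e₂ ∈ tCen hab t' := ht' ▸ he₂
  obtain ⟨e₁, he₁def⟩ : ∃ e₁, e₁ = e₂⁻¹ * t e₂ := ⟨_, rfl⟩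
  have he₁ : e₁ ∈ tCen hab t := he₁def ▸ w_mem_tCen hab t e₂
  have he₁1 : e₁ ≠ 1 := by
    intro e
    have h1 : t e₂ = e₂ := by
      rw [e] at he₁def
      exact (inv_mul_eq_one.mp he₁def.symm).symm
    exact he₂1 (h.cen'_inf he₂ ((h.tv.mem_iff_fix e₂).mpr h1))
  have hte₂ : t e₂ = e₂ * e₁ := by rw [he₁def]; group
  have hte₁ : t e₁ = e₁ := h.tv.tr.1 e₁ (h.tv.tCen_le he₁)
  have ht'e₂ : t' e₂ = e₂ := htv'.tr.1 e₂ (htv'.tCen_le he₂')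
  obtain ⟨u, hudef⟩ : ∃ u, u = e₁⁻¹ * t' e₁ := ⟨_, rfl⟩
  have hu : u ∈ tCen hab t' := hudef ▸ w_mem_tCen hab t' e₁
  have hu1 : u ≠ 1 := by
    intro e
    have h1 : t' e₁ = e₁ := by
      rw [e] at hudef
      exact (inv_mul_eq_one.mp hudef.symm).symm
    have h2 : e₁ ∈ H₁.map γ.toMonoidHom := (htv'.mem_iff_fix e₁).mpr h1
    exact he₁1 (h.cen_inf he₁ h2)
  obtain ⟨k, hk⟩ : ∃ k : ℕ, u ^ k = e₂⁻¹ := by
    have hne : (⟨u, hu⟩ : tCen hab t') ≠ 1 := fun e => hu1 (congrArg Subtype.val e)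
    have h3 := mem_zpowers_of_prime_card (G := tCen hab t') htv'.card_tCen hne
      (g' := ⟨e₂⁻¹, Subgroup.inv_mem _ he₂'⟩)
    rw [← mem_powers_iff_mem_zpowers, Submonoid.mem_powers_iff] at h3
    obtain ⟨k, hk⟩ := h3
    refine ⟨k, ?_⟩
    have := congrArg Subtype.val hk
    rwa [Subgroup.coe_pow] at this
  have hY₁ : (t' ^ k) e₁ = e₁ * e₂⁻¹ := by
    have h4 := htv'.tr.w_pow e₁ k
    rw [← hudef, hk] at h4
    exact eq_mul_of_inv_mul_eq h4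
  have hY₂ : (t' ^ k) e₂ = e₂ :=
    apply_eq_of_mem_zpowers (Subgroup.pow_mem _ (Subgroup.mem_zpowers t') k) ht'e₂
  obtain ⟨w, hwdef⟩ : ∃ w, w = t * t' ^ k * t := ⟨_, rfl⟩
  have hwA : w ∈ A := hwdef ▸ A.mul_mem (A.mul_mem h.tA (A.pow_mem ht'A k)) h.tA
  have hw₁ : w e₁ = e₂⁻¹ := by
    rw [hwdef]
    show t ((t' ^ k) (t e₁)) = _
    rw [hte₁, hY₁, map_mul, map_inv, hte₁, hte₂, mul_inv_rev]
    group
  have hw₂ : w e₂ = e₁ := by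
    rw [hwdef]
    show t ((t' ^ k) (t e₂)) = _
    rw [hte₂, map_mul, hY₂, hY₁, hab e₂ (e₁ * e₂⁻¹), inv_mul_cancel_right, hte₁]
  have hwC : ∀ c ∈ h.C, w c = c := by
    intro c hc
    obtain ⟨h1, h2⟩ := (h.mem_C c).mp hc
    have htc : t c = c := h.tv.tr.1 c h1
    have ht'c : t' c = c := htv'.tr.1 c h2
    have hYc : (t' ^ k) c = c :=
      apply_eq_of_mem_zpowers (Subgroup.pow_mem _ (Subgroup.mem_zpowers t') k) ht'c
    rw [hwdef]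
    show t ((t' ^ k) (t c)) = _
    rw [htc, hYc, htc]
  refine ⟨w * w, A.mul_mem hwA hwA, fun c hc => ?_, ?_, ?_⟩
  · rw [MulAut.mul_apply, hwC c hc, hwC c hc]
  · have hη₁ : (w * w) e₁ = e₁⁻¹ := by rw [MulAut.mul_apply, hw₁, map_inv, hw₂]
    have hη₂ : (w * w) e₂ = e₂⁻¹ := by rw [MulAut.mul_apply, hw₂, hw₁]
    have hinv : ∀ v ∈ h.V, (w * w) v = v⁻¹ := by
      rintro _ ⟨z₁, hz₁, z₂, hz₂, rfl⟩
      have hz₂' : z₂ ∈ tCen hab t' := ht' ▸ hz₂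
      have hne₁ : (⟨e₁, he₁⟩ : tCen hab t) ≠ 1 := fun e => he₁1 (congrArg Subtype.val e)
      have hne₂ : (⟨e₂, he₂'⟩ : tCen hab t') ≠ 1 := fun e => he₂1 (congrArg Subtype.val e)
      have h3 := mem_zpowers_of_prime_card (G := tCen hab t) h.tv.card_tCen hne₁ (g' := ⟨z₁, hz₁⟩)
      have h4 := mem_zpowers_of_prime_card (G := tCen hab t') htv'.card_tCen hne₂ (g' := ⟨z₂, hz₂'⟩)
      obtain ⟨i, hi⟩ := Subgroup.mem_zpowers_iff.mp h3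
      obtain ⟨j, hj⟩ := Subgroup.mem_zpowers_iff.mp h4
      have hi' : e₁ ^ i = z₁ := by
        have := congrArg Subtype.val hi
        rwa [Subgroup.coe_zpow] at this
      have hj' : e₂ ^ j = z₂ := by
        have := congrArg Subtype.val hj
        rwa [Subgroup.coe_zpow] at this
      rw [map_mul, ← hi', ← hj', map_zpow, map_zpow, hη₁, hη₂, inv_zpow, inv_zpow, mul_inv_rev,
        hab (e₂ ^ j)⁻¹ (e₁ ^ i)⁻¹]
    exact hinv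
  · have hinv : ∀ v ∈ h.V, (w * w) v = v⁻¹ := by
      have hη₁ : (w * w) e₁ = e₁⁻¹ := by rw [MulAut.mul_apply, hw₁, map_inv, hw₂]
      have hη₂ : (w * w) e₂ = e₂⁻¹ := by rw [MulAut.mul_apply, hw₂, hw₁]
      rintro _ ⟨z₁, hz₁, z₂, hz₂, rfl⟩
      have hz₂' : z₂ ∈ tCen hab t' := ht' ▸ hz₂
      have hne₁ : (⟨e₁, he₁⟩ : tCen hab t) ≠ 1 := fun e => he₁1 (congrArg Subtype.val e)
      have hne₂ : (⟨e₂, he₂'⟩ : tCen hab t') ≠ 1 := fun e => he₂1 (congrArg Subtype.val e)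
      have h3 := mem_zpowers_of_prime_card (G := tCen hab t) h.tv.card_tCen hne₁ (g' := ⟨z₁, hz₁⟩)
      have h4 := mem_zpowers_of_prime_card (G := tCen hab t') htv'.card_tCen hne₂ (g' := ⟨z₂, hz₂'⟩)
      obtain ⟨i, hi⟩ := Subgroup.mem_zpowers_iff.mp h3
      obtain ⟨j, hj⟩ := Subgroup.mem_zpowers_iff.mp h4
      have hi' : e₁ ^ i = z₁ := by
        have := congrArg Subtype.val hi
        rwa [Subgroup.coe_zpow] at this
      have hj' : e₂ ^ j = z₂ := by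
        have := congrArg Subtype.val hj
        rwa [Subgroup.coe_zpow] at this
      rw [map_mul, ← hi', ← hj', map_zpow, map_zpow, hη₁, hη₂, inv_zpow, inv_zpow, mul_inv_rev,
        hab (e₂ ^ j)⁻¹ (e₁ ^ i)⁻¹]
    ext x
    obtain ⟨c, hc, v, hv, rfl⟩ := h.sup x
    have hηC : (w * w) c = c := by rw [MulAut.mul_apply, hwC c hc, hwC c hc]
    have htc : t c = c := h.tv.tr.1 c (h.C_le hc)
    have htv : t v ∈ h.V := h.V_map_le h.tA hv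
    show (w * w) (t (c * v)) = t ((w * w) (c * v))
    rw [map_mul, map_mul, htc, hηC, hinv _ htv, map_mul, hηC, hinv v hv, map_mul, htc, map_inv]

end TTPair

end Torus

end Cfsg.Agent.Lib.Helper26
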