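import Cfsg.Agent.Lib.Helper26.CenIdxA
import Cfsg.Agent.Lib.Helper26.CenIdxB
import Cfsg.Agent.Lib.Helper26.TwoTransvE
import Cfsg.Agent.Lib.Helper26.EssChain

/-!
Essential subgroups of a saturated fusion system over a `p`-group whose centre has index `p²`: they carry a pair of
transvections.
-/

set_option autoImplicit false
set_option linter.unusedSectionVars false
universe u

namespace Cfsg.Agent.Lib.Helper26

open Cfsg Cfsg.FusionSystem
open scoped commutatorElement

variable {Ω : Type u} [Group Ω] {S : Subgroup Ω}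

theorem mid_of_essential [Finite S] {p : ℕ} [Fact p.Prime] (hS : IsPGroup p S) (F : FusionSystem S)
    (hF : F.IsSaturated p) {P : Subgroup Ω} (hP : F.IsEssential p P) : CI.Mid (P.subgroupOf S) := by
  have hPS := hP.1.1
  have hcen : centralizerIn S P ≤ P := hP.1.2 P (isConj_refl F hPS)
  refine ⟨?_, ?_, ?_⟩
  · intro z hz
    rw [Subgroup.mem_subgroupOf]
    apply hcen
    rw [mem_centralizerIn_iff]
    refine ⟨z.2, fun x hx => ?_⟩
    have := Subgroup.mem_center_iff.mp hz ⟨x, hPS hx⟩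
    exact congrArg (fun w : S => (w : Ω)) this
  · intro heq
    apply Cfsg.Agent.Lib.Helper27.essential_ne_top hS F hF hP
    apply le_antisymm hPS
    intro g hg
    apply hcen
    rw [mem_centralizerIn_iff]
    refine ⟨hg, fun x hx => ?_⟩
    have hx' : (⟨x, hPS hx⟩ : S) ∈ P.subgroupOf S := hx
    rw [heq] at hx'
    have := Subgroup.mem_center_iff.mp hx' ⟨g, hg⟩
    exact (congrArg (fun w : S => (w : Ω)) this).symm
  · intro heq
    apply Cfsg.Agent.Lib.Helper27.essential_ne_top hS F hF hP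
    exact le_antisymm hPS (Subgroup.subgroupOf_eq_top.mp heq)

/-- The data attached to an essential subgroup. -/
structure EPack (F : FusionSystem S) (p : ℕ) (P : Subgroup Ω) where
  hPS : P ≤ S
  hab : ∀ a b : P, a * b = b * a
  s : Ω
  hsS : s ∈ S
  hsP : s ∉ P
  hsN : s ∈ Subgroup.normalizer (P : Set Ω)
  γ : MulAut P
  pair : TTPair p hab (F.autGroup P) (P.normalizerMonoidHom ⟨s, hsN⟩) γ
    ((Subgroup.center S).comap (Subgroup.inclusion hPS))
  autS : autInducedBy S P = Subgroup.zpowers (P.normalizerMonoidHom ⟨s, hsN⟩)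
  hSN : S ≤ Subgroup.normalizer (P : Set Ω)
  hfn : F.IsFullyNormalized P
  hmid : CI.Mid (P.subgroupOf S)

theorem exists_epack [Finite S] {p : ℕ} [Fact p.Prime] (hS : IsPGroup p S) (F : FusionSystem S)
    (hF : F.IsSaturated p) (hCI : CI p S) {P : Subgroup Ω} (hP : F.IsEssential p P) :
    Nonempty (EPack F p P) := by
  have hpp : p.Prime := Fact.out
  have hPS := hP.1.1
  have hfinP : Finite P := finite_of_le hPS
  have hmid := mid_of_essential hS F hF hP
  have hcards := hCI.card_mid hmid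
  have hnorm' : (P.subgroupOf S).Normal := hCI.normal_of_le hmid.le
  have hPab' := hCI.comm_mid hmid
  have hab : ∀ a b : P, a * b = b * a := by
    intro a b
    have h1 := hPab' (Subgroup.inclusion hPS a) a.2 (Subgroup.inclusion hPS b) b.2
    apply Subtype.ext
    exact congrArg (fun w : S => (w : Ω)) h1
  have hSN : S ≤ Subgroup.normalizer (P : Set Ω) := by
    intro g hg
    apply mem_normalizer_of_conj_mem_finite
    intro y hy
    have := hnorm'.conj_mem ⟨y, hPS hy⟩ hy ⟨g, hg⟩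
    exact this
  have hne : P ≠ S := Cfsg.Agent.Lib.Helper27.essential_ne_top hS F hF hP
  obtain ⟨s, hsS, hsP⟩ := SetLike.exists_of_lt (lt_of_le_of_ne hPS hne)
  have hsN := hSN hsS
  obtain ⟨t, ht⟩ : ∃ t, t = P.normalizerMonoidHom ⟨s, hsN⟩ := ⟨_, rfl⟩
  have htval : ∀ x : P, ((t x : P) : Ω) = s * x * s⁻¹ := fun x => by rw [ht]; rfl
  have htS : t ∈ autInducedBy S P := ht ▸ normalizerMonoidHom_mem_autInducedBy hsS hsN
  have htA : t ∈ F.autGroup P := autInducedBy_le_autGroup F hPS htS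
  obtain ⟨H₁, hH₁⟩ : ∃ H₁, H₁ = (Subgroup.center S).comap (Subgroup.inclusion hPS) := ⟨_, rfl⟩
  have hmemH₁ : ∀ y : P, y ∈ H₁ ↔ Subgroup.inclusion hPS y ∈ Subgroup.center S := by
    intro y; rw [hH₁]; rfl
  -- the transvection
  have htr : IsTransv H₁ t := by
    refine ⟨fun y hy => ?_, fun y => ?_⟩
    · apply Subtype.ext
      rw [htval]
      have h1 := Subgroup.mem_center_iff.mp ((hmemH₁ y).mp hy) ⟨s, hsS⟩
      have h2 : s * (y : Ω) = y * s := congrArg (fun w : S => (w : Ω)) h1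
      rw [h2, mul_inv_cancel_right]
    · rw [hmemH₁]
      have : Subgroup.inclusion hPS (y⁻¹ * t y) = ⁅(Subgroup.inclusion hPS y)⁻¹, (⟨s, hsS⟩ : S)⁆ := by
        apply Subtype.ext
        rw [commutatorElement_def]
        show (y : Ω)⁻¹ * ((t y : P) : Ω) = (y : Ω)⁻¹ * s * ((y : Ω)⁻¹)⁻¹ * s⁻¹
        rw [htval]
        group
      rw [this]
      exact hCI.comm_mem_center _ _
  have hcardH₁ : Nat.card H₁ = Nat.card (Subgroup.center S) := by
    have hbij : Function.Bijective (fun y : H₁ =>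
        (⟨Subgroup.inclusion hPS (y : P), (hmemH₁ y).mp y.2⟩ : Subgroup.center S)) := by
      constructor
      · intro a b hab'
        have h1 : Subgroup.inclusion hPS (a : P) = Subgroup.inclusion hPS (b : P) :=
          congrArg Subtype.val hab'
        exact Subtype.ext (Subgroup.inclusion_injective hPS h1)
      · rintro ⟨z, hz⟩
        have hzP : (z : Ω) ∈ P := hmid.le hz
        refine ⟨⟨⟨z, hzP⟩, ?_⟩, ?_⟩
        · rw [hmemH₁]
          have : Subgroup.inclusion hPS ⟨(z : Ω), hzP⟩ = z := Subtype.ext rfl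
          rw [this]
          exact hz
        · apply Subtype.ext
          exact Subtype.ext rfl
    exact Nat.card_congr (Equiv.ofBijective _ hbij)
  have hcardP : Nat.card P = Nat.card (P.subgroupOf S) :=
    Nat.card_congr (Subgroup.subgroupOfEquivOfLe hPS).toEquiv.symm
  have hcomm_s : t ≠ 1 := by
    intro e
    apply hsP
    have := hCI.self_centralizing hmid (g := ⟨s, hsS⟩) (by
      intro x hx
      apply Subtype.ext
      have h1 := htval ⟨x, hx⟩
      rw [e, MulAut.one_apply] at h1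
      show s * (x : Ω) = x * s
      have h2 : (x : Ω) = s * x * s⁻¹ := h1
      calc s * (x : Ω) = s * x * s⁻¹ * s := by group
        _ = x * s := by rw [← h2])
    exact this
  have htv : Tv p hab t H₁ := ⟨htr, by rw [hcardP, hcards.1, hcardH₁], hcomm_s⟩
  -- `Aut_S(P) = ⟨t⟩`
  have hautS : autInducedBy S P = Subgroup.zpowers t := by
    apply le_antisymm
    · intro α hα
      obtain ⟨g, hgS, hα⟩ := (mem_autInducedBy_iff S P α).mp hα
      obtain ⟨i, hi⟩ := CI.decomp hcards.2 (P := P.subgroupOf S) (s := ⟨s, hsS⟩) hsP ⟨g, hgS⟩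
      have hu : g * (s ^ i)⁻¹ ∈ P := by
        have : ((⟨g, hgS⟩ * ((⟨s, hsS⟩ : S) ^ i)⁻¹ : S) : Ω) ∈ P := hi
        simpa using this
      have : α = t ^ i := by
        ext x
        rw [hα, aut_pow_apply_of_conj t s htval]
        have hyP : s ^ i * (x : Ω) * (s ^ i)⁻¹ ∈ P := by
          rw [← aut_pow_apply_of_conj t s htval]
          exact ((t ^ i) x).2
        have hc := hab ⟨_, hu⟩ ⟨_, hyP⟩
        have hc' : g * (s ^ i)⁻¹ * (s ^ i * (x : Ω) * (s ^ i)⁻¹) = s ^ i * (x : Ω) * (s ^ i)⁻¹ * (g * (s ^ i)⁻¹) :=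
          congrArg (fun w : P => (w : Ω)) hc
        calc g * (x : Ω) * g⁻¹ = (g * (s ^ i)⁻¹ * (s ^ i * (x : Ω) * (s ^ i)⁻¹)) * (g * (s ^ i)⁻¹)⁻¹ := by group
          _ = s ^ i * (x : Ω) * (s ^ i)⁻¹ := by rw [hc']; group
      rw [this]
      exact Subgroup.pow_mem _ (Subgroup.mem_zpowers t) i
    · exact Subgroup.zpowers_le.mpr htS
  have hFA := (saturated_fn hS F hF hP.2.1).2
  have hsyl : ∀ B : Subgroup (MulAut P), B ≤ F.autGroup P → IsPGroup p B →
      ∃ χ ∈ F.autGroup P, ∀ β ∈ B, χ * β * χ⁻¹ ∈ Subgroup.zpowers t := by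
    intro B hB hBp
    obtain ⟨χ, hχ, hχB⟩ := exists_conj_mem_autInducedBy F hFA B hB hBp
    exact ⟨χ, hχ, fun β hβ => hautS ▸ hχB β hβ⟩
  -- a conjugate outside `⟨t⟩`
  have hγ : ∃ γ ∈ F.autGroup P, γ * t * γ⁻¹ ∉ Subgroup.zpowers t := by
    by_contra hcon
    push Not at hcon
    have hd := essData_of_essential hS F hP
    have hN : ((Subgroup.zpowers t).subgroupOf (F.autGroup P)).Normal := by
      constructor
      intro n hn g
      rw [Subgroup.mem_subgroupOf] at hn ⊢
      obtain ⟨k, hk⟩ := Subgroup.mem_zpowers_iff.mp hn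
      show (g : MulAut P) * (n : MulAut P) * (g : MulAut P)⁻¹ ∈ Subgroup.zpowers t
      rw [← hk, ← conj_zpow]
      exact Subgroup.zpow_mem _ (hcon g g.2) k
    have hNp : IsPGroup p ((Subgroup.zpowers t).subgroupOf (F.autGroup P)) := by
      have h0 : IsPGroup p (Subgroup.zpowers t) := IsPGroup.of_card (n := 1) (by rw [htv.card_zpowers, pow_one])
      exact h0.comap_subtype
    have hbot := (hd.of_comm hab).2 _ hN hNp
    have hmem : (⟨t, htA⟩ : F.autGroup P) ∈ (Subgroup.zpowers t).subgroupOf (F.autGroup P) := by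
      rw [Subgroup.mem_subgroupOf]
      exact Subgroup.mem_zpowers t
    rw [hbot, Subgroup.mem_bot] at hmem
    exact hcomm_s (congrArg Subtype.val hmem)
  obtain ⟨γ, hγA, hγn⟩ := hγ
  have hpair : TTPair p hab (F.autGroup P) t γ H₁ := ⟨hS.to_le hPS, htA, hγA, htv, hsyl, hγn⟩
  subst ht hH₁
  exact ⟨⟨hPS, hab, s, hsS, hsP, hsN, γ, hpair, hautS, hSN, hP.2.1, hmid⟩⟩

end Cfsg.Agent.Lib.Helper26
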