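import Cfsg.Agent.Lib.Helper26.CenIdxC

/-!
Consequences of the transvection pair attached to an essential subgroup, read inside the group `↥S`.
-/

set_option autoImplicit false
set_option linter.unusedSectionVars false
set_option linter.style.haveILetI false
universe u

namespace Cfsg.Agent.Lib.Helper26

open Cfsg Cfsg.FusionSystem
open scoped commutatorElement

variable {Ω : Type u} [Group Ω] {S : Subgroup Ω} [Finite S] {p : ℕ} [Fact p.Prime] {F : FusionSystem S}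
  {P : Subgroup Ω}

namespace EPack

/-- The inclusion of `P` in `S`. -/
def ι (K : EPack F p P) : P →* S := Subgroup.inclusion K.hPS

/-- The transvection induced by `s`. -/
def t (K : EPack F p P) : MulAut P := P.normalizerMonoidHom ⟨K.s, K.hsN⟩

theorem pair' (K : EPack F p P) : TTPair p K.hab (F.autGroup P) K.t K.γ
    ((Subgroup.center S).comap (Subgroup.inclusion K.hPS)) := K.pair

/-- `C_P` inside `↥S`. -/
def C' (K : EPack F p P) : Subgroup S := K.pair'.C.map K.ι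

/-- `V_P` inside `↥S`. -/
def V' (K : EPack F p P) : Subgroup S := K.pair'.V.map K.ι

/-- The centre `[P, s]` of the transvection inside `↥S`. -/
def D' (K : EPack F p P) : Subgroup S := (tCen K.hab K.t).map K.ι

theorem ι_injective (K : EPack F p P) : Function.Injective K.ι := Subgroup.inclusion_injective K.hPS

theorem ι_val (K : EPack F p P) (y : P) : ((K.ι y : S) : Ω) = y := rfl

theorem exists_ι_eq (K : EPack F p P) {x : S} (hx : x ∈ P.subgroupOf S) : ∃ y : P, K.ι y = x :=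
  ⟨⟨x, hx⟩, Subtype.ext rfl⟩

theorem ι_mem (K : EPack F p P) (y : P) : K.ι y ∈ P.subgroupOf S := y.2

theorem finiteP (K : EPack F p P) : Finite P := finite_of_le K.hPS

theorem mem_H₁ (K : EPack F p P) (y : P) :
    y ∈ (Subgroup.center S).comap (Subgroup.inclusion K.hPS) ↔ K.ι y ∈ Subgroup.center S := Iff.rfl

theorem mem_C' (K : EPack F p P) (y : P) : K.ι y ∈ K.C' ↔ y ∈ K.pair'.C := by
  constructor
  · rintro ⟨c, hc, hcy⟩
    rwa [← K.ι_injective hcy]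
  · intro h
    exact ⟨y, h, rfl⟩

theorem mem_V' (K : EPack F p P) (y : P) : K.ι y ∈ K.V' ↔ y ∈ K.pair'.V := by
  constructor
  · rintro ⟨c, hc, hcy⟩
    rwa [← K.ι_injective hcy]
  · intro h
    exact ⟨y, h, rfl⟩

theorem mem_D' (K : EPack F p P) (y : P) : K.ι y ∈ K.D' ↔ y ∈ tCen K.hab K.t := by
  constructor
  · rintro ⟨c, hc, hcy⟩
    rwa [← K.ι_injective hcy]
  · intro h
    exact ⟨y, h, rfl⟩

theorem D'_le_center (K : EPack F p P) : K.D' ≤ Subgroup.center S := by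
  rintro _ ⟨d, hd, rfl⟩
  haveI := K.finiteP
  exact (K.mem_H₁ d).mp (K.pair'.tv.tCen_le hd)

theorem C'_le_center (K : EPack F p P) : K.C' ≤ Subgroup.center S := by
  rintro _ ⟨c, hc, rfl⟩
  haveI := K.finiteP
  exact (K.mem_H₁ c).mp (K.pair'.C_le hc)

theorem D'_le_V' (K : EPack F p P) : K.D' ≤ K.V' := by
  rintro _ ⟨d, hd, rfl⟩
  haveI := K.finiteP
  exact ⟨d, K.pair'.cen_le_V hd, rfl⟩

theorem V'_le (K : EPack F p P) : K.V' ≤ P.subgroupOf S := by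
  rintro _ ⟨v, -, rfl⟩
  exact K.ι_mem v

theorem center_le (K : EPack F p P) : Subgroup.center S ≤ P.subgroupOf S := K.hmid.le

theorem D'_pow (K : EPack F p P) {d : S} (hd : d ∈ K.D') : d ^ p = 1 := by
  obtain ⟨d₀, hd₀, rfl⟩ := hd
  haveI := K.finiteP
  rw [← map_pow, K.pair'.tv.pow_eq_one_of_mem_tCen hd₀, map_one]

theorem card_D' (K : EPack F p P) : Nat.card K.D' = p := by
  haveI := K.finiteP
  unfold D'
  rw [Subgroup.card_map_of_injective K.ι_injective]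
  exact K.pair'.tv.card_tCen

theorem card_center (hCI : CI p S) (K : EPack F p P) : Nat.card (Subgroup.center S) = p * Nat.card K.C' := by
  haveI := K.finiteP
  have hpp : p.Prime := Fact.out
  have h1 := K.pair'.tv.idx
  have h2 := K.pair'.card_H₁
  have h3 : Nat.card P = Nat.card (P.subgroupOf S) :=
    Nat.card_congr (Subgroup.subgroupOfEquivOfLe K.hPS).toEquiv.symm
  have h4 : Nat.card K.C' = Nat.card K.pair'.C := by
    unfold C'
    rw [Subgroup.card_map_of_injective K.ι_injective]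
  rw [h4, ← h2]
  have h5 := (hCI.card_mid K.hmid).1
  rw [← h3, h1] at h5
  exact (Nat.eq_of_mul_eq_mul_left hpp.pos h5).symm

theorem comm_mem_D' (hCI : CI p S) (K : EPack F p P) (x y : S) : ⁅x, y⁆ ∈ K.D' := by
  haveI := K.finiteP
  haveI : (P.subgroupOf S).Normal := hCI.normal_of_le K.hmid.le
  apply comm_mem_of_central K.D' K.D'_le_center (hCI.comm_mid K.hmid) (hCI.card_mid K.hmid).2
    (s := ⟨K.s, K.hsS⟩) K.hsP
  intro u hu
  exact ⟨(⟨u, hu⟩ : P)⁻¹ * K.t ⟨u, hu⟩, w_mem_tCen K.hab K.t _, Subtype.ext rfl⟩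

theorem D'_eq (hCI : CI p S) (K : EPack F p P) : K.D' = commutator S := by
  apply le_antisymm
  · rintro _ ⟨_, ⟨y, rfl⟩, rfl⟩
    have : K.ι (wHom K.hab K.t y) = ⁅(K.ι y)⁻¹, (⟨K.s, K.hsS⟩ : S)⁆ := by
      apply Subtype.ext
      rw [commutatorElement_def]
      show (y : Ω)⁻¹ * (K.s * y * K.s⁻¹) = (y : Ω)⁻¹ * K.s * ((y : Ω)⁻¹)⁻¹ * K.s⁻¹
      group
    rw [this, commutator_def]
    exact Subgroup.commutator_mem_commutator (Subgroup.mem_top _) (Subgroup.mem_top _)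
  · rw [commutator_def, Subgroup.commutator_le]
    intro x _ y _
    exact K.comm_mem_D' hCI x y

theorem center_decomp (K : EPack F p P) {z : S} (hz : z ∈ Subgroup.center S) :
    ∃ c ∈ K.C', ∃ d ∈ K.D', z = c * d := by
  haveI := K.finiteP
  obtain ⟨y, rfl⟩ := K.exists_ι_eq (K.center_le hz)
  obtain ⟨c, hc, d, hd, rfl⟩ := K.pair'.H₁_decomp ((K.mem_H₁ y).mpr hz)
  exact ⟨K.ι c, ⟨c, hc, rfl⟩, K.ι d, ⟨d, hd, rfl⟩, map_mul _ _ _⟩

theorem C'_inf_D' (K : EPack F p P) {x : S} (hC : x ∈ K.C') (hD : x ∈ K.D') : x = 1 := by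
  haveI := K.finiteP
  obtain ⟨c, hc, rfl⟩ := hC
  rw [K.mem_D'] at hD
  rw [K.pair'.C_inf_cen hc hD, map_one]

theorem V'_inf_center (K : EPack F p P) {v : S} (hV : v ∈ K.V') (hz : v ∈ Subgroup.center S) : v ∈ K.D' := by
  haveI := K.finiteP
  obtain ⟨v₀, hv₀, rfl⟩ := hV
  rw [K.mem_D']
  exact K.pair'.V_inf_H₁ hv₀ ((K.mem_H₁ v₀).mpr hz)

theorem tA (K : EPack F p P) : K.t ∈ F.autGroup P := K.pair'.tA

theorem extend (hS : IsPGroup p S) (hF : F.IsSaturated p) (K : EPack F p P) {ν : MulAut P}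
    (hν : ν ∈ F.autGroup P) (hn : ν * K.t * ν⁻¹ ∈ Subgroup.zpowers K.t) :
    ∃ νh ∈ F.autGroup S, ∀ x : P, νh (K.ι x) = K.ι (ν x) := by
  apply exists_extension hS F hF K.hfn K.hSN hν
  intro α hα
  rw [K.autS] at hα ⊢
  obtain ⟨k, rfl⟩ := Subgroup.mem_zpowers_iff.mp hα
  have e : ν * P.normalizerMonoidHom ⟨K.s, K.hsN⟩ ^ k * ν⁻¹ =
      (ν * P.normalizerMonoidHom ⟨K.s, K.hsN⟩ * ν⁻¹) ^ k := conj_zpow.symm
  rw [e]
  exact Subgroup.zpow_mem _ hn k

theorem factor (hS : IsPGroup p S) (hF : F.IsSaturated p) (K : EPack F p P) {δ : MulAut P}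
    (hδ : δ ∈ F.autGroup P) :
    ∃ ℓ ∈ F.autGroup P, ∃ ν ∈ F.autGroup P, ∃ νh ∈ F.autGroup S, δ = ℓ * ν ∧ (∀ c ∈ K.pair'.C, ℓ c = c) ∧
      (∀ y, y⁻¹ * ℓ y ∈ K.pair'.V) ∧ ∀ x, νh (K.ι x) = K.ι (ν x) := by
  haveI := K.finiteP
  obtain ⟨ℓ, hℓA, hℓC, hℓV, hconj⟩ := K.pair'.frattini' hδ
  have hνA : ℓ⁻¹ * δ ∈ F.autGroup P := mul_mem (inv_mem hℓA) hδ
  obtain ⟨νh, hνh, hext⟩ := K.extend hS hF hνA hconj
  exact ⟨ℓ, hℓA, ℓ⁻¹ * δ, hνA, νh, hνh, by group, hℓC, hℓV, hext⟩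

theorem torus' (hS : IsPGroup p S) (hF : F.IsSaturated p) (K : EPack F p P) :
    ∃ a ∈ F.autGroup S, (∀ c ∈ K.C', a c = c) ∧ (∀ v ∈ K.V', a v = v⁻¹) := by
  haveI := K.finiteP
  obtain ⟨η, hηA, hηC, hηV, hcomm⟩ := K.pair'.torus
  have hn : η * K.t * η⁻¹ ∈ Subgroup.zpowers K.t := by
    rw [hcomm, mul_inv_cancel_right]
    exact Subgroup.mem_zpowers _
  obtain ⟨a, haB, hext⟩ := K.extend hS hF hηA hn
  refine ⟨a, haB, ?_, ?_⟩
  · rintro _ ⟨c, hc, rfl⟩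
    rw [hext, hηC c hc]
  · rintro _ ⟨v, hv, rfl⟩
    rw [hext, hηV v hv, map_inv]

theorem C'_inv (K : EPack F p P) {δ : MulAut P} (hδ : δ ∈ F.autGroup P) {y : P} (hy : K.ι y ∈ K.C') :
    K.ι (δ y) ∈ K.C' := by
  haveI := K.finiteP
  rw [K.mem_C'] at hy ⊢
  exact (K.pair'.C_inv hδ y).mp hy

theorem pow_p (K : EPack F p P) (y : P) : ∃ c ∈ K.C', (K.ι y) ^ p = c ^ p := by
  haveI := K.finiteP
  obtain ⟨c, hc, hyc⟩ := K.pair'.pow_p_eq y
  exact ⟨K.ι c, ⟨c, hc, rfl⟩, by rw [← map_pow, hyc, map_pow]⟩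

end EPack

end Cfsg.Agent.Lib.Helper26
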