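import Cfsg.Agent.Lib.Helper26.CenIdxD

/-!
Reflections of the centre (odd `p`): the complement `C_P` of `[S,S]` in `Z(S)` attached to an essential subgroup is
invariant under `Aut_F(S)` and does not depend on the essential subgroup.
-/

set_option autoImplicit false
set_option linter.unusedSectionVars false
set_option linter.style.haveILetI false
universe u

namespace Cfsg.Agent.Lib.Helper26

open Cfsg Cfsg.FusionSystem
open scoped commutatorElement

section Refl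

variable {G : Type u} [Group G] {p : ℕ} [Fact p.Prime]

theorem aut_mem_center (β : MulAut G) {z : G} (hz : z ∈ Subgroup.center G) : β z ∈ Subgroup.center G := by
  rw [Subgroup.mem_center_iff] at hz ⊢
  intro g
  have h1 := hz (β⁻¹ g)
  have h2 := congrArg β h1
  rwa [map_mul, map_mul, MulAut.apply_inv_self] at h2

/-- A reflection of the centre: `a` fixes `C` pointwise, inverts `D`, and `Z = C × D`. -/
structure IsRefl (B : Subgroup (MulAut G)) (D : Subgroup G) (a : MulAut G) (C : Subgroup G) : Prop where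
  aB : a ∈ B
  le : C ≤ Subgroup.center G
  fix : ∀ c ∈ C, a c = c
  inv : ∀ d ∈ D, a d = d⁻¹
  decomp : ∀ z ∈ Subgroup.center G, ∃ c ∈ C, ∃ d ∈ D, z = c * d
  disj : ∀ x ∈ C, x ∈ D → x = 1

/-- The ambient hypotheses. -/
structure ReflCtx (p : ℕ) (B : Subgroup (MulAut G)) (D : Subgroup G) : Prop where
  hDZ : D ≤ Subgroup.center G
  hDB : ∀ β ∈ B, ∀ d ∈ D, β d ∈ D
  hDp : ∀ d ∈ D, d ^ p = 1
  hp2 : p ≠ 2
  ztriv : ∀ κ ∈ B, (∀ d ∈ D, κ d = d) → (∀ z ∈ Subgroup.center G, z⁻¹ * κ z ∈ D) →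
    ∀ z ∈ Subgroup.center G, κ z = z

variable {B : Subgroup (MulAut G)} {D : Subgroup G}

theorem IsRefl.unip {a : MulAut G} {C : Subgroup G} (h : IsRefl B D a C) {z : G}
    (hz : z ∈ Subgroup.center G) : z⁻¹ * a z ∈ D := by
  obtain ⟨c, hc, d, hd, rfl⟩ := h.decomp z hz
  rw [map_mul, h.fix c hc, h.inv d hd]
  have : (c * d)⁻¹ * (c * d⁻¹) = d⁻¹ * d⁻¹ := by group
  rw [this]
  exact D.mul_mem (D.inv_mem hd) (D.inv_mem hd)

theorem IsRefl.fix_mem (ctx : ReflCtx p B D) {a : MulAut G} {C : Subgroup G} (h : IsRefl B D a C) {z : G}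
    (hz : z ∈ Subgroup.center G) (hfix : a z = z) : z ∈ C := by
  have hpp : p.Prime := Fact.out
  obtain ⟨c, hc, d, hd, rfl⟩ := h.decomp z hz
  rw [map_mul, h.fix c hc, h.inv d hd] at hfix
  have h1 : d⁻¹ = d := mul_left_cancel hfix
  have h2 : d ^ 2 = 1 := by
    rw [pow_two]
    nth_rewrite 1 [← h1]
    exact inv_mul_cancel d
  have h3 : orderOf d ∣ 2 := orderOf_dvd_of_pow_eq_one h2
  have h4 : orderOf d ∣ p := orderOf_dvd_of_pow_eq_one (ctx.hDp d hd)
  have hcop : Nat.Coprime 2 p := (Nat.coprime_primes Nat.prime_two hpp).mpr (Ne.symm ctx.hp2)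
  have h5 : orderOf d ∣ 1 := by
    have := Nat.dvd_gcd h3 h4
    rwa [hcop.gcd_eq_one] at this
  have h6 : d = 1 := orderOf_eq_one_iff.mp (Nat.dvd_one.mp h5)
  rw [h6, mul_one]
  exact hc

theorem IsRefl.invB (ctx : ReflCtx p B D) {a : MulAut G} {C : Subgroup G} (h : IsRefl B D a C)
    {β : MulAut G} (hβ : β ∈ B) {c : G} (hc : c ∈ C) : β c ∈ C := by
  have hcZ := h.le hc
  apply h.fix_mem ctx (aut_mem_center β hcZ)
  -- `κ = (β⁻¹ a β) a⁻¹` is trivial on the centre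
  have hκB : β⁻¹ * a * β * a⁻¹ ∈ B := B.mul_mem (B.mul_mem (B.mul_mem (B.inv_mem hβ) h.aB) hβ) (B.inv_mem h.aB)
  have hainv : ∀ d ∈ D, a⁻¹ d = d⁻¹ := by
    intro d hd
    have := h.inv d⁻¹ (D.inv_mem hd)
    rw [inv_inv] at this
    rw [MulAut.inv_apply, MulEquiv.symm_apply_eq]
    exact this.symm
  have h1 : ∀ d ∈ D, (β⁻¹ * a * β * a⁻¹) d = d := by
    intro d hd
    simp only [MulAut.mul_apply]
    rw [hainv d hd, map_inv, h.inv _ (D.inv_mem (ctx.hDB β hβ d hd)), inv_inv, MulAut.inv_apply_self]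
  have h2 : ∀ z ∈ Subgroup.center G, z⁻¹ * (β⁻¹ * a * β * a⁻¹) z ∈ D := by
    intro z hz
    obtain ⟨y, hy⟩ : ∃ y, y = a⁻¹ z := ⟨_, rfl⟩
    have hyZ : y ∈ Subgroup.center G := hy ▸ aut_mem_center a⁻¹ hz
    have hzy : z = a y := by rw [hy, MulAut.apply_inv_self]
    have e1 : z⁻¹ * y ∈ D := by
      have := D.inv_mem (h.unip hyZ)
      rw [← hzy] at this
      have e : (y⁻¹ * z)⁻¹ = z⁻¹ * y := by group
      rwa [e] at this
    have e2 : y⁻¹ * β⁻¹ (a (β y)) ∈ D := by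
      have h3 := h.unip (aut_mem_center β hyZ)
      have h4 := ctx.hDB β⁻¹ (B.inv_mem hβ) _ h3
      rwa [map_mul, map_inv, MulAut.inv_apply_self] at h4
    simp only [MulAut.mul_apply]
    rw [← hy]
    have : z⁻¹ * β⁻¹ (a (β y)) = (z⁻¹ * y) * (y⁻¹ * β⁻¹ (a (β y))) := by group
    rw [this]
    exact D.mul_mem e1 e2
  have h3 := ctx.ztriv _ hκB h1 h2 c hcZ
  simp only [MulAut.mul_apply] at h3
  have hac : a⁻¹ c = c := by
    rw [MulAut.inv_apply, MulEquiv.symm_apply_eq]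
    exact (h.fix c hc).symm
  rw [hac] at h3
  have := congrArg β h3
  rwa [MulAut.apply_inv_self] at this

theorem IsRefl.le_of (ctx : ReflCtx p B D) {a a₂ : MulAut G} {C C₂ : Subgroup G} (h : IsRefl B D a C)
    (h₂ : IsRefl B D a₂ C₂) : C ≤ C₂ := by
  intro c hc
  have hcZ := h.le hc
  apply h₂.fix_mem ctx hcZ
  have h1 : a₂ c ∈ C := h.invB ctx h₂.aB hc
  have h2 : c⁻¹ * a₂ c ∈ C := C.mul_mem (C.inv_mem hc) h1
  have h3 : c⁻¹ * a₂ c ∈ D := h₂.unip hcZ
  exact (inv_mul_eq_one.mp (h.disj _ h2 h3)).symm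

end Refl

section ZTriv

variable {Ω : Type u} [Group Ω] {S : Subgroup Ω} [Finite S] {p : ℕ} [Fact p.Prime]

/-- An element of `Aut_F(S)` acting trivially on `D` (of exponent `p`) and on `Z(S)/D` acts trivially on `Z(S)`. -/
theorem ztriv_of (hS : IsPGroup p S) (F : FusionSystem S) (hF : F.IsSaturated p) (D : Subgroup S)
    (hDp : ∀ d ∈ D, d ^ p = 1) {κ : MulAut S} (hκ : κ ∈ F.autGroup S) (h1 : ∀ d ∈ D, κ d = d)
    (h2 : ∀ z ∈ Subgroup.center S, z⁻¹ * κ z ∈ D) : ∀ z ∈ Subgroup.center S, κ z = z := by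
  have hpp : p.Prime := Fact.out
  intro z hz
  obtain ⟨f, hf⟩ : ∃ f, f = z⁻¹ * κ z := ⟨_, rfl⟩
  have hfD : f ∈ D := hf ▸ h2 z hz
  have hκz : κ z = z * f := by rw [hf]; group
  have hpow : ∀ n : ℕ, (κ ^ n) z = z * f ^ n := by
    intro n
    induction n with
    | zero => simp
    | succ n ih =>
      rw [pow_succ', MulAut.mul_apply, ih, map_mul, map_pow, h1 f hfD, hκz, pow_succ', mul_assoc]
  obtain ⟨m, hm, hinn⟩ := exists_pow_mem_inn hS F hF hκ
  obtain ⟨g, hg⟩ := hinn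
  have h3 : (κ ^ m) z = z := by
    rw [← hg, MulAut.conj_apply, Subgroup.mem_center_iff.mp hz g, mul_inv_cancel_right]
  rw [hpow m] at h3
  have h4 : f ^ m = 1 := by
    have := mul_left_cancel (h3.trans (mul_one z).symm)
    exact this
  have h5 : orderOf f ∣ m := orderOf_dvd_of_pow_eq_one h4
  have h6 : orderOf f ∣ p := orderOf_dvd_of_pow_eq_one (hDp f hfD)
  have hcop : Nat.Coprime p m := (Nat.Prime.coprime_iff_not_dvd hpp).mpr hm
  have h7 : orderOf f ∣ 1 := by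
    have := Nat.dvd_gcd h6 h5
    rwa [hcop.gcd_eq_one] at this
  have h8 : f = 1 := orderOf_eq_one_iff.mp (Nat.dvd_one.mp h7)
  rw [hκz, h8, mul_one]

end ZTriv

end Cfsg.Agent.Lib.Helper26
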