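import Cfsg.Agent.Lib.Helper26.CenIdxE
import Cfsg.Agent.Lib.Helper17.Extraspecial3

/-!
Odd `p`: a saturated fusion system with `O_p(F) = 1` over a `p`-group whose centre has index `p²` has `|Z(S)| = p`
and `S` of exponent `p`.
-/

set_option autoImplicit false
set_option linter.unusedSectionVars false
set_option linter.style.haveILetI false
universe u

namespace Cfsg.Agent.Lib.Helper26

open Cfsg Cfsg.FusionSystem
open scoped commutatorElement

variable {Ω : Type u} [Group Ω] {S : Subgroup Ω} [Finite S] {p : ℕ} [Fact p.Prime] {F : FusionSystem S}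

theorem EPack.exists_refl (hS : IsPGroup p S) (hF : F.IsSaturated p) (hCI : CI p S) {P : Subgroup Ω}
    (K : EPack F p P) : ∃ a, IsRefl (F.autGroup S) (commutator S) a K.C' := by
  obtain ⟨a, haB, haC, haV⟩ := K.torus' hS hF
  refine ⟨a, haB, K.C'_le_center, haC, ?_, ?_, ?_⟩
  · intro d hd
    rw [← K.D'_eq hCI] at hd
    exact haV d (K.D'_le_V' hd)
  · intro z hz
    obtain ⟨c, hc, d, hd, rfl⟩ := K.center_decomp hz
    exact ⟨c, hc, d, (K.D'_eq hCI) ▸ hd, rfl⟩
  · intro x hC hD
    exact K.C'_inf_D' hC ((K.D'_eq hCI).symm ▸ hD)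

theorem EPack.reflCtx (hS : IsPGroup p S) (hF : F.IsSaturated p) (hCI : CI p S) (hp2 : p ≠ 2) {P : Subgroup Ω}
    (K : EPack F p P) : ReflCtx p (F.autGroup S) (commutator S) := by
  have hDp : ∀ d ∈ commutator S, d ^ p = 1 := fun d hd => K.D'_pow ((K.D'_eq hCI).symm ▸ hd)
  refine ⟨(K.D'_eq hCI) ▸ K.D'_le_center, fun β _ d hd => (char_inv (commutator S) β d).mp hd, hDp, hp2, ?_⟩
  intro κ hκ h1 h2
  exact ztriv_of hS F hF (commutator S) hDp hκ h1 h2

/-- Odd `p`: the centre has order `p`, and the subgroups `C_P` are trivial. -/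
theorem card_center_of_odd (hS : IsPGroup p S) (hF : F.IsSaturated p) (hcore : F.core = ⊥) (hCI : CI p S)
    (hp2 : p ≠ 2) (K : ∀ P : Subgroup Ω, F.IsEssential p P → EPack F p P) {P₀ : Subgroup Ω}
    (hP₀ : F.IsEssential p P₀) :
    Nat.card (Subgroup.center S) = p ∧ ∀ (P : Subgroup Ω) (hP : F.IsEssential p P), (K P hP).C' = ⊥ := by
  have ctx := (K P₀ hP₀).reflCtx hS hF hCI hp2
  obtain ⟨a₀, r₀⟩ := (K P₀ hP₀).exists_refl hS hF hCI
  have hEq : ∀ (P : Subgroup Ω) (hP : F.IsEssential p P), (K P hP).C' = (K P₀ hP₀).C' := by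
    intro P hP
    obtain ⟨a, r⟩ := (K P hP).exists_refl hS hF hCI
    exact le_antisymm (r.le_of ctx r₀) (r₀.le_of ctx r)
  have hbot : (K P₀ hP₀).C' = ⊥ := by
    apply eq_bot_of_core hS F hF hcore
    · intro β hβ x hx
      exact r₀.invB ctx hβ hx
    · intro P hP
      refine ⟨fun x hx => ?_, fun δ hδ y hy => ?_⟩
      · exact (K P hP).center_le ((K P₀ hP₀).C'_le_center hx)
      · rw [← hEq P hP] at hy ⊢
        exact (K P hP).C'_inv hδ hy
  refine ⟨?_, fun P hP => (hEq P hP).trans hbot⟩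
  rw [(K P₀ hP₀).card_center hCI, hbot, Subgroup.card_bot, mul_one]

/-- Odd `p`: exponent `p`. -/
theorem pow_eq_one_of_odd (hS : IsPGroup p S) (hF : F.IsSaturated p) (hcore : F.core = ⊥) (hCI : CI p S)
    (hp2 : p ≠ 2) (K : ∀ P : Subgroup Ω, F.IsEssential p P → EPack F p P)
    (hZ : Nat.card (Subgroup.center S) = p)
    (hC : ∀ (P : Subgroup Ω) (hP : F.IsEssential p P), (K P hP).C' = ⊥) : ∀ x : S, x ^ p = 1 := by
  have hpp : p.Prime := Fact.out
  have hcard : Nat.card S = p ^ 3 := by rw [hCI.card, hZ]; ring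
  obtain ⟨hcomm, -, -⟩ := cube_structure hcard hCI.not_comm
  have hZp : ∀ z ∈ Subgroup.center S, z ^ p = 1 := by
    intro z hz
    have := pow_card_eq_one' (G := Subgroup.center S) (x := ⟨z, hz⟩)
    rw [hZ] at this
    exact congrArg Subtype.val this
  have hmul : ∀ a b : S, (a * b) ^ p = a ^ p * b ^ p := fun a b =>
    Cfsg.Agent.Lib.Helper20.mul_pow_prime_of_central hpp hp2 a b
      (fun g => Subgroup.mem_center_iff.mp (hcomm b a) g) (hZp _ (hcomm b a))
  let E : Subgroup S :=
    { carrier := {x | x ^ p = 1}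
      one_mem' := one_pow p
      mul_mem' := by
        intro a b ha hb
        show (a * b) ^ p = 1
        rw [hmul, ha, hb, one_mul]
      inv_mem' := by
        intro a ha
        show a⁻¹ ^ p = 1
        rw [inv_pow, ha, inv_one] }
  have hmemE : ∀ x : S, x ∈ E ↔ x ^ p = 1 := fun x => Iff.rfl
  by_contra hcon
  push Not at hcon
  obtain ⟨x₀, hx₀⟩ := hcon
  have hEtop : E ≠ ⊤ := by
    intro h
    apply hx₀
    rw [← hmemE, h]
    exact Subgroup.mem_top _
  have hbot : E = ⊥ := by
    apply eq_bot_of_core hS F hF hcore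
    · intro β _ x hx
      rw [hmemE] at hx ⊢
      rw [← map_pow, hx, map_one]
    · intro P hP
      have hle : P.subgroupOf S ≤ E := by
        intro x hx
        obtain ⟨y, rfl⟩ := (K P hP).exists_ι_eq hx
        obtain ⟨c, hc, hyc⟩ := (K P hP).pow_p y
        rw [hC P hP, Subgroup.mem_bot] at hc
        rw [hmemE, hyc, hc, one_pow]
      have hcardP : Nat.card (P.subgroupOf S) = p ^ 2 := by
        rw [(hCI.card_mid (K P hP).hmid).1, hZ, pow_two]
      have hcardE : Nat.card E ≤ p ^ 2 := by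
        obtain ⟨k, hk⟩ := (hS.to_subgroup E).exists_card_eq
        have hdvd := Subgroup.card_subgroup_dvd_card E
        rw [hk, hcard] at hdvd
        have hk3 : k ≤ 3 := (Nat.pow_dvd_pow_iff_le_right hpp.one_lt).mp hdvd
        have hk3' : k ≠ 3 := by
          rintro rfl
          apply hEtop
          apply Subgroup.eq_top_of_card_eq
          rw [hk, hcard]
        rw [hk]
        exact Nat.pow_le_pow_right hpp.pos (by omega)
      have heq : P.subgroupOf S = E := Subgroup.eq_of_le_of_card_ge hle (by rw [hcardP]; exact hcardE)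
      refine ⟨fun x hx => ?_, fun δ _ y _ => ?_⟩
      · rw [← heq] at hx
        exact hx
      · rw [← heq]
        exact (K P hP).ι_mem _
  have hZbot : Subgroup.center S = ⊥ := by
    rw [eq_bot_iff, ← hbot]
    intro z hz
    exact (hmemE z).mpr (hZp z hz)
  rw [hZbot, Subgroup.card_bot] at hZ
  exact hpp.one_lt.ne hZ

end Cfsg.Agent.Lib.Helper26
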