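import Cfsg.Agent.Lib.Helper26.CenIdxA
import Cfsg.Agent.Lib.Helper26.CenIdxE

/-!
Finite `2`-groups whose centre is elementary abelian of index `4`: elementary abelian subgroups between the centre
and the group, and automorphisms of odd order modulo inner automorphisms.
-/

set_option autoImplicit false
set_option linter.unusedSectionVars false
set_option linter.style.haveILetI false
universe u

namespace Cfsg.Agent.Lib.Helper26

open Cfsg
open scoped commutatorElement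

section Two

variable {G : Type u} [Group G] [Finite G]

theorem inv_eq_self_of_sq {a : G} (h : a ^ 2 = 1) : a⁻¹ = a :=
  inv_eq_of_mul_eq_one_right (by rw [← pow_two, h])

theorem pow_eq_of_sq {a : G} (h : a ^ 2 = 1) (i : ℕ) : a ^ i = 1 ∨ a ^ i = a := by
  rcases Nat.even_or_odd i with ⟨k, rfl⟩ | ⟨k, rfl⟩
  · left
    rw [← two_mul, pow_mul, h, one_pow]
  · right
    rw [pow_succ, pow_mul, h, one_pow, one_mul]

theorem pow_odd_of_sq {a : G} (h : a ^ 2 = 1) {m : ℕ} (hm : Odd m) : a ^ m = a := by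
  obtain ⟨k, rfl⟩ := hm
  rw [pow_succ, pow_mul, h, one_pow, one_mul]

theorem eq_one_or_eq_of_card_two {H : Type*} [Group H] (hc : Nat.card H = 2) {d : H} (hd : d ≠ 1) (x : H) :
    x = 1 ∨ x = d := by
  haveI : Fact (Nat.Prime 2) := ⟨Nat.prime_two⟩
  have hfin : Finite H := Nat.finite_of_card_ne_zero (by rw [hc]; norm_num)
  have h1 := mem_zpowers_of_prime_card (G := H) hc hd (g' := x)
  rw [← mem_powers_iff_mem_zpowers, Submonoid.mem_powers_iff] at h1
  obtain ⟨k, rfl⟩ := h1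
  have hd2 : d ^ 2 = 1 := by
    have := pow_card_eq_one' (G := H) (x := d)
    rwa [hc] at this
  exact pow_eq_of_sq hd2 k

/-- `Aut`-invariance of an elementary abelian subgroup between centre and group (`p = 2`). -/
theorem CI.two_invariant (h : CI 2 G) {P : Subgroup G} (hP : CI.Mid P) (hP2 : ∀ v ∈ P, v ^ 2 = 1)
    {β : MulAut G} {m : ℕ} (hm : Odd m) (hinn : β ^ m ∈ Inn G) : ∀ x ∈ P, β x ∈ P := by
  haveI : Fact (Nat.Prime 2) := ⟨Nat.prime_two⟩
  intro x hx
  by_cases hxZ : x ∈ Subgroup.center G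
  · exact hP.le (aut_mem_center β hxZ)
  by_contra hyP
  obtain ⟨y, hy⟩ : ∃ y, y = β x := ⟨_, rfl⟩
  rw [← hy] at hyP
  have hy2 : y ^ 2 = 1 := by rw [hy, ← map_pow, hP2 x hx, map_one]
  haveI := h.normal_of_le hP.le
  obtain ⟨w, hw⟩ : ∃ w, w = β y := ⟨_, rfl⟩
  have hw2 : w ^ 2 = 1 := by rw [hw, ← map_pow, hy2, map_one]
  obtain ⟨i, hi⟩ := CI.decomp (h.card_mid hP).2 hyP w
  rcases pow_eq_of_sq hy2 i with hyi | hyi
  · -- `w ∈ P`
    rw [hyi, inv_one, mul_one] at hi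
    obtain ⟨j, hj⟩ := h.decomp_mid hP hx hxZ hi
    have hx2 := hP2 x hx
    rcases pow_eq_of_sq hx2 j with hxj | hxj
    · rw [hxj, inv_one, mul_one] at hj
      apply hyP
      apply hP.le
      have := aut_mem_center β⁻¹ hj
      rwa [hw, MulAut.inv_apply_self] at this
    · rw [hxj] at hj
      -- `β² x = z₀ x`
      have hkey : ∀ k : ℕ, (β ^ (2 * k)) x * x⁻¹ ∈ Subgroup.center G := by
        intro k
        induction k with
        | zero => simp
        | succ k ih =>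
          have e1 : β ^ (2 * (k + 1)) = β ^ (2 * k) * (β * β) := by
            rw [mul_add, pow_add, mul_one, pow_two]
          have e2 : (β * β) x = (w * x⁻¹) * x := by
            rw [MulAut.mul_apply, ← hy, ← hw]; group
          rw [e1, MulAut.mul_apply, e2, map_mul]
          have h1 := aut_mem_center (β ^ (2 * k)) hj
          have : (β ^ (2 * k)) (w * x⁻¹) * (β ^ (2 * k)) x * x⁻¹ =
              (β ^ (2 * k)) (w * x⁻¹) * ((β ^ (2 * k)) x * x⁻¹) := by group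
          rw [this]
          exact Subgroup.mul_mem _ h1 ih
      obtain ⟨k, rfl⟩ := hm
      obtain ⟨g, hg⟩ := hinn
      have h1 : (β ^ (2 * k + 1)) x = g * x * g⁻¹ := by rw [← hg, MulAut.conj_apply]
      have h2 : (β ^ (2 * k + 1)) x = β ((β ^ (2 * k)) x * x⁻¹) * y := by
        rw [pow_succ', MulAut.mul_apply, hy, ← map_mul]
        congr 1
        group
      have h3 : ⁅g, x⁆ ∈ Subgroup.center G := h.comm_mem_center g x
      have h4 : β ((β ^ (2 * k)) x * x⁻¹) ∈ Subgroup.center G := aut_mem_center β (hkey k)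
      apply hyP
      have h5 : y = (β ((β ^ (2 * k)) x * x⁻¹))⁻¹ * (⁅g, x⁆ * x) := by
        rw [commutatorElement_def]
        have : g * x * g⁻¹ * x⁻¹ * x = g * x * g⁻¹ := by group
        rw [this, ← h1, h2]
        group
      rw [h5]
      exact P.mul_mem (P.inv_mem (hP.le h4)) (P.mul_mem (hP.le h3) hx)
  · -- `w = u y` with `u ∈ P`
    rw [hyi] at hi
    obtain ⟨u, hu⟩ : ∃ u, u = w * y⁻¹ := ⟨_, rfl⟩
    have huP : u ∈ P := hu ▸ hi
    have hwu : w = u * y := by rw [hu]; group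
    by_cases huZ : u ∈ Subgroup.center G
    · apply hyP
      have h1 : β (y * x⁻¹) = u := by
        rw [map_mul, map_inv, ← hy, ← hw, hu]
      have h2 : y * x⁻¹ ∈ Subgroup.center G := by
        have := aut_mem_center β⁻¹ huZ
        rwa [← h1, MulAut.inv_apply_self] at this
      have : y = (y * x⁻¹) * x := by group
      rw [this]
      exact P.mul_mem (hP.le h2) hx
    · apply hyP
      apply h.self_centralizing hP
      apply h.centralizes_of_commute hP huP huZ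
      have hu2 := hP2 u huP
      -- `(u y)² = 1` gives `y u = u y`
      rw [hwu, pow_two] at hw2
      have h1 : u * y = (u * y)⁻¹ := eq_inv_of_mul_eq_one_left hw2
      rw [mul_inv_rev, inv_eq_self_of_sq hy2, inv_eq_self_of_sq hu2] at h1
      exact h1.symm

/-- Automorphisms stabilising two distinct elementary abelian subgroups between centre and group act trivially
modulo the centre. -/
theorem CI.two_triv_mod (h : CI 2 G) {P₁ P₂ : Subgroup G} (h₁ : CI.Mid P₁) (h₂ : CI.Mid P₂) (hne : P₁ ≠ P₂)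
    (h₁2 : ∀ v ∈ P₁, v ^ 2 = 1) (h₂2 : ∀ v ∈ P₂, v ^ 2 = 1) {β : MulAut G} (hβ₁ : ∀ x ∈ P₁, β x ∈ P₁)
    (hβ₂ : ∀ x ∈ P₂, β x ∈ P₂) (g : G) : g⁻¹ * β g ∈ Subgroup.center G := by
  haveI : Fact (Nat.Prime 2) := ⟨Nat.prime_two⟩
  have key : ∀ (P : Subgroup G), CI.Mid P → (∀ v ∈ P, v ^ 2 = 1) → (∀ x ∈ P, β x ∈ P) →
      ∀ u ∈ P, u⁻¹ * β u ∈ Subgroup.center G := by
    intro P hP hP2 hβP u hu
    by_cases huZ : u ∈ Subgroup.center G
    · exact Subgroup.mul_mem _ (Subgroup.inv_mem _ huZ) (aut_mem_center β huZ)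
    · obtain ⟨i, hi⟩ := h.decomp_mid hP hu huZ (hβP u hu)
      rcases pow_eq_of_sq (hP2 u hu) i with hui | hui
      · exfalso
        rw [hui, inv_one, mul_one] at hi
        apply huZ
        have := aut_mem_center β⁻¹ hi
        rwa [MulAut.inv_apply_self] at this
      · rw [hui] at hi
        have hc := Subgroup.mem_center_iff.mp hi u⁻¹
        have : u⁻¹ * β u = u⁻¹ * (β u * u⁻¹) * u := by group
        rw [this, hc]
        have e : β u * u⁻¹ * u⁻¹ * u = β u * u⁻¹ := by group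
        rw [e]
        exact hi
  obtain ⟨u₁, hu₁, u₂, hu₂, rfl⟩ := h.exists_mul h₁ h₂ hne g
  have k1 := key P₁ h₁ h₁2 hβ₁ u₁ hu₁
  have k2 := key P₂ h₂ h₂2 hβ₂ u₂ hu₂
  have hc := Subgroup.mem_center_iff.mp k1 u₂⁻¹
  have : (u₁ * u₂)⁻¹ * β (u₁ * u₂) = (u₂⁻¹ * (u₁⁻¹ * β u₁)) * β u₂ := by
    rw [map_mul]; group
  rw [this, hc]
  have e : u₁⁻¹ * β u₁ * u₂⁻¹ * β u₂ = (u₁⁻¹ * β u₁) * (u₂⁻¹ * β u₂) := by group
  rw [e]
  exact Subgroup.mul_mem _ k1 k2

/-- There are at most two elementary abelian subgroups between centre and group. -/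
theorem CI.two_no_third (h : CI 2 G) {P₁ P₂ P₃ : Subgroup G} (h₁ : CI.Mid P₁) (h₂ : CI.Mid P₂) (h₃ : CI.Mid P₃)
    (h12 : P₁ ≠ P₂) (h13 : P₁ ≠ P₃) (h23 : P₂ ≠ P₃) (h₁2 : ∀ v ∈ P₁, v ^ 2 = 1) (h₂2 : ∀ v ∈ P₂, v ^ 2 = 1)
    (h₃2 : ∀ v ∈ P₃, v ^ 2 = 1) : False := by
  haveI : Fact (Nat.Prime 2) := ⟨Nat.prime_two⟩
  obtain ⟨x₃, hx₃, hx₃Z⟩ := SetLike.exists_of_lt (lt_of_le_of_ne h₃.le (Ne.symm h₃.ne_center))
  obtain ⟨u₁, hu₁, u₂, hu₂, hx⟩ := h.exists_mul h₁ h₂ h12 x₃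
  have hu₁Z : u₁ ∉ Subgroup.center G := by
    intro hz
    apply hx₃Z
    rw [← h.inf_eq h₂ h₃ h23]
    exact ⟨by rw [hx]; exact P₂.mul_mem (h₂.le hz) hu₂, hx₃⟩
  have hu₂Z : u₂ ∉ Subgroup.center G := by
    intro hz
    apply hx₃Z
    rw [← h.inf_eq h₁ h₃ h13]
    exact ⟨by rw [hx]; exact P₁.mul_mem hu₁ (h₁.le hz), hx₃⟩
  have hsq := h₃2 x₃ hx₃
  rw [hx, pow_two] at hsq
  have h1 : u₁ * u₂ = (u₁ * u₂)⁻¹ := eq_inv_of_mul_eq_one_left hsq
  rw [mul_inv_rev, inv_eq_self_of_sq (h₂2 u₂ hu₂), inv_eq_self_of_sq (h₁2 u₁ hu₁)] at h1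
  have h2 : u₂ ∈ P₁ := by
    apply h.self_centralizing h₁
    exact h.centralizes_of_commute h₁ hu₁ hu₁Z h1.symm
  apply hu₂Z
  rw [← h.inf_eq h₁ h₂ h12]
  exact ⟨h2, hu₂⟩

/-- An automorphism trivial on the (elementary abelian) centre and modulo the centre, some odd power of which is
inner, moves elements by commutators. -/
theorem two_inner (hZ2 : ∀ z ∈ Subgroup.center G, z ^ 2 = 1) {β : MulAut G}
    (hβZ : ∀ z ∈ Subgroup.center G, β z = z) (hβ : ∀ g, g⁻¹ * β g ∈ Subgroup.center G) {m : ℕ} (hm : Odd m)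
    (hinn : β ^ m ∈ Inn G) (g : G) : g⁻¹ * β g ∈ commutator G := by
  obtain ⟨f, hf⟩ : ∃ f, f = g⁻¹ * β g := ⟨_, rfl⟩
  have hfZ : f ∈ Subgroup.center G := hf ▸ hβ g
  have hβg : β g = g * f := by rw [hf]; group
  have hpow : ∀ n : ℕ, (β ^ n) g = g * f ^ n := by
    intro n
    induction n with
    | zero => simp
    | succ n ih =>
      rw [pow_succ', MulAut.mul_apply, ih, map_mul, map_pow, hβZ f hfZ, hβg, pow_succ', mul_assoc]
  obtain ⟨k, hk⟩ := hinn
  have h1 : (β ^ m) g = k * g * k⁻¹ := by rw [← hk, MulAut.conj_apply]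
  rw [hpow m, pow_odd_of_sq (hZ2 f hfZ) hm] at h1
  have h2 : f = ⁅g⁻¹, k⁆ := by
    rw [commutatorElement_def, inv_inv]
    have : f = g⁻¹ * (g * f) := by group
    rw [this, h1]
    group
  rw [← hf, h2, commutator_def]
  exact Subgroup.commutator_mem_commutator (Subgroup.mem_top _) (Subgroup.mem_top _)

end Two

end Cfsg.Agent.Lib.Helper26
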