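import Cfsg.Agent.Lib.Helper26.CenIdxG

/-!
`p = 2`: a saturated fusion system with `O_2(F) = 1` and `hyp(F) = S` over a `2`-group whose centre has index `4`
has `|Z(S)| = 2`.
-/

set_option autoImplicit false
set_option linter.unusedSectionVars false
set_option linter.style.haveILetI false
universe u

namespace Cfsg.Agent.Lib.Helper26

open Cfsg Cfsg.FusionSystem
open scoped commutatorElement

variable {Ω : Type u} [Group Ω] {S : Subgroup Ω} [Finite S] {p : ℕ} [Fact p.Prime] {F : FusionSystem S}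

/-- `℧¹(Z(S))` is normal in the system, hence trivial. -/
theorem center_pow_eq_one (hS : IsPGroup p S) (hF : F.IsSaturated p) (hcore : F.core = ⊥)
    (K : ∀ P : Subgroup Ω, F.IsEssential p P → EPack F p P) : ∀ z ∈ Subgroup.center S, z ^ p = 1 := by
  let Q : Subgroup S :=
    { carrier := {x | ∃ z ∈ Subgroup.center S, x = z ^ p}
      one_mem' := ⟨1, Subgroup.one_mem _, (one_pow p).symm⟩
      mul_mem' := by
        rintro _ _ ⟨z, hz, rfl⟩ ⟨z', hz', rfl⟩
        refine ⟨z * z', Subgroup.mul_mem _ hz hz', ?_⟩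
        have hc : Commute z z' := Subgroup.mem_center_iff.mp hz' z
        exact (hc.mul_pow p).symm
      inv_mem' := by
        rintro _ ⟨z, hz, rfl⟩
        exact ⟨z⁻¹, Subgroup.inv_mem _ hz, (inv_pow z p).symm⟩ }
  have hQ : Q = ⊥ := by
    apply eq_bot_of_core hS F hF hcore
    · rintro β _ _ ⟨z, hz, rfl⟩
      exact ⟨β z, aut_mem_center β hz, map_pow β z p⟩
    · intro P hP
      refine ⟨?_, ?_⟩
      · rintro _ ⟨z, hz, rfl⟩
        exact (K P hP).center_le (Subgroup.pow_mem _ hz p)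
      · rintro δ hδ y ⟨z, hz, hyz⟩
        obtain ⟨z₀, rfl⟩ := (K P hP).exists_ι_eq ((K P hP).center_le hz)
        have hy : y = z₀ ^ p := (K P hP).ι_injective (by rw [map_pow]; exact hyz)
        obtain ⟨c, hc, hpc⟩ := (K P hP).pow_p (δ z₀)
        refine ⟨c, (K P hP).C'_le_center hc, ?_⟩
        rw [← hpc, hy]
        show (K P hP).ι (δ (z₀ ^ p)) = _
        rw [map_pow, map_pow]
  intro z hz
  have : z ^ p ∈ Q := ⟨z, hz, rfl⟩
  rw [hQ, Subgroup.mem_bot] at this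
  exact this

theorem ess_pow_eq_one (hZp : ∀ z ∈ Subgroup.center S, z ^ p = 1) {P : Subgroup Ω} (K : EPack F p P) :
    ∀ x ∈ P.subgroupOf S, x ^ p = 1 := by
  intro x hx
  obtain ⟨y, rfl⟩ := K.exists_ι_eq hx
  obtain ⟨c, hc, hyc⟩ := K.pow_p y
  rw [hyc]
  exact hZp c (K.C'_le_center hc)

theorem subgroupOf_injective {P Q : Subgroup Ω} (hP : P ≤ S) (hQ : Q ≤ S) (h : P.subgroupOf S = Q.subgroupOf S) :
    P = Q := by
  ext x
  constructor
  · intro hx
    have : (⟨x, hP hx⟩ : S) ∈ P.subgroupOf S := hx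
    rw [h] at this
    exact this
  · intro hx
    have : (⟨x, hQ hx⟩ : S) ∈ Q.subgroupOf S := hx
    rw [← h] at this
    exact this

/-- The case `p = 2`. -/
theorem card_center_of_two (hp : p = 2) (hS : IsPGroup p S) (hF : F.IsSaturated p) (hcore : F.core = ⊥)
    (hhyp : F.hyperfocalSubgroup p = S) (hCI : CI p S)
    (K : ∀ P : Subgroup Ω, F.IsEssential p P → EPack F p P) {P₀ : Subgroup Ω} (hP₀ : F.IsEssential p P₀) :
    Nat.card (Subgroup.center S) = 2 ∧ ∃ x₁ x₂ : S, x₁ ≠ x₂ ∧ orderOf x₁ = 2 ∧ orderOf x₂ = 2 := by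
  subst hp
  have hZ2 := center_pow_eq_one hS hF hcore K
  have hE2 : ∀ (P : Subgroup Ω) (hP : F.IsEssential 2 P), ∀ x ∈ P.subgroupOf S, x ^ 2 = 1 :=
    fun P hP => ess_pow_eq_one hZ2 (K P hP)
  have hodd : ∀ β ∈ F.autGroup S, ∃ m : ℕ, Odd m ∧ β ^ m ∈ Inn S := by
    intro β hβ
    obtain ⟨m, hm, hinn⟩ := exists_pow_mem_inn hS F hF hβ
    exact ⟨m, Nat.odd_iff.mpr (by omega), hinn⟩
  have hinv : ∀ (P : Subgroup Ω) (hP : F.IsEssential 2 P), ∀ β ∈ F.autGroup S,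
      ∀ x ∈ P.subgroupOf S, β x ∈ P.subgroupOf S := by
    intro P hP β hβ
    obtain ⟨m, hm, hinn⟩ := hodd β hβ
    exact hCI.two_invariant (K P hP).hmid (hE2 P hP) hm hinn
  -- two distinct essential subgroups
  have htwo : ∃ (P₁ : Subgroup Ω) (_ : F.IsEssential 2 P₁), P₁ ≠ P₀ := by
    by_contra hcon
    push Not at hcon
    have hbot : P₀.subgroupOf S = ⊥ := by
      apply eq_bot_of_core hS F hF hcore
      · exact hinv P₀ hP₀
      · intro P hP
        have hPP := hcon P hP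
        subst hPP
        exact ⟨fun x hx => hx, fun δ _ y _ => (K P hP).ι_mem _⟩
    have hmid := (K P₀ hP₀).hmid
    apply hmid.ne_center
    rw [hbot]
    symm
    rw [eq_bot_iff, ← hbot]
    exact hmid.le
  obtain ⟨P₁, hP₁, hne⟩ := htwo
  have hne' : P₁.subgroupOf S ≠ P₀.subgroupOf S := fun e => hne (subgroupOf_injective hP₁.1.1 hP₀.1.1 e)
  have hmid₁ := (K P₁ hP₁).hmid
  have hmid₀ := (K P₀ hP₀).hmid
  have htriv : ∀ β ∈ F.autGroup S, ∀ g : S, g⁻¹ * β g ∈ Subgroup.center S := fun β hβ g =>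
    hCI.two_triv_mod hmid₁ hmid₀ hne' (hE2 P₁ hP₁) (hE2 P₀ hP₀) (hinv P₁ hP₁ β hβ) (hinv P₀ hP₀ β hβ) g
  have hCinv : ∀ (P : Subgroup Ω) (hP : F.IsEssential 2 P), ∀ β ∈ F.autGroup S,
      ∀ x ∈ (K P hP).C', β x ∈ (K P hP).C' := by
    intro P hP β hβ x hx
    obtain ⟨δ, hδ, hδβ⟩ := exists_restriction F (K P hP).hPS hβ
      (fun y => hinv P hP β hβ _ ((K P hP).ι_mem y))
    obtain ⟨c, hc, rfl⟩ := hx
    have : β ((K P hP).ι c) = (K P hP).ι (δ c) := (hδβ c).symm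
    rw [this]
    exact (K P hP).C'_inv hδ ⟨c, hc, rfl⟩
  have hcardD : Nat.card (commutator S) = 2 := by
    rw [← (K P₀ hP₀).D'_eq hCI]
    exact (K P₀ hP₀).card_D'
  have hDfix : ∀ β ∈ F.autGroup S, ∀ d ∈ commutator S, β d = d := by
    intro β hβ d hd
    by_cases hd1 : d = 1
    · rw [hd1, map_one]
    have hβd : β d ∈ commutator S := (char_inv (commutator S) β d).mp hd
    have hne1 : (⟨d, hd⟩ : commutator S) ≠ 1 := fun e => hd1 (congrArg Subtype.val e)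
    rcases eq_one_or_eq_of_card_two hcardD hne1 ⟨β d, hβd⟩ with h1 | h1
    · exfalso
      apply hd1
      have : β d = 1 := congrArg Subtype.val h1
      exact (map_eq_one_iff β β.injective).mp this
    · exact congrArg Subtype.val h1
  -- `[Z(S), Aut_F(S)]` is normal in the system
  obtain ⟨Y, hYdef⟩ : ∃ Y : Subgroup S, Y = Subgroup.closure
      {y | ∃ β ∈ F.autGroup S, ∃ z ∈ Subgroup.center S, y = z⁻¹ * β z} := ⟨_, rfl⟩
  have hYle : ∀ (P : Subgroup Ω) (hP : F.IsEssential 2 P), Y ≤ (K P hP).C' := by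
    intro P hP
    rw [hYdef, Subgroup.closure_le]
    rintro _ ⟨β, hβ, z, hz, rfl⟩
    obtain ⟨c, hc, d, hd, rfl⟩ := (K P hP).center_decomp hz
    have hdD : d ∈ commutator S := (K P hP).D'_eq hCI ▸ hd
    have hdZ : d ∈ Subgroup.center S := (K P hP).D'_le_center hd
    rw [map_mul, hDfix β hβ d hdD]
    have e : (c * d)⁻¹ * (β c * d) = c⁻¹ * β c := by
      have hcomm := Subgroup.mem_center_iff.mp hdZ (c⁻¹ * β c)
      calc (c * d)⁻¹ * (β c * d) = d⁻¹ * ((c⁻¹ * β c) * d) := by group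
        _ = d⁻¹ * (d * (c⁻¹ * β c)) := by rw [hcomm]
        _ = c⁻¹ * β c := by group
    show (c * d)⁻¹ * (β c * d) ∈ (K P hP).C'
    rw [e]
    exact Subgroup.mul_mem _ (Subgroup.inv_mem _ hc) (hCinv P hP β hβ c hc)
  have hYB : ∀ β ∈ F.autGroup S, ∀ x ∈ Y, β x ∈ Y := by
    intro β hβ x hx
    rw [hYdef] at hx ⊢
    induction hx using Subgroup.closure_induction with
    | mem x hx =>
      obtain ⟨β', hβ', z, hz, rfl⟩ := hx
      apply Subgroup.subset_closure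
      refine ⟨β * β' * β⁻¹, mul_mem (mul_mem hβ hβ') (inv_mem hβ), β z, aut_mem_center β hz, ?_⟩
      simp [MulAut.mul_apply]
    | one => rw [map_one]; exact one_mem _
    | mul a b _ _ ha hb => rw [map_mul]; exact mul_mem ha hb
    | inv a _ ha => rw [map_inv]; exact inv_mem ha
  have hYbot : Y = ⊥ := by
    apply eq_bot_of_core hS F hF hcore Y hYB
    intro P hP
    refine ⟨fun x hx => (K P hP).center_le ((K P hP).C'_le_center (hYle P hP hx)), ?_⟩
    intro δ hδ y hy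
    obtain ⟨ℓ, hℓ, ν, hν, νh, hνh, rfl, hℓC, -, hext⟩ := (K P hP).factor hS hF hδ
    have h1 : (K P hP).ι (ν y) ∈ Y := by
      rw [← hext]
      exact hYB νh hνh _ hy
    have h2 : ν y ∈ (K P hP).pair'.C := ((K P hP).mem_C' _).mp (hYle P hP h1)
    show (K P hP).ι ((ℓ * ν) y) ∈ Y
    rw [MulAut.mul_apply, hℓC _ h2]
    exact h1
  have hBZ : ∀ β ∈ F.autGroup S, ∀ z ∈ Subgroup.center S, β z = z := by
    intro β hβ z hz
    have : z⁻¹ * β z ∈ Y := by
      rw [hYdef]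
      exact Subgroup.subset_closure ⟨β, hβ, z, hz, rfl⟩
    rw [hYbot, Subgroup.mem_bot] at this
    exact (inv_mul_eq_one.mp this).symm
  have hBD : ∀ β ∈ F.autGroup S, ∀ g : S, g⁻¹ * β g ∈ commutator S := by
    intro β hβ g
    obtain ⟨m, hm, hinn⟩ := hodd β hβ
    exact two_inner hZ2 (hBZ β hβ) (htriv β hβ) hm hinn g
  have hall : ∀ (P : Subgroup Ω) (_ : F.IsEssential 2 P), P = P₁ ∨ P = P₀ := by
    intro P hP
    by_contra hcon
    push Not at hcon
    exact hCI.two_no_third hmid₁ hmid₀ (K P hP).hmid hne'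
      (fun e => hcon.1 (subgroupOf_injective hP₁.1.1 hP.1.1 e).symm)
      (fun e => hcon.2 (subgroupOf_injective hP₀.1.1 hP.1.1 e).symm)
      (hE2 P₁ hP₁) (hE2 P₀ hP₀) (hE2 P hP)
  have hcommV : ∀ (P : Subgroup Ω) (hP : F.IsEssential 2 P), commutator S ≤ (K P hP).V' :=
    fun P hP => (K P hP).D'_eq hCI ▸ (K P hP).D'_le_V'
  have hcomm_mem : ∀ x y : S, ⁅x, y⁆ ∈ commutator S := by
    intro x y
    rw [commutator_def]
    exact Subgroup.commutator_mem_commutator (Subgroup.mem_top _) (Subgroup.mem_top _)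
  have htop : (K P₁ hP₁).V' ⊔ (K P₀ hP₀).V' = ⊤ := by
    apply eq_top_of_focal hS F hF hhyp
    · intro x y
      exact le_sup_left (a := (K P₁ hP₁).V') (hcommV P₁ hP₁ (hcomm_mem x y))
    · intro β hβ g
      exact le_sup_left (a := (K P₁ hP₁).V') (hcommV P₁ hP₁ (hBD β hβ g))
    · intro P hP δ hδ y
      have hV : (K P hP).V' ≤ (K P₁ hP₁).V' ⊔ (K P₀ hP₀).V' := by
        rcases hall P hP with rfl | rfl
        · exact le_sup_left
        · exact le_sup_right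
      obtain ⟨ℓ, hℓ, ν, hν, νh, hνh, rfl, -, hℓV, hext⟩ := (K P hP).factor hS hF hδ
      show ((K P hP).ι y)⁻¹ * (K P hP).ι ((ℓ * ν) y) ∈ _
      have e : ((K P hP).ι y)⁻¹ * (K P hP).ι ((ℓ * ν) y) =
          (((K P hP).ι y)⁻¹ * νh ((K P hP).ι y)) * (K P hP).ι ((ν y)⁻¹ * ℓ (ν y)) := by
        rw [hext, MulAut.mul_apply, map_mul, map_inv]
        group
      rw [e]
      apply Subgroup.mul_mem
      · exact le_sup_left (a := (K P₁ hP₁).V') (hcommV P₁ hP₁ (hBD νh hνh _))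
      · exact hV ⟨_, hℓV (ν y), rfl⟩
  have hZD : Subgroup.center S ≤ commutator S := by
    intro z hz
    have hzH : z ∈ (K P₁ hP₁).V' ⊔ (K P₀ hP₀).V' := htop ▸ Subgroup.mem_top z
    haveI : ((K P₁ hP₁).V').Normal := by
      constructor
      intro v hv g
      have : g * v * g⁻¹ = ⁅g, v⁆ * v := by rw [commutatorElement_def]; group
      rw [this]
      exact Subgroup.mul_mem _ (hcommV P₁ hP₁ (hcomm_mem g v)) hv
    obtain ⟨v₁, hv₁, v₀, hv₀, rfl⟩ := Subgroup.mem_sup_of_normal_left.mp hzH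
    have hv₀Z : v₀ ∈ Subgroup.center S := by
      rw [← hCI.inf_eq hmid₁ hmid₀ hne']
      refine ⟨?_, (K P₀ hP₀).V'_le hv₀⟩
      have : v₀ = v₁⁻¹ * (v₁ * v₀) := by group
      rw [this]
      exact Subgroup.mul_mem _ (Subgroup.inv_mem _ ((K P₁ hP₁).V'_le hv₁)) ((K P₁ hP₁).center_le hz)
    have hv₁Z : v₁ ∈ Subgroup.center S := by
      have : v₁ = (v₁ * v₀) * v₀⁻¹ := by group
      rw [this]
      exact Subgroup.mul_mem _ hz (Subgroup.inv_mem _ hv₀Z)
    have h1 : v₁ ∈ commutator S := (K P₁ hP₁).D'_eq hCI ▸ (K P₁ hP₁).V'_inf_center hv₁ hv₁Z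
    have h0 : v₀ ∈ commutator S := (K P₀ hP₀).D'_eq hCI ▸ (K P₀ hP₀).V'_inf_center hv₀ hv₀Z
    exact Subgroup.mul_mem _ h1 h0
  refine ⟨?_, ?_⟩
  · have h1 := Subgroup.card_le_of_le hZD
    rw [hcardD] at h1
    have h2 := (K P₀ hP₀).card_center hCI
    have h3 : 0 < Nat.card (K P₀ hP₀).C' := Nat.card_pos
    omega
  · obtain ⟨x₁, hx₁, hx₁Z⟩ := SetLike.exists_of_lt (lt_of_le_of_ne hmid₁.le (Ne.symm hmid₁.ne_center))
    obtain ⟨x₀, hx₀, hx₀Z⟩ := SetLike.exists_of_lt (lt_of_le_of_ne hmid₀.le (Ne.symm hmid₀.ne_center))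
    refine ⟨x₁, x₀, ?_, ?_, ?_⟩
    · intro e
      apply hx₁Z
      rw [← hCI.inf_eq hmid₁ hmid₀ hne']
      exact ⟨hx₁, e ▸ hx₀⟩
    · apply orderOf_eq_prime (hE2 P₁ hP₁ x₁ hx₁)
      intro e
      exact hx₁Z (e ▸ Subgroup.one_mem _)
    · apply orderOf_eq_prime (hE2 P₀ hP₀ x₀ hx₀)
      intro e
      exact hx₀Z (e ▸ Subgroup.one_mem _)

end Cfsg.Agent.Lib.Helper26
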