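import Cfsg.Agent.Lib.Helper26.FSGroup
import Cfsg.Agent.Lib.Helper26.FSHyperfocal
import Cfsg.Agent.Lib.Helper26.Stability

/-!
S5095: two maps on `P` agreeing on a centric subgroup `Q ≤ P` differ by conjugation by an element of `Z(Q)`.
-/

set_option autoImplicit false

namespace Cfsg.Agent.Lib.Helper26

open Cfsg Cfsg.FusionSystem

variable {Ω : Type*} [Group Ω] {S : Subgroup Ω}

/-- The image of a subgroup `Q ≤ P` under a map on `P` is conjugate to `Q` in the system. -/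
theorem isConj_map_subgroupOf (F : FusionSystem S) {P Q : Subgroup Ω} (hQP : Q ≤ P) {φ : P →* Ω}
    (hφ : φ ∈ F.Hom P) : F.IsConj Q ((Q.subgroupOf P).map φ) := by
  refine ⟨φ.comp (Subgroup.inclusion hQP), inclusion_comp_mem F hQP hφ, ?_⟩
  ext z
  constructor
  · rintro ⟨x, rfl⟩
    exact ⟨Subgroup.inclusion hQP x, x.2, rfl⟩
  · rintro ⟨y, hy, rfl⟩
    exact ⟨⟨y, hy⟩, rfl⟩

/-- A subgroup containing a centric subgroup is centric. -/
theorem centric_of_le (F : FusionSystem S) {Q R : Subgroup Ω} (hQ : F.IsCentric Q) (hQR : Q ≤ R) (hRS : R ≤ S) :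
    F.IsCentric R := by
  refine ⟨hRS, fun R' hRR' => ?_⟩
  obtain ⟨ψ, hψ, rfl⟩ := hRR'
  have hconj := isConj_map_subgroupOf F hQR hψ
  have h1 := hQ.2 _ hconj
  intro c hc
  have hc' : c ∈ centralizerIn S ((Q.subgroupOf R).map ψ) := by
    rw [mem_centralizerIn_iff] at hc ⊢
    refine ⟨hc.1, fun x hx => hc.2 x ?_⟩
    obtain ⟨y, -, rfl⟩ := hx
    exact ⟨y, rfl⟩
  obtain ⟨y, -, rfl⟩ := h1 hc'
  exact ⟨y, rfl⟩

/-- Key computation: if `φ, φ'` agree on `Q ⊴ P` with `Q` centric, then `φ g = φ' (g w)` with `w ∈ Q`. -/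
theorem exists_mul_of_agree (F : FusionSystem S) {P Q : Subgroup Ω} (hQP : Q ≤ P)
    (hQn : P ≤ Subgroup.normalizer (Q : Set Ω)) (hQ : F.IsCentric Q) {φ φ' : P →* Ω} (hφ : φ ∈ F.Hom P)
    (hφ' : φ' ∈ F.Hom P) (h : ∀ x : P, (x : Ω) ∈ Q → φ x = φ' x) (g : P) :
    ∃ w : P, (w : Ω) ∈ Q ∧ φ g = φ' (g * w) := by
  have hcent := hQ.2 _ (isConj_map_subgroupOf F hQP hφ)
  have hc : (φ' g)⁻¹ * φ g ∈ centralizerIn S ((Q.subgroupOf P).map φ) := by
    rw [mem_centralizerIn_iff]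
    refine ⟨S.mul_mem (S.inv_mem (hom_apply_mem F hφ' g)) (hom_apply_mem F hφ g), ?_⟩
    rintro _ ⟨x, hx, rfl⟩
    have hx' : (x : Ω) ∈ Q := hx
    have hgx : ((g * x * g⁻¹ : P) : Ω) ∈ Q := (Subgroup.mem_normalizer_iff.mp (hQn g.2) _).mp hx'
    have h1 := h _ hgx
    rw [map_mul, map_mul, map_inv, map_mul, map_mul, map_inv, ← h x hx'] at h1
    -- h1 : φ g * φ x * (φ g)⁻¹ = φ' g * φ x * (φ' g)⁻¹
    have h2 : φ x = (φ g)⁻¹ * (φ' g * φ x * (φ' g)⁻¹) * φ g := by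
      rw [← h1]; simp [mul_assoc]
    calc φ x * ((φ' g)⁻¹ * φ g) = (φ' g)⁻¹ * (φ' g * φ x * (φ' g)⁻¹) * φ g := by simp [mul_assoc]
      _ = (φ' g)⁻¹ * (φ g * φ x * (φ g)⁻¹) * φ g := by rw [h1]
      _ = (φ' g)⁻¹ * φ g * φ x := by simp [mul_assoc]
  obtain ⟨w, hw, hwc⟩ := hcent hc
  refine ⟨w, hw, ?_⟩
  rw [map_mul, ← h w hw, hwc]
  simp

/-- An element of `Aut_F(P)` of `p`-power order, for `P` fully normalized in a saturated system, is conjugate in
`Aut_F(P)` to an automorphism induced by an element of `N_S(P)`. -/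
theorem exists_conj_eq_normalizerMonoidHom [Finite S] {p : ℕ} [Fact p.Prime] (hS : IsPGroup p S)
    (F : FusionSystem S) (hF : F.IsSaturated p) {P : Subgroup Ω} (hP : F.IsFullyNormalized P) (α : F.autGroup P)
    (k : ℕ) (hα : α ^ (p ^ k) = 1) :
    ∃ β : F.autGroup P, ∃ s ∈ S, ∃ hs : s ∈ Subgroup.normalizer (P : Set Ω),
      ((β * α * β⁻¹ : F.autGroup P) : MulAut P) = P.normalizerMonoidHom ⟨s, hs⟩ := by
  have hfinP : Finite P := finite_of_le hP.1
  obtain ⟨-, T, hT⟩ := (saturated_fn hS F hF hP).2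
  have hB : IsPGroup p (Subgroup.zpowers α) := by
    rintro ⟨g, hg⟩
    obtain ⟨j, rfl⟩ := Subgroup.mem_zpowers_iff.mp hg
    refine ⟨k, Subtype.ext ?_⟩
    show (α ^ j) ^ (p ^ k) = 1
    rw [← zpow_natCast, ← zpow_mul, mul_comm, zpow_mul, zpow_natCast, hα, one_zpow]
  obtain ⟨β, hβ⟩ := exists_conj_le_sylow T hB
  have h1 : β * α * β⁻¹ ∈ (T : Subgroup (F.autGroup P)) := hβ ⟨α, Subgroup.mem_zpowers α, rfl⟩
  rw [hT, Subgroup.mem_subgroupOf] at h1
  obtain ⟨s, hsS, hsN, hs⟩ := (mem_autInducedBy_iff' _ _ _).mp h1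
  exact ⟨β, s, hsS, hsN, hs⟩

/-- S5095 in the case `Q ⊴ P`. -/
theorem exists_center_conj_of_normal [Finite S] {p : ℕ} [Fact p.Prime] (hS : IsPGroup p S) (F : FusionSystem S)
    (hF : F.IsSaturated p) {P Q : Subgroup Ω} (hQP : Q ≤ P) (hQn : P ≤ Subgroup.normalizer (Q : Set Ω))
    (hQ : F.IsCentric Q) {φ φ' : P →* Ω} (hφ : φ ∈ F.Hom P) (hφ' : φ' ∈ F.Hom P)
    (h : ∀ x : P, (x : Ω) ∈ Q → φ x = φ' x) :
    ∃ z : P, (z : Ω) ∈ Q ∧ (z : Ω) ∈ Subgroup.centralizer (Q : Set Ω) ∧ ∀ y : P, φ' y = φ (z * y * z⁻¹) := by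
  have hPS : P ≤ S := hom_le F hφ
  have hfinP : Finite P := finite_of_le hPS
  have hK1 := exists_mul_of_agree F hQP hQn hQ hφ hφ' h
  have hK1' := exists_mul_of_agree F hQP hQn hQ hφ' hφ (fun x hx => (h x hx).symm)
  -- the two maps have the same image
  have hrange : φ'.range = φ.range := by
    apply le_antisymm
    · rintro _ ⟨g, rfl⟩
      obtain ⟨w, -, hw⟩ := hK1' g
      exact ⟨g * w, hw.symm⟩
    · rintro _ ⟨g, rfl⟩
      obtain ⟨w, -, hw⟩ := hK1 g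
      exact ⟨g * w, hw.symm⟩
  -- the automorphism `α = φ⁻¹ φ'` of `P`
  let e := homEquiv F hφ rfl
  let e' := homEquiv F hφ' hrange
  let α : MulAut P := e'.trans e.symm
  have hαφ : ∀ y : P, φ (α y) = φ' y := by
    intro y
    have h1 : ((e (α y) : φ.range) : Ω) = φ (α y) := homEquiv_apply F hφ rfl (α y)
    have h2 : e (α y) = e' y := by
      show e (e.symm (e' y)) = e' y
      simp
    rw [← h1, h2]
    exact homEquiv_apply F hφ' hrange y
  have hαF : α ∈ F.autGroup P := by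
    rw [mem_autGroup_iff_isFIso F hPS]
    exact (homEquiv_isFIso F hφ' hrange).trans (homEquiv_isFIso F hφ rfl).symm
  have hinj := F.injective_of_mem hφ
  have hαQ : ∀ x : P, (x : Ω) ∈ Q → α x = x := by
    intro x hx
    apply hinj
    rw [hαφ, h x hx]
  have hαmem : ∀ y : P, y⁻¹ * α y ∈ Q.subgroupOf P := by
    intro y
    obtain ⟨w, hw, hyw⟩ := hK1' y
    have : α y = y * w := by
      apply hinj
      rw [hαφ, hyw]
    rw [this, inv_mul_cancel_left, Subgroup.mem_subgroupOf]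
    exact hw
  -- `α` has `p`-power order
  obtain ⟨k, hk⟩ := IsPGroup.iff_card.mp ((hS.to_le hPS).to_subgroup (Q.subgroupOf P))
  have hαpow : α ^ (p ^ k) = 1 := by
    ext x
    have := stab_step (α := α) (N := Q.subgroupOf P) (M := ⊤) le_top (fun x _ => hαmem x) 1
      (fun x hx => by rw [pow_one]; exact hαQ x hx) x (Subgroup.mem_top x)
    rw [one_mul, hk] at this
    rw [this]
    rfl
  -- pass to a fully normalized conjugate
  obtain ⟨P', hPP', hP'⟩ := exists_fullyNormalized_conj F hPS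
  obtain ⟨θ, hθ⟩ := (isConj_iff_exists_isFIso F).mp hPP'
  have hα'pow : (autCongr F hθ ⟨α, hαF⟩) ^ (p ^ k) = 1 := by
    rw [← map_pow]
    have : (⟨α, hαF⟩ : F.autGroup P) ^ (p ^ k) = 1 := Subtype.ext hαpow
    rw [this, map_one]
  obtain ⟨β, s, hsS, hsN, hs⟩ := exists_conj_eq_normalizerMonoidHom hS F hF hP' _ k hα'pow
  -- the isomorphism `ρ = β θ`
  have hβF : IsFIso F ((β : MulAut P') : P' ≃* P') := (mem_autGroup_iff_isFIso F hθ.le_right _).mp β.2
  let ρ : P ≃* P' := θ.trans (β : MulAut P')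
  have hρ : IsFIso F ρ := hθ.trans hβF
  have hstar : ∀ x : P, ((ρ (α x) : P') : Ω) = s * (ρ x : P') * s⁻¹ := by
    intro x
    have h1 : (((β * autCongr F hθ ⟨α, hαF⟩ * β⁻¹ : F.autGroup P') : MulAut P') (ρ x) : Ω) =
        s * (ρ x : P') * s⁻¹ := by
      rw [hs]
      rfl
    rw [← h1]
    show ((ρ (α x) : P') : Ω) = ((((β : MulAut P') * (MulAut.congr θ α) * (β : MulAut P')⁻¹) (ρ x) : P') : Ω)
    congr 1
    simp [ρ, MulAut.mul_apply, MulAut.congr]
  -- `s` centralizes `ρ(Q)`, hence lies in `ρ(Q)`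
  have hconj := isConj_map_subgroupOf F hQP hρ
  have hcent := hQ.2 _ hconj
  have hsc : s ∈ centralizerIn S ((Q.subgroupOf P).map (equivHom ρ)) := by
    rw [mem_centralizerIn_iff]
    refine ⟨hsS, ?_⟩
    rintro _ ⟨x, hx, rfl⟩
    have := hstar x
    rw [hαQ x hx] at this
    show ((ρ x : P') : Ω) * s = s * ((ρ x : P') : Ω)
    calc ((ρ x : P') : Ω) * s = (s * (ρ x : P') * s⁻¹) * s := by rw [← this]
      _ = s * ((ρ x : P') : Ω) := by simp [mul_assoc]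
  obtain ⟨z, hz, hzs⟩ := hcent hsc
  have hzs' : ((ρ z : P') : Ω) = s := hzs
  have hρinj : ∀ a b : P, ((ρ a : P') : Ω) = ((ρ b : P') : Ω) → a = b := fun a b hab =>
    ρ.injective (Subtype.ext hab)
  have hαz : ∀ x : P, α x = z * x * z⁻¹ := by
    intro x
    apply hρinj
    rw [hstar x, ← hzs']
    simp
  refine ⟨z, hz, ?_, fun y => ?_⟩
  · rw [Subgroup.mem_centralizer_iff]
    intro x hx
    have h1 := hαz ⟨x, hQP hx⟩
    rw [hαQ _ hx] at h1
    have h2 := congrArg (fun a : P => (a : Ω)) h1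
    simp only at h2
    have h3 : x = (z : Ω) * x * (z : Ω)⁻¹ := h2
    calc x * (z : Ω) = ((z : Ω) * x * (z : Ω)⁻¹) * z := by rw [← h3]
      _ = (z : Ω) * x := by simp [mul_assoc]
  · rw [← hαz, hαφ]

/-- S5095. -/
theorem exists_center_conj [Finite S] {p : ℕ} [Fact p.Prime] (hS : IsPGroup p S) (F : FusionSystem S)
    (hF : F.IsSaturated p) (P Q : Subgroup Ω) (hQP : Q ≤ P) (hQ : F.IsCentric Q) (φ φ' : P →* Ω)
    (hφ : φ ∈ F.Hom P) (hφ' : φ' ∈ F.Hom P) (h : ∀ x : P, (x : Ω) ∈ Q → φ x = φ' x) :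
    ∃ z : P, (z : Ω) ∈ Q ∧ (z : Ω) ∈ Subgroup.centralizer (Q : Set Ω) ∧ ∀ y : P, φ' y = φ (z * y * z⁻¹) := by
  have hPS : P ≤ S := hom_le F hφ
  have hfinP : Finite P := finite_of_le hPS
  have hPp : IsPGroup p P := hS.to_le hPS
  have main : ∀ d : ℕ, ∀ Q : Subgroup Ω, Q ≤ P → F.IsCentric Q → ∀ φ : P →* Ω, φ ∈ F.Hom P →
      (∀ x : P, (x : Ω) ∈ Q → φ x = φ' x) → Nat.card P - Nat.card Q = d →
      ∃ z : P, (z : Ω) ∈ Q ∧ (z : Ω) ∈ Subgroup.centralizer (Q : Set Ω) ∧ ∀ y : P, φ' y = φ (z * y * z⁻¹) := by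
    intro d
    induction d using Nat.strong_induction_on with
    | _ d ih =>
      intro Q hQP hQ φ hφ h hd
      by_cases hne : Q = P
      · refine ⟨1, Q.one_mem, Subgroup.one_mem _, fun y => ?_⟩
        rw [one_mul, inv_one, mul_one]
        exact (h y (hne ▸ y.2)).symm
      · obtain ⟨g, hgN, hgQ⟩ := exists_mem_normalizerIn_not_mem hPp hQP hne
        set Q₁ := normalizerIn P Q with hQ₁
        have hQQ₁ : Q ≤ Q₁ := le_inf hQP Subgroup.le_normalizer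
        have hQ₁P : Q₁ ≤ P := inf_le_left
        have hQ₁n : Q₁ ≤ Subgroup.normalizer (Q : Set Ω) := inf_le_right
        have hlt : Nat.card Q < Nat.card Q₁ := card_lt_card_normalizerIn hPp hQP hne
        have hQ₁card : Nat.card Q₁ ≤ Nat.card P := Subgroup.card_le_of_le hQ₁P
        -- the normal case on `Q₁`
        have hφ₁ := inclusion_comp_mem F hQ₁P hφ
        have hφ₁' := inclusion_comp_mem F hQ₁P hφ'
        obtain ⟨z₁, hz₁Q, hz₁c, hz₁⟩ := exists_center_conj_of_normal hS F hF hQQ₁ hQ₁n hQ hφ₁ hφ₁'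
          (fun x hx => h (Subgroup.inclusion hQ₁P x) hx)
        let z₁P : P := ⟨z₁, hQP hz₁Q⟩
        -- the twisted map
        have hconjP : ∀ x : P, conjHom P (z₁ : Ω) x ∈ P := fun x =>
          P.mul_mem (P.mul_mem (hQP hz₁Q) x.2) (P.inv_mem (hQP hz₁Q))
        have hφ'' := F.comp_mem (F.conj_mem hPS (hPS (hQP hz₁Q))) hφ hconjP
        set φ'' := φ.comp ((conjHom P (z₁ : Ω)).codRestrict P hconjP) with hφ''def
        have hφ''x : ∀ x : P, φ'' x = φ (z₁P * x * z₁P⁻¹) := by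
          intro x
          show φ _ = φ _
          congr 1
        have hagree : ∀ x : P, (x : Ω) ∈ Q₁ → φ'' x = φ' x := by
          intro x hx
          have := hz₁ ⟨x, hx⟩
          rw [hφ''x]
          show φ (z₁P * x * z₁P⁻¹) = φ' x
          have e1 : (φ'.comp (Subgroup.inclusion hQ₁P)) ⟨x, hx⟩ = φ' x := by
            show φ' _ = φ' x
            congr 1
          have e2 : (φ.comp (Subgroup.inclusion hQ₁P)) (z₁ * ⟨x, hx⟩ * z₁⁻¹) = φ (z₁P * x * z₁P⁻¹) := by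
            show φ _ = φ _
            congr 1
          rw [← e1, ← e2]
          exact this.symm
        have hQ₁c : F.IsCentric Q₁ := centric_of_le F hQ hQQ₁ (hQ₁P.trans hPS)
        obtain ⟨z₂, hz₂Q₁, hz₂c, hz₂⟩ := ih (Nat.card P - Nat.card Q₁) (by omega) Q₁ hQ₁P hQ₁c φ'' hφ'' hagree rfl
        have hz₂cQ : (z₂ : Ω) ∈ Subgroup.centralizer (Q : Set Ω) :=
          Subgroup.centralizer_le (SetLike.coe_subset_coe.mpr hQQ₁) hz₂c
        have hz₂Q : (z₂ : Ω) ∈ Q := by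
          apply hQ.2 Q (isConj_refl F hQ.1)
          exact ⟨hPS z₂.2, hz₂cQ⟩
        refine ⟨z₁P * z₂, Q.mul_mem hz₁Q hz₂Q, Subgroup.mul_mem _ hz₁c hz₂cQ, fun y => ?_⟩
        rw [hz₂ y, hφ''x]
        congr 1
        simp [mul_assoc]
  exact main _ Q hQP hQ φ hφ h rfl

end Cfsg.Agent.Lib.Helper26
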