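import Cfsg.Agent.Lib.Helper26.CenEF
import Cfsg.Agent.Lib.Helper26.FSCentricExt

/-!
Towards S5127 (the centralizer `C_S(E)` of a normal subsystem), part A: automorphisms trivial modulo a subgroup,
`p'`-parts, and a coprime-action lemma.
-/

set_option autoImplicit false

namespace Cfsg.Agent.Lib.Helper26.CenS

open Cfsg Cfsg.FusionSystem Cfsg.Agent.Lib.Helper26 Cfsg.Agent.Lib.Helper27 Cfsg.Agent.Lib.Helper26.OlvN
  Cfsg.Agent.Lib.Helper26.Crav Cfsg.Agent.Lib.Helper26.CenE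

variable {Ω : Type*} [Group Ω] {S : Subgroup Ω}

/-- The automorphisms of `W` acting trivially modulo `P`. -/
def modSub (W P : Subgroup Ω) : Subgroup (MulAut W) where
  carrier := {a | ∀ y : W, ((y⁻¹ * a y : W) : Ω) ∈ P}
  one_mem' := by
    intro y
    show ((y⁻¹ * y : W) : Ω) ∈ P
    rw [inv_mul_cancel]
    exact P.one_mem
  mul_mem' := by
    intro a b ha hb y
    obtain ⟨w, hw⟩ : ∃ w : W, w = y⁻¹ * b y := ⟨_, rfl⟩
    have hwP : (w : Ω) ∈ P := hw ▸ hb y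
    have e1 : b y = y * w := by rw [hw]; group
    have e2 : y⁻¹ * (a * b) y = (y⁻¹ * a y) * (w * (w⁻¹ * a w)) := by
      rw [MulAut.mul_apply, e1, map_mul]
      group
    rw [e2]
    exact P.mul_mem (ha y) (P.mul_mem hwP (ha w))
  inv_mem' := fun {a} ha => inv_trivMod a ha

theorem mem_modSub_iff (W P : Subgroup Ω) (a : MulAut W) :
    a ∈ modSub W P ↔ ∀ y : W, ((y⁻¹ * a y : W) : Ω) ∈ P := Iff.rfl

theorem apply_mem_of_mem_modSub {W P : Subgroup Ω} {a : MulAut W} (ha : a ∈ modSub W P) (x : W)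
    (hx : (x : Ω) ∈ P) : ((a x : W) : Ω) ∈ P := by
  have e : a x = x * (x⁻¹ * a x) := by group
  rw [e]
  exact P.mul_mem hx (ha x)

/-- Conjugating an automorphism trivial modulo `P` by an automorphism preserving `P`. -/
theorem conj_mem_modSub {W P : Subgroup Ω} {a b : MulAut W} (ha : a ∈ modSub W P)
    (hb : ∀ x : W, (x : Ω) ∈ P → ((b x : W) : Ω) ∈ P) : b * a * b⁻¹ ∈ modSub W P := by
  intro y
  obtain ⟨w, hw⟩ : ∃ w : W, w = b⁻¹ y := ⟨_, rfl⟩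
  have e1 : b w = y := by rw [hw, MulAut.apply_inv_self]
  have e2 : y⁻¹ * (b * a * b⁻¹) y = b (w⁻¹ * a w) := by
    rw [MulAut.mul_apply, MulAut.mul_apply, ← hw, map_mul, map_inv, e1]
  rw [e2]
  exact hb _ (ha w)

/-- Being trivial modulo `P` on the elements of `D ≥ P` passes to powers. -/
theorem pow_modOn {W P D : Subgroup Ω} (hPD : P ≤ D) {a : MulAut W}
    (ha : ∀ y : W, (y : Ω) ∈ D → ((y⁻¹ * a y : W) : Ω) ∈ P) (n : ℕ) :
    ∀ y : W, (y : Ω) ∈ D → ((y⁻¹ * (a ^ n) y : W) : Ω) ∈ P := by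
  have hprP : ∀ x : W, (x : Ω) ∈ P → ((a x : W) : Ω) ∈ P := by
    intro x hx
    have e : a x = x * (x⁻¹ * a x) := by group
    rw [e]
    exact P.mul_mem hx (ha x (hPD hx))
  have hprPn : ∀ n : ℕ, ∀ x : W, (x : Ω) ∈ P → (((a ^ n) x : W) : Ω) ∈ P := by
    intro n
    induction n with
    | zero => intro x hx; exact hx
    | succ n ih =>
      intro x hx
      rw [pow_succ, MulAut.mul_apply]
      exact ih _ (hprP x hx)
  induction n with
  | zero =>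
    intro y _
    show ((y⁻¹ * y : W) : Ω) ∈ P
    rw [inv_mul_cancel]
    exact P.one_mem
  | succ n ih =>
    intro y hy
    obtain ⟨w, hw⟩ : ∃ w : W, w = y⁻¹ * a y := ⟨_, rfl⟩
    have hwP : (w : Ω) ∈ P := hw ▸ ha y hy
    have e1 : a y = y * w := by rw [hw]; group
    have e2 : y⁻¹ * (a ^ (n + 1)) y = (y⁻¹ * (a ^ n) y) * (a ^ n) w := by
      rw [pow_succ, MulAut.mul_apply, e1, map_mul]
      group
    rw [e2]
    exact P.mul_mem (ih y hy) (hprPn n w hwP)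

theorem eq_one_of_pow_coprime {G : Type*} [Group G] (z : G) {a b : ℕ} (h : a.Coprime b) (ha : z ^ a = 1)
    (hb : z ^ b = 1) : z = 1 := by
  have h1 : orderOf z ∣ a := orderOf_dvd_of_pow_eq_one ha
  have h2 : orderOf z ∣ b := orderOf_dvd_of_pow_eq_one hb
  have h3 : orderOf z ∣ 1 := by
    have := Nat.dvd_gcd h1 h2
    rwa [h.gcd_eq_one] at this
  exact orderOf_eq_one_iff.mp (Nat.dvd_one.mp h3)

section

variable [Finite S] {p : ℕ} [Fact p.Prime]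

theorem exists_exponent (hS : IsPGroup p S) : ∃ e : ℕ, ∀ s : Ω, s ∈ S → s ^ (p ^ e) = 1 := by
  obtain ⟨e, he⟩ := hS.exists_card_eq
  refine ⟨e, fun s hs => ?_⟩
  have h1 : (⟨s, hs⟩ : S) ^ (p ^ e) = 1 := by
    rw [← he]
    exact pow_card_eq_one'
  have := congrArg (fun z : S => (z : Ω)) h1
  simpa using this

/-- An automorphism `ε` of `Y` stabilizing the chain `1 ≤ P ≤ D ∩ Y ≤ Y` has `p`-power order. -/
theorem exists_pow_eq_one_of_chain (hS : IsPGroup p S) {Y P D : Subgroup Ω} (hYS : Y ≤ S)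
    (ε : MulAut Y) (h2 : ε ∈ modSub Y D)
    (h1 : ∀ y : Y, (y : Ω) ∈ D → ((y⁻¹ * ε y : Y) : Ω) ∈ P)
    (h0 : ∀ x : Y, (x : Ω) ∈ P → ε x = x) : ∃ k : ℕ, ε ^ (p ^ k) = 1 := by
  obtain ⟨e, he⟩ := exists_exponent hS
  have heY : ∀ y : Y, y ^ (p ^ e) = 1 := fun y => Subtype.ext (by simpa using he y (hYS y.2))
  -- `ε ^ (p ^ e)` fixes the elements of `D`
  have hD : ∀ y : Y, (y : Ω) ∈ D → (ε ^ (p ^ e)) y = y := by
    intro y hy
    obtain ⟨w, hw⟩ : ∃ w : Y, w = y⁻¹ * ε y := ⟨_, rfl⟩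
    have hwP : (w : Ω) ∈ P := hw ▸ h1 y hy
    have e1 : ε y = y * w := by rw [hw]; group
    rw [aut_pow_apply_of_fixed ε e1 (h0 w hwP), heY w, mul_one]
  have h2' : ε ^ (p ^ e) ∈ modSub Y D := (modSub Y D).pow_mem h2 _
  refine ⟨e + e, ?_⟩
  ext y
  obtain ⟨d, hd⟩ : ∃ d : Y, d = y⁻¹ * (ε ^ (p ^ e)) y := ⟨_, rfl⟩
  have hdD : (d : Ω) ∈ D := hd ▸ h2' y
  have e1 : (ε ^ (p ^ e)) y = y * d := by rw [hd]; group
  have e2 : ε ^ (p ^ (e + e)) = (ε ^ (p ^ e)) ^ (p ^ e) := by rw [pow_add, pow_mul]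
  rw [e2, aut_pow_apply_of_fixed _ e1 (hD d hdD), heY d, mul_one]
  rfl

/-- **`p'`-part.** If `a` stabilizes the chain `P ≤ D ∩ Y ≤ Y` modulo the steps and `a ^ m` fixes `P` elementwise, with `m`
prime to `p`, then some power `a ^ j` agrees with `a` on `P` and satisfies `(a ^ j) ^ m = 1`. -/
theorem exists_pprime_pow (hS : IsPGroup p S) {Y P D : Subgroup Ω} (hYS : Y ≤ S) (hPD : P ≤ D)
    (a : MulAut Y) (h2 : a ∈ modSub Y D)
    (h1 : ∀ y : Y, (y : Ω) ∈ D → ((y⁻¹ * a y : Y) : Ω) ∈ P) {m : ℕ} (hm : m.Coprime p) (hm0 : m ≠ 0)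
    (h0 : ∀ x : Y, (x : Ω) ∈ P → (a ^ m) x = x) :
    ∃ j : ℕ, (a ^ j) ^ m = 1 ∧ ∀ x : Y, (x : Ω) ∈ P → (a ^ j) x = a x := by
  have hp : p.Prime := Fact.out
  obtain ⟨k, hk⟩ := exists_pow_eq_one_of_chain hS hYS (a ^ m) ((modSub Y D).pow_mem h2 m)
    (pow_modOn hPD h1 m) h0
  obtain ⟨j, u, q, hju, hjq⟩ := exists_exp p k m hp.pos hm hm0
  refine ⟨j, ?_, fun x hx => ?_⟩
  · rw [← pow_mul, hju]
    have e : p ^ k * u * m = m * p ^ k * u := by ring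
    rw [e, pow_mul, pow_mul, hk, one_pow]
  · have haP : ((a x : Y) : Ω) ∈ P := by
      have e : a x = x * (x⁻¹ * a x) := by group
      rw [e]
      exact P.mul_mem hx (h1 x (hPD hx))
    have hfix : ∀ n : ℕ, ∀ z : Y, (z : Ω) ∈ P → ((a ^ m) ^ n) z = z := by
      intro n
      induction n with
      | zero => intro z _; rfl
      | succ n ih =>
        intro z hz
        rw [pow_succ, MulAut.mul_apply, h0 z hz, ih z hz]
    rw [hjq, pow_succ, pow_mul, MulAut.mul_apply, hfix q _ haP]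

/-- **Coprime action.** An automorphism `σ` of the `p`-group `Y` with `σ ^ m = 1`, `m` prime to `p`, stabilizing the
chain `P ≤ D ∩ Y ≤ Y` modulo the steps (with `P` normal in `Y`), is trivial modulo `P`. -/
theorem modSub_of_coprime (hS : IsPGroup p S) {Y P D : Subgroup Ω} (hYS : Y ≤ S) (hPD : P ≤ D)
    (hPn : ∀ u : Y, ∀ x : Ω, x ∈ P → (u : Ω) * x * (u : Ω)⁻¹ ∈ P)
    (σ : MulAut Y) (h2 : σ ∈ modSub Y D)
    (h1 : ∀ y : Y, (y : Ω) ∈ D → ((y⁻¹ * σ y : Y) : Ω) ∈ P) {m : ℕ} (hm : m.Coprime p)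
    (hσm : σ ^ m = 1) : σ ∈ modSub Y P := by
  obtain ⟨e, he⟩ := exists_exponent hS
  have heY : ∀ y : Y, y ^ (p ^ e) = 1 := fun y => Subtype.ext (by simpa using he y (hYS y.2))
  intro x
  obtain ⟨d, hd⟩ : ∃ d : Y, d = x⁻¹ * σ x := ⟨_, rfl⟩
  have hdD : (d : Ω) ∈ D := hd ▸ h2 x
  have e1 : σ x = x * d := by rw [hd]; group
  -- `x⁻¹ σ^i(x) ∈ d^i P`
  have key : ∀ i : ℕ, (((d ^ i)⁻¹ * (x⁻¹ * (σ ^ i) x) : Y) : Ω) ∈ P := by
    intro i
    induction i with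
    | zero =>
      show (((d ^ 0)⁻¹ * (x⁻¹ * x) : Y) : Ω) ∈ P
      simp
    | succ i ih =>
      obtain ⟨w, hw⟩ : ∃ w : Y, w = (d ^ i)⁻¹ * (x⁻¹ * (σ ^ i) x) := ⟨_, rfl⟩
      have hwP : (w : Ω) ∈ P := hw ▸ ih
      obtain ⟨v, hv⟩ : ∃ v : Y, v = d⁻¹ * (σ ^ i) d := ⟨_, rfl⟩
      have hvP : (v : Ω) ∈ P := hv ▸ pow_modOn hPD h1 i d hdD
      have e3 : (σ ^ i) x = x * (d ^ i * w) := by rw [hw]; group
      have e4 : (σ ^ i) d = d * v := by rw [hv]; group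
      have e5 : (d ^ (i + 1))⁻¹ * (x⁻¹ * (σ ^ (i + 1)) x) = (d⁻¹ * w * d⁻¹⁻¹) * v := by
        rw [pow_succ σ, MulAut.mul_apply, e1, map_mul, e3, e4, pow_succ]
        group
      rw [e5]
      refine P.mul_mem ?_ hvP
      have := hPn d⁻¹ w hwP
      exact this
  have h3 := key m
  rw [hσm] at h3
  have h4 : ((d ^ m : Y) : Ω) ∈ P := by
    have e6 : (d ^ m)⁻¹ * (x⁻¹ * (1 : MulAut Y) x) = (d ^ m)⁻¹ := by
      show (d ^ m)⁻¹ * (x⁻¹ * x) = _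
      group
    rw [e6] at h3
    have := P.inv_mem h3
    simpa using this
  -- Bezout
  have hcop : Nat.Coprime m (p ^ e) := hm.pow_right e
  have hbez := Nat.gcd_eq_gcd_ab m (p ^ e)
  rw [hcop.gcd_eq_one] at hbez
  have e7 : d = (d ^ m) ^ (Nat.gcdA m (p ^ e)) * (d ^ (p ^ e)) ^ (Nat.gcdB m (p ^ e)) := by
    rw [← zpow_natCast d m, ← zpow_natCast d (p ^ e), ← zpow_mul, ← zpow_mul, ← zpow_add, ← hbez]
    simp
  rw [← hd, e7, heY d, one_zpow, mul_one]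
  exact (P.subgroupOf Y).zpow_mem (show d ^ m ∈ P.subgroupOf Y from h4) _

end

end Cfsg.Agent.Lib.Helper26.CenS
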