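import Cfsg.Agent.Lib.Helper26.CenSA

/-!
Towards S5127, part B: the group of automorphisms of `P` having a "super-nice" extension to `P C_S(P)`.
-/

set_option autoImplicit false

namespace Cfsg.Agent.Lib.Helper26.CenS

open Cfsg Cfsg.FusionSystem Cfsg.Agent.Lib.Helper26 Cfsg.Agent.Lib.Helper27 Cfsg.Agent.Lib.Helper26.OlvN
  Cfsg.Agent.Lib.Helper26.Crav Cfsg.Agent.Lib.Helper26.CenE

variable {Ω : Type*} [Group Ω] {S : Subgroup Ω}

theorem le_normalizer_centralizerIn (P : Subgroup Ω) :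
    P ≤ Subgroup.normalizer ((centralizerIn S P : Subgroup Ω) : Set Ω) := by
  intro x hx
  rw [Subgroup.mem_normalizer_iff]
  intro c
  have key : ∀ c : Ω, c ∈ centralizerIn S P → x * c * x⁻¹ = c := by
    intro c hc
    have h1 := (mem_centralizerIn_iff.mp hc).2 x hx
    rw [h1, mul_inv_cancel_right]
  constructor
  · intro hc
    rw [key c hc]
    exact hc
  · intro hc
    have h2 := key _ hc
    have h3 : c = x * c * x⁻¹ := by
      have : x⁻¹ * (x * (x * c * x⁻¹) * x⁻¹) * x = x⁻¹ * (x * c * x⁻¹) * x := by rw [h2]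
      have e1 : x⁻¹ * (x * (x * c * x⁻¹) * x⁻¹) * x = x * c * x⁻¹ := by group
      have e2 : x⁻¹ * (x * c * x⁻¹) * x = c := by group
      rw [e1, e2] at this
      exact this.symm
    rw [h3]
    exact hc

/-- Elements of `P C_S(P)` are products. -/
theorem exists_mul_of_mem_sup_cen {P : Subgroup Ω} (y : ↥(P ⊔ centralizerIn S P)) :
    ∃ (x : P) (c : ↥(centralizerIn S P)),
      y = Subgroup.inclusion le_sup_left x * Subgroup.inclusion le_sup_right c :=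
  exists_mul_of_mem_sup' (le_normalizer_centralizerIn P) y

theorem comm_of_mem_centralizerIn {P : Subgroup Ω} {c x : Ω} (hc : c ∈ centralizerIn S P) (hx : x ∈ P) :
    x * c = c * x := (mem_centralizerIn_iff.mp hc).2 x hx

theorem sup_cen_le {P : Subgroup Ω} (hPS : P ≤ S) : P ⊔ centralizerIn S P ≤ S :=
  sup_le hPS (centralizerIn_le S P)

/-- The automorphisms of `P` with a super-nice extension to `P C_S(P)` in `F`: an extension acting trivially on
`P C_S(P) / P`. -/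
def snSub (F : FusionSystem S) (P : Subgroup Ω) : Subgroup (MulAut P) where
  carrier := {α | ∃ σ : MulAut ↥(P ⊔ centralizerIn S P), σ ∈ F.autGroup (P ⊔ centralizerIn S P) ∧
      (∀ x : P, σ (Subgroup.inclusion le_sup_left x) = Subgroup.inclusion le_sup_left (α x)) ∧
      σ ∈ modSub (P ⊔ centralizerIn S P) P}
  one_mem' := ⟨1, Subgroup.one_mem _, fun _ => rfl, Subgroup.one_mem _⟩
  mul_mem' := by
    rintro α β ⟨σ, hσ, hσx, hσm⟩ ⟨τ, hτ, hτx, hτm⟩
    refine ⟨σ * τ, Subgroup.mul_mem _ hσ hτ, fun x => ?_, Subgroup.mul_mem _ hσm hτm⟩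
    rw [MulAut.mul_apply, hτx, hσx]
    rfl
  inv_mem' := by
    rintro α ⟨σ, hσ, hσx, hσm⟩
    refine ⟨σ⁻¹, Subgroup.inv_mem _ hσ, fun x => ?_, Subgroup.inv_mem _ hσm⟩
    have h1 := hσx (α⁻¹ x)
    rw [MulAut.apply_inv_self] at h1
    rw [← h1, MulAut.inv_apply_self]

theorem mem_snSub_iff (F : FusionSystem S) (P : Subgroup Ω) (α : MulAut P) :
    α ∈ snSub F P ↔ ∃ σ : MulAut ↥(P ⊔ centralizerIn S P), σ ∈ F.autGroup (P ⊔ centralizerIn S P) ∧
      (∀ x : P, σ (Subgroup.inclusion le_sup_left x) = Subgroup.inclusion le_sup_left (α x)) ∧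
      σ ∈ modSub (P ⊔ centralizerIn S P) P := Iff.rfl

/-- Conjugation by a suitable element of `N_S(P)` has a super-nice extension. -/
theorem conj_mem_snSub [Finite S] (F : FusionSystem S) {P : Subgroup Ω} (hPS : P ≤ S) {t : Ω} (htS : t ∈ S)
    (htN : t ∈ Subgroup.normalizer (P : Set Ω))
    (htc : ∀ c : Ω, c ∈ centralizerIn S P → c⁻¹ * (t * c * t⁻¹) ∈ P) :
    P.normalizerMonoidHom ⟨t, htN⟩ ∈ snSub F P := by
  have hYS : P ⊔ centralizerIn S P ≤ S := sup_cen_le hPS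
  have htP : ∀ x : Ω, x ∈ P → t * x * t⁻¹ ∈ P := fun x hx => (Subgroup.mem_normalizer_iff.mp htN x).mp hx
  have htP' : ∀ x : Ω, x ∈ P → t⁻¹ * x * t ∈ P := by
    intro x hx
    have := (Subgroup.mem_normalizer_iff.mp htN (t⁻¹ * x * t)).mpr
    apply this
    have e : t * (t⁻¹ * x * t) * t⁻¹ = x := by group
    rw [e]
    exact hx
  have htC : ∀ c : Ω, c ∈ centralizerIn S P → t * c * t⁻¹ ∈ centralizerIn S P := by
    intro c hc
    rw [mem_centralizerIn_iff]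
    refine ⟨S.mul_mem (S.mul_mem htS (centralizerIn_le S P hc)) (S.inv_mem htS), fun x hx => ?_⟩
    have h1 := comm_of_mem_centralizerIn hc (htP' x hx)
    calc x * (t * c * t⁻¹) = t * ((t⁻¹ * x * t) * c) * t⁻¹ := by group
      _ = t * (c * (t⁻¹ * x * t)) * t⁻¹ := by rw [h1]
      _ = t * c * t⁻¹ * x := by group
  have htY : ∀ y : Ω, y ∈ P ⊔ centralizerIn S P → t * y * t⁻¹ ∈ P ⊔ centralizerIn S P := by
    intro y hy
    obtain ⟨x, c, h⟩ := exists_mul_of_mem_sup_cen ⟨y, hy⟩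
    have hy' : y = (x : Ω) * (c : Ω) := congrArg Subtype.val h
    have e : t * y * t⁻¹ = (t * x * t⁻¹) * (t * c * t⁻¹) := by rw [hy']; group
    rw [e]
    exact Subgroup.mul_mem _ (Subgroup.mem_sup_left (htP _ x.2)) (Subgroup.mem_sup_right (htC _ c.2))
  have hfinY : Finite ↥(P ⊔ centralizerIn S P) := finite_of_le hYS
  have htNY : t ∈ Subgroup.normalizer ((P ⊔ centralizerIn S P : Subgroup Ω) : Set Ω) :=
    mem_normalizer_of_conj_mem_finite htY
  refine ⟨(P ⊔ centralizerIn S P).normalizerMonoidHom ⟨t, htNY⟩,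
    autInducedBy_le_autGroup F hYS (normalizerMonoidHom_mem_autInducedBy htS htNY), fun x => rfl, fun y => ?_⟩
  obtain ⟨x, c, h⟩ := exists_mul_of_mem_sup_cen y
  have hy' : (y : Ω) = (x : Ω) * (c : Ω) := congrArg Subtype.val h
  show (y : Ω)⁻¹ * (t * (y : Ω) * t⁻¹) ∈ P
  have hcm : ((x : Ω)⁻¹ * (t * x * t⁻¹)) * (c : Ω) = (c : Ω) * ((x : Ω)⁻¹ * (t * x * t⁻¹)) :=
    comm_of_mem_centralizerIn c.2 (P.mul_mem (P.inv_mem x.2) (htP _ x.2))
  have e : (y : Ω)⁻¹ * (t * (y : Ω) * t⁻¹) =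
      ((x : Ω)⁻¹ * (t * x * t⁻¹)) * ((c : Ω)⁻¹ * (t * c * t⁻¹)) := by
    rw [hy']
    calc ((x : Ω) * (c : Ω))⁻¹ * (t * ((x : Ω) * (c : Ω)) * t⁻¹)
        = (c : Ω)⁻¹ * (((x : Ω)⁻¹ * (t * x * t⁻¹)) * (c : Ω)) * ((c : Ω)⁻¹ * (t * c * t⁻¹)) := by group
      _ = (c : Ω)⁻¹ * ((c : Ω) * ((x : Ω)⁻¹ * (t * x * t⁻¹))) * ((c : Ω)⁻¹ * (t * c * t⁻¹)) := by rw [hcm]
      _ = _ := by group
  rw [e]
  exact P.mul_mem (P.mul_mem (P.inv_mem x.2) (htP _ x.2)) (htc _ c.2)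

/-- Conjugating by an automorphism of `P` that extends to `P C_S(P)` preserves the group of automorphisms with a
super-nice extension. -/
theorem conj_mem_snSub_of_ext (F : FusionSystem S) {P : Subgroup Ω} {α θ : MulAut P} (hα : α ∈ snSub F P)
    (θ' : MulAut ↥(P ⊔ centralizerIn S P)) (hθ' : θ' ∈ F.autGroup (P ⊔ centralizerIn S P))
    (hθx : ∀ x : P, θ' (Subgroup.inclusion le_sup_left x) = Subgroup.inclusion le_sup_left (θ x)) :
    θ * α * θ⁻¹ ∈ snSub F P := by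
  obtain ⟨σ, hσ, hσx, hσm⟩ := hα
  have hθinv : ∀ x : P, θ'⁻¹ (Subgroup.inclusion le_sup_left x) = Subgroup.inclusion le_sup_left (θ⁻¹ x) := by
    intro x
    have h1 := hθx (θ⁻¹ x)
    rw [MulAut.apply_inv_self] at h1
    rw [← h1, MulAut.inv_apply_self]
  refine ⟨θ' * σ * θ'⁻¹, Subgroup.mul_mem _ (Subgroup.mul_mem _ hθ' hσ) (Subgroup.inv_mem _ hθ'), fun x => ?_,
    conj_mem_modSub hσm ?_⟩
  · rw [MulAut.mul_apply, MulAut.mul_apply, hθinv, hσx, hθx]
    rfl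
  · intro x hx
    have h1 := hθx ⟨x, hx⟩
    have e : Subgroup.inclusion le_sup_left (⟨x, hx⟩ : P) = x := Subtype.ext rfl
    rw [e] at h1
    rw [h1]
    exact (θ ⟨x, hx⟩).2

end Cfsg.Agent.Lib.Helper26.CenS
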