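import Cfsg.Agent.Lib.Helper26.CenSB

/-!
Towards S5127, part C: extending automorphisms of a receptive subgroup to `P C_S(P)`; transport of super-nice
extensions along maps of `F`.
-/

set_option autoImplicit false

namespace Cfsg.Agent.Lib.Helper26.CenS

open Cfsg Cfsg.FusionSystem Cfsg.Agent.Lib.Helper26 Cfsg.Agent.Lib.Helper27 Cfsg.Agent.Lib.Helper26.OlvN
  Cfsg.Agent.Lib.Helper26.Crav Cfsg.Agent.Lib.Helper26.CenE

variable {Ω : Type*} [Group Ω] {S : Subgroup Ω}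

/-- A map defined on `P C_S(P)` sends `C_S(P)` into the centralizer of the image of `P`. -/
theorem apply_mem_centralizerIn_of_hom (F : FusionSystem S) {P P' : Subgroup Ω}
    {ρ : ↥(P ⊔ centralizerIn S P) →* Ω} (hρ : ρ ∈ F.Hom (P ⊔ centralizerIn S P))
    (hP' : ∀ x' : Ω, x' ∈ P' → ∃ x : P, ρ (Subgroup.inclusion le_sup_left x) = x')
    (c : ↥(P ⊔ centralizerIn S P)) (hc : (c : Ω) ∈ centralizerIn S P) : ρ c ∈ centralizerIn S P' := by
  rw [mem_centralizerIn_iff]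
  refine ⟨hom_apply_mem F hρ c, fun x' hx' => ?_⟩
  obtain ⟨x, rfl⟩ := hP' x' hx'
  rw [← map_mul, ← map_mul]
  congr 1
  apply Subtype.ext
  exact comm_of_mem_centralizerIn hc x.2

/-- An automorphism of a receptive subgroup `P` extends to an automorphism of `P C_S(P)` in `F`. -/
theorem exists_extension_centralizer [Finite S] (F : FusionSystem S) {P : Subgroup Ω} (hrec : F.IsReceptive P)
    (θ : MulAut P) (hθ : θ ∈ F.autGroup P) :
    ∃ β : MulAut ↥(P ⊔ centralizerIn S P), β ∈ F.autGroup (P ⊔ centralizerIn S P) ∧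
      ∀ x : P, β (Subgroup.inclusion le_sup_left x) = Subgroup.inclusion le_sup_left (θ x) := by
  have hPS : P ≤ S := hrec.1
  have hYS : P ⊔ centralizerIn S P ≤ S := sup_cen_le hPS
  have hθF : equivHom (θ : P ≃* P) ∈ F.Hom P := (mem_autGroup_iff F hPS θ).mp hθ
  obtain ⟨β', hβ', hβ'x⟩ := hrec.2 P _ hθF (equivHom_range _)
  have hle : P ⊔ centralizerIn S P ≤ extender S P (equivHom (θ : P ≃* P)) :=
    sup_le (le_extender hPS _ (fun x => hPS (θ x).2)) (centralizerIn_le_extender P _)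
  obtain ⟨β₀, hβ₀def⟩ : ∃ β₀ : ↥(P ⊔ centralizerIn S P) →* Ω, β₀ = β'.comp (Subgroup.inclusion hle) := ⟨_, rfl⟩
  have hβ₀ : β₀ ∈ F.Hom (P ⊔ centralizerIn S P) := hβ₀def ▸ inclusion_comp_mem F hle hβ'
  have hβ₀P : ∀ x : P, β₀ (Subgroup.inclusion le_sup_left x) = ((θ x : P) : Ω) := by
    intro x
    rw [hβ₀def]
    exact hβ'x x x.2 (hle (Subgroup.mem_sup_left x.2))
  have hβ₀C : ∀ y : ↥(P ⊔ centralizerIn S P), (y : Ω) ∈ centralizerIn S P → β₀ y ∈ centralizerIn S P := by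
    intro y hy
    apply apply_mem_centralizerIn_of_hom F hβ₀ _ y hy
    intro x' hx'
    refine ⟨θ⁻¹ ⟨x', hx'⟩, ?_⟩
    rw [hβ₀P, MulAut.apply_inv_self]
  have hβ₀Y : ∀ y, β₀ y ∈ P ⊔ centralizerIn S P := by
    intro y
    obtain ⟨x, c, rfl⟩ := exists_mul_of_mem_sup_cen y
    rw [map_mul, hβ₀P]
    exact Subgroup.mul_mem _ (Subgroup.mem_sup_left (θ x).2) (Subgroup.mem_sup_right (hβ₀C _ c.2))
  obtain ⟨β, hβ, hβx⟩ := Cfsg.Agent.Lib.Helper26.exists_aut_of_hom F hβ₀ hβ₀Y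
  refine ⟨β, hβ, fun x => ?_⟩
  apply Subtype.ext
  rw [hβx, hβ₀P]
  rfl

/-- **Transport.** If `ρ` is a map of `F` on `P C_S(P)` carrying `P` onto `P'` (via `e`), and the transported
automorphism `e α e⁻¹` of `P'` has a super-nice extension, then so has `α`. -/
theorem mem_snSub_of_transport [Finite S] (F : FusionSystem S) {P P' : Subgroup Ω}
    (ρ : ↥(P ⊔ centralizerIn S P) →* Ω) (hρ : ρ ∈ F.Hom (P ⊔ centralizerIn S P))
    (e : P ≃* P') (he : ∀ x : P, ((e x : P') : Ω) = ρ (Subgroup.inclusion le_sup_left x))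
    (α : MulAut P) (h : MulAut.congr e α ∈ snSub F P') : α ∈ snSub F P := by
  obtain ⟨σ', hσ', hσ'x, hσ'm⟩ := h
  have hYS : P ⊔ centralizerIn S P ≤ S := hom_le F hρ
  have hinj := F.injective_of_mem hρ
  -- `ρ` maps into `P' C_S(P')`
  have hρC : ∀ c : ↥(P ⊔ centralizerIn S P), (c : Ω) ∈ centralizerIn S P → ρ c ∈ centralizerIn S P' := by
    intro c hc
    apply apply_mem_centralizerIn_of_hom F hρ _ c hc
    intro x' hx'
    refine ⟨e.symm ⟨x', hx'⟩, ?_⟩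
    rw [← he, MulEquiv.apply_symm_apply]
  have hρY : ∀ y : ↥(P ⊔ centralizerIn S P), ρ y ∈ P' ⊔ centralizerIn S P' := by
    intro y
    obtain ⟨x, c, rfl⟩ := exists_mul_of_mem_sup_cen y
    rw [map_mul, ← he]
    exact Subgroup.mul_mem _ (Subgroup.mem_sup_left (e x).2) (Subgroup.mem_sup_right (hρC _ c.2))
  have hle : ρ.range ≤ P' ⊔ centralizerIn S P' := by
    rintro _ ⟨y, rfl⟩
    exact hρY y
  obtain ⟨f, hfdef⟩ : ∃ f : ↥(P ⊔ centralizerIn S P) ≃* ρ.range, f = homEquiv F hρ rfl := ⟨_, rfl⟩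
  have hf : IsFIso F f := hfdef ▸ homEquiv_isFIso F hρ rfl
  have hfcoe : ∀ y, ((f y : ρ.range) : Ω) = ρ y := fun y => by rw [hfdef]; rfl
  have hP'S : P' ≤ S := by
    intro x' hx'
    have h1 := he (e.symm ⟨x', hx'⟩)
    rw [MulEquiv.apply_symm_apply] at h1
    have h2 : x' = ρ (Subgroup.inclusion le_sup_left (e.symm ⟨x', hx'⟩)) := h1
    rw [h2]
    exact hom_apply_mem F hρ _
  have hY'S : P' ⊔ centralizerIn S P' ≤ S := sup_cen_le hP'S
  have hP'r : P' ≤ ρ.range := by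
    intro x' hx'
    have h1 := he (e.symm ⟨x', hx'⟩)
    rw [MulEquiv.apply_symm_apply] at h1
    exact ⟨_, h1.symm⟩
  -- `σ'` preserves the image of `ρ`
  have hσ'r : ∀ y' : ↥(P' ⊔ centralizerIn S P'), (y' : Ω) ∈ ρ.range → ((σ' y' : _) : Ω) ∈ ρ.range := by
    intro y' hy'
    have e1 : σ' y' = y' * (y'⁻¹ * σ' y') := by group
    rw [e1]
    exact ρ.range.mul_mem hy' (hP'r (hσ'm y'))
  obtain ⟨g, hgdef⟩ : ∃ g : ρ.range →* Ω, g = (equivHom (σ' : _ ≃* _)).comp (Subgroup.inclusion hle) := ⟨_, rfl⟩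
  have hg : g ∈ F.Hom ρ.range :=
    hgdef ▸ inclusion_comp_mem F hle ((mem_autGroup_iff F hY'S σ').mp hσ')
  have hgcoe : ∀ z : ρ.range, g z = ((σ' (Subgroup.inclusion hle z) : _) : Ω) := fun z => by rw [hgdef]; rfl
  have hgr : ∀ z : ρ.range, g z ∈ ρ.range := by
    intro z
    rw [hgcoe]
    exact hσ'r _ z.2
  obtain ⟨σ'', hσ'', hσ''x⟩ := Cfsg.Agent.Lib.Helper26.exists_aut_of_hom F hg hgr
  obtain ⟨σ, hσdef⟩ : ∃ σ : MulAut ↥(P ⊔ centralizerIn S P), σ = MulAut.congr f.symm σ'' := ⟨_, rfl⟩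
  have hσ : σ ∈ F.autGroup (P ⊔ centralizerIn S P) := hσdef ▸ congr_mem_autGroup F hf.symm hσ''
  have hσf : ∀ y, f (σ y) = σ'' (f y) := by
    intro y
    rw [hσdef]
    show f (f.symm (σ'' (f.symm.symm y))) = _
    rw [MulEquiv.apply_symm_apply]
    rfl
  -- value of `ρ (σ y)`
  have hρσ : ∀ (y : ↥(P ⊔ centralizerIn S P)) (hy : ρ y ∈ P' ⊔ centralizerIn S P'),
      ρ (σ y) = ((σ' ⟨ρ y, hy⟩ : _) : Ω) := by
    intro y hy
    have h1 := congrArg (fun z : ρ.range => (z : Ω)) (hσf y)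
    have h2 : ρ (σ y) = ((σ'' (f y) : ρ.range) : Ω) := by
      rw [← hfcoe]
      exact h1
    rw [h2, hσ''x, hgcoe]
    congr 2
    apply Subtype.ext
    exact hfcoe y
  refine ⟨σ, hσ, fun x => ?_, fun y => ?_⟩
  · apply hinj
    have e1 : (⟨ρ (Subgroup.inclusion le_sup_left x), hρY _⟩ : ↥(P' ⊔ centralizerIn S P')) =
        Subgroup.inclusion le_sup_left (e x) := Subtype.ext (he x).symm
    rw [hρσ _ (hρY _), e1, hσ'x]
    show ((e (α (e.symm (e x))) : P') : Ω) = _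
    rw [MulEquiv.symm_apply_apply, he]
  · have h1 : ρ (y⁻¹ * σ y) ∈ P' := by
      rw [map_mul, map_inv, hρσ y (hρY y)]
      exact hσ'm ⟨ρ y, hρY y⟩
    have h2 := he (e.symm ⟨_, h1⟩)
    rw [MulEquiv.apply_symm_apply] at h2
    have h3 : ρ (y⁻¹ * σ y) = ρ (Subgroup.inclusion le_sup_left (e.symm ⟨_, h1⟩)) := h2
    have h4 := hinj h3
    rw [h4]
    exact (e.symm ⟨_, h1⟩).2

end Cfsg.Agent.Lib.Helper26.CenS
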