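import Cfsg.Agent.Lib.Helper26.FSExtendMod
import Cfsg.Agent.Lib.Helper26.FSSatEquiv
import Cfsg.Agent.Lib.Helper26.FSAlperin
import Cfsg.Agent.Lib.Helper16.PCore

/-!
If `E ⊴ F` over `T`, `P` is `F`-centric and `P ∩ T` is not `E`-centric, then `P` is not `F`-radical (S5251).
-/

set_option autoImplicit false

namespace Cfsg.Agent.Lib.Helper26

open Cfsg Cfsg.FusionSystem

variable {Ω : Type*} [Group Ω] {S : Subgroup Ω}

/-- The isomorphism `Aut_F(P) ≃* Aut_F(Q)` induced by an isomorphism of the system. -/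
noncomputable def autGroupCongr (F : FusionSystem S) {P Q : Subgroup Ω} {e : P ≃* Q} (he : IsFIso F e) :
    ↥(F.autGroup P) ≃* ↥(F.autGroup Q) where
  toFun a := ⟨MulAut.congr e a, congr_mem_autGroup F he a.2⟩
  invFun b := ⟨MulAut.congr e.symm b, congr_mem_autGroup F he.symm b.2⟩
  left_inv a := by
    apply Subtype.ext
    ext x
    simp [MulAut.congr]
  right_inv b := by
    apply Subtype.ext
    ext x
    simp [MulAut.congr]
  map_mul' a b := by
    apply Subtype.ext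
    exact map_mul (MulAut.congr e) _ _

/-- Transport of `O_p(Aut_F(P))` along an isomorphism of the system. -/
theorem congr_mem_pCore_autGroup {p : ℕ} [Fact p.Prime] (F : FusionSystem S) {P Q : Subgroup Ω} {e : P ≃* Q}
    (he : IsFIso F e) {α : MulAut P} (hα : α ∈ (pCore p (F.autGroup P)).map (F.autGroup P).subtype) :
    MulAut.congr e α ∈ (pCore p (F.autGroup Q)).map (F.autGroup Q).subtype := by
  obtain ⟨a, ha, rfl⟩ := hα
  have h := Cfsg.Agent.Lib.Helper16.pCore_map_equiv (p := p) (autGroupCongr F he)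
  refine ⟨autGroupCongr F he a, ?_, rfl⟩
  rw [← h]
  exact ⟨a, ha, rfl⟩

/-- An automorphism in `Aut_F(P)` centralizing `P ∩ T` and `P / (P ∩ T)`, for `T` strongly closed, lies in
`O_p(Aut_F(P))`. -/
theorem mem_pCore_of_stabilizes [Finite S] {p : ℕ} [Fact p.Prime] (hS : IsPGroup p S) (F : FusionSystem S)
    {T : Subgroup Ω} (hT : F.StronglyClosed T) {P : Subgroup Ω} (hPS : P ≤ S) {α : MulAut P}
    (hαF : α ∈ F.autGroup P) (h1 : ∀ y : P, (y : Ω) ∈ T → α y = y)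
    (h2 : ∀ y : P, (y : Ω)⁻¹ * ((α y : P) : Ω) ∈ T) :
    α ∈ (pCore p (F.autGroup P)).map (F.autGroup P).subtype := by
  have hfinP : Finite P := finite_of_le hPS
  have hTiff : ∀ γ ∈ F.autGroup P, ∀ y : P, (y : Ω) ∈ T ↔ ((γ y : P) : Ω) ∈ T := by
    intro γ hγ y
    exact apply_mem_iff_of_stronglyClosed F hT ((mem_autGroup_iff F hPS γ).mp hγ) y
  let B : Subgroup ↥(F.autGroup P) :=
    { carrier := {β | (∀ y : P, (y : Ω) ∈ T → (β : MulAut P) y = y) ∧
        ∀ y : P, (y : Ω)⁻¹ * (((β : MulAut P) y : P) : Ω) ∈ T}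
      one_mem' := ⟨fun y _ => rfl, fun y => by simp⟩
      mul_mem' := by
        rintro β₁ β₂ ⟨a1, a2⟩ ⟨b1, b2⟩
        refine ⟨fun y hy => ?_, fun y => ?_⟩
        · show (β₁ : MulAut P) ((β₂ : MulAut P) y) = y
          rw [b1 y hy, a1 y hy]
        · show (y : Ω)⁻¹ * (((β₁ : MulAut P) ((β₂ : MulAut P) y) : P) : Ω) ∈ T
          have e1 : (β₂ : MulAut P) y = y * (y⁻¹ * (β₂ : MulAut P) y) := by group
          have ht : ((y⁻¹ * (β₂ : MulAut P) y : P) : Ω) ∈ T := b2 y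
          rw [e1, map_mul, a1 _ ht]
          have : (y : Ω)⁻¹ * ((((β₁ : MulAut P) y * (y⁻¹ * (β₂ : MulAut P) y) : P)) : Ω) =
              ((y : Ω)⁻¹ * (((β₁ : MulAut P) y : P) : Ω)) * ((y⁻¹ * (β₂ : MulAut P) y : P) : Ω) := by
            simp only [Subgroup.coe_mul]
            group
          rw [this]
          exact T.mul_mem (a2 y) ht
      inv_mem' := by
        rintro β ⟨a1, a2⟩
        refine ⟨fun y hy => ?_, fun y => ?_⟩
        · show (β : MulAut P)⁻¹ y = y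
          have h3 := a1 y hy
          calc (β : MulAut P)⁻¹ y = (β : MulAut P)⁻¹ ((β : MulAut P) y) := by rw [h3]
            _ = y := MulAut.inv_apply_self _ _ _
        · show (y : Ω)⁻¹ * ((((β : MulAut P)⁻¹ y : P)) : Ω) ∈ T
          have h3 := a2 ((β : MulAut P)⁻¹ y)
          rw [MulAut.apply_inv_self] at h3
          have := T.inv_mem h3
          rwa [mul_inv_rev, inv_inv] at this }
  have hBnormal : B.Normal := by
    constructor
    rintro β ⟨a1, a2⟩ γ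
    refine ⟨fun y hy => ?_, fun y => ?_⟩
    · show (γ : MulAut P) ((β : MulAut P) ((γ : MulAut P)⁻¹ y)) = y
      have hy' : ((((γ : MulAut P)⁻¹ y : P)) : Ω) ∈ T := by
        rw [hTiff (γ : MulAut P) γ.2, MulAut.apply_inv_self]
        exact hy
      rw [a1 _ hy', MulAut.apply_inv_self]
    · show (y : Ω)⁻¹ * (((γ : MulAut P) ((β : MulAut P) ((γ : MulAut P)⁻¹ y)) : P) : Ω) ∈ T
      set w : P := (γ : MulAut P)⁻¹ y with hw
      have hyw : y = (γ : MulAut P) w := by rw [hw, MulAut.apply_inv_self]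
      have ht : ((w⁻¹ * (β : MulAut P) w : P) : Ω) ∈ T := a2 w
      have e1 : (β : MulAut P) w = w * (w⁻¹ * (β : MulAut P) w) := by group
      rw [e1, map_mul, ← hyw]
      have : (y : Ω)⁻¹ * ((y * (γ : MulAut P) (w⁻¹ * (β : MulAut P) w) : P) : Ω) =
          (((γ : MulAut P) (w⁻¹ * (β : MulAut P) w) : P) : Ω) := by
        simp only [Subgroup.coe_mul]
        group
      rw [this]
      exact (hTiff (γ : MulAut P) γ.2 _).mp ht
  have hBp : IsPGroup p B := by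
    obtain ⟨k, hk⟩ := (hS.to_le hPS).exists_card_eq
    rintro ⟨β, a1, a2⟩
    refine ⟨k, ?_⟩
    have hpow : ∀ n : ℕ, ∀ y : P, ((β : MulAut P) ^ n) y = y * (y⁻¹ * (β : MulAut P) y) ^ n := by
      intro n
      induction n with
      | zero => intro y; simp
      | succ n ih =>
        intro y
        have ht : ((y⁻¹ * (β : MulAut P) y : P) : Ω) ∈ T := a2 y
        rw [pow_succ', MulAut.mul_apply, ih, map_mul, map_pow, a1 _ ht, pow_succ', ← mul_assoc]
        congr 1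
        group
    apply Subtype.ext
    apply Subtype.ext
    ext y
    show (((((β : MulAut P) ^ (p ^ k)) y : P)) : Ω) = y
    rw [hpow, ← hk, pow_card_eq_one']
    simp
  have hle := Cfsg.Agent.Lib.Helper16.le_pCore hBnormal hBp
  exact ⟨⟨α, hαF⟩, hle ⟨h1, h2⟩, rfl⟩

/-- S5251. -/
theorem not_radical_of_meet_not_centric [Finite S] {p : ℕ} [Fact p.Prime] (hS : IsPGroup p S)
    (F : FusionSystem S) (hF : F.IsSaturated p) {T : Subgroup Ω} (hT : F.StronglyClosed T) (E : FusionSystem T)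
    (hEF : E.IsSubsystemOf F) (P : Subgroup Ω) (hP : F.IsCentric P) (hPT : ¬ E.IsCentric (P ⊓ T)) :
    (∃ φ ∈ F.Hom P, ∃ x ∈ S ⊓ Subgroup.normalizer (φ.range : Set Ω), x ∉ φ.range ∧
      ∃ α ∈ ((pCore p ↥(F.autGroup φ.range)).map (F.autGroup φ.range).subtype : Subgroup (MulAut ↥φ.range)),
        ∀ y : ↥φ.range, ((α y : ↥φ.range) : Ω) = x * (y : Ω) * x⁻¹) ∧ ¬ F.IsRadical p P := by
  have hPS : P ≤ S := hP.1
  have hTS : T ≤ S := hT.1
  have hP₀S : P ⊓ T ≤ S := inf_le_left.trans hPS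
  obtain ⟨Q', hQ'E, hQ'c⟩ : ∃ Q', E.IsConj (P ⊓ T) Q' ∧ ¬ centralizerIn T Q' ≤ Q' := by
    by_contra hcon
    push Not at hcon
    exact hPT ⟨inf_le_right, hcon⟩
  have hQ'F : F.IsConj (P ⊓ T) Q' := by
    obtain ⟨φ, hφ, hr⟩ := hQ'E
    exact ⟨φ, hEF _ hφ, hr⟩
  obtain ⟨Qs, hconj, -, hrec, ⟨D⟩⟩ := exists_normHom_of_saturated hS F hF hP₀S
  have hTnorm := le_normalizer_of_stronglyClosed F hT
  have hPN : P ≤ normalizerIn S (P ⊓ T) := by
    intro y hy
    refine ⟨hPS hy, ?_⟩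
    have h1 : y ∈ Subgroup.normalizer (P : Set Ω) := Subgroup.le_normalizer hy
    have h2 : y ∈ Subgroup.normalizer (T : Set Ω) := hTnorm (hPS hy)
    show y ∈ Subgroup.normalizer ((P ⊓ T : Subgroup Ω) : Set Ω)
    rw [Subgroup.mem_normalizer_iff] at h1 h2 ⊢
    intro z
    rw [Subgroup.mem_inf, Subgroup.mem_inf]
    exact and_congr (h1 z) (h2 z)
  obtain ⟨φ, hφdef⟩ : ∃ φ : P →* Ω, φ = D.φ.comp (Subgroup.inclusion hPN) := ⟨_, rfl⟩
  have hφ : φ ∈ F.Hom P := by rw [hφdef]; exact inclusion_comp_mem F hPN D.mem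
  have hφapp : ∀ y : P, φ y = D.φ (Subgroup.inclusion hPN y) := by rw [hφdef]; intro y; rfl
  have hDmap := (map_subgroupOf_eq_iff' D.φ).mp D.map
  have hQs_eq : ∀ z : Ω, z ∈ Qs ↔ z ∈ φ.range ∧ z ∈ T := by
    intro z
    constructor
    · intro hz
      obtain ⟨y, hy, rfl⟩ := hDmap.2 z hz
      refine ⟨⟨⟨y, hy.1⟩, ?_⟩, apply_mem_of_stronglyClosed F hT D.mem y hy.2⟩
      rw [hφapp]
      rfl
    · rintro ⟨⟨y, rfl⟩, hzT⟩
      have hyT : (y : Ω) ∈ T := mem_of_apply_mem_of_stronglyClosed F hT hφ y hzT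
      rw [hφapp]
      exact hDmap.1 _ ⟨y.2, hyT⟩
  -- `C_T(Qs) ≰ Qs`
  have hQsc : ¬ centralizerIn T Qs ≤ Qs := by
    intro hle
    apply hQ'c
    have hconj' : F.IsConj Q' Qs := isConj_trans F (isConj_symm F hQ'F) hconj
    obtain ⟨θ, hθ, hθr⟩ := hconj'
    obtain ⟨ψ', hψ', hψ'θ⟩ := hrec.2 Q' θ hθ hθr
    have hQ'S : Q' ≤ S := hom_le F hθ
    intro c hc
    obtain ⟨hcT, hcc⟩ := mem_centralizerIn_iff.mp hc
    have hcS : c ∈ centralizerIn S Q' := mem_centralizerIn_iff.mpr ⟨hTS hcT, hcc⟩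
    have hcN : c ∈ extender S Q' θ := centralizerIn_le_extender Q' θ hcS
    have hQ'N : Q' ≤ extender S Q' θ := le_extender hQ'S θ (hom_apply_mem F hθ)
    have h1 : ψ' ⟨c, hcN⟩ ∈ centralizerIn T Qs := by
      rw [mem_centralizerIn_iff]
      refine ⟨apply_mem_of_stronglyClosed F hT hψ' ⟨c, hcN⟩ hcT, fun z hz => ?_⟩
      rw [← hθr] at hz
      obtain ⟨q, rfl⟩ := hz
      rw [← hψ'θ q q.2 (hQ'N q.2), ← map_mul, ← map_mul]
      congr 1
      apply Subtype.ext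
      exact hcc q q.2
    have h2 := hle h1
    rw [← hθr] at h2
    obtain ⟨q, hq⟩ := h2
    rw [← hψ'θ q q.2 (hQ'N q.2)] at hq
    have h3 := F.injective_of_mem hψ' hq
    have hqc : (q : Ω) = c := congrArg Subtype.val h3
    rw [← hqc]
    exact q.2
  obtain ⟨c, hc, hcQ⟩ : ∃ c ∈ centralizerIn T Qs, c ∉ Qs := by
    by_contra hcon
    push Not at hcon
    exact hQsc hcon
  have hcT : c ∈ T := (mem_centralizerIn_iff.mp hc).1
  have hcP : c ∉ φ.range := fun h => hcQ ((hQs_eq c).mpr ⟨h, hcT⟩)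
  have hPsS : φ.range ≤ S := range_le F hφ
  have key : ∀ y ∈ φ.range, ∀ z ∈ centralizerIn T Qs, y * z * y⁻¹ ∈ centralizerIn T Qs := by
    intro y hy z hz
    obtain ⟨hzT, hzc⟩ := mem_centralizerIn_iff.mp hz
    rw [mem_centralizerIn_iff]
    refine ⟨(Subgroup.mem_normalizer_iff.mp (hTnorm (hPsS hy)) z).mp hzT, fun q hq => ?_⟩
    have hq' : y⁻¹ * q * y ∈ Qs := by
      rw [hQs_eq] at hq ⊢
      refine ⟨φ.range.mul_mem (φ.range.mul_mem (φ.range.inv_mem hy) hq.1) hy, ?_⟩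
      have := (Subgroup.mem_normalizer_iff.mp (Subgroup.inv_mem _ (hTnorm (hPsS hy))) q).mp hq.2
      rwa [inv_inv] at this
    have := hzc _ hq'
    calc q * (y * z * y⁻¹) = y * ((y⁻¹ * q * y) * z) * y⁻¹ := by group
      _ = y * (z * (y⁻¹ * q * y)) * y⁻¹ := by rw [this]
      _ = y * z * y⁻¹ * q := by group
  have hPsN : φ.range ≤ Subgroup.normalizer (centralizerIn T Qs : Set Ω) := by
    intro y hy
    apply mem_normalizer_of_conj_mem (key y hy)
    intro z hz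
    have := key y⁻¹ (Subgroup.inv_mem _ hy) z hz
    rwa [inv_inv] at this
  have hMS : φ.range ⊔ centralizerIn T Qs ≤ S := sup_le hPsS ((centralizerIn_le T Qs).trans hTS)
  have hfinM : Finite ↥(φ.range ⊔ centralizerIn T Qs) := finite_of_le hMS
  have hne : φ.range ≠ φ.range ⊔ centralizerIn T Qs := fun h => hcP (h ▸ Subgroup.mem_sup_right hc)
  obtain ⟨g, hgN, hgP⟩ := exists_mem_normalizerIn_not_mem (hS.to_le hMS) le_sup_left hne
  obtain ⟨y, x, hgyx⟩ := exists_mul_of_mem_sup' hPsN ⟨g, hgN.1⟩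
  have hg : g = y * x := congrArg Subtype.val hgyx
  have hxP : (x : Ω) ∉ φ.range := fun h => hgP (hg ▸ φ.range.mul_mem y.2 h)
  have hxN : (x : Ω) ∈ Subgroup.normalizer (φ.range : Set Ω) := by
    have : (x : Ω) = (y : Ω)⁻¹ * g := by rw [hg]; group
    rw [this]
    exact Subgroup.mul_mem _ (Subgroup.inv_mem _ (Subgroup.le_normalizer y.2)) hgN.2
  obtain ⟨hxT, hxc⟩ := mem_centralizerIn_iff.mp x.2
  have hxS : (x : Ω) ∈ S := hTS hxT
  have hαF : φ.range.normalizerMonoidHom ⟨x, hxN⟩ ∈ F.autGroup φ.range :=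
    autInducedBy_le_autGroup F hPsS (normalizerMonoidHom_mem_autInducedBy hxS hxN)
  have hαcore : φ.range.normalizerMonoidHom ⟨x, hxN⟩ ∈
      (pCore p ↥(F.autGroup φ.range)).map (F.autGroup φ.range).subtype := by
    apply mem_pCore_of_stabilizes hS F hT hPsS hαF
    · intro z hz
      apply Subtype.ext
      show (x : Ω) * z * (x : Ω)⁻¹ = z
      have := hxc z ((hQs_eq z).mpr ⟨z.2, hz⟩)
      rw [← this]
      group
    · intro z
      show (z : Ω)⁻¹ * ((x : Ω) * z * (x : Ω)⁻¹) ∈ T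
      have h1 : (z : Ω)⁻¹ * ((x : Ω) * z * (x : Ω)⁻¹) = ((z : Ω)⁻¹ * x * (z : Ω)⁻¹⁻¹) * (x : Ω)⁻¹ := by group
      rw [h1]
      exact T.mul_mem ((Subgroup.mem_normalizer_iff.mp (hTnorm (hPsS (Subgroup.inv_mem _ z.2))) x).mp hxT)
        (T.inv_mem hxT)
  refine ⟨⟨φ, hφ, x, ⟨hxS, hxN⟩, hxP, _, hαcore, fun _ => rfl⟩, ?_⟩
  intro hr
  have he : IsFIso F (homEquiv F hφ rfl) := homEquiv_isFIso F hφ rfl
  have h3 := congr_mem_pCore_autGroup (p := p) F he.symm hαcore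
  rw [hr.2] at h3
  obtain ⟨u, hu⟩ := h3
  -- `x` acts on `φ.range` as `φ u`
  have hact : ∀ z : ↥φ.range, (x : Ω) * z * (x : Ω)⁻¹ = φ u * z * (φ u)⁻¹ := by
    intro z
    have h4 := congrArg (fun β : MulAut P => ((homEquiv F hφ rfl (β ((homEquiv F hφ rfl).symm z)) : ↥φ.range) : Ω)) hu
    simp only [MulAut.conj_apply, map_mul, map_inv, MulEquiv.apply_symm_apply] at h4
    have h5 : ((MulAut.congr (homEquiv F hφ rfl).symm (φ.range.normalizerMonoidHom ⟨x, hxN⟩))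
        ((homEquiv F hφ rfl).symm z)) = (homEquiv F hφ rfl).symm (φ.range.normalizerMonoidHom ⟨x, hxN⟩ z) := by
      simp [MulAut.congr]
    rw [h5, MulEquiv.apply_symm_apply] at h4
    exact h4.symm
  have hcen : (φ u)⁻¹ * (x : Ω) ∈ centralizerIn S φ.range := by
    rw [mem_centralizerIn_iff]
    refine ⟨S.mul_mem (S.inv_mem (hom_apply_mem F hφ u)) hxS, fun z hz => ?_⟩
    have := hact ⟨z, hz⟩
    have h6 : (x : Ω) * z = φ u * z * (φ u)⁻¹ * x := by
      calc (x : Ω) * z = ((x : Ω) * z * (x : Ω)⁻¹) * x := by group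
        _ = _ := by rw [this]
    calc z * ((φ u)⁻¹ * (x : Ω)) = (φ u)⁻¹ * (φ u * z * (φ u)⁻¹ * x) := by group
      _ = (φ u)⁻¹ * ((x : Ω) * z) := by rw [h6]
      _ = (φ u)⁻¹ * (x : Ω) * z := by group
  have h7 := hP.2 φ.range ⟨φ, hφ, rfl⟩ hcen
  apply hxP
  have : (x : Ω) = φ u * ((φ u)⁻¹ * (x : Ω)) := by group
  rw [this]
  exact φ.range.mul_mem ⟨u, rfl⟩ h7

end Cfsg.Agent.Lib.Helper26
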