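import Cfsg.Agent.Lib.Helper26.FSSatCritD7
import Cfsg.Agent.Lib.Helper26.FSCentricMeet

/-!
Saturation criterion (BCGLO, Theorem 2.2), part E: assembling the proof (S5110).
-/

set_option autoImplicit false

namespace Cfsg.Agent.Lib.Helper26

open Cfsg Cfsg.FusionSystem

variable {Ω : Type*} [Group Ω] {S : Subgroup Ω}

section Assemble

variable [Finite S] {p : ℕ} [Fact p.Prime]

theorem conj_inn {P : Subgroup Ω} (α : MulAut P) (x : P) : α * MulAut.conj x * α⁻¹ = MulAut.conj (α x) := by
  ext y
  simp [MulAut.mul_apply, MulAut.conj_apply]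

theorem congr_conj {P Q : Subgroup Ω} (e : P ≃* Q) (x : P) : MulAut.congr e (MulAut.conj x) = MulAut.conj (e x) := by
  ext y
  simp [MulAut.congr, MulAut.conj_apply]

/-- Conjugate subgroups of `S` of the same order as `S` are equal to `S`. -/
theorem eq_of_isConj_top (F : FusionSystem S) {Q : Subgroup Ω} (h : F.IsConj S Q) : Q = S := by
  obtain ⟨e, he⟩ := (isConj_iff_exists_isFIso F).mp h
  apply Subgroup.eq_of_le_of_card_ge he.le_right
  exact (Nat.card_congr e.toEquiv).le

/-- **BCGLO Theorem 2.2** (S5110). -/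
theorem saturated_of_criterion (hS : IsPGroup p S) (F : FusionSystem S) (ℋ : Set (Subgroup Ω))
    (hℋconj : ∀ P ∈ ℋ, ∀ Q, F.IsConj P Q → Q ∈ ℋ)
    (hsat : ∀ P ∈ ℋ, ∃ Q, F.IsConj P Q ∧ F.IsFullyAutomized p Q ∧ F.IsReceptive Q)
    (hgen : ∀ E : FusionSystem S, (∀ P ∈ ℋ, F.Hom P ⊆ E.Hom P) → F ≤ E)
    (hstar : ∀ P : Subgroup Ω, F.IsCentric P → P ∉ ℋ → ∃ Q, F.IsConj P Q ∧
      ¬ (autInducedBy S Q ⊓ (pCore p ↥(F.autGroup Q)).map (F.autGroup Q).subtype ≤ Inn Q)) :
    F.IsSaturated p := by
  -- `S ∈ ℋ`
  have hSℋ : S ∈ ℋ := by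
    by_contra hSℋ
    have hcen : F.IsCentric S := by
      refine ⟨le_rfl, fun Q hQ => ?_⟩
      rw [eq_of_isConj_top F hQ]
      exact inf_le_left
    obtain ⟨Q, hSQ, hQ⟩ := hstar S hcen hSℋ
    apply hQ
    have hQS := eq_of_isConj_top F hSQ
    subst hQS
    intro α hα
    obtain ⟨g, hg, hgα⟩ := (mem_autInducedBy_iff _ _ α).mp hα.1
    refine ⟨⟨g, hg⟩, ?_⟩
    ext x
    rw [hgα]
    rfl
  have hchain : ∀ {X Y : Subgroup Ω} (e : X ≃* Y), IsFIso F e → X ∉ ℋ → EChain F e :=
    fun e he hX => echain_of_gen hS F ℋ hℋconj hgen hSℋ e he hX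
  have key : ∀ d : ℕ, ∀ X : Subgroup Ω, X ≤ S → Nat.card S - Nat.card X = d → GoodClass F p X := by
    intro d
    induction d using Nat.strong_induction_on with
    | _ d ih =>
      intro X hXS hd
      by_cases hXℋ : X ∈ ℋ
      · exact hsat X hXℋ
      have hup : ∀ Q : Subgroup Ω, Q ≤ S → Nat.card X < Nat.card Q → GoodClass F p Q := by
        intro Q hQS hlt
        have hQle : Nat.card Q ≤ Nat.card S := Subgroup.card_le_of_le hQS
        exact ih (Nat.card S - Nat.card Q) (by omega) Q hQS rfl
      obtain ⟨P, hXP, hPfn⟩ := exists_fullyNormalized_conj F hXS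
      have hPS : P ≤ S := hPfn.1
      have hfinP : Finite P := finite_of_le hPS
      have hPℋ : P ∉ ℋ := fun hP => hXℋ (hℋconj P hP X (isConj_symm F hXP))
      have hPn : Nat.card P = Nat.card X := by
        obtain ⟨e, -⟩ := (isConj_iff_exists_isFIso F).mp hXP
        exact (Nat.card_congr e.toEquiv).symm
      apply GoodClass.of_conj _ (isConj_symm F hXP)
      have htop : ∀ Q, F.IsConj Q P → Nonempty (NormHom F Q P) := by
        intro Q hQP
        obtain ⟨e, he⟩ := (isConj_iff_exists_isFIso F).mp hQP
        have hQℋ : Q ∉ ℋ := fun hQ => hPℋ (hℋconj Q hQ P hQP)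
        have hQn : Nat.card Q = Nat.card X := by rw [Nat.card_congr e.toEquiv, hPn]
        exact ((top_of_echain hS F (Nat.card X) hup hPfn (hchain e he hQℋ)) hQn).mpr ⟨NormHom.refl F hPS⟩
      have hch : ∀ α ∈ F.autGroup P, EChain F (α : P ≃* P) :=
        fun α hα => hchain _ ((mem_autGroup_iff_isFIso F hPS α).mp hα) hPℋ
      by_cases hcen : F.IsCentric P
      · -- centric case
        obtain ⟨Q, hPQ, hQ⟩ := hstar P hcen hPℋ
        obtain ⟨a⟩ := htop Q (isConj_symm F hPQ)
        have hKn : ∀ α ∈ F.autGroup P, ∀ k ∈ (pCore p ↥(F.autGroup P)).map (F.autGroup P).subtype,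
            α * k * α⁻¹ ∈ (pCore p ↥(F.autGroup P)).map (F.autGroup P).subtype := by
          rintro α hα _ ⟨k, hk, rfl⟩
          have hn : (pCore p ↥(F.autGroup P)).Normal := inferInstance
          exact ⟨⟨α, hα⟩ * k * ⟨α, hα⟩⁻¹, hn.conj_mem k hk ⟨α, hα⟩, rfl⟩
        have hinn : Inn P ≤ (pCore p ↥(F.autGroup P)).map (F.autGroup P).subtype := by
          intro x hx
          have hn : ((Inn P).subgroupOf (F.autGroup P)).Normal := (Cfsg.innNormal P).subgroupOf _
          have hp : IsPGroup p ↥((Inn P).subgroupOf (F.autGroup P)) := (inn_isPGroup hS hPS).comap_subtype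
          exact ⟨⟨x, inn_le_autGroup F hPS hx⟩, Cfsg.Agent.Lib.Helper16.le_pCore hn hp hx, rfl⟩
        have hne : ∃ s ∈ NK S P ((pCore p ↥(F.autGroup P)).map (F.autGroup P).subtype), s ∉ P := by
          by_contra hcon
          push Not at hcon
          apply hQ
          intro α hα
          have h1 : MulAut.congr a.e α ∈ autInducedBy S P := a.autS_map_le α hα.1
          have h2 := congr_mem_pCore_autGroup (p := p) F a.e_isFIso hα.2
          obtain ⟨s, hsS, hsN, hs⟩ := (mem_autInducedBy_iff' S P _).mp h1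
          have hsNK : s ∈ NK S P ((pCore p ↥(F.autGroup P)).map (F.autGroup P).subtype) := by
            apply mem_NK_of_normalizerMonoidHom_mem hsS hsN
            rw [← hs]
            exact h2
          have hsP := hcon s hsNK
          have h3 : MulAut.congr a.e α = MulAut.conj (⟨s, hsP⟩ : P) := by
            rw [hs]
            ext x
            rfl
          have h4 : α = MulAut.conj (a.e.symm ⟨s, hsP⟩) := by
            have := congrArg (MulAut.congr a.e.symm) h3
            rw [congr_conj] at this
            rw [← this]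
            ext x
            simp [MulAut.congr]
          rw [h4]
          exact ⟨_, rfl⟩
        have hdata : TopData F p (Nat.card X) P ((pCore p ↥(F.autGroup P)).map (F.autGroup P).subtype) :=
          { fn := hPfn
            card := hPn
            up := hup
            top := htop
            KA := Subgroup.map_subtype_le _
            Kn := hKn
            Kp := (Cfsg.Agent.Lib.Helper16.pCore_isPGroup (G := ↥(F.autGroup P)) (p := p)).map _
            inn := hinn
            dich := Or.inr (hcen.2 P (isConj_refl F hPS))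
            ne := hne }
        exact good_of_topData hS hdata hch
      · -- non-centric case
        have hex : ∃ Q, F.IsConj P Q ∧ ¬ centralizerIn S Q ≤ Q := by
          by_contra hcon
          push Not at hcon
          exact hcen ⟨hPS, hcon⟩
        obtain ⟨Q, hPQ, hQ⟩ := hex
        obtain ⟨a⟩ := htop Q (isConj_symm F hPQ)
        have hne : ∃ s ∈ NK S P (Inn P), s ∉ P := by
          rw [SetLike.not_le_iff_exists] at hQ
          obtain ⟨c, hc, hcQ⟩ := hQ
          have hcN : c ∈ normalizerIn S Q := centralizerIn_le_normalizerIn S Q hc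
          refine ⟨a.φ ⟨c, hcN⟩, centralizerIn_le_NK S P _ (a.φ_mem_centralizerIn ⟨c, hcN⟩ hc), fun hmem => ?_⟩
          apply hcQ
          have h1 := a.e_apply (a.e.symm ⟨_, hmem⟩)
          rw [MulEquiv.apply_symm_apply] at h1
          have h2 := a.inj h1
          have h3 : c = ((a.e.symm ⟨_, hmem⟩ : Q) : Ω) := congrArg Subtype.val h2
          rw [h3]
          exact (a.e.symm _).2
        have hKn : ∀ α ∈ F.autGroup P, ∀ k ∈ Inn P, α * k * α⁻¹ ∈ Inn P := by
          rintro α - _ ⟨x, rfl⟩
          rw [conj_inn]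
          exact ⟨_, rfl⟩
        have hdata : TopData F p (Nat.card X) P (Inn P) :=
          { fn := hPfn
            card := hPn
            up := hup
            top := htop
            KA := inn_le_autGroup F hPS
            Kn := hKn
            Kp := inn_isPGroup hS hPS
            inn := le_rfl
            dich := Or.inl rfl
            ne := hne }
        exact good_of_topData hS hdata hch
  exact fun X hXS => key _ X hXS rfl

end Assemble

end Cfsg.Agent.Lib.Helper26
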