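import Cfsg.Agent.Lib.Helper26.OlvNH
import Cfsg.Agent.Lib.Helper26.FSCentricMeet
import Cfsg.Agent.Lib.Helper26.FSSatCritE

/-!
Towards S5243 (Oliver's lemma), part I: existence of the saturated subsystem of index prime to `p` inside `N`.
-/

set_option autoImplicit false

namespace Cfsg.Agent.Lib.Helper26.OlvN

open Cfsg Cfsg.FusionSystem Cfsg.Agent.Lib.Helper26 Cfsg.Agent.Lib.Helper27 Cfsg.Agent.Lib.Helper26.PPLeast

variable {Ω : Type*} [Group Ω] {S T : Subgroup Ω}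

/-- Radicality passes to conjugates (one inclusion). -/
theorem pCore_le_inn_of_isConj {p : ℕ} [Fact p.Prime] (F : FusionSystem S) {P Ps : Subgroup Ω}
    (hP : F.IsRadical p P) (hconj : F.IsConj P Ps) :
    (pCore p ↥(F.autGroup Ps)).map (F.autGroup Ps).subtype ≤ Inn Ps := by
  obtain ⟨e, he⟩ := (isConj_iff_exists_isFIso F).mp hconj
  intro β hβ
  have h1 := congr_mem_pCore_autGroup F he.symm hβ
  rw [hP.2] at h1
  obtain ⟨y, hy⟩ := h1
  refine ⟨e y, ?_⟩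
  have h2 : MulAut.congr e (MulAut.congr e.symm β) = β := by
    ext x
    simp [MulAut.congr]
  rw [← h2, ← hy]
  exact (congr_conj e y).symm

/-- Transfer of badness along an element of `Aut_F(S)`. -/
theorem bad_transfer (F : FusionSystem S) (hT : F.StronglyClosed T) {α : MulAut S} (hα : α ∈ F.autGroup S)
    {Q Ps : Subgroup Ω} (hQS : Q ≤ S) (hiff : ∀ y : S, (y : Ω) ∈ Q ↔ ((α y : S) : Ω) ∈ Ps)
    (hbad : ¬ centralizerIn T (Ps ⊓ T) ≤ Ps ⊓ T) : ¬ centralizerIn T (Q ⊓ T) ≤ Q ⊓ T := by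
  have hαF : S.subtype.comp α.toMonoidHom ∈ F.Hom S := (mem_autGroup_iff F le_rfl α).mp hα
  have hTiff : ∀ y : S, (y : Ω) ∈ T ↔ ((α y : S) : Ω) ∈ T := fun y => apply_mem_iff_of_stronglyClosed F hT hαF y
  intro hle
  apply hbad
  intro c hc
  rw [mem_centralizerIn_iff] at hc
  obtain ⟨hcT, hcc⟩ := hc
  have hcS : c ∈ S := hT.1 hcT
  obtain ⟨c', hc'⟩ : ∃ c' : S, c' = α⁻¹ ⟨c, hcS⟩ := ⟨_, rfl⟩
  have hαc' : α c' = ⟨c, hcS⟩ := by rw [hc', MulAut.apply_inv_self]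
  have hc'T : (c' : Ω) ∈ T := by
    rw [hTiff, hαc']
    exact hcT
  have hc'C : (c' : Ω) ∈ centralizerIn T (Q ⊓ T) := by
    rw [mem_centralizerIn_iff]
    refine ⟨hc'T, fun y hy => ?_⟩
    have hyS : y ∈ S := hQS hy.1
    have h1 : ((α ⟨y, hyS⟩ : S) : Ω) ∈ Ps ⊓ T := ⟨(hiff ⟨y, hyS⟩).mp hy.1, (hTiff ⟨y, hyS⟩).mp hy.2⟩
    have h2 := hcc _ h1
    have h3 : α ⟨y, hyS⟩ * α c' = α c' * α ⟨y, hyS⟩ := by
      rw [hαc']
      exact Subtype.ext h2
    rw [← map_mul, ← map_mul] at h3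
    have h4 := α.injective h3
    exact congrArg Subtype.val h4
  have h5 := hle hc'C
  have h6 := (hiff c').mp h5.1
  rw [hαc'] at h6
  exact ⟨h6, hcT⟩

namespace KData

variable {F : FusionSystem S} {E : FusionSystem T} {K : Subgroup (MulAut T)}

/-- The class `ℋ`: `F`-centric subgroups meeting `T` in an `E`-centric subgroup. -/
def calH (_h : KData F E K) : Set (Subgroup Ω) := {P | F.IsCentric P ∧ E.IsCentric (P ⊓ T)}

theorem calH_conj (h : KData F E K) {P Q : Subgroup Ω} (hP : P ∈ h.calH) (hPQ : F.IsConj P Q) : Q ∈ h.calH := by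
  refine ⟨isCentric_of_isConj F hP.1 hPQ, ?_⟩
  rw [isCentric_iff_of_invariant h.inv]
  refine ⟨inf_le_right, fun Q' hQQ' => ?_⟩
  exact ((isCentric_iff_of_invariant h.inv _).mp hP.2).2 Q' (isConj_trans F (isConj_inf F h.closed hPQ) hQQ')

theorem calH_up (h : KData F E K) {P Q : Subgroup Ω} (hP : P ∈ h.calH) (hPQ : P ≤ Q) (hQS : Q ≤ S) :
    Q ∈ h.calH :=
  ⟨isCentric_of_le F hP.1 hPQ hQS, isCentric_of_le E hP.2 (inf_le_inf_right T hPQ) inf_le_right⟩

section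

variable [Finite S] {p : ℕ} [Fact p.Prime]

theorem calH_essential (h : KData F E K) (hS : IsPGroup p S) (hF : F.IsSaturated p) {P : Subgroup Ω}
    (hP : F.IsEssential p P) : P ∈ h.calH := by
  refine ⟨hP.1, ?_⟩
  by_contra hnc
  obtain ⟨Ps, hPPs, hbad⟩ := exists_conj_bad hS F hF h.inv hP.1.1 hnc
  have h1 := not_le_inn_of_bad hS F F (fun _ _ hφ => hφ) h.closed (isCentric_of_isConj F hP.1 hPPs) hbad
  exact h1 (inf_le_right.trans (pCore_le_inn_of_isConj F (radical_of_essential hS F P hP) hPPs))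

/-- **Existence.** There is a saturated subsystem `X` of index prime to `p` in `F`, inside `N` and containing the maps of
`N` between members of `ℋ`. -/
theorem exists_sub (h : KData F E K) (hS : IsPGroup p S) (hF : F.IsSaturated p) (hEsat : E.IsSaturated p)
    (hKp : pgenAut F p T ≤ K) :
    ∃ X : FusionSystem S, X.IsSaturated p ∧ X.HasPrimeToPIndexIn F p ∧ (∀ P, X.Hom P ⊆ h.N.Hom P) ∧
      (∀ P ∈ h.calH, h.N.Hom P ⊆ X.Hom P) ∧ Frat X F ∧ (∀ P, X.IsCentric P ↔ F.IsCentric P) ∧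
      ∀ E' : FusionSystem S, (∀ P ∈ h.calH, h.N.Hom P ⊆ E'.Hom P) → ∀ P, X.Hom P ⊆ E'.Hom P := by
  apply exists_saturated_le_class hS F h.N hF h.N_le h.calH (fun P hP => hP.1)
    (fun P hP Q hPQ => h.calH_conj hP hPQ) (fun P hP Q hPQ hQS => h.calH_up hP hPQ hQS)
    (fun P hP => h.calH_essential hS hF hP)
    (fun P hP => h.pgenAut_le_N hS hF hP.1.1)
  · intro α hα R hR hres
    exact h.aut_mem_N_of_resAut_mem hS hEsat hKp hα hR.1.1 hR.2 hres
  · intro X hXF hfrat P hPc hPn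
    have hnc : ¬ E.IsCentric (P ⊓ T) := fun hc => hPn ⟨hPc, hc⟩
    obtain ⟨Ps, hPPs, hbad⟩ := exists_conj_bad hS F hF h.inv hPc.1 hnc
    obtain ⟨φ, hφ, rfl⟩ := hPPs
    obtain ⟨α, hα, φ₀, hφ₀, hφα⟩ := hfrat P φ hφ
    have hφ₀F : φ₀ ∈ F.Hom P := hXF P hφ₀
    have hφ₀S : ∀ x, φ₀ x ∈ S := hom_apply_mem F hφ₀F
    have hQc : F.IsCentric φ₀.range := isCentric_of_isConj F hPc ⟨φ₀, hφ₀F, rfl⟩
    refine ⟨φ₀.range, ⟨φ₀, hφ₀, rfl⟩, ?_⟩
    apply not_le_inn_of_bad hS F X hXF h.closed hQc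
    apply bad_transfer F h.closed hα hQc.1 _ hbad
    intro y
    constructor
    · rintro ⟨x, hx⟩
      refine ⟨x, ?_⟩
      rw [hφα x (hφ₀S x)]
      congr 2
      exact Subtype.ext hx
    · rintro ⟨x, hx⟩
      refine ⟨x, ?_⟩
      rw [hφα x (hφ₀S x)] at hx
      have := α.injective (Subtype.ext hx)
      exact congrArg Subtype.val this

end

end KData

end Cfsg.Agent.Lib.Helper26.OlvN
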