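import Cfsg.Agent.Lib.Helper26.CenSC
import Cfsg.Agent.Lib.Helper26.OlvNI

/-!
Towards S5127, part D: geometry of `P C_S(P)` for `E`-centric `P`; `V C_S(V)` is fully normalized when `V` is;
extension of automorphisms to the normalizer.
-/

set_option autoImplicit false

namespace Cfsg.Agent.Lib.Helper26.CenS

open Cfsg Cfsg.FusionSystem Cfsg.Agent.Lib.Helper26 Cfsg.Agent.Lib.Helper27 Cfsg.Agent.Lib.Helper26.OlvN
  Cfsg.Agent.Lib.Helper26.Crav Cfsg.Agent.Lib.Helper26.CenE Cfsg.Agent.Lib.Helper26.PPLeast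

variable {Ω : Type*} [Group Ω] {S T : Subgroup Ω}

/-- `F`-conjugates of `E`-centric subgroups are `E`-centric (`E` invariant in `F`). -/
theorem isCentric_of_isConj_invariant {E : FusionSystem T} {F : FusionSystem S} (hE : E.IsInvariantIn F)
    {P P' : Subgroup Ω} (hPc : E.IsCentric P) (hconj : F.IsConj P P') : E.IsCentric P' := by
  have hT : F.StronglyClosed T := hE.2.1
  obtain ⟨e, he⟩ := (isConj_iff_exists_isFIso F).mp hconj
  have hP'T : P' ≤ T := by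
    intro y hy
    have h1 := hT.2 P hPc.1 _ he (e.symm ⟨y, hy⟩)
    have h2 : equivHom e (e.symm ⟨y, hy⟩) = y := by
      show ((e (e.symm ⟨y, hy⟩) : P') : Ω) = y
      rw [MulEquiv.apply_symm_apply]
    rwa [h2] at h1
  rw [isCentric_iff_of_invariant hE]
  refine ⟨hP'T, fun Q hQ => ?_⟩
  exact ((isCentric_iff_of_invariant hE P).mp hPc).2 Q (isConj_trans F hconj hQ)

theorem cen_le_of_isCentric {E : FusionSystem T} {P : Subgroup Ω} (hPc : E.IsCentric P) :
    centralizerIn T P ≤ P := hPc.2 P (isConj_refl E hPc.1)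

/-- `(P X) ∩ T = P` when `X ≤ C_S(P)` and `C_T(P) ≤ P ≤ T`. -/
theorem mem_of_mem_sup_cen {P X : Subgroup Ω} (hPT : P ≤ T) (hcen : centralizerIn T P ≤ P)
    (hX : X ≤ centralizerIn S P) {y : Ω} (hy : y ∈ P ⊔ X) (hyT : y ∈ T) : y ∈ P := by
  have hn : P ≤ Subgroup.normalizer ((X : Subgroup Ω) : Set Ω) := by
    intro x hx
    rw [Subgroup.mem_normalizer_iff]
    intro c
    have key : ∀ c : Ω, c ∈ X → x * c * x⁻¹ = c := by
      intro c hc
      have h1 := (mem_centralizerIn_iff.mp (hX hc)).2 x hx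
      rw [h1, mul_inv_cancel_right]
    constructor
    · intro hc
      rw [key c hc]
      exact hc
    · intro hc
      have h2 := key _ hc
      have h3 : c = x * c * x⁻¹ := by
        have : x⁻¹ * (x * (x * c * x⁻¹) * x⁻¹) * x = x⁻¹ * (x * c * x⁻¹) * x := by rw [h2]
        have e1 : x⁻¹ * (x * (x * c * x⁻¹) * x⁻¹) * x = x * c * x⁻¹ := by group
        have e2 : x⁻¹ * (x * c * x⁻¹) * x = c := by group
        rw [e1, e2] at this
        exact this.symm
      rw [h3]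
      exact hc
  obtain ⟨x, c, h⟩ := exists_mul_of_mem_sup' hn ⟨y, hy⟩
  have hyx : y = (x : Ω) * (c : Ω) := congrArg Subtype.val h
  have hcT : (c : Ω) ∈ T := by
    have : (c : Ω) = (x : Ω)⁻¹ * y := by rw [hyx]; group
    rw [this]
    exact T.mul_mem (T.inv_mem (hPT x.2)) hyT
  have hcP : (c : Ω) ∈ P :=
    hcen (mem_centralizerIn_iff.mpr ⟨hcT, (mem_centralizerIn_iff.mp (hX c.2)).2⟩)
  rw [hyx]
  exact P.mul_mem x.2 hcP

theorem sup_inf_eq {P X : Subgroup Ω} (hPT : P ≤ T) (hcen : centralizerIn T P ≤ P)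
    (hX : X ≤ centralizerIn S P) : (P ⊔ X) ⊓ T = P :=
  le_antisymm (fun _ hy => mem_of_mem_sup_cen hPT hcen hX hy.1 hy.2) (le_inf le_sup_left hPT)

/-- `N_S(V) ≤ N_S(V C_S(V))`. -/
theorem normalizerIn_le_normalizerIn_sup_cen [Finite S] {V : Subgroup Ω} (hVS : V ≤ S) :
    normalizerIn S V ≤ normalizerIn S (V ⊔ centralizerIn S V) := by
  intro t ht
  refine ⟨ht.1, ?_⟩
  have hfinY : Finite ↥(V ⊔ centralizerIn S V) := finite_of_le (sup_cen_le hVS)
  apply mem_normalizer_of_conj_mem_finite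
  have htV : ∀ x : Ω, x ∈ V → t * x * t⁻¹ ∈ V := fun x hx => (Subgroup.mem_normalizer_iff.mp ht.2 x).mp hx
  have htV' : ∀ x : Ω, x ∈ V → t⁻¹ * x * t ∈ V := by
    intro x hx
    apply (Subgroup.mem_normalizer_iff.mp ht.2 (t⁻¹ * x * t)).mpr
    have e : t * (t⁻¹ * x * t) * t⁻¹ = x := by group
    rw [e]
    exact hx
  have htC : ∀ c : Ω, c ∈ centralizerIn S V → t * c * t⁻¹ ∈ centralizerIn S V := by
    intro c hc
    rw [mem_centralizerIn_iff]
    refine ⟨S.mul_mem (S.mul_mem ht.1 (centralizerIn_le S V hc)) (S.inv_mem ht.1), fun x hx => ?_⟩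
    have h1 := comm_of_mem_centralizerIn hc (htV' x hx)
    calc x * (t * c * t⁻¹) = t * ((t⁻¹ * x * t) * c) * t⁻¹ := by group
      _ = t * (c * (t⁻¹ * x * t)) * t⁻¹ := by rw [h1]
      _ = t * c * t⁻¹ * x := by group
  intro y hy
  obtain ⟨x, c, h⟩ := exists_mul_of_mem_sup_cen ⟨y, hy⟩
  have hy' : y = (x : Ω) * (c : Ω) := congrArg Subtype.val h
  have e : t * y * t⁻¹ = (t * x * t⁻¹) * (t * c * t⁻¹) := by rw [hy']; group
  rw [e]
  exact Subgroup.mul_mem _ (Subgroup.mem_sup_left (htV _ x.2)) (Subgroup.mem_sup_right (htC _ c.2))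

/-- `N_S(Y) ≤ N_S(Y ∩ T)` for `T` normal in `S`. -/
theorem normalizerIn_le_normalizerIn_inf (hSN : S ≤ Subgroup.normalizer (T : Set Ω)) (Y : Subgroup Ω) :
    normalizerIn S Y ≤ normalizerIn S (Y ⊓ T) := by
  intro t ht
  refine ⟨ht.1, ?_⟩
  show t ∈ Subgroup.normalizer ((Y ⊓ T : Subgroup Ω) : Set Ω)
  rw [Subgroup.mem_normalizer_iff]
  intro x
  have h1 := Subgroup.mem_normalizer_iff.mp ht.2 x
  have h2 := Subgroup.mem_normalizer_iff.mp (hSN ht.1) x
  constructor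
  · rintro ⟨hx1, hx2⟩
    exact ⟨h1.mp hx1, h2.mp hx2⟩
  · rintro ⟨hx1, hx2⟩
    exact ⟨h1.mpr hx1, h2.mpr hx2⟩

/-- If `V ≤ T` is fully `F`-normalized and all its `F`-conjugates contain their centralizers in `T`, then
`V C_S(V)` is fully `F`-normalized. -/
theorem sup_cen_fullyNormalized [Finite S] (F : FusionSystem S) (hT : F.StronglyClosed T) {V : Subgroup Ω}
    (hVT : V ≤ T) (hVn : F.IsFullyNormalized V) (hcen : centralizerIn T V ≤ V) :
    F.IsFullyNormalized (V ⊔ centralizerIn S V) := by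
  have hVS : V ≤ S := hVn.1
  have hSN : S ≤ Subgroup.normalizer (T : Set Ω) := le_normalizer_of_stronglyClosed F hT
  have hYT : (V ⊔ centralizerIn S V) ⊓ T = V := sup_inf_eq hVT hcen le_rfl
  refine ⟨sup_cen_le hVS, fun Y' hconj => ?_⟩
  have h1 : F.IsConj V (Y' ⊓ T) := by
    have := isConj_inf F hT hconj
    rwa [hYT] at this
  have h2 := hVn.2 _ h1
  have hfin1 : Finite ↥(normalizerIn S (Y' ⊓ T)) := finite_of_le (normalizerIn_le S _)
  have hfin2 : Finite ↥(normalizerIn S (V ⊔ centralizerIn S V)) := finite_of_le (normalizerIn_le S _)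
  have h3 : Nat.card ↥(normalizerIn S Y') ≤ Nat.card ↥(normalizerIn S (Y' ⊓ T)) :=
    Subgroup.card_le_of_le (normalizerIn_le_normalizerIn_inf hSN Y')
  have h4 : Nat.card ↥(normalizerIn S V) ≤ Nat.card ↥(normalizerIn S (V ⊔ centralizerIn S V)) :=
    Subgroup.card_le_of_le (normalizerIn_le_normalizerIn_sup_cen hVS)
  exact h3.trans (h2.trans h4)

/-- An automorphism of a receptive subgroup `P` whose extender is all of `N_S(P)` extends to an automorphism of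
`N_S(P)`. -/
theorem exists_extension_normalizer [Finite S] (F : FusionSystem S) {P : Subgroup Ω} (hrec : F.IsReceptive P)
    (θ : MulAut P) (hθ : θ ∈ F.autGroup P)
    (hN : normalizerIn S P ≤ extender S P (equivHom (θ : P ≃* P))) :
    ∃ β : MulAut ↥(normalizerIn S P), β ∈ F.autGroup (normalizerIn S P) ∧
      ∀ x : P, β (Subgroup.inclusion (le_normalizerIn hrec.1) x) =
        Subgroup.inclusion (le_normalizerIn hrec.1) (θ x) := by
  have hPS : P ≤ S := hrec.1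
  have hθF : equivHom (θ : P ≃* P) ∈ F.Hom P := (mem_autGroup_iff F hPS θ).mp hθ
  obtain ⟨β', hβ', hβ'x⟩ := hrec.2 P _ hθF (equivHom_range _)
  obtain ⟨β₀, hβ₀def⟩ : ∃ β₀ : ↥(normalizerIn S P) →* Ω, β₀ = β'.comp (Subgroup.inclusion hN) := ⟨_, rfl⟩
  have hβ₀ : β₀ ∈ F.Hom (normalizerIn S P) := hβ₀def ▸ inclusion_comp_mem F hN hβ'
  have hβ₀P : ∀ x : P, β₀ (Subgroup.inclusion (le_normalizerIn hPS) x) = ((θ x : P) : Ω) := by
    intro x
    rw [hβ₀def]
    exact hβ'x x x.2 (hN (le_normalizerIn hPS x.2))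
  have hβ₀N : ∀ y, β₀ y ∈ normalizerIn S P := by
    intro y
    refine ⟨hom_apply_mem F hβ₀ y, ?_⟩
    have hfinP : Finite P := finite_of_le hPS
    apply mem_normalizer_of_conj_mem_finite
    intro x' hx'
    obtain ⟨x, hx⟩ : ∃ x : P, θ x = ⟨x', hx'⟩ := ⟨θ⁻¹ ⟨x', hx'⟩, MulAut.apply_inv_self _ _ _⟩
    have hx'' : ((θ x : P) : Ω) = x' := congrArg Subtype.val hx
    have hyx : (y : Ω) * (x : Ω) * (y : Ω)⁻¹ ∈ P := (Subgroup.mem_normalizer_iff.mp y.2.2 x).mp x.2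
    have e1 : y * Subgroup.inclusion (le_normalizerIn hPS) x * y⁻¹ =
        Subgroup.inclusion (le_normalizerIn hPS) ⟨_, hyx⟩ := Subtype.ext rfl
    have h1 := hβ₀P ⟨_, hyx⟩
    rw [← e1, map_mul, map_mul, map_inv, hβ₀P, hx''] at h1
    rw [h1]
    exact (θ ⟨_, hyx⟩).2
  obtain ⟨β, hβ, hβx⟩ := Cfsg.Agent.Lib.Helper26.exists_aut_of_hom F hβ₀ hβ₀N
  refine ⟨β, hβ, fun x => ?_⟩
  apply Subtype.ext
  rw [hβx, hβ₀P]
  rfl

/-- The commutator of an automorphism trivial modulo `V` with one preserving `V` is trivial modulo `V`. -/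
theorem comm_mem_modSub {Y V : Subgroup Ω} {σ c : MulAut Y} (hσ : σ ∈ modSub Y V)
    (hc : ∀ x : Y, (x : Ω) ∈ V → ((c x : Y) : Ω) ∈ V) : σ * c * σ⁻¹ * c⁻¹ ∈ modSub Y V := by
  have h1 : c * σ⁻¹ * c⁻¹ ∈ modSub Y V := conj_mem_modSub (Subgroup.inv_mem _ hσ) hc
  have e : σ * c * σ⁻¹ * c⁻¹ = σ * (c * σ⁻¹ * c⁻¹) := by group
  rw [e]
  exact Subgroup.mul_mem _ hσ h1

end Cfsg.Agent.Lib.Helper26.CenS
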