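import Cfsg.Agent.Lib.Helper26.CenSD
import Cfsg.Agent.Lib.Helper26.FSCentricExt

/-!
Towards S5127, part E: restriction of automorphisms; the extender computation in the step of the super-nice induction.
-/

set_option autoImplicit false

namespace Cfsg.Agent.Lib.Helper26.CenS

open Cfsg Cfsg.FusionSystem Cfsg.Agent.Lib.Helper26 Cfsg.Agent.Lib.Helper27 Cfsg.Agent.Lib.Helper26.OlvN
  Cfsg.Agent.Lib.Helper26.Crav Cfsg.Agent.Lib.Helper26.CenE Cfsg.Agent.Lib.Helper26.PPLeast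

variable {Ω : Type*} [Group Ω] {S T : Subgroup Ω}

/-- `σ ∈ Aut(Y)` restricts to `a ∈ Aut(V)`. -/
def Restricts {Y V : Subgroup Ω} (hVY : V ≤ Y) (σ : MulAut Y) (a : MulAut V) : Prop :=
  ∀ v : V, σ (Subgroup.inclusion hVY v) = Subgroup.inclusion hVY (a v)

namespace Restricts

variable {Y V : Subgroup Ω} {hVY : V ≤ Y} {σ τ : MulAut Y} {a b : MulAut V}

theorem one : Restricts hVY (1 : MulAut Y) (1 : MulAut V) := fun _ => rfl

theorem mul (h₁ : Restricts hVY σ a) (h₂ : Restricts hVY τ b) : Restricts hVY (σ * τ) (a * b) := by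
  intro v
  rw [MulAut.mul_apply, h₂ v, h₁]
  rfl

theorem inv (h : Restricts hVY σ a) : Restricts hVY σ⁻¹ a⁻¹ := by
  intro v
  have h1 := h (a⁻¹ v)
  rw [MulAut.apply_inv_self] at h1
  rw [← h1, MulAut.inv_apply_self]

theorem pow (h : Restricts hVY σ a) (n : ℕ) : Restricts hVY (σ ^ n) (a ^ n) := by
  induction n with
  | zero => exact one
  | succ n ih =>
    rw [pow_succ, pow_succ]
    exact ih.mul h

theorem coe (h : Restricts hVY σ a) (v : V) : ((σ (Subgroup.inclusion hVY v) : Y) : Ω) = ((a v : V) : Ω) :=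
  congrArg Subtype.val (h v)

theorem mem (h : Restricts hVY σ a) (y : Y) (hy : (y : Ω) ∈ V) : ((σ y : Y) : Ω) ∈ V := by
  have e : y = Subgroup.inclusion hVY ⟨y, hy⟩ := Subtype.ext rfl
  rw [e, h.coe]
  exact (a _).2

end Restricts

/-- Conjugation by a normalizing element restricts to conjugation. -/
theorem restricts_conj {Y V : Subgroup Ω} (hVY : V ≤ Y) {c : Ω} (hcY : c ∈ Subgroup.normalizer (Y : Set Ω))
    (hcV : c ∈ Subgroup.normalizer (V : Set Ω)) :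
    Restricts hVY (Y.normalizerMonoidHom ⟨c, hcY⟩) (V.normalizerMonoidHom ⟨c, hcV⟩) :=
  fun _ => Subtype.ext rfl

theorem normalizerMonoidHom_inv_coe {Y : Subgroup Ω} {c : Ω} (hcY : c ∈ Subgroup.normalizer (Y : Set Ω)) (y : Y) :
    ((((Y.normalizerMonoidHom ⟨c, hcY⟩ : MulAut Y)⁻¹ y : Y)) : Ω) = c⁻¹ * y * c := by
  have h1 : (Y.normalizerMonoidHom ⟨c, hcY⟩ : MulAut Y) ((Y.normalizerMonoidHom ⟨c, hcY⟩ : MulAut Y)⁻¹ y) = y :=
    MulAut.apply_inv_self _ _ y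
  have h2 : (((Y.normalizerMonoidHom ⟨c, hcY⟩ : MulAut Y)
      ((Y.normalizerMonoidHom ⟨c, hcY⟩ : MulAut Y)⁻¹ y) : Y) : Ω) =
      c * (((Y.normalizerMonoidHom ⟨c, hcY⟩ : MulAut Y)⁻¹ y : Y) : Ω) * c⁻¹ := rfl
  rw [h1] at h2
  rw [h2]
  group

section Core

variable [Finite S] {p : ℕ} [Fact p.Prime]

/-- **Extender computation.** Let `P ≤ V ≤ T` with `P` an `E`-centric subgroup, `Y = V C_S(V)` fully automized in `F`,
`σ ∈ Aut_F(Y)` trivial modulo `V` and restricting to `a ∈ Aut_E(V)` which preserves `P`. For `c ∈ C_S(P)` normalizing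
`V`, the conjugate `σ c_c σ⁻¹` is conjugation by `z s c` with `z ∈ Z(P)` and `s ∈ C_S(V)`. -/
theorem exists_conj_of_cen (hS : IsPGroup p S) (F : FusionSystem S) (E : FusionSystem T)
    (hEsat : E.IsSaturated p) (hE : E.IsInvariantIn F) {P V : Subgroup Ω} (hPc : E.IsCentric P) (hPV : P ≤ V)
    (hVT : V ≤ T) (hYA : F.IsFullyAutomized p (V ⊔ centralizerIn S V))
    (a : MulAut V) (ha : a ∈ E.autGroup V) (haP : ∀ x : V, (x : Ω) ∈ P → ((a⁻¹ x : V) : Ω) ∈ P)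
    (σ : MulAut ↥(V ⊔ centralizerIn S V)) (hσ : σ ∈ F.autGroup (V ⊔ centralizerIn S V))
    (hσa : Restricts le_sup_left σ a) (hσm : σ ∈ modSub (V ⊔ centralizerIn S V) V)
    {c : Ω} (hc : c ∈ centralizerIn S P) (hcV : c ∈ Subgroup.normalizer (V : Set Ω)) :
    ∃ z s : Ω, z ∈ P ∧ z ∈ Subgroup.centralizer (P : Set Ω) ∧ s ∈ centralizerIn S V ∧
      ∀ (y : ↥(V ⊔ centralizerIn S V)) (hy : c * (y : Ω) * c⁻¹ ∈ V ⊔ centralizerIn S V),
        ((σ ⟨c * y * c⁻¹, hy⟩ : ↥(V ⊔ centralizerIn S V)) : Ω) =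
          (z * s * c) * ((σ y : ↥(V ⊔ centralizerIn S V)) : Ω) * (z * s * c)⁻¹ := by
  obtain ⟨hEF, hT, hinv, hfrat⟩ := hE
  have hSI : StrongInv E F := strongInv_of_invariant hinv hfrat
  have hTS : T ≤ S := hT.1
  have hVS : V ≤ S := hVT.trans hTS
  have hYS : V ⊔ centralizerIn S V ≤ S := sup_cen_le hVS
  have hfinT : Finite T := finite_of_le hTS
  have hTp : IsPGroup p T := hS.to_le hTS
  have hVc : E.IsCentric V := isCentric_of_le E hPc hPV hVT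
  have hcenV : centralizerIn T V ≤ V := cen_le_of_isCentric hVc
  have hYT : ∀ y : Ω, y ∈ V ⊔ centralizerIn S V → y ∈ T → y ∈ V :=
    fun y hy hyT => mem_of_mem_sup_cen hVT hcenV le_rfl hy hyT
  have hcS : c ∈ S := (mem_centralizerIn_iff.mp hc).1
  have hcNY : c ∈ Subgroup.normalizer ((V ⊔ centralizerIn S V : Subgroup Ω) : Set Ω) :=
    (normalizerIn_le_normalizerIn_sup_cen hVS ⟨hcS, hcV⟩).2
  -- conjugation by `c` on `Y` and on `V`
  obtain ⟨cY, hcYdef⟩ : ∃ cY : MulAut ↥(V ⊔ centralizerIn S V),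
      cY = (V ⊔ centralizerIn S V).normalizerMonoidHom ⟨c, hcNY⟩ := ⟨_, rfl⟩
  obtain ⟨κ, hκdef⟩ : ∃ κ : MulAut V, κ = V.normalizerMonoidHom ⟨c, hcV⟩ := ⟨_, rfl⟩
  have hcYx : ∀ y, ((cY y : ↥(V ⊔ centralizerIn S V)) : Ω) = c * y * c⁻¹ := fun y => by rw [hcYdef]; rfl
  have hκx : ∀ v, ((κ v : V) : Ω) = c * v * c⁻¹ := fun v => by rw [hκdef]; rfl
  have hκ'x : ∀ v, ((κ⁻¹ v : V) : Ω) = c⁻¹ * v * c := fun v => by
    rw [hκdef]; exact normalizerMonoidHom_inv_coe hcV v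
  have hcYF : cY ∈ F.autGroup (V ⊔ centralizerIn S V) :=
    hcYdef ▸ autInducedBy_le_autGroup F hYS (normalizerMonoidHom_mem_autInducedBy hcS hcNY)
  have hκF : κ ∈ F.autGroup V :=
    hκdef ▸ autInducedBy_le_autGroup F hVS (normalizerMonoidHom_mem_autInducedBy hcS hcV)
  have hcYκ : Restricts le_sup_left cY κ := by
    rw [hcYdef, hκdef]
    exact restricts_conj le_sup_left hcNY hcV
  -- the commutator `δ`
  obtain ⟨δ, hδdef⟩ : ∃ δ : MulAut ↥(V ⊔ centralizerIn S V), δ = σ * cY * σ⁻¹ * cY⁻¹ := ⟨_, rfl⟩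
  have hδF : δ ∈ F.autGroup (V ⊔ centralizerIn S V) := by
    rw [hδdef]
    exact Subgroup.mul_mem _ (Subgroup.mul_mem _ (Subgroup.mul_mem _ hσ hcYF) (Subgroup.inv_mem _ hσ))
      (Subgroup.inv_mem _ hcYF)
  have hδm : δ ∈ modSub (V ⊔ centralizerIn S V) V := hδdef ▸ comm_mem_modSub hσm (fun x hx => hcYκ.mem x hx)
  obtain ⟨δV, hδVdef⟩ : ∃ δV : MulAut V, δV = a * κ * a⁻¹ * κ⁻¹ := ⟨_, rfl⟩
  have hδδV : Restricts le_sup_left δ δV := by
    rw [hδdef, hδVdef]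
    exact ((hσa.mul hcYκ).mul hσa.inv).mul hcYκ.inv
  have hκE : κ * a⁻¹ * κ⁻¹ ∈ E.autGroup V := by
    have hκiso : IsFIso F (κ : V ≃* V) := (mem_autGroup_iff_isFIso F hVS κ).mp hκF
    have h1 := congr_mem_autGroup_of_strongInv' hSI hVT hVT hκiso (Subgroup.inv_mem _ ha)
    have e : MulAut.congr (κ : V ≃* V) a⁻¹ = κ * a⁻¹ * κ⁻¹ := by
      ext v
      rfl
    rw [e] at h1
    exact h1
  have hδVE : δV ∈ E.autGroup V := by
    have e : δV = a * (κ * a⁻¹ * κ⁻¹) := by rw [hδVdef]; group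
    rw [e]
    exact Subgroup.mul_mem _ ha hκE
  -- `δV` is trivial on `P`
  have hκP : ∀ x : V, (x : Ω) ∈ P → κ x = x := by
    intro x hx
    apply Subtype.ext
    rw [hκx]
    have h1 := comm_of_mem_centralizerIn hc hx
    rw [← h1, mul_inv_cancel_right]
  have hκ'P : ∀ x : V, (x : Ω) ∈ P → κ⁻¹ x = x := by
    intro x hx
    have h1 := hκP x hx
    have h2 : κ⁻¹ (κ x) = κ⁻¹ x := by rw [h1]
    rw [MulAut.inv_apply_self] at h2
    exact h2.symm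
  have hδVP : ∀ x : V, (x : Ω) ∈ P → δV x = x := by
    intro x hx
    rw [hδVdef, MulAut.mul_apply, MulAut.mul_apply, MulAut.mul_apply, hκ'P x hx, hκP _ (haP x hx),
      MulAut.apply_inv_self]
  -- `δV` is conjugation by `z ∈ Z(P)`
  obtain ⟨z, hzP, hzC, hz⟩ := exists_center_conj hTp E hEsat V P hPV hPc V.subtype (equivHom (δV : V ≃* V))
    (subtype_mem E hVT) ((mem_autGroup_iff E hVT δV).mp hδVE) (fun x hx => by
      show (x : Ω) = ((δV x : V) : Ω)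
      rw [hδVP x hx])
  have hzδ : ∀ v : V, ((δV v : V) : Ω) = (z : Ω) * v * (z : Ω)⁻¹ := fun v => hz v
  have hzY : (z : Ω) ∈ V ⊔ centralizerIn S V := Subgroup.mem_sup_left z.2
  have hzNY : (z : Ω) ∈ Subgroup.normalizer ((V ⊔ centralizerIn S V : Subgroup Ω) : Set Ω) :=
    Subgroup.le_normalizer hzY
  obtain ⟨cz, hczdef⟩ : ∃ cz : MulAut ↥(V ⊔ centralizerIn S V),
      cz = (V ⊔ centralizerIn S V).normalizerMonoidHom ⟨z, hzNY⟩ := ⟨_, rfl⟩
  have hczx : ∀ y, ((cz y : ↥(V ⊔ centralizerIn S V)) : Ω) = (z : Ω) * y * (z : Ω)⁻¹ := fun y => by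
    rw [hczdef]; rfl
  have hcz'x : ∀ y, ((cz⁻¹ y : ↥(V ⊔ centralizerIn S V)) : Ω) = (z : Ω)⁻¹ * y * (z : Ω) := fun y => by
    rw [hczdef]; exact normalizerMonoidHom_inv_coe hzNY y
  have hczF : cz ∈ F.autGroup (V ⊔ centralizerIn S V) :=
    hczdef ▸ autInducedBy_le_autGroup F hYS (normalizerMonoidHom_mem_autInducedBy (hYS hzY) hzNY)
  have hYNV : V ⊔ centralizerIn S V ≤ Subgroup.normalizer (V : Set Ω) :=
    sup_le Subgroup.le_normalizer ((centralizerIn_le_normalizerIn S V).trans inf_le_right)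
  have hczm : cz ∈ modSub (V ⊔ centralizerIn S V) V := by
    intro y
    show (y : Ω)⁻¹ * ((cz y : ↥(V ⊔ centralizerIn S V)) : Ω) ∈ V
    rw [hczx]
    have h1 : (y : Ω)⁻¹ * (z : Ω) * ((y : Ω)⁻¹)⁻¹ ∈ V :=
      (Subgroup.mem_normalizer_iff.mp (Subgroup.inv_mem _ (hYNV y.2)) z).mp z.2
    have e : (y : Ω)⁻¹ * ((z : Ω) * y * (z : Ω)⁻¹) = ((y : Ω)⁻¹ * (z : Ω) * ((y : Ω)⁻¹)⁻¹) * (z : Ω)⁻¹ := by group
    rw [e]
    exact V.mul_mem h1 (V.inv_mem z.2)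
  -- `ε = cz⁻¹ δ` stabilizes the chain `1 ≤ V ≤ Y`
  obtain ⟨ε, hεdef⟩ : ∃ ε : MulAut ↥(V ⊔ centralizerIn S V), ε = cz⁻¹ * δ := ⟨_, rfl⟩
  have hεstab : ε ∈ Crav.chainStab F (V ⊔ centralizerIn S V) V := by
    rw [mem_chainStab_iff]
    refine ⟨hεdef ▸ Subgroup.mul_mem _ (Subgroup.inv_mem _ hczF) hδF, fun x hx => ?_, ?_⟩
    · apply Subtype.ext
      have e : x = Subgroup.inclusion le_sup_left (⟨(x : Ω), hx⟩ : V) := Subtype.ext rfl
      rw [hεdef, MulAut.mul_apply, hcz'x]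
      conv_lhs => rw [e]
      rw [hδδV.coe, hzδ]
      show (z : Ω)⁻¹ * ((z : Ω) * (x : Ω) * (z : Ω)⁻¹) * (z : Ω) = x
      group
    · have h1 : ε ∈ modSub (V ⊔ centralizerIn S V) V :=
        hεdef ▸ Subgroup.mul_mem _ (Subgroup.inv_mem _ hczm) hδm
      exact h1
  have hVinv : ∀ ω ∈ F.autGroup (V ⊔ centralizerIn S V), ∀ x : ↥(V ⊔ centralizerIn S V), (x : Ω) ∈ V →
      ((ω x : ↥(V ⊔ centralizerIn S V)) : Ω) ∈ V := by
    intro ω hω x hx
    apply hYT _ (ω x).2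
    exact apply_mem_of_stronglyClosed F hT ((mem_autGroup_iff F hYS ω).mp hω) x (hVT hx)
  have hεS := chainStab_le_autInducedBy hS F hYA le_sup_left hVinv hεstab
  obtain ⟨s, hsS, hs⟩ := (mem_autInducedBy_iff S _ ε).mp hεS
  have hsC : s ∈ centralizerIn S V := by
    rw [mem_centralizerIn_iff]
    refine ⟨hsS, fun v hv => ?_⟩
    have h1 := hs ⟨v, Subgroup.mem_sup_left hv⟩
    rw [((mem_chainStab_iff F _ _ ε).mp hεstab).2.1 _ hv] at h1
    have h2 : v = s * v * s⁻¹ := h1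
    calc v * s = (s * v * s⁻¹) * s := by rw [← h2]
      _ = s * v := by group
  refine ⟨z, s, hzP, hzC, hsC, fun y hy => ?_⟩
  have e1 : (⟨c * (y : Ω) * c⁻¹, hy⟩ : ↥(V ⊔ centralizerIn S V)) = cY y := Subtype.ext (hcYx y).symm
  have e2 : σ * cY = cz * ε * cY * σ := by
    rw [hεdef, hδdef]
    group
  have e3 : σ (cY y) = cz (ε (cY (σ y))) := by
    have := congrArg (fun f : MulAut ↥(V ⊔ centralizerIn S V) => f y) e2
    simpa [MulAut.mul_apply] using this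
  rw [e1, e3, hczx, hs, hcYx]
  group

end Core

end Cfsg.Agent.Lib.Helper26.CenS
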