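import Cfsg.Agent.Lib.Helper26.CenSE
import Cfsg.Agent.Lib.Helper27.FSSubgroupSat

/-!
Towards S5127, part F: the step of the super-nice induction: from `V = N_T(P)` down to `P`.
-/

set_option autoImplicit false

namespace Cfsg.Agent.Lib.Helper26.CenS

open Cfsg Cfsg.FusionSystem Cfsg.Agent.Lib.Helper26 Cfsg.Agent.Lib.Helper27 Cfsg.Agent.Lib.Helper26.OlvN
  Cfsg.Agent.Lib.Helper26.Crav Cfsg.Agent.Lib.Helper26.CenE Cfsg.Agent.Lib.Helper26.PPLeast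

variable {Ω : Type*} [Group Ω] {S T : Subgroup Ω}

theorem centralizerIn_anti {P V : Subgroup Ω} (hPV : P ≤ V) : centralizerIn S V ≤ centralizerIn S P := by
  intro c hc
  rw [mem_centralizerIn_iff] at hc ⊢
  exact ⟨hc.1, fun x hx => hc.2 x (hPV hx)⟩

section Core

variable [Finite S] {p : ℕ} [Fact p.Prime]

/-- **Descent.** With `P ≤ V ≤ T`, `P` an `E`-centric subgroup, `Y = V C_S(V)` fully automized and receptive in `F`,
`C_S(P) ≤ N_S(V)`: if `a ∈ Aut_E(V)` restricts to `α ∈ Aut(P)` and has a super-nice extension `σ` to `Y`, then `α`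
extends to `σ₁ ∈ Aut_F(P C_S(P))` stabilizing the chain `P ≤ P C_S(V) ≤ P C_S(P)`. -/
theorem exists_ext_of_step (hS : IsPGroup p S) (F : FusionSystem S) (E : FusionSystem T)
    (hEsat : E.IsSaturated p) (hE : E.IsInvariantIn F) {P V : Subgroup Ω} (hPc : E.IsCentric P) (hPV : P ≤ V)
    (hVT : V ≤ T) (hYA : F.IsFullyAutomized p (V ⊔ centralizerIn S V))
    (hYR : F.IsReceptive (V ⊔ centralizerIn S V))
    (hCV : centralizerIn S P ≤ Subgroup.normalizer (V : Set Ω))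
    (α : MulAut P) (a : MulAut V) (ha : a ∈ E.autGroup V) (haα : Restricts hPV a α)
    (σ : MulAut ↥(V ⊔ centralizerIn S V)) (hσ : σ ∈ F.autGroup (V ⊔ centralizerIn S V))
    (hσa : Restricts le_sup_left σ a) (hσm : σ ∈ modSub (V ⊔ centralizerIn S V) V) :
    ∃ σ₁ : MulAut ↥(P ⊔ centralizerIn S P), σ₁ ∈ F.autGroup (P ⊔ centralizerIn S P) ∧
      Restricts le_sup_left σ₁ α ∧ σ₁ ∈ modSub (P ⊔ centralizerIn S P) (P ⊔ centralizerIn S V) ∧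
      ∀ y : ↥(P ⊔ centralizerIn S P), (y : Ω) ∈ P ⊔ centralizerIn S V →
        ((y⁻¹ * σ₁ y : ↥(P ⊔ centralizerIn S P)) : Ω) ∈ P := by
  have hT : F.StronglyClosed T := hE.2.1
  have hTS : T ≤ S := hT.1
  have hVS : V ≤ S := hVT.trans hTS
  have hPT : P ≤ T := hPV.trans hVT
  have hPS : P ≤ S := hPT.trans hTS
  have hYS : V ⊔ centralizerIn S V ≤ S := sup_cen_le hVS
  have hYPS : P ⊔ centralizerIn S P ≤ S := sup_cen_le hPS
  have hCVP : centralizerIn S V ≤ centralizerIn S P := centralizerIn_anti hPV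
  have hcenP : centralizerIn T P ≤ P := cen_le_of_isCentric hPc
  have haP : ∀ x : V, (x : Ω) ∈ P → ((a⁻¹ x : V) : Ω) ∈ P := fun x hx => haα.inv.mem x hx
  have hφ : equivHom (σ : _ ≃* _) ∈ F.Hom (V ⊔ centralizerIn S V) := (mem_autGroup_iff F hYS σ).mp hσ
  have keyA := fun (c : Ω) (hc : c ∈ centralizerIn S P) =>
    exists_conj_of_cen hS F E hEsat hE hPc hPV hVT hYA a ha haP σ hσ hσa hσm hc (hCV hc)
  have hle : P ⊔ centralizerIn S P ≤ extender S (V ⊔ centralizerIn S V) (equivHom (σ : _ ≃* _)) := by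
    apply sup_le
    · exact (hPV.trans le_sup_left).trans (le_extender hYS _ (fun x => hYS (σ x).2))
    · intro c hc
      obtain ⟨z, s, hzP, -, hsC, h⟩ := keyA c hc
      have hcS : c ∈ S := (mem_centralizerIn_iff.mp hc).1
      rw [mem_extender_iff]
      refine ⟨hcS, (normalizerIn_le_normalizerIn_sup_cen hVS ⟨hcS, hCV hc⟩).2, z * s * c,
        S.mul_mem (S.mul_mem (hPS hzP) (centralizerIn_le S V hsC)) hcS, fun x hx => h x hx⟩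
  obtain ⟨ψ, hψ, hψx⟩ := hYR.2 _ _ hφ (equivHom_range _)
  obtain ⟨ψ₁, hψ₁def⟩ : ∃ ψ₁ : ↥(P ⊔ centralizerIn S P) →* Ω, ψ₁ = ψ.comp (Subgroup.inclusion hle) := ⟨_, rfl⟩
  have hψ₁ : ψ₁ ∈ F.Hom (P ⊔ centralizerIn S P) := hψ₁def ▸ inclusion_comp_mem F hle hψ
  -- `ψ₁` agrees with `σ` on `(P C_S(P)) ∩ Y`
  have hψ₁σ : ∀ (y : ↥(P ⊔ centralizerIn S P)) (hy : (y : Ω) ∈ V ⊔ centralizerIn S V),
      ψ₁ y = ((σ ⟨y, hy⟩ : ↥(V ⊔ centralizerIn S V)) : Ω) := by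
    intro y hy
    rw [hψ₁def]
    exact hψx y hy (hle y.2)
  have hψ₁P : ∀ x : P, ψ₁ (Subgroup.inclusion le_sup_left x) = ((α x : P) : Ω) := by
    intro x
    rw [hψ₁σ _ (Subgroup.mem_sup_left (hPV x.2))]
    have e : (⟨((Subgroup.inclusion le_sup_left x : ↥(P ⊔ centralizerIn S P)) : Ω),
        Subgroup.mem_sup_left (hPV x.2)⟩ : ↥(V ⊔ centralizerIn S V)) =
        Subgroup.inclusion le_sup_left (Subgroup.inclusion hPV x) := Subtype.ext rfl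
    rw [e, hσa.coe, haα.coe]
  -- `σ` maps `C_S(V)` into itself
  have hσC : ∀ d : ↥(V ⊔ centralizerIn S V), (d : Ω) ∈ centralizerIn S V →
      ((σ d : ↥(V ⊔ centralizerIn S V)) : Ω) ∈ centralizerIn S V := by
    intro d hd
    apply apply_mem_centralizerIn_of_hom F hφ _ d hd
    intro x' hx'
    refine ⟨a⁻¹ ⟨x', hx'⟩, ?_⟩
    show ((σ (Subgroup.inclusion le_sup_left (a⁻¹ ⟨x', hx'⟩)) : ↥(V ⊔ centralizerIn S V)) : Ω) = x'
    rw [hσa.coe, MulAut.apply_inv_self]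
  -- the value of `ψ₁` on `C_S(P)`
  have hψ₁C : ∀ c : ↥(P ⊔ centralizerIn S P), (c : Ω) ∈ centralizerIn S P →
      ∃ z d : Ω, z ∈ P ∧ z ∈ Subgroup.centralizer (P : Set Ω) ∧ d ∈ centralizerIn S V ∧
        ψ₁ c = (c : Ω) * z * d := by
    intro c hc
    obtain ⟨z, s, hzP, hzC, hsC, h⟩ := keyA c hc
    have hcS : (c : Ω) ∈ S := (mem_centralizerIn_iff.mp hc).1
    have hcNV : (c : Ω) ∈ normalizerIn S V := ⟨hcS, hCV hc⟩
    have hcNY := normalizerIn_le_normalizerIn_sup_cen hVS hcNV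
    obtain ⟨w, hwdef⟩ : ∃ w : Ω, w = (z * s * c)⁻¹ * ψ₁ c := ⟨_, rfl⟩
    have hwS : w ∈ S := by
      rw [hwdef]
      exact S.mul_mem (S.inv_mem (S.mul_mem (S.mul_mem (hPS hzP) (centralizerIn_le S V hsC)) hcS))
        (hom_apply_mem F hψ₁ c)
    -- `w` centralizes `Y`
    have hwY : ∀ y' : ↥(V ⊔ centralizerIn S V), (y' : Ω) * w = w * (y' : Ω) := by
      intro y'
      obtain ⟨y, hy⟩ : ∃ y, σ y = y' := ⟨σ⁻¹ y', MulAut.apply_inv_self _ _ _⟩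
      have hcy : (c : Ω) * (y : Ω) * (c : Ω)⁻¹ ∈ V ⊔ centralizerIn S V :=
        (Subgroup.mem_normalizer_iff.mp hcNY.2 y).mp y.2
      have h1 := h y hcy
      -- `ψ` is multiplicative on the extender
      have hyN : (y : Ω) ∈ extender S (V ⊔ centralizerIn S V) (equivHom (σ : _ ≃* _)) :=
        le_extender hYS _ (fun x => hYS (σ x).2) y.2
      have hcN : (c : Ω) ∈ extender S (V ⊔ centralizerIn S V) (equivHom (σ : _ ≃* _)) := hle c.2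
      have h2 : ψ ⟨(c : Ω) * (y : Ω) * (c : Ω)⁻¹, Subgroup.mul_mem _ (Subgroup.mul_mem _ hcN hyN)
          (Subgroup.inv_mem _ hcN)⟩ = ψ ⟨c, hcN⟩ * ψ ⟨y, hyN⟩ * (ψ ⟨c, hcN⟩)⁻¹ := by
        rw [← map_inv, ← map_mul, ← map_mul]
        rfl
      have h3 : ψ ⟨(c : Ω) * (y : Ω) * (c : Ω)⁻¹, Subgroup.mul_mem _ (Subgroup.mul_mem _ hcN hyN)
          (Subgroup.inv_mem _ hcN)⟩ = ((σ ⟨(c : Ω) * (y : Ω) * (c : Ω)⁻¹, hcy⟩ : ↥(V ⊔ centralizerIn S V)) : Ω) :=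
        hψx _ hcy _
      have h4 : ψ ⟨y, hyN⟩ = ((σ y : ↥(V ⊔ centralizerIn S V)) : Ω) := hψx _ y.2 _
      have h5 : ψ ⟨c, hcN⟩ = ψ₁ c := by rw [hψ₁def]; rfl
      rw [h3, h4, h5, h1, hy] at h2
      rw [hwdef]
      obtain ⟨g, hg⟩ : ∃ g : Ω, g = z * s * c := ⟨_, rfl⟩
      obtain ⟨q, hq⟩ : ∃ q : Ω, q = ψ₁ c := ⟨_, rfl⟩
      rw [← hg, ← hq] at h2 ⊢
      calc (y' : Ω) * (g⁻¹ * q) = g⁻¹ * (g * y' * g⁻¹) * q := by group
        _ = g⁻¹ * (q * y' * q⁻¹) * q := by rw [h2]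
        _ = g⁻¹ * q * y' := by group
    have hwC : w ∈ centralizerIn S V := by
      rw [mem_centralizerIn_iff]
      exact ⟨hwS, fun v hv => hwY ⟨v, Subgroup.mem_sup_left hv⟩⟩
    have hc'N : (c : Ω)⁻¹ ∈ normalizerIn S V := Subgroup.inv_mem _ hcNV
    have hsc : (c : Ω)⁻¹ * s * ((c : Ω)⁻¹)⁻¹ ∈ centralizerIn S V :=
      (Subgroup.mem_normalizer_iff.mp (normalizerIn_le_normalizer_centralizerIn S V hc'N) s).mp hsC
    have hzc : z * (c : Ω) = (c : Ω) * z := comm_of_mem_centralizerIn hc hzP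
    refine ⟨z, ((c : Ω)⁻¹ * s * ((c : Ω)⁻¹)⁻¹) * w, hzP, hzC, Subgroup.mul_mem _ hsc hwC, ?_⟩
    have e1 : ψ₁ c = z * s * c * w := by rw [hwdef]; group
    rw [e1]
    calc z * s * (c : Ω) * w = (z * (c : Ω)) * ((c : Ω)⁻¹ * s * ((c : Ω)⁻¹)⁻¹ * w) := by group
      _ = ((c : Ω) * z) * ((c : Ω)⁻¹ * s * ((c : Ω)⁻¹)⁻¹ * w) := by rw [hzc]
      _ = _ := by group
  have hZC : ∀ z : Ω, z ∈ P → z ∈ Subgroup.centralizer (P : Set Ω) → z ∈ centralizerIn S P := by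
    intro z hzP hzC
    rw [mem_centralizerIn_iff]
    exact ⟨hPS hzP, fun x hx => Subgroup.mem_centralizer_iff.mp hzC x hx⟩
  have hψ₁CC : ∀ c : ↥(P ⊔ centralizerIn S P), (c : Ω) ∈ centralizerIn S P → ψ₁ c ∈ centralizerIn S P := by
    intro c hc
    obtain ⟨z, d, hzP, hzC, hdC, h⟩ := hψ₁C c hc
    rw [h]
    exact Subgroup.mul_mem _ (Subgroup.mul_mem _ hc (hZC z hzP hzC)) (hCVP hdC)
  have hψ₁Y : ∀ y, ψ₁ y ∈ P ⊔ centralizerIn S P := by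
    intro y
    obtain ⟨x, c, rfl⟩ := exists_mul_of_mem_sup_cen y
    rw [map_mul, hψ₁P]
    exact Subgroup.mul_mem _ (Subgroup.mem_sup_left (α x).2) (Subgroup.mem_sup_right (hψ₁CC _ c.2))
  obtain ⟨σ₁, hσ₁, hσ₁x⟩ := Cfsg.Agent.Lib.Helper26.exists_aut_of_hom F hψ₁ hψ₁Y
  refine ⟨σ₁, hσ₁, fun x => ?_, fun y => ?_, fun y hy => ?_⟩
  · apply Subtype.ext
    rw [hσ₁x, hψ₁P]
    rfl
  · obtain ⟨x, c, rfl⟩ := exists_mul_of_mem_sup_cen y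
    obtain ⟨z, d, hzP, hzC, hdC, h⟩ := hψ₁C (Subgroup.inclusion le_sup_right c) c.2
    show ((Subgroup.inclusion le_sup_left x * Subgroup.inclusion le_sup_right c :
      ↥(P ⊔ centralizerIn S P)) : Ω)⁻¹ * ((σ₁ _ : ↥(P ⊔ centralizerIn S P)) : Ω) ∈ P ⊔ centralizerIn S V
    rw [hσ₁x, map_mul, hψ₁P, h]
    show ((x : Ω) * (c : Ω))⁻¹ * (((α x : P) : Ω) * ((c : Ω) * z * d)) ∈ P ⊔ centralizerIn S V
    have hu : (x : Ω)⁻¹ * ((α x : P) : Ω) ∈ P := P.mul_mem (P.inv_mem x.2) (α x).2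
    have hcu := comm_of_mem_centralizerIn c.2 hu
    have e : ((x : Ω) * (c : Ω))⁻¹ * (((α x : P) : Ω) * ((c : Ω) * z * d)) =
        ((x : Ω)⁻¹ * ((α x : P) : Ω) * z) * d := by
      calc ((x : Ω) * (c : Ω))⁻¹ * (((α x : P) : Ω) * ((c : Ω) * z * d))
          = (c : Ω)⁻¹ * (((x : Ω)⁻¹ * ((α x : P) : Ω)) * (c : Ω)) * z * d := by group
        _ = (c : Ω)⁻¹ * ((c : Ω) * ((x : Ω)⁻¹ * ((α x : P) : Ω))) * z * d := by rw [hcu]
        _ = _ := by group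
    rw [e]
    exact Subgroup.mul_mem _ (Subgroup.mem_sup_left (P.mul_mem hu hzP)) (Subgroup.mem_sup_right hdC)
  · have hn : P ≤ Subgroup.normalizer ((centralizerIn S V : Subgroup Ω) : Set Ω) :=
      hPV.trans (le_normalizer_centralizerIn V)
    obtain ⟨x, d, h⟩ := exists_mul_of_mem_sup' hn ⟨(y : Ω), hy⟩
    have hyx : (y : Ω) = (x : Ω) * (d : Ω) := congrArg Subtype.val h
    have hdP : (d : Ω) ∈ centralizerIn S P := hCVP d.2
    have hdY : (d : Ω) ∈ V ⊔ centralizerIn S V := Subgroup.mem_sup_right d.2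
    have e1 : y = Subgroup.inclusion le_sup_left x * (⟨(d : Ω), Subgroup.mem_sup_right hdP⟩ :
        ↥(P ⊔ centralizerIn S P)) := Subtype.ext hyx
    obtain ⟨u, hudef⟩ : ∃ u : Ω, u = (d : Ω)⁻¹ * ((σ ⟨d, hdY⟩ : ↥(V ⊔ centralizerIn S V)) : Ω) := ⟨_, rfl⟩
    have huV : u ∈ V := hudef ▸ hσm ⟨d, hdY⟩
    have huC : u ∈ centralizerIn S V :=
      hudef ▸ Subgroup.mul_mem _ (Subgroup.inv_mem _ d.2) (hσC ⟨d, hdY⟩ d.2)
    have huP : u ∈ P := by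
      apply hcenP
      rw [mem_centralizerIn_iff]
      exact ⟨hVT huV, (mem_centralizerIn_iff.mp (hCVP huC)).2⟩
    show (y : Ω)⁻¹ * ((σ₁ y : ↥(P ⊔ centralizerIn S P)) : Ω) ∈ P
    rw [hσ₁x]
    conv => arg 2; arg 2; rw [e1]
    rw [map_mul, hψ₁P, hψ₁σ _ hdY, hyx]
    have hσd : ((σ ⟨d, hdY⟩ : ↥(V ⊔ centralizerIn S V)) : Ω) = (d : Ω) * u := by rw [hudef]; group
    have e2 : (⟨((⟨(d : Ω), Subgroup.mem_sup_right hdP⟩ : ↥(P ⊔ centralizerIn S P)) : Ω), hdY⟩ :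
        ↥(V ⊔ centralizerIn S V)) = ⟨d, hdY⟩ := rfl
    rw [e2, hσd]
    have hq : (x : Ω)⁻¹ * ((α x : P) : Ω) ∈ P := P.mul_mem (P.inv_mem x.2) (α x).2
    have hdq := comm_of_mem_centralizerIn hdP hq
    have e3 : ((x : Ω) * (d : Ω))⁻¹ * (((α x : P) : Ω) * ((d : Ω) * u)) = ((x : Ω)⁻¹ * ((α x : P) : Ω)) * u := by
      calc ((x : Ω) * (d : Ω))⁻¹ * (((α x : P) : Ω) * ((d : Ω) * u))
          = (d : Ω)⁻¹ * (((x : Ω)⁻¹ * ((α x : P) : Ω)) * (d : Ω)) * u := by group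
        _ = (d : Ω)⁻¹ * ((d : Ω) * ((x : Ω)⁻¹ * ((α x : P) : Ω))) * u := by rw [hdq]
        _ = _ := by group
    rw [e3]
    exact P.mul_mem hq huP

end Core

end Cfsg.Agent.Lib.Helper26.CenS
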