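import Cfsg.Agent.Lib.Helper26.CenSF

/-!
Towards S5127, part G: the step of the super-nice induction, assembled.
-/

set_option autoImplicit false

namespace Cfsg.Agent.Lib.Helper26.CenS

open Cfsg Cfsg.FusionSystem Cfsg.Agent.Lib.Helper26 Cfsg.Agent.Lib.Helper27 Cfsg.Agent.Lib.Helper26.OlvN
  Cfsg.Agent.Lib.Helper26.Crav Cfsg.Agent.Lib.Helper26.CenE Cfsg.Agent.Lib.Helper26.PPLeast

variable {Ω : Type*} [Group Ω] {S T : Subgroup Ω}

/-- `N_S(P)` normalizes `N_T(P)` when `S` normalizes `T`. -/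
theorem normalizerIn_le_normalizer_normalizerIn (hSN : S ≤ Subgroup.normalizer (T : Set Ω)) (P : Subgroup Ω) :
    normalizerIn S P ≤ Subgroup.normalizer ((normalizerIn T P : Subgroup Ω) : Set Ω) := by
  intro s hs
  rw [Subgroup.mem_normalizer_iff]
  intro x
  have h1 := Subgroup.mem_normalizer_iff.mp (hSN hs.1) x
  have hsN : s ∈ Subgroup.normalizer (P : Set Ω) := hs.2
  constructor
  · rintro ⟨hx1, hx2⟩
    exact ⟨h1.mp hx1, Subgroup.mul_mem _ (Subgroup.mul_mem _ hsN hx2) (Subgroup.inv_mem _ hsN)⟩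
  · rintro ⟨hx1, hx2⟩
    refine ⟨h1.mpr hx1, ?_⟩
    have := Subgroup.mul_mem _ (Subgroup.mul_mem _ (Subgroup.inv_mem _ hsN) hx2) hsN
    have e : s⁻¹ * (s * x * s⁻¹) * s = x := by group
    rwa [e] at this

section Core

variable [Finite S] {p : ℕ} [Fact p.Prime]

/-- **The `p'`-case of the step.** -/
theorem mem_snSub_of_step (hS : IsPGroup p S) (F : FusionSystem S) (E : FusionSystem T)
    (hEsat : E.IsSaturated p) (hE : E.IsInvariantIn F) {P V : Subgroup Ω} (hPc : E.IsCentric P) (hPV : P ≤ V)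
    (hVT : V ≤ T) (hYA : F.IsFullyAutomized p (V ⊔ centralizerIn S V))
    (hYR : F.IsReceptive (V ⊔ centralizerIn S V))
    (hCV : centralizerIn S P ≤ Subgroup.normalizer (V : Set Ω))
    (α : MulAut P) {m : ℕ} (hm : m.Coprime p) (hm0 : m ≠ 0) (hαm : α ^ m = 1)
    (a : MulAut V) (ha : a ∈ E.autGroup V) (haα : Restricts hPV a α) (haSN : a ∈ snSub F V) :
    α ∈ snSub F P := by
  obtain ⟨σ, hσ, hσx, hσm⟩ := haSN
  obtain ⟨σ₁, hσ₁, hσ₁α, h2, h1⟩ := exists_ext_of_step hS F E hEsat hE hPc hPV hVT hYA hYR hCV α a ha haα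
    σ hσ hσx hσm
  have hPS : P ≤ S := (hPV.trans hVT).trans hE.2.1.1
  have hYPS : P ⊔ centralizerIn S P ≤ S := sup_cen_le hPS
  have hPD : P ≤ P ⊔ centralizerIn S V := le_sup_left
  have h0 : ∀ x : ↥(P ⊔ centralizerIn S P), (x : Ω) ∈ P → (σ₁ ^ m) x = x := by
    intro x hx
    have e : x = Subgroup.inclusion le_sup_left (⟨(x : Ω), hx⟩ : P) := Subtype.ext rfl
    have h3 := (hσ₁α.pow m) ⟨(x : Ω), hx⟩
    rw [hαm] at h3
    rw [e, h3]
    rfl
  obtain ⟨j, hj1, hj2⟩ := exists_pprime_pow hS hYPS hPD σ₁ h2 h1 hm hm0 h0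
  have hPn : ∀ u : ↥(P ⊔ centralizerIn S P), ∀ x : Ω, x ∈ P → (u : Ω) * x * (u : Ω)⁻¹ ∈ P := by
    intro u x hx
    have hle : P ⊔ centralizerIn S P ≤ Subgroup.normalizer (P : Set Ω) :=
      sup_le Subgroup.le_normalizer ((centralizerIn_le_normalizerIn S P).trans inf_le_right)
    exact (Subgroup.mem_normalizer_iff.mp (hle u.2) x).mp hx
  have hmod := modSub_of_coprime hS hYPS hPD hPn (σ₁ ^ j) (Subgroup.pow_mem _ h2 j) (pow_modOn hPD h1 j) hm hj1
  refine ⟨σ₁ ^ j, Subgroup.pow_mem _ hσ₁ j, fun x => ?_, hmod⟩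
  rw [hj2 _ x.2]
  exact hσ₁α x

/-- **The step of the induction.** If `P` and `V = N_T(P)` are fully `F`-normalized and every automorphism of `V`
in `E` has a super-nice extension, then so has every automorphism of `P` in `E`. -/
theorem autGroup_le_snSub_of_step (hS : IsPGroup p S) (F : FusionSystem S) (hF : F.IsSaturated p)
    (E : FusionSystem T) (hEsat : E.IsSaturated p) (hE : E.IsInvariantIn F) {P : Subgroup Ω}
    (hPc : E.IsCentric P) (hPn : F.IsFullyNormalized P) (hVn : F.IsFullyNormalized (normalizerIn T P))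
    (IH : E.autGroup (normalizerIn T P) ≤ snSub F (normalizerIn T P)) : E.autGroup P ≤ snSub F P := by
  have hEF : E.IsSubsystemOf F := hE.1
  have hT : F.StronglyClosed T := hE.2.1
  have hTS : T ≤ S := hT.1
  have hSN : S ≤ Subgroup.normalizer (T : Set Ω) := le_normalizer_of_stronglyClosed F hT
  have hfinT : Finite T := finite_of_le hTS
  have hTp : IsPGroup p T := hS.to_le hTS
  have hPT : P ≤ T := hPc.1
  have hPS : P ≤ S := hPT.trans hTS
  have hfinP : Finite P := finite_of_le hPS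
  have hVT : normalizerIn T P ≤ T := normalizerIn_le T P
  have hPV : P ≤ normalizerIn T P := le_normalizerIn hPT
  have hVc : E.IsCentric (normalizerIn T P) := isCentric_of_le E hPc hPV hVT
  have hcenV := cen_le_of_isCentric hVc
  have hcenP := cen_le_of_isCentric hPc
  have hYn := sup_cen_fullyNormalized F hT hVT hVn hcenV
  have hYA := (saturated_fn hS F hF hYn).2
  have hYR := saturated_fn_receptive hS F hF hYn
  have hPR : F.IsReceptive P := saturated_fn_receptive hS F hF hPn
  have hPEn : E.IsFullyNormalized P := fullyNormalized_of_subsystem hS F hF E hEF hT hPT hPn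
  obtain ⟨-, R, hR⟩ := (saturated_fn hTp E hEsat hPEn).2
  have hPER := saturated_fn_receptive hTp E hEsat hPEn
  have hCV : centralizerIn S P ≤ Subgroup.normalizer ((normalizerIn T P : Subgroup Ω) : Set Ω) :=
    (centralizerIn_le_normalizerIn S P).trans (normalizerIn_le_normalizer_normalizerIn hSN P)
  have hAEF : E.autGroup P ≤ F.autGroup P := by
    intro γ hγ
    rw [mem_autGroup_iff F hPS]
    exact hEF P ((mem_autGroup_iff E hPT γ).mp hγ)
  -- the subgroup of automorphisms in `E` with a super-nice extension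
  let K' : Subgroup ↥(E.autGroup P) := (snSub F P).subgroupOf (E.autGroup P)
  have hK'n : K'.Normal := by
    constructor
    intro k hk g
    obtain ⟨θ', hθ', hθx⟩ := exists_extension_centralizer F hPR (g : MulAut P) (hAEF g.2)
    exact conj_mem_snSub_of_ext F hk θ' hθ' hθx
  have hRK : (R : Subgroup ↥(E.autGroup P)) ≤ K' := by
    intro g hg
    rw [hR, Subgroup.mem_subgroupOf] at hg
    obtain ⟨t, ht, htN, hgt⟩ := (mem_autInducedBy_iff' T P _).mp hg
    show (g : MulAut P) ∈ snSub F P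
    rw [hgt]
    apply conj_mem_snSub F hPS (hTS ht) htN
    intro c hc
    have hcS : c ∈ S := (mem_centralizerIn_iff.mp hc).1
    have htNS : t ∈ normalizerIn S P := ⟨hTS ht, htN⟩
    have h1 : t * c * t⁻¹ ∈ centralizerIn S P :=
      (Subgroup.mem_normalizer_iff.mp (normalizerIn_le_normalizer_centralizerIn S P htNS) c).mp hc
    have h2 : c⁻¹ * (t * c * t⁻¹) ∈ centralizerIn S P := Subgroup.mul_mem _ (Subgroup.inv_mem _ hc) h1
    have h3 : c⁻¹ * t * (c⁻¹)⁻¹ ∈ T := (Subgroup.mem_normalizer_iff.mp (hSN (S.inv_mem hcS)) t).mp ht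
    have h4 : c⁻¹ * (t * c * t⁻¹) ∈ T := by
      have e : c⁻¹ * (t * c * t⁻¹) = (c⁻¹ * t * (c⁻¹)⁻¹) * t⁻¹ := by group
      rw [e]
      exact T.mul_mem h3 (T.inv_mem ht)
    apply hcenP
    rw [mem_centralizerIn_iff]
    exact ⟨h4, (mem_centralizerIn_iff.mp h2).2⟩
  obtain ⟨U, hU⟩ := sylowIn_inf_of_normal R K'
  have hfrat := Sylow.normalizer_sup_eq_top U
  have hUmap : (U : Subgroup ↥K').map K'.subtype = (R : Subgroup ↥(E.autGroup P)) := by
    rw [hU, Subgroup.map_subgroupOf_eq_of_le inf_le_right]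
    exact inf_eq_left.mpr hRK
  rw [hUmap] at hfrat
  -- the normalizer of the Sylow subgroup
  have hNK : Subgroup.normalizer ((R : Subgroup ↥(E.autGroup P)) : Set ↥(E.autGroup P)) ≤ K' := by
    intro γ hγ
    obtain ⟨u, v, hγuv, hu, hv, ⟨k, hk⟩, hvcop⟩ := exists_pPart_decomp p γ
    have hzN : Subgroup.zpowers γ ≤ Subgroup.normalizer ((R : Subgroup ↥(E.autGroup P)) : Set ↥(E.autGroup P)) :=
      Subgroup.zpowers_le.mpr hγ
    -- the `p`-part lies in `R`
    have huR : u ∈ (R : Subgroup ↥(E.autGroup P)) := by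
      have hZp : IsPGroup p (Subgroup.zpowers u) := by
        apply IsPGroup.of_card (n := k)
        rw [Nat.card_zpowers, hk]
      have h1 := hZp.inf_normalizer_sylow R
      have h2 : u ∈ Subgroup.zpowers u ⊓ Subgroup.normalizer ((R : Subgroup ↥(E.autGroup P)) : Set _) :=
        ⟨Subgroup.mem_zpowers u, hzN hu⟩
      exact (h1.le h2).2
    -- the `p'`-part
    have hvK : v ∈ K' := by
      have hvN := hzN hv
      show (v : MulAut P) ∈ snSub F P
      have hm0 : orderOf v ≠ 0 := (orderOf_pos v).ne'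
      have hvm : (v : MulAut P) ^ orderOf v = 1 := by
        rw [← Subgroup.coe_pow, pow_orderOf_eq_one]
        rfl
      -- the extender of `v` in `T` is `N_T(P)`
      have hN : normalizerIn T P ≤ extender T P (equivHom ((v : MulAut P) : P ≃* P)) := by
        intro t ht
        have htT : t ∈ T := ht.1
        have htN : t ∈ Subgroup.normalizer (P : Set Ω) := ht.2
        have haE : P.normalizerMonoidHom ⟨t, htN⟩ ∈ E.autGroup P :=
          autInducedBy_le_autGroup E hPT (normalizerMonoidHom_mem_autInducedBy htT htN)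
        have haR : (⟨_, haE⟩ : ↥(E.autGroup P)) ∈ (R : Subgroup ↥(E.autGroup P)) := by
          rw [hR, Subgroup.mem_subgroupOf]
          exact normalizerMonoidHom_mem_autInducedBy htT htN
        have h1 := (Subgroup.mem_normalizer_iff.mp hvN _).mp haR
        rw [hR, Subgroup.mem_subgroupOf] at h1
        obtain ⟨h, hhT, hh⟩ := (mem_autInducedBy_iff T P _).mp h1
        rw [mem_extender_iff]
        refine ⟨htT, htN, h, hhT, fun x hx => ?_⟩
        have h3 := hh ((v : MulAut P) x)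
        have h4 : ((v * ⟨_, haE⟩ * v⁻¹ : ↥(E.autGroup P)) : MulAut P) ((v : MulAut P) x) =
            (v : MulAut P) ⟨t * x * t⁻¹, hx⟩ := by
          show (v : MulAut P) ((P.normalizerMonoidHom ⟨t, htN⟩) ((v : MulAut P)⁻¹ ((v : MulAut P) x))) = _
          rw [MulAut.inv_apply_self]
          rfl
        rw [h4] at h3
        exact h3
      obtain ⟨a, ha, haα⟩ := exists_extension_normalizer E hPER (v : MulAut P) v.2 hN
      exact mem_snSub_of_step hS F E hEsat hE hPc hPV hVT hYA hYR hCV (v : MulAut P) hvcop hm0 hvm a ha haα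
        (IH ha)
    rw [hγuv]
    exact K'.mul_mem (hRK huR) hvK
  intro α hα
  have htop' : (⟨α, hα⟩ : ↥(E.autGroup P)) ∈ (⊤ : Subgroup ↥(E.autGroup P)) := Subgroup.mem_top _
  rw [← hfrat] at htop'
  exact (sup_le hNK le_rfl) htop'

end Core

end Cfsg.Agent.Lib.Helper26.CenS
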