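import Cfsg.Agent.Lib.Helper26.CenSG
import Cfsg.Agent.Lib.Helper26.FSAlperin

/-!
Towards S5127, part H: every automorphism in `E` of an `E`-centric subgroup `P` has a super-nice extension to
`P C_S(P)` in `F` (`E` normal in `F`).
-/

set_option autoImplicit false

namespace Cfsg.Agent.Lib.Helper26.CenS

open Cfsg Cfsg.FusionSystem Cfsg.Agent.Lib.Helper26 Cfsg.Agent.Lib.Helper27 Cfsg.Agent.Lib.Helper26.OlvN
  Cfsg.Agent.Lib.Helper26.Crav Cfsg.Agent.Lib.Helper26.CenE Cfsg.Agent.Lib.Helper26.PPLeast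

variable {Ω : Type*} [Group Ω] {S T : Subgroup Ω}

/-- **Transport of the whole automorphism group.** -/
theorem autGroup_le_snSub_of_hom [Finite S] (F : FusionSystem S) (E : FusionSystem T) (hE : E.IsInvariantIn F)
    {P P' : Subgroup Ω} (hPT : P ≤ T)
    (ρ : ↥(P ⊔ centralizerIn S P) →* Ω) (hρ : ρ ∈ F.Hom (P ⊔ centralizerIn S P))
    (hρP : ∀ x : P, ρ (Subgroup.inclusion le_sup_left x) ∈ P')
    (hρP' : ∀ x' : Ω, x' ∈ P' → ∃ x : P, ρ (Subgroup.inclusion le_sup_left x) = x')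
    (h : E.autGroup P' ≤ snSub F P') : E.autGroup P ≤ snSub F P := by
  obtain ⟨hEF, hT, hinv, hfrat⟩ := hE
  have hSI : StrongInv E F := strongInv_of_invariant hinv hfrat
  obtain ⟨ρP, hρPdef⟩ : ∃ ρP : P →* Ω, ρP = ρ.comp (Subgroup.inclusion le_sup_left) := ⟨_, rfl⟩
  have hρPF : ρP ∈ F.Hom P := hρPdef ▸ inclusion_comp_mem F le_sup_left hρ
  have hr : ρP.range = P' := by
    apply le_antisymm
    · rintro _ ⟨x, rfl⟩
      rw [hρPdef]
      exact hρP x
    · intro x' hx'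
      obtain ⟨x, hx⟩ := hρP' x' hx'
      exact ⟨x, by rw [hρPdef]; exact hx⟩
  have hP'T : P' ≤ T := by
    intro x' hx'
    obtain ⟨x, rfl⟩ := hρP' x' hx'
    exact apply_mem_of_stronglyClosed F hT hρ _ (hPT x.2)
  intro α hα
  apply mem_snSub_of_transport F ρ hρ (homEquiv F hρPF hr) (fun x => by rw [homEquiv_apply, hρPdef]; rfl) α
  exact h (congr_mem_autGroup_of_strongInv' hSI hPT hP'T (homEquiv_isFIso F hρPF hr) hα)

section Core

variable [Finite S] {p : ℕ} [Fact p.Prime]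

omit [Finite S] [Fact p.Prime] in
/-- The base of the induction: automorphisms of `T` in `E`. -/
theorem autGroup_top_le_snSub (F : FusionSystem S) (E : FusionSystem T) (hE : E.IsNormalIn F p) :
    E.autGroup T ≤ snSub F T := by
  intro α hα
  obtain ⟨β, hβ, hβT, hβc⟩ := hE.2 α hα
  refine ⟨β, hβ, fun x => Subtype.ext (hβT x), fun y => ?_⟩
  obtain ⟨x, c, rfl⟩ := exists_mul_of_mem_sup_cen y
  have h1 := hβT x
  have h2 := (hβc (Subgroup.inclusion le_sup_right c) c.2).1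
  show ((Subgroup.inclusion le_sup_left x * Subgroup.inclusion le_sup_right c :
      ↥(T ⊔ centralizerIn S T)) : Ω)⁻¹ * ((β _ : ↥(T ⊔ centralizerIn S T)) : Ω) ∈ T
  rw [map_mul]
  show ((x : Ω) * (c : Ω))⁻¹ * (((β (Subgroup.inclusion le_sup_left x) : ↥(T ⊔ centralizerIn S T)) : Ω) *
    ((β (Subgroup.inclusion le_sup_right c) : ↥(T ⊔ centralizerIn S T)) : Ω)) ∈ T
  rw [h1]
  have hu : (x : Ω)⁻¹ * ((α x : T) : Ω) ∈ T := T.mul_mem (T.inv_mem x.2) (α x).2
  have hcu := comm_of_mem_centralizerIn c.2 hu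
  obtain ⟨b, hb⟩ : ∃ b : Ω, b = ((β (Subgroup.inclusion le_sup_right c) : ↥(T ⊔ centralizerIn S T)) : Ω) :=
    ⟨_, rfl⟩
  rw [← hb] at h2 ⊢
  have h3 : ((Subgroup.inclusion le_sup_right c : ↥(T ⊔ centralizerIn S T)) : Ω) = (c : Ω) := rfl
  rw [h3] at h2
  have e : ((x : Ω) * (c : Ω))⁻¹ * (((α x : T) : Ω) * b) = ((x : Ω)⁻¹ * ((α x : T) : Ω)) * ((c : Ω)⁻¹ * b) := by
    calc ((x : Ω) * (c : Ω))⁻¹ * (((α x : T) : Ω) * b)
        = (c : Ω)⁻¹ * (((x : Ω)⁻¹ * ((α x : T) : Ω)) * (c : Ω)) * ((c : Ω)⁻¹ * b) := by group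
      _ = (c : Ω)⁻¹ * ((c : Ω) * ((x : Ω)⁻¹ * ((α x : T) : Ω))) * ((c : Ω)⁻¹ * b) := by rw [hcu]
      _ = _ := by group
  rw [e]
  exact T.mul_mem hu h2

/-- A fully normalized `P₁ ≤ T` has a conjugate `P₂`, via a map defined on `N_S(P₁)`, such that both `P₂` and `N_T(P₂)`
are fully normalized. -/
theorem exists_conj_both_fn (hS : IsPGroup p S) (F : FusionSystem S) (hF : F.IsSaturated p)
    (hT : F.StronglyClosed T) {P₁ : Subgroup Ω} (hP₁T : P₁ ≤ T) (hP₁n : F.IsFullyNormalized P₁) :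
    ∃ (P₂ : Subgroup Ω) (ρ : ↥(P₁ ⊔ centralizerIn S P₁) →* Ω), ρ ∈ F.Hom (P₁ ⊔ centralizerIn S P₁) ∧
      (∀ x : P₁, ρ (Subgroup.inclusion le_sup_left x) ∈ P₂) ∧
      (∀ x' : Ω, x' ∈ P₂ → ∃ x : P₁, ρ (Subgroup.inclusion le_sup_left x) = x') ∧
      F.IsFullyNormalized P₂ ∧ F.IsFullyNormalized (normalizerIn T P₂) := by
  have hTS : T ≤ S := hT.1
  have hSN : S ≤ Subgroup.normalizer (T : Set Ω) := le_normalizer_of_stronglyClosed F hT
  have hP₁S : P₁ ≤ S := hP₁T.trans hTS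
  have hV₁S : normalizerIn T P₁ ≤ S := (normalizerIn_le T P₁).trans hTS
  obtain ⟨V₂, hV₁V₂, hV₂n⟩ := exists_fullyNormalized_conj F hV₁S
  have hFA := (saturated_fn hS F hF hV₂n).2
  have hFR := saturated_fn_receptive hS F hF hV₂n
  obtain ⟨χ, hχ, hχN, hχmap⟩ := exists_normalizer_hom hS F hFA hFR hV₁V₂
  have hinj := F.injective_of_mem hχ
  -- `N_S(P₁) ≤ N_S(V₁)`
  have hNN : normalizerIn S P₁ ≤ normalizerIn S (normalizerIn T P₁) :=
    fun s hs => ⟨hs.1, normalizerIn_le_normalizer_normalizerIn hSN P₁ hs⟩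
  have hP₁N : P₁ ≤ normalizerIn S P₁ := le_normalizerIn hP₁S
  have hYN : P₁ ⊔ centralizerIn S P₁ ≤ normalizerIn S P₁ := sup_le hP₁N (centralizerIn_le_normalizerIn S P₁)
  obtain ⟨χN, hχNdef⟩ : ∃ χN : ↥(normalizerIn S P₁) →* Ω, χN = χ.comp (Subgroup.inclusion hNN) := ⟨_, rfl⟩
  have hχNF : χN ∈ F.Hom (normalizerIn S P₁) := hχNdef ▸ inclusion_comp_mem F hNN hχ
  have hχNinj := F.injective_of_mem hχNF
  obtain ⟨P₂, hP₂def⟩ : ∃ P₂ : Subgroup Ω, P₂ = (P₁.subgroupOf (normalizerIn S P₁)).map χN := ⟨_, rfl⟩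
  have hmemP₂ : ∀ x : ↥(normalizerIn S P₁), (x : Ω) ∈ P₁ → χN x ∈ P₂ := by
    intro x hx
    rw [hP₂def]
    exact ⟨x, Subgroup.mem_subgroupOf.mpr hx, rfl⟩
  have hP₂mem : ∀ x' : Ω, x' ∈ P₂ → ∃ x : ↥(normalizerIn S P₁), (x : Ω) ∈ P₁ ∧ χN x = x' := by
    intro x' hx'
    rw [hP₂def] at hx'
    obtain ⟨x, hx, rfl⟩ := hx'
    exact ⟨x, Subgroup.mem_subgroupOf.mp hx, rfl⟩
  have hP₁P₂ : F.IsConj P₁ P₂ := by
    refine ⟨χN.comp (Subgroup.inclusion hP₁N), inclusion_comp_mem F hP₁N hχNF, ?_⟩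
    apply le_antisymm
    · rintro _ ⟨x, rfl⟩
      exact hmemP₂ _ x.2
    · intro x' hx'
      obtain ⟨x, hx, rfl⟩ := hP₂mem x' hx'
      exact ⟨⟨x, hx⟩, rfl⟩
  have hP₂S : P₂ ≤ S := isConj_le_right F hP₁P₂
  have hfinP₂ : Finite P₂ := finite_of_le hP₂S
  -- `χN` maps `N_S(P₁)` into `N_S(P₂)`
  have hχNN : ∀ n : ↥(normalizerIn S P₁), χN n ∈ normalizerIn S P₂ := by
    intro n
    refine ⟨hom_apply_mem F hχNF n, ?_⟩
    apply mem_normalizer_of_conj_mem_finite
    intro x' hx'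
    obtain ⟨x, hx, rfl⟩ := hP₂mem x' hx'
    have hnx : (n : Ω) * (x : Ω) * (n : Ω)⁻¹ ∈ P₁ := (Subgroup.mem_normalizer_iff.mp n.2.2 x).mp hx
    have := hmemP₂ (n * x * n⁻¹) hnx
    rwa [map_mul, map_mul, map_inv] at this
  have hfinN₂ : Finite ↥(normalizerIn S P₂) := finite_of_le (normalizerIn_le S P₂)
  have hfinN₁ : Finite ↥(normalizerIn S P₁) := finite_of_le (normalizerIn_le S P₁)
  obtain ⟨f, hfdef⟩ : ∃ f : ↥(normalizerIn S P₁) → ↥(normalizerIn S P₂), ∀ n, f n = ⟨χN n, hχNN n⟩ :=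
    ⟨fun n => ⟨χN n, hχNN n⟩, fun _ => rfl⟩
  have hfinj : Function.Injective f := by
    intro a b hab
    rw [hfdef, hfdef] at hab
    exact hχNinj (congrArg Subtype.val hab)
  have hcard1 : Nat.card ↥(normalizerIn S P₁) ≤ Nat.card ↥(normalizerIn S P₂) :=
    Nat.card_le_card_of_injective f hfinj
  have hcard2 : Nat.card ↥(normalizerIn S P₂) ≤ Nat.card ↥(normalizerIn S P₁) := hP₁n.2 P₂ hP₁P₂
  have hfsurj : Function.Surjective f := by
    have hbij : Function.Bijective f :=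
      (Nat.bijective_iff_injective_and_card f).mpr ⟨hfinj, le_antisymm hcard1 hcard2⟩
    exact hbij.2
  have hP₂n : F.IsFullyNormalized P₂ := by
    refine ⟨hP₂S, fun Q hQ => ?_⟩
    exact (hP₁n.2 Q (isConj_trans F hP₁P₂ hQ)).trans hcard1
  -- `N_T(P₂) = V₂`
  have hV₂eq : normalizerIn T P₂ = V₂ := by
    ext x'
    constructor
    · intro hx'
      have hx'N : x' ∈ normalizerIn S P₂ := ⟨hTS hx'.1, hx'.2⟩
      obtain ⟨n, hn⟩ := hfsurj ⟨x', hx'N⟩
      rw [hfdef] at hn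
      have hn' : χN n = x' := congrArg Subtype.val hn
      have hnT : (n : Ω) ∈ T := mem_of_apply_mem_of_stronglyClosed F hT hχNF n (hn' ▸ hx'.1)
      rw [← hχmap, ← hn', hχNdef]
      refine ⟨Subgroup.inclusion hNN n, ?_, rfl⟩
      show Subgroup.inclusion hNN n ∈ (normalizerIn T P₁).subgroupOf (normalizerIn S (normalizerIn T P₁))
      rw [Subgroup.mem_subgroupOf]
      exact ⟨hnT, n.2.2⟩
    · intro hx'
      rw [← hχmap] at hx'
      obtain ⟨v, hv, rfl⟩ := hx'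
      have hv : v ∈ (normalizerIn T P₁).subgroupOf (normalizerIn S (normalizerIn T P₁)) := hv
      rw [Subgroup.mem_subgroupOf] at hv
      have hvN : (v : Ω) ∈ normalizerIn S P₁ := ⟨hTS hv.1, hv.2⟩
      have e : χ v = χN ⟨(v : Ω), hvN⟩ := by
        rw [hχNdef]
        rfl
      rw [e]
      exact ⟨apply_mem_of_stronglyClosed F hT hχNF _ hv.1, (hχNN _).2⟩
  refine ⟨P₂, χN.comp (Subgroup.inclusion hYN), inclusion_comp_mem F hYN hχNF, fun x => hmemP₂ _ x.2, ?_, hP₂n,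
    hV₂eq ▸ hV₂n⟩
  intro x' hx'
  obtain ⟨x, hx, rfl⟩ := hP₂mem x' hx'
  exact ⟨⟨x, hx⟩, rfl⟩

/-- **Super-nice extensions.** For `E` normal in `F` and `P` an `E`-centric subgroup, every automorphism of `P` in `E`
extends to an automorphism of `P C_S(P)` in `F` acting trivially on `P C_S(P) / P`. -/
theorem autGroup_le_snSub (hS : IsPGroup p S) (F : FusionSystem S) (hF : F.IsSaturated p)
    (E : FusionSystem T) (hE : E.IsNormalIn F p) :
    ∀ P : Subgroup Ω, E.IsCentric P → E.autGroup P ≤ snSub F P := by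
  have hEsat : E.IsSaturated p := hE.1.1
  have hEinv : E.IsInvariantIn F := hE.1.2.2
  have hT : F.StronglyClosed T := hEinv.2.1
  have hTS : T ≤ S := hT.1
  have hfinT : Finite T := finite_of_le hTS
  have hTp : IsPGroup p T := hS.to_le hTS
  have main : ∀ d : ℕ, ∀ P : Subgroup Ω, E.IsCentric P → Nat.card T - Nat.card P = d →
      E.autGroup P ≤ snSub F P := by
    intro d
    induction d using Nat.strong_induction_on with
    | _ d ih =>
      intro P hPc hd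
      by_cases hPT' : P = T
      · rw [hPT']
        exact autGroup_top_le_snSub F E hE
      · have hPT : P ≤ T := hPc.1
        have hPS : P ≤ S := hPT.trans hTS
        obtain ⟨P₁, hPP₁, hP₁n⟩ := exists_fullyNormalized_conj F hPS
        have hFA₁ := (saturated_fn hS F hF hP₁n).2
        have hFR₁ := saturated_fn_receptive hS F hF hP₁n
        obtain ⟨χ₁, hχ₁, -, hχ₁map⟩ := exists_normalizer_hom hS F hFA₁ hFR₁ hPP₁
        have hYN : P ⊔ centralizerIn S P ≤ normalizerIn S P :=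
          sup_le (le_normalizerIn hPS) (centralizerIn_le_normalizerIn S P)
        apply autGroup_le_snSub_of_hom F E hEinv hPT (χ₁.comp (Subgroup.inclusion hYN))
          (inclusion_comp_mem F hYN hχ₁) (P' := P₁)
        · intro x
          rw [← hχ₁map]
          exact ⟨Subgroup.inclusion (le_normalizerIn hPS) x, Subgroup.mem_subgroupOf.mpr x.2, rfl⟩
        · intro x' hx'
          rw [← hχ₁map] at hx'
          obtain ⟨y, hy, rfl⟩ := hx'
          exact ⟨⟨(y : Ω), Subgroup.mem_subgroupOf.mp hy⟩, rfl⟩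
        have hP₁c : E.IsCentric P₁ := isCentric_of_isConj_invariant hEinv hPc hPP₁
        obtain ⟨P₂, ρ, hρ, hρP, hρP', hP₂n, hV₂n⟩ := exists_conj_both_fn hS F hF hT hP₁c.1 hP₁n
        apply autGroup_le_snSub_of_hom F E hEinv hP₁c.1 ρ hρ hρP hρP'
        have hP₁P₂ : F.IsConj P₁ P₂ := by
          refine ⟨ρ.comp (Subgroup.inclusion le_sup_left), inclusion_comp_mem F le_sup_left hρ, ?_⟩
          apply le_antisymm
          · rintro _ ⟨x, rfl⟩
            exact hρP x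
          · intro x' hx'
            obtain ⟨x, hx⟩ := hρP' x' hx'
            exact ⟨x, hx⟩
        have hP₂c : E.IsCentric P₂ := isCentric_of_isConj_invariant hEinv hP₁c hP₁P₂
        apply autGroup_le_snSub_of_step hS F hF E hEsat hEinv hP₂c hP₂n hV₂n
        have hcard : Nat.card P = Nat.card P₂ := by
          obtain ⟨e, -⟩ := (isConj_iff_exists_isFIso F).mp (isConj_trans F hPP₁ hP₁P₂)
          exact Nat.card_congr e.toEquiv
        have hP₂ne : P₂ ≠ T := by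
          intro h
          apply hPT'
          apply Subgroup.eq_of_le_of_card_ge hPT
          rw [hcard, h]
        have hfinN : Finite ↥(normalizerIn T P₂) := finite_of_le ((normalizerIn_le T P₂).trans hTS)
        have hlt : Nat.card P₂ < Nat.card ↥(normalizerIn T P₂) := card_lt_card_normalizerIn hTp hP₂c.1 hP₂ne
        have hle : Nat.card ↥(normalizerIn T P₂) ≤ Nat.card T := Subgroup.card_le_of_le (normalizerIn_le T P₂)
        have hVc : E.IsCentric (normalizerIn T P₂) :=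
          isCentric_of_le E hP₂c (le_normalizerIn hP₂c.1) (normalizerIn_le T P₂)
        exact ih (Nat.card T - Nat.card ↥(normalizerIn T P₂)) (by omega) _ hVc rfl
  intro P hPc
  exact main _ P hPc rfl

end Core

end Cfsg.Agent.Lib.Helper26.CenS

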