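import Cfsg.Agent.Lib.Helper26.CenSH

/-!
Towards S5127, part I: automorphisms in `E` of an `E`-centric subgroup `P` fix the elements `x⁻¹ k(x)`, `k` an
automorphism in `F` of `P X` (`X ≤ C_S(P)`) stabilizing the chain `1 ≤ P ≤ P X`.
-/

set_option autoImplicit false

namespace Cfsg.Agent.Lib.Helper26.CenS

open Cfsg Cfsg.FusionSystem Cfsg.Agent.Lib.Helper26 Cfsg.Agent.Lib.Helper27 Cfsg.Agent.Lib.Helper26.OlvN
  Cfsg.Agent.Lib.Helper26.Crav Cfsg.Agent.Lib.Helper26.CenE Cfsg.Agent.Lib.Helper26.PPLeast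

open scoped commutatorElement

variable {Ω : Type*} [Group Ω] {S T : Subgroup Ω}

/-- A super-nice extension fixes the commutators of elements of `C_S(P)`. -/
theorem sn_apply_commutator (F : FusionSystem S) {P : Subgroup Ω} (hPS : P ≤ S)
    {σ : MulAut ↥(P ⊔ centralizerIn S P)} (hσ : σ ∈ F.autGroup (P ⊔ centralizerIn S P)) {α : MulAut P}
    (hσα : Restricts le_sup_left σ α) (hσm : σ ∈ modSub (P ⊔ centralizerIn S P) P)
    (a b : ↥(P ⊔ centralizerIn S P)) (ha : (a : Ω) ∈ centralizerIn S P) (hb : (b : Ω) ∈ centralizerIn S P) :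
    σ ⁅a, b⁆ = ⁅a, b⁆ := by
  have hYS : P ⊔ centralizerIn S P ≤ S := sup_cen_le hPS
  have hφ : equivHom (σ : _ ≃* _) ∈ F.Hom (P ⊔ centralizerIn S P) := (mem_autGroup_iff F hYS σ).mp hσ
  have hσC : ∀ d : ↥(P ⊔ centralizerIn S P), (d : Ω) ∈ centralizerIn S P →
      ((σ d : ↥(P ⊔ centralizerIn S P)) : Ω) ∈ centralizerIn S P := by
    intro d hd
    apply apply_mem_centralizerIn_of_hom F hφ _ d hd
    intro x' hx'
    refine ⟨α⁻¹ ⟨x', hx'⟩, ?_⟩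
    show ((σ (Subgroup.inclusion le_sup_left (α⁻¹ ⟨x', hx'⟩)) : ↥(P ⊔ centralizerIn S P)) : Ω) = x'
    rw [hσα.coe, MulAut.apply_inv_self]
  rw [map_commutatorElement]
  have e1 : σ a = a * (a⁻¹ * σ a) := by group
  have e2 : σ b = b * (b⁻¹ * σ b) := by group
  have hu : ((a⁻¹ * σ a : ↥(P ⊔ centralizerIn S P)) : Ω) ∈ P := hσm a
  have hv : ((b⁻¹ * σ b : ↥(P ⊔ centralizerIn S P)) : Ω) ∈ P := hσm b
  have hvC : ((b⁻¹ * σ b : ↥(P ⊔ centralizerIn S P)) : Ω) ∈ centralizerIn S P :=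
    Subgroup.mul_mem _ (Subgroup.inv_mem _ hb) (hσC b hb)
  rw [e1, e2]
  apply commutator_mul_central
  · exact Subtype.ext (comm_of_mem_centralizerIn ha hu)
  · exact Subtype.ext (comm_of_mem_centralizerIn hb hu)
  · exact Subtype.ext (comm_of_mem_centralizerIn ha hv)
  · exact Subtype.ext (comm_of_mem_centralizerIn hvC hu)

section Core

variable [Finite S] {p : ℕ} [Fact p.Prime]

/-- **Key rigidity.** -/
theorem apply_eq_of_chain (hS : IsPGroup p S) (F : FusionSystem S) (hF : F.IsSaturated p)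
    (E : FusionSystem T) (hE : E.IsNormalIn F p) {P X : Subgroup Ω} (hPc : E.IsCentric P)
    (hX : X ≤ centralizerIn S P) (k : MulAut ↥(P ⊔ X)) (hk : k ∈ F.autGroup (P ⊔ X))
    (hkP : ∀ y : ↥(P ⊔ X), (y : Ω) ∈ P → k y = y) (hkm : k ∈ modSub (P ⊔ X) P)
    (α : MulAut P) (hα : α ∈ E.autGroup P) (x : ↥(P ⊔ X)) (hx : (x : Ω) ∈ X) :
    α ⟨_, hkm x⟩ = ⟨_, hkm x⟩ := by
  have hEinv : E.IsInvariantIn F := hE.1.2.2
  obtain ⟨hEF, hT, hinv, hfrat⟩ := hEinv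
  have hSI : StrongInv E F := strongInv_of_invariant hinv hfrat
  have hTS : T ≤ S := hT.1
  have hPT : P ≤ T := hPc.1
  have hPS : P ≤ S := hPT.trans hTS
  have hcenP := cen_le_of_isCentric hPc
  have hWS : P ⊔ X ≤ S := sup_le hPS (hX.trans (centralizerIn_le S P))
  have hWT : ∀ y : Ω, y ∈ P ⊔ X → y ∈ T → y ∈ P := fun y hy hyT => mem_of_mem_sup_cen hPT hcenP hX hy hyT
  obtain ⟨W', hWW', hW'n⟩ := exists_fullyNormalized_conj F hWS
  obtain ⟨ζ, hζ⟩ := (isConj_iff_exists_isFIso F).mp hWW'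
  have hW'S : W' ≤ S := hζ.le_right
  have hW'A := (saturated_fn hS F hF hW'n).2
  have hζT : ∀ y : ↥(P ⊔ X), (y : Ω) ∈ T ↔ ((ζ y : W') : Ω) ∈ T :=
    fun y => apply_mem_iff_of_stronglyClosed F hT hζ y
  have hζP : ∀ y : ↥(P ⊔ X), (y : Ω) ∈ P ↔ ((ζ y : W') : Ω) ∈ W' ⊓ T :=
    fun y => ⟨fun h => ⟨(ζ y).2, (hζT y).mp (hPT h)⟩, fun h => hWT y y.2 ((hζT y).mpr h.2)⟩
  obtain ⟨ζP, hζPdef⟩ : ∃ ζP : P ≃* ↥(W' ⊓ T), ζP = isoRestrict ζ P (W' ⊓ T) le_sup_left inf_le_left hζP :=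
    ⟨_, rfl⟩
  have hζPF : IsFIso F ζP := hζPdef ▸ isoRestrict_isFIso F hζ P (W' ⊓ T) le_sup_left inf_le_left hζP
  have hζPx : ∀ u : P, ((ζP u : ↥(W' ⊓ T)) : Ω) = ((ζ (Subgroup.inclusion le_sup_left u) : W') : Ω) := by
    intro u
    rw [hζPdef]
    rfl
  have hP'c : E.IsCentric (W' ⊓ T) :=
    isCentric_of_isConj_invariant hE.1.2.2 hPc ((isConj_iff_exists_isFIso F).mpr ⟨ζP, hζPF⟩)
  have hP'T : W' ⊓ T ≤ T := inf_le_right
  have hP'S : W' ⊓ T ≤ S := hP'T.trans hTS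
  -- the transported automorphism `k'`
  have hk' : MulAut.congr ζ k ∈ Crav.chainStab F W' (W' ⊓ T) := by
    refine ⟨congr_mem_autGroup F hζ hk, fun u hu => ?_, fun u => ?_⟩
    · have h2 : ((ζ.symm u : ↥(P ⊔ X)) : Ω) ∈ P := by
        rw [hζP, MulEquiv.apply_symm_apply]
        exact hu
      show ζ (k (ζ.symm u)) = u
      rw [hkP _ h2, MulEquiv.apply_symm_apply]
    · have h1 := hkm (ζ.symm u)
      have e1 : u⁻¹ * (MulAut.congr ζ k) u = ζ ((ζ.symm u)⁻¹ * k (ζ.symm u)) := by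
        rw [map_mul, map_inv, MulEquiv.apply_symm_apply]
        rfl
      rw [e1]
      exact (hζP _).mp h1
  have hAinv : ∀ ω ∈ F.autGroup W', ∀ y : W', (y : Ω) ∈ W' ⊓ T → ((ω y : W') : Ω) ∈ W' ⊓ T := by
    intro ω hω y hy
    refine ⟨(ω y).2, ?_⟩
    exact apply_mem_of_stronglyClosed F hT ((mem_autGroup_iff F hW'S ω).mp hω) y hy.2
  have h1 := chainStab_le_autInducedBy hS F hW'A inf_le_left hAinv hk'
  obtain ⟨r, hrS, hr⟩ := (mem_autInducedBy_iff S W' _).mp h1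
  have hrC : r ∈ centralizerIn S (W' ⊓ T) := by
    rw [mem_centralizerIn_iff]
    refine ⟨hrS, fun v hv => ?_⟩
    have h2 := hr ⟨v, hv.1⟩
    rw [((mem_chainStab_iff F _ _ _).mp hk').2.1 _ hv] at h2
    have h3 : v = r * v * r⁻¹ := h2
    calc v * r = (r * v * r⁻¹) * r := by rw [← h3]
      _ = r * v := by group
  -- the element `g = ζ x`
  obtain ⟨g, hgdef⟩ : ∃ g : Ω, g = ((ζ x : W') : Ω) := ⟨_, rfl⟩
  have hgC : g ∈ centralizerIn S (W' ⊓ T) := by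
    rw [mem_centralizerIn_iff]
    refine ⟨hgdef ▸ hW'S (ζ x).2, fun v hv => ?_⟩
    have h2 : ((ζ.symm ⟨v, hv.1⟩ : ↥(P ⊔ X)) : Ω) ∈ P := by
      rw [hζP, MulEquiv.apply_symm_apply]
      exact hv
    have h3 : (ζ.symm ⟨v, hv.1⟩ : ↥(P ⊔ X)) * x = x * ζ.symm ⟨v, hv.1⟩ :=
      Subtype.ext (comm_of_mem_centralizerIn (hX hx) h2)
    have h4 := congrArg (fun z : ↥(P ⊔ X) => ((ζ z : W') : Ω)) h3
    simp only [map_mul, MulEquiv.apply_symm_apply, Subgroup.coe_mul] at h4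
    rw [hgdef]
    exact h4
  -- the transported automorphism of `P' = W' ∩ T` and its super-nice extension
  have hα' := congr_mem_autGroup_of_strongInv' hSI hPT hP'T hζPF hα
  obtain ⟨σ', hσ', hσ'α', hσ'm⟩ := autGroup_le_snSub hS F hF E hE (W' ⊓ T) hP'c hα'
  have h2 := sn_apply_commutator F hP'S hσ' hσ'α' hσ'm
    ⟨g⁻¹, Subgroup.mem_sup_right (Subgroup.inv_mem _ hgC)⟩ ⟨r, Subgroup.mem_sup_right hrC⟩
    (Subgroup.inv_mem _ hgC) hrC
  obtain ⟨wP, hwPdef⟩ : ∃ wP : P, wP = ⟨_, hkm x⟩ := ⟨_, rfl⟩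
  have h3 : (⁅(⟨g⁻¹, Subgroup.mem_sup_right (Subgroup.inv_mem _ hgC)⟩ : ↥((W' ⊓ T) ⊔ centralizerIn S (W' ⊓ T))),
      (⟨r, Subgroup.mem_sup_right hrC⟩ : ↥((W' ⊓ T) ⊔ centralizerIn S (W' ⊓ T)))⁆) =
      Subgroup.inclusion le_sup_left (ζP wP) := by
    apply Subtype.ext
    rw [commutatorElement_def]
    show g⁻¹ * r * (g⁻¹)⁻¹ * r⁻¹ = ((ζP wP : ↥(W' ⊓ T)) : Ω)
    rw [hζPx, hwPdef]
    have e1 : (Subgroup.inclusion le_sup_left (⟨_, hkm x⟩ : P) : ↥(P ⊔ X)) = x⁻¹ * k x := Subtype.ext rfl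
    rw [e1, map_mul, map_inv]
    have h4 := hr (ζ x)
    have h5 : (MulAut.congr ζ k) (ζ x) = ζ (k x) := by
      show ζ (k (ζ.symm (ζ x))) = _
      rw [MulEquiv.symm_apply_apply]
    rw [h5] at h4
    show _ = ((ζ x : W') : Ω)⁻¹ * ((ζ (k x) : W') : Ω)
    rw [h4, ← hgdef]
    group
  rw [h3, hσ'α' (ζP wP)] at h2
  have h4 : (MulAut.congr ζP α) (ζP wP) = ζP wP := Subgroup.inclusion_injective le_sup_left h2
  have h5 : (MulAut.congr ζP α) (ζP wP) = ζP (α wP) := by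
    show ζP (α (ζP.symm (ζP wP))) = _
    rw [MulEquiv.symm_apply_apply]
  rw [h5] at h4
  rw [← hwPdef]
  exact ζP.injective h4

end Core

end Cfsg.Agent.Lib.Helper26.CenS
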