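import Cfsg.Agent.Lib.Helper26.CenSI

/-!
Towards S5127, part J: the rigidity lemma.
-/

set_option autoImplicit false

namespace Cfsg.Agent.Lib.Helper26.CenS

open Cfsg Cfsg.FusionSystem Cfsg.Agent.Lib.Helper26 Cfsg.Agent.Lib.Helper27 Cfsg.Agent.Lib.Helper26.OlvN
  Cfsg.Agent.Lib.Helper26.Crav Cfsg.Agent.Lib.Helper26.CenE Cfsg.Agent.Lib.Helper26.PPLeast

variable {Ω : Type*} [Group Ω] {S T : Subgroup Ω}

/-- `P` normalizes every `X ≤ C_S(P)`. -/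
theorem le_normalizer_of_le_cen {P X : Subgroup Ω} (hX : X ≤ centralizerIn S P) :
    P ≤ Subgroup.normalizer ((X : Subgroup Ω) : Set Ω) := by
  intro x hx
  rw [Subgroup.mem_normalizer_iff]
  intro c
  have key : ∀ c : Ω, c ∈ X → x * c * x⁻¹ = c := by
    intro c hc
    have h1 := (mem_centralizerIn_iff.mp (hX hc)).2 x hx
    rw [h1, mul_inv_cancel_right]
  constructor
  · intro hc
    rw [key c hc]
    exact hc
  · intro hc
    have h2 := key _ hc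
    have h3 : c = x * c * x⁻¹ := by
      have : x⁻¹ * (x * (x * c * x⁻¹) * x⁻¹) * x = x⁻¹ * (x * c * x⁻¹) * x := by rw [h2]
      have e1 : x⁻¹ * (x * (x * c * x⁻¹) * x⁻¹) * x = x * c * x⁻¹ := by group
      have e2 : x⁻¹ * (x * c * x⁻¹) * x = c := by group
      rw [e1, e2] at this
      exact this.symm
    rw [h3]
    exact hc

/-- Elements of `P X`, `X ≤ C_S(P)`, are products. -/
theorem exists_mul_of_mem_sup_le_cen {P X : Subgroup Ω} (hX : X ≤ centralizerIn S P) (y : ↥(P ⊔ X)) :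
    ∃ (u : P) (c : X), y = Subgroup.inclusion le_sup_left u * Subgroup.inclusion le_sup_right c :=
  exists_mul_of_mem_sup' (le_normalizer_of_le_cen hX) y

/-- An automorphism of `P X` (`X ≤ C_S(P)`) preserving `P` and fixing `X` elementwise is trivial modulo `P`. -/
theorem mem_modSub_of_fix {P X : Subgroup Ω} (hX : X ≤ centralizerIn S P) {ν : MulAut ↥(P ⊔ X)} {α : MulAut P}
    (hνα : Restricts le_sup_left ν α) (hνX : ∀ y : ↥(P ⊔ X), (y : Ω) ∈ X → ν y = y) : ν ∈ modSub (P ⊔ X) P := by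
  intro y
  obtain ⟨u, c, rfl⟩ := exists_mul_of_mem_sup_le_cen hX y
  rw [map_mul, hνα u, hνX _ c.2]
  show ((u : Ω) * (c : Ω))⁻¹ * (((α u : P) : Ω) * (c : Ω)) ∈ P
  have hq : (u : Ω)⁻¹ * ((α u : P) : Ω) ∈ P := P.mul_mem (P.inv_mem u.2) (α u).2
  have hcq := comm_of_mem_centralizerIn (hX c.2) hq
  have e : ((u : Ω) * (c : Ω))⁻¹ * (((α u : P) : Ω) * (c : Ω)) = (u : Ω)⁻¹ * ((α u : P) : Ω) := by
    calc ((u : Ω) * (c : Ω))⁻¹ * (((α u : P) : Ω) * (c : Ω))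
        = (c : Ω)⁻¹ * (((u : Ω)⁻¹ * ((α u : P) : Ω)) * (c : Ω)) := by group
      _ = (c : Ω)⁻¹ * ((c : Ω) * ((u : Ω)⁻¹ * ((α u : P) : Ω))) := by rw [hcq]
      _ = _ := by group
  rw [e]
  exact hq

section Core

variable [Finite S] {p : ℕ} [Fact p.Prime]

/-- **Rigidity.** Let `P` be `E`-centric, `X ≤ C_S(P)`, and `μ, ν ∈ Aut_F(P X)` two extensions of `α ∈ Aut_E(P)`. If `ν`
fixes `X` elementwise and `μ` is trivial modulo `P` and of order prime to `p`, then `μ` fixes `X` elementwise. -/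
theorem apply_eq_of_rigid (hS : IsPGroup p S) (F : FusionSystem S) (hF : F.IsSaturated p)
    (E : FusionSystem T) (hE : E.IsNormalIn F p) {P X : Subgroup Ω} (hPc : E.IsCentric P)
    (hX : X ≤ centralizerIn S P) (μ ν : MulAut ↥(P ⊔ X)) (hμ : μ ∈ F.autGroup (P ⊔ X))
    (hν : ν ∈ F.autGroup (P ⊔ X)) (α : MulAut P) (hα : α ∈ E.autGroup P)
    (hμα : Restricts le_sup_left μ α) (hνα : Restricts le_sup_left ν α)
    (hνX : ∀ y : ↥(P ⊔ X), (y : Ω) ∈ X → ν y = y) (hμm : μ ∈ modSub (P ⊔ X) P)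
    {m : ℕ} (hm : m.Coprime p) (hμpow : μ ^ m = 1) :
    ∀ y : ↥(P ⊔ X), (y : Ω) ∈ X → μ y = y := by
  have hTS : T ≤ S := hE.1.2.2.2.1.1
  have hPS : P ≤ S := hPc.1.trans hTS
  intro x hx
  have hνm : ν ∈ modSub (P ⊔ X) P := mem_modSub_of_fix hX hνα hνX
  obtain ⟨k, hkdef⟩ : ∃ k : MulAut ↥(P ⊔ X), k = ν⁻¹ * μ := ⟨_, rfl⟩
  have hkF : k ∈ F.autGroup (P ⊔ X) := hkdef ▸ Subgroup.mul_mem _ (Subgroup.inv_mem _ hν) hμ
  have hkR : Restricts le_sup_left k (α⁻¹ * α) := hkdef ▸ hνα.inv.mul hμα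
  have hkP : ∀ y : ↥(P ⊔ X), (y : Ω) ∈ P → k y = y := by
    intro y hy
    have e : y = Subgroup.inclusion le_sup_left (⟨(y : Ω), hy⟩ : P) := Subtype.ext rfl
    rw [e, hkR]
    simp
  have hkm : k ∈ modSub (P ⊔ X) P := hkdef ▸ Subgroup.mul_mem _ (Subgroup.inv_mem _ hνm) hμm
  have h1 := apply_eq_of_chain hS F hF E hE hPc hX k hkF hkP hkm α hα x hx
  -- `μ x = x u`
  obtain ⟨u, hudef⟩ : ∃ u : P, u = ⟨_, hμm x⟩ := ⟨_, rfl⟩
  have hμx : μ x = x * Subgroup.inclusion le_sup_left u := by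
    rw [hudef]
    apply Subtype.ext
    show ((μ x : ↥(P ⊔ X)) : Ω) = (x : Ω) * ((x : Ω)⁻¹ * ((μ x : ↥(P ⊔ X)) : Ω))
    group
  have hν'x : ν⁻¹ x = x := by
    have h2 : ν⁻¹ (ν x) = ν⁻¹ x := by rw [hνX x hx]
    rw [MulAut.inv_apply_self] at h2
    exact h2.symm
  have hkx : k x = x * Subgroup.inclusion le_sup_left (α⁻¹ u) := by
    rw [hkdef, MulAut.mul_apply, hμx, map_mul, hν'x, hνα.inv u]
  have e1 : (⟨_, hkm x⟩ : P) = α⁻¹ u := by
    apply Subtype.ext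
    show ((x⁻¹ * k x : ↥(P ⊔ X)) : Ω) = _
    rw [hkx]
    show (x : Ω)⁻¹ * ((x : Ω) * ((α⁻¹ u : P) : Ω)) = _
    group
  rw [e1, MulAut.apply_inv_self] at h1
  -- so `α u = u`
  have hαu : α u = u := by
    have h2 : α u = α (α⁻¹ u) := by rw [← h1]
    rw [h2, MulAut.apply_inv_self]
  have hμu : μ (Subgroup.inclusion le_sup_left u) = Subgroup.inclusion le_sup_left u := by
    rw [hμα u, hαu]
  have h3 := aut_pow_apply_of_fixed μ hμx hμu m
  rw [hμpow] at h3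
  have h4 : (Subgroup.inclusion le_sup_left u : ↥(P ⊔ X)) ^ m = 1 := by
    have h5 : x = x * (Subgroup.inclusion le_sup_left u : ↥(P ⊔ X)) ^ m := h3
    have h6 : x * 1 = x * (Subgroup.inclusion le_sup_left u : ↥(P ⊔ X)) ^ m := by rw [mul_one]; exact h5
    exact (mul_left_cancel h6).symm
  obtain ⟨e, he⟩ := exists_exponent hS
  have h7 : (Subgroup.inclusion le_sup_left u : ↥(P ⊔ X)) ^ (p ^ e) = 1 := by
    apply Subtype.ext
    have := he (u : Ω) (hPS u.2)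
    simpa using this
  have h8 : (Subgroup.inclusion le_sup_left u : ↥(P ⊔ X)) = 1 :=
    eq_one_of_pow_coprime _ (Nat.Coprime.pow_right e hm) h4 h7
  rw [hμx, h8, mul_one]

end Core

end Cfsg.Agent.Lib.Helper26.CenS
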