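import Cfsg.Agent.Lib.Helper26.CenSJ
import Cfsg.Agent.Lib.Helper26.CenEF
import Cfsg.Agent.Lib.Helper12.Residual

/-!
Towards S5127, part K: the subgroup `C_S(E)`; it contains every subgroup `X ≤ C_S(T)` with `E ⊆ C_F(X)`, and
`E ⊆ C_F(C_S(E))`.
-/

set_option autoImplicit false

namespace Cfsg.Agent.Lib.Helper26.CenS

open Cfsg Cfsg.FusionSystem Cfsg.Agent.Lib.Helper26 Cfsg.Agent.Lib.Helper27 Cfsg.Agent.Lib.Helper26.OlvN
  Cfsg.Agent.Lib.Helper26.Crav Cfsg.Agent.Lib.Helper26.CenE Cfsg.Agent.Lib.Helper26.PPLeast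

variable {Ω : Type*} [Group Ω] {S T : Subgroup Ω}

namespace Restricts

variable {Y W V : Subgroup Ω} {hWY : W ≤ Y} {hVW : V ≤ W} {σ : MulAut Y} {μ : MulAut W} {a : MulAut V}

theorem comp (h₁ : Restricts hWY σ μ) (h₂ : Restricts hVW μ a) : Restricts (hVW.trans hWY) σ a := by
  intro v
  have e : Subgroup.inclusion (hVW.trans hWY) v = Subgroup.inclusion hWY (Subgroup.inclusion hVW v) :=
    Subtype.ext rfl
  rw [e, h₁, h₂]
  exact Subtype.ext rfl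

theorem pow_eq_one (h : Restricts hWY σ μ) {m : ℕ} (hσ : σ ^ m = 1) : μ ^ m = 1 := by
  ext w
  have h1 := (h.pow m) w
  rw [hσ] at h1
  have h2 : Subgroup.inclusion hWY w = Subgroup.inclusion hWY ((μ ^ m) w) := h1
  have h3 := Subgroup.inclusion_injective hWY h2
  rw [← h3]
  rfl

theorem mem_modSub (h : Restricts hWY σ μ) {P : Subgroup Ω} (hσ : σ ∈ modSub Y P) : μ ∈ modSub W P := by
  intro w
  have h1 := hσ (Subgroup.inclusion hWY w)
  rw [h w] at h1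
  exact h1

end Restricts

/-- Restriction of an automorphism in `F` to an invariant subgroup. -/
theorem exists_restrict_aut [Finite S] (F : FusionSystem S) {W Y : Subgroup Ω} (hWY : W ≤ Y) (hYS : Y ≤ S)
    (ψ : MulAut Y) (hψ : ψ ∈ F.autGroup Y) (hW : ∀ y : Y, (y : Ω) ∈ W → ((ψ y : Y) : Ω) ∈ W) :
    ∃ μ : MulAut W, μ ∈ F.autGroup W ∧ Restricts hWY ψ μ := by
  have hφ : (equivHom (ψ : Y ≃* Y)).comp (Subgroup.inclusion hWY) ∈ F.Hom W :=
    inclusion_comp_mem F hWY ((mem_autGroup_iff F hYS ψ).mp hψ)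
  obtain ⟨μ, hμ, hμx⟩ := Cfsg.Agent.Lib.Helper26.exists_aut_of_hom F hφ (fun w => hW _ w.2)
  exact ⟨μ, hμ, fun w => Subtype.ext (hμx w).symm⟩

/-- An automorphism trivial modulo `P` preserves every subgroup containing `P`. -/
theorem apply_mem_of_modSub_of_le {Y P W : Subgroup Ω} {ψ : MulAut Y} (hψ : ψ ∈ modSub Y P) (hPW : P ≤ W)
    (y : Y) (hy : (y : Ω) ∈ W) : ((ψ y : Y) : Ω) ∈ W := by
  have e : ψ y = y * (y⁻¹ * ψ y) := by group
  rw [e]
  exact W.mul_mem hy (hPW (hψ y))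

/-- `X ≤ C_S(T)` and `E ⊆ C_F(X)`. -/
def Good (E : FusionSystem T) (F : FusionSystem S) (X : Subgroup Ω) : Prop :=
  X ≤ centralizerIn S T ∧ ∀ P : Subgroup Ω, E.Hom P ⊆ F.centralizerHom X P

/-- The test automorphisms of `P C_S(T)`. -/
def TestAut (E : FusionSystem T) (F : FusionSystem S) (p : ℕ) (P : Subgroup Ω)
    (ψ : MulAut ↥(P ⊔ centralizerIn S T)) : Prop :=
  ψ ∈ F.autGroup (P ⊔ centralizerIn S T) ∧ ψ ∈ modSub (P ⊔ centralizerIn S T) P ∧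
    (∃ α ∈ E.autGroup P, Restricts le_sup_left ψ α) ∧ ∃ m : ℕ, m.Coprime p ∧ ψ ^ m = 1

/-- The centralizer `C_S(E)` of the subsystem `E` in `S`. -/
def cenSub (E : FusionSystem T) (F : FusionSystem S) (p : ℕ) : Subgroup Ω where
  carrier := {a | ∃ ha : a ∈ centralizerIn S T, ∀ P : Subgroup Ω, E.IsCentric P →
    ∀ ψ : MulAut ↥(P ⊔ centralizerIn S T), TestAut E F p P ψ →
      ψ ⟨a, Subgroup.mem_sup_right ha⟩ = ⟨a, Subgroup.mem_sup_right ha⟩}
  one_mem' := by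
    refine ⟨Subgroup.one_mem _, fun P _ ψ _ => ?_⟩
    have e : (⟨1, Subgroup.mem_sup_right (Subgroup.one_mem _)⟩ : ↥(P ⊔ centralizerIn S T)) = 1 := rfl
    rw [e, map_one]
  mul_mem' := by
    rintro a b ⟨ha, ha'⟩ ⟨hb, hb'⟩
    refine ⟨Subgroup.mul_mem _ ha hb, fun P hP ψ hψ => ?_⟩
    have e : (⟨a * b, Subgroup.mem_sup_right (Subgroup.mul_mem _ ha hb)⟩ : ↥(P ⊔ centralizerIn S T)) =
        ⟨a, Subgroup.mem_sup_right ha⟩ * ⟨b, Subgroup.mem_sup_right hb⟩ := rfl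
    rw [e, map_mul, ha' P hP ψ hψ, hb' P hP ψ hψ]
  inv_mem' := by
    rintro a ⟨ha, ha'⟩
    refine ⟨Subgroup.inv_mem _ ha, fun P hP ψ hψ => ?_⟩
    have e : (⟨a⁻¹, Subgroup.mem_sup_right (Subgroup.inv_mem _ ha)⟩ : ↥(P ⊔ centralizerIn S T)) =
        (⟨a, Subgroup.mem_sup_right ha⟩ : ↥(P ⊔ centralizerIn S T))⁻¹ := rfl
    rw [e, map_inv, ha' P hP ψ hψ]

theorem cenSub_le (E : FusionSystem T) (F : FusionSystem S) (p : ℕ) : cenSub E F p ≤ centralizerIn S T := by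
  rintro a ⟨ha, -⟩
  exact ha

theorem apply_of_mem_cenSub {E : FusionSystem T} {F : FusionSystem S} {p : ℕ} {a : Ω} (ha : a ∈ cenSub E F p)
    {P : Subgroup Ω} (hP : E.IsCentric P) {ψ : MulAut ↥(P ⊔ centralizerIn S T)} (hψ : TestAut E F p P ψ)
    (y : ↥(P ⊔ centralizerIn S T)) (hy : (y : Ω) = a) : ψ y = y := by
  obtain ⟨ha1, ha2⟩ := ha
  have e : y = ⟨a, Subgroup.mem_sup_right ha1⟩ := Subtype.ext hy
  rw [e]
  exact ha2 P hP ψ hψ

section Core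

variable [Finite S] {p : ℕ} [Fact p.Prime]

/-- Every good subgroup lies in `C_S(E)`. -/
theorem good_le_cenSub (hS : IsPGroup p S) (F : FusionSystem S) (hF : F.IsSaturated p)
    (E : FusionSystem T) (hE : E.IsNormalIn F p) {X : Subgroup Ω} (hX : Good E F X) : X ≤ cenSub E F p := by
  have hT : F.StronglyClosed T := hE.1.2.2.2.1
  have hTS : T ≤ S := hT.1
  intro a haX
  refine ⟨hX.1 haX, fun P hPc ψ hψ => ?_⟩
  obtain ⟨hψF, hψm, ⟨α, hα, hψα⟩, m, hm, hψpow⟩ := hψ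
  have hPT : P ≤ T := hPc.1
  have hPS : P ≤ S := hPT.trans hTS
  have hYS : P ⊔ centralizerIn S T ≤ S := sup_le hPS (centralizerIn_le S T)
  have hXP : X ≤ centralizerIn S P := hX.1.trans (centralizerIn_anti hPT)
  have hWY : P ⊔ X ≤ P ⊔ centralizerIn S T := sup_le_sup_left hX.1 P
  obtain ⟨μ, hμF, hψμ⟩ := exists_restrict_aut F hWY hYS ψ hψF
    (fun y hy => apply_mem_of_modSub_of_le hψm le_sup_left y hy)
  have hμα : Restricts le_sup_left μ α := by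
    intro u
    apply Subtype.ext
    have e : Subgroup.inclusion hWY (Subgroup.inclusion le_sup_left u) = Subgroup.inclusion le_sup_left u :=
      Subtype.ext rfl
    have h1 := hψμ.coe (Subgroup.inclusion le_sup_left u)
    rw [e, hψα.coe] at h1
    exact h1.symm
  -- the extension fixing `X`
  have hφ₀ : P.subtype.comp α.toMonoidHom ∈ E.Hom P := (mem_autGroup_iff E hPT α).mp hα
  obtain ⟨-, -, -, ψ₀, hψ₀, hψ₀P, hψ₀X⟩ := hX.2 P hφ₀
  have hψ₀W : ∀ y, ψ₀ y ∈ P ⊔ X := by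
    intro y
    obtain ⟨u, c, rfl⟩ := exists_mul_of_mem_sup_le_cen hXP y
    rw [map_mul, hψ₀P, hψ₀X]
    exact Subgroup.mul_mem _ (Subgroup.mem_sup_left (α u).2) (Subgroup.mem_sup_right c.2)
  obtain ⟨ν, hνF, hνx⟩ := Cfsg.Agent.Lib.Helper26.exists_aut_of_hom F hψ₀ hψ₀W
  have hνα : Restricts le_sup_left ν α := by
    intro u
    apply Subtype.ext
    rw [hνx, hψ₀P]
    rfl
  have hνX : ∀ y : ↥(P ⊔ X), (y : Ω) ∈ X → ν y = y := by
    intro y hy
    apply Subtype.ext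
    rw [hνx]
    have e : y = Subgroup.inclusion le_sup_right (⟨(y : Ω), hy⟩ : X) := Subtype.ext rfl
    rw [e, hψ₀X]
    rfl
  have key := apply_eq_of_rigid hS F hF E hE hPc hXP μ ν hμF hνF α hα hμα hνα hνX (hψμ.mem_modSub hψm) hm
    (hψμ.pow_eq_one hψpow) ⟨a, Subgroup.mem_sup_right haX⟩ haX
  have e : (⟨a, Subgroup.mem_sup_right (hX.1 haX)⟩ : ↥(P ⊔ centralizerIn S T)) =
      Subgroup.inclusion hWY ⟨a, Subgroup.mem_sup_right haX⟩ := Subtype.ext rfl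
  rw [e, hψμ, key]

end Core

end Cfsg.Agent.Lib.Helper26.CenS
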