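import Cfsg.Agent.Lib.Helper26.CenSK

/-!
Towards S5127, part L: `E ⊆ C_F(C_S(E))`.
-/

set_option autoImplicit false

namespace Cfsg.Agent.Lib.Helper26.CenS

open Cfsg Cfsg.FusionSystem Cfsg.Agent.Lib.Helper26 Cfsg.Agent.Lib.Helper27 Cfsg.Agent.Lib.Helper26.OlvN
  Cfsg.Agent.Lib.Helper26.Crav Cfsg.Agent.Lib.Helper26.CenE Cfsg.Agent.Lib.Helper26.PPLeast

variable {Ω : Type*} [Group Ω] {S T : Subgroup Ω}

/-- The automorphisms of `P` having an extension in `Aut_F(P X)` fixing `X` elementwise. -/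
def fixExtSub (F : FusionSystem S) (X P : Subgroup Ω) : Subgroup (MulAut P) where
  carrier := {α | ∃ ψ ∈ F.autGroup (P ⊔ X), Restricts le_sup_left ψ α ∧
    ∀ y : ↥(P ⊔ X), (y : Ω) ∈ X → ψ y = y}
  one_mem' := ⟨1, Subgroup.one_mem _, Restricts.one, fun _ _ => rfl⟩
  mul_mem' := by
    rintro α β ⟨ψ₁, h₁, h₁R, h₁X⟩ ⟨ψ₂, h₂, h₂R, h₂X⟩
    refine ⟨ψ₁ * ψ₂, Subgroup.mul_mem _ h₁ h₂, h₁R.mul h₂R, fun y hy => ?_⟩
    rw [MulAut.mul_apply, h₂X y hy, h₁X y hy]
  inv_mem' := by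
    rintro α ⟨ψ, h, hR, hX⟩
    refine ⟨ψ⁻¹, Subgroup.inv_mem _ h, hR.inv, fun y hy => ?_⟩
    have h2 : ψ⁻¹ (ψ y) = ψ⁻¹ y := by rw [hX y hy]
    rw [MulAut.inv_apply_self] at h2
    exact h2.symm

theorem fixExt_of_mem_fixExtSub (F : FusionSystem S) {X P : Subgroup Ω} (hWS : P ⊔ X ≤ S) {α : MulAut P}
    (h : α ∈ fixExtSub F X P) : FixExt F X P α := by
  obtain ⟨ψ, hψ, hR, hX⟩ := h
  refine ⟨equivHom (ψ : _ ≃* _), (mem_autGroup_iff F hWS ψ).mp hψ, fun x => hR.coe x, fun x => ?_⟩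
  show ((ψ (Subgroup.inclusion le_sup_right x) : ↥(P ⊔ X)) : Ω) = x
  rw [hX _ x.2]
  rfl

section Core

variable [Finite S] {p : ℕ} [Fact p.Prime]

/-- A `p'`-automorphism in `E` of `P = T` or `P` an `E`-essential subgroup is the restriction of a test
automorphism. -/
theorem exists_testAut (hS : IsPGroup p S) (F : FusionSystem S) (hF : F.IsSaturated p)
    (E : FusionSystem T) (hE : E.IsNormalIn F p) {P : Subgroup Ω} (hP : P = T ∨ E.IsEssential p P)
    (α : MulAut P) (hα : α ∈ E.autGroup P) {m : ℕ} (hm : m.Coprime p) (hm0 : m ≠ 0) (hαm : α ^ m = 1) :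
    ∃ ψ : MulAut ↥(P ⊔ centralizerIn S T), TestAut E F p P ψ ∧ Restricts le_sup_left ψ α := by
  have hT : F.StronglyClosed T := hE.1.2.2.2.1
  have hTS : T ≤ S := hT.1
  obtain ⟨hPT, hcen, ψ₀, hN⟩ := nice_of_aut hS F hF E hE hP α hα
  have hPS : P ≤ S := hPT.trans hTS
  have hYS : P ⊔ centralizerIn S T ≤ S := sup_le hPS (centralizerIn_le S T)
  have hr : (P.subtype.comp α.toMonoidHom).range = P := range_aut α
  have hcen' : centralizerIn T (P.subtype.comp α.toMonoidHom).range ≤ (P.subtype.comp α.toMonoidHom).range := by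
    rw [hr]
    exact hcen
  have hψ₀Y : ∀ y, ψ₀ y ∈ P ⊔ centralizerIn S T := by
    intro y
    have := hN.apply_mem_sup hT hPT hcen' y
    rwa [hr] at this
  obtain ⟨β, hβF, hβx⟩ := Cfsg.Agent.Lib.Helper26.exists_aut_of_hom F hN.mem hψ₀Y
  have hβα : Restricts le_sup_left β α := by
    intro u
    apply Subtype.ext
    rw [hβx, hN.ext]
    rfl
  have hβm : β ∈ modSub (P ⊔ centralizerIn S T) P := by
    intro y
    obtain ⟨u, c, rfl⟩ := exists_mul_of_mem_sup hPT y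
    show ((Subgroup.inclusion le_sup_left u * Subgroup.inclusion le_sup_right c :
      ↥(P ⊔ centralizerIn S T)) : Ω)⁻¹ * ((β _ : ↥(P ⊔ centralizerIn S T)) : Ω) ∈ P
    rw [hβx, map_mul, hN.ext]
    have h1 := hN.corr_mem hT hPT hcen' (Subgroup.inclusion le_sup_right c) c.2
    rw [hr] at h1
    obtain ⟨b, hb⟩ : ∃ b : Ω, b = ψ₀ (Subgroup.inclusion le_sup_right c) := ⟨_, rfl⟩
    rw [← hb] at h1 ⊢
    show ((u : Ω) * (c : Ω))⁻¹ * (((α u : P) : Ω) * b) ∈ P
    have h3 : ((Subgroup.inclusion le_sup_right c : ↥(P ⊔ centralizerIn S T)) : Ω) = (c : Ω) := rfl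
    rw [h3] at h1
    have hq : (u : Ω)⁻¹ * ((α u : P) : Ω) ∈ P := P.mul_mem (P.inv_mem u.2) (α u).2
    have hcq := mem_centralizerIn_comm c.2 (hPT hq)
    have e : ((u : Ω) * (c : Ω))⁻¹ * (((α u : P) : Ω) * b) = ((u : Ω)⁻¹ * ((α u : P) : Ω)) * ((c : Ω)⁻¹ * b) := by
      calc ((u : Ω) * (c : Ω))⁻¹ * (((α u : P) : Ω) * b)
          = (c : Ω)⁻¹ * (((u : Ω)⁻¹ * ((α u : P) : Ω)) * (c : Ω)) * ((c : Ω)⁻¹ * b) := by group
        _ = (c : Ω)⁻¹ * ((c : Ω) * ((u : Ω)⁻¹ * ((α u : P) : Ω))) * ((c : Ω)⁻¹ * b) := by rw [hcq]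
        _ = _ := by group
    rw [e]
    exact P.mul_mem hq h1
  have h0 : ∀ x : ↥(P ⊔ centralizerIn S T), (x : Ω) ∈ P → (β ^ m) x = x := by
    intro x hx
    have e : x = Subgroup.inclusion le_sup_left (⟨(x : Ω), hx⟩ : P) := Subtype.ext rfl
    have h3 := (hβα.pow m) ⟨(x : Ω), hx⟩
    rw [hαm] at h3
    rw [e, h3]
    rfl
  obtain ⟨j, hj1, hj2⟩ := exists_pprime_pow hS hYS (le_refl P) β hβm (fun y _ => hβm y) hm hm0 h0
  have hR : Restricts le_sup_left (β ^ j) α := by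
    intro u
    rw [hj2 _ u.2]
    exact hβα u
  exact ⟨β ^ j, ⟨Subgroup.pow_mem _ hβF j, Subgroup.pow_mem _ hβm j, ⟨α, hα, hR⟩, m, hm, hj1⟩, hR⟩

/-- For `P = T` or `P` an `E`-essential subgroup, every automorphism of `P` in `E` extends to `P C_S(E)` fixing
`C_S(E)` elementwise. -/
theorem autGroup_le_fixExtSub (hS : IsPGroup p S) (F : FusionSystem S) (hF : F.IsSaturated p)
    (E : FusionSystem T) (hE : E.IsNormalIn F p) {P : Subgroup Ω} (hP : P = T ∨ E.IsEssential p P) :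
    E.autGroup P ≤ fixExtSub F (cenSub E F p) P := by
  have hEsat : E.IsSaturated p := hE.1.1
  have hT : F.StronglyClosed T := hE.1.2.2.2.1
  have hTS : T ≤ S := hT.1
  have hfinT : Finite T := finite_of_le hTS
  have hTp : IsPGroup p T := hS.to_le hTS
  have hPc : E.IsCentric P := by
    rcases hP with rfl | hess
    · exact isCentric_self E
    · exact hess.1
  have hPn : E.IsFullyNormalized P := by
    rcases hP with rfl | hess
    · exact fullyNormalized_of_stronglyClosed E (stronglyClosed_top E)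
    · exact hess.2.1
  have hPT : P ≤ T := hPc.1
  have hPS : P ≤ S := hPT.trans hTS
  have hfinP : Finite P := finite_of_le hPS
  have hCA : cenSub E F p ≤ centralizerIn S T := cenSub_le E F p
  have hCP : cenSub E F p ≤ centralizerIn S P := hCA.trans (centralizerIn_anti hPT)
  have hWY : P ⊔ cenSub E F p ≤ P ⊔ centralizerIn S T := sup_le_sup_left hCA P
  have hYS : P ⊔ centralizerIn S T ≤ S := sup_le hPS (centralizerIn_le S T)
  have hWS : P ⊔ cenSub E F p ≤ S := hWY.trans hYS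
  have hfinW : Finite ↥(P ⊔ cenSub E F p) := finite_of_le hWS
  obtain ⟨-, R, hR⟩ := (saturated_fn hTp E hEsat hPn).2
  let K' : Subgroup ↥(E.autGroup P) := (fixExtSub F (cenSub E F p) P).subgroupOf (E.autGroup P)
  -- `Aut_T(P)`
  have hRK : (R : Subgroup ↥(E.autGroup P)) ≤ K' := by
    intro g hg
    rw [hR, Subgroup.mem_subgroupOf] at hg
    obtain ⟨t, ht, htN, hgt⟩ := (mem_autInducedBy_iff' T P _).mp hg
    show (g : MulAut P) ∈ fixExtSub F (cenSub E F p) P
    rw [hgt]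
    have htC : ∀ c : Ω, c ∈ cenSub E F p → t * c * t⁻¹ = c := by
      intro c hc
      have h1 := mem_centralizerIn_comm (hCA hc) ht
      rw [h1, mul_inv_cancel_right]
    have htW : ∀ y : Ω, y ∈ P ⊔ cenSub E F p → t * y * t⁻¹ ∈ P ⊔ cenSub E F p := by
      intro y hy
      obtain ⟨u, c, h⟩ := exists_mul_of_mem_sup_le_cen hCP ⟨y, hy⟩
      have hy' : y = (u : Ω) * (c : Ω) := congrArg Subtype.val h
      have e : t * y * t⁻¹ = (t * u * t⁻¹) * (t * c * t⁻¹) := by rw [hy']; group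
      rw [e, htC _ c.2]
      exact Subgroup.mul_mem _ (Subgroup.mem_sup_left ((Subgroup.mem_normalizer_iff.mp htN u).mp u.2))
        (Subgroup.mem_sup_right c.2)
    have htNW : t ∈ Subgroup.normalizer ((P ⊔ cenSub E F p : Subgroup Ω) : Set Ω) :=
      mem_normalizer_of_conj_mem_finite htW
    refine ⟨(P ⊔ cenSub E F p).normalizerMonoidHom ⟨t, htNW⟩,
      autInducedBy_le_autGroup F hWS (normalizerMonoidHom_mem_autInducedBy (hTS ht) htNW),
      restricts_conj le_sup_left htNW htN, fun y hy => ?_⟩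
    apply Subtype.ext
    show t * (y : Ω) * t⁻¹ = y
    exact htC _ hy
  -- `p'`-elements
  have hresK : pResidual p ↥(E.autGroup P) ≤ K' := by
    unfold pResidual
    rw [Subgroup.closure_le]
    intro g hg
    have hg' : (orderOf g).Coprime p := hg
    show (g : MulAut P) ∈ fixExtSub F (cenSub E F p) P
    have hm0 : orderOf g ≠ 0 := (orderOf_pos g).ne'
    have hgm : (g : MulAut P) ^ orderOf g = 1 := by
      rw [← Subgroup.coe_pow, pow_orderOf_eq_one]
      rfl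
    obtain ⟨ψ, hψT, hψα⟩ := exists_testAut hS F hF E hE hP (g : MulAut P) g.2 hg' hm0 hgm
    obtain ⟨μ, hμF, hψμ⟩ := exists_restrict_aut F hWY hYS ψ hψT.1
      (fun y hy => apply_mem_of_modSub_of_le hψT.2.1 le_sup_left y hy)
    refine ⟨μ, hμF, ?_, fun y hy => ?_⟩
    · intro u
      apply Subtype.ext
      have e : Subgroup.inclusion hWY (Subgroup.inclusion le_sup_left u) = Subgroup.inclusion le_sup_left u :=
        Subtype.ext rfl
      have h1 := hψμ.coe (Subgroup.inclusion le_sup_left u)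
      rw [e, hψα.coe] at h1
      exact h1.symm
    · have h1 := apply_of_mem_cenSub hy hPc hψT (Subgroup.inclusion hWY y) rfl
      rw [hψμ y] at h1
      exact Subgroup.inclusion_injective hWY h1
  have hidx : ¬ p ∣ (R : Subgroup ↥(E.autGroup P)).index := Sylow.not_dvd_index R
  have htop := Cfsg.Agent.Lib.Helper12.sup_pResidual_eq_top (R : Subgroup ↥(E.autGroup P)) hidx
  intro α hα
  have h1 : (⟨α, hα⟩ : ↥(E.autGroup P)) ∈ (⊤ : Subgroup ↥(E.autGroup P)) := Subgroup.mem_top _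
  rw [← htop] at h1
  exact (sup_le hRK hresK) h1

/-- `E ⊆ C_F(C_S(E))`. -/
theorem cenSub_good (hS : IsPGroup p S) (F : FusionSystem S) (hF : F.IsSaturated p)
    (E : FusionSystem T) (hE : E.IsNormalIn F p) : Good E F (cenSub E F p) := by
  have hEsat : E.IsSaturated p := hE.1.1
  have hEF : E.IsSubsystemOf F := hE.1.2.2.1
  have hT : F.StronglyClosed T := hE.1.2.2.2.1
  have hTS : T ≤ S := hT.1
  refine ⟨cenSub_le E F p, ?_⟩
  apply centralizes_of_aut hS F E hEsat hEF hT (cenSub_le E F p)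
  intro P hP α hα
  have hPT : P ≤ T := by
    rcases hP with rfl | hess
    · exact le_rfl
    · exact hess.1.1
  have hWS : P ⊔ cenSub E F p ≤ S :=
    sup_le (hPT.trans hTS) ((cenSub_le E F p).trans (centralizerIn_le S T))
  exact fixExt_of_mem_fixExtSub F hWS (autGroup_le_fixExtSub hS F hF E hE hP hα)

end Core

end Cfsg.Agent.Lib.Helper26.CenS
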