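import Cfsg.Agent.Lib.Helper26.CenSL

/-!
Towards S5127, part M: `C_S(E)` is invariant under `Aut_F(T C_S(T))`; in particular it is normal in `S`.
-/

set_option autoImplicit false

namespace Cfsg.Agent.Lib.Helper26.CenS

open Cfsg Cfsg.FusionSystem Cfsg.Agent.Lib.Helper26 Cfsg.Agent.Lib.Helper27 Cfsg.Agent.Lib.Helper26.OlvN
  Cfsg.Agent.Lib.Helper26.Crav Cfsg.Agent.Lib.Helper26.CenE Cfsg.Agent.Lib.Helper26.PPLeast

variable {Ω : Type*} [Group Ω] {S T : Subgroup Ω}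

/-- Automorphisms of `T C_S(T)` in `F` preserve `C_S(T)` (`T` strongly closed). -/
theorem aut_apply_mem_cen [Finite S] (F : FusionSystem S) (hT : F.StronglyClosed T)
    (γ : MulAut ↥(T ⊔ centralizerIn S T)) (hγ : γ ∈ F.autGroup (T ⊔ centralizerIn S T))
    (y : ↥(T ⊔ centralizerIn S T)) (hy : (y : Ω) ∈ centralizerIn S T) :
    ((γ y : ↥(T ⊔ centralizerIn S T)) : Ω) ∈ centralizerIn S T := by
  have hTS : T ≤ S := hT.1
  have hYS : T ⊔ centralizerIn S T ≤ S := sup_cen_le hTS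
  have hφ : equivHom (γ : _ ≃* _) ∈ F.Hom (T ⊔ centralizerIn S T) := (mem_autGroup_iff F hYS γ).mp hγ
  apply apply_mem_centralizerIn_of_hom F hφ _ y hy
  intro x' hx'
  have hγT : ∀ z : ↥(T ⊔ centralizerIn S T), (z : Ω) ∈ T ↔ ((γ z : ↥(T ⊔ centralizerIn S T)) : Ω) ∈ T :=
    fun z => apply_mem_iff_of_stronglyClosed F hT hφ z
  have h1 : ((γ⁻¹ ⟨x', Subgroup.mem_sup_left hx'⟩ : ↥(T ⊔ centralizerIn S T)) : Ω) ∈ T := by
    rw [hγT, MulAut.apply_inv_self]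
    exact hx'
  refine ⟨⟨_, h1⟩, ?_⟩
  have e : Subgroup.inclusion le_sup_left
      (⟨((γ⁻¹ ⟨x', Subgroup.mem_sup_left hx'⟩ : ↥(T ⊔ centralizerIn S T)) : Ω), h1⟩ : T) =
      γ⁻¹ ⟨x', Subgroup.mem_sup_left hx'⟩ := Subtype.ext rfl
  rw [e]
  show ((γ (γ⁻¹ ⟨x', Subgroup.mem_sup_left hx'⟩) : ↥(T ⊔ centralizerIn S T)) : Ω) = x'
  rw [MulAut.apply_inv_self]

section Core

variable [Finite S] {p : ℕ} [Fact p.Prime]

omit [Fact p.Prime] in
/-- `C_S(E)` is invariant under `Aut_F(T C_S(T))`. -/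
theorem aut_apply_mem_cenSub (F : FusionSystem S) (E : FusionSystem T) (hE : E.IsInvariantIn F)
    (γ : MulAut ↥(T ⊔ centralizerIn S T)) (hγ : γ ∈ F.autGroup (T ⊔ centralizerIn S T))
    (y : ↥(T ⊔ centralizerIn S T)) (hy : (y : Ω) ∈ cenSub E F p) :
    ((γ y : ↥(T ⊔ centralizerIn S T)) : Ω) ∈ cenSub E F p := by
  have hE' := hE
  obtain ⟨hEF, hT, hinv, hfrat⟩ := hE
  have hSI : StrongInv E F := strongInv_of_invariant hinv hfrat
  have hTS : T ≤ S := hT.1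
  have hYS : T ⊔ centralizerIn S T ≤ S := sup_cen_le hTS
  have hφ : equivHom (γ : _ ≃* _) ∈ F.Hom (T ⊔ centralizerIn S T) := (mem_autGroup_iff F hYS γ).mp hγ
  have hγiso : IsFIso F (γ : ↥(T ⊔ centralizerIn S T) ≃* ↥(T ⊔ centralizerIn S T)) := hφ
  have hγT : ∀ z : ↥(T ⊔ centralizerIn S T), (z : Ω) ∈ T ↔ ((γ z : ↥(T ⊔ centralizerIn S T)) : Ω) ∈ T :=
    fun z => apply_mem_iff_of_stronglyClosed F hT hφ z
  obtain ⟨hyA, hy'⟩ := hy
  refine ⟨aut_apply_mem_cen F hT γ hγ y hyA, fun P hPc ψ hψ => ?_⟩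
  obtain ⟨hψF, hψm, ⟨α, hα, hψα⟩, m, hm, hψpow⟩ := hψ
  have hPT : P ≤ T := hPc.1
  -- the preimage `Q` of `P`
  obtain ⟨Q, hQdef⟩ : ∃ Q : Subgroup Ω, Q = ((P.subgroupOf (T ⊔ centralizerIn S T)).comap
      (γ : ↥(T ⊔ centralizerIn S T) ≃* ↥(T ⊔ centralizerIn S T)).toMonoidHom).map
      (T ⊔ centralizerIn S T).subtype := ⟨_, rfl⟩
  have hQ : ∀ z : ↥(T ⊔ centralizerIn S T), (z : Ω) ∈ Q ↔ ((γ z : ↥(T ⊔ centralizerIn S T)) : Ω) ∈ P := by
    intro z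
    rw [hQdef]
    constructor
    · rintro ⟨z', hz', h⟩
      have : z' = z := Subtype.ext h
      rw [← this]
      exact hz'
    · intro h
      exact ⟨z, h, rfl⟩
  have hQY : Q ≤ T ⊔ centralizerIn S T := by
    rw [hQdef]
    rintro _ ⟨z, -, rfl⟩
    exact z.2
  have hQT : Q ≤ T := by
    intro z hz
    have h1 := (hQ ⟨z, hQY hz⟩).mp hz
    exact (hγT ⟨z, hQY hz⟩).mpr (hPT h1)
  have hQAY : Q ⊔ centralizerIn S T ≤ T ⊔ centralizerIn S T := sup_le_sup_right hQT _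
  have hPAY : P ⊔ centralizerIn S T ≤ T ⊔ centralizerIn S T := sup_le_sup_right hPT _
  have hQA : ∀ z : ↥(T ⊔ centralizerIn S T), (z : Ω) ∈ Q ⊔ centralizerIn S T ↔
      ((γ z : ↥(T ⊔ centralizerIn S T)) : Ω) ∈ P ⊔ centralizerIn S T := by
    intro z
    constructor
    · intro hz
      obtain ⟨u, c, h⟩ := exists_mul_of_mem_sup hQT ⟨(z : Ω), hz⟩
      have hzu : (z : Ω) = (u : Ω) * (c : Ω) := congrArg Subtype.val h
      have e : z = (⟨u, hQY u.2⟩ : ↥(T ⊔ centralizerIn S T)) * ⟨c, Subgroup.mem_sup_right c.2⟩ :=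
        Subtype.ext hzu
      rw [e, map_mul]
      exact Subgroup.mul_mem _ (Subgroup.mem_sup_left ((hQ _).mp u.2))
        (Subgroup.mem_sup_right (aut_apply_mem_cen F hT γ hγ _ c.2))
    · intro hz
      obtain ⟨u, c, h⟩ := exists_mul_of_mem_sup hPT ⟨_, hz⟩
      have hzu : ((γ z : ↥(T ⊔ centralizerIn S T)) : Ω) = (u : Ω) * (c : Ω) := congrArg Subtype.val h
      have e : γ z = (⟨u, hPAY (Subgroup.mem_sup_left u.2)⟩ : ↥(T ⊔ centralizerIn S T)) *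
          ⟨c, Subgroup.mem_sup_right c.2⟩ := Subtype.ext hzu
      have e2 : z = γ⁻¹ (⟨u, hPAY (Subgroup.mem_sup_left u.2)⟩ : ↥(T ⊔ centralizerIn S T)) *
          γ⁻¹ ⟨c, Subgroup.mem_sup_right c.2⟩ := by
        rw [← map_mul, ← e, MulAut.inv_apply_self]
      rw [e2]
      apply Subgroup.mul_mem
      · apply Subgroup.mem_sup_left
        rw [hQ, MulAut.apply_inv_self]
        exact u.2
      · exact Subgroup.mem_sup_right
          (aut_apply_mem_cen F hT γ⁻¹ (Subgroup.inv_mem _ hγ) _ c.2)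
  obtain ⟨e, hedef⟩ : ∃ e : ↥(Q ⊔ centralizerIn S T) ≃* ↥(P ⊔ centralizerIn S T),
      e = isoRestrict (γ : ↥(T ⊔ centralizerIn S T) ≃* ↥(T ⊔ centralizerIn S T)) _ _ hQAY hPAY hQA := ⟨_, rfl⟩
  have he : IsFIso F e := hedef ▸ isoRestrict_isFIso F hγiso _ _ hQAY hPAY hQA
  have hex : ∀ z : ↥(Q ⊔ centralizerIn S T), ((e z : ↥(P ⊔ centralizerIn S T)) : Ω) =
      ((γ ⟨z, hQAY z.2⟩ : ↥(T ⊔ centralizerIn S T)) : Ω) := fun z => by rw [hedef]; rfl
  obtain ⟨eQ, heQdef⟩ : ∃ eQ : Q ≃* P,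
      eQ = isoRestrict (γ : ↥(T ⊔ centralizerIn S T) ≃* ↥(T ⊔ centralizerIn S T)) Q P hQY
        (hPT.trans le_sup_left) hQ := ⟨_, rfl⟩
  have heQ : IsFIso F eQ := heQdef ▸ isoRestrict_isFIso F hγiso _ _ hQY (hPT.trans le_sup_left) hQ
  have heQx : ∀ u : Q, ((eQ u : P) : Ω) = ((γ ⟨u, hQY u.2⟩ : ↥(T ⊔ centralizerIn S T)) : Ω) :=
    fun u => by rw [heQdef]; rfl
  have hQc : E.IsCentric Q :=
    isCentric_of_isConj_invariant hE' hPc ((isConj_iff_exists_isFIso F).mpr ⟨eQ.symm, heQ.symm⟩)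
  have heincl : ∀ u : Q, e (Subgroup.inclusion le_sup_left u) = Subgroup.inclusion le_sup_left (eQ u) := by
    intro u
    apply Subtype.ext
    rw [hex]
    show _ = ((eQ u : P) : Ω)
    rw [heQx]
    rfl
  -- the transported test automorphism
  have hψ' : TestAut E F p Q (MulAut.congr e.symm ψ) := by
    refine ⟨congr_mem_autGroup F he.symm hψF, fun z => ?_, ⟨MulAut.congr eQ.symm α,
      congr_mem_autGroup_of_strongInv' hSI hPT hQT heQ.symm hα, fun u => ?_⟩, m, hm, ?_⟩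
    · have h1 := hψm (e z)
      have e1 : z⁻¹ * (MulAut.congr e.symm ψ) z = e.symm ((e z)⁻¹ * ψ (e z)) := by
        rw [map_mul, map_inv, MulEquiv.symm_apply_apply]
        rfl
      rw [e1]
      obtain ⟨v, hv⟩ : ∃ v, v = (e z)⁻¹ * ψ (e z) := ⟨_, rfl⟩
      rw [← hv] at h1 ⊢
      have h2 := (hQ ⟨((e.symm v : ↥(Q ⊔ centralizerIn S T)) : Ω), hQAY (e.symm v).2⟩).mpr
      apply h2
      have h3 := hex (e.symm v)
      rw [MulEquiv.apply_symm_apply] at h3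
      rw [← h3]
      exact h1
    · show e.symm (ψ (e (Subgroup.inclusion le_sup_left u))) = _
      rw [heincl, hψα]
      apply e.injective
      rw [MulEquiv.apply_symm_apply, heincl]
      show _ = Subgroup.inclusion le_sup_left (eQ (eQ.symm (α (eQ.symm.symm u))))
      rw [MulEquiv.apply_symm_apply]
      rfl
    · rw [← map_pow, hψpow, map_one]
  have h := hy' Q hQc _ hψ'
  have h2 : (MulAut.congr e.symm ψ) ⟨(y : Ω), Subgroup.mem_sup_right hyA⟩ =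
      e.symm (ψ (e ⟨(y : Ω), Subgroup.mem_sup_right hyA⟩)) := rfl
  rw [h2] at h
  have h3 : ψ (e ⟨(y : Ω), Subgroup.mem_sup_right hyA⟩) = e ⟨(y : Ω), Subgroup.mem_sup_right hyA⟩ := by
    have := congrArg e h
    rwa [MulEquiv.apply_symm_apply] at this
  have e4 : e ⟨(y : Ω), Subgroup.mem_sup_right hyA⟩ =
      ⟨((γ y : ↥(T ⊔ centralizerIn S T)) : Ω), Subgroup.mem_sup_right (aut_apply_mem_cen F hT γ hγ y hyA)⟩ := by
    apply Subtype.ext
    rw [hex]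
  rw [e4] at h3
  exact h3

omit [Fact p.Prime] in
/-- `C_S(E)` is normalized by `S`. -/
theorem conj_mem_cenSub (F : FusionSystem S) (E : FusionSystem T) (hE : E.IsInvariantIn F)
    {s : Ω} (hs : s ∈ S) {a : Ω} (ha : a ∈ cenSub E F p) : s * a * s⁻¹ ∈ cenSub E F p := by
  have hT : F.StronglyClosed T := hE.2.1
  have hTS : T ≤ S := hT.1
  have hYS : T ⊔ centralizerIn S T ≤ S := sup_cen_le hTS
  have hsN : s ∈ normalizerIn S T := ⟨hs, le_normalizer_of_stronglyClosed F hT hs⟩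
  have hsNY := normalizerIn_le_normalizerIn_sup_cen hTS hsN
  have hγ : (T ⊔ centralizerIn S T).normalizerMonoidHom ⟨s, hsNY.2⟩ ∈ F.autGroup (T ⊔ centralizerIn S T) :=
    autInducedBy_le_autGroup F hYS (normalizerMonoidHom_mem_autInducedBy hs hsNY.2)
  exact aut_apply_mem_cenSub F E hE _ hγ ⟨a, Subgroup.mem_sup_right (cenSub_le E F p ha)⟩ ha

end Core

end Cfsg.Agent.Lib.Helper26.CenS
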