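import Cfsg.Agent.Lib.Helper26.CenSM

/-!
Towards S5127, part N: `C_S(E)` contains the focal subgroup of `C_F(T)`; maps of `F` defined on overgroups of `T`
preserve `C_S(E)`.
-/

set_option autoImplicit false

namespace Cfsg.Agent.Lib.Helper26.CenS

open Cfsg Cfsg.FusionSystem Cfsg.Agent.Lib.Helper26 Cfsg.Agent.Lib.Helper27 Cfsg.Agent.Lib.Helper26.OlvN
  Cfsg.Agent.Lib.Helper26.Crav Cfsg.Agent.Lib.Helper26.CenE Cfsg.Agent.Lib.Helper26.PPLeast

variable {Ω : Type*} [Group Ω] {S T : Subgroup Ω}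

section Core

variable [Finite S] {p : ℕ} [Fact p.Prime]

/-- `C_S(E)` is the join of the good subgroups. -/
theorem cenSub_eq_sSup (hS : IsPGroup p S) (F : FusionSystem S) (hF : F.IsSaturated p)
    (E : FusionSystem T) (hE : E.IsNormalIn F p) :
    cenSub E F p = sSup {X : Subgroup Ω | X ≤ centralizerIn S T ∧
      ∀ P : Subgroup Ω, E.Hom P ⊆ F.centralizerHom X P} := by
  apply le_antisymm
  · exact le_sSup (cenSub_good hS F hF E hE)
  · apply sSup_le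
    intro X hX
    exact good_le_cenSub hS F hF E hE hX

/-- The quotients `x⁻¹ φ(x)` for `φ` in `C_F(T)` lie in `C_S(E)`. -/
theorem inv_mul_apply_mem_cenSub (hS : IsPGroup p S) (F : FusionSystem S) (hF : F.IsSaturated p)
    (E : FusionSystem T) (hE : E.IsNormalIn F p) {P : Subgroup Ω} {φ : P →* Ω}
    (hφ : φ ∈ F.centralizerHom T P) (x : P) : (x : Ω)⁻¹ * φ x ∈ cenSub E F p := by
  have hTS : T ≤ S := hE.1.2.2.2.1.1
  have h := focal_le hS F hF E hE _ (cenSub_eq_sSup hS F hF E hE) (centralizerSystem F T hTS)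
    (centralizerSystem_isCentralizerSystem F T hTS)
  apply h
  unfold focalSubgroup
  exact Subgroup.subset_closure ⟨P, φ, x, hφ, rfl⟩

/-- Maps of `F` defined on overgroups of `T` preserve `C_S(E)`. -/
theorem apply_mem_cenSub_of_le (hS : IsPGroup p S) (F : FusionSystem S) (hF : F.IsSaturated p)
    (E : FusionSystem T) (hE : E.IsNormalIn F p) {R : Subgroup Ω} (hTR : T ≤ R) {φ : R →* Ω}
    (hφ : φ ∈ F.Hom R) (x : R) (hx : (x : Ω) ∈ cenSub E F p) : φ x ∈ cenSub E F p := by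
  have hEinv : E.IsInvariantIn F := hE.1.2.2
  have hT : F.StronglyClosed T := hEinv.2.1
  have hTS : T ≤ S := hT.1
  have hfinT : Finite T := finite_of_le hTS
  have hRS : R ≤ S := hom_le F hφ
  have hYS : T ⊔ centralizerIn S T ≤ S := sup_cen_le hTS
  have hSN : S ≤ Subgroup.normalizer (T : Set Ω) := le_normalizer_of_stronglyClosed F hT
  -- the automorphism `γ` of `T` induced by `φ`
  have hφT : φ.comp (Subgroup.inclusion hTR) ∈ F.Hom T := inclusion_comp_mem F hTR hφ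
  have hφTT : ∀ t : T, (φ.comp (Subgroup.inclusion hTR)) t ∈ T := fun t => hT.2 T le_rfl _ hφT t
  obtain ⟨γ, hγ, hγx⟩ := exists_aut_of_hom_self F hφT hφTT
  obtain ⟨β, hβ, hβT, hβC⟩ := exists_extension_sup hS F hF hT γ hγ
  have hβR : Restricts le_sup_left β γ := hβT
  -- `W = ⟨x⟩ T`
  have hxA : (x : Ω) ∈ centralizerIn S T := cenSub_le E F p hx
  have hXA : Subgroup.zpowers (x : Ω) ≤ centralizerIn S T := Subgroup.zpowers_le.mpr hxA
  have hXR : Subgroup.zpowers (x : Ω) ≤ R := Subgroup.zpowers_le.mpr x.2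
  have hWR : Subgroup.zpowers (x : Ω) ⊔ T ≤ R := sup_le hXR hTR
  obtain ⟨φW, hφWdef⟩ : ∃ φW : ↥(Subgroup.zpowers (x : Ω) ⊔ T) →* Ω, φW = φ.comp (Subgroup.inclusion hWR) :=
    ⟨_, rfl⟩
  have hφW : φW ∈ F.Hom (Subgroup.zpowers (x : Ω) ⊔ T) := hφWdef ▸ inclusion_comp_mem F hWR hφ
  -- `φ` maps `C_R(T)` into `C_S(T)`
  have hφA : ∀ c : R, (c : Ω) ∈ centralizerIn S T → φ c ∈ centralizerIn S T := by
    intro c hc
    rw [mem_centralizerIn_iff]
    refine ⟨hom_apply_mem F hφ c, fun t' ht' => ?_⟩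
    obtain ⟨t₀, ht₀⟩ : ∃ t₀ : T, γ t₀ = ⟨t', ht'⟩ := ⟨γ⁻¹ ⟨t', ht'⟩, MulAut.apply_inv_self _ _ _⟩
    have h1 : t' = φ (Subgroup.inclusion hTR t₀) := by
      have := hγx t₀
      rw [ht₀] at this
      exact this
    have h2 : Subgroup.inclusion hTR t₀ * c = c * Subgroup.inclusion hTR t₀ :=
      Subtype.ext (mem_centralizerIn_comm hc t₀.2)
    rw [h1, ← map_mul, ← map_mul, h2]
  have hφWY : ∀ w : ↥(Subgroup.zpowers (x : Ω) ⊔ T), φW w ∈ T ⊔ centralizerIn S T := by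
    intro w
    have hn : Subgroup.zpowers (x : Ω) ≤ Subgroup.normalizer (T : Set Ω) :=
      (hXA.trans (centralizerIn_le S T)).trans hSN
    obtain ⟨c, t, rfl⟩ := exists_mul_of_mem_sup' hn w
    rw [hφWdef, map_mul]
    apply Subgroup.mul_mem
    · exact Subgroup.mem_sup_right (hφA ⟨(c : Ω), hXR c.2⟩ (hXA c.2))
    · exact Subgroup.mem_sup_left (hφTT t)
  -- `δ = β⁻¹ ∘ φ`
  have hβ' : equivHom ((β⁻¹ : MulAut ↥(T ⊔ centralizerIn S T)) : _ ≃* _) ∈ F.Hom (T ⊔ centralizerIn S T) :=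
    (mem_autGroup_iff F hYS _).mp (Subgroup.inv_mem _ hβ)
  have hδ := F.comp_mem hφW hβ' hφWY
  obtain ⟨δ, hδdef⟩ : ∃ δ : ↥(Subgroup.zpowers (x : Ω) ⊔ T) →* Ω,
      δ = (equivHom ((β⁻¹ : MulAut ↥(T ⊔ centralizerIn S T)) : _ ≃* _)).comp
        (φW.codRestrict (T ⊔ centralizerIn S T) hφWY) := ⟨_, rfl⟩
  rw [← hδdef] at hδ
  have hδx : ∀ w, δ w = ((β⁻¹ ⟨φW w, hφWY w⟩ : ↥(T ⊔ centralizerIn S T)) : Ω) := fun w => by rw [hδdef]; rfl
  have hδT : ∀ t : T, δ (Subgroup.inclusion le_sup_right t) = t := by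
    intro t
    rw [hδx]
    have e : (⟨φW (Subgroup.inclusion le_sup_right t), hφWY _⟩ : ↥(T ⊔ centralizerIn S T)) =
        Subgroup.inclusion le_sup_left (γ t) := by
      apply Subtype.ext
      show φW (Subgroup.inclusion le_sup_right t) = ((γ t : T) : Ω)
      rw [hγx, hφWdef]
      rfl
    rw [e, hβR.inv, MulAut.inv_apply_self]
    rfl
  have hδA : ∀ c : Subgroup.zpowers (x : Ω), δ (Subgroup.inclusion le_sup_left c) ∈ centralizerIn S T := by
    intro c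
    rw [hδx]
    apply aut_apply_mem_cen F hT β⁻¹ (Subgroup.inv_mem _ hβ)
    show φW (Subgroup.inclusion le_sup_left c) ∈ centralizerIn S T
    rw [hφWdef]
    exact hφA ⟨(c : Ω), hXR c.2⟩ (hXA c.2)
  have hδX : δ.comp (Subgroup.inclusion le_sup_left) ∈ F.centralizerHom T (Subgroup.zpowers (x : Ω)) :=
    ⟨inclusion_comp_mem F le_sup_left hδ, hXA, hδA, δ, hδ, fun _ => rfl, hδT⟩
  have h1 := inv_mul_apply_mem_cenSub hS F hF E hE hδX ⟨(x : Ω), Subgroup.mem_zpowers _⟩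
  obtain ⟨xW, hxWdef⟩ : ∃ xW : ↥(Subgroup.zpowers (x : Ω) ⊔ T),
      xW = Subgroup.inclusion le_sup_left ⟨(x : Ω), Subgroup.mem_zpowers _⟩ := ⟨_, rfl⟩
  have h2 : δ xW ∈ cenSub E F p := by
    have e : δ xW = (x : Ω) * ((x : Ω)⁻¹ * δ xW) := by group
    rw [e]
    apply Subgroup.mul_mem _ hx
    rw [hxWdef]
    exact h1
  have h3 := aut_apply_mem_cenSub F E hEinv β hβ (β⁻¹ ⟨φW xW, hφWY xW⟩) (by rw [← hδx]; exact h2)
  rw [MulAut.apply_inv_self] at h3
  have e : φ x = φW xW := by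
    rw [hφWdef, hxWdef]
    rfl
  rw [e]
  exact h3

end Core

end Cfsg.Agent.Lib.Helper26.CenS
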