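import Cfsg.Agent.Lib.Helper26.CenSN
import Cfsg.Agent.Lib.Helper27.FSAlperinStrong

/-!
Towards S5127, part O: `p'`-automorphisms of `R` trivial modulo `R ∩ T` and inducing an element of `Aut_E(R ∩ T)` fix
`C_S(E) ∩ R` elementwise; a Frattini criterion; the system of maps preserving a normal subgroup.
-/

set_option autoImplicit false

namespace Cfsg.Agent.Lib.Helper26.CenS

open Cfsg Cfsg.FusionSystem Cfsg.Agent.Lib.Helper26 Cfsg.Agent.Lib.Helper27 Cfsg.Agent.Lib.Helper26.OlvN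
  Cfsg.Agent.Lib.Helper26.Crav Cfsg.Agent.Lib.Helper26.CenE Cfsg.Agent.Lib.Helper26.PPLeast

variable {Ω : Type*} [Group Ω] {S T : Subgroup Ω}

/-- The system of the maps of `F` preserving membership in a subgroup `C` normalized by `S`. -/
def closedSystem (F : FusionSystem S) (C : Subgroup Ω) (hCn : ∀ s : Ω, s ∈ S → ∀ a : Ω, a ∈ C → s * a * s⁻¹ ∈ C) :
    FusionSystem S where
  Hom P := {φ | φ ∈ F.Hom P ∧ ∀ x : P, (x : Ω) ∈ C ↔ φ x ∈ C}
  le_of_mem h := F.le_of_mem h.1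
  injective_of_mem h := F.injective_of_mem h.1
  conj_mem := by
    intro P g hP hg
    refine ⟨F.conj_mem hP hg, fun x => ⟨fun hx => hCn g hg x hx, fun hx => ?_⟩⟩
    have h1 := hCn g⁻¹ (S.inv_mem hg) _ hx
    have e : g⁻¹ * (conjHom P g x) * g⁻¹⁻¹ = x := by
      show g⁻¹ * (g * (x : Ω) * g⁻¹) * g⁻¹⁻¹ = x
      group
    rwa [e] at h1
  comp_mem := by
    intro P Q φ ψ hφ hψ h
    exact ⟨F.comp_mem hφ.1 hψ.1 h, fun x => (hφ.2 x).trans (hψ.2 ⟨φ x, h x⟩)⟩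
  inv_mem := by
    intro P φ hφ
    obtain ⟨ψ, hψ, hψx⟩ := F.inv_mem hφ.1
    refine ⟨ψ, ⟨hψ, ?_⟩, hψx⟩
    rintro ⟨_, x, rfl⟩
    rw [hψx]
    exact (hφ.2 x).symm

theorem mem_closedSystem_iff (F : FusionSystem S) (C : Subgroup Ω)
    (hCn : ∀ s : Ω, s ∈ S → ∀ a : Ω, a ∈ C → s * a * s⁻¹ ∈ C) (P : Subgroup Ω) (φ : P →* Ω) :
    φ ∈ (closedSystem F C hCn).Hom P ↔ φ ∈ F.Hom P ∧ ∀ x : P, (x : Ω) ∈ C ↔ φ x ∈ C := Iff.rfl

theorem mem_autGroup_closedSystem_iff (F : FusionSystem S) (C : Subgroup Ω)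
    (hCn : ∀ s : Ω, s ∈ S → ∀ a : Ω, a ∈ C → s * a * s⁻¹ ∈ C) {R : Subgroup Ω} (hRS : R ≤ S) (μ : MulAut R) :
    μ ∈ (closedSystem F C hCn).autGroup R ↔ μ ∈ F.autGroup R ∧ ∀ x : R, (x : Ω) ∈ C ↔ ((μ x : R) : Ω) ∈ C := by
  rw [mem_autGroup_iff _ hRS, mem_closedSystem_iff, ← mem_autGroup_iff F hRS]
  rfl

section Core

variable [Finite S] {p : ℕ} [Fact p.Prime]

/-- `p'`-automorphisms of `R` in `F`, trivial modulo `R ∩ T` and inducing an element of `Aut_E(R ∩ T)`, fix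
`C_S(E) ∩ R` elementwise (`R ∩ T` being `E`-centric). -/
theorem apply_eq_of_pprime (hS : IsPGroup p S) (F : FusionSystem S) (hF : F.IsSaturated p)
    (E : FusionSystem T) (hE : E.IsNormalIn F p) {R : Subgroup Ω} (hRS : R ≤ S) (hQc : E.IsCentric (R ⊓ T))
    (μ : MulAut R) (hμ : μ ∈ F.autGroup R) (α : MulAut ↥(R ⊓ T)) (hα : α ∈ E.autGroup (R ⊓ T))
    (hμα : Restricts inf_le_left μ α) (hμm : μ ∈ modSub R (R ⊓ T)) {m : ℕ} (hm : m.Coprime p)
    (hμpow : μ ^ m = 1) (x : R) (hx : (x : Ω) ∈ cenSub E F p) : μ x = x := by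
  have hQT : R ⊓ T ≤ T := inf_le_right
  have hCA : cenSub E F p ≤ centralizerIn S T := cenSub_le E F p
  have hXQ : cenSub E F p ⊓ R ≤ centralizerIn S (R ⊓ T) :=
    inf_le_left.trans (hCA.trans (centralizerIn_anti hQT))
  have hCQ : cenSub E F p ≤ centralizerIn S (R ⊓ T) := hCA.trans (centralizerIn_anti hQT)
  have hWR : (R ⊓ T) ⊔ (cenSub E F p ⊓ R) ≤ R := sup_le inf_le_left inf_le_right
  obtain ⟨μW, hμWF, hμμW⟩ := exists_restrict_aut F hWR hRS μ hμ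
    (fun y hy => apply_mem_of_modSub_of_le hμm le_sup_left y hy)
  have hμWα : Restricts le_sup_left μW α := by
    intro u
    apply Subtype.ext
    have e : Subgroup.inclusion hWR (Subgroup.inclusion le_sup_left u) = Subgroup.inclusion inf_le_left u :=
      Subtype.ext rfl
    have h1 := hμμW.coe (Subgroup.inclusion le_sup_left u)
    rw [e, hμα.coe] at h1
    exact h1.symm
  -- the extension fixing `C_S(E)`
  have hφ₀ : (R ⊓ T).subtype.comp α.toMonoidHom ∈ E.Hom (R ⊓ T) := (mem_autGroup_iff E hQT α).mp hα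
  obtain ⟨-, -, -, ψ₀, hψ₀, hψ₀P, hψ₀X⟩ := (cenSub_good hS F hF E hE).2 (R ⊓ T) hφ₀
  have hWQC : (R ⊓ T) ⊔ (cenSub E F p ⊓ R) ≤ (R ⊓ T) ⊔ cenSub E F p := sup_le_sup_left inf_le_left _
  have hψ₁ : ψ₀.comp (Subgroup.inclusion hWQC) ∈ F.Hom ((R ⊓ T) ⊔ (cenSub E F p ⊓ R)) :=
    inclusion_comp_mem F hWQC hψ₀
  have hψ₁u : ∀ u : ↥(R ⊓ T), (ψ₀.comp (Subgroup.inclusion hWQC)) (Subgroup.inclusion le_sup_left u) =
      ((α u : ↥(R ⊓ T)) : Ω) := by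
    intro u
    have e : Subgroup.inclusion hWQC (Subgroup.inclusion le_sup_left u) = Subgroup.inclusion le_sup_left u :=
      Subtype.ext rfl
    show ψ₀ (Subgroup.inclusion hWQC (Subgroup.inclusion le_sup_left u)) = _
    rw [e, hψ₀P]
    rfl
  have hψ₁c : ∀ c : ↥(cenSub E F p ⊓ R), (ψ₀.comp (Subgroup.inclusion hWQC)) (Subgroup.inclusion le_sup_right c) =
      (c : Ω) := by
    intro c
    have e : Subgroup.inclusion hWQC (Subgroup.inclusion le_sup_right c) =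
        Subgroup.inclusion le_sup_right (⟨(c : Ω), c.2.1⟩ : ↥(cenSub E F p)) := Subtype.ext rfl
    show ψ₀ (Subgroup.inclusion hWQC (Subgroup.inclusion le_sup_right c)) = _
    rw [e, hψ₀X]
  have hψ₁W : ∀ y, (ψ₀.comp (Subgroup.inclusion hWQC)) y ∈ (R ⊓ T) ⊔ (cenSub E F p ⊓ R) := by
    intro y
    obtain ⟨u, c, rfl⟩ := exists_mul_of_mem_sup_le_cen hXQ y
    rw [map_mul, hψ₁u, hψ₁c]
    exact Subgroup.mul_mem _ (Subgroup.mem_sup_left (α u).2) (Subgroup.mem_sup_right c.2)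
  obtain ⟨ν, hνF, hνx⟩ := Cfsg.Agent.Lib.Helper26.exists_aut_of_hom F hψ₁ hψ₁W
  have hνα : Restricts le_sup_left ν α := by
    intro u
    apply Subtype.ext
    rw [hνx, hψ₁u]
    rfl
  have hνX : ∀ y : ↥((R ⊓ T) ⊔ (cenSub E F p ⊓ R)), (y : Ω) ∈ cenSub E F p ⊓ R → ν y = y := by
    intro y hy
    apply Subtype.ext
    rw [hνx]
    have e : y = Subgroup.inclusion le_sup_right (⟨(y : Ω), hy⟩ : ↥(cenSub E F p ⊓ R)) := Subtype.ext rfl
    rw [e, hψ₁c]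
    rfl
  have key := apply_eq_of_rigid hS F hF E hE hQc hXQ μW ν hμWF hνF α hα hμWα hνα hνX (hμμW.mem_modSub hμm) hm
    (hμμW.pow_eq_one hμpow) ⟨(x : Ω), Subgroup.mem_sup_right ⟨hx, x.2⟩⟩ ⟨hx, x.2⟩
  have e : x = Subgroup.inclusion hWR ⟨(x : Ω), Subgroup.mem_sup_right ⟨hx, x.2⟩⟩ := Subtype.ext rfl
  rw [e, hμμW, key]

/-- **Frattini criterion.** Let `R` be fully normalized in the saturated system `F`, and suppose all maps of `F` on larger
subgroups lie in `𝒢`. If a normal subgroup `K'` of `Aut_F(R)` lies in `Aut_𝒢(R)` and contains conjugation by some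
`g₀ ∈ N_S(R) ∖ R`, then `Aut_F(R) ≤ Aut_𝒢(R)`. -/
theorem autGroup_le_of_normal (hS : IsPGroup p S) (F : FusionSystem S) (hF : F.IsSaturated p)
    (𝒢 : FusionSystem S) {R : Subgroup Ω} (hRn : F.IsFullyNormalized R)
    (IH : ∀ R' : Subgroup Ω, R' ≤ S → Nat.card R < Nat.card R' → F.Hom R' ⊆ 𝒢.Hom R')
    (K' : Subgroup ↥(F.autGroup R)) (hK'n : K'.Normal)
    (hK' : ∀ g : ↥(F.autGroup R), g ∈ K' → (g : MulAut R) ∈ 𝒢.autGroup R)
    {g₀ : Ω} (hg₀N : g₀ ∈ normalizerIn S R) (hg₀R : g₀ ∉ R)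
    (hg₀K : ∀ h : R.normalizerMonoidHom ⟨g₀, hg₀N.2⟩ ∈ F.autGroup R,
      (⟨_, h⟩ : ↥(F.autGroup R)) ∈ K') :
    F.autGroup R ≤ 𝒢.autGroup R := by
  have hRS : R ≤ S := hRn.1
  have hfinR : Finite R := finite_of_le hRS
  obtain ⟨-, Rs, hRs⟩ := (saturated_fn hS F hF hRn).2
  have hRec := saturated_fn_receptive hS F hF hRn
  let B : Subgroup ↥(F.autGroup R) := (𝒢.autGroup R).subgroupOf (F.autGroup R)
  have hK'B : K' ≤ B := fun g hg => hK' g hg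
  obtain ⟨U, hU⟩ := sylowIn_inf_of_normal Rs K'
  have hfrat := Sylow.normalizer_sup_eq_top U
  have hUmap : (U : Subgroup ↥K').map K'.subtype = (Rs : Subgroup ↥(F.autGroup R)) ⊓ K' := by
    rw [hU]
    exact Subgroup.map_subgroupOf_eq_of_le inf_le_right
  rw [hUmap] at hfrat
  have hNB : Subgroup.normalizer
      (((Rs : Subgroup ↥(F.autGroup R)) ⊓ K' : Subgroup ↥(F.autGroup R)) : Set ↥(F.autGroup R)) ≤ B := by
    intro γ hγ
    have htS : g₀ ∈ S := hg₀N.1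
    have htN : g₀ ∈ Subgroup.normalizer (R : Set Ω) := hg₀N.2
    have haF : R.normalizerMonoidHom ⟨g₀, htN⟩ ∈ F.autGroup R :=
      autInducedBy_le_autGroup F hRS (normalizerMonoidHom_mem_autInducedBy htS htN)
    have haR : (⟨_, haF⟩ : ↥(F.autGroup R)) ∈ (Rs : Subgroup ↥(F.autGroup R)) := by
      rw [hRs, Subgroup.mem_subgroupOf]
      exact normalizerMonoidHom_mem_autInducedBy htS htN
    have haK : (⟨_, haF⟩ : ↥(F.autGroup R)) ∈ K' := hg₀K haF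
    have h1 := (Subgroup.mem_normalizer_iff.mp hγ _).mp ⟨haR, haK⟩
    have h2 : (γ * ⟨_, haF⟩ * γ⁻¹ : ↥(F.autGroup R)) ∈ (Rs : Subgroup ↥(F.autGroup R)) := h1.1
    rw [hRs, Subgroup.mem_subgroupOf] at h2
    obtain ⟨h, hhS, hh⟩ := (mem_autInducedBy_iff S R _).mp h2
    have hext : g₀ ∈ extender S R (equivHom ((γ : MulAut R) : R ≃* R)) := by
      rw [mem_extender_iff]
      refine ⟨htS, htN, h, hhS, fun x hx => ?_⟩
      have h3 := hh ((γ : MulAut R) x)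
      have h4 : ((γ * ⟨_, haF⟩ * γ⁻¹ : ↥(F.autGroup R)) : MulAut R) ((γ : MulAut R) x) =
          (γ : MulAut R) ⟨g₀ * x * g₀⁻¹, hx⟩ := by
        show (γ : MulAut R) ((R.normalizerMonoidHom ⟨g₀, htN⟩) ((γ : MulAut R)⁻¹ ((γ : MulAut R) x))) = _
        rw [MulAut.inv_apply_self]
        rfl
      rw [h4] at h3
      exact h3
    show (γ : MulAut R) ∈ 𝒢.autGroup R
    exact mem_autGroup_of_extender F 𝒢 hRec IH γ.2 hext hg₀R
  intro α hα
  have htop' : (⟨α, hα⟩ : ↥(F.autGroup R)) ∈ (⊤ : Subgroup ↥(F.autGroup R)) := Subgroup.mem_top _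
  rw [← hfrat] at htop'
  exact (sup_le hNB hK'B) htop'

end Core

end Cfsg.Agent.Lib.Helper26.CenS
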