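import Cfsg.Agent.Lib.Helper26.CenSO

/-!
Towards S5127, part P: `C_S(E)` is strongly closed in `F`.
-/

set_option autoImplicit false

namespace Cfsg.Agent.Lib.Helper26.CenS

open Cfsg Cfsg.FusionSystem Cfsg.Agent.Lib.Helper26 Cfsg.Agent.Lib.Helper27 Cfsg.Agent.Lib.Helper26.OlvN
  Cfsg.Agent.Lib.Helper26.Crav Cfsg.Agent.Lib.Helper26.CenE Cfsg.Agent.Lib.Helper26.PPLeast

variable {Ω : Type*} [Group Ω] {S T : Subgroup Ω}

/-- The automorphisms of `R` in `F` that are trivial modulo `R ∩ T` and induce an element of `Aut_E(R ∩ T)`. -/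
def kSub (F : FusionSystem S) (E : FusionSystem T) (R : Subgroup Ω) : Subgroup ↥(F.autGroup R) where
  carrier := {g | (g : MulAut R) ∈ modSub R (R ⊓ T) ∧
    ∃ α ∈ E.autGroup (R ⊓ T), Restricts inf_le_left (g : MulAut R) α}
  one_mem' := ⟨Subgroup.one_mem _, 1, Subgroup.one_mem _, Restricts.one⟩
  mul_mem' := by
    rintro g h ⟨h1, α, hα, hR1⟩ ⟨h2, β, hβ, hR2⟩
    exact ⟨Subgroup.mul_mem _ h1 h2, α * β, Subgroup.mul_mem _ hα hβ, hR1.mul hR2⟩
  inv_mem' := by
    rintro g ⟨h1, α, hα, hR1⟩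
    exact ⟨Subgroup.inv_mem _ h1, α⁻¹, Subgroup.inv_mem _ hα, hR1.inv⟩

theorem mem_kSub_iff (F : FusionSystem S) (E : FusionSystem T) (R : Subgroup Ω) (g : ↥(F.autGroup R)) :
    g ∈ kSub F E R ↔ (g : MulAut R) ∈ modSub R (R ⊓ T) ∧
      ∃ α ∈ E.autGroup (R ⊓ T), Restricts inf_le_left (g : MulAut R) α := Iff.rfl

theorem kSub_normal [Finite S] (F : FusionSystem S) (E : FusionSystem T) (hE : E.IsInvariantIn F)
    {R : Subgroup Ω} (hRS : R ≤ S) : (kSub F E R).Normal := by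
  obtain ⟨hEF, hT, hinv, hfrat⟩ := hE
  have hSI : StrongInv E F := strongInv_of_invariant hinv hfrat
  have hQT : R ⊓ T ≤ T := inf_le_right
  have hQS : R ⊓ T ≤ S := inf_le_left.trans hRS
  constructor
  rintro k ⟨hkm, α, hα, hkα⟩ ω
  have hωF : equivHom ((ω : MulAut R) : R ≃* R) ∈ F.Hom R := (mem_autGroup_iff F hRS _).mp ω.2
  have hωQ : ∀ y : R, (y : Ω) ∈ R ⊓ T → (((ω : MulAut R) y : R) : Ω) ∈ R ⊓ T :=
    fun y hy => ⟨((ω : MulAut R) y).2, apply_mem_of_stronglyClosed F hT hωF y hy.2⟩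
  obtain ⟨ωQ, hωQF, hωR⟩ := exists_restrict_aut F inf_le_left hRS (ω : MulAut R) ω.2 hωQ
  have hiso : IsFIso F (ωQ : ↥(R ⊓ T) ≃* ↥(R ⊓ T)) := (mem_autGroup_iff_isFIso F hQS ωQ).mp hωQF
  have h1 := congr_mem_autGroup_of_strongInv' hSI hQT hQT hiso hα
  have e : MulAut.congr (ωQ : ↥(R ⊓ T) ≃* ↥(R ⊓ T)) α = ωQ * α * ωQ⁻¹ := by
    ext v
    rfl
  rw [e] at h1
  exact ⟨conj_mem_modSub hkm hωQ, ωQ * α * ωQ⁻¹, h1, (hωR.mul hkα).mul hωR.inv⟩

section Core

variable [Finite S] {p : ℕ} [Fact p.Prime]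

/-- If `T ≰ R` then some element of `N_T(R)` lies outside `R`. -/
theorem exists_mem_normalizer_not_mem (hS : IsPGroup p S) {R : Subgroup Ω} (hRS : R ≤ S) (hTS : T ≤ S)
    (hSN : S ≤ Subgroup.normalizer (T : Set Ω)) (hTR : ¬ T ≤ R) :
    ∃ t : Ω, t ∈ T ∧ t ∈ Subgroup.normalizer (R : Set Ω) ∧ t ∉ R := by
  have hRTS : R ⊔ T ≤ S := sup_le hRS hTS
  have hfin : Finite ↥(R ⊔ T) := finite_of_le hRTS
  have hp : IsPGroup p ↥(R ⊔ T) := hS.to_le hRTS
  have hne : R ≠ R ⊔ T := by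
    intro h
    apply hTR
    rw [h]
    exact le_sup_right
  obtain ⟨g, hgN, hgR⟩ := exists_mem_normalizerIn_not_mem hp (le_sup_left : R ≤ R ⊔ T) hne
  obtain ⟨r, t, h⟩ := exists_mul_of_mem_sup' (hRS.trans hSN) ⟨g, hgN.1⟩
  have hg : g = (r : Ω) * (t : Ω) := congrArg Subtype.val h
  refine ⟨t, t.2, ?_, ?_⟩
  · have e : (t : Ω) = (r : Ω)⁻¹ * g := by rw [hg]; group
    rw [e]
    exact Subgroup.mul_mem _ (Subgroup.inv_mem _ (Subgroup.le_normalizer r.2)) hgN.2
  · intro ht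
    apply hgR
    rw [hg]
    exact R.mul_mem r.2 ht

/-- Every map of `F` preserves `C_S(E)`. -/
theorem hom_subset_closedSystem (hS : IsPGroup p S) (F : FusionSystem S) (hF : F.IsSaturated p)
    (E : FusionSystem T) (hE : E.IsNormalIn F p)
    (hCn : ∀ s : Ω, s ∈ S → ∀ a : Ω, a ∈ cenSub E F p → s * a * s⁻¹ ∈ cenSub E F p) :
    ∀ P : Subgroup Ω, F.Hom P ⊆ (closedSystem F (cenSub E F p) hCn).Hom P := by
  have hEinv : E.IsInvariantIn F := hE.1.2.2
  have hEF : E.IsSubsystemOf F := hEinv.1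
  have hT : F.StronglyClosed T := hEinv.2.1
  have hTS : T ≤ S := hT.1
  have hSN : S ≤ Subgroup.normalizer (T : Set Ω) := le_normalizer_of_stronglyClosed F hT
  apply alperin_strong hS F hF
  intro R hR IH
  have hRS : R ≤ S := by
    rcases hR with rfl | hess
    · exact le_rfl
    · exact hess.1.1
  have hfinR : Finite R := finite_of_le hRS
  by_cases hTR : T ≤ R
  · intro μ hμ
    rw [mem_autGroup_closedSystem_iff F _ hCn hRS]
    refine ⟨hμ, fun x => ⟨fun hx => ?_, fun hx => ?_⟩⟩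
    · exact apply_mem_cenSub_of_le hS F hF E hE hTR ((mem_autGroup_iff F hRS μ).mp hμ) x hx
    · have h1 := apply_mem_cenSub_of_le hS F hF E hE hTR
        ((mem_autGroup_iff F hRS μ⁻¹).mp (Subgroup.inv_mem _ hμ)) (μ x) hx
      have h2 : (R.subtype.comp (μ⁻¹ : MulAut R).toMonoidHom) (μ x) = (x : Ω) := by
        show ((μ⁻¹ (μ x) : R) : Ω) = x
        rw [MulAut.inv_apply_self]
      rw [h2] at h1
      exact h1
  · have hess : F.IsEssential p R := by
      rcases hR with rfl | hess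
      · exact absurd hTS hTR
      · exact hess
    have hRn : F.IsFullyNormalized R := hess.2.1
    -- `R ∩ T` is `E`-centric
    have hKD : KData F E (F.autGroup T) :=
      ⟨hEinv, le_rfl, fun γ hγ => (mem_autGroup_iff F hTS γ).mpr (hEF T ((mem_autGroup_iff E le_rfl γ).mp hγ)),
        autInducedBy_le_autGroup F hTS,
        fun α hα β hβ => Subgroup.mul_mem _ (Subgroup.mul_mem _ hα hβ) (Subgroup.inv_mem _ hα)⟩
    have hQc : E.IsCentric (R ⊓ T) := (hKD.calH_essential hS hF hess).2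
    have hQT : R ⊓ T ≤ T := inf_le_right
    obtain ⟨-, Rs, hRs⟩ := (saturated_fn hS F hF hRn).2
    have hK'n : (kSub F E R).Normal := kSub_normal F E hEinv hRS
    -- `K'` preserves `C_S(E)`
    have hK' : ∀ g : ↥(F.autGroup R), g ∈ kSub F E R →
        (g : MulAut R) ∈ (closedSystem F (cenSub E F p) hCn).autGroup R := by
      obtain ⟨U, hU⟩ := sylowIn_inf_of_normal Rs (kSub F E R)
      have hidx : ¬ p ∣ (U : Subgroup ↥(kSub F E R)).index := Sylow.not_dvd_index U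
      have htop := Cfsg.Agent.Lib.Helper12.sup_pResidual_eq_top (U : Subgroup ↥(kSub F E R)) hidx
      let B' : Subgroup ↥(kSub F E R) :=
        (((closedSystem F (cenSub E F p) hCn).autGroup R).comap (F.autGroup R).subtype).comap (kSub F E R).subtype
      have hUB : (U : Subgroup ↥(kSub F E R)) ≤ B' := by
        intro u hu
        rw [hU, Subgroup.mem_subgroupOf] at hu
        have h1 : ((u : ↥(F.autGroup R))) ∈ (Rs : Subgroup ↥(F.autGroup R)) := hu.1
        rw [hRs, Subgroup.mem_subgroupOf] at h1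
        exact autInducedBy_le_autGroup (closedSystem F (cenSub E F p) hCn) hRS h1
      have hresB : pResidual p ↥(kSub F E R) ≤ B' := by
        unfold pResidual
        rw [Subgroup.closure_le]
        intro k hk
        have hk' : (orderOf k).Coprime p := hk
        show (((k : ↥(F.autGroup R)) : MulAut R)) ∈ (closedSystem F (cenSub E F p) hCn).autGroup R
        rw [mem_autGroup_closedSystem_iff F _ hCn hRS]
        obtain ⟨hkm, α, hα, hkα⟩ := k.2
        have hpow : (((k : ↥(F.autGroup R)) : MulAut R)) ^ orderOf k = 1 := by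
          rw [← Subgroup.coe_pow, ← Subgroup.coe_pow, pow_orderOf_eq_one]
          rfl
        have hfix := fun (x : R) (hx : (x : Ω) ∈ cenSub E F p) =>
          apply_eq_of_pprime hS F hF E hE hRS hQc _ (k : ↥(F.autGroup R)).2 α hα hkα hkm hk' hpow x hx
        refine ⟨(k : ↥(F.autGroup R)).2, fun x => ⟨fun hx => ?_, fun hx => ?_⟩⟩
        · rw [hfix x hx]
          exact hx
        · have h1 := hfix _ hx
          have h2 := (((k : ↥(F.autGroup R)) : MulAut R)).injective h1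
          rw [← h2]
          exact hx
      intro g hg
      have h1 : (⟨g, hg⟩ : ↥(kSub F E R)) ∈ (⊤ : Subgroup ↥(kSub F E R)) := Subgroup.mem_top _
      rw [← htop] at h1
      exact (sup_le hUB hresB) h1
    -- an element of `N_T(R)` outside `R`
    obtain ⟨t, htT, htN, htR⟩ := exists_mem_normalizer_not_mem hS hRS hTS hSN hTR
    have htNS : t ∈ normalizerIn S R := ⟨hTS htT, htN⟩
    have htNQ : t ∈ Subgroup.normalizer ((R ⊓ T : Subgroup Ω) : Set Ω) :=
      (normalizerIn_le_normalizerIn_inf hSN R htNS).2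
    apply autGroup_le_of_normal hS F hF _ hRn IH (kSub F E R) hK'n hK' htNS htR
    intro h
    rw [mem_kSub_iff]
    refine ⟨fun y => ?_, (R ⊓ T).normalizerMonoidHom ⟨t, htNQ⟩,
      autInducedBy_le_autGroup E hQT (normalizerMonoidHom_mem_autInducedBy htT htNQ),
      restricts_conj inf_le_left htN htNQ⟩
    show (y : Ω)⁻¹ * (t * (y : Ω) * t⁻¹) ∈ R ⊓ T
    constructor
    · exact R.mul_mem (R.inv_mem y.2) ((Subgroup.mem_normalizer_iff.mp htN y).mp y.2)
    · have h3 : (y : Ω)⁻¹ * t * ((y : Ω)⁻¹)⁻¹ ∈ T :=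
        (Subgroup.mem_normalizer_iff.mp (hSN (S.inv_mem (hRS y.2))) t).mp htT
      have e : (y : Ω)⁻¹ * (t * (y : Ω) * t⁻¹) = ((y : Ω)⁻¹ * t * ((y : Ω)⁻¹)⁻¹) * t⁻¹ := by group
      rw [e]
      exact T.mul_mem h3 (T.inv_mem htT)

/-- **S5127.** -/
theorem exists_centralizer (hS : IsPGroup p S) (F : FusionSystem S) (hF : F.IsSaturated p)
    (E : FusionSystem T) (hE : E.IsNormalIn F p) :
    ∃ C : Subgroup Ω, C ≤ centralizerIn S T ∧ (∀ P : Subgroup Ω, E.Hom P ⊆ F.centralizerHom C P) ∧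
      (∀ Y : Subgroup Ω, Y ≤ centralizerIn S T → (∀ P : Subgroup Ω, E.Hom P ⊆ F.centralizerHom Y P) → Y ≤ C) ∧
      F.StronglyClosed C := by
  have hEinv : E.IsInvariantIn F := hE.1.2.2
  have hgood := cenSub_good hS F hF E hE
  have hCn : ∀ s : Ω, s ∈ S → ∀ a : Ω, a ∈ cenSub E F p → s * a * s⁻¹ ∈ cenSub E F p :=
    fun s hs a ha => conj_mem_cenSub F E hEinv hs ha
  refine ⟨cenSub E F p, hgood.1, hgood.2, fun Y hY hYE => good_le_cenSub hS F hF E hE ⟨hY, hYE⟩,
    (cenSub_le E F p).trans (centralizerIn_le S T), fun R hRC φ hφ x => ?_⟩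
  have h1 := hom_subset_closedSystem hS F hF E hE hCn R hφ
  exact (h1.2 x).mp (hRC x.2)

end Core

end Cfsg.Agent.Lib.Helper26.CenS
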