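import Cfsg.Agent.Lib.Helper26.PPLeastB
import Cfsg.Agent.Lib.Helper26.FSExtendMod

/-!
Towards S5141 (Craven: the `p'`-residual of a weakly normal subsystem is normal).
Part A: "nice" maps: maps `φ : P → T` (`P ≤ T`) that extend to a map of `F` on `P C_S(T)` acting trivially
on `C_S(T)` modulo `T`.
-/

set_option autoImplicit false

namespace Cfsg.Agent.Lib.Helper26.Crav

open Cfsg Cfsg.FusionSystem Cfsg.Agent.Lib.Helper26 Cfsg.Agent.Lib.Helper27

variable {Ω : Type*} [Group Ω] {S T : Subgroup Ω}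

/-- `ψ` is a nice extension of `φ` to `P C_S(T)`. -/
structure NiceExt (F : FusionSystem S) (T P : Subgroup Ω) (φ : P →* Ω)
    (ψ : ↥(P ⊔ centralizerIn S T) →* Ω) : Prop where
  mem : ψ ∈ F.Hom (P ⊔ centralizerIn S T)
  ext : ∀ x : P, ψ (Subgroup.inclusion le_sup_left x) = φ x
  mod : ∀ c : ↥(P ⊔ centralizerIn S T), (c : Ω) ∈ centralizerIn S T → (c : Ω)⁻¹ * ψ c ∈ T

/-- `φ` has a nice extension. -/
def Nice (F : FusionSystem S) (T P : Subgroup Ω) (φ : P →* Ω) : Prop :=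
  ∃ ψ : ↥(P ⊔ centralizerIn S T) →* Ω, NiceExt F T P φ ψ

theorem mem_centralizerIn_comm {c t : Ω} (hc : c ∈ centralizerIn S T) (ht : t ∈ T) : t * c = c * t :=
  (mem_centralizerIn_iff.mp hc).2 t ht

/-- Elements of `P C_S(T)` are products. -/
theorem exists_mul_of_mem_sup {P : Subgroup Ω} (hPT : P ≤ T) (y : ↥(P ⊔ centralizerIn S T)) :
    ∃ (x : P) (c : ↥(centralizerIn S T)),
      y = Subgroup.inclusion le_sup_left x * Subgroup.inclusion le_sup_right c := by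
  apply exists_mul_of_mem_sup'
  intro x hx
  rw [Subgroup.mem_normalizer_iff]
  intro c
  have e : ∀ c : Ω, c ∈ centralizerIn S T → x * c * x⁻¹ = c := by
    intro c hc
    rw [mem_centralizerIn_comm hc (hPT hx), mul_inv_cancel_right]
  constructor
  · intro hc
    rw [e c hc]
    exact hc
  · intro hc
    have h2 := e _ hc
    have h3 : c = x * c * x⁻¹ := by
      have : x * (x * c * x⁻¹) * x⁻¹ = x * c * x⁻¹ := h2
      have h4 := mul_left_cancel (mul_right_cancel this)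
      exact h4.symm
    rw [h3]
    exact hc

theorem sup_centralizerIn_le {P : Subgroup Ω} (hTS : T ≤ S) (hPT : P ≤ T) : P ⊔ centralizerIn S T ≤ S :=
  sup_le (hPT.trans hTS) (centralizerIn_le S T)

section Image

variable {F : FusionSystem S} {P : Subgroup Ω} {φ : P →* Ω} {ψ : ↥(P ⊔ centralizerIn S T) →* Ω}

theorem NiceExt.apply_mem (h : NiceExt F T P φ ψ) (hT : F.StronglyClosed T) (hPT : P ≤ T) (x : P) :
    φ x ∈ T := by
  rw [← h.ext x]
  exact apply_mem_of_stronglyClosed F hT h.mem _ (hPT x.2)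

/-- The correction term of a nice extension lies in the image of `φ` when that image is self-centralizing. -/
theorem NiceExt.corr_mem (h : NiceExt F T P φ ψ) (hT : F.StronglyClosed T) (hPT : P ≤ T)
    (hcen : centralizerIn T φ.range ≤ φ.range) (c : ↥(P ⊔ centralizerIn S T))
    (hc : (c : Ω) ∈ centralizerIn S T) : (c : Ω)⁻¹ * ψ c ∈ φ.range := by
  apply hcen
  rw [mem_centralizerIn_iff]
  refine ⟨h.mod c hc, ?_⟩
  rintro _ ⟨x, rfl⟩
  have hφT : φ x ∈ T := h.apply_mem hT hPT x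
  have h1 : φ x * (c : Ω) = (c : Ω) * φ x := mem_centralizerIn_comm hc hφT
  have h2 : Subgroup.inclusion le_sup_left x * c = c * Subgroup.inclusion le_sup_left x := by
    apply Subtype.ext
    exact mem_centralizerIn_comm hc (hPT x.2)
  have h3 : φ x * ψ c = ψ c * φ x := by
    rw [← h.ext x, ← map_mul, ← map_mul, h2]
  have h1' : φ x * (c : Ω)⁻¹ = (c : Ω)⁻¹ * φ x := by
    rw [eq_inv_mul_iff_mul_eq, ← mul_assoc, ← h1, mul_inv_cancel_right]
  calc φ x * ((c : Ω)⁻¹ * ψ c) = (φ x * (c : Ω)⁻¹) * ψ c := by group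
    _ = ((c : Ω)⁻¹ * φ x) * ψ c := by rw [h1']
    _ = (c : Ω)⁻¹ * (φ x * ψ c) := by group
    _ = (c : Ω)⁻¹ * (ψ c * φ x) := by rw [h3]
    _ = (c : Ω)⁻¹ * ψ c * φ x := by group

/-- A nice extension maps `P C_S(T)` into `φ(P) C_S(T)`. -/
theorem NiceExt.apply_mem_sup (h : NiceExt F T P φ ψ) (hT : F.StronglyClosed T) (hPT : P ≤ T)
    (hcen : centralizerIn T φ.range ≤ φ.range) (y : ↥(P ⊔ centralizerIn S T)) :
    ψ y ∈ φ.range ⊔ centralizerIn S T := by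
  obtain ⟨x, c, rfl⟩ := exists_mul_of_mem_sup hPT y
  rw [map_mul, h.ext]
  apply Subgroup.mul_mem
  · exact Subgroup.mem_sup_left ⟨x, rfl⟩
  · have h1 := h.corr_mem hT hPT hcen (Subgroup.inclusion le_sup_right c) c.2
    have h2 : ψ (Subgroup.inclusion le_sup_right c) =
        (c : Ω) * ((c : Ω)⁻¹ * ψ (Subgroup.inclusion le_sup_right c)) := by group
    rw [h2]
    exact Subgroup.mul_mem _ (Subgroup.mem_sup_right c.2) (Subgroup.mem_sup_left h1)

/-- The image of a nice extension is `φ(P) C_S(T)`. -/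
theorem NiceExt.range_eq (h : NiceExt F T P φ ψ) (hT : F.StronglyClosed T) (hPT : P ≤ T)
    (hcen : centralizerIn T φ.range ≤ φ.range) : ψ.range = φ.range ⊔ centralizerIn S T := by
  apply le_antisymm
  · rintro _ ⟨y, rfl⟩
    exact h.apply_mem_sup hT hPT hcen y
  · apply sup_le
    · rintro _ ⟨x, rfl⟩
      exact ⟨_, h.ext x⟩
    · intro c hc
      obtain ⟨x, hx⟩ := h.corr_mem hT hPT hcen ⟨c, Subgroup.mem_sup_right hc⟩ hc
      refine ⟨⟨c, Subgroup.mem_sup_right hc⟩ * (Subgroup.inclusion le_sup_left x)⁻¹, ?_⟩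
      rw [map_mul, map_inv, h.ext, hx]
      group

end Image

/-- Conjugation by an element of `T` is nice. -/
theorem nice_conjHom (F : FusionSystem S) (hTS : T ≤ S) {P : Subgroup Ω} (hPT : P ≤ T) {t : Ω} (ht : t ∈ T) :
    Nice F T P (conjHom P t) := by
  refine ⟨conjHom _ t, F.conj_mem (sup_centralizerIn_le hTS hPT) (hTS ht), fun x => rfl, fun c hc => ?_⟩
  rw [conjHom_apply, mem_centralizerIn_comm hc ht]
  have : (c : Ω)⁻¹ * ((c : Ω) * t * t⁻¹) = 1 := by group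
  rw [this]
  exact T.one_mem

/-- Restriction of a nice map is nice. -/
theorem Nice.restrict {F : FusionSystem S} {P R : Subgroup Ω} {φ : P →* Ω} (h : Nice F T P φ) (hRP : R ≤ P) :
    Nice F T R (φ.comp (Subgroup.inclusion hRP)) := by
  obtain ⟨ψ, hψ⟩ := h
  have hle : R ⊔ centralizerIn S T ≤ P ⊔ centralizerIn S T := sup_le_sup_right hRP _
  refine ⟨ψ.comp (Subgroup.inclusion hle), inclusion_comp_mem F hle hψ.mem, fun x => ?_, fun c hc => ?_⟩
  · exact hψ.ext (Subgroup.inclusion hRP x)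
  · exact hψ.mod (Subgroup.inclusion hle c) hc

theorem Nice.congr {F : FusionSystem S} {P : Subgroup Ω} {φ φ' : P →* Ω} (h : Nice F T P φ)
    (heq : ∀ x, φ' x = φ x) : Nice F T P φ' := by
  have : φ' = φ := by ext x; exact heq x
  rw [this]
  exact h

/-- Composition of nice maps is nice. -/
theorem Nice.comp {F : FusionSystem S} (hT : F.StronglyClosed T) {P P' : Subgroup Ω} {φ : P →* Ω} {φ' : P' →* Ω}
    (h : Nice F T P φ) (h' : Nice F T P' φ') (hPT : P ≤ T) (hP'T : P' ≤ T)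
    (hcen : centralizerIn T φ.range ≤ φ.range) (hφ : ∀ x, φ x ∈ P') :
    Nice F T P (φ'.comp (φ.codRestrict P' hφ)) := by
  obtain ⟨ψ, hψ⟩ := h
  obtain ⟨ψ', hψ'⟩ := h'
  have hrange : φ.range ≤ P' := by
    rintro _ ⟨x, rfl⟩
    exact hφ x
  have hψP' : ∀ y, ψ y ∈ P' ⊔ centralizerIn S T :=
    fun y => (sup_le_sup_right hrange _) (hψ.apply_mem_sup hT hPT hcen y)
  refine ⟨ψ'.comp (ψ.codRestrict _ hψP'), F.comp_mem hψ.mem hψ'.mem hψP', fun x => ?_, fun c hc => ?_⟩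
  · show ψ' ⟨ψ (Subgroup.inclusion le_sup_left x), _⟩ = φ' ⟨φ x, _⟩
    rw [← hψ'.ext ⟨φ x, hφ x⟩]
    congr 1
    apply Subtype.ext
    exact hψ.ext x
  · obtain ⟨x, hx⟩ := hψ.corr_mem hT hPT hcen c hc
    have hψc : ψ c = (c : Ω) * φ x := by rw [hx]; group
    have e1 : (⟨ψ c, hψP' c⟩ : ↥(P' ⊔ centralizerIn S T)) =
        ⟨(c : Ω), Subgroup.mem_sup_right hc⟩ * Subgroup.inclusion le_sup_left ⟨φ x, hφ x⟩ :=
      Subtype.ext hψc
    show (c : Ω)⁻¹ * ψ' ⟨ψ c, _⟩ ∈ T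
    rw [e1, map_mul, hψ'.ext]
    have h1 := hψ'.mod ⟨(c : Ω), Subgroup.mem_sup_right hc⟩ hc
    have h2 : φ' ⟨φ x, hφ x⟩ ∈ T := hψ'.apply_mem hT hP'T _
    have e2 : (c : Ω)⁻¹ * (ψ' ⟨(c : Ω), Subgroup.mem_sup_right hc⟩ * φ' ⟨φ x, hφ x⟩) =
        ((c : Ω)⁻¹ * ψ' ⟨(c : Ω), Subgroup.mem_sup_right hc⟩) * φ' ⟨φ x, hφ x⟩ := by group
    rw [e2]
    exact T.mul_mem h1 h2

/-- The inverse of a nice map is nice. -/
theorem Nice.inv {F : FusionSystem S} (hT : F.StronglyClosed T) {P : Subgroup Ω} {φ : P →* Ω}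
    (h : Nice F T P φ) (hPT : P ≤ T) (hcen : centralizerIn T φ.range ≤ φ.range)
    {ι : φ.range →* Ω} (hι : ∀ x : P, ι ⟨φ x, ⟨x, rfl⟩⟩ = x) : Nice F T φ.range ι := by
  obtain ⟨ψ, hψ⟩ := h
  obtain ⟨ι', hι', hι'x⟩ := F.inv_mem hψ.mem
  have hr := hψ.range_eq hT hPT hcen
  have h1 := hom_congr F hr hι'
  refine ⟨_, h1, fun w => ?_, fun c hc => ?_⟩
  · obtain ⟨w, x, rfl⟩ := w
    rw [hι x]
    have e1 : (Subgroup.inclusion hr.ge (Subgroup.inclusion le_sup_left (⟨φ x, ⟨x, rfl⟩⟩ : φ.range)) : ψ.range) =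
        ⟨ψ (Subgroup.inclusion le_sup_left x), ⟨_, rfl⟩⟩ := Subtype.ext (hψ.ext x).symm
    show ι' (Subgroup.inclusion hr.ge _) = _
    rw [e1, hι'x]
    rfl
  · obtain ⟨x, hx⟩ := hψ.corr_mem hT hPT hcen ⟨c, Subgroup.mem_sup_right hc⟩ hc
    have hc' : (c : Ω) = ψ (⟨(c : Ω), Subgroup.mem_sup_right hc⟩ * (Subgroup.inclusion le_sup_left x)⁻¹) := by
      rw [map_mul, map_inv, hψ.ext, hx]
      group
    have e1 : (Subgroup.inclusion hr.ge c : ψ.range) =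
        ⟨ψ (⟨(c : Ω), Subgroup.mem_sup_right hc⟩ * (Subgroup.inclusion le_sup_left x)⁻¹), ⟨_, rfl⟩⟩ :=
      Subtype.ext hc'
    show (c : Ω)⁻¹ * ι' (Subgroup.inclusion hr.ge c) ∈ T
    rw [e1, hι'x]
    have e2 : (c : Ω)⁻¹ * ((⟨(c : Ω), Subgroup.mem_sup_right hc⟩ * (Subgroup.inclusion le_sup_left x)⁻¹ :
        ↥(P ⊔ centralizerIn S T)) : Ω) = ((x : Ω))⁻¹ := by
      show (c : Ω)⁻¹ * ((c : Ω) * ((x : Ω))⁻¹) = _
      group
    rw [e2]
    exact T.inv_mem (hPT x.2)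

end Cfsg.Agent.Lib.Helper26.Crav
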