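import Cfsg.Agent.Lib.Helper26.CravA
import Cfsg.Agent.S5114

/-!
Towards S5141, part B: the system of nice maps, and an abstract existence lemma for saturated subsystems of index
prime to `p` inside a given family of maps closed under "going up".
-/

set_option autoImplicit false

namespace Cfsg.Agent.Lib.Helper26.Crav

open Cfsg Cfsg.FusionSystem Cfsg.Agent.Lib.Helper26 Cfsg.Agent.Lib.Helper27 Cfsg.Agent.Lib.Helper26.PPLeast

variable {Ω : Type*} [Group Ω] {S T : Subgroup Ω}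

/-- The maps of `E` that are nice whenever their source is `E`-centric. -/
def niceSystem (E : FusionSystem T) (F : FusionSystem S) (hT : F.StronglyClosed T) : FusionSystem T where
  Hom P := {φ | φ ∈ E.Hom P ∧ (E.IsCentric P → Nice F T P φ)}
  le_of_mem h := E.le_of_mem h.1
  injective_of_mem h := E.injective_of_mem h.1
  conj_mem hP hg := ⟨E.conj_mem hP hg, fun _ => nice_conjHom F hT.1 hP hg⟩
  comp_mem := by
    rintro P Q φ ψ ⟨hφ, hφn⟩ ⟨hψ, hψn⟩ h
    refine ⟨E.comp_mem hφ hψ h, fun hPc => ?_⟩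
    have hcen : centralizerIn T φ.range ≤ φ.range := hPc.2 _ ⟨φ, hφ, rfl⟩
    have hQT := hom_le E hψ
    have hrQ : φ.range ≤ Q := by
      rintro _ ⟨x, rfl⟩
      exact h x
    have hQc : E.IsCentric Q := isCentric_of_le E (isCentric_of_isConj E hPc ⟨φ, hφ, rfl⟩) hrQ hQT
    exact (hφn hPc).comp hT (hψn hQc) hPc.1 hQT hcen h
  inv_mem := by
    rintro P φ ⟨hφ, hφn⟩
    obtain ⟨ι, hι, hιx⟩ := E.inv_mem hφ
    refine ⟨ι, ⟨hι, fun hrc => ?_⟩, hιx⟩
    have hPc : E.IsCentric P := isCentric_of_isConj E hrc (isConj_symm E ⟨φ, hφ, rfl⟩)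
    exact (hφn hPc).inv hT hPc.1 (hPc.2 _ ⟨φ, hφ, rfl⟩) hιx

theorem mem_niceSystem_iff (E : FusionSystem T) (F : FusionSystem S) (hT : F.StronglyClosed T) (P : Subgroup Ω)
    (φ : P →* Ω) : φ ∈ (niceSystem E F hT).Hom P ↔ (φ ∈ E.Hom P ∧ (E.IsCentric P → Nice F T P φ)) := Iff.rfl

section SatGen

variable [Finite T] {p : ℕ} [Fact p.Prime]

/-- **Abstract existence lemma.** Let `E` be saturated over the `p`-group `T` and let `N` be a subsystem of `E`
containing all `p`-elements of `Aut_E(P)` for `E`-centric `P`, and such that an element of `Aut_E(T)` whose restriction to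
some `E`-centric subgroup lies in `N` lies in `N`. Then `N` contains a saturated subsystem of `E` of index prime to `p`. -/
theorem exists_saturated_le (hT : IsPGroup p T) (E N : FusionSystem T) (hEsat : E.IsSaturated p)
    (hNE : ∀ P, N.Hom P ⊆ E.Hom P)
    (hpgN : ∀ P : Subgroup Ω, E.IsCentric P →
      (Subgroup.closure {α : ↥(E.autGroup P) | ∃ k : ℕ, orderOf α = p ^ k}).map (E.autGroup P).subtype ≤
        N.autGroup P)
    (hup : ∀ α ∈ E.autGroup T, ∀ (R : Subgroup Ω) (hR : E.IsCentric R), resAut α R hR.1 ∈ N.Hom R →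
      α ∈ N.autGroup T) :
    ∃ X : FusionSystem T, X.IsSaturated p ∧ X.HasPrimeToPIndexIn E p ∧ ∀ P, X.Hom P ⊆ N.Hom P := by
  obtain ⟨Y, hYdef⟩ : ∃ Y : ∀ P : Subgroup Ω, Set (P →* Ω), Y = fun P =>
      {φ | E.IsCentric P ∧ φ ∈ N.Hom P} := ⟨_, rfl⟩
  have hYmem : ∀ (P : Subgroup Ω) (φ : P →* Ω), φ ∈ Y P ↔ (E.IsCentric P ∧ φ ∈ N.Hom P) := by
    intro P φ
    rw [hYdef]
    rfl
  have hYE : ∀ P, Y P ⊆ E.Hom P := fun P φ hφ => hNE P ((hYmem P φ).mp hφ).2
  have hYN : ∀ P, Y P ⊆ N.Hom P := fun P φ hφ => ((hYmem P φ).mp hφ).2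
  obtain ⟨X, hX⟩ : ∃ X : FusionSystem T, X = genSystem E Y := ⟨_, rfl⟩
  have hXE : X.IsSubsystemOf E := fun P φ hφ => by rw [hX] at hφ; exact hφ.1
  have hXN : ∀ P, X.Hom P ⊆ N.Hom P := fun P => by rw [hX]; exact genSystem_le hYN P
  have hYX : ∀ P, Y P ⊆ X.Hom P := fun P => by rw [hX]; exact subset_genSystem hYE P
  have hpg : ∀ P : Subgroup Ω, E.IsCentric P →
      (Subgroup.closure {α : ↥(E.autGroup P) | ∃ k : ℕ, orderOf α = p ^ k}).map (E.autGroup P).subtype ≤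
        X.autGroup P := by
    intro P hPc ξ hξ
    have h1 : ξ ∈ N.autGroup P := hpgN P hPc hξ
    rw [mem_autGroup_iff X hPc.1]
    apply hYX
    rw [hYmem]
    exact ⟨hPc, (mem_autGroup_iff N hPc.1 ξ).mp h1⟩
  obtain ⟨hXi, hfrat, hcenX⟩ := Cfsg.Agent.S5114.result p hT E hEsat X hXE hpg
  -- going up
  have hA : ∀ {M R : Subgroup Ω} (hRM : R ≤ M), E.IsCentric R → ∀ {ψ : M →* Ω}, ψ ∈ E.Hom M →
      ψ.comp (Subgroup.inclusion hRM) ∈ N.Hom R → ψ ∈ N.Hom M := by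
    intro M R hRM hRc ψ hψ hres
    obtain ⟨α, hα, φ₀, hφ₀, hψα⟩ := hfrat M ψ hψ
    have hφ₀N : φ₀ ∈ N.Hom M := hXN M hφ₀
    have hφ₀T : ∀ x, φ₀ x ∈ T := hom_apply_mem N hφ₀N
    obtain ⟨φR, hφR⟩ : ∃ φR : R →* Ω, φR = φ₀.comp (Subgroup.inclusion hRM) := ⟨_, rfl⟩
    have hφRx : ∀ x : R, φR x = φ₀ (Subgroup.inclusion hRM x) := fun x => by rw [hφR]; rfl
    have hφRN : φR ∈ N.Hom R := hφR ▸ inclusion_comp_mem N hRM hφ₀N
    have hφRE : φR ∈ E.Hom R := hNE R hφRN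
    have hR'c : E.IsCentric φR.range := isCentric_of_isConj E hRc ⟨φR, hφRE, rfl⟩
    obtain ⟨ι, hι, hιx⟩ := N.inv_mem hφRN
    have hιR : ∀ z, ι z ∈ R := by
      rintro ⟨_, x, rfl⟩
      rw [hιx]
      exact x.2
    have e : resAut α φR.range hR'c.1 =
        (ψ.comp (Subgroup.inclusion hRM)).comp (ι.codRestrict R hιR) := by
      ext ⟨_, x, rfl⟩
      have h1 : ι.codRestrict R hιR ⟨φR x, ⟨x, rfl⟩⟩ = x := Subtype.ext (hιx x)
      show ((α ⟨φR x, _⟩ : T) : Ω) = ψ (Subgroup.inclusion hRM (ι.codRestrict R hιR ⟨φR x, ⟨x, rfl⟩⟩))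
      rw [h1, hψα _ (hφ₀T _)]
      congr 2
      apply Subtype.ext
      exact hφRx x
    have hαres : resAut α φR.range hR'c.1 ∈ N.Hom φR.range := by
      rw [e]
      exact N.comp_mem hι hres hιR
    have hαN := hup α hα φR.range hR'c hαres
    have e2 : ψ = (T.subtype.comp α.toMonoidHom).comp (φ₀.codRestrict T hφ₀T) := by
      ext x
      exact hψα x (hφ₀T x)
    rw [e2]
    exact N.comp_mem hφ₀N ((mem_autGroup_iff N le_rfl α).mp hαN) hφ₀T
  have hXsat : X.IsSaturated p := by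
    apply saturated_of_criterion hT X {P | E.IsCentric P}
    · intro P hP Q hPQ
      obtain ⟨φ, hφ, hr⟩ := hPQ
      exact isCentric_of_isConj E hP ⟨φ, hXE P hφ, hr⟩
    · intro P hPc
      have hPc' : E.IsCentric P := hPc
      have hPT : P ≤ T := hPc'.1
      obtain ⟨Q', hPQ', hQ'n⟩ := exists_fullyNormalized_conj E hPT
      obtain ⟨φ, hφ, hφr⟩ := hPQ'
      obtain ⟨α, hα, φ₀, hφ₀, hφα⟩ := hfrat P φ hφ
      have hφ₀E : φ₀ ∈ E.Hom P := hXE P hφ₀
      have hφ₀T : ∀ x, φ₀ x ∈ T := hom_apply_mem E hφ₀E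
      obtain ⟨Q, hQ⟩ : ∃ Q, Q = φ₀.range := ⟨_, rfl⟩
      have hPQX : X.IsConj P Q := ⟨φ₀, hφ₀, hQ.symm⟩
      have hPQE : E.IsConj P Q := ⟨φ₀, hφ₀E, hQ.symm⟩
      have hPQ'E : E.IsConj P Q' := ⟨φ, hφ, hφr⟩
      have hQT : Q ≤ T := isConj_le_right E hPQE
      have hQc : E.IsCentric Q := isCentric_of_isConj E hPc' hPQE
      have hiff : ∀ y : T, (y : Ω) ∈ Q' ↔ ((α⁻¹ y : T) : Ω) ∈ Q := by
        intro y
        rw [← hφr, hQ]
        constructor
        · rintro ⟨x, hx⟩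
          refine ⟨x, ?_⟩
          have h1 := hφα x (hφ₀T x)
          rw [hx] at h1
          have h2 : y = α ⟨φ₀ x, hφ₀T x⟩ := Subtype.ext h1
          rw [h2, MulAut.inv_apply_self]
        · rintro ⟨x, hx⟩
          refine ⟨x, ?_⟩
          rw [hφα x (hφ₀T x)]
          have h2 : (⟨φ₀ x, hφ₀T x⟩ : T) = α⁻¹ y := Subtype.ext hx
          rw [h2, MulAut.apply_inv_self]
      have hcard : Nat.card (normalizerIn T Q') ≤ Nat.card (normalizerIn T Q) :=
        card_normalizerIn_le_of_aut α⁻¹ hQT hiff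
      have hQn : E.IsFullyNormalized Q :=
        ⟨hQT, fun Q'' hQQ'' => (hQ'n.2 Q'' (isConj_trans E (isConj_trans E (isConj_symm E hPQ'E) hPQE)
          hQQ'')).trans hcard⟩
      have hQA := (saturated_fn hT E hEsat hQn).2
      have hQR := saturated_fn_receptive hT E hEsat hQn
      refine ⟨Q, hPQX, fullyAutomized_of_subsystem hT X E hXE hQA, hQT, fun R ψ hψ hψr => ?_⟩
      have hψE : ψ ∈ E.Hom R := hXE R hψ
      obtain ⟨ψ₀, hψ₀, hext⟩ := hQR.2 R ψ hψE hψr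
      have hRT : R ≤ T := hom_le E hψE
      have hRc : E.IsCentric R := isCentric_of_isConj E hQc (isConj_symm E ⟨ψ, hψE, hψr⟩)
      have hRN : R ≤ extender T R ψ := le_extender hRT ψ (hom_apply_mem E hψE)
      have hNT : extender T R ψ ≤ T := (extender_le T R ψ).trans (normalizerIn_le T R)
      have hNc : E.IsCentric (extender T R ψ) := isCentric_of_le E hRc hRN hNT
      have hres : ψ₀.comp (Subgroup.inclusion hRN) = ψ := by
        ext x
        exact hext x x.2 (hRN x.2)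
      refine ⟨ψ₀, ?_, hext⟩
      apply hYX
      rw [hYmem]
      refine ⟨hNc, hA hRN hRc hψ₀ ?_⟩
      rw [hres]
      exact hXN R hψ
    · intro E' hE' P φ hφ
      rw [hX] at hφ
      apply hφ.2 E'
      intro Q ψ hψ
      exact hE' Q ((hYmem Q ψ).mp hψ).1 (hYX Q hψ)
    · intro P hPX hPn
      exact absurd ((hcenX P).mp hPX) hPn
  exact ⟨X, hXsat, hXi, hXN⟩

end SatGen

end Cfsg.Agent.Lib.Helper26.Crav
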