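import Cfsg.Agent.Lib.Helper26.CravB

/-!
Towards S5141, part C: `p`-elements of `Aut_E(R)`, `R` an `E`-centric subgroup, are nice.
-/

set_option autoImplicit false

namespace Cfsg.Agent.Lib.Helper26.Crav

open Cfsg Cfsg.FusionSystem Cfsg.Agent.Lib.Helper26 Cfsg.Agent.Lib.Helper27 Cfsg.Agent.Lib.Helper26.PPLeast

variable {Ω : Type*} [Group Ω] {S T : Subgroup Ω}

/-- Transport of automorphisms of a strongly invariant subsystem along isomorphisms of `F`. -/
theorem congr_mem_autGroup_of_strongInv' {E : FusionSystem T} {F : FusionSystem S} (hSI : StrongInv E F)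
    {Q P : Subgroup Ω} (hQT : Q ≤ T) (hPT : P ≤ T)
    {e : Q ≃* P} (he : IsFIso F e) {ζ : MulAut Q} (hζ : ζ ∈ E.autGroup Q) :
    MulAut.congr e ζ ∈ E.autGroup P := by
  have hφ : equivHom (ζ : Q ≃* Q) ∈ E.Hom Q := (mem_autGroup_iff E hQT ζ).mp hζ
  have hφQ : ∀ x : Q, equivHom (ζ : Q ≃* Q) x ∈ Q := fun x => (ζ x).2
  obtain ⟨χ, hχ, hχ'⟩ := hSI Q Q le_rfl hQT _ hφ hφQ _ he
  have heq : (Q.subgroupOf Q).map (equivHom e) = P := by
    rw [Subgroup.subgroupOf_self, ← MonoidHom.range_eq_map, equivHom_range]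
  have h1 := hom_congr E heq hχ
  rw [mem_autGroup_iff E hPT]
  have h2 : P.subtype.comp (MulAut.congr e ζ).toMonoidHom = χ.comp (Subgroup.inclusion heq.ge) := by
    ext y
    obtain ⟨x, rfl⟩ : ∃ x : Q, e x = y := ⟨e.symm y, by simp⟩
    have h3 := hχ' x ((Subgroup.inclusion heq.ge (e x)).2)
    show ((e (ζ (e.symm (e x))) : P) : Ω) = χ (Subgroup.inclusion heq.ge (e x))
    rw [MulEquiv.symm_apply_apply]
    exact h3.symm
  rw [h2]
  exact h1

section

variable [Finite S] {p : ℕ} [Fact p.Prime]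

/-- A subgroup of the strongly closed `T` that is fully normalized in `F` is fully normalized in every subsystem of
`F` over `T`. -/
theorem fullyNormalized_of_subsystem (hS : IsPGroup p S) (F : FusionSystem S) (hF : F.IsSaturated p)
    (E : FusionSystem T) (hEF : E.IsSubsystemOf F) (hT : F.StronglyClosed T) {R : Subgroup Ω} (hRT : R ≤ T)
    (hR : F.IsFullyNormalized R) : E.IsFullyNormalized R := by
  refine ⟨hRT, fun Q hRQ => ?_⟩
  obtain ⟨φ, hφ, hφr⟩ := hRQ
  have hRQF : F.IsConj R Q := ⟨φ, hEF R hφ, hφr⟩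
  have hFA := (saturated_fn hS F hF hR).2
  have hFR := saturated_fn_receptive hS F hF hR
  obtain ⟨χ, hχ, hχN, hχmap⟩ := exists_normalizer_hom hS F hFA hFR (isConj_symm F hRQF)
  have hle : normalizerIn T Q ≤ normalizerIn S Q := fun x hx => ⟨hT.1 hx.1, hx.2⟩
  have hfin : Finite (normalizerIn T R) := finite_of_le ((normalizerIn_le T R).trans hT.1)
  let f : normalizerIn T Q → normalizerIn T R := fun x =>
    ⟨χ (Subgroup.inclusion hle x), apply_mem_of_stronglyClosed F hT hχ _ x.2.1, (hχN _).2⟩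
  apply Nat.card_le_card_of_injective f
  intro a b hab
  have h1 : χ (Subgroup.inclusion hle a) = χ (Subgroup.inclusion hle b) := congrArg Subtype.val hab
  have h2 := F.injective_of_mem hχ h1
  exact Subtype.ext (congrArg (fun z : ↥(normalizerIn S Q) => (z : Ω)) h2)

/-- **Step A.** For a weakly normal subsystem `E` of `F` and an `E`-centric subgroup `R`, every `p`-element of
`Aut_E(R)` is nice. -/
theorem nice_of_pElement (hS : IsPGroup p S) (F : FusionSystem S) (hF : F.IsSaturated p) (E : FusionSystem T)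
    (hEsat : E.IsSaturated p) (hE : E.IsInvariantIn F) {R : Subgroup Ω} (hRc : E.IsCentric R)
    (γ : MulAut R) (hγ : γ ∈ E.autGroup R) (k : ℕ) (hk : orderOf γ = p ^ k) :
    Nice F T R (R.subtype.comp γ.toMonoidHom) := by
  have hE' := hE
  obtain ⟨hEF, hT, hinv, hfrat⟩ := hE
  have hSI : StrongInv E F := strongInv_of_invariant hinv hfrat
  have hTS : T ≤ S := hT.1
  have hRT : R ≤ T := hRc.1
  have hRS : R ≤ S := hRT.trans hTS
  have hTp : IsPGroup p T := hS.to_le hTS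
  have : Finite T := finite_of_le hTS
  obtain ⟨R', hRR', hR'n⟩ := exists_fullyNormalized_conj F hRS
  obtain ⟨e₀, he₀⟩ := (isConj_iff_exists_isFIso F).mp hRR'
  have hR'T : R' ≤ T := by
    intro y hy
    have h1 := hT.2 R hRT _ he₀ (e₀.symm ⟨y, hy⟩)
    have h2 : equivHom e₀ (e₀.symm ⟨y, hy⟩) = y := by
      show ((e₀ (e₀.symm ⟨y, hy⟩) : R') : Ω) = y
      rw [MulEquiv.apply_symm_apply]
    rwa [h2] at h1
  have hR'S : R' ≤ S := hR'T.trans hTS
  have hR'En : E.IsFullyNormalized R' := fullyNormalized_of_subsystem hS F hF E hEF hT hR'T hR'n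
  have hR'EA := (saturated_fn hTp E hEsat hR'En).2
  have hγ' : MulAut.congr e₀ γ ∈ E.autGroup R' := congr_mem_autGroup_of_strongInv' hSI hRT hR'T he₀ hγ
  have hZp : IsPGroup p (Subgroup.zpowers (MulAut.congr e₀ γ)) := by
    apply IsPGroup.of_card (n := k)
    rw [Nat.card_zpowers, MulEquiv.orderOf_eq, hk]
  obtain ⟨χ, hχ, hχB⟩ := exists_conj_mem_autInducedBy E hR'EA (Subgroup.zpowers (MulAut.congr e₀ γ))
    (Subgroup.zpowers_le.mpr hγ') hZp
  have h1 := hχB _ (Subgroup.mem_zpowers _)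
  obtain ⟨t, ht, htα⟩ := (mem_autInducedBy_iff T R' _).mp h1
  have hχF : IsFIso F (χ : R' ≃* R') := by
    rw [← mem_autGroup_iff_isFIso F hR'S]
    rw [mem_autGroup_iff F hR'S]
    exact hEF R' ((mem_autGroup_iff E hR'T χ).mp hχ)
  obtain ⟨e, hedef⟩ : ∃ e : R ≃* R', e = e₀.trans (χ : R' ≃* R') := ⟨_, rfl⟩
  have he : IsFIso F e := hedef ▸ he₀.trans hχF
  have hconj : ∀ x : R, ((e (γ x) : R') : Ω) = t * (e x : Ω) * t⁻¹ := by
    intro x
    have h2 := htα (e x)
    rw [← h2, hedef]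
    simp [MulAut.congr, MulAut.mul_apply]
  have htN : ∀ y ∈ R', t * y * t⁻¹ ∈ R' := by
    intro y hy
    have h2 := htα ⟨y, hy⟩
    rw [← h2]
    exact Subtype.coe_prop _
  have htN' : ∀ y ∈ R', t⁻¹ * y * t ∈ R' := by
    intro y hy
    have hfin : Finite R' := finite_of_le hR'S
    have := mem_normalizer_of_conj_mem_finite htN
    have h3 := (Subgroup.mem_normalizer_iff.mp (Subgroup.inv_mem _ this) y).mp hy
    simpa using h3
  have hR'c : E.IsCentric R' := by
    rw [isCentric_iff_of_invariant hE']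
    refine ⟨hR'T, fun Q hQ => ?_⟩
    exact ((isCentric_iff_of_invariant hE' R).mp hRc).2 Q (isConj_trans F hRR' hQ)
  have hcenR' : centralizerIn T R' ≤ R' := hR'c.2 R' (isConj_refl E hR'T)
  -- the extension of `e`
  have hR'R := saturated_fn_receptive hS F hF hR'n
  obtain ⟨ρ', hρ', hρ'x⟩ := hR'R.2 R (equivHom e) he (equivHom_range e)
  have hCle : centralizerIn S T ≤ centralizerIn S R := by
    intro c hc
    rw [mem_centralizerIn_iff] at hc ⊢
    exact ⟨hc.1, fun r hr => hc.2 r (hRT hr)⟩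
  have hle : R ⊔ centralizerIn S T ≤ extender S R (equivHom e) :=
    sup_le (le_extender hRS _ (fun x => hR'S (e x).2)) (hCle.trans (centralizerIn_le_extender R _))
  obtain ⟨ρ, hρdef⟩ : ∃ ρ : ↥(R ⊔ centralizerIn S T) →* Ω, ρ = ρ'.comp (Subgroup.inclusion hle) := ⟨_, rfl⟩
  have hρ : ρ ∈ F.Hom (R ⊔ centralizerIn S T) := hρdef ▸ inclusion_comp_mem F hle hρ'
  have hρx : ∀ x : R, ρ (Subgroup.inclusion le_sup_left x) = (e x : Ω) := by
    intro x
    rw [hρdef]
    exact hρ'x x x.2 (hle (Subgroup.mem_sup_left x.2))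
  have hρS : ∀ y, ρ y ∈ S := hom_apply_mem F hρ
  -- conjugation by `t` preserves the image of `ρ`
  have hnormT := le_normalizer_of_stronglyClosed F hT
  have hcorr : ∀ c : ↥(R ⊔ centralizerIn S T), (c : Ω) ∈ centralizerIn S T →
      ∃ xz : R, t * ρ c * t⁻¹ = ρ (c * Subgroup.inclusion le_sup_left xz) := by
    intro c hc
    obtain ⟨d, hd⟩ : ∃ d, d = ρ c := ⟨_, rfl⟩
    have hdS : d ∈ S := hd ▸ hρS c
    have hdcomm : ∀ y ∈ R', y * d = d * y := by
      intro y hy
      have h3 : Subgroup.inclusion le_sup_left (e.symm ⟨y, hy⟩) * c =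
          c * Subgroup.inclusion le_sup_left (e.symm ⟨y, hy⟩) := by
        apply Subtype.ext
        exact mem_centralizerIn_comm hc (hRT (e.symm ⟨y, hy⟩).2)
      have h4 := congrArg ρ h3
      rw [map_mul, map_mul, hρx, MulEquiv.apply_symm_apply] at h4
      rw [hd]
      exact h4
    have hz : d⁻¹ * (t * d * t⁻¹) ∈ centralizerIn T R' := by
      rw [mem_centralizerIn_iff]
      constructor
      · have h3 : d⁻¹ * t * d⁻¹⁻¹ ∈ T :=
          (Subgroup.mem_normalizer_iff.mp (hnormT (S.inv_mem hdS)) t).mp ht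
        have h4 : d⁻¹ * (t * d * t⁻¹) = (d⁻¹ * t * d⁻¹⁻¹) * t⁻¹ := by group
        rw [h4]
        exact T.mul_mem h3 (T.inv_mem ht)
      · intro y hy
        have h3 := hdcomm y hy
        have h4 := hdcomm _ (htN' y hy)
        have h3' : y * d⁻¹ = d⁻¹ * y := by
          rw [eq_inv_mul_iff_mul_eq, ← mul_assoc, ← h3, mul_inv_cancel_right]
        calc y * (d⁻¹ * (t * d * t⁻¹)) = (y * d⁻¹) * (t * d * t⁻¹) := by group
          _ = (d⁻¹ * y) * (t * d * t⁻¹) := by rw [h3']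
          _ = d⁻¹ * t * ((t⁻¹ * y * t) * d) * t⁻¹ := by group
          _ = d⁻¹ * t * (d * (t⁻¹ * y * t)) * t⁻¹ := by rw [h4]
          _ = d⁻¹ * (t * d * t⁻¹) * y := by group
    obtain hz' := hcenR' hz
    refine ⟨e.symm ⟨_, hz'⟩, ?_⟩
    rw [map_mul, hρx, MulEquiv.apply_symm_apply, ← hd]
    show t * d * t⁻¹ = d * (d⁻¹ * (t * d * t⁻¹))
    group
  have hW : ∀ w ∈ ρ.range, t * w * t⁻¹ ∈ ρ.range := by
    rintro _ ⟨y, rfl⟩
    obtain ⟨x, c, rfl⟩ := exists_mul_of_mem_sup hRT y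
    obtain ⟨xz, hxz⟩ := hcorr (Subgroup.inclusion le_sup_right c) c.2
    refine ⟨Subgroup.inclusion le_sup_left (γ x) * (Subgroup.inclusion le_sup_right c *
      Subgroup.inclusion le_sup_left xz), ?_⟩
    rw [map_mul, hρx, hconj, ← hxz, map_mul, hρx]
    group
  obtain ⟨ι, hι, hιx⟩ := F.inv_mem hρ
  have key : ∀ (w : ρ.range) (y : ↥(R ⊔ centralizerIn S T)), (w : Ω) = ρ y → ι w = y := by
    rintro ⟨w, hw⟩ y h
    subst h
    exact hιx y
  have hρr : ∀ y, ρ y ∈ ρ.range := fun y => ⟨y, rfl⟩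
  have hrS : ρ.range ≤ S := range_le F hρ
  have hc1 := F.comp_mem hρ (F.conj_mem hrS (hTS ht)) hρr
  have hc1r : ∀ y, ((conjHom ρ.range t).comp (ρ.codRestrict ρ.range hρr)) y ∈ ρ.range :=
    fun y => hW _ (hρr y)
  have hc2 := F.comp_mem hc1 hι hc1r
  refine ⟨_, hc2, fun x => ?_, fun c hc => ?_⟩
  · have h2 := key ⟨_, hc1r (Subgroup.inclusion le_sup_left x)⟩ (Subgroup.inclusion le_sup_left (γ x)) (by
      show t * ρ (Subgroup.inclusion le_sup_left x) * t⁻¹ = ρ (Subgroup.inclusion le_sup_left (γ x))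
      rw [hρx, hρx, hconj])
    exact h2.trans rfl
  · obtain ⟨xz, hxz⟩ := hcorr c hc
    have h2 := key ⟨_, hc1r c⟩ _ hxz
    have h3 : (ι.comp (((conjHom ρ.range t).comp (ρ.codRestrict ρ.range hρr)).codRestrict ρ.range hc1r)) c =
        (c : Ω) * (xz : Ω) := h2.trans rfl
    rw [h3, inv_mul_cancel_left]
    exact hRT xz.2

/-- The system of nice maps contains all `p`-elements of `Aut_E(P)` for `E`-centric `P`. -/
theorem pgen_le_niceSystem (hS : IsPGroup p S) (F : FusionSystem S) (hF : F.IsSaturated p) (E : FusionSystem T)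
    (hEsat : E.IsSaturated p) (hE : E.IsInvariantIn F) {P : Subgroup Ω} (hPc : E.IsCentric P) :
    (Subgroup.closure {α : ↥(E.autGroup P) | ∃ k : ℕ, orderOf α = p ^ k}).map (E.autGroup P).subtype ≤
      (niceSystem E F hE.2.1).autGroup P := by
  rw [MonoidHom.map_closure, Subgroup.closure_le]
  rintro _ ⟨ξ, ⟨k, hk⟩, rfl⟩
  show (ξ : MulAut P) ∈ (niceSystem E F hE.2.1).autGroup P
  rw [mem_autGroup_iff _ hPc.1]
  refine ⟨(mem_autGroup_iff E hPc.1 ξ).mp ξ.2, fun _ => ?_⟩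
  exact nice_of_pElement hS F hF E hEsat hE hPc ξ ξ.2 k (by rw [← hk, Subgroup.orderOf_coe])

end

end Cfsg.Agent.Lib.Helper26.Crav
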