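import Cfsg.Agent.Lib.Helper26.CravD

/-!
Towards S5141, part E: an element of `Aut_E(T)` whose restriction to an `E`-centric subgroup is nice is nice.
-/

set_option autoImplicit false

namespace Cfsg.Agent.Lib.Helper26.Crav

open Cfsg Cfsg.FusionSystem Cfsg.Agent.Lib.Helper26 Cfsg.Agent.Lib.Helper27 Cfsg.Agent.Lib.Helper26.PPLeast

variable {Ω : Type*} [Group Ω] {S T : Subgroup Ω}

/-- A nice extension is trivial modulo `T`. -/
theorem NiceExt.inv_mul_mem {F : FusionSystem S} {P : Subgroup Ω} {φ : P →* Ω}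
    {ψ : ↥(P ⊔ centralizerIn S T) →* Ω} (h : NiceExt F T P φ ψ) (hT : F.StronglyClosed T) (hPT : P ≤ T)
    (y : ↥(P ⊔ centralizerIn S T)) : (y : Ω)⁻¹ * ψ y ∈ T := by
  obtain ⟨x, c, rfl⟩ := exists_mul_of_mem_sup hPT y
  rw [map_mul, h.ext]
  have h1 : (x : Ω)⁻¹ * φ x ∈ T := T.mul_mem (T.inv_mem (hPT x.2)) (h.apply_mem hT hPT x)
  have h2 := h.mod (Subgroup.inclusion le_sup_right c) c.2
  have h3 : (x : Ω)⁻¹ * φ x * (c : Ω) = (c : Ω) * ((x : Ω)⁻¹ * φ x) := mem_centralizerIn_comm c.2 h1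
  have e : ((Subgroup.inclusion le_sup_left x * Subgroup.inclusion le_sup_right c :
      ↥(P ⊔ centralizerIn S T)) : Ω)⁻¹ * (φ x * ψ (Subgroup.inclusion le_sup_right c)) =
      ((x : Ω)⁻¹ * φ x) * ((c : Ω)⁻¹ * ψ (Subgroup.inclusion le_sup_right c)) := by
    show ((x : Ω) * (c : Ω))⁻¹ * (φ x * ψ (Subgroup.inclusion le_sup_right c)) = _
    calc ((x : Ω) * (c : Ω))⁻¹ * (φ x * ψ (Subgroup.inclusion le_sup_right c))
        = (c : Ω)⁻¹ * ((x : Ω)⁻¹ * φ x * (c : Ω)) * ((c : Ω)⁻¹ * ψ (Subgroup.inclusion le_sup_right c)) := by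
          group
      _ = (c : Ω)⁻¹ * ((c : Ω) * ((x : Ω)⁻¹ * φ x)) * ((c : Ω)⁻¹ * ψ (Subgroup.inclusion le_sup_right c)) := by
          rw [h3]
      _ = _ := by group
  rw [e]
  exact T.mul_mem h1 h2

theorem fullyNormalized_of_stronglyClosed [Finite S] (F : FusionSystem S) {R : Subgroup Ω}
    (hR : F.StronglyClosed R) : F.IsFullyNormalized R := by
  refine ⟨hR.1, fun R' h => ?_⟩
  obtain ⟨φ, hφ, hr⟩ := h
  have hle : R' ≤ R := by
    rw [← hr]
    rintro _ ⟨x, rfl⟩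
    exact hR.2 R le_rfl φ hφ x
  have : Finite ↥R := finite_of_le hR.1
  have hcard : Nat.card ↥R' = Nat.card ↥R := by
    rw [← hr]
    exact (Nat.card_congr (Equiv.ofInjective φ (F.injective_of_mem hφ))).symm
  rw [Subgroup.eq_of_le_of_card_ge hle hcard.ge]

section

variable [Finite S] {p : ℕ} [Fact p.Prime]

/-- An element of `Aut_F(T)` (`T` strongly closed) extends to an automorphism of `T C_S(T)` in `F`, which preserves
`C_S(T)`. -/
theorem exists_extension_sup (hS : IsPGroup p S) (F : FusionSystem S) (hF : F.IsSaturated p)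
    (hT : F.StronglyClosed T) (α : MulAut T) (hα : α ∈ F.autGroup T) :
    ∃ β : MulAut ↥(T ⊔ centralizerIn S T), β ∈ F.autGroup (T ⊔ centralizerIn S T) ∧
      (∀ t : T, β (Subgroup.inclusion le_sup_left t) = Subgroup.inclusion le_sup_left (α t)) ∧
      ∀ y : ↥(T ⊔ centralizerIn S T), (y : Ω) ∈ centralizerIn S T → ((β y : ↥(T ⊔ centralizerIn S T)) : Ω) ∈
        centralizerIn S T := by
  have hTS : T ≤ S := hT.1
  have hQS : T ⊔ centralizerIn S T ≤ S := sup_centralizerIn_le hTS le_rfl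
  have hfn := fullyNormalized_of_stronglyClosed F hT
  have hrec := saturated_fn_receptive hS F hF hfn
  have hαF : resAut α T le_rfl ∈ F.Hom T := by
    have := (mem_autGroup_iff F hTS α).mp hα
    have e : resAut α T le_rfl = T.subtype.comp α.toMonoidHom := by
      ext x
      rfl
    rw [e]
    exact this
  have hr : (resAut α T le_rfl).range = T := by
    apply le_antisymm
    · rintro _ ⟨x, rfl⟩
      exact (α ⟨x, _⟩).2
    · intro t ht
      refine ⟨α⁻¹ ⟨t, ht⟩, ?_⟩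
      show ((α ⟨((α⁻¹ ⟨t, ht⟩ : T) : Ω), _⟩ : T) : Ω) = t
      have : (⟨((α⁻¹ ⟨t, ht⟩ : T) : Ω), (α⁻¹ ⟨t, ht⟩).2⟩ : T) = α⁻¹ ⟨t, ht⟩ := rfl
      rw [this, MulAut.apply_inv_self]
  obtain ⟨β', hβ', hβ'x⟩ := hrec.2 T _ hαF hr
  have hle : T ⊔ centralizerIn S T ≤ extender S T (resAut α T le_rfl) :=
    sup_le (le_extender hTS _ (fun x => hTS (α ⟨x, _⟩).2)) (centralizerIn_le_extender T _)
  obtain ⟨β₀, hβ₀def⟩ : ∃ β₀ : ↥(T ⊔ centralizerIn S T) →* Ω, β₀ = β'.comp (Subgroup.inclusion hle) := ⟨_, rfl⟩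
  have hβ₀ : β₀ ∈ F.Hom (T ⊔ centralizerIn S T) := hβ₀def ▸ inclusion_comp_mem F hle hβ'
  have hβ₀T : ∀ t : T, β₀ (Subgroup.inclusion le_sup_left t) = ((α t : T) : Ω) := by
    intro t
    rw [hβ₀def]
    exact hβ'x t t.2 (hle (Subgroup.mem_sup_left t.2))
  have hβ₀C : ∀ y : ↥(T ⊔ centralizerIn S T), (y : Ω) ∈ centralizerIn S T → β₀ y ∈ centralizerIn S T := by
    intro y hy
    rw [mem_centralizerIn_iff]
    refine ⟨hom_apply_mem F hβ₀ y, fun t ht => ?_⟩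
    have h1 : Subgroup.inclusion le_sup_left (α⁻¹ ⟨t, ht⟩) * y = y * Subgroup.inclusion le_sup_left (α⁻¹ ⟨t, ht⟩) := by
      apply Subtype.ext
      exact mem_centralizerIn_comm hy (α⁻¹ ⟨t, ht⟩).2
    have h2 := congrArg β₀ h1
    rw [map_mul, map_mul, hβ₀T, MulAut.apply_inv_self] at h2
    exact h2
  have hβ₀Q : ∀ y, β₀ y ∈ T ⊔ centralizerIn S T := by
    intro y
    obtain ⟨t, c, rfl⟩ := exists_mul_of_mem_sup (le_refl T) y
    rw [map_mul, hβ₀T]
    exact Subgroup.mul_mem _ (Subgroup.mem_sup_left (α t).2) (Subgroup.mem_sup_right (hβ₀C _ c.2))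
  obtain ⟨β, hβ, hβx⟩ := Cfsg.Agent.Lib.Helper26.exists_aut_of_hom F hβ₀ hβ₀Q
  refine ⟨β, hβ, fun t => ?_, fun y hy => ?_⟩
  · apply Subtype.ext
    rw [hβx, hβ₀T]
    rfl
  · rw [hβx]
    exact hβ₀C y hy

theorem resAut_mem_of_mem (E : FusionSystem T) {α : MulAut T} (hα : α ∈ E.autGroup T) {R : Subgroup Ω}
    (hRT : R ≤ T) : resAut α R hRT ∈ E.Hom R := by
  have h1 := inclusion_comp_mem E hRT ((mem_autGroup_iff E le_rfl α).mp hα)
  have e : resAut α R hRT = (T.subtype.comp α.toMonoidHom).comp (Subgroup.inclusion hRT) := by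
    ext x
    rfl
  rw [e]
  exact h1

/-- **Step B, coprime case.** -/
theorem nice_of_restrict_nice_coprime (hS : IsPGroup p S) (F : FusionSystem S) (hF : F.IsSaturated p)
    (E : FusionSystem T) (hE : E.IsInvariantIn F) (α : MulAut T) (hα : α ∈ E.autGroup T)
    (hcop : (orderOf α).Coprime p) {R : Subgroup Ω} (hRc : E.IsCentric R)
    (hnice : Nice F T R (resAut α R hRc.1)) : Nice F T T (resAut α T le_rfl) := by
  have hp : p.Prime := Fact.out
  have hE' := hE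
  obtain ⟨hEF, hT, hinv, hfrat⟩ := hE
  have hTS : T ≤ S := hT.1
  have hRT : R ≤ T := hRc.1
  have hTp : IsPGroup p T := hS.to_le hTS
  have hfinT : Finite T := finite_of_le hTS
  have hQS : T ⊔ centralizerIn S T ≤ S := sup_centralizerIn_le hTS le_rfl
  have hVS : R ⊔ centralizerIn S T ≤ S := sup_centralizerIn_le hTS hRT
  have hfinV : Finite ↥(R ⊔ centralizerIn S T) := finite_of_le hVS
  have hαF : α ∈ F.autGroup T :=
    (mem_autGroup_iff F hTS α).mpr (hEF T ((mem_autGroup_iff E le_rfl α).mp hα))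
  obtain ⟨βh, hβh, hβhT, hβhC⟩ := exists_extension_sup hS F hF hT α hαF
  obtain ⟨ψ, hψ⟩ := hnice
  have hφE : resAut α R hRT ∈ E.Hom R := resAut_mem_of_mem E hα hRT
  have hcen : centralizerIn T (resAut α R hRT).range ≤ (resAut α R hRT).range := hRc.2 _ ⟨_, hφE, rfl⟩
  have hcenRR : centralizerIn T R ≤ R := hRc.2 R (isConj_refl E hRT)
  have hr := hψ.range_eq hT hRT hcen
  have hRQ : R ⊔ centralizerIn S T ≤ T ⊔ centralizerIn S T := sup_le_sup_right hRT _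
  obtain ⟨βR, hβRdef⟩ : ∃ βR : ↥(R ⊔ centralizerIn S T) →* Ω,
      βR = ((T ⊔ centralizerIn S T).subtype.comp βh.toMonoidHom).comp (Subgroup.inclusion hRQ) := ⟨_, rfl⟩
  have hβR : βR ∈ F.Hom (R ⊔ centralizerIn S T) :=
    hβRdef ▸ inclusion_comp_mem F hRQ ((mem_autGroup_iff F hQS βh).mp hβh)
  have hβRx : ∀ y, βR y = ((βh (Subgroup.inclusion hRQ y) : ↥(T ⊔ centralizerIn S T)) : Ω) := fun y => by
    rw [hβRdef]
    rfl
  have hβRR : ∀ x : R, βR (Subgroup.inclusion le_sup_left x) = resAut α R hRT x := by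
    intro x
    rw [hβRx]
    have e1 : Subgroup.inclusion hRQ (Subgroup.inclusion le_sup_left x) =
        Subgroup.inclusion le_sup_left (⟨(x : Ω), hRT x.2⟩ : T) := Subtype.ext rfl
    rw [e1, hβhT]
    rfl
  have hβRr : ∀ y, βR y ∈ ψ.range := by
    intro y
    rw [hr]
    obtain ⟨x, c, rfl⟩ := exists_mul_of_mem_sup hRT y
    rw [map_mul]
    apply Subgroup.mul_mem
    · exact Subgroup.mem_sup_left ⟨x, (hβRR x).symm⟩
    · apply Subgroup.mem_sup_right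
      rw [hβRx]
      exact hβhC _ c.2
  obtain ⟨ι, hι, hιx⟩ := F.inv_mem hψ.mem
  have hδmem := F.comp_mem hβR hι hβRr
  have hιV : ∀ w : ψ.range, ι w ∈ R ⊔ centralizerIn S T := by
    rintro ⟨_, y, rfl⟩
    rw [hιx]
    exact y.2
  obtain ⟨δ, hδF, hδx⟩ := Cfsg.Agent.Lib.Helper26.exists_aut_of_hom F hδmem (fun y => hιV _)
  have hψδ : ∀ y, ψ (δ y) = βR y := by
    intro y
    obtain ⟨y', hy'⟩ := hβRr y
    have h1 : δ y = y' := by
      apply Subtype.ext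
      rw [hδx]
      show ι ((βR.codRestrict ψ.range hβRr) y) = y'
      have e1 : (βR.codRestrict ψ.range hβRr) y = ⟨ψ y', ⟨y', rfl⟩⟩ := Subtype.ext hy'.symm
      rw [e1, hιx]
    rw [h1, hy']
  have hδR : ∀ x : ↥(R ⊔ centralizerIn S T), (x : Ω) ∈ R → δ x = x := by
    intro x hx
    apply F.injective_of_mem hψ.mem
    rw [hψδ]
    have e1 : x = Subgroup.inclusion le_sup_left (⟨(x : Ω), hx⟩ : R) := Subtype.ext rfl
    rw [e1, hβRR, hψ.ext]
  have hδC : ∀ c : ↥(R ⊔ centralizerIn S T), (βR c)⁻¹ * ((δ c : ↥(R ⊔ centralizerIn S T)) : Ω) ∈ T := by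
    intro c
    have h1 := hψ.inv_mul_mem hT hRT (δ c)
    rw [hψδ] at h1
    have h2 := T.inv_mem h1
    rw [mul_inv_rev, inv_inv] at h2
    exact h2
  -- the exponent
  have hd0 : orderOf δ ≠ 0 := (orderOf_pos δ).ne'
  obtain ⟨a₁, r, hrnd, hd⟩ := Nat.exists_eq_pow_mul_and_not_dvd hd0 p hp.ne_one
  have hrcop : r.Coprime p := ((Nat.Prime.coprime_iff_not_dvd hp).mpr hrnd).symm
  have hr0 : r ≠ 0 := by
    rintro rfl
    exact hrnd (dvd_zero p)
  obtain ⟨a₂, ha₂⟩ := hTp.exists_card_eq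
  have hm0 : orderOf α ≠ 0 := (orderOf_pos α).ne'
  obtain ⟨j, u, q, hju, hjq⟩ := exists_exp p (a₁ + a₂) (r * orderOf α) hp.pos (Nat.Coprime.mul_left hrcop hcop)
    (mul_ne_zero hr0 hm0)
  have hjT : ∀ z : T, z ^ j = 1 := by
    intro z
    have e : j = Nat.card T * (p ^ a₁ * u) := by rw [hju, ha₂, pow_add]; ring
    rw [e, pow_mul, pow_card_eq_one', one_pow]
  have hδjj : (δ ^ j) ^ j = δ ^ j := by
    have e : j * j = orderOf δ * (p ^ a₂ * u * orderOf α * q) + j := by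
      have e1 : j * j = j * (r * orderOf α * q) + j := by
        nth_rewrite 2 [hjq]
        ring
      rw [e1]
      congr 1
      rw [hju, hd, pow_add]
      ring
    rw [← pow_mul, e, pow_add, pow_mul, pow_orderOf_eq_one, one_pow, one_mul]
  have hαj : α ^ j = α := by
    have e : j = orderOf α * (r * q) + 1 := by rw [hjq]; ring
    rw [e, pow_add, pow_mul, pow_orderOf_eq_one, one_pow, one_mul, pow_one]
  have hfixpow : ∀ (k : ℕ) (x : ↥(R ⊔ centralizerIn S T)), (x : Ω) ∈ R → (δ ^ k) x = x := by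
    intro k x hx
    induction k with
    | zero => rfl
    | succ k ih => rw [pow_succ, MulAut.mul_apply, hδR x hx, ih]
  obtain ⟨κ, hκ, hκT, hκc⟩ := exists_aut_of_trivial hS F hF E hE' hjT hRc (δ ^ j) (Subgroup.pow_mem _ hδF j) hδjj
    (hfixpow j)
  -- comparison of the powers of `βh` and `δ` on `C_S(T)`
  have hind : ∀ i : ℕ, ∀ c : ↥(R ⊔ centralizerIn S T), (c : Ω) ∈ centralizerIn S T →
      (((βh ^ i) (Subgroup.inclusion hRQ c) : ↥(T ⊔ centralizerIn S T)) : Ω) ∈ centralizerIn S T ∧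
      (((βh ^ i) (Subgroup.inclusion hRQ c) : ↥(T ⊔ centralizerIn S T)) : Ω)⁻¹ *
        (((δ ^ i) c : ↥(R ⊔ centralizerIn S T)) : Ω) ∈ T := by
    intro i
    induction i with
    | zero =>
      intro c hc
      refine ⟨hc, ?_⟩
      show (c : Ω)⁻¹ * (c : Ω) ∈ T
      rw [inv_mul_cancel]
      exact T.one_mem
    | succ i ih =>
      intro c hc
      obtain ⟨h1, h2⟩ := ih c hc
      rw [pow_succ', pow_succ', MulAut.mul_apply, MulAut.mul_apply]
      refine ⟨hβhC _ h1, ?_⟩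
      obtain ⟨bR, hbR⟩ : ∃ bR : ↥(R ⊔ centralizerIn S T),
          (bR : Ω) = (((βh ^ i) (Subgroup.inclusion hRQ c) : ↥(T ⊔ centralizerIn S T)) : Ω) :=
        ⟨⟨_, Subgroup.mem_sup_right h1⟩, rfl⟩
      have htR : ((bR⁻¹ * (δ ^ i) c : ↥(R ⊔ centralizerIn S T)) : Ω) ∈ R := by
        apply mem_of_mem_sup_of_mem hRT hcenRR (bR⁻¹ * (δ ^ i) c).2
        show (bR : Ω)⁻¹ * (((δ ^ i) c : ↥(R ⊔ centralizerIn S T)) : Ω) ∈ T
        rw [hbR]
        exact h2
      have e1 : (δ ^ i) c = bR * (bR⁻¹ * (δ ^ i) c) := by group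
      rw [e1, map_mul, hδR _ htR]
      have h3 := hδC bR
      rw [hβRx] at h3
      have e2 : Subgroup.inclusion hRQ bR = (βh ^ i) (Subgroup.inclusion hRQ c) := Subtype.ext hbR
      rw [e2] at h3
      have h4 : ((bR⁻¹ * (δ ^ i) c : ↥(R ⊔ centralizerIn S T)) : Ω) ∈ T := hRT htR
      have e3 : ((βh ((βh ^ i) (Subgroup.inclusion hRQ c)) : ↥(T ⊔ centralizerIn S T)) : Ω)⁻¹ *
          ((δ bR * (bR⁻¹ * (δ ^ i) c) : ↥(R ⊔ centralizerIn S T)) : Ω) =
          (((βh ((βh ^ i) (Subgroup.inclusion hRQ c)) : ↥(T ⊔ centralizerIn S T)) : Ω)⁻¹ *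
            ((δ bR : ↥(R ⊔ centralizerIn S T)) : Ω)) * ((bR⁻¹ * (δ ^ i) c : ↥(R ⊔ centralizerIn S T)) : Ω) := by
        rw [Subgroup.coe_mul, mul_assoc]
      rw [e3]
      exact T.mul_mem h3 h4
  -- the final automorphism
  have hκ'T : ∀ x : ↥(T ⊔ centralizerIn S T), (x : Ω) ∈ T → κ⁻¹ x = x := by
    intro x hx
    have h3 : κ⁻¹ (κ x) = κ⁻¹ x := by rw [hκT x hx]
    rw [MulAut.inv_apply_self] at h3
    exact h3.symm
  have hβjT : ∀ t : T, (βh ^ j) (Subgroup.inclusion le_sup_left t) = Subgroup.inclusion le_sup_left (α t) := by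
    intro t
    have h1 := aut_pow_restrict (le_sup_left : T ≤ T ⊔ centralizerIn S T) βh α
      (fun y => congrArg Subtype.val (hβhT y).symm) j t
    rw [hαj] at h1
    exact Subtype.ext h1.symm
  refine ⟨(T ⊔ centralizerIn S T).subtype.comp (βh ^ j * κ⁻¹).toMonoidHom,
    (mem_autGroup_iff F hQS _).mp (Subgroup.mul_mem _ (Subgroup.pow_mem _ hβh j) (Subgroup.inv_mem _ hκ)),
    fun t => ?_, fun c hc => ?_⟩
  · show (((βh ^ j) (κ⁻¹ (Subgroup.inclusion le_sup_left t)) : ↥(T ⊔ centralizerIn S T)) : Ω) = _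
    rw [hκ'T _ t.2, hβjT]
    rfl
  · -- `c₁ = κ⁻¹ c` lies in `C_S(T)`
    have hc₁ : ((κ⁻¹ c : ↥(T ⊔ centralizerIn S T)) : Ω) ∈ centralizerIn S T := by
      rw [mem_centralizerIn_iff]
      refine ⟨hQS (κ⁻¹ c).2, fun t ht => ?_⟩
      have h1 : Subgroup.inclusion le_sup_left (⟨t, ht⟩ : T) * c = c * Subgroup.inclusion le_sup_left (⟨t, ht⟩ : T) := by
        apply Subtype.ext
        exact mem_centralizerIn_comm hc ht
      have h2 : κ⁻¹ (Subgroup.inclusion le_sup_left (⟨t, ht⟩ : T) * c) =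
          κ⁻¹ (c * Subgroup.inclusion le_sup_left (⟨t, ht⟩ : T)) := by rw [h1]
      rw [map_mul, map_mul, hκ'T _ ht] at h2
      exact congrArg Subtype.val h2
    obtain ⟨c₁R, hc₁R⟩ : ∃ c₁R : ↥(R ⊔ centralizerIn S T), (c₁R : Ω) = ((κ⁻¹ c : ↥(T ⊔ centralizerIn S T)) : Ω) :=
      ⟨⟨_, Subgroup.mem_sup_right hc₁⟩, rfl⟩
    have hc₁R' : (c₁R : Ω) ∈ centralizerIn S T := hc₁R ▸ hc₁
    obtain ⟨-, h2⟩ := hind j c₁R hc₁R'
    have e1 : Subgroup.inclusion hRQ c₁R = κ⁻¹ c := Subtype.ext hc₁R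
    rw [e1] at h2
    have h3 := hκc (c₁R : Ω) hc₁R'
    have e2 : (⟨(c₁R : Ω), Subgroup.mem_sup_right hc₁R'⟩ : ↥(T ⊔ centralizerIn S T)) = κ⁻¹ c := Subtype.ext hc₁R
    have e3 : (⟨(c₁R : Ω), Subgroup.mem_sup_right hc₁R'⟩ : ↥(R ⊔ centralizerIn S T)) = c₁R := Subtype.ext rfl
    rw [e2, e3, MulAut.apply_inv_self] at h3
    rw [← h3] at h2
    have h4 := T.inv_mem h2
    rw [mul_inv_rev, inv_inv] at h4
    exact h4

end

end Cfsg.Agent.Lib.Helper26.Crav
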