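import Cfsg.Agent.Lib.Helper26.CravE

/-!
Towards S5141, part F: Step B in general, and the extension condition for the `p'`-residual.
-/

set_option autoImplicit false

namespace Cfsg.Agent.Lib.Helper26.Crav

open Cfsg Cfsg.FusionSystem Cfsg.Agent.Lib.Helper26 Cfsg.Agent.Lib.Helper27 Cfsg.Agent.Lib.Helper26.PPLeast

variable {Ω : Type*} [Group Ω] {S T : Subgroup Ω}

section

variable [Finite S] {p : ℕ} [Fact p.Prime]

omit [Finite S] in
theorem resAut_top_eq (α : MulAut T) : resAut α T le_rfl = T.subtype.comp α.toMonoidHom := by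
  ext x
  rfl

omit [Finite S] in
theorem resAut_top_range (α : MulAut T) : (resAut α T le_rfl).range = T := by
  apply le_antisymm
  · rintro _ ⟨x, rfl⟩
    exact (α ⟨x, _⟩).2
  · intro t ht
    refine ⟨α⁻¹ ⟨t, ht⟩, ?_⟩
    show ((α ⟨((α⁻¹ ⟨t, ht⟩ : T) : Ω), _⟩ : T) : Ω) = t
    have : (⟨((α⁻¹ ⟨t, ht⟩ : T) : Ω), (α⁻¹ ⟨t, ht⟩).2⟩ : T) = α⁻¹ ⟨t, ht⟩ := rfl
    rw [this, MulAut.apply_inv_self]

/-- **Step B.** An element of `Aut_E(T)` whose restriction to some `E`-centric subgroup is nice is nice. -/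
theorem nice_of_restrict_nice (hS : IsPGroup p S) (F : FusionSystem S) (hF : F.IsSaturated p)
    (E : FusionSystem T) (hEsat : E.IsSaturated p) (hE : E.IsInvariantIn F) (α : MulAut T) (hα : α ∈ E.autGroup T)
    {R : Subgroup Ω} (hRc : E.IsCentric R) (hnice : Nice F T R (resAut α R hRc.1)) :
    Nice F T T (resAut α T le_rfl) := by
  have hT : F.StronglyClosed T := hE.2.1
  have hTS : T ≤ S := hT.1
  have hRT : R ≤ T := hRc.1
  have hfinT : Finite T := finite_of_le hTS
  have hTc : E.IsCentric T := isCentric_self E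
  obtain ⟨u, v, huv, hu, hv, ⟨k, hk⟩, hvcop⟩ := exists_pPart_decomp p α
  have huE : u ∈ E.autGroup T := (Subgroup.zpowers_le.mpr hα) hu
  have hvE : v ∈ E.autGroup T := (Subgroup.zpowers_le.mpr hα) hv
  have hunice : Nice F T T (resAut u T le_rfl) := by
    rw [resAut_top_eq]
    exact nice_of_pElement hS F hF E hEsat hE hTc u huE k hk
  have hu'nice : Nice F T T (resAut u⁻¹ T le_rfl) := by
    rw [resAut_top_eq]
    exact nice_of_pElement hS F hF E hEsat hE hTc u⁻¹ (Subgroup.inv_mem _ huE) k (by rw [orderOf_inv, hk])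
  have hv' : v = u⁻¹ * α := by
    rw [huv]
    group
  have hφE : resAut α R hRT ∈ E.Hom R := resAut_mem_of_mem E hα hRT
  have hcen : centralizerIn T (resAut α R hRT).range ≤ (resAut α R hRT).range := hRc.2 _ ⟨_, hφE, rfl⟩
  have hrT : (resAut α R hRT).range ≤ T := range_le E hφE
  have hvR : Nice F T R (resAut v R hRT) := by
    have h1 := hnice.comp hT (hu'nice.restrict hrT) hRT hrT hcen (fun x => ⟨x, rfl⟩)
    refine h1.congr (fun x => ?_)
    rw [hv']
    rfl
  have hvT := nice_of_restrict_nice_coprime hS F hF E hE v hvE hvcop hRc hvR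
  have hvr : (resAut v T le_rfl).range ≤ T := by
    rintro _ ⟨x, rfl⟩
    exact (v ⟨x, _⟩).2
  have h2 := hvT.comp hT hunice le_rfl le_rfl (fun z hz => by
    rw [resAut_top_range]
    exact hz.1) (fun x => (v ⟨x, _⟩).2)
  refine h2.congr (fun x => ?_)
  rw [huv]
  rfl

/-- A saturated subsystem of `E` of index prime to `p` all of whose maps between `E`-centric subgroups are nice. -/
theorem exists_saturated_nice (hS : IsPGroup p S) (F : FusionSystem S) (hF : F.IsSaturated p)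
    (E : FusionSystem T) (hEsat : E.IsSaturated p) (hE : E.IsInvariantIn F) :
    ∃ X : FusionSystem T, X.IsSaturated p ∧ X.HasPrimeToPIndexIn E p ∧
      ∀ P, X.Hom P ⊆ (niceSystem E F hE.2.1).Hom P := by
  have hT : F.StronglyClosed T := hE.2.1
  have hTS : T ≤ S := hT.1
  have hfinT : Finite T := finite_of_le hTS
  have hTp : IsPGroup p T := hS.to_le hTS
  apply exists_saturated_le hTp E (niceSystem E F hT) hEsat (fun P φ hφ => hφ.1)
  · intro P hPc
    exact pgen_le_niceSystem hS F hF E hEsat hE hPc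
  · intro α hα R hRc hres
    rw [mem_autGroup_iff _ le_rfl]
    refine ⟨(mem_autGroup_iff E le_rfl α).mp hα, fun _ => ?_⟩
    rw [← resAut_top_eq]
    exact nice_of_restrict_nice hS F hF E hEsat hE α hα hRc (hres.2 hRc)

/-- **The extension condition** for the `p'`-residual of a weakly normal subsystem. -/
theorem extension_of_pPrimeResidual (hS : IsPGroup p S) (F : FusionSystem S) (hF : F.IsSaturated p)
    (E : FusionSystem T) (hEsat : E.IsSaturated p) (hE : E.IsInvariantIn F) (D : FusionSystem T)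
    (hD : E.IsPPrimeResidual p D) :
    ∀ α ∈ D.autGroup T, ∃ β ∈ F.autGroup (T ⊔ centralizerIn S T),
      (∀ x : T, ((β (Subgroup.inclusion le_sup_left x) : ↥(T ⊔ centralizerIn S T)) : Ω) = ((α x : T) : Ω)) ∧
      ∀ c : ↥(T ⊔ centralizerIn S T), (c : Ω) ∈ centralizerIn S T →
        (c : Ω)⁻¹ * ((β c : ↥(T ⊔ centralizerIn S T)) : Ω) ∈ T ⊓ Subgroup.centralizer (T : Set Ω) := by
  have hT : F.StronglyClosed T := hE.2.1
  have hTS : T ≤ S := hT.1
  have hfinT : Finite T := finite_of_le hTS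
  obtain ⟨X, hXsat, hXi, hXN⟩ := exists_saturated_nice hS F hF E hEsat hE
  have hDX : D.IsSubsystemOf X := hD.2.2 X hXsat hXi
  intro α hα
  have h1 : T.subtype.comp α.toMonoidHom ∈ (niceSystem E F hT).Hom T :=
    hXN T (hDX T ((mem_autGroup_iff D le_rfl α).mp hα))
  obtain ⟨ψ, hψ⟩ := h1.2 (isCentric_self E)
  have hr0 : (T.subtype.comp α.toMonoidHom).range = T := by
    rw [← resAut_top_eq, resAut_top_range]
  have hcen : centralizerIn T (T.subtype.comp α.toMonoidHom).range ≤ (T.subtype.comp α.toMonoidHom).range := by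
    rw [hr0]
    exact inf_le_left
  have hr := hψ.range_eq hT le_rfl hcen
  rw [hr0] at hr
  have hψQ : ∀ y, ψ y ∈ T ⊔ centralizerIn S T := by
    intro y
    have h2 : ψ y ∈ ψ.range := ⟨y, rfl⟩
    rw [hr] at h2
    exact h2
  obtain ⟨β, hβ, hβx⟩ := Cfsg.Agent.Lib.Helper26.exists_aut_of_hom F hψ.mem hψQ
  refine ⟨β, hβ, fun x => ?_, fun c hc => ?_⟩
  · rw [hβx, hψ.ext]
    rfl
  · rw [hβx]
    refine ⟨hψ.mod c hc, ?_⟩
    show (c : Ω)⁻¹ * ψ c ∈ Subgroup.centralizer (T : Set Ω)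
    rw [Subgroup.mem_centralizer_iff]
    intro t ht
    -- `t = ψ (t')` with `t' = α⁻¹ t`
    have h2 : ψ (Subgroup.inclusion le_sup_left (α⁻¹ ⟨t, ht⟩)) = t := by
      rw [hψ.ext]
      show ((α (α⁻¹ ⟨t, ht⟩) : T) : Ω) = t
      rw [MulAut.apply_inv_self]
    have h3 : Subgroup.inclusion le_sup_left (α⁻¹ ⟨t, ht⟩) * c = c * Subgroup.inclusion le_sup_left (α⁻¹ ⟨t, ht⟩) := by
      apply Subtype.ext
      exact mem_centralizerIn_comm hc (α⁻¹ ⟨t, ht⟩).2
    have h4 := congrArg ψ h3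
    rw [map_mul, map_mul, h2] at h4
    have h5 : t * (c : Ω) = (c : Ω) * t := mem_centralizerIn_comm hc ht
    have h5' : t * (c : Ω)⁻¹ = (c : Ω)⁻¹ * t := by
      rw [eq_inv_mul_iff_mul_eq, ← mul_assoc, ← h5, mul_inv_cancel_right]
    calc t * ((c : Ω)⁻¹ * ψ c) = (t * (c : Ω)⁻¹) * ψ c := by group
      _ = ((c : Ω)⁻¹ * t) * ψ c := by rw [h5']
      _ = (c : Ω)⁻¹ * (t * ψ c) := by group
      _ = (c : Ω)⁻¹ * (ψ c * t) := by rw [h4]
      _ = (c : Ω)⁻¹ * ψ c * t := by group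

end

end Cfsg.Agent.Lib.Helper26.Crav
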