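import Cfsg.Agent.Lib.Helper26.EssTransvC

/-!
Automizers of essential subgroups and "central transvections": a group of automorphisms of `H` in the automizer `A`,
all centralizing `H/⟨z₀⟩` and `z₀` for one central element `z₀`, and large enough to contain a non-inner member
fixing any prescribed element, contradicts the existence of a strongly `p`-embedded subgroup of `A / Inn H`.
-/

set_option autoImplicit false
universe u

namespace Cfsg.Agent.Lib.Helper26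

open Cfsg

variable {H : Type u} [Group H]

/-- Two automorphisms `u`, `v` with `[H,u] ≤ Z₁` central, `[H,v] ≤ Z₂`, `u` fixing `Z₂` and `v` fixing `Z₁`
elementwise, commute. -/
theorem central_transv_commute {Z₁ Z₂ : Subgroup H} (hc : ∀ z ∈ Z₁, ∀ h : H, z * h = h * z) {u v : MulAut H}
    (hu : ∀ y, y⁻¹ * u y ∈ Z₁) (hv : ∀ y, y⁻¹ * v y ∈ Z₂) (huv : ∀ z ∈ Z₂, u z = z)
    (hvu : ∀ z ∈ Z₁, v z = z) : u * v = v * u := by
  ext e
  rw [MulAut.mul_apply, MulAut.mul_apply]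
  have h1 : v e = e * (e⁻¹ * v e) := by group
  have h2 : u e = e * (e⁻¹ * u e) := by group
  have h3 : u (v e) = e * (e⁻¹ * u e) * (e⁻¹ * v e) := by
    conv_lhs => rw [h1]
    rw [map_mul, huv _ (hv e), ← h2]
  have h4 : v (u e) = e * (e⁻¹ * v e) * (e⁻¹ * u e) := by
    conv_lhs => rw [h2]
    rw [map_mul, hvu _ (hu e), ← h1]
  rw [h3, h4, mul_assoc, hc _ (hu e), ← mul_assoc]

variable [Finite H] {p : ℕ} [Fact p.Prime]

/-- The central-transvection lemma. -/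
theorem false_of_central_transv (hH : IsPGroup p H) {A : Subgroup (MulAut H)}
    [hn : ((Inn H).subgroupOf A).Normal] {M : Subgroup (A ⧸ (Inn H).subgroupOf A)}
    (hM : IsStronglyPEmbedded p M) (z₀ : H) (hz₀ : ∀ h : H, z₀ * h = h * z₀)
    (B : Subgroup (MulAut H)) (hBA : B ≤ A) (hB : ∀ t ∈ B, IsTransv (Subgroup.zpowers z₀) t)
    (hex : ∀ w : H, ∃ t ∈ B, t ∉ Inn H ∧ t w = w) : False := by
  -- powers of `z₀` are central
  have hcen : ∀ z ∈ Subgroup.zpowers z₀, ∀ h : H, z * h = h * z := by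
    intro z hz h
    obtain ⟨n, rfl⟩ := Subgroup.mem_zpowers_iff.mp hz
    have : Commute z₀ h := hz₀ h
    exact (this.zpow_left n).eq
  obtain ⟨k, hk⟩ := transv_pow_eq_one (p := p) hH (Subgroup.zpowers z₀)
  -- the image of `B` in the quotient is a `p`-group
  obtain ⟨Bq, hBq⟩ : ∃ Bq : Subgroup (A ⧸ (Inn H).subgroupOf A),
      Bq = (B.subgroupOf A).map (QuotientGroup.mk' ((Inn H).subgroupOf A)) := ⟨_, rfl⟩
  have hBqp : IsPGroup p Bq := by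
    rw [hBq]
    apply IsPGroup.map
    rintro ⟨⟨t, htA⟩, htB⟩
    refine ⟨k, ?_⟩
    apply Subtype.ext
    apply Subtype.ext
    show t ^ (p ^ k) = 1
    exact hk t (hB t htB)
  obtain ⟨R, hR⟩ := Cfsg.Agent.Lib.Helper16.spe_exists_sylow_le hM
  obtain ⟨y, -, hy⟩ := Cfsg.Agent.Lib.Helper16.exists_conj_le_sylow (Y := ⊤) R le_top
    (le_top : Bq ≤ ⊤) hBqp
  obtain ⟨g₀, hg₀⟩ : ∃ g₀, g₀ ∉ M := by
    by_contra h
    exact hM.2.1 (eq_top_iff.mpr fun x _ => by_contra fun hx => h ⟨x, hx⟩)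
  obtain ⟨⟨y', hy'A⟩, rfl⟩ := QuotientGroup.mk_surjective y
  obtain ⟨⟨g', hg'A⟩, rfl⟩ := QuotientGroup.mk_surjective g₀
  obtain ⟨g, hg⟩ : ∃ g : MulAut H, g = y'⁻¹ * g' * y' := ⟨_, rfl⟩
  have hgA : g ∈ A := by
    rw [hg]
    exact A.mul_mem (A.mul_mem (A.inv_mem hy'A) hg'A) hy'A
  obtain ⟨u, huB, huI, huw⟩ := hex (g z₀)
  obtain ⟨u', hu'B, hu'I, hu'w⟩ := hex (g⁻¹ z₀)
  have huA : u ∈ A := hBA huB
  have hu'A : u' ∈ A := hBA hu'B
  have hvT : IsTransv ((Subgroup.zpowers z₀).map g.toMonoidHom) (g * u' * g⁻¹) := (hB u' hu'B).conj g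
  have hcomm : u * (g * u' * g⁻¹) = (g * u' * g⁻¹) * u := by
    apply central_transv_commute hcen (hB u huB).2 hvT.2
    · rintro _ ⟨z, hz, rfl⟩
      obtain ⟨n, rfl⟩ := Subgroup.mem_zpowers_iff.mp hz
      show u (g (z₀ ^ n)) = g (z₀ ^ n)
      rw [map_zpow, map_zpow, huw]
    · intro z hz
      obtain ⟨n, rfl⟩ := Subgroup.mem_zpowers_iff.mp hz
      show g (u' (g⁻¹ (z₀ ^ n))) = z₀ ^ n
      rw [map_zpow, map_zpow, hu'w, ← map_zpow, MulAut.apply_inv_self]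
  -- pass to the quotient
  obtain ⟨yq, hyq⟩ : ∃ yq : A ⧸ (Inn H).subgroupOf A, yq = QuotientGroup.mk (⟨y', hy'A⟩ : A) := ⟨_, rfl⟩
  obtain ⟨gq, hgq⟩ : ∃ gq : A ⧸ (Inn H).subgroupOf A, gq = QuotientGroup.mk (⟨g', hg'A⟩ : A) := ⟨_, rfl⟩
  obtain ⟨uq, huq⟩ : ∃ uq : A ⧸ (Inn H).subgroupOf A, uq = QuotientGroup.mk (⟨u, huA⟩ : A) := ⟨_, rfl⟩
  obtain ⟨uq', huq'⟩ : ∃ uq' : A ⧸ (Inn H).subgroupOf A, uq' = QuotientGroup.mk (⟨u', hu'A⟩ : A) := ⟨_, rfl⟩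
  rw [← hgq] at hg₀
  have hcq : uq * ((yq⁻¹ * gq * yq) * uq' * (yq⁻¹ * gq * yq)⁻¹) =
      ((yq⁻¹ * gq * yq) * uq' * (yq⁻¹ * gq * yq)⁻¹) * uq := by
    have hgm : yq⁻¹ * gq * yq = QuotientGroup.mk (⟨g, hgA⟩ : A) := by
      rw [hyq, hgq, ← QuotientGroup.mk_inv, ← QuotientGroup.mk_mul, ← QuotientGroup.mk_mul]
      congr 1
      apply Subtype.ext
      exact hg.symm
    rw [hgm, huq, huq', ← QuotientGroup.mk_inv, ← QuotientGroup.mk_mul, ← QuotientGroup.mk_mul,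
      ← QuotientGroup.mk_mul, ← QuotientGroup.mk_mul]
    congr 1
    apply Subtype.ext
    exact hcomm
  have hmemR : ∀ (t : MulAut H) (htB : t ∈ B),
      yq * QuotientGroup.mk (⟨t, hBA htB⟩ : A) * yq⁻¹ ∈ M := by
    intro t htB
    apply hR
    apply hy
    refine ⟨QuotientGroup.mk (⟨t, hBA htB⟩ : A), ?_, ?_⟩
    · rw [hBq]
      exact ⟨⟨t, hBA htB⟩, htB, rfl⟩
    · rw [hyq]
      rfl
  have hone : ∀ (t : MulAut H) (htB : t ∈ B),
      (yq * QuotientGroup.mk (⟨t, hBA htB⟩ : A) * yq⁻¹) ^ (p ^ k) = 1 := by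
    intro t htB
    rw [conj_pow, ← QuotientGroup.mk_pow]
    have : (⟨t, hBA htB⟩ : A) ^ (p ^ k) = 1 := by
      apply Subtype.ext
      show t ^ (p ^ k) = 1
      exact hk t (hB t htB)
    rw [this, QuotientGroup.mk_one, mul_one, mul_inv_cancel]
  have hne : ∀ (t : MulAut H) (htB : t ∈ B), t ∉ Inn H →
      yq * QuotientGroup.mk (⟨t, hBA htB⟩ : A) * yq⁻¹ ≠ 1 := by
    intro t htB htI h
    apply htI
    have h1 : (QuotientGroup.mk (⟨t, hBA htB⟩ : A) : A ⧸ (Inn H).subgroupOf A) = 1 := by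
      have : (QuotientGroup.mk (⟨t, hBA htB⟩ : A) : A ⧸ (Inn H).subgroupOf A) =
          yq⁻¹ * (yq * QuotientGroup.mk (⟨t, hBA htB⟩ : A) * yq⁻¹) * yq := by group
      rw [this, h]
      group
    rw [QuotientGroup.eq_one_iff, Subgroup.mem_subgroupOf] at h1
    exact h1
  refine spe_not_commute hM (hmemR u huB) (hmemR u' hu'B) (hne u huB huI) (hne u' hu'B hu'I)
    (hone u huB) (hone u' hu'B) hg₀ ?_
  rw [← huq, ← huq']
  have e1 : yq * uq * yq⁻¹ * (gq * (yq * uq' * yq⁻¹) * gq⁻¹) =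
      yq * (uq * ((yq⁻¹ * gq * yq) * uq' * (yq⁻¹ * gq * yq)⁻¹)) * yq⁻¹ := by group
  have e2 : gq * (yq * uq' * yq⁻¹) * gq⁻¹ * (yq * uq * yq⁻¹) =
      yq * (((yq⁻¹ * gq * yq) * uq' * (yq⁻¹ * gq * yq)⁻¹) * uq) * yq⁻¹ := by group
  rw [e1, e2, hcq]

end Cfsg.Agent.Lib.Helper26
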