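import Cfsg.Agent.Lib.Helper26.EssTransvA

/-!
Transvections of a `p`-group `H` with respect to an abelian subgroup `P₀` of index `p`: basic calculus.
-/

set_option autoImplicit false
universe u

namespace Cfsg.Agent.Lib.Helper26

open Cfsg

section Transv

variable {H : Type u} [Group H]

/-- `t` centralises `P₀` and `H/P₀`. -/
def IsTransv (P₀ : Subgroup H) (t : MulAut H) : Prop :=
  (∀ y ∈ P₀, t y = y) ∧ ∀ y, y⁻¹ * t y ∈ P₀

theorem IsTransv.one (P₀ : Subgroup H) : IsTransv P₀ 1 := by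
  refine ⟨fun y _ => rfl, fun y => ?_⟩
  rw [MulAut.one_apply, inv_mul_cancel]
  exact P₀.one_mem

theorem IsTransv.mul {P₀ : Subgroup H} {t s : MulAut H} (ht : IsTransv P₀ t) (hs : IsTransv P₀ s) :
    IsTransv P₀ (t * s) := by
  refine ⟨fun y hy => ?_, fun y => ?_⟩
  · rw [MulAut.mul_apply, hs.1 y hy, ht.1 y hy]
  · rw [MulAut.mul_apply]
    have h1 := hs.2 y
    have h2 := ht.2 (s y)
    have e : y⁻¹ * t (s y) = (y⁻¹ * s y) * ((s y)⁻¹ * t (s y)) := by group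
    rw [e]
    exact P₀.mul_mem h1 h2

theorem IsTransv.inv {P₀ : Subgroup H} {t : MulAut H} (ht : IsTransv P₀ t) : IsTransv P₀ t⁻¹ := by
  refine ⟨fun y hy => ?_, fun y => ?_⟩
  · have := ht.1 y hy
    rw [MulAut.inv_apply, MulEquiv.symm_apply_eq]
    exact this.symm
  · have h2 := ht.2 (t⁻¹ y)
    rw [MulAut.apply_inv_self] at h2
    have e : y⁻¹ * t⁻¹ y = ((t⁻¹ y)⁻¹ * y)⁻¹ := by group
    rw [e]
    exact P₀.inv_mem h2

theorem IsTransv.pow {P₀ : Subgroup H} {t : MulAut H} (ht : IsTransv P₀ t) (n : ℕ) : IsTransv P₀ (t ^ n) := by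
  induction n with
  | zero => rw [pow_zero]; exact IsTransv.one P₀
  | succ n ih => rw [pow_succ]; exact ih.mul ht

theorem IsTransv.conj {P₀ : Subgroup H} {t : MulAut H} (ht : IsTransv P₀ t) (g : MulAut H) :
    IsTransv (P₀.map g.toMonoidHom) (g * t * g⁻¹) := by
  refine ⟨fun y hy => ?_, fun y => ?_⟩
  · obtain ⟨z, hz, rfl⟩ := hy
    show g (t (g⁻¹ (g z))) = g z
    rw [MulAut.inv_apply_self, ht.1 z hz]
  · refine ⟨(g⁻¹ y)⁻¹ * t (g⁻¹ y), ht.2 _, ?_⟩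
    show g ((g⁻¹ y)⁻¹ * t (g⁻¹ y)) = y⁻¹ * g (t (g⁻¹ y))
    rw [map_mul, map_inv, MulAut.apply_inv_self]

/-- The element `x₀⁻¹ t(x₀)` is multiplicative in the transvection `t`. -/
theorem IsTransv.w_mul {P₀ : Subgroup H} {t s : MulAut H} (ht : IsTransv P₀ t) (hs : IsTransv P₀ s) (x₀ : H) :
    x₀⁻¹ * (t * s) x₀ = (x₀⁻¹ * t x₀) * (x₀⁻¹ * s x₀) := by
  rw [MulAut.mul_apply]
  have h1 : s x₀ = x₀ * (x₀⁻¹ * s x₀) := by group
  have h2 : t (s x₀) = t x₀ * (x₀⁻¹ * s x₀) := by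
    conv_lhs => rw [h1]
    rw [map_mul, ht.1 _ (hs.2 x₀)]
  rw [h2]
  group

theorem IsTransv.w_inv {P₀ : Subgroup H} {t : MulAut H} (ht : IsTransv P₀ t) (x₀ : H) :
    x₀⁻¹ * t⁻¹ x₀ = (x₀⁻¹ * t x₀)⁻¹ := by
  have h := ht.w_mul ht.inv x₀
  rw [mul_inv_cancel, MulAut.one_apply, inv_mul_cancel] at h
  exact eq_inv_of_mul_eq_one_right h.symm

theorem IsTransv.w_pow {P₀ : Subgroup H} {t : MulAut H} (ht : IsTransv P₀ t) (x₀ : H) (n : ℕ) :
    x₀⁻¹ * (t ^ n) x₀ = (x₀⁻¹ * t x₀) ^ n := by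
  induction n with
  | zero => simp
  | succ n ih => rw [pow_succ, (ht.pow n).w_mul ht, ih, pow_succ]

/-- Lemma W: in a quotient of prime order, either `a` is trivial or `b` is a power of `a`. -/
theorem mem_or_exists_pow_mem [Finite H] {p : ℕ} [Fact p.Prime] {Q : Subgroup H} [Q.Normal]
    (hidx : Nat.card H = p * Nat.card Q) (a b : H) : a ∈ Q ∨ ∃ i : ℕ, b * (a ^ i)⁻¹ ∈ Q := by
  have hpp : p.Prime := Fact.out
  have hcardQ : Nat.card (H ⧸ Q) = p := by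
    have h1 := Subgroup.card_eq_card_quotient_mul_card_subgroup Q
    rw [hidx] at h1
    have hpos : 0 < Nat.card Q := Nat.card_pos
    exact (Nat.eq_of_mul_eq_mul_right hpos h1).symm
  by_cases ha : a ∈ Q
  · exact Or.inl ha
  · right
    have hne : (QuotientGroup.mk a : H ⧸ Q) ≠ 1 := by
      rw [Ne, QuotientGroup.eq_one_iff]
      exact ha
    have : Fact (Nat.card (H ⧸ Q)).Prime := ⟨hcardQ ▸ hpp⟩
    have htop : Subgroup.zpowers (QuotientGroup.mk a : H ⧸ Q) = ⊤ := by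
      apply zpowers_eq_top_of_prime_card (hcardQ ▸ rfl : Nat.card (H ⧸ Q) = Nat.card (H ⧸ Q)) hne
    have hb : (QuotientGroup.mk b : H ⧸ Q) ∈ Subgroup.zpowers (QuotientGroup.mk a : H ⧸ Q) := by
      rw [htop]
      exact Subgroup.mem_top _
    rw [← mem_powers_iff_mem_zpowers] at hb
    obtain ⟨i, hi⟩ := hb
    refine ⟨i, ?_⟩
    rw [← QuotientGroup.eq_one_iff, QuotientGroup.mk_mul, QuotientGroup.mk_inv, QuotientGroup.mk_pow]
    have hi' : (QuotientGroup.mk a : H ⧸ Q) ^ i = QuotientGroup.mk b := hi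
    rw [hi', mul_inv_cancel]

/-- If `t` is trivial on `P₀` of index `p` and `x₀⁻¹ t(x₀) ∈ Q` with `Q` normal, `x₀ ∉ P₀`, then `[H,t] ⊆ Q`. -/
theorem comm_mem_of_w_mem [Finite H] {p : ℕ} [Fact p.Prime] {P₀ Q : Subgroup H} [Q.Normal]
    (hidx : Nat.card H = p * Nat.card P₀) {t : MulAut H} (ht : ∀ y ∈ P₀, t y = y) {x₀ : H} (hx₀ : x₀ ∉ P₀)
    (hw : x₀⁻¹ * t x₀ ∈ Q) : ∀ y, y⁻¹ * t y ∈ Q := by
  let K : Subgroup H :=
    { carrier := {y | y⁻¹ * t y ∈ Q}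
      one_mem' := by
        show (1 : H)⁻¹ * t 1 ∈ Q
        rw [map_one, inv_one, one_mul]
        exact Q.one_mem
      mul_mem' := by
        intro y z hy hz
        show (y * z)⁻¹ * t (y * z) ∈ Q
        have hy' : y⁻¹ * t y ∈ Q := hy
        have hz' : z⁻¹ * t z ∈ Q := hz
        have e : (y * z)⁻¹ * t (y * z) = (z⁻¹ * (y⁻¹ * t y) * z⁻¹⁻¹) * (z⁻¹ * t z) := by
          rw [map_mul]; group
        rw [e]
        exact Q.mul_mem (Subgroup.Normal.conj_mem inferInstance _ hy' _) hz'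
      inv_mem' := by
        intro y hy
        show (y⁻¹)⁻¹ * t y⁻¹ ∈ Q
        have hy' : y⁻¹ * t y ∈ Q := hy
        have e : (y⁻¹)⁻¹ * t y⁻¹ = y * (y⁻¹ * t y)⁻¹ * y⁻¹ := by
          rw [map_inv]; group
        rw [e]
        exact Subgroup.Normal.conj_mem inferInstance _ (Q.inv_mem hy') _ }
  have hPK : P₀ ≤ K := by
    intro y hy
    show y⁻¹ * t y ∈ Q
    rw [ht y hy, inv_mul_cancel]
    exact Q.one_mem
  have hxK : x₀ ∈ K := hw
  have hne : P₀ ≠ K := by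
    intro h
    apply hx₀
    rw [h]
    exact hxK
  have htop : K = ⊤ := eq_top_of_lt_of_card_mul hidx hPK hne
  intro y
  have : y ∈ K := by rw [htop]; exact Subgroup.mem_top _
  exact this

/-- Two "transvections" with respect to different subgroups, with commutators in the intersection, commute. -/
theorem transv_commute {P₀ Q₀ : Subgroup H} (hab : ∀ a ∈ P₀, ∀ b ∈ P₀, a * b = b * a) {t s : MulAut H}
    (ht : ∀ y ∈ P₀, t y = y) (hs : ∀ y ∈ Q₀, s y = y) (ht2 : ∀ y, y⁻¹ * t y ∈ P₀ ⊓ Q₀)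
    (hs2 : ∀ y, y⁻¹ * s y ∈ P₀ ⊓ Q₀) : t * s = s * t := by
  ext y
  rw [MulAut.mul_apply, MulAut.mul_apply]
  have h1 : s y = y * (y⁻¹ * s y) := by group
  have h2 : t y = y * (y⁻¹ * t y) := by group
  have h3 : t (s y) = t y * (y⁻¹ * s y) := by
    conv_lhs => rw [h1]
    rw [map_mul, ht _ (hs2 y).1]
  have h4 : s (t y) = s y * (y⁻¹ * t y) := by
    conv_lhs => rw [h2]
    rw [map_mul, hs _ (ht2 y).2]
  rw [h3, h4]
  have h5 := hab _ (ht2 y).1 _ (hs2 y).1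
  calc t y * (y⁻¹ * s y) = y * ((y⁻¹ * t y) * (y⁻¹ * s y)) := by group
    _ = y * ((y⁻¹ * s y) * (y⁻¹ * t y)) := by rw [h5]
    _ = s y * (y⁻¹ * t y) := by group

/-- A subgroup of index `p` in a finite `p`-group is normal. -/
theorem normal_of_card_mul [Finite H] {p : ℕ} [Fact p.Prime] (hH : IsPGroup p H) {K : Subgroup H}
    (hidx : Nat.card H = p * Nat.card K) : K.Normal := by
  have hpp : p.Prime := Fact.out
  apply Subgroup.normal_of_index_eq_minFac_card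
  have h1 := Subgroup.index_mul_card K
  rw [hidx] at h1
  have hpos : 0 < Nat.card K := Nat.card_pos
  have h2 : K.index = p := Nat.eq_of_mul_eq_mul_right hpos h1
  obtain ⟨n, hn⟩ := hH.exists_card_eq
  have hn0 : n ≠ 0 := by
    rintro rfl
    rw [pow_zero] at hn
    rw [hn] at hidx
    have : p ∣ 1 := ⟨_, hidx⟩
    exact hpp.one_lt.ne' (Nat.dvd_one.mp this)
  rw [h2, hn, hpp.pow_minFac hn0]

end Transv

end Cfsg.Agent.Lib.Helper26
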