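import Cfsg.Agent.Lib.Helper26.EssTransvB

/-!
Transvections of an essential subgroup, modulo inner automorphisms, form a group of order at most `p`.
-/

set_option autoImplicit false
universe u

namespace Cfsg.Agent.Lib.Helper26

open Cfsg

section TransvT

variable {H : Type u} [Group H] [Finite H] {p : ℕ} [Fact p.Prime]

/-- Invariance of a subgroup under an automorphism from equality of its image. -/
theorem mem_iff_of_map_eq {K : Subgroup H} {γ : MulAut H} (h : K.map γ.toMonoidHom = K) (x : H) :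
    x ∈ K ↔ γ x ∈ K := by
  constructor
  · intro hx
    rw [← h]
    exact ⟨x, hx, rfl⟩
  · intro hx
    rw [← h] at hx
    obtain ⟨z, hz, hzx⟩ := hx
    have : z = x := γ.injective hzx
    rw [← this]
    exact hz

theorem transv_pow_eq_one (hH : IsPGroup p H) (P₀ : Subgroup H) :
    ∃ k : ℕ, ∀ t : MulAut H, IsTransv P₀ t → t ^ (p ^ k) = 1 := by
  have hB := isPGroup_chainStab_chain4 (p := p) hH P₀
  obtain ⟨k, hk⟩ := hB.exists_card_eq
  refine ⟨k, fun t ht => ?_⟩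
  have hmem : t ∈ chainStab (chain4 P₀ ⊤) (chain4_mono le_top) := mem_chainStab_chain4 ht.1 ht.2
  have h1 : (⟨t, hmem⟩ : chainStab (chain4 P₀ ⊤) (chain4_mono le_top)) ^ (p ^ k) = 1 := by
    rw [← hk]
    exact pow_card_eq_one'
  have := congrArg Subtype.val h1
  simpa using this

/-- Lemma T': assuming all transvections of `A` have image in the strongly `p`-embedded subgroup `E`. -/
theorem transv_T' (hH : IsPGroup p H) {A : Subgroup (MulAut H)} (hd : EssData p H A)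
    [hn : ((Inn H).subgroupOf A).Normal] {E : Subgroup (A ⧸ (Inn H).subgroupOf A)}
    (hE : IsStronglyPEmbedded p E) {P₀ : Subgroup H} (hab : ∀ a ∈ P₀, ∀ b ∈ P₀, a * b = b * a)
    (hidx : Nat.card H = p * Nat.card P₀)
    (hTE : ∀ (t : MulAut H) (ht : t ∈ A), IsTransv P₀ t →
      (QuotientGroup.mk (⟨t, ht⟩ : A) : A ⧸ (Inn H).subgroupOf A) ∈ E)
    {t₁ t₂ : MulAut H} (h1A : t₁ ∈ A) (h2A : t₂ ∈ A) (h1 : IsTransv P₀ t₁) (h2 : IsTransv P₀ t₂)
    (h1n : t₁ ∉ Inn H) : ∃ i : ℕ, t₂ * (t₁ ^ i)⁻¹ ∈ Inn H := by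
  have hpp : p.Prime := Fact.out
  by_contra hcon
  push Not at hcon
  -- an element outside `P₀`
  obtain ⟨x₀, hx₀⟩ : ∃ x₀ : H, x₀ ∉ P₀ := by
    by_contra hall
    push Not at hall
    have htop : P₀ = ⊤ := by
      rw [eq_top_iff]
      intro x _
      exact hall x
    rw [htop, Subgroup.card_top] at hidx
    have hpos : 0 < Nat.card H := Nat.card_pos
    have : p * Nat.card H = 1 * Nat.card H := by rw [one_mul]; exact hidx.symm
    have := Nat.eq_of_mul_eq_mul_right hpos this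
    exact hpp.one_lt.ne' this
  -- Step 1
  obtain ⟨g, hgA, hgE, hgP⟩ : ∃ g : MulAut H, ∃ hgA : g ∈ A,
      (QuotientGroup.mk (⟨g, hgA⟩ : A) : A ⧸ (Inn H).subgroupOf A) ∉ E ∧ P₀.map g.toMonoidHom ≠ P₀ := by
    by_contra hno
    push Not at hno
    obtain ⟨q₀, hq₀⟩ : ∃ q₀ : A ⧸ (Inn H).subgroupOf A, q₀ ∉ E := by
      by_contra hall
      push Not at hall
      apply hE.2.1
      rw [eq_top_iff]
      intro x _
      exact hall x
    obtain ⟨⟨g₀, hg₀A⟩, rfl⟩ := QuotientGroup.mk_surjective q₀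
    have hinv : ∀ γ ∈ A, P₀.map γ.toMonoidHom = P₀ := by
      intro γ hγ
      by_cases hγE : (QuotientGroup.mk (⟨γ, hγ⟩ : A) : A ⧸ (Inn H).subgroupOf A) ∈ E
      · have h3 : (QuotientGroup.mk (⟨g₀ * γ, A.mul_mem hg₀A hγ⟩ : A) : A ⧸ (Inn H).subgroupOf A) ∉ E := by
          intro h
          apply hq₀
          have e : (QuotientGroup.mk (⟨g₀, hg₀A⟩ : A) : A ⧸ (Inn H).subgroupOf A) =
              QuotientGroup.mk (⟨g₀ * γ, A.mul_mem hg₀A hγ⟩ : A) * (QuotientGroup.mk (⟨γ, hγ⟩ : A))⁻¹ := by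
            rw [← QuotientGroup.mk_inv, ← QuotientGroup.mk_mul]
            congr 1
            apply Subtype.ext
            show g₀ = g₀ * γ * γ⁻¹
            group
          rw [e]
          exact E.mul_mem h (E.inv_mem hγE)
        have h4 := hno (g₀ * γ) (A.mul_mem hg₀A hγ) h3
        have h5 := hno g₀ hg₀A hq₀
        have h6 : (P₀.map γ.toMonoidHom).map g₀.toMonoidHom = P₀.map g₀.toMonoidHom := by
          rw [h5, Subgroup.map_map]
          exact h4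
        exact Subgroup.map_injective g₀.injective h6
      · exact hno γ hγ hγE
    apply h1n
    exact hd.mem_inn_of_stab hH (fun γ hγ x => mem_iff_of_map_eq (hinv γ hγ) x) h1A h1.1 h1.2
  -- Step 2
  obtain ⟨Q₁, hQ₁⟩ : ∃ Q₁ : Subgroup H, Q₁ = P₀.map g.toMonoidHom := ⟨_, rfl⟩
  obtain ⟨Q₂, hQ₂⟩ : ∃ Q₂ : Subgroup H, Q₂ = P₀.map (g⁻¹).toMonoidHom := ⟨_, rfl⟩
  have hidx1 : Nat.card H = p * Nat.card Q₁ := by
    rw [hQ₁, Subgroup.card_map_of_injective g.injective]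
    exact hidx
  have hidx2 : Nat.card H = p * Nat.card Q₂ := by
    rw [hQ₂, Subgroup.card_map_of_injective (g⁻¹).injective]
    exact hidx
  have hQ₁n : Q₁.Normal := normal_of_card_mul hH hidx1
  have hQ₂n : Q₂.Normal := normal_of_card_mul hH hidx2
  -- Step 3: a non-inner transvection with commutators in a given normal subgroup of index `p`
  have hW : ∀ Q : Subgroup H, Q.Normal → Nat.card H = p * Nat.card Q →
      ∃ t ∈ A, IsTransv P₀ t ∧ t ∉ Inn H ∧ ∀ y, y⁻¹ * t y ∈ Q := by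
    intro Q hQn hQidx
    have := hQn
    rcases mem_or_exists_pow_mem hQidx (x₀⁻¹ * t₁ x₀) (x₀⁻¹ * t₂ x₀) with h | ⟨i, hi⟩
    · exact ⟨t₁, h1A, h1, h1n, comm_mem_of_w_mem hidx h1.1 hx₀ h⟩
    · have ht : IsTransv P₀ (t₂ * (t₁ ^ i)⁻¹) := h2.mul (h1.pow i).inv
      refine ⟨t₂ * (t₁ ^ i)⁻¹, A.mul_mem h2A (A.inv_mem (A.pow_mem h1A i)), ht, hcon i, ?_⟩
      apply comm_mem_of_w_mem hidx ht.1 hx₀
      rw [h2.w_mul (h1.pow i).inv, (h1.pow i).w_inv, h1.w_pow]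
      exact hi
  obtain ⟨t, htA, htT, htn, htQ⟩ := hW Q₁ hQ₁n hidx1
  obtain ⟨t', ht'A, ht'T, ht'n, ht'Q⟩ := hW Q₂ hQ₂n hidx2
  -- Step 4
  have hsT : IsTransv Q₁ (g * t' * g⁻¹) := by
    rw [hQ₁]
    exact ht'T.conj g
  have hsQ : ∀ y, y⁻¹ * (g * t' * g⁻¹) y ∈ P₀ ⊓ Q₁ := by
    intro y
    refine ⟨?_, hsT.2 y⟩
    have h3 := ht'Q (g⁻¹ y)
    rw [hQ₂] at h3
    obtain ⟨v, hv, hvz⟩ := h3
    have h4 : g ((g⁻¹ y)⁻¹ * t' (g⁻¹ y)) = v := by
      rw [← hvz]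
      show g (g⁻¹ v) = v
      rw [MulAut.apply_inv_self]
    have h5 : y⁻¹ * (g * t' * g⁻¹) y = g ((g⁻¹ y)⁻¹ * t' (g⁻¹ y)) := by
      show y⁻¹ * g (t' (g⁻¹ y)) = g ((g⁻¹ y)⁻¹ * t' (g⁻¹ y))
      rw [map_mul, map_inv, MulAut.apply_inv_self]
    rw [h5, h4]
    exact hv
  have hcomm : t * (g * t' * g⁻¹) = (g * t' * g⁻¹) * t :=
    transv_commute hab htT.1 hsT.1 (fun y => ⟨htT.2 y, htQ y⟩) hsQ
  -- Step 5
  obtain ⟨k, hk⟩ := transv_pow_eq_one hH P₀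
  have hmk1 : ∀ (u : MulAut H) (hu : u ∈ A), u ∉ Inn H →
      (QuotientGroup.mk (⟨u, hu⟩ : A) : A ⧸ (Inn H).subgroupOf A) ≠ 1 := by
    intro u hu hun h
    rw [QuotientGroup.eq_one_iff, Subgroup.mem_subgroupOf] at h
    exact hun h
  have hmkp : ∀ (u : MulAut H) (hu : u ∈ A), IsTransv P₀ u →
      (QuotientGroup.mk (⟨u, hu⟩ : A) : A ⧸ (Inn H).subgroupOf A) ^ (p ^ k) = 1 := by
    intro u hu huT
    rw [← QuotientGroup.mk_pow]
    have : (⟨u, hu⟩ : A) ^ (p ^ k) = 1 := by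
      apply Subtype.ext
      show u ^ (p ^ k) = 1
      exact hk u huT
    rw [this]
    rfl
  apply spe_not_commute hE (hTE t htA htT) (hTE t' ht'A ht'T) (hmk1 t htA htn) (hmk1 t' ht'A ht'n)
    (hmkp t htA htT) (hmkp t' ht'A ht'T) hgE
  rw [← QuotientGroup.mk_inv, ← QuotientGroup.mk_mul, ← QuotientGroup.mk_mul, ← QuotientGroup.mk_mul,
    ← QuotientGroup.mk_mul]
  congr 1
  apply Subtype.ext
  exact hcomm

/-- Lemma T: the transvections in `A` with respect to an abelian subgroup of index `p`, modulo inner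
automorphisms, form a cyclic group generated by any non-inner one. -/
theorem transv_T (hH : IsPGroup p H) {A : Subgroup (MulAut H)} (hd : EssData p H A)
    [hn : ((Inn H).subgroupOf A).Normal] {E : Subgroup (A ⧸ (Inn H).subgroupOf A)}
    (hE : IsStronglyPEmbedded p E) {P₀ : Subgroup H} (hab : ∀ a ∈ P₀, ∀ b ∈ P₀, a * b = b * a)
    (hidx : Nat.card H = p * Nat.card P₀)
    {t₁ t₂ : MulAut H} (h1A : t₁ ∈ A) (h2A : t₂ ∈ A) (h1 : IsTransv P₀ t₁) (h2 : IsTransv P₀ t₂)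
    (h1n : t₁ ∉ Inn H) : ∃ i : ℕ, t₂ * (t₁ ^ i)⁻¹ ∈ Inn H := by
  -- the `p`-group of transvections in `A`
  obtain ⟨B, hB⟩ : ∃ B : Subgroup A,
      B = (chainStab (chain4 P₀ ⊤) (chain4_mono le_top) ⊓ A).subgroupOf A := ⟨_, rfl⟩
  have hBp : IsPGroup p B := by
    rw [hB]
    exact ((isPGroup_chainStab_chain4 (p := p) hH P₀).to_le inf_le_left).comap_subtype
  obtain ⟨Bq, hBq⟩ : ∃ Bq : Subgroup (A ⧸ (Inn H).subgroupOf A),
      Bq = B.map (QuotientGroup.mk' ((Inn H).subgroupOf A)) := ⟨_, rfl⟩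
  have hBqp : IsPGroup p Bq := by
    rw [hBq]
    exact hBp.map _
  obtain ⟨R, hR⟩ := Cfsg.Agent.Lib.Helper16.spe_exists_sylow_le hE
  obtain ⟨y, -, hy⟩ := Cfsg.Agent.Lib.Helper16.exists_conj_le_sylow (Y := ⊤) R le_top
    (le_top : Bq ≤ ⊤) hBqp
  obtain ⟨⟨g, hgA⟩, rfl⟩ := QuotientGroup.mk_surjective y
  have hg1A : g⁻¹ ∈ A := A.inv_mem hgA
  have hback : (P₀.map g.toMonoidHom).map (g⁻¹).toMonoidHom = P₀ := by
    ext x
    constructor
    · rintro ⟨_, ⟨z, hz, rfl⟩, rfl⟩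
      show g⁻¹ (g z) ∈ P₀
      rw [MulAut.inv_apply_self]
      exact hz
    · intro hx
      refine ⟨g x, ⟨x, hx, rfl⟩, ?_⟩
      show g⁻¹ (g x) = x
      rw [MulAut.inv_apply_self]
  have hTE : ∀ (t : MulAut H) (ht : t ∈ A), IsTransv (P₀.map g.toMonoidHom) t →
      (QuotientGroup.mk (⟨t, ht⟩ : A) : A ⧸ (Inn H).subgroupOf A) ∈ E := by
    intro t ht htT
    have h3 : IsTransv P₀ (g⁻¹ * t * g) := by
      have := htT.conj g⁻¹
      rw [hback, inv_inv] at this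
      exact this
    have h3A : g⁻¹ * t * g ∈ A := A.mul_mem (A.mul_mem hg1A ht) hgA
    have h4 : (⟨g⁻¹ * t * g, h3A⟩ : A) ∈ B := by
      rw [hB, Subgroup.mem_subgroupOf]
      exact ⟨mem_chainStab_chain4 h3.1 h3.2, h3A⟩
    have h5 : (QuotientGroup.mk (⟨g⁻¹ * t * g, h3A⟩ : A) : A ⧸ (Inn H).subgroupOf A) ∈ Bq := by
      rw [hBq]
      exact ⟨_, h4, rfl⟩
    have h6 : (MulAut.conj (QuotientGroup.mk (⟨g, hgA⟩ : A) : A ⧸ (Inn H).subgroupOf A)).toMonoidHom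
        (QuotientGroup.mk (⟨g⁻¹ * t * g, h3A⟩ : A)) ∈ (R : Subgroup (A ⧸ (Inn H).subgroupOf A)) :=
      hy ⟨_, h5, rfl⟩
    have h7 : (MulAut.conj (QuotientGroup.mk (⟨g, hgA⟩ : A) : A ⧸ (Inn H).subgroupOf A)).toMonoidHom
        (QuotientGroup.mk (⟨g⁻¹ * t * g, h3A⟩ : A)) = QuotientGroup.mk (⟨t, ht⟩ : A) := by
      show (QuotientGroup.mk (⟨g, hgA⟩ : A) : A ⧸ (Inn H).subgroupOf A) *
        QuotientGroup.mk (⟨g⁻¹ * t * g, h3A⟩ : A) * (QuotientGroup.mk (⟨g, hgA⟩ : A))⁻¹ = _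
      rw [← QuotientGroup.mk_inv, ← QuotientGroup.mk_mul, ← QuotientGroup.mk_mul]
      congr 1
      apply Subtype.ext
      show g * (g⁻¹ * t * g) * g⁻¹ = t
      group
    rw [h7] at h6
    exact hR h6
  have hab' : ∀ a ∈ P₀.map g.toMonoidHom, ∀ b ∈ P₀.map g.toMonoidHom, a * b = b * a := by
    rintro _ ⟨a, ha, rfl⟩ _ ⟨b, hb, rfl⟩
    show g a * g b = g b * g a
    rw [← map_mul, ← map_mul, hab a ha b hb]
  have hidx' : Nat.card H = p * Nat.card (P₀.map g.toMonoidHom) := by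
    rw [Subgroup.card_map_of_injective g.injective]
    exact hidx
  have h1n' : g * t₁ * g⁻¹ ∉ Inn H := by
    intro h
    apply h1n
    have h3 := (innNormal H).conj_mem _ h g⁻¹
    have e : g⁻¹ * (g * t₁ * g⁻¹) * g⁻¹⁻¹ = t₁ := by group
    rw [e] at h3
    exact h3
  obtain ⟨i, hi⟩ := transv_T' hH hd hE hab' hidx' hTE (A.mul_mem (A.mul_mem hgA h1A) hg1A)
    (A.mul_mem (A.mul_mem hgA h2A) hg1A) (h1.conj g) (h2.conj g) h1n'
  refine ⟨i, ?_⟩
  have h3 := (innNormal H).conj_mem _ hi g⁻¹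
  have e : g⁻¹ * (g * t₂ * g⁻¹ * ((g * t₁ * g⁻¹) ^ i)⁻¹) * g⁻¹⁻¹ = t₂ * (t₁ ^ i)⁻¹ := by
    rw [conj_pow]
    group
  rw [e] at h3
  exact h3

end TransvT

end Cfsg.Agent.Lib.Helper26
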