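import Cfsg.Agent.Lib.Helper26.OliverJ

/-!
Oliver's Lemma 2.4: the fusion-theoretic assembly (part 2): `Z(S)` is generated by `z₀ = [y₀, x₀]`.
-/

set_option autoImplicit false
universe u

namespace Cfsg.Agent.Lib.Helper26

open Cfsg Cfsg.FusionSystem Cfsg.Agent.Lib.Helper27

section OliverK

theorem exists_nat_pow_of_mem_zpowers' {G : Type*} [Group G] {p : ℕ} (hp : 0 < p) {f x : G} (hf : f ^ p = 1)
    (h : x ∈ Subgroup.zpowers f) : ∃ k : ℕ, x = f ^ k := by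
  obtain ⟨n, rfl⟩ := Subgroup.mem_zpowers_iff.mp h
  refine ⟨(n % (p : ℤ)).toNat, ?_⟩
  have hp' : (0 : ℤ) < p := by exact_mod_cast hp
  have h1 : ((n % (p : ℤ)).toNat : ℤ) = n % p := Int.toNat_of_nonneg (Int.emod_nonneg n hp'.ne')
  rw [← zpow_natCast, h1]
  have h2 : n = n % p + p * (n / p) := (Int.emod_add_mul_ediv n p).symm
  conv_lhs => rw [h2]
  rw [zpow_add, zpow_mul, zpow_natCast, hf, one_zpow, mul_one]

/-- In a group of prime order generated by `f`, every nontrivial element is a generator. -/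
theorem mem_zpowers_of_mem_zpowers_of_ne_one {G : Type*} [Group G] {p : ℕ} [Fact p.Prime] {f x : G}
    (hf : f ^ p = 1) (h : x ∈ Subgroup.zpowers f) (hx : x ≠ 1) : f ∈ Subgroup.zpowers x := by
  have hpp : p.Prime := Fact.out
  obtain ⟨k, rfl⟩ := exists_nat_pow_of_mem_zpowers' hpp.pos hf h
  have hk : ¬ p ∣ k := by
    rintro ⟨m, rfl⟩
    apply hx
    rw [pow_mul, hf, one_pow]
  have hcop : Nat.Coprime k p := ((Nat.Prime.coprime_iff_not_dvd hpp).mpr hk).symm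
  apply mem_of_pow_mem_of_coprime_ol _ hcop (Subgroup.mem_zpowers _)
  rw [hf]
  exact Subgroup.one_mem _

variable {Ω : Type u} [Group Ω] {S : Subgroup Ω} {p : ℕ} {A : Subgroup Ω}

/-- The fixed points in `Z(S)` of an automorphism of `S`. -/
def fixZ (β : MulAut S) : Subgroup Ω where
  carrier := {z | z ∈ S ⊓ Subgroup.centralizer (S : Set Ω) ∧ ∀ hz : z ∈ S, β ⟨z, hz⟩ = ⟨z, hz⟩}
  one_mem' := ⟨Subgroup.one_mem _, fun _ => map_one β⟩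
  mul_mem' := by
    intro a b ha hb
    refine ⟨Subgroup.mul_mem _ ha.1 hb.1, fun hz => ?_⟩
    have e : (⟨a * b, hz⟩ : S) = ⟨a, ha.1.1⟩ * ⟨b, hb.1.1⟩ := rfl
    rw [e, map_mul, ha.2, hb.2]
  inv_mem' := by
    intro a ha
    refine ⟨Subgroup.inv_mem _ ha.1, fun hz => ?_⟩
    have e : (⟨a⁻¹, hz⟩ : S) = ⟨a, ha.1.1⟩⁻¹ := rfl
    rw [e, map_inv, ha.2]

theorem mem_fixZ {β : MulAut S} {z : Ω} :
    z ∈ fixZ β ↔ z ∈ S ⊓ Subgroup.centralizer (S : Set Ω) ∧ ∀ hz : z ∈ S, β ⟨z, hz⟩ = ⟨z, hz⟩ := Iff.rfl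

theorem map_subgroupOf_eq_of_forall {P K : Subgroup Ω} {G : Subgroup (MulAut P)}
    (hG : ∀ α ∈ G, ∀ z ∈ K, ∀ hzP : z ∈ P, ((α ⟨z, hzP⟩ : P) : Ω) ∈ K) :
    ∀ α ∈ G, (K.subgroupOf P).map α.toMonoidHom = K.subgroupOf P := by
  intro α hα
  apply le_antisymm
  · rintro _ ⟨v, hv, rfl⟩
    rw [SetLike.mem_coe, Subgroup.mem_subgroupOf] at hv
    rw [Subgroup.mem_subgroupOf]
    exact hG α hα v hv v.2
  · intro w hw
    rw [Subgroup.mem_subgroupOf] at hw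
    refine ⟨α⁻¹ w, ?_, MulAut.apply_inv_self _ _ _⟩
    rw [SetLike.mem_coe, Subgroup.mem_subgroupOf]
    exact hG α⁻¹ (G.inv_mem hα) w hw w.2

/-- An automorphism of `S` which acts on `Z(S)` like a "reflection" `d` of an essential `Z(S)⟨x⟩` is good. -/
theorem HData.goodAut [Finite S] [Fact p.Prime] {F : FusionSystem S} {P₀ : Subgroup Ω} {x₀ y₀ : Ω}
    (D₀ : HData p F A P₀ x₀ y₀) {P : Subgroup Ω} {x y : Ω} (D : HData p F A P x y) (hS : IsPGroup p S)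
    (h : IdxP p S A) (hna : ¬ IsMulCommutative ↥S) {d : MulAut P} (hdz : d (D.z₀ h) = (D.z₀ h)⁻¹)
    (hdd : ∀ z ∈ (S ⊓ Subgroup.centralizer (S : Set Ω)).subgroupOf P,
      d z * z⁻¹ ∈ Subgroup.zpowers (D.z₀ h)) {β : MulAut S}
    (hβd : ∀ (z : Ω) (hz : z ∈ S ⊓ Subgroup.centralizer (S : Set Ω)),
      ((β ⟨z, hz.1⟩ : S) : Ω) = ((d ⟨z, D.center_le hz⟩ : P) : Ω)) :
    GoodAut ((Subgroup.zpowers (y₀ * x₀ * y₀⁻¹ * x₀⁻¹)).subgroupOf S) β := by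
  have hzDW : y * x * y⁻¹ * x⁻¹ ∈ Subgroup.zpowers (y₀ * x₀ * y₀⁻¹ * x₀⁻¹) :=
    D₀.comm_mem_W hS h hna (D.isYElt h) (D.le D.xP)
  have hz₀p : (y₀ * x₀ * y₀⁻¹ * x₀⁻¹) ^ p = 1 := (D₀.isYElt h).comm_pow_p h (D₀.le D₀.xP)
  have hzD1 : y * x * y⁻¹ * x⁻¹ ≠ 1 := (D.isYElt h).comm_ne_one h D.y_not_mem (D.le D.xP) D.xA
  have hz₀mem : y₀ * x₀ * y₀⁻¹ * x₀⁻¹ ∈ Subgroup.zpowers (y * x * y⁻¹ * x⁻¹) :=
    mem_zpowers_of_mem_zpowers_of_ne_one hz₀p hzDW hzD1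
  have hzDZ : y * x * y⁻¹ * x⁻¹ ∈ S ⊓ Subgroup.centralizer (S : Set Ω) := (D.isYElt h).2 x (D.le D.xP)
  constructor
  · intro u hu
    rw [Subgroup.mem_subgroupOf] at hu
    have hu' : (u : Ω) ∈ Subgroup.zpowers (y * x * y⁻¹ * x⁻¹) := Subgroup.zpowers_le.mpr hz₀mem hu
    obtain ⟨k, hk⟩ := Subgroup.mem_zpowers_iff.mp hu'
    have huZ : (u : Ω) ∈ S ⊓ Subgroup.centralizer (S : Set Ω) := by
      rw [← hk]
      exact Subgroup.zpow_mem _ hzDZ k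
    have h1 := hβd (u : Ω) huZ
    have h2 : (⟨(u : Ω), D.center_le huZ⟩ : P) = (D.z₀ h) ^ k := by
      apply Subtype.ext
      rw [Subgroup.coe_zpow, D.z₀_coe, hk]
    apply Subtype.ext
    show ((β ⟨(u : Ω), huZ.1⟩ : S) : Ω) = (u : Ω)⁻¹
    rw [h1, h2, map_zpow, hdz, Subgroup.coe_zpow, Subgroup.coe_inv, D.z₀_coe, inv_zpow, hk]
  · intro z hz
    rw [Subgroup.mem_subgroupOf]
    have hzZ : (z : Ω) ∈ S ⊓ Subgroup.centralizer (S : Set Ω) := (mem_center_iff_coe z).mp hz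
    have h1 := hβd (z : Ω) hzZ
    have h2 := hdd ⟨(z : Ω), D.center_le hzZ⟩ (Subgroup.mem_subgroupOf.mpr hzZ)
    obtain ⟨k, hk⟩ := Subgroup.mem_zpowers_iff.mp h2
    have h3 := congrArg Subtype.val hk
    rw [Subgroup.coe_zpow, D.z₀_coe] at h3
    have h4 : ((d ⟨(z : Ω), D.center_le hzZ⟩ * (⟨(z : Ω), D.center_le hzZ⟩ : P)⁻¹ : P) : Ω) =
        ((d ⟨(z : Ω), D.center_le hzZ⟩ : P) : Ω) * (z : Ω)⁻¹ := rfl
    rw [h4] at h3
    show (z : Ω)⁻¹ * ((β ⟨(z : Ω), hzZ.1⟩ : S) : Ω) ∈ _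
    rw [h1]
    have hcomm : (z : Ω)⁻¹ * ((d ⟨(z : Ω), D.center_le hzZ⟩ : P) : Ω) =
        ((d ⟨(z : Ω), D.center_le hzZ⟩ : P) : Ω) * (z : Ω)⁻¹ := by
      have := (mem_inf_centralizer_iff.mp (Subgroup.inv_mem _ hzZ)).2 _
        (D.le (d ⟨(z : Ω), D.center_le hzZ⟩).2)
      exact this.symm
    rw [hcomm, ← h3]
    exact Subgroup.zpow_mem _ hzDW k


set_option maxHeartbeats 800000 in
/-- **Oliver, Lemma 2.4 (key step).** `Z(S)` is generated by `z₀ = [y₀, x₀]`. -/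
theorem HData.center_le_W [Finite S] [Fact p.Prime] {F : FusionSystem S} {P₀ : Subgroup Ω} {x₀ y₀ : Ω}
    (D₀ : HData p F A P₀ x₀ y₀) (hS : IsPGroup p S) (hF : F.IsSaturated p) (hp : p ≠ 2)
    (h : IdxP p S A) (hna : ¬ IsMulCommutative ↥S)
    (huniq : ∀ B : Subgroup Ω, B ≤ S → IsMulCommutative ↥B → (B.subgroupOf S).index = p → B = A)
    (hAe : ¬ F.IsEssential p A) (hcore : F.core = ⊥) :
    S ⊓ Subgroup.centralizer (S : Set Ω) ≤ Subgroup.zpowers (y₀ * x₀ * y₀⁻¹ * x₀⁻¹) := by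
  have hpp : p.Prime := Fact.out
  have hz₀p : (y₀ * x₀ * y₀⁻¹ * x₀⁻¹) ^ p = 1 := (D₀.isYElt h).comm_pow_p h (D₀.le D₀.xP)
  -- the Sylow subgroup of `Aut_F(S)`
  obtain ⟨-, R, hR⟩ := (saturated_fn hS F hF (top_fullyNormalized F)).2
  have hRle : (R : Subgroup ↥(F.autGroup S)) ≤ centerFix (F.autGroup S) := by
    intro γ' hγ'
    rw [hR, Subgroup.mem_subgroupOf] at hγ'
    obtain ⟨n, hnS, hn'⟩ := (mem_autInducedBy_iff S S _).mp hγ'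
    rw [mem_centerFix]
    intro w hw
    apply Subtype.ext
    rw [hn' w, (mem_inf_centralizer_iff.mp ((mem_center_iff_coe w).mp hw)).2 n hnS, mul_inv_cancel_right]
  have hWp : ∀ u ∈ (Subgroup.zpowers (y₀ * x₀ * y₀⁻¹ * x₀⁻¹)).subgroupOf S, u ^ p = 1 := by
    intro u hu
    rw [Subgroup.mem_subgroupOf] at hu
    obtain ⟨k, hk⟩ := Subgroup.mem_zpowers_iff.mp hu
    apply Subtype.ext
    rw [Subgroup.coe_pow, ← hk, ← zpow_natCast, ← zpow_mul, mul_comm, zpow_mul, zpow_natCast, hz₀p, one_zpow]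
    rfl
  have heq : ∀ β β' : MulAut S, β ∈ F.autGroup S → β' ∈ F.autGroup S →
      GoodAut ((Subgroup.zpowers (y₀ * x₀ * y₀⁻¹ * x₀⁻¹)).subgroupOf S) β →
      GoodAut ((Subgroup.zpowers (y₀ * x₀ * y₀⁻¹ * x₀⁻¹)).subgroupOf S) β' →
      ∀ z : S, (z : Ω) ∈ S ⊓ Subgroup.centralizer (S : Set Ω) → β z = β' z := by
    intro β β' hβ hβ' h1 h2 z hz
    exact GoodAut.eq_on_center R hRle hWp hβ hβ' h1 h2 z ((mem_center_iff_coe z).mpr hz)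
  -- the reference automorphism
  have H₀ := D₀.localHyp hS hF h
  have hfinP₀ : Finite P₀ := finite_of_le D₀.le
  obtain ⟨g₀, hg₀, hg₀t⟩ := H₀.exists_conj_not_mem
  obtain ⟨d₀, hd₀, hd₀t, hd₀z, hd₀d, hd₀sq, -, -⟩ := H₀.exists_d hp hg₀ hg₀t
  obtain ⟨β₀, hβ₀, hβ₀d⟩ := D₀.exists_aut hS hF h hAe hd₀ hd₀t
  have hG₀ := D₀.goodAut D₀ hS h hna hd₀z hd₀d hβ₀d
  -- `K` is invariant under `Aut_F(S)`
  have hK1 : ∀ α ∈ F.autGroup S, ∀ z ∈ fixZ β₀, ∀ hzS : z ∈ S, ((α ⟨z, hzS⟩ : S) : Ω) ∈ fixZ β₀ := by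
    intro α hα z hzK hzS
    have hG' : GoodAut ((Subgroup.zpowers (y₀ * x₀ * y₀⁻¹ * x₀⁻¹)).subgroupOf S) (α * β₀ * α⁻¹) := by
      constructor
      · intro u hu
        rw [Subgroup.mem_subgroupOf] at hu
        have h1 : ((α⁻¹ u : S) : Ω) ∈ Subgroup.zpowers (y₀ * x₀ * y₀⁻¹ * x₀⁻¹) :=
          D₀.aut_mem_W hS h hna huniq α⁻¹ u hu
        have h2 := hG₀.inv (α⁻¹ u) (Subgroup.mem_subgroupOf.mpr h1)
        show α (β₀ (α⁻¹ u)) = u⁻¹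
        rw [h2, map_inv, MulAut.apply_inv_self]
      · intro z₁ hz₁
        have hz' : α⁻¹ z₁ ∈ Subgroup.center ↥S := aut_mem_center_ol _ hz₁
        have h1 := hG₀.disp _ hz'
        rw [Subgroup.mem_subgroupOf] at h1 ⊢
        have h2 := D₀.aut_mem_W hS h hna huniq α _ h1
        rw [map_mul, map_inv, MulAut.apply_inv_self] at h2
        exact h2
    have e := heq (α * β₀ * α⁻¹) β₀ (Subgroup.mul_mem _ (Subgroup.mul_mem _ hα hβ₀) (Subgroup.inv_mem _ hα)) hβ₀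
      hG' hG₀
    have hαz := aut_center_mem_ol α hzK.1
    refine ⟨hαz, fun hz' => ?_⟩
    have h1 := e (α ⟨z, hzS⟩) hαz
    have h2 : (α * β₀ * α⁻¹) (α ⟨z, hzS⟩) = α (β₀ ⟨z, hzS⟩) := by
      show α (β₀ (α⁻¹ (α ⟨z, hzS⟩))) = _
      rw [MulAut.inv_apply_self]
    rw [h2, hzK.2 hzS] at h1
    exact h1.symm
  -- `K` is invariant under the automizers of the essential subgroups
  have hKess : ∀ P : Subgroup Ω, F.IsEssential p P → ∀ α ∈ F.autGroup P, ∀ z ∈ fixZ β₀, ∀ hzP : z ∈ P,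
      ((α ⟨z, hzP⟩ : P) : Ω) ∈ fixZ β₀ := by
    intro P hP α hα z hzK hzP
    have hPS : P ≤ S := hP.1.1
    have hfinP : Finite P := finite_of_le hPS
    by_cases hn : p * Nat.card ↥(S ⊓ Subgroup.centralizer (S : Set Ω)) < Nat.card P
    · have hφ : equivHom (α : P ≃* P) ∈ F.Hom P := (mem_autGroup_iff F hPS α).mp hα
      obtain ⟨β, hβ, hβφ⟩ := exists_aut_of_hom_zsys hS F hF _ (oliver_hK hS F hF h hAe) hφ hP.1 hn
      have h1 := hβφ z hzK.1 hzP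
      have h2 : ((α ⟨z, hzP⟩ : P) : Ω) = ((β ⟨z, hzK.1.1⟩ : S) : Ω) := h1
      rw [h2]
      exact hK1 β hβ z hzK hzK.1.1
    · obtain ⟨x, hxP, hxA⟩ := exists_not_mem_of_essential F h hAe hP
      have hPA := inf_eq_of_card_le F h hna hP hxP hxA hn
      obtain ⟨y, hyA, hyN, hyP⟩ := oliver_exists_a hS F hF h hP hxP hxA
      have D : HData p F A P x y := ⟨hP, hxP, hxA, hPA, hyA, hyN, hyP⟩
      have H := D.localHyp hS hF h
      have key : ∀ g ∈ F.autGroup P, ∀ w : P, (w : Ω) ∈ fixZ β₀ →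
          g⁻¹ w ∈ (S ⊓ Subgroup.centralizer (S : Set Ω)).subgroupOf P := by
        intro g hg w hw
        have hwZf : w ∈ (S ⊓ Subgroup.centralizer (S : Set Ω)).subgroupOf P :=
          Subgroup.mem_subgroupOf.mpr hw.1
        by_cases hgt : g * D.t * g⁻¹ ∈ Subgroup.zpowers D.t
        · exact H.fix_of_conj_mem hgt w hwZf
        · obtain ⟨d, hd, hdt, hdz, hdd, -, h5, -⟩ := H.exists_d hp hg hgt
          obtain ⟨β, hβ, hβd⟩ := D.exists_aut hS hF h hAe hd hdt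
          have hGβ := D₀.goodAut D hS h hna hdz hdd hβd
          have e := heq β β₀ hβ hβ₀ hGβ hG₀
          have hdw : d w = w := by
            apply Subtype.ext
            have h1 := hβd (w : Ω) hw.1
            have h2 := e ⟨(w : Ω), hw.1.1⟩ hw.1
            have h3 := hw.2 hw.1.1
            have h4 : (⟨(w : Ω), D.center_le hw.1⟩ : P) = w := rfl
            rw [h4] at h1
            rw [← h1, h2, h3]
          exact h5 w hwZf hdw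
      obtain ⟨g₁, hg₁, hg₁t⟩ := H.exists_conj_not_mem
      obtain ⟨d₁, hd₁, hd₁t, hd₁z, hd₁d, -, -, h6⟩ := H.exists_d hp hg₁ hg₁t
      obtain ⟨β₁, hβ₁, hβ₁d⟩ := D.exists_aut hS hF h hAe hd₁ hd₁t
      have hGβ₁ := D₀.goodAut D hS h hna hd₁z hd₁d hβ₁d
      have e₁ := heq β₁ β₀ hβ₁ hβ₀ hGβ₁ hG₀
      have hαw : α ⟨z, hzP⟩ ∈ (S ⊓ Subgroup.centralizer (S : Set Ω)).subgroupOf P := by
        have := key α⁻¹ (Subgroup.inv_mem _ hα) ⟨z, hzP⟩ hzK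
        rwa [inv_inv] at this
      have hg₁αw : g₁⁻¹ (α ⟨z, hzP⟩) ∈ (S ⊓ Subgroup.centralizer (S : Set Ω)).subgroupOf P := by
        have := key (α⁻¹ * g₁) (Subgroup.mul_mem _ (Subgroup.inv_mem _ hα) hg₁) ⟨z, hzP⟩ hzK
        rw [mul_inv_rev, inv_inv] at this
        exact this
      have hd₁w : d₁ (α ⟨z, hzP⟩) = α ⟨z, hzP⟩ := h6 _ hαw hg₁αw
      have hαZ : ((α ⟨z, hzP⟩ : P) : Ω) ∈ S ⊓ Subgroup.centralizer (S : Set Ω) :=
        Subgroup.mem_subgroupOf.mp hαw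
      refine ⟨hαZ, fun hz' => ?_⟩
      have h1 := hβ₁d _ hαZ
      have h2 := e₁ ⟨_, hz'⟩ hαZ
      have h4 : (⟨((α ⟨z, hzP⟩ : P) : Ω), D.center_le hαZ⟩ : P) = α ⟨z, hzP⟩ := rfl
      rw [h4, hd₁w] at h1
      rw [← h2]
      exact Subtype.ext h1
  -- `K` is normal in `F`, hence trivial
  have hKle : fixZ β₀ ≤ S ⊓ Subgroup.centralizer (S : Set Ω) := fun z hz => hz.1
  have hnorm : F.IsNormal (fixZ β₀) := by
    apply isNormal_of_forall_aut hS F hF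
    intro P hP
    rcases hP with rfl | hP
    · exact ⟨hKle.trans inf_le_left, map_subgroupOf_eq_of_forall (fun α hα z hz hzS => hK1 α hα z hz hzS)⟩
    · exact ⟨hKle.trans (center_le_of_isCentric F hP.1), map_subgroupOf_eq_of_forall (hKess P hP)⟩
  have hKbot : fixZ β₀ = ⊥ := by
    have hle : fixZ β₀ ≤ F.core := le_sSup hnorm
    rw [hcore, le_bot_iff] at hle
    exact hle
  -- conclusion
  intro z hz
  have hβz := aut_center_mem_ol β₀ hz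
  have hsq : β₀ (β₀ ⟨z, hz.1⟩) = ⟨z, hz.1⟩ := by
    apply Subtype.ext
    have h1 := hβ₀d z hz
    have h2 := hβ₀d _ hβz
    have h3 : (⟨((β₀ ⟨z, hz.1⟩ : S) : Ω), D₀.center_le hβz⟩ : P₀) = d₀ ⟨z, D₀.center_le hz⟩ :=
      Subtype.ext h1
    rw [h3] at h2
    have h4 : d₀ (d₀ ⟨z, D₀.center_le hz⟩) = ⟨z, D₀.center_le hz⟩ := by
      have := congrArg (fun σ : MulAut P₀ => σ ⟨z, D₀.center_le hz⟩) hd₀sq
      exact this
    rw [h4] at h2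
    exact h2
  have hwK : z * ((β₀ ⟨z, hz.1⟩ : S) : Ω) ∈ fixZ β₀ := by
    refine ⟨Subgroup.mul_mem _ hz hβz, fun hz' => ?_⟩
    have e : (⟨z * ((β₀ ⟨z, hz.1⟩ : S) : Ω), hz'⟩ : S) = ⟨z, hz.1⟩ * β₀ ⟨z, hz.1⟩ := rfl
    rw [e, map_mul, hsq]
    exact Subtype.ext ((mem_inf_centralizer_iff.mp hz).2 _ (β₀ ⟨z, hz.1⟩).2)
  rw [hKbot, Subgroup.mem_bot] at hwK
  have hinv : ((β₀ ⟨z, hz.1⟩ : S) : Ω) = z⁻¹ := eq_inv_of_mul_eq_one_right hwK
  have hdisp := hG₀.disp ⟨z, hz.1⟩ ((mem_center_iff_coe _).mpr hz)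
  rw [Subgroup.mem_subgroupOf] at hdisp
  have hdisp' : z⁻¹ * ((β₀ ⟨z, hz.1⟩ : S) : Ω) ∈ Subgroup.zpowers (y₀ * x₀ * y₀⁻¹ * x₀⁻¹) := hdisp
  rw [hinv] at hdisp'
  have hz2 : z ^ 2 ∈ Subgroup.zpowers (y₀ * x₀ * y₀⁻¹ * x₀⁻¹) := by
    have := Subgroup.inv_mem _ hdisp'
    rw [mul_inv_rev, inv_inv] at this
    rw [pow_two]
    exact this
  obtain ⟨k, hk⟩ := hS ⟨z, hz.1⟩
  have hk' : z ^ (p ^ k) = 1 := by
    have := congrArg Subtype.val hk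
    simpa using this
  have hcop : Nat.Coprime 2 (p ^ k) :=
    Nat.Coprime.pow_right k ((Nat.coprime_primes Nat.prime_two hpp).mpr (Ne.symm hp))
  apply mem_of_pow_mem_of_coprime_ol _ hcop hz2
  rw [hk']
  exact Subgroup.one_mem _

end OliverK

end Cfsg.Agent.Lib.Helper26
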