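import Cfsg.Agent.Lib.Helper26.ExtraspecialIndexP
import Cfsg.Agent.Lib.Helper26.OliverK

/-!
Saturated fusion systems on a `p`-group `S` of class two with commutator subgroup `⟨z₀⟩` of order `p`
(`p` odd): if `O_p(F) = 1` then `Z(S) = ⟨z₀⟩`.
-/

set_option autoImplicit false
universe u

namespace Cfsg.Agent.Lib.Helper26

open Cfsg Cfsg.FusionSystem Cfsg.Agent.Lib.Helper27

section ClassTwoBasic

variable {Ω : Type u} [Group Ω]

/-- `S` has class at most two, with all commutators in the central subgroup `⟨z₀⟩` of order `p`. -/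
structure ClassTwo (S : Subgroup Ω) (z₀ : Ω) (p : ℕ) : Prop where
  mem : z₀ ∈ S
  central : ∀ q ∈ S, q * z₀ = z₀ * q
  comm : ∀ a ∈ S, ∀ b ∈ S, a * b * a⁻¹ * b⁻¹ ∈ Subgroup.zpowers z₀
  pow : z₀ ^ p = 1
  ne : z₀ ≠ 1

variable {S : Subgroup Ω} {z₀ : Ω} {p : ℕ}

theorem ClassTwo.zpowers_central (h : ClassTwo S z₀ p) : ∀ z ∈ Subgroup.zpowers z₀, ∀ q ∈ S, q * z = z * q := by
  intro z hz q hq
  obtain ⟨n, rfl⟩ := Subgroup.mem_zpowers_iff.mp hz
  have : Commute q z₀ := h.central q hq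
  exact (this.zpow_right n).eq

theorem ClassTwo.zpowers_le (h : ClassTwo S z₀ p) : Subgroup.zpowers z₀ ≤ S :=
  Subgroup.zpowers_le.mpr h.mem

theorem ClassTwo.zpowers_le_center (h : ClassTwo S z₀ p) :
    Subgroup.zpowers z₀ ≤ S ⊓ Subgroup.centralizer (S : Set Ω) := by
  intro z hz
  rw [mem_inf_centralizer_iff]
  exact ⟨h.zpowers_le hz, fun q hq => h.zpowers_central z hz q hq⟩

theorem ClassTwo.card [hp : Fact p.Prime] (h : ClassTwo S z₀ p) : Nat.card (Subgroup.zpowers z₀) = p := by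
  rw [Nat.card_zpowers]
  exact orderOf_eq_prime h.pow h.ne

theorem ClassTwo.centralComm (h : ClassTwo S z₀ p) : CentralComm S (S ⊓ Subgroup.centralizer (S : Set Ω)) := by
  refine ⟨inf_le_left, ?_, ?_, ?_⟩
  · intro z hz q hq
    exact (mem_inf_centralizer_iff.mp hz).2 q hq
  · intro a ha b hb
    exact h.zpowers_le_center (h.comm a ha b hb)
  · intro a ha hcen
    rw [mem_inf_centralizer_iff]
    exact ⟨ha, hcen⟩

/-- If `E` contains the centralizer in `S` of one of its elements `w`, then `S = ⋃ xⁱ E` for any `x ∉ E`. -/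
theorem ClassTwo.exists_pow_mul_mem [hp : Fact p.Prime] (h : ClassTwo S z₀ p) {E : Subgroup Ω} (hES : E ≤ S)
    {w : Ω} (hw : w ∈ E) (hC : ∀ q ∈ S, q * w = w * q → q ∈ E) {x : Ω} (hxS : x ∈ S) (hxE : x ∉ E) :
    ∀ q ∈ S, ∃ i < p, (x ^ i)⁻¹ * q ∈ E := by
  have hCC := h.centralComm
  have hwS : w ∈ S := hES hw
  obtain ⟨c, hc⟩ : ∃ c, c = hCC.commHom w hwS ⟨x, hxS⟩ := ⟨_, rfl⟩
  have hcZ : c ∈ Subgroup.zpowers z₀ := hc ▸ h.comm x hxS w hwS
  have hc1 : c ≠ 1 := by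
    intro h1
    rw [hc, hCC.commHom_eq_one_iff] at h1
    exact hxE (hC x hxS h1)
  intro q hq
  obtain ⟨i, hi, hqi⟩ := exists_pow_eq_of_prime_card h.card hcZ hc1 _ (h.comm q hq w hwS)
  refine ⟨i, hi, ?_⟩
  have hmem : (x ^ i)⁻¹ * q ∈ S := S.mul_mem (S.inv_mem (S.pow_mem hxS i)) hq
  apply hC _ hmem
  have h1 : hCC.commHom w hwS ⟨(x ^ i)⁻¹ * q, hmem⟩ = 1 := by
    have e : (⟨(x ^ i)⁻¹ * q, hmem⟩ : ↥S) = (⟨x, hxS⟩ ^ i)⁻¹ * ⟨q, hq⟩ := rfl
    rw [e, map_mul, map_inv, map_pow, ← hc, hCC.commHom_apply, ← hqi, inv_mul_cancel]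
  exact (hCC.commHom_eq_one_iff w hwS _).mp h1

end ClassTwoBasic

section ClassTwoFusion

variable {Ω : Type u} [Group Ω] {S : Subgroup Ω} [Finite S] {p : ℕ} [Fact p.Prime] {z₀ : Ω}

/-- Basic facts about an essential subgroup `E` of a fusion system on a class-two group. -/
structure EssFacts (F : FusionSystem S) (z₀ : Ω) (E : Subgroup Ω) : Prop where
  le : E ≤ S
  cen : centralizerIn S E ≤ E
  zmem : z₀ ∈ E
  norm : S ≤ Subgroup.normalizer (E : Set Ω)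
  comm : ∀ a ∈ E, ∀ b ∈ E, a * b = b * a
  exw : ∃ w ∈ E, ∀ q ∈ S, q * w = w * q → q ∈ E

theorem essFacts_of_classTwo (hS : IsPGroup p S) (F : FusionSystem S) (hF : F.IsSaturated p)
    (h : ClassTwo S z₀ p) {E : Subgroup Ω} (hE : F.IsEssential p E) : EssFacts F z₀ E := by
  have hpp : p.Prime := Fact.out
  have hne : E ≠ S := essential_ne_top hS F hF hE
  have hES : E ≤ S := hE.1.1
  have hfinE : Finite E := finite_of_le hES
  have hEp : IsPGroup p E := hS.to_le hES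
  have hcen : centralizerIn S E ≤ E := hE.1.2 E (isConj_refl F hES)
  have hZE : Subgroup.zpowers z₀ ≤ E := by
    intro z hz
    apply hcen
    rw [mem_centralizerIn_iff]
    exact ⟨h.zpowers_le hz, fun x hx => h.zpowers_central z hz x (hES hx)⟩
  have hconj : ∀ q ∈ S, ∀ e ∈ E, q * e * q⁻¹ ∈ E := by
    intro q hq e he
    have h1 : q * e * q⁻¹ = (q * e * q⁻¹ * e⁻¹) * e := by group
    rw [h1]
    exact E.mul_mem (hZE (h.comm q hq e (hES he))) he
  have hQN : S ≤ Subgroup.normalizer (E : Set Ω) := by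
    intro q hq
    rw [Subgroup.mem_normalizer_iff]
    intro e
    constructor
    · exact hconj q hq e
    · intro he
      have := hconj q⁻¹ (S.inv_mem hq) _ he
      have e1 : q⁻¹ * (q * e * q⁻¹) * q⁻¹⁻¹ = e := by group
      rwa [e1] at this
  have hd := essData_of_essential hS F hE
  obtain ⟨hn, M, hM⟩ := hE.2.2
  obtain ⟨zE, hzE⟩ : ∃ zE : ↥E, zE = ⟨z₀, hZE (Subgroup.mem_zpowers z₀)⟩ := ⟨_, rfl⟩
  have hzEc : ∀ y : ↥E, zE * y = y * zE := by
    intro y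
    apply Subtype.ext
    rw [hzE]
    exact (h.central y (hES y.2)).symm
  have hmemK : ∀ y : ↥E, (y : Ω) ∈ Subgroup.zpowers z₀ → y ∈ Subgroup.zpowers zE := by
    intro y hy
    obtain ⟨j, hj⟩ := Subgroup.mem_zpowers_iff.mp hy
    rw [Subgroup.mem_zpowers_iff]
    refine ⟨j, ?_⟩
    apply Subtype.ext
    rw [hzE, Subgroup.coe_zpow]
    exact hj
  have hKmem : ∀ y ∈ Subgroup.zpowers zE, (y : Ω) ∈ Subgroup.zpowers z₀ := by
    intro y hy
    obtain ⟨n, rfl⟩ := Subgroup.mem_zpowers_iff.mp hy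
    rw [hzE, Subgroup.coe_zpow]
    exact Subgroup.zpow_mem _ (Subgroup.mem_zpowers z₀) n
  have htr : ∀ (q : Ω) (hq : q ∈ S),
      IsTransv (Subgroup.zpowers zE) (E.normalizerMonoidHom ⟨q, hQN hq⟩) := by
    intro q hq
    refine ⟨fun y hy => ?_, fun y => ?_⟩
    · apply Subtype.ext
      show q * (y : Ω) * q⁻¹ = y
      rw [h.zpowers_central _ (hKmem y hy) q hq]
      group
    · apply hmemK
      show (y : Ω)⁻¹ * (q * (y : Ω) * q⁻¹) ∈ Subgroup.zpowers z₀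
      have := h.comm (y : Ω)⁻¹ (S.inv_mem (hES y.2)) q hq
      rw [inv_inv] at this
      have e1 : (y : Ω)⁻¹ * (q * (y : Ω) * q⁻¹) = (y : Ω)⁻¹ * q * (y : Ω) * q⁻¹ := by group
      rw [e1]
      exact this
  have hinn : ∀ (q : Ω) (hq : q ∈ S), E.normalizerMonoidHom ⟨q, hQN hq⟩ ∈ Inn ↥E → q ∈ E :=
    fun q hq hi => mem_of_normalizerMonoidHom_mem_inn F hE.1 hq (hQN hq) hi
  have hA : ∀ (q : Ω) (hq : q ∈ S), E.normalizerMonoidHom ⟨q, hQN hq⟩ ∈ F.autGroup E := fun q hq =>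
    autInducedBy_le_autGroup F hES (normalizerMonoidHom_mem_autInducedBy hq (hQN hq))
  -- `E` is abelian
  have hab : ∀ a ∈ E, ∀ b ∈ E, a * b = b * a := by
    by_contra hcon
    push Not at hcon
    obtain ⟨a, ha, b, hb, habne⟩ := hcon
    have hle : commutator ↥E ≤ Subgroup.zpowers zE := by
      rw [commutator_def, Subgroup.commutator_le]
      intro g₁ _ g₂ _
      apply hmemK
      show (g₁ : Ω) * (g₂ : Ω) * (g₁ : Ω)⁻¹ * (g₂ : Ω)⁻¹ ∈ Subgroup.zpowers z₀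
      exact h.comm _ (hES g₁.2) _ (hES g₂.2)
    have hcardK : Nat.card (Subgroup.zpowers zE) = p := by
      rw [Nat.card_zpowers]
      have h1 : orderOf zE = orderOf z₀ := by
        rw [hzE, Subgroup.orderOf_mk]
      rw [h1]
      exact orderOf_eq_prime h.pow h.ne
    have hne1 : commutator ↥E ≠ ⊥ := by
      intro hbot
      obtain ⟨a', ha'⟩ : ∃ a' : ↥E, a' = ⟨a, ha⟩ := ⟨_, rfl⟩
      obtain ⟨b', hb'⟩ : ∃ b' : ↥E, b' = ⟨b, hb⟩ := ⟨_, rfl⟩
      have h1 : a' * b' * a'⁻¹ * b'⁻¹ ∈ commutator ↥E := by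
        rw [commutator_def, ← commutatorElement_def]
        exact Subgroup.commutator_mem_commutator (Subgroup.mem_top _) (Subgroup.mem_top _)
      rw [hbot, Subgroup.mem_bot, ← commutatorElement_def, commutatorElement_eq_one_iff_mul_comm] at h1
      have h2 := congrArg Subtype.val h1
      rw [ha', hb'] at h2
      exact habne h2
    have heq : commutator ↥E = Subgroup.zpowers zE := by
      apply Subgroup.eq_of_le_of_card_ge hle
      have h1 : Nat.card (commutator ↥E) ∣ p := hcardK ▸ Subgroup.card_dvd_of_le hle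
      rcases (Nat.dvd_prime hpp).mp h1 with h2 | h2
      · exact absurd (Subgroup.card_eq_one.mp h2) hne1
      · rw [hcardK, h2]
    have hinv : ∀ γ ∈ F.autGroup E, ∀ x, x ∈ Subgroup.zpowers zE ↔ γ x ∈ Subgroup.zpowers zE := by
      intro γ _ x
      rw [← heq]
      have hchar : (commutator ↥E).Characteristic := inferInstance
      have h1 := hchar.fixed γ
      constructor
      · intro hx
        rw [← h1] at hx
        exact hx
      · intro hx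
        rw [← h1]
        exact hx
    apply hne
    apply le_antisymm hES
    intro q hq
    apply hinn q hq
    exact hd.mem_inn_of_stab hEp hinv (hA q hq) (htr q hq).1 (htr q hq).2
  refine ⟨hES, hcen, hZE (Subgroup.mem_zpowers z₀), hQN, hab, ?_⟩
  by_contra hno
  push Not at hno
  apply false_of_central_transv hEp hM zE hzEc (autInducedBy S E) (autInducedBy_le_autGroup F hES)
  · intro t ht
    obtain ⟨q, hq, hqN, rfl⟩ := (mem_autInducedBy_iff' S E t).mp ht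
    exact htr q hq
  · intro w
    obtain ⟨q, hq, hqw, hqE⟩ := hno w w.2
    refine ⟨_, normalizerMonoidHom_mem_autInducedBy hq (hQN hq), fun hi => hqE (hinn q hq hi), ?_⟩
    apply Subtype.ext
    show q * (w : Ω) * q⁻¹ = w
    rw [hqw]
    group

end ClassTwoFusion

section ClassTwoLocal

variable {Ω : Type u} [Group Ω] {S : Subgroup Ω} [Finite S] {p : ℕ} [Fact p.Prime] {z₀ : Ω}

/-- A map of the system defined on a subgroup containing `S` restricts to an element of `Aut_F(S)`. -/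
theorem exists_aut_of_hom_ge (F : FusionSystem S) {R : Subgroup Ω} {ψ : R →* Ω} (hψ : ψ ∈ F.Hom R)
    (hSR : S ≤ R) : ∃ β ∈ F.autGroup S, ∀ (s : Ω) (hs : s ∈ S), ((β ⟨s, hs⟩ : S) : Ω) = ψ ⟨s, hSR hs⟩ := by
  have hφ : ψ.comp (Subgroup.inclusion hSR) ∈ F.Hom S := inclusion_comp_mem F hSR hψ
  have hr : (ψ.comp (Subgroup.inclusion hSR)).range = S := by
    haveI : Finite ↥(ψ.comp (Subgroup.inclusion hSR)).range := finite_of_le (range_le F hφ)
    apply Subgroup.eq_of_le_of_card_ge (range_le F hφ)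
    have hinj := F.injective_of_mem hφ
    exact Nat.card_le_card_of_injective (fun s : S => (⟨_, ⟨s, rfl⟩⟩ : (ψ.comp (Subgroup.inclusion hSR)).range))
      (fun a b hab => hinj (congrArg Subtype.val hab))
  refine ⟨homEquiv F hφ hr, ?_, fun s hs => rfl⟩
  rw [mem_autGroup_iff_isFIso F le_rfl]
  exact homEquiv_isFIso F hφ hr

/-- Every element of `S` is `yⁱ e` with `e ∈ P`. -/
theorem EssFacts.exists_pow_mul_mem {F : FusionSystem S} {P : Subgroup Ω} (hEF : EssFacts F z₀ P)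
    (h : ClassTwo S z₀ p) {y : Ω} (hyS : y ∈ S) (hyP : y ∉ P) : ∀ q ∈ S, ∃ i < p, (y ^ i)⁻¹ * q ∈ P := by
  obtain ⟨w, hw, hC⟩ := hEF.exw
  exact h.exists_pow_mul_mem hEF.le hw hC hyS hyP

/-- An element of `P` commuting with `y ∉ P` is central in `S`. -/
theorem EssFacts.mem_center {F : FusionSystem S} {P : Subgroup Ω} (hEF : EssFacts F z₀ P)
    (h : ClassTwo S z₀ p) {y : Ω} (hyS : y ∈ S) (hyP : y ∉ P) {e : Ω} (he : e ∈ P) (hey : y * e = e * y) :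
    e ∈ S ⊓ Subgroup.centralizer (S : Set Ω) := by
  rw [mem_inf_centralizer_iff]
  refine ⟨hEF.le he, fun q hq => ?_⟩
  obtain ⟨i, -, hqi⟩ := hEF.exists_pow_mul_mem h hyS hyP q hq
  have h3 : Commute e y := hey.symm
  have h4 : Commute e ((y ^ i)⁻¹ * q) := hEF.comm _ he _ hqi
  have h5 : q = y ^ i * ((y ^ i)⁻¹ * q) := by group
  rw [h5]
  exact ((h3.pow_right i).mul_right h4).symm.eq

/-- The automorphisms of `P` induced by `S` are the powers of `c_y`. -/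
theorem EssFacts.autInducedBy_le {F : FusionSystem S} {P : Subgroup Ω} (hEF : EssFacts F z₀ P)
    (h : ClassTwo S z₀ p) {y : Ω} (hyS : y ∈ S) (hyP : y ∉ P) :
    autInducedBy S P ≤ Subgroup.zpowers (P.normalizerMonoidHom ⟨y, hEF.norm hyS⟩) := by
  intro α hα
  obtain ⟨s, hs, hsN, rfl⟩ := (mem_autInducedBy_iff' S P α).mp hα
  obtain ⟨i, -, hsi⟩ := hEF.exists_pow_mul_mem h hyS hyP s hs
  rw [Subgroup.mem_zpowers_iff]
  refine ⟨i, ?_⟩
  ext x
  rw [zpow_natCast, ← map_pow]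
  show ((⟨y, hEF.norm hyS⟩ : Subgroup.normalizer (P : Set Ω)) ^ i : Subgroup.normalizer (P : Set Ω)) * (x : Ω) *
    (((⟨y, hEF.norm hyS⟩ : Subgroup.normalizer (P : Set Ω)) ^ i : Subgroup.normalizer (P : Set Ω)) : Ω)⁻¹ =
    s * (x : Ω) * s⁻¹
  rw [Subgroup.coe_pow]
  show y ^ i * (x : Ω) * (y ^ i)⁻¹ = s * (x : Ω) * s⁻¹
  obtain ⟨e, he⟩ : ∃ e, e = (y ^ i)⁻¹ * s := ⟨_, rfl⟩
  have heP : e ∈ P := he ▸ hsi
  have hs' : s = y ^ i * e := by rw [he]; group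
  have hex : e * (x : Ω) = (x : Ω) * e := hEF.comm _ heP _ x.2
  rw [hs']
  calc y ^ i * (x : Ω) * (y ^ i)⁻¹ = y ^ i * ((x : Ω) * e * e⁻¹) * (y ^ i)⁻¹ := by group
    _ = y ^ i * (e * (x : Ω) * e⁻¹) * (y ^ i)⁻¹ := by rw [hex]
    _ = y ^ i * e * (x : Ω) * (y ^ i * e)⁻¹ := by group

theorem localHyp_of_classTwo (hS : IsPGroup p S) (F : FusionSystem S) (hF : F.IsSaturated p)
    (h : ClassTwo S z₀ p) {P : Subgroup Ω} (hP : F.IsEssential p P) (hEF : EssFacts F z₀ P) {y : Ω}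
    (hyS : y ∈ S) (hyP : y ∉ P) :
    LocalHypG p (F.autGroup P) (P.normalizerMonoidHom ⟨y, hEF.norm hyS⟩)
      ((S ⊓ Subgroup.centralizer (S : Set Ω)).subgroupOf P) ⟨z₀, hEF.zmem⟩ := by
  have hfinP : Finite P := finite_of_le hEF.le
  refine ⟨fun a b => Subtype.ext (hEF.comm a a.2 b b.2), hS.to_le hEF.le, essData_of_essential hS F hP, ?_,
    autInducedBy_le_autGroup F hEF.le (normalizerMonoidHom_mem_autInducedBy hyS (hEF.norm hyS)), ?_, ?_, ?_, ?_, ?_, ?_⟩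
  · intro Q hQ hQp
    obtain ⟨χ, hχ, hχQ⟩ := exists_conj_mem_autInducedBy F (saturated_fn hS F hF hP.2.1).2 Q hQ hQp
    exact ⟨χ, hχ, fun α hα => hEF.autInducedBy_le h hyS hyP (hχQ α hα)⟩
  · intro ht
    apply hyP
    apply mem_of_normalizerMonoidHom_mem_inn F hP.1 hyS (hEF.norm hyS)
    rw [ht]
    exact Subgroup.one_mem _
  · intro w
    rw [Subgroup.mem_subgroupOf]
    constructor
    · intro hw
      apply hEF.mem_center h hyS hyP w.2
      have h1 : y * (w : Ω) * y⁻¹ = w := congrArg Subtype.val hw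
      calc y * (w : Ω) = (y * (w : Ω) * y⁻¹) * y := by group
        _ = (w : Ω) * y := by rw [h1]
    · intro hw
      apply Subtype.ext
      show y * (w : Ω) * y⁻¹ = w
      rw [(mem_inf_centralizer_iff.mp hw).2 y hyS]
      group
  · rw [Subgroup.mem_subgroupOf]
    exact h.zpowers_le_center (Subgroup.mem_zpowers z₀)
  · intro h1
    exact h.ne (congrArg Subtype.val h1)
  · apply Subtype.ext
    rw [Subgroup.coe_pow]
    exact h.pow
  · intro w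
    have h1 := h.comm (w : Ω)⁻¹ (S.inv_mem (hEF.le w.2)) y hyS
    rw [inv_inv] at h1
    obtain ⟨j, hj⟩ := Subgroup.mem_zpowers_iff.mp h1
    rw [Subgroup.mem_zpowers_iff]
    refine ⟨j, ?_⟩
    apply Subtype.ext
    rw [Subgroup.coe_zpow]
    show z₀ ^ j = (w : Ω)⁻¹ * (y * (w : Ω) * y⁻¹)
    rw [hj]
    group

/-- An automorphism of an essential `P` commuting with `c_y` extends to an element of `Aut_F(S)`. -/
theorem EssFacts.exists_aut {F : FusionSystem S} {P : Subgroup Ω} (hEF : EssFacts F z₀ P) (hS : IsPGroup p S)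
    (hF : F.IsSaturated p) (h : ClassTwo S z₀ p) (hP : F.IsEssential p P) {y : Ω} (hyS : y ∈ S) (hyP : y ∉ P)
    {d : MulAut P} (hd : d ∈ F.autGroup P)
    (hdt : d * P.normalizerMonoidHom ⟨y, hEF.norm hyS⟩ = P.normalizerMonoidHom ⟨y, hEF.norm hyS⟩ * d) :
    ∃ β ∈ F.autGroup S, ∀ (z : Ω) (hz : z ∈ P), ((β ⟨z, hEF.le hz⟩ : S) : Ω) = ((d ⟨z, hz⟩ : P) : Ω) := by
  have hRec := saturated_fn_receptive hS F hF hP.2.1
  have hφ : equivHom (d : P ≃* P) ∈ F.Hom P := (mem_autGroup_iff F hEF.le d).mp hd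
  obtain ⟨ψ, hψ, hψφ⟩ := hRec.2 P (equivHom (d : P ≃* P)) hφ (equivHom_range _)
  have hyN : y ∈ extender S P (equivHom (d : P ≃* P)) := by
    rw [mem_extender_iff]
    refine ⟨hyS, hEF.norm hyS, y, hyS, fun w hw => ?_⟩
    have h1 : d (P.normalizerMonoidHom ⟨y, hEF.norm hyS⟩ w) = P.normalizerMonoidHom ⟨y, hEF.norm hyS⟩ (d w) := by
      have := congrArg (fun σ : MulAut P => σ w) hdt
      exact this
    have h2 : (⟨y * (w : Ω) * y⁻¹, hw⟩ : P) = P.normalizerMonoidHom ⟨y, hEF.norm hyS⟩ w := rfl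
    rw [h2]
    show ((d (P.normalizerMonoidHom ⟨y, hEF.norm hyS⟩ w) : P) : Ω) = y * ((d w : P) : Ω) * y⁻¹
    rw [h1]
    rfl
  have hPN : P ≤ extender S P (equivHom (d : P ≃* P)) := le_extender hEF.le _ (hom_apply_mem F hφ)
  have hSN : S ≤ extender S P (equivHom (d : P ≃* P)) := by
    intro q hq
    obtain ⟨i, -, hqi⟩ := hEF.exists_pow_mul_mem h hyS hyP q hq
    have h5 : q = y ^ i * ((y ^ i)⁻¹ * q) := by group
    rw [h5]
    exact Subgroup.mul_mem _ (Subgroup.pow_mem _ hyN i) (hPN hqi)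
  obtain ⟨β, hβ, hβψ⟩ := exists_aut_of_hom_ge F hψ hSN
  refine ⟨β, hβ, fun z hz => ?_⟩
  rw [hβψ z (hEF.le hz), hψφ z hz (hSN (hEF.le hz))]
  rfl

end ClassTwoLocal

section ClassTwoMain

variable {Ω : Type u} [Group Ω] {S : Subgroup Ω} [Finite S] {p : ℕ} [Fact p.Prime] {z₀ : Ω}

/-- Automorphisms of a nonabelian class-two `S` preserve `⟨z₀⟩`. -/
theorem ClassTwo.aut_mem (h : ClassTwo S z₀ p) {a b : Ω} (ha : a ∈ S) (hb : b ∈ S) (hab : a * b ≠ b * a)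
    (α : MulAut S) (u : S) (hu : (u : Ω) ∈ Subgroup.zpowers z₀) : ((α u : S) : Ω) ∈ Subgroup.zpowers z₀ := by
  obtain ⟨c, hc⟩ : ∃ c : S, c = ⟨a, ha⟩ * ⟨b, hb⟩ * (⟨a, ha⟩ : S)⁻¹ * (⟨b, hb⟩ : S)⁻¹ := ⟨_, rfl⟩
  have hcZ : (c : Ω) ∈ Subgroup.zpowers z₀ := by
    rw [hc]
    exact h.comm a ha b hb
  have hc1 : (c : Ω) ≠ 1 := by
    intro h1
    apply hab
    have h2 : a * b * a⁻¹ * b⁻¹ = 1 := by
      rw [hc] at h1
      exact h1
    calc a * b = (a * b * a⁻¹ * b⁻¹) * (b * a) := by group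
      _ = b * a := by rw [h2, one_mul]
  have hz₀c : z₀ ∈ Subgroup.zpowers (c : Ω) := mem_zpowers_of_mem_zpowers_of_ne_one h.pow hcZ hc1
  have hu' : (u : Ω) ∈ Subgroup.zpowers (c : Ω) := Subgroup.zpowers_le.mpr hz₀c hu
  obtain ⟨k, hk⟩ := Subgroup.mem_zpowers_iff.mp hu'
  have hu'' : u = c ^ k := by
    apply Subtype.ext
    rw [Subgroup.coe_zpow]
    exact hk.symm
  have hαc : ((α c : S) : Ω) ∈ Subgroup.zpowers z₀ := by
    rw [hc, map_mul, map_mul, map_mul, map_inv, map_inv]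
    exact h.comm _ (α ⟨a, ha⟩).2 _ (α ⟨b, hb⟩).2
  rw [hu'', map_zpow, Subgroup.coe_zpow]
  exact Subgroup.zpow_mem _ hαc k

/-- An automorphism of `S` acting on an essential `P` like a "reflection" `d` is good. -/
theorem EssFacts.goodAut {F : FusionSystem S} {P : Subgroup Ω} (hEF : EssFacts F z₀ P) (hP : F.IsEssential p P)
    {d : MulAut P} (hdz : d ⟨z₀, hEF.zmem⟩ = (⟨z₀, hEF.zmem⟩ : P)⁻¹)
    (hdd : ∀ z ∈ (S ⊓ Subgroup.centralizer (S : Set Ω)).subgroupOf P,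
      d z * z⁻¹ ∈ Subgroup.zpowers (⟨z₀, hEF.zmem⟩ : P)) {β : MulAut S}
    (hβd : ∀ (z : Ω) (hz : z ∈ P), ((β ⟨z, hEF.le hz⟩ : S) : Ω) = ((d ⟨z, hz⟩ : P) : Ω)) :
    GoodAut ((Subgroup.zpowers z₀).subgroupOf S) β := by
  have hZP : S ⊓ Subgroup.centralizer (S : Set Ω) ≤ P := center_le_of_isCentric F hP.1
  constructor
  · intro u hu
    rw [Subgroup.mem_subgroupOf] at hu
    obtain ⟨k, hk⟩ := Subgroup.mem_zpowers_iff.mp hu
    have huP : (u : Ω) ∈ P := by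
      rw [← hk]
      exact Subgroup.zpow_mem _ hEF.zmem k
    have h1 := hβd (u : Ω) huP
    have h2 : (⟨(u : Ω), huP⟩ : P) = (⟨z₀, hEF.zmem⟩ : P) ^ k := by
      apply Subtype.ext
      rw [Subgroup.coe_zpow]
      exact hk.symm
    apply Subtype.ext
    show ((β ⟨(u : Ω), u.2⟩ : S) : Ω) = (u : Ω)⁻¹
    rw [h1, h2, map_zpow, hdz, Subgroup.coe_zpow, Subgroup.coe_inv, inv_zpow, hk]
  · intro z hz
    rw [Subgroup.mem_subgroupOf]
    have hzZ : (z : Ω) ∈ S ⊓ Subgroup.centralizer (S : Set Ω) := (mem_center_iff_coe z).mp hz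
    have hzP : (z : Ω) ∈ P := hZP hzZ
    have h1 := hβd (z : Ω) hzP
    have h2 := hdd ⟨(z : Ω), hzP⟩ (Subgroup.mem_subgroupOf.mpr hzZ)
    obtain ⟨k, hk⟩ := Subgroup.mem_zpowers_iff.mp h2
    have h3 := congrArg Subtype.val hk
    rw [Subgroup.coe_zpow] at h3
    have h4 : ((d ⟨(z : Ω), hzP⟩ * (⟨(z : Ω), hzP⟩ : P)⁻¹ : P) : Ω) =
        ((d ⟨(z : Ω), hzP⟩ : P) : Ω) * (z : Ω)⁻¹ := rfl
    rw [h4] at h3
    show (z : Ω)⁻¹ * ((β ⟨(z : Ω), z.2⟩ : S) : Ω) ∈ _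
    rw [h1]
    have hcomm : (z : Ω)⁻¹ * ((d ⟨(z : Ω), hzP⟩ : P) : Ω) =
        ((d ⟨(z : Ω), hzP⟩ : P) : Ω) * (z : Ω)⁻¹ := by
      have := (mem_inf_centralizer_iff.mp (Subgroup.inv_mem _ hzZ)).2 _
        (hEF.le (d ⟨(z : Ω), hzP⟩).2)
      exact this.symm
    rw [hcomm, ← h3]
    exact Subgroup.zpow_mem _ (Subgroup.mem_zpowers z₀) k

end ClassTwoMain

section ClassTwoFinal

variable {Ω : Type u} [Group Ω] {S : Subgroup Ω} [Finite S] {p : ℕ} [Fact p.Prime] {z₀ : Ω}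

set_option maxHeartbeats 800000 in
/-- If `O_p(F) = 1` for a saturated fusion system on a class-two `p`-group (`p` odd) with commutators in `⟨z₀⟩`
of order `p`, then `Z(S) = ⟨z₀⟩`. -/
theorem center_le_of_classTwo (hS : IsPGroup p S) (F : FusionSystem S) (hF : F.IsSaturated p) (hp : p ≠ 2)
    (h : ClassTwo S z₀ p) (hcore : F.core = ⊥) :
    S ⊓ Subgroup.centralizer (S : Set Ω) ≤ Subgroup.zpowers z₀ := by
  have hpp : p.Prime := Fact.out
  by_cases hess : ∃ P₀ : Subgroup Ω, F.IsEssential p P₀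
  swap
  · -- no essential subgroups: `S` is normal in `F`
    exfalso
    have hnorm : F.IsNormal S := by
      apply isNormal_of_forall_aut hS F hF
      intro P hP
      rcases hP with rfl | hP
      · refine ⟨le_rfl, fun α _ => ?_⟩
        have : P.subgroupOf P = ⊤ := Subgroup.subgroupOf_self P
        rw [this]
        exact Subgroup.map_top_of_surjective _ α.surjective
      · exact absurd ⟨P, hP⟩ hess
    have hle : S ≤ F.core := le_sSup hnorm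
    rw [hcore, le_bot_iff] at hle
    have := h.mem
    rw [hle, Subgroup.mem_bot] at this
    exact h.ne this
  obtain ⟨P₀, hP₀⟩ := hess
  have hE₀ := essFacts_of_classTwo hS F hF h hP₀
  obtain ⟨y₀, hy₀S, hy₀P⟩ := SetLike.exists_of_lt (lt_of_le_of_ne hE₀.le (essential_ne_top hS F hF hP₀))
  -- a non-commuting pair
  obtain ⟨w₀, hw₀, hC₀⟩ := hE₀.exw
  have hnc : y₀ * w₀ ≠ w₀ * y₀ := fun hc => hy₀P (hC₀ y₀ hy₀S hc)
  have hautW : ∀ (α : MulAut S) (u : S), (u : Ω) ∈ Subgroup.zpowers z₀ → ((α u : S) : Ω) ∈ Subgroup.zpowers z₀ :=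
    h.aut_mem hy₀S (hE₀.le hw₀) hnc
  -- the Sylow subgroup of `Aut_F(S)`
  obtain ⟨-, R, hR⟩ := (saturated_fn hS F hF (top_fullyNormalized F)).2
  have hRle : (R : Subgroup ↥(F.autGroup S)) ≤ centerFix (F.autGroup S) := by
    intro γ' hγ'
    rw [hR, Subgroup.mem_subgroupOf] at hγ'
    obtain ⟨n, hnS, hn'⟩ := (mem_autInducedBy_iff S S _).mp hγ'
    rw [mem_centerFix]
    intro w hw
    apply Subtype.ext
    rw [hn' w, (mem_inf_centralizer_iff.mp ((mem_center_iff_coe w).mp hw)).2 n hnS, mul_inv_cancel_right]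
  have hWp : ∀ u ∈ (Subgroup.zpowers z₀).subgroupOf S, u ^ p = 1 := by
    intro u hu
    rw [Subgroup.mem_subgroupOf] at hu
    obtain ⟨k, hk⟩ := Subgroup.mem_zpowers_iff.mp hu
    apply Subtype.ext
    rw [Subgroup.coe_pow, ← hk, ← zpow_natCast, ← zpow_mul, mul_comm, zpow_mul, zpow_natCast, h.pow, one_zpow]
    rfl
  have heq : ∀ β β' : MulAut S, β ∈ F.autGroup S → β' ∈ F.autGroup S →
      GoodAut ((Subgroup.zpowers z₀).subgroupOf S) β →
      GoodAut ((Subgroup.zpowers z₀).subgroupOf S) β' →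
      ∀ z : S, (z : Ω) ∈ S ⊓ Subgroup.centralizer (S : Set Ω) → β z = β' z := by
    intro β β' hβ hβ' h1 h2 z hz
    exact GoodAut.eq_on_center R hRle hWp hβ hβ' h1 h2 z ((mem_center_iff_coe z).mpr hz)
  -- the reference automorphism
  have H₀ := localHyp_of_classTwo hS F hF h hP₀ hE₀ hy₀S hy₀P
  have hfinP₀ : Finite P₀ := finite_of_le hE₀.le
  obtain ⟨g₀, hg₀, hg₀t⟩ := H₀.exists_conj_not_mem
  obtain ⟨d₀, hd₀, hd₀t, hd₀z, hd₀d, hd₀sq, -, -⟩ := H₀.exists_d hp hg₀ hg₀t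
  obtain ⟨β₀, hβ₀, hβ₀d⟩ := hE₀.exists_aut hS hF h hP₀ hy₀S hy₀P hd₀ hd₀t
  have hG₀ := hE₀.goodAut hP₀ hd₀z hd₀d hβ₀d
  -- `K` is invariant under `Aut_F(S)`
  have hK1 : ∀ α ∈ F.autGroup S, ∀ z ∈ fixZ β₀, ∀ hzS : z ∈ S, ((α ⟨z, hzS⟩ : S) : Ω) ∈ fixZ β₀ := by
    intro α hα z hzK hzS
    have hG' : GoodAut ((Subgroup.zpowers z₀).subgroupOf S) (α * β₀ * α⁻¹) := by
      constructor
      · intro u hu
        rw [Subgroup.mem_subgroupOf] at hu
        have h1 : ((α⁻¹ u : S) : Ω) ∈ Subgroup.zpowers z₀ := hautW α⁻¹ u hu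
        have h2 := hG₀.inv (α⁻¹ u) (Subgroup.mem_subgroupOf.mpr h1)
        show α (β₀ (α⁻¹ u)) = u⁻¹
        rw [h2, map_inv, MulAut.apply_inv_self]
      · intro z₁ hz₁
        have hz' : α⁻¹ z₁ ∈ Subgroup.center ↥S := aut_mem_center_ol _ hz₁
        have h1 := hG₀.disp _ hz'
        rw [Subgroup.mem_subgroupOf] at h1 ⊢
        have h2 := hautW α _ h1
        rw [map_mul, map_inv, MulAut.apply_inv_self] at h2
        exact h2
    have e := heq (α * β₀ * α⁻¹) β₀ (Subgroup.mul_mem _ (Subgroup.mul_mem _ hα hβ₀) (Subgroup.inv_mem _ hα)) hβ₀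
      hG' hG₀
    have hαz := aut_center_mem_ol α hzK.1
    refine ⟨hαz, fun hz' => ?_⟩
    have h1 := e (α ⟨z, hzS⟩) hαz
    have h2 : (α * β₀ * α⁻¹) (α ⟨z, hzS⟩) = α (β₀ ⟨z, hzS⟩) := by
      show α (β₀ (α⁻¹ (α ⟨z, hzS⟩))) = _
      rw [MulAut.inv_apply_self]
    rw [h2, hzK.2 hzS] at h1
    exact h1.symm
  -- `K` is invariant under the automizers of the essential subgroups
  have hKess : ∀ P : Subgroup Ω, F.IsEssential p P → ∀ α ∈ F.autGroup P, ∀ z ∈ fixZ β₀, ∀ hzP : z ∈ P,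
      ((α ⟨z, hzP⟩ : P) : Ω) ∈ fixZ β₀ := by
    intro P hP α hα z hzK hzP
    have hPS : P ≤ S := hP.1.1
    have hfinP : Finite P := finite_of_le hPS
    have hE := essFacts_of_classTwo hS F hF h hP
    obtain ⟨y, hyS, hyP⟩ := SetLike.exists_of_lt (lt_of_le_of_ne hE.le (essential_ne_top hS F hF hP))
    have H := localHyp_of_classTwo hS F hF h hP hE hyS hyP
    have hZP : S ⊓ Subgroup.centralizer (S : Set Ω) ≤ P := center_le_of_isCentric F hP.1
    have key : ∀ g ∈ F.autGroup P, ∀ w : P, (w : Ω) ∈ fixZ β₀ →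
        g⁻¹ w ∈ (S ⊓ Subgroup.centralizer (S : Set Ω)).subgroupOf P := by
      intro g hg w hw
      have hwZf : w ∈ (S ⊓ Subgroup.centralizer (S : Set Ω)).subgroupOf P :=
        Subgroup.mem_subgroupOf.mpr hw.1
      by_cases hgt : g * P.normalizerMonoidHom ⟨y, hE.norm hyS⟩ * g⁻¹ ∈
          Subgroup.zpowers (P.normalizerMonoidHom ⟨y, hE.norm hyS⟩)
      · exact H.fix_of_conj_mem hgt w hwZf
      · obtain ⟨d, hd, hdt, hdz, hdd, -, h5, -⟩ := H.exists_d hp hg hgt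
        obtain ⟨β, hβ, hβd⟩ := hE.exists_aut hS hF h hP hyS hyP hd hdt
        have hGβ := hE.goodAut hP hdz hdd hβd
        have e := heq β β₀ hβ hβ₀ hGβ hG₀
        have hdw : d w = w := by
          apply Subtype.ext
          have h1 := hβd (w : Ω) w.2
          have h2 := e ⟨(w : Ω), hw.1.1⟩ hw.1
          have h3 := hw.2 hw.1.1
          have h4 : (⟨(w : Ω), w.2⟩ : P) = w := rfl
          rw [h4] at h1
          rw [← h1, h2, h3]
        exact h5 w hwZf hdw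
    obtain ⟨g₁, hg₁, hg₁t⟩ := H.exists_conj_not_mem
    obtain ⟨d₁, hd₁, hd₁t, hd₁z, hd₁d, -, -, h6⟩ := H.exists_d hp hg₁ hg₁t
    obtain ⟨β₁, hβ₁, hβ₁d⟩ := hE.exists_aut hS hF h hP hyS hyP hd₁ hd₁t
    have hGβ₁ := hE.goodAut hP hd₁z hd₁d hβ₁d
    have e₁ := heq β₁ β₀ hβ₁ hβ₀ hGβ₁ hG₀
    have hαw : α ⟨z, hzP⟩ ∈ (S ⊓ Subgroup.centralizer (S : Set Ω)).subgroupOf P := by
      have := key α⁻¹ (Subgroup.inv_mem _ hα) ⟨z, hzP⟩ hzK
      rwa [inv_inv] at this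
    have hg₁αw : g₁⁻¹ (α ⟨z, hzP⟩) ∈ (S ⊓ Subgroup.centralizer (S : Set Ω)).subgroupOf P := by
      have := key (α⁻¹ * g₁) (Subgroup.mul_mem _ (Subgroup.inv_mem _ hα) hg₁) ⟨z, hzP⟩ hzK
      rw [mul_inv_rev, inv_inv] at this
      exact this
    have hd₁w : d₁ (α ⟨z, hzP⟩) = α ⟨z, hzP⟩ := h6 _ hαw hg₁αw
    have hαZ : ((α ⟨z, hzP⟩ : P) : Ω) ∈ S ⊓ Subgroup.centralizer (S : Set Ω) :=
      Subgroup.mem_subgroupOf.mp hαw
    refine ⟨hαZ, fun hz' => ?_⟩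
    have h1 := hβ₁d _ (α ⟨z, hzP⟩).2
    have h2 := e₁ ⟨_, hz'⟩ hαZ
    have h4 : (⟨((α ⟨z, hzP⟩ : P) : Ω), (α ⟨z, hzP⟩).2⟩ : P) = α ⟨z, hzP⟩ := rfl
    rw [h4, hd₁w] at h1
    rw [← h2]
    exact Subtype.ext h1
  -- `K` is normal in `F`, hence trivial
  have hKle : fixZ β₀ ≤ S ⊓ Subgroup.centralizer (S : Set Ω) := fun z hz => hz.1
  have hnorm : F.IsNormal (fixZ β₀) := by
    apply isNormal_of_forall_aut hS F hF
    intro P hP
    rcases hP with rfl | hP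
    · exact ⟨hKle.trans inf_le_left, map_subgroupOf_eq_of_forall (fun α hα z hz hzS => hK1 α hα z hz hzS)⟩
    · exact ⟨hKle.trans (center_le_of_isCentric F hP.1), map_subgroupOf_eq_of_forall (hKess P hP)⟩
  have hKbot : fixZ β₀ = ⊥ := by
    have hle : fixZ β₀ ≤ F.core := le_sSup hnorm
    rw [hcore, le_bot_iff] at hle
    exact hle
  -- conclusion
  have hZP₀ : S ⊓ Subgroup.centralizer (S : Set Ω) ≤ P₀ := center_le_of_isCentric F hP₀.1
  intro z hz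
  have hβz := aut_center_mem_ol β₀ hz
  have hsq : β₀ (β₀ ⟨z, hz.1⟩) = ⟨z, hz.1⟩ := by
    apply Subtype.ext
    have h1 := hβ₀d z (hZP₀ hz)
    have h2 := hβ₀d _ (hZP₀ hβz)
    have h3 : (⟨((β₀ ⟨z, hz.1⟩ : S) : Ω), hZP₀ hβz⟩ : P₀) = d₀ ⟨z, hZP₀ hz⟩ :=
      Subtype.ext h1
    rw [h3] at h2
    have h4 : d₀ (d₀ ⟨z, hZP₀ hz⟩) = ⟨z, hZP₀ hz⟩ := by
      have := congrArg (fun σ : MulAut P₀ => σ ⟨z, hZP₀ hz⟩) hd₀sq
      exact this
    rw [h4] at h2
    exact h2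
  have hwK : z * ((β₀ ⟨z, hz.1⟩ : S) : Ω) ∈ fixZ β₀ := by
    refine ⟨Subgroup.mul_mem _ hz hβz, fun hz' => ?_⟩
    have e : (⟨z * ((β₀ ⟨z, hz.1⟩ : S) : Ω), hz'⟩ : S) = ⟨z, hz.1⟩ * β₀ ⟨z, hz.1⟩ := rfl
    rw [e, map_mul, hsq]
    exact Subtype.ext ((mem_inf_centralizer_iff.mp hz).2 _ (β₀ ⟨z, hz.1⟩).2)
  rw [hKbot, Subgroup.mem_bot] at hwK
  have hinv : ((β₀ ⟨z, hz.1⟩ : S) : Ω) = z⁻¹ := eq_inv_of_mul_eq_one_right hwK
  have hdisp := hG₀.disp ⟨z, hz.1⟩ ((mem_center_iff_coe _).mpr hz)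
  rw [Subgroup.mem_subgroupOf] at hdisp
  have hdisp' : z⁻¹ * ((β₀ ⟨z, hz.1⟩ : S) : Ω) ∈ Subgroup.zpowers z₀ := hdisp
  rw [hinv] at hdisp'
  have hz2 : z ^ 2 ∈ Subgroup.zpowers z₀ := by
    have := Subgroup.inv_mem _ hdisp'
    rw [mul_inv_rev, inv_inv] at this
    rw [pow_two]
    exact this
  obtain ⟨k, hk⟩ := hS ⟨z, hz.1⟩
  have hk' : z ^ (p ^ k) = 1 := by
    have := congrArg Subtype.val hk
    simpa using this
  have hcop : Nat.Coprime 2 (p ^ k) :=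
    Nat.Coprime.pow_right k ((Nat.coprime_primes Nat.prime_two hpp).mpr (Ne.symm hp))
  apply mem_of_pow_mem_of_coprime_ol _ hcop hz2
  rw [hk']
  exact Subgroup.one_mem _

end ClassTwoFinal

end Cfsg.Agent.Lib.Helper26
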