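import Cfsg.Agent.Lib.Helper26.FSIso
import Cfsg.Agent.Lib.Helper26.FSNormalizer
set_option autoImplicit false

/-!
Sylow arguments in `Aut_F(P)`; the key extension lemma (helper26's library).
-/

namespace Cfsg.Agent.Lib.Helper26

open Cfsg Cfsg.FusionSystem

variable {Ω : Type*} [Group Ω] {S : Subgroup Ω}

theorem aut_pow_apply_of_conj {P : Subgroup Ω} (α : MulAut P) (g : Ω)
    (h : ∀ x : P, ((α x : P) : Ω) = g * (x : Ω) * g⁻¹) (n : ℕ) (x : P) :
    (((α ^ n) x : P) : Ω) = g ^ n * (x : Ω) * (g ^ n)⁻¹ := by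
  induction n generalizing x with
  | zero => simp
  | succ n ih =>
    rw [pow_succ, MulAut.mul_apply, ih, h, pow_succ]
    simp only [mul_inv_rev, mul_assoc]

theorem autInducedBy_isPGroup {p : ℕ} (hS : IsPGroup p S) (P : Subgroup Ω) : IsPGroup p (autInducedBy S P) := by
  rintro ⟨α, hα⟩
  obtain ⟨g, hg, hgα⟩ := (mem_autInducedBy_iff S P α).mp hα
  obtain ⟨k, hk⟩ := hS ⟨g, hg⟩
  refine ⟨k, ?_⟩
  apply Subtype.ext
  show α ^ p ^ k = 1
  ext x
  rw [aut_pow_apply_of_conj α g hgα]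
  have : g ^ p ^ k = 1 := by
    have := congrArg Subtype.val hk
    simpa using this
  rw [this]
  simp

theorem finite_of_le [Finite S] {P : Subgroup Ω} (hP : P ≤ S) : Finite P :=
  Finite.of_injective (Subgroup.inclusion hP) (Subgroup.inclusion_injective _)

/-- `Aut_S(P) ≤ Aut_F(P)`. -/
theorem autInducedBy_le_autGroup (F : FusionSystem S) {P : Subgroup Ω} (hP : P ≤ S) :
    autInducedBy S P ≤ F.autGroup P := by
  intro α hα
  obtain ⟨g, hg, hgα⟩ := (mem_autInducedBy_iff S P α).mp hα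
  rw [mem_autGroup_iff F hP]
  have : P.subtype.comp α.toMonoidHom = conjHom P g := by
    ext x
    exact hgα x
  rw [this]
  exact F.conj_mem hP hg

/-- Sylow conjugation inside `Aut_F(P)` for a fully automized `P`. -/
theorem exists_conj_mem_autInducedBy [Finite S] (F : FusionSystem S) {p : ℕ} [Fact p.Prime] {P : Subgroup Ω}
    (hP : F.IsFullyAutomized p P) (B : Subgroup (MulAut P)) (hB : B ≤ F.autGroup P) (hBp : IsPGroup p B) :
    ∃ χ ∈ F.autGroup P, ∀ β ∈ B, χ * β * χ⁻¹ ∈ autInducedBy S P := by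
  obtain ⟨hPS, R, hR⟩ := hP
  have : Finite P := finite_of_le hPS
  have hB' : IsPGroup p (B.subgroupOf (F.autGroup P)) := by
    apply IsPGroup.of_injective hBp (B.subgroupOfEquivOfLe hB).toMonoidHom
    exact (B.subgroupOfEquivOfLe hB).injective
  obtain ⟨R', hR'⟩ := hB'.exists_le_sylow
  obtain ⟨χ, hχ⟩ := MulAction.exists_smul_eq (F.autGroup P) R' R
  refine ⟨χ, χ.2, fun β hβ => ?_⟩
  have h1 : (⟨β, hB hβ⟩ : F.autGroup P) ∈ (R' : Subgroup (F.autGroup P)) := hR' hβ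
  have h2 : χ * ⟨β, hB hβ⟩ * χ⁻¹ ∈ ((χ • R' : Sylow p (F.autGroup P)) : Subgroup (F.autGroup P)) := by
    rw [Sylow.coe_subgroup_smul]
    rw [Subgroup.mem_pointwise_smul_iff_inv_smul_mem]
    simpa [MulAut.smul_def, mul_assoc] using h1
  rw [hχ, hR] at h2
  exact h2

/-- An element whose conjugation is realised by an automorphism of `P` normalizes `P`. -/
theorem mem_normalizer_of_aut {P : Subgroup Ω} (α : MulAut P) (g : Ω)
    (h : ∀ x : P, ((α x : P) : Ω) = g * (x : Ω) * g⁻¹) : g ∈ Subgroup.normalizer (P : Set Ω) := by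
  rw [Subgroup.mem_normalizer_iff]
  intro y
  constructor
  · intro hy
    rw [← h ⟨y, hy⟩]
    exact (α ⟨y, hy⟩).2
  · intro hy
    have := h (α⁻¹ ⟨g * y * g⁻¹, hy⟩)
    have h2 : α (α⁻¹ ⟨g * y * g⁻¹, hy⟩) = ⟨g * y * g⁻¹, hy⟩ := by simp
    rw [h2] at this
    have h3 : y = ((α⁻¹ ⟨g * y * g⁻¹, hy⟩ : P) : Ω) := by
      have := mul_left_cancel (mul_right_cancel this)
      exact this
    rw [h3]
    exact (α⁻¹ ⟨g * y * g⁻¹, hy⟩).2

theorem normalizerMonoidHom_mem_autInducedBy {K P : Subgroup Ω} {g : Ω} (hgK : g ∈ K)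
    (hgN : g ∈ Subgroup.normalizer (P : Set Ω)) : P.normalizerMonoidHom ⟨g, hgN⟩ ∈ autInducedBy K P :=
  (mem_autInducedBy_iff K P _).mpr ⟨g, hgK, fun _ => rfl⟩

theorem mem_autInducedBy_iff' (K P : Subgroup Ω) (α : MulAut P) :
    α ∈ autInducedBy K P ↔ ∃ (g : Ω) (_ : g ∈ K) (hgN : g ∈ Subgroup.normalizer (P : Set Ω)),
      α = P.normalizerMonoidHom ⟨g, hgN⟩ := by
  constructor
  · intro h
    obtain ⟨g, hg, hgα⟩ := (mem_autInducedBy_iff K P α).mp h
    refine ⟨g, hg, mem_normalizer_of_aut α g hgα, ?_⟩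
    ext x
    exact hgα x
  · rintro ⟨g, hgK, hgN, rfl⟩
    exact normalizerMonoidHom_mem_autInducedBy hgK hgN

/-- If conjugation by `g` and by `g⁻¹` both map `P` into `P`, then `g` normalizes `P`. -/
theorem mem_normalizer_of_conj_mem {P : Subgroup Ω} {g : Ω} (h1 : ∀ y ∈ P, g * y * g⁻¹ ∈ P)
    (h2 : ∀ y ∈ P, g⁻¹ * y * g ∈ P) : g ∈ Subgroup.normalizer (P : Set Ω) := by
  rw [Subgroup.mem_normalizer_iff]
  intro y
  refine ⟨h1 y, fun hy => ?_⟩
  have := h2 _ hy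
  simpa [mul_assoc] using this

/-- **Key lemma.** If `P` is fully automized and receptive and `Q` is conjugate to `P` in the system, then some map
of the system `N_S(Q) → N_S(P)` carries `Q` onto `P`. -/
theorem exists_normalizer_hom [Finite S] {p : ℕ} [Fact p.Prime] (hS : IsPGroup p S) (F : FusionSystem S)
    {P Q : Subgroup Ω} (h₁ : F.IsFullyAutomized p P) (h₂ : F.IsReceptive P) (hQ : F.IsConj Q P) :
    ∃ φ ∈ F.Hom (normalizerIn S Q), (∀ x, φ x ∈ normalizerIn S P) ∧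
      (Q.subgroupOf (normalizerIn S Q)).map φ = P := by
  obtain ⟨e, he⟩ := (isConj_iff_exists_isFIso F).mp hQ
  have hQS : Q ≤ S := he.le_left
  have hPS : P ≤ S := he.le_right
  -- the transported copy of `Aut_S(Q)` inside `Aut_F(P)`
  let B : Subgroup (MulAut P) := (autInducedBy S Q).map (MulAut.congr e).toMonoidHom
  have hB : B ≤ F.autGroup P := by
    rintro _ ⟨α, hα, rfl⟩
    exact congr_mem_autGroup F he (autInducedBy_le_autGroup F hQS hα)
  have hBp : IsPGroup p B := (autInducedBy_isPGroup hS Q).map _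
  obtain ⟨χ, hχ, hχB⟩ := exists_conj_mem_autInducedBy F h₁ B hB hBp
  have hχ' : IsFIso F (χ : P ≃* P) := (mem_autGroup_iff_isFIso F hPS χ).mp hχ
  -- the adjusted isomorphism
  let e' : Q ≃* P := e.trans χ
  have he' : IsFIso F e' := he.trans hχ'
  have hr : (equivHom e').range = P := equivHom_range e'
  -- `N_S(Q)` lies in the extender
  have hN : normalizerIn S Q ≤ extender S Q (equivHom e') := by
    intro g hg
    rw [mem_extender_iff]
    have hgS : g ∈ S := normalizerIn_le S Q hg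
    have hgN : g ∈ Subgroup.normalizer (Q : Set Ω) := hg.2
    refine ⟨hgS, hgN, ?_⟩
    have hα : Q.normalizerMonoidHom ⟨g, hgN⟩ ∈ autInducedBy S Q := normalizerMonoidHom_mem_autInducedBy hgS hgN
    have hβ : MulAut.congr e (Q.normalizerMonoidHom ⟨g, hgN⟩) ∈ B := ⟨_, hα, rfl⟩
    obtain ⟨h, hh, hhc⟩ := (mem_autInducedBy_iff S P _).mp (hχB _ hβ)
    refine ⟨h, hh, fun x hx => ?_⟩
    have := hhc (e' x)
    have hcalc : (χ * MulAut.congr e (Q.normalizerMonoidHom ⟨g, hgN⟩) * χ⁻¹) (e' x) = e' ⟨g * x * g⁻¹, hx⟩ := by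
      show χ (MulAut.congr e (Q.normalizerMonoidHom ⟨g, hgN⟩) (χ⁻¹ (χ (e x)))) = χ (e ⟨g * x * g⁻¹, hx⟩)
      congr 1
      have e1 : χ⁻¹ (χ (e x)) = e x := by simp
      rw [e1]
      show e (Q.normalizerMonoidHom ⟨g, hgN⟩ (e.symm (e x))) = _
      rw [MulEquiv.symm_apply_apply]
      congr 1
    rw [hcalc] at this
    exact this
  obtain ⟨φ₁, hφ₁, hφ₁e⟩ := h₂.2 Q (equivHom e') he' hr
  refine ⟨φ₁.comp (Subgroup.inclusion hN), inclusion_comp_mem F hN hφ₁, ?_, ?_⟩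
  · -- values normalize `P`
    have hQN : Q ≤ normalizerIn S Q := fun q hq => ⟨hQS hq, Subgroup.le_normalizer hq⟩
    have key : ∀ (g : normalizerIn S Q), ∀ y ∈ P, φ₁ (Subgroup.inclusion hN g) * y * (φ₁ (Subgroup.inclusion hN g))⁻¹ ∈ P := by
      intro g y hy
      -- `y = e' x`
      obtain ⟨x, rfl⟩ : ∃ x : Q, (e' x : Ω) = y := ⟨e'.symm ⟨y, hy⟩, by simp⟩
      have hx1 : (x : Ω) ∈ extender S Q (equivHom e') := hN (hQN x.2)
      have h1 : φ₁ ⟨x, hx1⟩ = e' x := hφ₁e x x.2 hx1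
      have hgN : (g : Ω) ∈ Subgroup.normalizer (Q : Set Ω) := g.2.2
      have hgx : (g : Ω) * x * (g : Ω)⁻¹ ∈ Q := (Subgroup.mem_normalizer_iff.mp hgN _).mp x.2
      have hx2 : (g : Ω) * x * (g : Ω)⁻¹ ∈ extender S Q (equivHom e') := hN (hQN hgx)
      have h2 : φ₁ ⟨(g : Ω) * x * (g : Ω)⁻¹, hx2⟩ = e' ⟨(g : Ω) * x * (g : Ω)⁻¹, hgx⟩ := hφ₁e _ hgx hx2
      rw [← h1, ← map_inv, ← map_mul, ← map_mul]
      have h3 : Subgroup.inclusion hN g * ⟨x, hx1⟩ * (Subgroup.inclusion hN g)⁻¹ =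
          (⟨(g : Ω) * x * (g : Ω)⁻¹, hx2⟩ : extender S Q (equivHom e')) := Subtype.ext rfl
      rw [h3, h2]
      exact (e' _).2
    intro g
    refine ⟨hom_apply_mem F hφ₁ _, ?_⟩
    apply mem_normalizer_of_conj_mem (key g)
    intro y hy
    have := key g⁻¹ y hy
    simpa using this
  · rw [map_subgroupOf_eq_iff']
    have hQN : Q ≤ normalizerIn S Q := fun q hq => ⟨hQS hq, Subgroup.le_normalizer hq⟩
    constructor
    · intro y hy
      have hy1 : (y : Ω) ∈ extender S Q (equivHom e') := hN y.2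
      have h1 : φ₁ ⟨y, hy1⟩ = e' ⟨y, hy⟩ := hφ₁e y hy hy1
      show φ₁ (Subgroup.inclusion hN y) ∈ P
      have : Subgroup.inclusion hN y = ⟨y, hy1⟩ := rfl
      rw [this, h1]
      exact (e' _).2
    · intro z hz
      let x : Q := e'.symm ⟨z, hz⟩
      have hx1 : (x : Ω) ∈ extender S Q (equivHom e') := hN (hQN x.2)
      refine ⟨⟨x, hQN x.2⟩, x.2, ?_⟩
      have h1 : φ₁ ⟨x, hx1⟩ = e' x := hφ₁e x x.2 hx1
      show φ₁ (Subgroup.inclusion hN ⟨x, hQN x.2⟩) = z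
      have : Subgroup.inclusion hN ⟨x, hQN x.2⟩ = ⟨x, hx1⟩ := rfl
      rw [this, h1]
      simp [x]

end Cfsg.Agent.Lib.Helper26
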