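import Cfsg.Agent.Lib.Helper26.EssCentralTransv
import Cfsg.Agent.Lib.Helper26.FSSylow
import Cfsg.Agent.Lib.Helper26.FSSat

/-!
Essential subgroups inside a subgroup `Q` of class two with centre of prime order (e.g. extraspecial):
an essential subgroup contained in `Q` is all of `Q`, provided `|Q| > p³`.
-/

set_option autoImplicit false
universe u

namespace Cfsg.Agent.Lib.Helper26

open Cfsg Cfsg.FusionSystem

section Class2

variable {Ω : Type u} [Group Ω]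

/-- `Z` plays the role of the centre of `Q` and contains all commutators of `Q`. -/
structure CentralComm (Q Z : Subgroup Ω) : Prop where
  le : Z ≤ Q
  central : ∀ z ∈ Z, ∀ q ∈ Q, q * z = z * q
  comm : ∀ a ∈ Q, ∀ b ∈ Q, a * b * a⁻¹ * b⁻¹ ∈ Z
  center : ∀ a ∈ Q, (∀ q ∈ Q, q * a = a * q) → a ∈ Z

/-- The commutator map `a ↦ [a, v]` is a homomorphism on `Q`. -/
def CentralComm.commHom {Q Z : Subgroup Ω} (h : CentralComm Q Z) (v : Ω) (hv : v ∈ Q) : ↥Q →* Ω where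
  toFun a := (a : Ω) * v * (a : Ω)⁻¹ * v⁻¹
  map_one' := by simp
  map_mul' a b := by
    have hb := h.comm b b.2 v hv
    have h1 := h.central _ hb a a.2
    have ha := h.comm a a.2 v hv
    have h2 := h.central _ hb _ (h.le ha)
    show ((a : Ω) * (b : Ω)) * v * ((a : Ω) * (b : Ω))⁻¹ * v⁻¹ = _
    calc ((a : Ω) * (b : Ω)) * v * ((a : Ω) * (b : Ω))⁻¹ * v⁻¹
        = ((a : Ω) * ((b : Ω) * v * (b : Ω)⁻¹ * v⁻¹)) * (v * (a : Ω)⁻¹ * v⁻¹) := by group
      _ = (((b : Ω) * v * (b : Ω)⁻¹ * v⁻¹) * (a : Ω)) * (v * (a : Ω)⁻¹ * v⁻¹) := by rw [h1]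
      _ = ((b : Ω) * v * (b : Ω)⁻¹ * v⁻¹) * ((a : Ω) * v * (a : Ω)⁻¹ * v⁻¹) := by group
      _ = ((a : Ω) * v * (a : Ω)⁻¹ * v⁻¹) * ((b : Ω) * v * (b : Ω)⁻¹ * v⁻¹) := h2.symm

theorem CentralComm.commHom_apply {Q Z : Subgroup Ω} (h : CentralComm Q Z) (v : Ω) (hv : v ∈ Q) (a : ↥Q) :
    h.commHom v hv a = (a : Ω) * v * (a : Ω)⁻¹ * v⁻¹ := rfl

theorem CentralComm.commHom_mem {Q Z : Subgroup Ω} (h : CentralComm Q Z) (v : Ω) (hv : v ∈ Q) (a : ↥Q) :
    h.commHom v hv a ∈ Z := h.comm a a.2 v hv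

theorem CentralComm.commHom_eq_one_iff {Q Z : Subgroup Ω} (h : CentralComm Q Z) (v : Ω) (hv : v ∈ Q) (a : ↥Q) :
    h.commHom v hv a = 1 ↔ (a : Ω) * v = v * (a : Ω) := by
  rw [h.commHom_apply]
  constructor
  · intro h1
    have : (a : Ω) * v = ((a : Ω) * v * (a : Ω)⁻¹ * v⁻¹) * (v * (a : Ω)) := by group
    rw [this, h1, one_mul]
  · intro h1
    rw [h1]
    group

/-- Elements of a subgroup of prime order are small powers of any nontrivial member. -/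
theorem exists_pow_eq_of_prime_card {Z : Subgroup Ω} {p : ℕ} [hp : Fact p.Prime] (hZ : Nat.card Z = p) {d : Ω}
    (hd : d ∈ Z) (hd1 : d ≠ 1) : ∀ z ∈ Z, ∃ j < p, z = d ^ j := by
  have hfin : Finite Z := Nat.finite_of_card_ne_zero (by rw [hZ]; exact hp.out.ne_zero)
  have hord : orderOf d = p := by
    have h1 : orderOf (⟨d, hd⟩ : Z) ∣ p := by
      rw [← hZ]
      exact orderOf_dvd_natCard _
    rw [Subgroup.orderOf_mk] at h1
    rcases (Nat.dvd_prime hp.out).mp h1 with h2 | h2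
    · exact absurd (orderOf_eq_one_iff.mp h2) hd1
    · exact h2
  have hle : Subgroup.zpowers d ≤ Z := Subgroup.zpowers_le.mpr hd
  have heq : Subgroup.zpowers d = Z := by
    apply Subgroup.eq_of_le_of_card_ge hle
    rw [Nat.card_zpowers, hord, hZ]
  intro z hz
  rw [← heq] at hz
  obtain ⟨n, rfl⟩ := Subgroup.mem_zpowers_iff.mp hz
  have hp0 : (0 : ℤ) < p := by exact_mod_cast hp.out.pos
  refine ⟨(n % (p : ℤ)).toNat, ?_, ?_⟩
  · have h1 := Int.emod_lt_of_pos n hp0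
    have h2 := Int.emod_nonneg n hp0.ne'
    omega
  · have h2 := Int.emod_nonneg n hp0.ne'
    rw [← zpow_natCast, Int.toNat_of_nonneg h2, ← hord, zpow_mod_orderOf]

/-- Counting lemma: if `E < Q` is abelian, contains `Z`, and contains the centralizer in `Q` of one of its
elements, then `|Q| ≤ p³`. -/
theorem CentralComm.card_le {Q Z : Subgroup Ω} (h : CentralComm Q Z) {p : ℕ} [hp : Fact p.Prime]
    (hZ : Nat.card Z = p) {E : Subgroup Ω} (hEQ : E ≤ Q)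
    (hab : ∀ a ∈ E, ∀ b ∈ E, a * b = b * a) (hne : E ≠ Q) {w : Ω} (hw : w ∈ E)
    (hC : ∀ q ∈ Q, q * w = w * q → q ∈ E) : Nat.card Q ≤ p ^ 3 := by
  have hfinZ : Finite Z := Nat.finite_of_card_ne_zero (by rw [hZ]; exact hp.out.ne_zero)
  obtain ⟨x, hxQ, hxE⟩ := SetLike.exists_of_lt (lt_of_le_of_ne hEQ hne)
  have hwQ : w ∈ Q := hEQ hw
  -- `c = [x, w]`
  obtain ⟨c, hc⟩ : ∃ c, c = h.commHom w hwQ ⟨x, hxQ⟩ := ⟨_, rfl⟩
  have hcZ : c ∈ Z := hc ▸ h.commHom_mem w hwQ _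
  have hc1 : c ≠ 1 := by
    intro h1
    rw [hc, h.commHom_eq_one_iff] at h1
    exact hxE (hC x hxQ h1)
  -- `d = [w, x]`
  obtain ⟨d, hd⟩ : ∃ d, d = h.commHom x hxQ ⟨w, hwQ⟩ := ⟨_, rfl⟩
  have hdZ : d ∈ Z := hd ▸ h.commHom_mem x hxQ _
  have hd1 : d ≠ 1 := by
    intro h1
    rw [hd, h.commHom_eq_one_iff] at h1
    exact hxE (hC x hxQ h1.symm)
  -- Claim 1
  have claim1 : ∀ q ∈ Q, ∃ i < p, (x ^ i)⁻¹ * q ∈ E := by
    intro q hq
    obtain ⟨i, hi, hqi⟩ := exists_pow_eq_of_prime_card hZ hcZ hc1 _ (h.commHom_mem w hwQ ⟨q, hq⟩)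
    refine ⟨i, hi, ?_⟩
    have hmem : (x ^ i)⁻¹ * q ∈ Q := Q.mul_mem (Q.inv_mem (Q.pow_mem hxQ i)) hq
    apply hC _ hmem
    have h1 : h.commHom w hwQ ⟨(x ^ i)⁻¹ * q, hmem⟩ = 1 := by
      have e : (⟨(x ^ i)⁻¹ * q, hmem⟩ : ↥Q) = (⟨x, hxQ⟩ ^ i)⁻¹ * ⟨q, hq⟩ := rfl
      rw [e, map_mul, map_inv, map_pow, ← hc, hqi, inv_mul_cancel]
    exact (h.commHom_eq_one_iff w hwQ _).mp h1
  -- Claim 2
  have claim2 : ∀ e ∈ E, ∃ j < p, (w ^ j)⁻¹ * e ∈ Z := by
    intro e he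
    have heQ : e ∈ Q := hEQ he
    obtain ⟨j, hj, hej⟩ := exists_pow_eq_of_prime_card hZ hdZ hd1 _ (h.commHom_mem x hxQ ⟨e, heQ⟩)
    refine ⟨j, hj, ?_⟩
    have hmemE : (w ^ j)⁻¹ * e ∈ E := E.mul_mem (E.inv_mem (E.pow_mem hw j)) he
    have hmem : (w ^ j)⁻¹ * e ∈ Q := hEQ hmemE
    have h1 : h.commHom x hxQ ⟨(w ^ j)⁻¹ * e, hmem⟩ = 1 := by
      have e' : (⟨(w ^ j)⁻¹ * e, hmem⟩ : ↥Q) = (⟨w, hwQ⟩ ^ j)⁻¹ * ⟨e, heQ⟩ := rfl
      rw [e', map_mul, map_inv, map_pow, ← hd, hej, inv_mul_cancel]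
    have h2 : (w ^ j)⁻¹ * e * x = x * ((w ^ j)⁻¹ * e) := (h.commHom_eq_one_iff x hxQ _).mp h1
    apply h.center _ hmem
    intro q hq
    obtain ⟨i, -, hqi⟩ := claim1 q hq
    have h3 : Commute ((w ^ j)⁻¹ * e) x := h2
    have h4 : Commute ((w ^ j)⁻¹ * e) ((x ^ i)⁻¹ * q) := hab _ hmemE _ hqi
    have h5 : q = x ^ i * ((x ^ i)⁻¹ * q) := by group
    rw [h5]
    exact ((h3.pow_right i).mul_right h4).symm.eq
  -- the surjection
  have hsurj : Function.Surjective (fun t : Fin p × Fin p × ↥Z =>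
      (⟨x ^ (t.1 : ℕ) * w ^ (t.2.1 : ℕ) * (t.2.2 : Ω),
        Q.mul_mem (Q.mul_mem (Q.pow_mem hxQ _) (Q.pow_mem hwQ _)) (h.le t.2.2.2)⟩ : ↥Q)) := by
    rintro ⟨q, hq⟩
    obtain ⟨i, hi, hqi⟩ := claim1 q hq
    obtain ⟨j, hj, hej⟩ := claim2 _ hqi
    refine ⟨(⟨i, hi⟩, ⟨j, hj⟩, ⟨_, hej⟩), ?_⟩
    apply Subtype.ext
    show x ^ i * w ^ j * ((w ^ j)⁻¹ * ((x ^ i)⁻¹ * q)) = q
    group
  have h1 := Nat.card_le_card_of_surjective _ hsurj
  rw [Nat.card_prod, Nat.card_prod, Nat.card_fin, hZ] at h1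
  calc Nat.card Q ≤ p * (p * p) := h1
    _ = p ^ 3 := by ring

end Class2

section Fusion

variable {Ω : Type u} [Group Ω] {S : Subgroup Ω} [Finite S] {p : ℕ} [Fact p.Prime]

theorem autInducedBy_mono_left' {A B : Subgroup Ω} (h : A ≤ B) (P : Subgroup Ω) :
    autInducedBy A P ≤ autInducedBy B P := by
  intro a ha
  obtain ⟨g, hg, hga⟩ := (mem_autInducedBy_iff A P a).mp ha
  exact (mem_autInducedBy_iff B P a).mpr ⟨g, h hg, hga⟩

/-- An essential subgroup contained in a subgroup `Q` of class two with centre `Z` of order `p` and `|Q| > p³`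
is all of `Q`. -/
theorem essential_eq_of_le_centralComm (hS : IsPGroup p S) (F : FusionSystem S) {Q Z : Subgroup Ω} (hQS : Q ≤ S)
    (h : CentralComm Q Z) (hZ : Nat.card Z = p) (hcard : p ^ 3 < Nat.card Q) {E : Subgroup Ω} (hEQ : E ≤ Q)
    (hE : F.IsEssential p E) : E = Q := by
  have hpp : p.Prime := Fact.out
  by_contra hne
  have hES : E ≤ S := hEQ.trans hQS
  have hfinE : Finite E := finite_of_le hES
  have hEp : IsPGroup p E := hS.to_le hES
  have hcen : centralizerIn S E ≤ E := hE.1.2 E (isConj_refl F hES)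
  -- `Z ≤ E`
  have hZE : Z ≤ E := by
    intro z hz
    apply hcen
    rw [mem_centralizerIn_iff]
    exact ⟨hQS (h.le hz), fun x hx => h.central z hz x (hEQ hx)⟩
  -- `Q` normalizes `E`
  have hconj : ∀ q ∈ Q, ∀ e ∈ E, q * e * q⁻¹ ∈ E := by
    intro q hq e he
    have h1 : q * e * q⁻¹ = (q * e * q⁻¹ * e⁻¹) * e := by group
    rw [h1]
    exact E.mul_mem (hZE (h.comm q hq e (hEQ he))) he
  have hQN : Q ≤ Subgroup.normalizer (E : Set Ω) := by
    intro q hq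
    rw [Subgroup.mem_normalizer_iff]
    intro e
    constructor
    · exact hconj q hq e
    · intro he
      have := hconj q⁻¹ (Q.inv_mem hq) _ he
      have e1 : q⁻¹ * (q * e * q⁻¹) * q⁻¹⁻¹ = e := by group
      rwa [e1] at this
  have hd := essData_of_essential hS F hE
  obtain ⟨hn, M, hM⟩ := hE.2.2
  -- a generator of `Z`
  have hZne : ∃ z₀ ∈ Z, z₀ ≠ 1 := by
    by_contra hcon
    have hbot : Z = ⊥ := by
      rw [eq_bot_iff]
      intro z hz
      rw [Subgroup.mem_bot]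
      by_contra hz1
      exact hcon ⟨z, hz, hz1⟩
    rw [hbot, Subgroup.card_bot] at hZ
    exact hpp.one_lt.ne hZ
  obtain ⟨z₀, hz₀Z, hz₀1⟩ := hZne
  have hgen := exists_pow_eq_of_prime_card hZ hz₀Z hz₀1
  obtain ⟨zE, hzE⟩ : ∃ zE : ↥E, zE = ⟨z₀, hZE hz₀Z⟩ := ⟨_, rfl⟩
  have hzEc : ∀ y : ↥E, zE * y = y * zE := by
    intro y
    apply Subtype.ext
    rw [hzE]
    exact (h.central z₀ hz₀Z y (hEQ y.2)).symm
  have hmemK : ∀ y : ↥E, (y : Ω) ∈ Z → y ∈ Subgroup.zpowers zE := by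
    intro y hy
    obtain ⟨j, -, hj⟩ := hgen _ hy
    rw [Subgroup.mem_zpowers_iff]
    refine ⟨j, ?_⟩
    apply Subtype.ext
    rw [hzE, zpow_natCast, hj]
    rfl
  have hKmem : ∀ y ∈ Subgroup.zpowers zE, (y : Ω) ∈ Z := by
    intro y hy
    obtain ⟨n, rfl⟩ := Subgroup.mem_zpowers_iff.mp hy
    rw [hzE]
    exact Z.zpow_mem hz₀Z n
  -- the automorphisms induced by `Q`
  have htr : ∀ (q : Ω) (hq : q ∈ Q),
      IsTransv (Subgroup.zpowers zE) (E.normalizerMonoidHom ⟨q, hQN hq⟩) := by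
    intro q hq
    refine ⟨fun y hy => ?_, fun y => ?_⟩
    · apply Subtype.ext
      show q * (y : Ω) * q⁻¹ = y
      rw [h.central _ (hKmem y hy) q hq]
      group
    · apply hmemK
      show (y : Ω)⁻¹ * (q * (y : Ω) * q⁻¹) ∈ Z
      have := h.comm (y : Ω)⁻¹ (Q.inv_mem (hEQ y.2)) q hq
      rw [inv_inv] at this
      have e1 : (y : Ω)⁻¹ * (q * (y : Ω) * q⁻¹) = (y : Ω)⁻¹ * q * (y : Ω) * q⁻¹ := by group
      rw [e1]
      exact this
  have hinn : ∀ (q : Ω) (hq : q ∈ Q), E.normalizerMonoidHom ⟨q, hQN hq⟩ ∈ Inn ↥E → q ∈ E := by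
    rintro q hq ⟨e, he⟩
    have h1 : (e : Ω)⁻¹ * q ∈ centralizerIn S E := by
      rw [mem_centralizerIn_iff]
      refine ⟨S.mul_mem (S.inv_mem (hES e.2)) (hQS hq), fun x hx => ?_⟩
      have h2 := congrArg (fun α : MulAut ↥E => ((α ⟨x, hx⟩ : ↥E) : Ω)) he
      have h3 : (e : Ω) * x * (e : Ω)⁻¹ = q * x * q⁻¹ := h2
      have h4 : x * ((e : Ω)⁻¹ * q) = (e : Ω)⁻¹ * ((e : Ω) * x * (e : Ω)⁻¹) * q := by group
      rw [h4, h3]
      group
    have h2 := E.mul_mem e.2 (hcen h1)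
    rwa [mul_inv_cancel_left] at h2
  have hA : ∀ (q : Ω) (hq : q ∈ Q), E.normalizerMonoidHom ⟨q, hQN hq⟩ ∈ F.autGroup E := fun q hq =>
    autInducedBy_le_autGroup F hES (normalizerMonoidHom_mem_autInducedBy (hQS hq) (hQN hq))
  -- `E` is abelian
  have hab : ∀ a ∈ E, ∀ b ∈ E, a * b = b * a := by
    by_contra hcon
    push Not at hcon
    obtain ⟨a, ha, b, hb, habne⟩ := hcon
    -- the commutator subgroup of `E` is `⟨zE⟩`
    have hle : commutator ↥E ≤ Subgroup.zpowers zE := by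
      rw [commutator_def, Subgroup.commutator_le]
      intro g₁ _ g₂ _
      apply hmemK
      show (g₁ : Ω) * (g₂ : Ω) * (g₁ : Ω)⁻¹ * (g₂ : Ω)⁻¹ ∈ Z
      exact h.comm _ (hEQ g₁.2) _ (hEQ g₂.2)
    have hcardK : Nat.card (Subgroup.zpowers zE) = p := by
      rw [Nat.card_zpowers]
      have h1 : orderOf zE = orderOf z₀ := by
        rw [hzE, Subgroup.orderOf_mk]
      rw [h1]
      have h2 : orderOf (⟨z₀, hz₀Z⟩ : Z) ∣ p := by
        rw [← hZ]
        have : Finite Z := Nat.finite_of_card_ne_zero (by rw [hZ]; exact hpp.ne_zero)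
        exact orderOf_dvd_natCard _
      rw [Subgroup.orderOf_mk] at h2
      rcases (Nat.dvd_prime hpp).mp h2 with h3 | h3
      · exact absurd (orderOf_eq_one_iff.mp h3) hz₀1
      · exact h3
    have hne1 : commutator ↥E ≠ ⊥ := by
      intro hbot
      obtain ⟨a', ha'⟩ : ∃ a' : ↥E, a' = ⟨a, ha⟩ := ⟨_, rfl⟩
      obtain ⟨b', hb'⟩ : ∃ b' : ↥E, b' = ⟨b, hb⟩ := ⟨_, rfl⟩
      have h1 : a' * b' * a'⁻¹ * b'⁻¹ ∈ commutator ↥E := by
        rw [commutator_def, ← commutatorElement_def]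
        exact Subgroup.commutator_mem_commutator (Subgroup.mem_top _) (Subgroup.mem_top _)
      rw [hbot, Subgroup.mem_bot, ← commutatorElement_def, commutatorElement_eq_one_iff_mul_comm] at h1
      have h2 := congrArg Subtype.val h1
      rw [ha', hb'] at h2
      exact habne h2
    have heq : commutator ↥E = Subgroup.zpowers zE := by
      apply Subgroup.eq_of_le_of_card_ge hle
      have h1 : Nat.card (commutator ↥E) ∣ p := hcardK ▸ Subgroup.card_dvd_of_le hle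
      rcases (Nat.dvd_prime hpp).mp h1 with h2 | h2
      · exact absurd (Subgroup.card_eq_one.mp h2) hne1
      · rw [hcardK, h2]
    have hinv : ∀ γ ∈ F.autGroup E, ∀ x, x ∈ Subgroup.zpowers zE ↔ γ x ∈ Subgroup.zpowers zE := by
      intro γ _ x
      rw [← heq]
      have hchar : (commutator ↥E).Characteristic := inferInstance
      have h1 := hchar.fixed γ
      constructor
      · intro hx
        rw [← h1] at hx
        exact hx
      · intro hx
        rw [← h1]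
        exact hx
    apply hne
    apply le_antisymm hEQ
    intro q hq
    apply hinn q hq
    exact hd.mem_inn_of_stab hEp hinv (hA q hq) (htr q hq).1 (htr q hq).2
  -- the final contradiction
  apply false_of_central_transv hEp hM zE hzEc (autInducedBy Q E)
    ((autInducedBy_mono_left' hQS E).trans (autInducedBy_le_autGroup F hES))
  · intro t ht
    obtain ⟨q, hq, hqN, rfl⟩ := (mem_autInducedBy_iff' Q E t).mp ht
    exact htr q hq
  · intro w
    by_contra hcon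
    push Not at hcon
    have hC : ∀ q ∈ Q, q * (w : Ω) = (w : Ω) * q → q ∈ E := by
      intro q hq hqw
      apply hinn q hq
      by_contra hni
      apply hcon _ (normalizerMonoidHom_mem_autInducedBy hq (hQN hq)) hni
      apply Subtype.ext
      show q * (w : Ω) * q⁻¹ = w
      rw [hqw]
      group
    have := h.card_le hZ hEQ hab hne w.2 hC
    omega

end Fusion

end Cfsg.Agent.Lib.Helper26
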