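import Mathlib
import Cfsg.Prelude.Def_Solvable
import Cfsg.Agent.S3224
import Cfsg.Agent.Lib.Helper26.F2Defs
import Cfsg.Agent.Lib.Helper13.F2Transfer
import Cfsg.Agent.Lib.Helper13.F2Count
import Cfsg.Agent.Lib.Helper17.F2FIX3
import Cfsg.Agent.Lib.Helper17.F2INV
import Cfsg.Agent.Lib.Helper17.F2K4
import Cfsg.Agent.Lib.Helper17.F2CYC4
import Cfsg.Agent.Lib.Helper27.F2NORM
import Cfsg.Agent.Lib.Helper27.F2DICH
import Cfsg.Agent.Lib.Helper14.F2ORB
import Cfsg.Agent.Lib.Helper27.F2CENT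

set_option autoImplicit false

namespace Cfsg.Agent.Lib.Helper26.F2Main

open Cfsg.Agent.Lib.Helper26.F2

open MulAction Subgroup

variable {G : Type*} [Group G] [Finite G] {Ω : Type*} [Finite Ω] [MulAction G Ω]

/-! ## Leaves -/

/-- **F2-FIX3** -/
theorem fix3_of_card (hfix : ∀ g : G, g ≠ 1 → Nat.card (MulAction.fixedBy Ω g) ≤ 2) : Fix3 G Ω := by
  exact Cfsg.Agent.Lib.Helper17.F2FIX3.fix3_of_card hfix

/-- **F2-INV** a nontrivial 2-subgroup contains an involution. -/
theorem exists_invol (P : Subgroup G) (hP : IsPGroup 2 P) (hne : P ≠ ⊥) :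
    ∃ t ∈ P, orderOf t = 2 := by
  exact Cfsg.Agent.Lib.Helper17.F2INV.exists_invol P hP hne

/-- **F2-NORM** (Step 1) if `1 < T = P_α < P` then `T` fixes exactly one more point `β`, `P_β = T`,
and some `y ∈ P` swaps `α` and `β`. -/
theorem exists_swap (hfix3 : Fix3 G Ω) (P : Subgroup G) (hP : IsPGroup 2 P) (α : Ω)
    (hT : P ⊓ stabilizer G α ≠ ⊥) (hnot : ¬ P ≤ stabilizer G α) :
    ∃ β : Ω, β ≠ α ∧ P ⊓ stabilizer G β = P ⊓ stabilizer G α ∧
      ∃ y ∈ P, y • α = β ∧ y • β = α := by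
  exact Cfsg.Agent.Lib.Helper27.F2NORM.exists_swap hfix3 P hP α hT hnot

/-- **F2-DICH** (Steps 1+3a) `|T| = 2` or `T` has index 2 in `P`. -/
theorem card_two_or_relIndex_two (hfix3 : Fix3 G Ω) (P : Subgroup G) (hP : IsPGroup 2 P) (α : Ω)
    (hT : P ⊓ stabilizer G α ≠ ⊥) (hnot : ¬ P ≤ stabilizer G α) :
    Nat.card ↥(P ⊓ stabilizer G α) = 2 ∨ (P ⊓ stabilizer G α).relIndex P = 2 := by
  exact Cfsg.Agent.Lib.Helper27.F2DICH.card_two_or_relIndex_two hfix3 P hP α hT hnot

/-- **F2-CENT** (Step 2) if `|T| = 2` then the involution of `T` has centralizer of order 4 in `P`. -/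
theorem exists_centralizer_four (hfix3 : Fix3 G Ω) (P : Subgroup G) (hP : IsPGroup 2 P) (α : Ω)
    (hnot : ¬ P ≤ stabilizer G α) (h2 : Nat.card ↥(P ⊓ stabilizer G α) = 2) :
    ∃ t : ↥P, orderOf t = 2 ∧ Nat.card ↥(Subgroup.centralizer ({t} : Set ↥P)) = 4 := by
  exact Cfsg.Agent.Lib.Helper27.F2CENT.exists_centralizer_four hfix3 P hP α hnot h2

/-- **F2-K4** a noncyclic group of order 4 is `DihedralGroup 2`. -/
theorem klein_of_card_four (P : Type*) [Group P] (h4 : Nat.card P = 4) (hnc : ¬ IsCyclic P) :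
    Nonempty (P ≃* DihedralGroup 2) := by
  exact Cfsg.Agent.Lib.Helper17.F2K4.klein_of_card_four P h4 hnc

/-- **F2-CYC4** in a cyclic group of order 4 two subgroups of order 2 coincide. -/
theorem eq_of_card_two_of_cyclic (P : Subgroup G) (hc : IsCyclic ↥P) (A B : Subgroup G)
    (hA : A ≤ P) (hB : B ≤ P) (hA2 : Nat.card A = 2) (hB2 : Nat.card B = 2) : A = B := by
  exact Cfsg.Agent.Lib.Helper17.F2CYC4.eq_of_card_two_of_cyclic P hc A B hA hB hA2 hB2

/-- **F2-ORB** the orbit structure. -/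
theorem orbit_structure (P : Subgroup G) (α β : Ω)
    (hidx : (P ⊓ stabilizer G α).relIndex P = 2) (hβorb : ∃ y ∈ P, y • α = β)
    (hreg : ∀ ω : Ω, ω ≠ α → ω ≠ β → P ⊓ stabilizer G ω = ⊥) :
    ∃ ω : Ω, Nat.card (MulAction.orbit ↥P ω) = 2 ∧
      ∀ ω' : Ω, ω' ∉ MulAction.orbit ↥P ω → Nat.card (MulAction.orbit ↥P ω') = Nat.card ↥P := by
  exact Cfsg.Agent.Lib.Helper14.F2ORB.orbit_structure P α β hidx hβorb hreg

/-! ## Assembly -/

/-- (Step 3b and the cyclic case) all other point stabilizers in `P` are trivial, unless `P` is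
dihedral or quasidihedral. -/
theorem stab_eq_bot (hfix3 : Fix3 G Ω) (P : Subgroup G) (hP : IsPGroup 2 P) (α β : Ω)
    (hβα : β ≠ α) (hTβ : P ⊓ stabilizer G β = P ⊓ stabilizer G α)
    (hT : P ⊓ stabilizer G α ≠ ⊥) (hidx : (P ⊓ stabilizer G α).relIndex P = 2)
    (hnd : ¬ ((∃ n : ℕ, Nonempty (↥P ≃* DihedralGroup n)) ∨ Cfsg.IsQuasiDihedral ↥P)) :
    ∀ ω : Ω, ω ≠ α → ω ≠ β → P ⊓ stabilizer G ω = ⊥ := by
  intro ω hωα hωβ
  by_contra hne
  -- T fixes α and β
  have hTα' : P ⊓ stabilizer G α ≤ stabilizer G α := inf_le_right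
  have hTβ' : P ⊓ stabilizer G α ≤ stabilizer G β := hTβ ▸ inf_le_right
  obtain ⟨t, htT, ht2⟩ := exists_invol (P ⊓ stabilizer G α) (hP.to_le inf_le_left) hT
  have ht1 : t ≠ 1 := by
    rintro rfl
    rw [orderOf_one] at ht2
    exact absurd ht2 (by norm_num)
  have htα : t • α = α := hTα' htT
  have htβ : t • β = β := hTβ' htT
  -- P does not fix ω
  have hnot : ¬ P ≤ stabilizer G ω := by
    intro hle
    have : t • ω = ω := hle htT.1
    exact hfix3 t ht1 α β ω hβα.symm hωα.symm hωβ.symm htα htβ this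
  have hcardP := relIndex_mul_card_inf P (stabilizer G α)
  rw [hidx] at hcardP
  -- the case `|P_ω| = 2`
  have hcase2 : Nat.card ↥(P ⊓ stabilizer G ω) = 2 → False := by
    intro h2
    obtain ⟨u, hu2, huC⟩ := exists_centralizer_four hfix3 P hP ω hnot h2
    have hP' : IsPGroup 2 ↥P := hP
    rcases Cfsg.Agent.S3224.result hP' u hu2 huC with hd | hq | h4
    · exact hnd (Or.inl hd)
    · exact hnd (Or.inr hq)
    · -- |P| = 4
      have hcyc : IsCyclic ↥P := by
        by_contra hnc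
        exact hnd (Or.inl ⟨2, klein_of_card_four ↥P h4 hnc⟩)
      have hT2 : Nat.card ↥(P ⊓ stabilizer G α) = 2 := by omega
      have heq := eq_of_card_two_of_cyclic P hcyc (P ⊓ stabilizer G α) (P ⊓ stabilizer G ω)
        inf_le_left inf_le_left hT2 h2
      have : t • ω = ω := by
        have : t ∈ P ⊓ stabilizer G ω := heq ▸ htT
        exact this.2
      exact hfix3 t ht1 α β ω hβα.symm hωα.symm hωβ.symm htα htβ this
  rcases card_two_or_relIndex_two hfix3 P hP ω hne hnot with h2 | hidxω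
  · exact hcase2 h2
  · -- both `T` and `P_ω` have index 2 in `P`
    have hcardω := relIndex_mul_card_inf P (stabilizer G ω)
    rw [hidxω] at hcardω
    by_cases h8 : Nat.card ↥(P ⊓ stabilizer G α) = 2
    · exact hcase2 (by omega)
    · -- `|T| ≥ 4`: `T ∩ P_ω ≠ 1`
      have hint : (P ⊓ stabilizer G α) ⊓ (P ⊓ stabilizer G ω) ≠ ⊥ := by
        intro hbot
        have h1 : ((P ⊓ stabilizer G α) ⊓ (P ⊓ stabilizer G ω)).relIndex P ≤
            (P ⊓ stabilizer G α).relIndex P * (P ⊓ stabilizer G ω).relIndex P :=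
          Subgroup.relIndex_inf_le
        rw [hbot, Subgroup.relIndex_bot_left, hidx, hidxω] at h1
        have hTpos : 0 < Nat.card ↥(P ⊓ stabilizer G α) := Nat.card_pos
        have hT1 : Nat.card ↥(P ⊓ stabilizer G α) ≠ 1 := by
          intro h1'
          exact hT ((Subgroup.card_eq_one).mp h1')
        omega
      rcases Subgroup.bot_or_exists_ne_one ((P ⊓ stabilizer G α) ⊓ (P ⊓ stabilizer G ω)) with
        hb | ⟨c, hc, hc1⟩
      · exact hint hb
      · have hcα : c • α = α := hTα' hc.1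
        have hcβ : c • β = β := hTβ' hc.1
        have hcω : c • ω = ω := hc.2.2
        exact hfix3 c hc1 α β ω hβα.symm hωα.symm hωβ.symm hcα hcβ hcω

/-- **S3390** -/
theorem main {G : Type*} [Group G] [Finite G] {Ω : Type*} [Fintype Ω] [MulAction G Ω] [FaithfulSMul G Ω] (htr : MulAction.IsPretransitive G Ω)
    (hfix : ∀ g : G, g ≠ 1 → Nat.card (MulAction.fixedBy Ω g) ≤ 2) (hex : ∃ g : G, g ≠ 1 ∧ Nat.card (MulAction.fixedBy Ω g) = 2) (α : Ω) (S : Sylow 2 G) :
    (S : Subgroup G) ⊓ MulAction.stabilizer G α = ⊥ ∨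
    (((∃ n : ℕ, Nonempty (↥(S : Subgroup G) ≃* DihedralGroup n)) ∨ Cfsg.IsQuasiDihedral ↥(S : Subgroup G)) ∧
       (Nat.card ↥((S : Subgroup G) ⊓ MulAction.stabilizer G α) = 2 ∨ ((S : Subgroup G) ⊓ MulAction.stabilizer G α).relIndex (S : Subgroup G) = 2)) ∨
    (4 ≤ Nat.card (S : Subgroup G) ∧
       (∃ ω : Ω, Nat.card (MulAction.orbit ↥(S : Subgroup G) ω) = 2 ∧
          ∀ ω' : Ω, ω' ∉ MulAction.orbit ↥(S : Subgroup G) ω → Nat.card (MulAction.orbit ↥(S : Subgroup G) ω') = Nat.card (S : Subgroup G)) ∧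
       ∃ N : Subgroup G, N.Normal ∧ (N.index = 2 ∨ N.index = Nat.card (S : Subgroup G)) ∧ (∃ H : Subgroup ↥N, Cfsg.IsFrobeniusComplement H)) ∨
    (S : Subgroup G) ≤ MulAction.stabilizer G α := by
  have hfix3 : Fix3 G Ω := fix3_of_card hfix
  have hP : IsPGroup 2 (S : Subgroup G) := S.isPGroup'
  by_cases hT : (S : Subgroup G) ⊓ stabilizer G α = ⊥
  · exact Or.inl hT
  by_cases hnot : (S : Subgroup G) ≤ stabilizer G α
  · exact Or.inr (Or.inr (Or.inr hnot))
  have hdich := card_two_or_relIndex_two hfix3 (S : Subgroup G) hP α hT hnot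
  by_cases hnd : (∃ n : ℕ, Nonempty (↥(S : Subgroup G) ≃* DihedralGroup n)) ∨
      Cfsg.IsQuasiDihedral ↥(S : Subgroup G)
  · exact Or.inr (Or.inl ⟨hnd, hdich⟩)
  refine Or.inr (Or.inr (Or.inl ?_))
  have hcardS := relIndex_mul_card_inf (S : Subgroup G) (stabilizer G α)
  -- index 2
  have hidx : ((S : Subgroup G) ⊓ stabilizer G α).relIndex (S : Subgroup G) = 2 := by
    rcases hdich with h2 | h
    · obtain ⟨u, hu2, huC⟩ := exists_centralizer_four hfix3 (S : Subgroup G) hP α hnot h2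
      have hP' : IsPGroup 2 ↥(S : Subgroup G) := hP
      rcases Cfsg.Agent.S3224.result hP' u hu2 huC with hd | hq | h4
      · exact absurd (Or.inl hd) hnd
      · exact absurd (Or.inr hq) hnd
      · rw [h2, h4] at hcardS
        omega
    · exact h
  rw [hidx] at hcardS
  have hTpos : 2 ≤ Nat.card ↥((S : Subgroup G) ⊓ stabilizer G α) := by
    have h0 : 0 < Nat.card ↥((S : Subgroup G) ⊓ stabilizer G α) := Nat.card_pos
    have h1 : Nat.card ↥((S : Subgroup G) ⊓ stabilizer G α) ≠ 1 := fun h1' =>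
      hT ((Subgroup.card_eq_one).mp h1')
    omega
  have h4S : 4 ≤ Nat.card (S : Subgroup G) := by omega
  obtain ⟨β, hβα, hTβ, y, hyS, hyα, hyβ⟩ := exists_swap hfix3 (S : Subgroup G) hP α hT hnot
  have hreg := stab_eq_bot hfix3 (S : Subgroup G) hP α β hβα hTβ hT hidx hnd
  have horbS := orbit_structure (S : Subgroup G) α β hidx ⟨y, hyS, hyα⟩ hreg
  have hst : ∀ ω : Ω, (S : Subgroup G) ⊓ stabilizer G ω = (S : Subgroup G) ⊓ stabilizer G α ∨
      (S : Subgroup G) ⊓ stabilizer G ω = ⊥ := by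
    intro ω
    by_cases h1 : ω = α
    · left; rw [h1]
    by_cases h2 : ω = β
    · left; rw [h2, hTβ]
    · right; exact hreg ω h1 h2
  have hTα' : (S : Subgroup G) ⊓ stabilizer G α ≤ stabilizer G α := inf_le_right
  have hTβ' : (S : Subgroup G) ⊓ stabilizer G α ≤ stabilizer G β := hTβ ▸ inf_le_right
  have hT' : ∀ s ∈ (S : Subgroup G), s ∈ (S : Subgroup G) ⊓ stabilizer G α ↔ ∃ ω : Ω, s • ω = ω := by
    intro s hs
    constructor
    · intro h
      exact ⟨α, h.2⟩
    · rintro ⟨ω, hω⟩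
      have hmem : s ∈ (S : Subgroup G) ⊓ stabilizer G ω := ⟨hs, hω⟩
      rcases hst ω with h | h
      · rw [← h]; exact hmem
      · rw [h, Subgroup.mem_bot] at hmem
        rw [hmem]; exact Subgroup.one_mem _
  obtain ⟨N, hNn, hN2, hNS, hle, hout⟩ :=
    Cfsg.Agent.Lib.Helper13.F2Transfer.exists_normal_index_two S
      ((S : Subgroup G) ⊓ stabilizer G α) hidx hT'
  have hTN : (S : Subgroup G) ⊓ stabilizer G α ≤ N := by
    intro s hs
    have : s ∈ N ⊓ (S : Subgroup G) := by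
      rw [hNS]; exact ⟨hs, hs.1⟩
    exact this.1
  have hyN : y ∉ N := by
    apply hout y hyS
    intro hy
    have h1 : y • α = α := hy.2
    exact hβα (hyα ▸ h1)
  have horb : ∀ g ∈ N, g • α ≠ β := by
    intro g hg hgα
    apply hyN
    have h1 : (y⁻¹ * g) • α = α := by
      rw [mul_smul, hgα, ← hyα, inv_smul_smul]
    have h2 : y⁻¹ * g ∈ N := hle α h1
    have h3 : y⁻¹ ∈ N := by
      have := N.mul_mem h2 (N.inv_mem hg)
      simpa [mul_assoc] using this
    simpa using N.inv_mem h3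
  have hT2 : IsPGroup 2 ↥((S : Subgroup G) ⊓ stabilizer G α) := hP.to_le inf_le_left
  obtain ⟨t, htT, ht2⟩ := exists_invol _ hT2 hT
  have ht1 : t ≠ 1 := by
    rintro rfl
    rw [orderOf_one] at ht2
    exact absurd ht2 (by norm_num)
  have htα : t • α = α := hTα' htT
  have htβ : t • β = β := hTβ' htT
  have htN : t ∈ N := hTN htT
  -- `N` moves `α`
  have hmove : ∃ g ∈ N, g • α ≠ α := by
    by_contra hcon
    push Not at hcon
    apply ht1
    apply FaithfulSMul.eq_of_smul_eq_smul (α := Ω)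
    intro ω
    obtain ⟨h, rfl⟩ := MulAction.exists_smul_eq G α ω
    have h1 : h⁻¹ * t * h ∈ N := by
      have := hNn.conj_mem t htN h⁻¹
      simpa using this
    have h2 := hcon _ h1
    rw [one_smul]
    have h3 : h • ((h⁻¹ * t * h) • α) = h • α := by rw [h2]
    rw [smul_smul] at h3
    rw [smul_smul]
    simpa [mul_assoc] using h3
  obtain ⟨g₁, hg₁, h1α⟩ := hmove
  have hfix' : ∀ g : G, g ≠ 1 → ∀ x y z : Ω, g • x = x → g • y = y → g • z = z →
      x = y ∨ x = z ∨ y = z := by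
    intro g hg x y z hx hy hz
    by_contra hcon
    push Not at hcon
    exact hfix3 g hg x y z hcon.1 hcon.2.1 hcon.2.2 hx hy hz
  have hA : stabilizer G α ⊓ stabilizer G β ≠ ⊥ := by
    intro hb
    apply ht1
    have : t ∈ stabilizer G α ⊓ stabilizer G β := ⟨htα, htβ⟩
    rw [hb, Subgroup.mem_bot] at this
    exact this
  have hF : Cfsg.IsFrobeniusComplement ((stabilizer G α).subgroupOf N) := by
    refine ⟨?_, ?_, ?_⟩
    · intro hb
      apply ht1
      have : (⟨t, htN⟩ : ↥N) ∈ (stabilizer G α).subgroupOf N := by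
        rw [Subgroup.mem_subgroupOf]; exact htα
      rw [hb, Subgroup.mem_bot] at this
      exact congrArg Subtype.val this
    · intro htop
      apply h1α
      have : (⟨g₁, hg₁⟩ : ↥N) ∈ (stabilizer G α).subgroupOf N := by
        rw [htop]; exact Subgroup.mem_top _
      rw [Subgroup.mem_subgroupOf] at this
      exact this
    · intro g hg
      rw [eq_bot_iff]
      intro z hz
      rw [Subgroup.mem_bot]
      obtain ⟨hz1, hz2⟩ := Subgroup.mem_inf.mp hz
      rw [Subgroup.mem_subgroupOf] at hz1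
      rw [Subgroup.mem_pointwise_smul_iff_inv_smul_mem, Subgroup.mem_subgroupOf] at hz2
      have hzα : (z : G) • α = α := hz1
      have hz2' : ((g : G)⁻¹ * (z : G) * (g : G)) • α = α := by
        have : (((MulAut.conj g)⁻¹ • z : ↥N) : G) • α = α := hz2
        simpa [MulAut.smul_def, MulAut.conj_inv_apply] using this
      have hgα : (g : G) • α ≠ α := by
        intro h
        apply hg
        rw [Subgroup.mem_subgroupOf]
        exact h
      have hzγ : (z : G) • ((g : G) • α) = (g : G) • α := by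
        have h3 : (g : G) • (((g : G)⁻¹ * (z : G) * (g : G)) • α) = (g : G) • α := by rw [hz2']
        rw [smul_smul] at h3
        rw [smul_smul]
        simpa [mul_assoc] using h3
      have hne : (g : G) • α ∉ MulAction.orbit (stabilizer G α) β := by
        rintro ⟨h, hh⟩
        have hh' : (h : G) • β = (g : G) • α := hh
        apply horb ((h : G)⁻¹ * (g : G)) (N.mul_mem (N.inv_mem (hle α h.2)) g.2)
        rw [mul_smul, ← hh', inv_smul_smul]
      have hbot := Cfsg.Agent.Lib.Helper13.F2Count.two_point_stabilizer_eq_bot hfix' α β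
        ((g : G) • α) hβα hgα hne hA
      have hzmem : (z : G) ∈ stabilizer G α ⊓ stabilizer G ((g : G) • α) := ⟨hzα, hzγ⟩
      rw [hbot, Subgroup.mem_bot] at hzmem
      exact Subtype.ext hzmem
  exact ⟨h4S, horbS, N, hNn, Or.inl hN2, _, hF⟩

end Cfsg.Agent.Lib.Helper26.F2Main
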