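import Cfsg.Prelude.Def_FusionComponents
set_option autoImplicit false

/-!
Basic API for `Cfsg.FusionSystem` (helper26's library).
-/

namespace Cfsg.Agent.Lib.Helper26

open Cfsg Cfsg.FusionSystem

variable {Ω : Type*} [Group Ω] {S : Subgroup Ω}

/-! ### conjHom -/

@[simp] theorem conjHom_apply (P : Subgroup Ω) (g : Ω) (x : P) : conjHom P g x = g * (x : Ω) * g⁻¹ := rfl

theorem conjHom_one (P : Subgroup Ω) : conjHom P (1 : Ω) = P.subtype := by
  ext x; simp

/-! ### identity, restriction, transport along equalities -/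

theorem subtype_mem (F : FusionSystem S) {P : Subgroup Ω} (hP : P ≤ S) : P.subtype ∈ F.Hom P := by
  have := F.conj_mem (P := P) (g := 1) hP S.one_mem
  rwa [conjHom_one] at this

theorem inclusion_comp_mem (F : FusionSystem S) {P Q : Subgroup Ω} (hQP : Q ≤ P) {φ : P →* Ω} (hφ : φ ∈ F.Hom P) :
    φ.comp (Subgroup.inclusion hQP) ∈ F.Hom Q := by
  have hPS := (F.le_of_mem hφ).1
  have h1 := subtype_mem F (hQP.trans hPS)
  have h2 := F.comp_mem h1 hφ (fun x => hQP x.2)
  exact h2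

theorem hom_le (F : FusionSystem S) {P : Subgroup Ω} {φ : P →* Ω} (hφ : φ ∈ F.Hom P) : P ≤ S := (F.le_of_mem hφ).1

theorem hom_apply_mem (F : FusionSystem S) {P : Subgroup Ω} {φ : P →* Ω} (hφ : φ ∈ F.Hom P) (x : P) : φ x ∈ S :=
  (F.le_of_mem hφ).2 x

theorem range_le (F : FusionSystem S) {P : Subgroup Ω} {φ : P →* Ω} (hφ : φ ∈ F.Hom P) : φ.range ≤ S := by
  rintro _ ⟨x, rfl⟩
  exact hom_apply_mem F hφ x

/-- Transport of a map along an equality of sources. -/
theorem hom_congr (F : FusionSystem S) {P Q : Subgroup Ω} (h : P = Q) {φ : P →* Ω} (hφ : φ ∈ F.Hom P) :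
    φ.comp (Subgroup.inclusion h.ge) ∈ F.Hom Q := inclusion_comp_mem F h.ge hφ

/-- Composition with explicit range hypothesis. -/
theorem comp_mem' (F : FusionSystem S) {P Q : Subgroup Ω} {φ : P →* Ω} {ψ : Q →* Ω} (hφ : φ ∈ F.Hom P)
    (hψ : ψ ∈ F.Hom Q) (h : ∀ x : P, φ x ∈ Q) : ψ.comp (φ.codRestrict Q h) ∈ F.Hom P :=
  F.comp_mem hφ hψ h

/-! ### `autGroup` is the set of its generators -/

theorem mem_autGroup_iff (F : FusionSystem S) {P : Subgroup Ω} (hP : P ≤ S) (α : MulAut P) :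
    α ∈ F.autGroup P ↔ P.subtype.comp α.toMonoidHom ∈ F.Hom P := by
  constructor
  · intro h
    unfold FusionSystem.autGroup at h
    induction h using Subgroup.closure_induction with
    | mem x hx => exact hx
    | one => exact subtype_mem F hP
    | mul x y _ _ hx hy =>
      have := F.comp_mem hy hx (fun z => (y z).2)
      exact this
    | inv x _ hx =>
      obtain ⟨ψ, hψ, hψx⟩ := F.inv_mem hx
      have hle : P ≤ (P.subtype.comp x.toMonoidHom).range := by
        intro z hz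
        exact ⟨x⁻¹ ⟨z, hz⟩, by simp⟩
      have h2 := inclusion_comp_mem F hle hψ
      have : P.subtype.comp (x⁻¹).toMonoidHom = ψ.comp (Subgroup.inclusion hle) := by
        ext z
        have := hψx (x⁻¹ z)
        show ((x⁻¹ z : P) : Ω) = ψ (Subgroup.inclusion hle z)
        rw [← this]
        have harg : (⟨(P.subtype.comp x.toMonoidHom) (x⁻¹ z), ⟨x⁻¹ z, rfl⟩⟩ :
            (P.subtype.comp x.toMonoidHom).range) = Subgroup.inclusion hle z := by
          apply Subtype.ext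
          simp
          rfl
        rw [harg]
      rw [this]
      exact h2
  · intro h
    exact Subgroup.subset_closure h

theorem autGroup_eq_bot_of_not_le (F : FusionSystem S) {P : Subgroup Ω} (hP : ¬ P ≤ S) : F.autGroup P = ⊥ := by
  unfold FusionSystem.autGroup
  rw [Subgroup.closure_eq_bot_iff]
  intro α hα
  exact absurd (hom_le F hα) hP

/-! ### `autInducedBy` is the set of its generators -/

theorem mem_autInducedBy_iff (K P : Subgroup Ω) (α : MulAut P) :
    α ∈ autInducedBy K P ↔ ∃ g ∈ K, ∀ x : P, ((α x : P) : Ω) = g * (x : Ω) * g⁻¹ := by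
  constructor
  · intro h
    unfold autInducedBy at h
    induction h using Subgroup.closure_induction with
    | mem x hx => exact hx
    | one => exact ⟨1, K.one_mem, fun x => by simp⟩
    | mul a b _ _ ha hb =>
      obtain ⟨g, hg, hga⟩ := ha
      obtain ⟨k, hk, hkb⟩ := hb
      refine ⟨g * k, K.mul_mem hg hk, fun x => ?_⟩
      show ((a (b x) : P) : Ω) = _
      rw [hga, hkb]
      group
    | inv a _ ha =>
      obtain ⟨g, hg, hga⟩ := ha
      refine ⟨g⁻¹, K.inv_mem hg, fun x => ?_⟩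
      have := hga (a⁻¹ x)
      have h2 : a (a⁻¹ x) = x := by simp
      rw [h2] at this
      rw [this]
      group
  · intro h
    exact Subgroup.subset_closure h

/-! ### `extender` is the set of its generators -/

theorem mem_extender_iff (S P : Subgroup Ω) (φ : P →* Ω) (g : Ω) :
    g ∈ extender S P φ ↔ (g ∈ S ∧ g ∈ Subgroup.normalizer (P : Set Ω) ∧
      ∃ h ∈ S, ∀ (x : P) (hx : g * (x : Ω) * g⁻¹ ∈ P), φ ⟨g * x * g⁻¹, hx⟩ = h * φ x * h⁻¹) := by
  constructor
  · intro hg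
    unfold extender at hg
    induction hg using Subgroup.closure_induction with
    | mem x hx => exact hx
    | one =>
      refine ⟨S.one_mem, Subgroup.one_mem _, 1, S.one_mem, fun x hx => ?_⟩
      simp
    | mul a b _ _ ha hb =>
      obtain ⟨haS, haN, h, hh, hha⟩ := ha
      obtain ⟨hbS, hbN, k, hk, hkb⟩ := hb
      refine ⟨S.mul_mem haS hbS, Subgroup.mul_mem _ haN hbN, h * k, S.mul_mem hh hk, fun x hx => ?_⟩
      have hbx : b * (x : Ω) * b⁻¹ ∈ P := (Subgroup.mem_normalizer_iff.mp hbN _).mp x.2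
      have h1 := hkb x hbx
      have hax : a * ((⟨b * x * b⁻¹, hbx⟩ : P) : Ω) * a⁻¹ ∈ P :=
        (Subgroup.mem_normalizer_iff.mp haN _).mp hbx
      have h2 := hha ⟨b * x * b⁻¹, hbx⟩ hax
      have heq : (⟨a * b * (x : Ω) * (a * b)⁻¹, hx⟩ : P) = ⟨a * ((⟨b * x * b⁻¹, hbx⟩ : P) : Ω) * a⁻¹, hax⟩ := by
        apply Subtype.ext
        simp only [mul_inv_rev, mul_assoc]
      rw [heq, h2, h1]
      simp only [mul_inv_rev, mul_assoc]
    | inv a _ ha =>
      obtain ⟨haS, haN, h, hh, hha⟩ := ha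
      refine ⟨S.inv_mem haS, Subgroup.inv_mem _ haN, h⁻¹, S.inv_mem hh, fun x hx => ?_⟩
      have hax : a * ((⟨a⁻¹ * x * a⁻¹⁻¹, hx⟩ : P) : Ω) * a⁻¹ ∈ P := by
        simp only [inv_inv, mul_assoc, mul_inv_cancel_left, mul_inv_cancel, mul_one]
        exact x.2
      have h2 := hha ⟨a⁻¹ * x * a⁻¹⁻¹, hx⟩ hax
      have heq : (⟨a * ((⟨a⁻¹ * x * a⁻¹⁻¹, hx⟩ : P) : Ω) * a⁻¹, hax⟩ : P) = x := by
        apply Subtype.ext
        simp only [inv_inv, mul_assoc, mul_inv_cancel_left, mul_inv_cancel, mul_one]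
      rw [heq] at h2
      rw [h2]
      simp only [inv_inv, mul_assoc, inv_mul_cancel_left, inv_mul_cancel, mul_one]
  · intro h
    exact Subgroup.subset_closure h

/-! ### Conjugacy of subgroups in the system -/

theorem isConj_refl (F : FusionSystem S) {P : Subgroup Ω} (hP : P ≤ S) : F.IsConj P P :=
  ⟨P.subtype, subtype_mem F hP, Subgroup.range_subtype P⟩

theorem isConj_le_left (F : FusionSystem S) {P Q : Subgroup Ω} (h : F.IsConj P Q) : P ≤ S := by
  obtain ⟨φ, hφ, -⟩ := h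
  exact hom_le F hφ

theorem isConj_le_right (F : FusionSystem S) {P Q : Subgroup Ω} (h : F.IsConj P Q) : Q ≤ S := by
  obtain ⟨φ, hφ, rfl⟩ := h
  exact range_le F hφ

theorem isConj_symm (F : FusionSystem S) {P Q : Subgroup Ω} (h : F.IsConj P Q) : F.IsConj Q P := by
  obtain ⟨φ, hφ, rfl⟩ := h
  obtain ⟨ψ, hψ, hψx⟩ := F.inv_mem hφ
  refine ⟨ψ, hψ, ?_⟩
  apply le_antisymm
  · rintro _ ⟨⟨_, x, rfl⟩, rfl⟩
    rw [hψx]
    exact x.2
  · intro x hx
    exact ⟨⟨φ ⟨x, hx⟩, ⟨_, rfl⟩⟩, hψx ⟨x, hx⟩⟩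

theorem isConj_trans (F : FusionSystem S) {P Q R : Subgroup Ω} (h₁ : F.IsConj P Q) (h₂ : F.IsConj Q R) :
    F.IsConj P R := by
  obtain ⟨φ, hφ, rfl⟩ := h₁
  obtain ⟨ψ, hψ, rfl⟩ := h₂
  refine ⟨ψ.comp (φ.codRestrict φ.range (fun x => ⟨x, rfl⟩)), F.comp_mem hφ hψ _, ?_⟩
  apply le_antisymm
  · rintro _ ⟨x, rfl⟩
    exact ⟨_, rfl⟩
  · rintro _ ⟨⟨_, x, rfl⟩, rfl⟩
    exact ⟨x, rfl⟩

end Cfsg.Agent.Lib.Helper26
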