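import Cfsg.Agent.Lib.Helper26.FSSatEquiv
import Cfsg.Agent.Lib.Helper26.FSSylow

/-!
Fusion-system version of the Camina–Herzog theorem (S5274), part A: subgroups of `Z(S)` in a saturated system.

`ZS S` is the centre of `S` (as a subgroup of the ambient group).
* `aut_eq_one_of_central`: a `p`-element of `Aut_F(A)`, `A ≤ Z(S)`, is trivial.
* `conj_eq_of_hom_central`: if `B ≤ S` is carried into `Z(S)` by a map of the system then `N_S(B) = C_S(B)`.
* `exists_ext_centralizer`: a map `B → Z(S)` of the system extends to `C_S(B)`.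
-/

set_option autoImplicit false

namespace Cfsg.Agent.Lib.Helper26

open Cfsg Cfsg.FusionSystem

section CaminaA

variable {Ω : Type*} [Group Ω] {S : Subgroup Ω}

/-- The centre of `S`, as a subgroup of the ambient group. -/
def ZS (S : Subgroup Ω) : Subgroup Ω := S ⊓ Subgroup.centralizer (S : Set Ω)

theorem mem_ZS_iff {z : Ω} : z ∈ ZS S ↔ z ∈ S ∧ ∀ s ∈ S, s * z = z * s := by
  unfold ZS
  rw [Subgroup.mem_inf, Subgroup.mem_centralizer_iff]
  rfl

theorem ZS_le (S : Subgroup Ω) : ZS S ≤ S := inf_le_left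

theorem normalizerIn_eq_of_le_ZS {A : Subgroup Ω} (hA : A ≤ ZS S) : normalizerIn S A = S := by
  apply le_antisymm (normalizerIn_le S A)
  intro g hg
  refine ⟨hg, ?_⟩
  show g ∈ Subgroup.normalizer (A : Set Ω)
  rw [Subgroup.mem_normalizer_iff]
  intro x
  have key : ∀ y ∈ A, g * y * g⁻¹ = y := by
    intro y hy
    have := (mem_ZS_iff.mp (hA hy)).2 g hg
    rw [this, mul_inv_cancel_right]
  constructor
  · intro hx
    rw [key x hx]; exact hx
  · intro hx
    have h2 := key _ hx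
    have h3 : g * x * g⁻¹ = x := by
      have : g * (g * x * g⁻¹) * g⁻¹ = g * x * g⁻¹ := h2
      have h4 := mul_left_cancel (mul_right_cancel this)
      exact h4
    rw [← h3]; exact hx

theorem fullyNormalized_of_le_ZS [Finite S] (F : FusionSystem S) {A : Subgroup Ω} (hA : A ≤ ZS S) :
    F.IsFullyNormalized A := by
  refine ⟨hA.trans (ZS_le S), fun Q _ => ?_⟩
  rw [normalizerIn_eq_of_le_ZS hA]
  exact Nat.card_le_card_of_injective (Subgroup.inclusion (normalizerIn_le S Q)) (Subgroup.inclusion_injective _)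

theorem autInducedBy_eq_bot_of_le_ZS {A : Subgroup Ω} (hA : A ≤ ZS S) : autInducedBy S A = ⊥ := by
  rw [eq_bot_iff]
  intro α hα
  obtain ⟨g, hg, hgα⟩ := (mem_autInducedBy_iff S A α).mp hα
  rw [Subgroup.mem_bot]
  ext x
  rw [hgα x]
  have := (mem_ZS_iff.mp (hA x.2)).2 g hg
  rw [this, mul_inv_cancel_right]
  rfl

/-- A `p`-element of `Aut_F(A)`, `A ≤ Z(S)`, is trivial. -/
theorem aut_eq_one_of_central [Finite S] {p : ℕ} [Fact p.Prime] (hS : IsPGroup p S) (F : FusionSystem S)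
    (hF : F.IsSaturated p) {A : Subgroup Ω} (hA : A ≤ ZS S) {α : MulAut A} (hα : α ∈ F.autGroup A) {k : ℕ}
    (hk : α ^ (p ^ k) = 1) : α = 1 := by
  have hfn := fullyNormalized_of_le_ZS F hA
  have hfa := (saturated_fn hS F hF hfn).2
  have hB : Subgroup.zpowers α ≤ F.autGroup A := by
    rw [Subgroup.zpowers_le]; exact hα
  have hBp : IsPGroup p (Subgroup.zpowers α) := by
    rintro ⟨β, hβ⟩
    obtain ⟨i, rfl⟩ := Subgroup.mem_zpowers_iff.mp hβ
    refine ⟨k, ?_⟩
    apply Subtype.ext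
    show (α ^ i) ^ (p ^ k) = 1
    rw [← zpow_natCast, ← zpow_mul, mul_comm, zpow_mul, zpow_natCast, hk, one_zpow]
  obtain ⟨χ, -, hχ⟩ := exists_conj_mem_autInducedBy F hfa (Subgroup.zpowers α) hB hBp
  have h1 := hχ α (Subgroup.mem_zpowers α)
  rw [autInducedBy_eq_bot_of_le_ZS hA, Subgroup.mem_bot] at h1
  have h2 : α = χ⁻¹ * (χ * α * χ⁻¹) * χ := by group
  rw [h2, h1]
  group

/-- If `B ≤ S` is carried into `Z(S)` by a map of the system then `N_S(B) = C_S(B)`. -/
theorem conj_eq_of_hom_central [Finite S] {p : ℕ} [Fact p.Prime] (hS : IsPGroup p S) (F : FusionSystem S)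
    (hF : F.IsSaturated p) {B : Subgroup Ω} {φ : B →* Ω} (hφ : φ ∈ F.Hom B) (hφZ : ∀ x : B, φ x ∈ ZS S)
    {g : Ω} (hg : g ∈ S) (hgN : g ∈ Subgroup.normalizer (B : Set Ω)) (x : Ω) (hx : x ∈ B) :
    g * x * g⁻¹ = x := by
  have hBS : B ≤ S := hom_le F hφ
  have hA : φ.range ≤ ZS S := by
    rintro _ ⟨y, rfl⟩
    exact hφZ y
  have he := homEquiv_isFIso F hφ rfl
  set e := homEquiv F hφ rfl with hedef
  set α := B.normalizerMonoidHom ⟨g, hgN⟩ with hαdef
  have hαS : α ∈ autInducedBy S B := normalizerMonoidHom_mem_autInducedBy hg hgN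
  have hαF : α ∈ F.autGroup B := autInducedBy_le_autGroup F hBS hαS
  have hα' := congr_mem_autGroup F he hαF
  obtain ⟨k, hk⟩ := autInducedBy_isPGroup hS B ⟨α, hαS⟩
  have hk' : α ^ (p ^ k) = 1 := congrArg Subtype.val hk
  have hk'' : (MulAut.congr e α) ^ (p ^ k) = 1 := by
    rw [← map_pow, hk', map_one]
  have h1 := aut_eq_one_of_central hS F hF hA hα' hk''
  have h2 : α = 1 := by
    have : MulAut.congr e α = MulAut.congr e 1 := by rw [h1, map_one]
    exact (MulAut.congr e).injective this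
  have h3 : ((α ⟨x, hx⟩ : B) : Ω) = g * x * g⁻¹ := rfl
  rw [← h3, h2]
  rfl

/-- A map `B → Z(S)` of the system extends to `C_S(B)`. -/
theorem exists_ext_centralizer [Finite S] {p : ℕ} [Fact p.Prime] (hS : IsPGroup p S) (F : FusionSystem S)
    (hF : F.IsSaturated p) {B : Subgroup Ω} {φ : B →* Ω} (hφ : φ ∈ F.Hom B) (hφZ : ∀ x : B, φ x ∈ ZS S) :
    ∃ ψ ∈ F.Hom (centralizerIn S B), ∀ (x : Ω) (hB : x ∈ B) (hC : x ∈ centralizerIn S B),
      ψ ⟨x, hC⟩ = φ ⟨x, hB⟩ := by
  have hA : φ.range ≤ ZS S := by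
    rintro _ ⟨y, rfl⟩
    exact hφZ y
  have hfn := fullyNormalized_of_le_ZS F hA
  have hrec := saturated_fn_receptive hS F hF hfn
  obtain ⟨ψ₀, hψ₀, hψ₀φ⟩ := hrec.2 B φ hφ rfl
  have hle : centralizerIn S B ≤ extender S B φ := centralizerIn_le_extender B φ
  refine ⟨ψ₀.comp (Subgroup.inclusion hle), inclusion_comp_mem F hle hψ₀, fun x hB hC => ?_⟩
  exact hψ₀φ x hB (hle hC)

end CaminaA

end Cfsg.Agent.Lib.Helper26
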