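import Cfsg.Agent.Lib.Helper26.FSCaminaA

/-!
Fusion-system version of the Camina–Herzog theorem (S5274), part B: the key step.

`CHyp F`: every element of `S` is conjugate in the system to an element of `Z(S)`.
* `eq_inv_of_inverted`: an element of `S` inverted by an element of `S` is an involution (or trivial).
* `invol_comm`: involutions of `S` commute.
* `conj_mem_ZS_of_top`: if `u ∈ Z(S)` has order `2^a`, `a ≥ 2`, every conjugate in the system of the involution
  `u^(2^(a-1))` is central in `S`.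
-/

set_option autoImplicit false

namespace Cfsg.Agent.Lib.Helper26

open Cfsg Cfsg.FusionSystem

section CaminaB

variable {Ω : Type*} [Group Ω] {S : Subgroup Ω}

/-- Every element of `S` is conjugate in the system to an element of `Z(S)`. -/
def CHyp (F : FusionSystem S) : Prop :=
  ∀ x ∈ S, ∃ z ∈ S ⊓ Subgroup.centralizer (S : Set Ω), F.IsConjElt x z

theorem isConjElt_apply_mem {x z : Ω} {φ : Subgroup.zpowers x →* Ω}
    (hz : φ ⟨x, Subgroup.mem_zpowers x⟩ = z) (y : Subgroup.zpowers x) : φ y ∈ Subgroup.zpowers z := by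
  obtain ⟨i, hi⟩ := Subgroup.mem_zpowers_iff.mp y.2
  have : y = (⟨x, Subgroup.mem_zpowers x⟩ : Subgroup.zpowers x) ^ i := by
    apply Subtype.ext
    rw [Subgroup.coe_zpow]
    exact hi.symm
  rw [this, map_zpow, hz]
  exact Subgroup.zpow_mem_zpowers z i

theorem isConjElt_symm (F : FusionSystem S) {x z : Ω} (h : F.IsConjElt x z) : F.IsConjElt z x := by
  obtain ⟨φ, hφ, hz⟩ := h
  obtain ⟨ψ, hψ, hψx⟩ := F.inv_mem hφ
  have hle : Subgroup.zpowers z ≤ φ.range := by
    rw [Subgroup.zpowers_le]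
    exact ⟨⟨x, Subgroup.mem_zpowers x⟩, hz⟩
  refine ⟨ψ.comp (Subgroup.inclusion hle), inclusion_comp_mem F hle hψ, ?_⟩
  have h1 := hψx ⟨x, Subgroup.mem_zpowers x⟩
  have h2 : (⟨φ ⟨x, Subgroup.mem_zpowers x⟩, ⟨⟨x, Subgroup.mem_zpowers x⟩, rfl⟩⟩ : φ.range) =
      Subgroup.inclusion hle ⟨z, Subgroup.mem_zpowers z⟩ := Subtype.ext hz
  rw [h2] at h1
  exact h1

theorem mem_centralizerIn_zpowers_iff {g t : Ω} :
    g ∈ centralizerIn S (Subgroup.zpowers t) ↔ g ∈ S ∧ t * g = g * t := by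
  rw [mem_centralizerIn_iff]
  constructor
  · rintro ⟨h1, h2⟩
    exact ⟨h1, h2 t (Subgroup.mem_zpowers t)⟩
  · rintro ⟨h1, h2⟩
    refine ⟨h1, fun w hw => ?_⟩
    obtain ⟨i, rfl⟩ := Subgroup.mem_zpowers_iff.mp hw
    exact (Commute.zpow_left (show Commute t g from h2) i).eq

variable [Finite S]

/-- An element of `S` inverted by an element of `S` is an involution (or trivial). -/
theorem eq_inv_of_inverted {p : ℕ} [Fact p.Prime] (hS : IsPGroup p S) (F : FusionSystem S) (hF : F.IsSaturated p)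
    (hH : CHyp F) {x y : Ω} (hx : x ∈ S) (hy : y ∈ S) (h : y * x * y⁻¹ = x⁻¹) : x⁻¹ = x := by
  obtain ⟨z, hz, φ, hφ, hφz⟩ := hH x hx
  have hzZ : Subgroup.zpowers z ≤ ZS S := by
    rw [Subgroup.zpowers_le]; exact hz
  have hφZ : ∀ w : Subgroup.zpowers x, φ w ∈ ZS S := fun w => hzZ (isConjElt_apply_mem hφz w)
  have hxS : Subgroup.zpowers x ≤ S := by
    rw [Subgroup.zpowers_le]; exact hx
  have : Finite (Subgroup.zpowers x) := finite_of_le hxS
  have hyN : y ∈ Subgroup.normalizer ((Subgroup.zpowers x : Subgroup Ω) : Set Ω) := by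
    apply mem_normalizer_of_conj_mem_finite
    intro w hw
    obtain ⟨i, rfl⟩ := Subgroup.mem_zpowers_iff.mp hw
    rw [← conj_zpow, h]
    exact Subgroup.zpow_mem _ (Subgroup.inv_mem _ (Subgroup.mem_zpowers x)) i
  have := conj_eq_of_hom_central hS F hF hφ hφZ hy hyN x (Subgroup.mem_zpowers x)
  rw [← h, this]

/-- Involutions of `S` commute. -/
theorem invol_comm {p : ℕ} [Fact p.Prime] (hS : IsPGroup p S) (F : FusionSystem S) (hF : F.IsSaturated p)
    (hH : CHyp F) {s t : Ω} (hs : s ∈ S) (ht : t ∈ S) (hs2 : s * s = 1) (ht2 : t * t = 1) : s * t = t * s := by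
  have hsi : s⁻¹ = s := inv_eq_of_mul_eq_one_left hs2
  have hti : t⁻¹ = t := inv_eq_of_mul_eq_one_left ht2
  have h := eq_inv_of_inverted hS F hF hH (S.mul_mem hs ht) hs (show s * (s * t) * s⁻¹ = (s * t)⁻¹ by
    rw [mul_inv_rev, hsi, hti, ← mul_assoc, hs2, one_mul])
  rw [← h, mul_inv_rev, hsi, hti]

/-- The key step: if `u ∈ Z(S)` and `u^(2^a) = 1` with `a ≥ 2`, every conjugate in the system of `u^(2^(a-1))` is
central in `S`. -/
theorem conj_mem_ZS_of_top (hS : IsPGroup 2 S) (F : FusionSystem S) (hF : F.IsSaturated 2) (hH : CHyp F)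
    {u : Ω} (hu : u ∈ ZS S) {a : ℕ} (ha : 2 ≤ a) (hua : u ^ (2 ^ a) = 1) {t' : Ω}
    (hconj : F.IsConjElt (u ^ (2 ^ (a - 1))) t') : t' ∈ ZS S := by
  have : Fact (Nat.Prime 2) := ⟨Nat.prime_two⟩
  obtain ⟨t, htdef⟩ : ∃ t, t = u ^ (2 ^ (a - 1)) := ⟨_, rfl⟩
  rw [← htdef] at hconj
  have ht : t ∈ ZS S := by rw [htdef]; exact Subgroup.pow_mem _ hu _
  have ht2 : t * t = 1 := by
    rw [htdef, ← pow_add, ← two_mul, ← pow_succ', show a - 1 + 1 = a by omega]
    exact hua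
  obtain ⟨φ₀, hφ₀, hφ₀t⟩ := isConjElt_symm F hconj
  have ht'S : t' ∈ S := hom_le F hφ₀ (Subgroup.mem_zpowers t')
  have ht'2 : t' * t' = 1 := by
    have h1 : φ₀ (⟨t', Subgroup.mem_zpowers t'⟩ * ⟨t', Subgroup.mem_zpowers t'⟩) = φ₀ 1 := by
      rw [map_mul, hφ₀t, ht2, map_one]
    have h2 := F.injective_of_mem hφ₀ h1
    exact congrArg Subtype.val h2
  have htZ : Subgroup.zpowers t ≤ ZS S := by
    rw [Subgroup.zpowers_le]; exact ht
  have hφ₀Z : ∀ w : Subgroup.zpowers t', φ₀ w ∈ ZS S := fun w => htZ (isConjElt_apply_mem hφ₀t w)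
  obtain ⟨φ, hφ, hφφ₀⟩ := exists_ext_centralizer hS F hF hφ₀ hφ₀Z
  have ht'D : t' ∈ centralizerIn S (Subgroup.zpowers t') := mem_centralizerIn_zpowers_iff.mpr ⟨ht'S, rfl⟩
  have hφt' : φ ⟨t', ht'D⟩ = t := (hφφ₀ t' (Subgroup.mem_zpowers t') ht'D).trans hφ₀t
  have hinj := F.injective_of_mem hφ
  have hφS : ∀ d, φ d ∈ S := hom_apply_mem F hφ
  -- involutions lie in `D`
  have hInvD : ∀ e, e ∈ S → e * e = 1 → e ∈ centralizerIn S (Subgroup.zpowers t') := by
    intro e he he2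
    exact mem_centralizerIn_zpowers_iff.mpr ⟨he, invol_comm hS F hF hH ht'S he ht'2 he2⟩
  -- `φ` permutes the involutions
  have hInvSurj : ∀ e, e ∈ S → e * e = 1 →
      ∃ d : centralizerIn S (Subgroup.zpowers t'), (d : Ω) * d = 1 ∧ φ d = e := by
    have hfin : Finite {e : Ω // e ∈ S ∧ e * e = 1} :=
      Finite.of_injective (fun e => (⟨e.1, e.2.1⟩ : S)) (fun a b hab => Subtype.ext (congrArg (fun z : S => (z : Ω)) hab))
    have hsq : ∀ d : centralizerIn S (Subgroup.zpowers t'), (d : Ω) * d = 1 → φ d * φ d = 1 := by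
      intro d hd
      rw [← map_mul]
      have : d * d = 1 := Subtype.ext hd
      rw [this, map_one]
    let f : {e : Ω // e ∈ S ∧ e * e = 1} → {e : Ω // e ∈ S ∧ e * e = 1} := fun e =>
      ⟨φ ⟨e.1, hInvD e.1 e.2.1 e.2.2⟩, hφS _, hsq ⟨e.1, hInvD e.1 e.2.1 e.2.2⟩ e.2.2⟩
    have hf : Function.Injective f := by
      intro e₁ e₂ h12
      have h1 : φ ⟨e₁.1, hInvD e₁.1 e₁.2.1 e₁.2.2⟩ = φ ⟨e₂.1, hInvD e₂.1 e₂.2.1 e₂.2.2⟩ :=
        congrArg Subtype.val h12
      have h2 := hinj h1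
      exact Subtype.ext (congrArg (fun z : centralizerIn S (Subgroup.zpowers t') => (z : Ω)) h2)
    have hfs := Finite.surjective_of_injective hf
    intro e he he2
    obtain ⟨e', he'⟩ := hfs ⟨e, he, he2⟩
    exact ⟨⟨e'.1, hInvD e'.1 e'.2.1 e'.2.2⟩, e'.2.2, congrArg Subtype.val he'⟩
  -- the subgroup `TT = C_S(involutions)`
  set TT : Subgroup Ω := S ⊓ Subgroup.centralizer {e : Ω | e ∈ S ∧ e * e = 1} with hTTdef
  have hmemTT : ∀ v, v ∈ TT ↔ v ∈ S ∧ ∀ e, e ∈ S → e * e = 1 → e * v = v * e := by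
    intro v
    rw [hTTdef, Subgroup.mem_inf, Subgroup.mem_centralizer_iff]
    constructor
    · rintro ⟨h1, h2⟩
      exact ⟨h1, fun e he he2 => h2 e ⟨he, he2⟩⟩
    · rintro ⟨h1, h2⟩
      exact ⟨h1, fun e he => h2 e he.1 he.2⟩
  have hTTS : TT ≤ S := inf_le_left
  have hTTD : TT ≤ centralizerIn S (Subgroup.zpowers t') := by
    intro v hv
    obtain ⟨hvS, hvc⟩ := (hmemTT v).mp hv
    exact mem_centralizerIn_zpowers_iff.mpr ⟨hvS, hvc t' ht'S ht'2⟩
  have hφTT : ∀ v : TT, (φ.comp (Subgroup.inclusion hTTD)) v ∈ TT := by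
    intro v
    rw [hmemTT]
    refine ⟨hφS _, fun e he he2 => ?_⟩
    obtain ⟨d, hd2, hde⟩ := hInvSurj e he he2
    have hdS : (d : Ω) ∈ S := centralizerIn_le S _ d.2
    have hcomm := ((hmemTT v).mp v.2).2 d hdS hd2
    show e * φ (Subgroup.inclusion hTTD v) = φ (Subgroup.inclusion hTTD v) * e
    rw [← hde, ← map_mul, ← map_mul]
    congr 1
    exact Subtype.ext hcomm
  have hfinTT : Finite TT := finite_of_le hTTS
  have hinjTT : Function.Injective (φ.comp (Subgroup.inclusion hTTD)) := by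
    intro v w hvw
    have := hinj hvw
    exact Subgroup.inclusion_injective hTTD this
  have hsurjTT := surj_of_inj_of_card_le (φ.comp (Subgroup.inclusion hTTD)) hinjTT hφTT le_rfl
  have huS : u ∈ S := ZS_le S hu
  have huTT : u ∈ TT := by
    rw [hmemTT]
    exact ⟨huS, fun e he _ => (mem_ZS_iff.mp hu).2 e he⟩
  obtain ⟨u'₀, hu'₀⟩ := hsurjTT u huTT
  obtain ⟨u', hu'TT⟩ := u'₀
  have hu'D : u' ∈ centralizerIn S (Subgroup.zpowers t') := hTTD hu'TT
  have hφu' : φ ⟨u', hu'D⟩ = u := hu'₀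
  have hu'S : u' ∈ S := hTTS hu'TT
  have hu't' : u' ^ (2 ^ (a - 1)) = t' := by
    have h1 : φ ((⟨u', hu'D⟩ : centralizerIn S (Subgroup.zpowers t')) ^ (2 ^ (a - 1))) = φ ⟨t', ht'D⟩ := by
      rw [map_pow, hφu', hφt', htdef]
    have h2 := hinj h1
    have h3 := congrArg Subtype.val h2
    rw [Subgroup.coe_pow] at h3
    exact h3
  -- the core claim
  have core : ∀ y ∈ S, (y * y) * t' = t' * (y * y) → y * t' = t' * y := by
    intro y hy hyy
    obtain ⟨v', hv'⟩ : ∃ v', v' = y * u' * y⁻¹ := ⟨_, rfl⟩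
    have hv'S : v' ∈ S := by rw [hv']; exact S.mul_mem (S.mul_mem hy hu'S) (S.inv_mem hy)
    have hv'TT : v' ∈ TT := by
      rw [hmemTT]
      refine ⟨hv'S, fun e he he2 => ?_⟩
      have he'S : y⁻¹ * e * y ∈ S := S.mul_mem (S.mul_mem (S.inv_mem hy) he) hy
      have he'2 : (y⁻¹ * e * y) * (y⁻¹ * e * y) = 1 := by
        calc (y⁻¹ * e * y) * (y⁻¹ * e * y) = y⁻¹ * (e * e) * y := by group
          _ = 1 := by rw [he2]; group
      have h1 := ((hmemTT u').mp hu'TT).2 _ he'S he'2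
      rw [hv']
      calc e * (y * u' * y⁻¹) = y * ((y⁻¹ * e * y) * u') * y⁻¹ := by group
        _ = y * (u' * (y⁻¹ * e * y)) * y⁻¹ := by rw [h1]
        _ = y * u' * y⁻¹ * e := by group
    have hv'D := hTTD hv'TT
    have hyyD : y * y ∈ centralizerIn S (Subgroup.zpowers t') :=
      mem_centralizerIn_zpowers_iff.mpr ⟨S.mul_mem hy hy, hyy.symm⟩
    -- `v'` commutes with `u'`
    have huv : v' * u' = u' * v' := by
      have h1 : φ (⟨v', hv'D⟩ * ⟨u', hu'D⟩) = φ (⟨u', hu'D⟩ * ⟨v', hv'D⟩) := by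
        rw [map_mul, map_mul, hφu']
        exact (mem_ZS_iff.mp hu).2 _ (hφS _)
      exact congrArg Subtype.val (hinj h1)
    have hyyu : (y * y) * u' = u' * (y * y) := by
      have h1 : φ (⟨y * y, hyyD⟩ * ⟨u', hu'D⟩) = φ (⟨u', hu'D⟩ * ⟨y * y, hyyD⟩) := by
        rw [map_mul, map_mul, hφu']
        exact (mem_ZS_iff.mp hu).2 _ (hφS _)
      exact congrArg Subtype.val (hinj h1)
    have hyvy : y * v' * y⁻¹ = u' := by
      calc y * v' * y⁻¹ = (y * y) * u' * (y * y)⁻¹ := by rw [hv']; group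
        _ = u' * (y * y) * (y * y)⁻¹ := by rw [hyyu]
        _ = u' := by group
    obtain ⟨b, hb⟩ : ∃ b, b = u'⁻¹ * v' := ⟨_, rfl⟩
    have hbS : b ∈ S := by rw [hb]; exact S.mul_mem (S.inv_mem hu'S) hv'S
    have hinv : y * b * y⁻¹ = b⁻¹ := by
      calc y * b * y⁻¹ = (y * u' * y⁻¹)⁻¹ * (y * v' * y⁻¹) := by rw [hb]; group
        _ = v'⁻¹ * u' := by rw [hyvy, ← hv']
        _ = b⁻¹ := by rw [hb, mul_inv_rev, inv_inv]
    have hbb : b⁻¹ = b := eq_inv_of_inverted hS F hF hH hbS hy hinv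
    have hbb1 : b * b = 1 := by
      nth_rewrite 1 [← hbb]; exact inv_mul_cancel b
    have hvub : v' = u' * b := by rw [hb]; group
    have hub : b * u' = u' * b := by
      rw [← hvub, hb, mul_assoc, huv, ← mul_assoc, inv_mul_cancel, one_mul]
    have hvv : v' * v' = u' * u' := by
      calc v' * v' = u' * b * (u' * b) := by rw [← hvub]
        _ = u' * (b * u') * b := by group
        _ = u' * (u' * b) * b := by rw [hub]
        _ = u' * u' * (b * b) := by group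
        _ = u' * u' := by rw [hbb1, mul_one]
    have hpow : v' ^ (2 ^ (a - 1)) = u' ^ (2 ^ (a - 1)) := by
      have h2 : 2 ^ (a - 1) = 2 * 2 ^ (a - 2) := by
        rw [← pow_succ']; congr 1; omega
      rw [h2, pow_mul, pow_mul, pow_two, pow_two, hvv]
    have hconj' : y * t' * y⁻¹ = t' := by
      calc y * t' * y⁻¹ = (y * u' * y⁻¹) ^ (2 ^ (a - 1)) := by
            rw [← hu't']; exact (conj_pow (a := y) (b := u') (i := 2 ^ (a - 1))).symm
        _ = t' := by rw [← hv', hpow, hu't']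
    calc y * t' = y * t' * y⁻¹ * y := by group
      _ = t' * y := by rw [hconj']
  -- induction on the order
  have step : ∀ k : ℕ, ∀ y ∈ S, y ^ (2 ^ k) * t' = t' * y ^ (2 ^ k) → y * t' = t' * y := by
    intro k
    induction k with
    | zero =>
      intro y _ h
      simpa using h
    | succ k ih =>
      intro y hy h
      apply core y hy
      apply ih (y * y) (S.mul_mem hy hy)
      rw [← pow_two, ← pow_mul, ← pow_succ']
      exact h
  rw [mem_ZS_iff]
  refine ⟨ht'S, fun y hy => ?_⟩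
  obtain ⟨k, hk⟩ := hS ⟨y, hy⟩
  have hk' : y ^ (2 ^ k) = 1 := by
    have := congrArg Subtype.val hk
    simpa using this
  apply step k y hy
  rw [hk', one_mul, mul_one]

end CaminaB

end Cfsg.Agent.Lib.Helper26
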