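import Cfsg.Agent.Lib.Helper26.FSFactorHyp
import Cfsg.Agent.Lib.Helper26.FSFactorExists
import Cfsg.Agent.Lib.Helper26.FSGroup

/-!
S5133: the image of a saturated fusion system under a surjective morphism is saturated.
-/

set_option autoImplicit false

namespace Cfsg.Agent.Lib.Helper26

open Cfsg Cfsg.FusionSystem

section GroupTools

variable {G : Type*} [Group G]

/-- A `p`-subgroup of `B K` (`B` Sylow, `K` normal) is conjugate into `B` by an element of `K`. -/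
theorem exists_conj_mem_of_le_sup_normal [Finite G] {p : ℕ} [Fact p.Prime] (B K X : Subgroup G) [hK : K.Normal]
    (hB : ∃ R : Sylow p G, (R : Subgroup G) = B) (hX : IsPGroup p X) (hXBK : X ≤ B ⊔ K) :
    ∃ k ∈ K, ∀ x ∈ X, k * x * k⁻¹ ∈ B := by
  obtain ⟨R, rfl⟩ := hB
  have hSyl : ∃ R' : Sylow p ↥((R : Subgroup G) ⊔ K),
      (R' : Subgroup ↥((R : Subgroup G) ⊔ K)) = (R : Subgroup G).subgroupOf ((R : Subgroup G) ⊔ K) := by
    rw [sylowIn_iff_card le_sup_left]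
    refine ⟨R.isPGroup', fun C _ hC => ?_⟩
    obtain ⟨g, hg⟩ := exists_conj_le_sylow R hC
    rw [← card_map_conj C g]
    exact Subgroup.card_le_of_le hg
  obtain ⟨h, hh, hhX⟩ := exists_conj_le_of_sylowIn hSyl hXBK hX
  have hh' : h ∈ (((R : Subgroup G) ⊔ K : Subgroup G) : Set G) := hh
  rw [Subgroup.mul_normal] at hh'
  obtain ⟨b, hb, k, hk, rfl⟩ := hh'
  refine ⟨k, hk, fun x hx => ?_⟩
  have h1 : b * k * x * (b * k)⁻¹ ∈ (R : Subgroup G) := hhX ⟨x, hx, rfl⟩
  have h2 : b⁻¹ * (b * k * x * (b * k)⁻¹) * b ∈ (R : Subgroup G) :=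
    Subgroup.mul_mem _ (Subgroup.mul_mem _ (Subgroup.inv_mem _ hb) h1) hb
  have e : b⁻¹ * (b * k * x * (b * k)⁻¹) * b = k * x * k⁻¹ := by group
  rw [e] at h2
  exact h2

end GroupTools

section InducedHom

variable {A B : Type*} [Group A] [Group B]

/-- The homomorphism sending an automorphism to the automorphism it induces on a quotient. -/
noncomputable def inducedHom (π : A →* B) (hπ : Function.Surjective π) (X : Subgroup (MulAut A))
    (Y : Subgroup (MulAut B)) (hex : ∀ a ∈ X, ∃ a' ∈ Y, ∀ y, π (a y) = a' (π y)) : X →* Y where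
  toFun a := ⟨Classical.choose (hex a.1 a.2), (Classical.choose_spec (hex a.1 a.2)).1⟩
  map_one' := by
    apply Subtype.ext
    apply ind_unique π hπ (α := (1 : MulAut A)) (Classical.choose_spec (hex (1 : X).1 (1 : X).2)).2
    intro y
    rfl
  map_mul' a b := by
    apply Subtype.ext
    apply ind_unique π hπ (α := (a.1 * b.1 : MulAut A)) (Classical.choose_spec (hex (a * b).1 (a * b).2)).2
    exact ind_mul π (Classical.choose_spec (hex a.1 a.2)).2 (Classical.choose_spec (hex b.1 b.2)).2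

theorem inducedHom_spec (π : A →* B) (hπ : Function.Surjective π) (X : Subgroup (MulAut A))
    (Y : Subgroup (MulAut B)) (hex : ∀ a ∈ X, ∃ a' ∈ Y, ∀ y, π (a y) = a' (π y)) (a : X) (y : A) :
    π ((a : MulAut A) y) = ((inducedHom π hπ X Y hex a : Y) : MulAut B) (π y) :=
  (Classical.choose_spec (hex a.1 a.2)).2 y

theorem inducedHom_eq (π : A →* B) (hπ : Function.Surjective π) (X : Subgroup (MulAut A))
    (Y : Subgroup (MulAut B)) (hex : ∀ a ∈ X, ∃ a' ∈ Y, ∀ y, π (a y) = a' (π y)) (a : X) (a' : MulAut B)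
    (h : ∀ y, π ((a : MulAut A) y) = a' (π y)) : ((inducedHom π hπ X Y hex a : Y) : MulAut B) = a' :=
  ind_unique π hπ (inducedHom_spec π hπ X Y hex a) h

end InducedHom

section SurjMorph

variable {Ω : Type*} [Group Ω] {S : Subgroup Ω} {Ω' : Type*} [Group Ω'] {S' : Subgroup Ω'}

/-- The kernel of `θ` as a subgroup of the ambient group. -/
def kerAlong (θ : S →* Ω') : Subgroup Ω := preimageAlong θ ⊥

theorem mem_kerAlong (θ : S →* Ω') (s : S) : θ s = 1 ↔ (s : Ω) ∈ kerAlong θ := by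
  unfold kerAlong
  rw [mem_preimageAlong_iff]
  constructor
  · intro h
    exact ⟨s.2, by rw [Subtype.coe_eta, h]; exact Subgroup.one_mem _⟩
  · rintro ⟨_, h⟩
    exact Subgroup.mem_bot.mp h

theorem kerAlong_le (θ : S →* Ω') : kerAlong θ ≤ S := preimageAlong_le θ ⊥

theorem kerAlong_le_preimageAlong (θ : S →* Ω') (P' : Subgroup Ω') : kerAlong θ ≤ preimageAlong θ P' := by
  intro t ht
  rw [mem_preimageAlong_iff]
  refine ⟨kerAlong_le θ ht, ?_⟩
  rw [(mem_kerAlong θ ⟨t, kerAlong_le θ ht⟩).mpr ht]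
  exact P'.one_mem

/-- The projection of the full preimage of `P'` onto `P'`. -/
def projHom (θ : S →* Ω') (P' : Subgroup Ω') : (preimageAlong θ P' : Subgroup Ω) →* P' :=
  resHom θ (preimageAlong_le θ P') P' (fun y => ((mem_preimageAlong_iff θ P' y).mp y.2).2)

theorem projHom_coe (θ : S →* Ω') (P' : Subgroup Ω') (y : (preimageAlong θ P' : Subgroup Ω)) :
    ((projHom θ P' y : P') : Ω') = θ ⟨y, preimageAlong_le θ P' y.2⟩ := rfl

theorem projHom_surjective (θ : S →* Ω') (hrange : θ.range = S') {P' : Subgroup Ω'} (hP' : P' ≤ S') :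
    Function.Surjective (projHom θ P') := by
  rintro ⟨z, hz⟩
  obtain ⟨y, hy⟩ := exists_preimage_elt θ hrange hP' z hz
  exact ⟨y, Subtype.ext hy⟩

theorem imageAlong_preimageAlong (θ : S →* Ω') (hrange : θ.range = S') {P' : Subgroup Ω'} (hP' : P' ≤ S') :
    imageAlong θ (preimageAlong θ P') = P' := by
  ext z
  rw [mem_imageAlong_iff]
  constructor
  · rintro ⟨s, hs, rfl⟩
    obtain ⟨_, h⟩ := (mem_preimageAlong_iff θ P' _).mp hs
    exact h
  · intro hz
    obtain ⟨y, hy⟩ := exists_preimage_elt θ hrange hP' z hz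
    exact ⟨⟨y, preimageAlong_le θ P' y.2⟩, y.2, hy⟩

variable (F : FusionSystem S) (F' : FusionSystem S') (θ : S →* Ω')

theorem kerAlong_stronglyClosed (hθ : F.IsSurjectiveMorphism F' θ) : F.StronglyClosed (kerAlong θ) := by
  refine ⟨kerAlong_le θ, fun R hR φ hφ x => ?_⟩
  obtain ⟨φ', hφ', hP, hφS, hPP', hind⟩ := hθ.1.2 R φ hφ
  rw [← mem_kerAlong θ ⟨φ x, hφS x⟩, ← hind x]
  have h1 : θ ⟨x, hP x.2⟩ = 1 := (mem_kerAlong θ _).mpr (hR x.2)
  have h2 : (⟨θ ⟨x, hP x.2⟩, hPP' x⟩ : imageAlong θ R) = 1 := Subtype.ext h1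
  rw [h2, map_one]

/-- Maps of `F` on a full preimage induce maps of `F'`. -/
theorem exists_induced_hom (hθ : F.IsSurjectiveMorphism F' θ) {P' : Subgroup Ω'} (hP' : P' ≤ S') {φ : (preimageAlong θ P' : Subgroup Ω) →* Ω}
    (hφ : φ ∈ F.Hom (preimageAlong θ P')) :
    ∃ φ' ∈ F'.Hom P', ∀ y, φ' (projHom θ P' y) = θ ⟨φ y, hom_apply_mem F hφ y⟩ := by
  obtain ⟨φ'', hφ'', hP, hφS, hPP', hind⟩ := hθ.1.2 _ φ hφ
  have h := imageAlong_preimageAlong θ hθ.2.1 hP'
  refine ⟨φ''.comp (Subgroup.inclusion h.ge), hom_congr F' h hφ'', fun y => ?_⟩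
  exact hind y

/-- Maps of `F'` lift to maps of `F` on the full preimage. -/
theorem exists_lift_hom (hθ : F.IsSurjectiveMorphism F' θ) {P' : Subgroup Ω'} (hP' : P' ≤ S') {φ' : P' →* Ω'}
    (hφ' : φ' ∈ F'.Hom P') :
    ∃ φ, ∃ hφ : φ ∈ F.Hom (preimageAlong θ P'), ∀ y, φ' (projHom θ P' y) = θ ⟨φ y, hom_apply_mem F hφ y⟩ := by
  obtain ⟨φ, hφ, hP, hφS, hPP', hind⟩ := hθ.2.2 P' hP' φ' hφ'
  exact ⟨φ, hφ, fun y => hind y⟩

/-- The image of the lift is the full preimage of the image. -/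
theorem range_eq_preimage_range [Finite S] (hθ : F.IsSurjectiveMorphism F' θ) {P' : Subgroup Ω'} (hP' : P' ≤ S')
    {φ : (preimageAlong θ P' : Subgroup Ω) →* Ω} (hφ : φ ∈ F.Hom (preimageAlong θ P')) {φ' : P' →* Ω'}
    (hind : ∀ y, φ' (projHom θ P' y) = θ ⟨φ y, hom_apply_mem F hφ y⟩) :
    φ.range = preimageAlong θ φ'.range := by
  have hT := kerAlong_stronglyClosed F F' θ hθ
  apply le_antisymm
  · rintro _ ⟨y, rfl⟩
    rw [mem_preimageAlong_iff]
    refine ⟨hom_apply_mem F hφ y, ?_⟩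
    rw [← hind y]
    exact ⟨_, rfl⟩
  · intro z hz
    obtain ⟨hzS, x', hx'⟩ := (mem_preimageAlong_iff θ _ z).mp hz
    obtain ⟨y, rfl⟩ := projHom_surjective θ hθ.2.1 hP' x'
    rw [hind] at hx'
    have h1 : θ (⟨φ y, hom_apply_mem F hφ y⟩⁻¹ * ⟨z, hzS⟩) = 1 := by
      rw [map_mul, map_inv, hx']; simp
    have h2 : (φ y)⁻¹ * z ∈ kerAlong θ := (mem_kerAlong θ _).mp h1
    obtain ⟨y', -, hy'⟩ := exists_preimage_of_stronglyClosed F hT (kerAlong_le_preimageAlong θ P') hφ _ h2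
    refine ⟨y * y', ?_⟩
    rw [map_mul, hy']
    simp

theorem exists_induced_aut (hθ : F.IsSurjectiveMorphism F' θ) {Q' : Subgroup Ω'} (hQ' : Q' ≤ S') :
    ∀ a ∈ F.autGroup (preimageAlong θ Q'), ∃ a' ∈ F'.autGroup Q',
      ∀ y, projHom θ Q' (a y) = a' (projHom θ Q' y) := by
  intro a ha
  have hQS := preimageAlong_le θ Q'
  have haF := (mem_autGroup_iff F hQS a).mp ha
  obtain ⟨φ', hφ', hind⟩ := exists_induced_hom F F' θ hθ hQ' haF
  have hπ := projHom_surjective θ hθ.2.1 hQ'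
  have hind' : ∀ y, φ' (projHom θ Q' y) = ((projHom θ Q' (a y) : Q') : Ω') := fun y => hind y
  have hrange : φ'.range = Q' := by
    apply le_antisymm
    · rintro _ ⟨z, rfl⟩
      obtain ⟨y, rfl⟩ := hπ z
      rw [hind']
      exact SetLike.coe_mem _
    · intro z hz
      obtain ⟨y, hy⟩ := hπ ⟨z, hz⟩
      refine ⟨projHom θ Q' (a⁻¹ y), ?_⟩
      rw [hind', MulAut.apply_inv_self, hy]
  refine ⟨homEquiv F' hφ' hrange, ?_, fun y => ?_⟩
  · rw [mem_autGroup_iff_isFIso F' hQ']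
    exact homEquiv_isFIso F' hφ' hrange
  · apply Subtype.ext
    rw [homEquiv_apply, hind']

theorem exists_lift_aut [Finite S] (hθ : F.IsSurjectiveMorphism F' θ) {Q' : Subgroup Ω'} (hQ' : Q' ≤ S') :
    ∀ a' ∈ F'.autGroup Q', ∃ a ∈ F.autGroup (preimageAlong θ Q'),
      ∀ y, projHom θ Q' (a y) = a' (projHom θ Q' y) := by
  intro a' ha'
  have hQS := preimageAlong_le θ Q'
  have haF' := (mem_autGroup_iff F' hQ' a').mp ha'
  obtain ⟨φ, hφ, hind⟩ := exists_lift_hom F F' θ hθ hQ' haF'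
  have hfin : Finite (preimageAlong θ Q' : Subgroup Ω) := finite_of_le hQS
  have hφQ : ∀ y, φ y ∈ preimageAlong θ Q' := by
    intro y
    rw [mem_preimageAlong_iff]
    refine ⟨hom_apply_mem F hφ y, ?_⟩
    rw [← hind y]
    exact SetLike.coe_mem (a' (projHom θ Q' y))
  have hrange : φ.range = preimageAlong θ Q' := range_eq_of_le φ (F.injective_of_mem hφ) hφQ
  refine ⟨homEquiv F hφ hrange, ?_, fun y => ?_⟩
  · rw [mem_autGroup_iff_isFIso F hQS]
    exact homEquiv_isFIso F hφ hrange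
  · apply Subtype.ext
    exact (hind y).symm

/-- Automorphisms of `Q'` induced by `S'` lift to automorphisms of the full preimage induced by `S`. -/
theorem exists_lift_autInducedBy (hθ : F.IsSurjectiveMorphism F' θ) {Q' : Subgroup Ω'} {a' : MulAut Q'}
    (ha' : a' ∈ autInducedBy S' Q') :
    ∃ b ∈ autInducedBy S (preimageAlong θ Q'), ∀ y, projHom θ Q' (b y) = a' (projHom θ Q' y) := by
  obtain ⟨g', hg'S', hg'⟩ := (mem_autInducedBy_iff S' Q' a').mp ha'
  have hg'r : g' ∈ θ.range := by rw [hθ.2.1]; exact hg'S'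
  obtain ⟨g, rfl⟩ := hg'r
  have hQS := preimageAlong_le θ Q'
  have hinv : ∀ z : Q', ((a'⁻¹ z : Q') : Ω') = (θ g)⁻¹ * z * θ g := by
    intro z
    have := hg' (a'⁻¹ z)
    rw [MulAut.apply_inv_self] at this
    rw [this]
    group
  have hnorm : (g : Ω) ∈ Subgroup.normalizer ((preimageAlong θ Q' : Subgroup Ω) : Set Ω) := by
    apply mem_normalizer_of_conj_mem
    · intro y hy
      rw [mem_preimageAlong_iff]
      refine ⟨S.mul_mem (S.mul_mem g.2 (hQS hy)) (S.inv_mem g.2), ?_⟩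
      have e : (⟨(g : Ω) * y * (g : Ω)⁻¹, S.mul_mem (S.mul_mem g.2 (hQS hy)) (S.inv_mem g.2)⟩ : S) =
          g * ⟨y, hQS hy⟩ * g⁻¹ := rfl
      rw [e, map_mul, map_mul, map_inv]
      have := hg' (projHom θ Q' ⟨y, hy⟩)
      rw [projHom_coe] at this
      rw [← this]
      exact SetLike.coe_mem _
    · intro y hy
      rw [mem_preimageAlong_iff]
      refine ⟨S.mul_mem (S.mul_mem (S.inv_mem g.2) (hQS hy)) g.2, ?_⟩
      have e : (⟨(g : Ω)⁻¹ * y * (g : Ω), S.mul_mem (S.mul_mem (S.inv_mem g.2) (hQS hy)) g.2⟩ : S) =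
          g⁻¹ * ⟨y, hQS hy⟩ * g := rfl
      rw [e, map_mul, map_mul, map_inv]
      have := hinv (projHom θ Q' ⟨y, hy⟩)
      rw [projHom_coe] at this
      rw [← this]
      exact SetLike.coe_mem _
  refine ⟨(preimageAlong θ Q' : Subgroup Ω).normalizerMonoidHom ⟨g, hnorm⟩,
    normalizerMonoidHom_mem_autInducedBy g.2 hnorm, fun y => ?_⟩
  apply Subtype.ext
  rw [hg', projHom_coe, projHom_coe]
  have e : (⟨(((preimageAlong θ Q' : Subgroup Ω).normalizerMonoidHom ⟨g, hnorm⟩ y :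
      (preimageAlong θ Q' : Subgroup Ω)) : Ω), hQS (SetLike.coe_mem _)⟩ : S) = g * ⟨y, hQS y.2⟩ * g⁻¹ := rfl
  rw [e, map_mul, map_mul, map_inv]

end SurjMorph

section Automized

variable {Ω : Type*} [Group Ω] {S : Subgroup Ω} {Ω' : Type*} [Group Ω'] {S' : Subgroup Ω'}
variable (F : FusionSystem S) (F' : FusionSystem S') (θ : S →* Ω')

/-- The homomorphism `Aut_F(Q) → Aut_{F'}(Q')`. -/
noncomputable def autProj (hθ : F.IsSurjectiveMorphism F' θ) {Q' : Subgroup Ω'} (hQ' : Q' ≤ S') :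
    F.autGroup (preimageAlong θ Q') →* F'.autGroup Q' :=
  inducedHom (projHom θ Q') (projHom_surjective θ hθ.2.1 hQ') _ _ (exists_induced_aut F F' θ hθ hQ')

theorem autProj_spec (hθ : F.IsSurjectiveMorphism F' θ) {Q' : Subgroup Ω'} (hQ' : Q' ≤ S')
    (a : F.autGroup (preimageAlong θ Q')) (y : (preimageAlong θ Q' : Subgroup Ω)) :
    projHom θ Q' ((a : MulAut _) y) = ((autProj F F' θ hθ hQ' a : F'.autGroup Q') : MulAut Q') (projHom θ Q' y) :=
  inducedHom_spec _ _ _ _ _ a y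

theorem autProj_eq (hθ : F.IsSurjectiveMorphism F' θ) {Q' : Subgroup Ω'} (hQ' : Q' ≤ S')
    (a : F.autGroup (preimageAlong θ Q')) (a' : MulAut Q')
    (h : ∀ y, projHom θ Q' ((a : MulAut _) y) = a' (projHom θ Q' y)) :
    ((autProj F F' θ hθ hQ' a : F'.autGroup Q') : MulAut Q') = a' :=
  inducedHom_eq _ _ _ _ _ a a' h

theorem autProj_surjective [Finite S] (hθ : F.IsSurjectiveMorphism F' θ) {Q' : Subgroup Ω'} (hQ' : Q' ≤ S') :
    Function.Surjective (autProj F F' θ hθ hQ') := by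
  intro a'
  obtain ⟨a, ha, hind⟩ := exists_lift_aut F F' θ hθ hQ' a'.1 a'.2
  exact ⟨⟨a, ha⟩, Subtype.ext (autProj_eq F F' θ hθ hQ' ⟨a, ha⟩ a'.1 hind)⟩

/-- The image of an automorphism induced by `S` is induced by `S'`. -/
theorem autProj_mem_autInducedBy (hθ : F.IsSurjectiveMorphism F' θ) {Q' : Subgroup Ω'} (hQ' : Q' ≤ S')
    (a : F.autGroup (preimageAlong θ Q')) (ha : (a : MulAut _) ∈ autInducedBy S (preimageAlong θ Q')) :
    ((autProj F F' θ hθ hQ' a : F'.autGroup Q') : MulAut Q') ∈ autInducedBy S' Q' := by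
  obtain ⟨g, hgS, hg⟩ := (mem_autInducedBy_iff _ _ _).mp ha
  rw [mem_autInducedBy_iff]
  refine ⟨θ ⟨g, hgS⟩, hθ.1.1 _, fun z => ?_⟩
  obtain ⟨y, rfl⟩ := projHom_surjective θ hθ.2.1 hQ' z
  rw [← autProj_spec, projHom_coe, projHom_coe]
  have hQS := preimageAlong_le θ Q'
  have e : (⟨((((a : MulAut _) y : (preimageAlong θ Q' : Subgroup Ω))) : Ω), hQS (SetLike.coe_mem _)⟩ : S) =
      ⟨g, hgS⟩ * ⟨y, hQS y.2⟩ * ⟨g, hgS⟩⁻¹ := Subtype.ext (hg y)
  rw [e, map_mul, map_mul, map_inv]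

theorem surj_fullyAutomized [Finite S] {p : ℕ} [Fact p.Prime] (hθ : F.IsSurjectiveMorphism F' θ)
    {Q' : Subgroup Ω'} (hQ' : Q' ≤ S') (hQ : F.IsFullyAutomized p (preimageAlong θ Q')) :
    F'.IsFullyAutomized p Q' := by
  obtain ⟨hQS, R, hR⟩ := hQ
  have hfinQ : Finite (preimageAlong θ Q' : Subgroup Ω) := finite_of_le hQS
  have hsurj := autProj_surjective F F' θ hθ hQ'
  refine ⟨hQ', R.mapSurjective hsurj, ?_⟩
  rw [Sylow.coe_mapSurjective, hR]
  ext a'
  constructor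
  · rintro ⟨a, ha, rfl⟩
    rw [SetLike.mem_coe, Subgroup.mem_subgroupOf] at ha
    rw [Subgroup.mem_subgroupOf]
    exact autProj_mem_autInducedBy F F' θ hθ hQ' a ha
  · intro ha'
    rw [Subgroup.mem_subgroupOf] at ha'
    obtain ⟨b, hb, hind⟩ := exists_lift_autInducedBy F F' θ hθ ha'
    have hbF : b ∈ F.autGroup (preimageAlong θ Q') := autInducedBy_le_autGroup F hQS hb
    refine ⟨⟨b, hbF⟩, ?_, Subtype.ext (autProj_eq F F' θ hθ hQ' ⟨b, hbF⟩ a'.1 hind)⟩
    rw [SetLike.mem_coe, Subgroup.mem_subgroupOf]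
    exact hb

end Automized

section Receptive

variable {Ω : Type*} [Group Ω] {S : Subgroup Ω} {Ω' : Type*} [Group Ω'] {S' : Subgroup Ω'}
variable (F : FusionSystem S) (F' : FusionSystem S') (θ : S →* Ω')

theorem autInducedBy_mono {K K' : Subgroup Ω} (h : K ≤ K') (P : Subgroup Ω) :
    autInducedBy K P ≤ autInducedBy K' P := by
  intro a ha
  obtain ⟨g, hg, hga⟩ := (mem_autInducedBy_iff K P a).mp ha
  exact (mem_autInducedBy_iff K' P a).mpr ⟨g, h hg, hga⟩

/-- Elements of the full preimage of a subgroup normalizing `R'` normalize the full preimage of `R'`. -/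
theorem mem_normalizer_preimageAlong {R' : Subgroup Ω'} {g : Ω} (hgS : g ∈ S)
    (hg : θ ⟨g, hgS⟩ ∈ Subgroup.normalizer (R' : Set Ω')) :
    g ∈ Subgroup.normalizer ((preimageAlong θ R' : Subgroup Ω) : Set Ω) := by
  have hRS := preimageAlong_le θ R'
  apply mem_normalizer_of_conj_mem
  · intro y hy
    rw [mem_preimageAlong_iff]
    refine ⟨S.mul_mem (S.mul_mem hgS (hRS hy)) (S.inv_mem hgS), ?_⟩
    have e : (⟨g * y * g⁻¹, S.mul_mem (S.mul_mem hgS (hRS hy)) (S.inv_mem hgS)⟩ : S) =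
        ⟨g, hgS⟩ * ⟨y, hRS hy⟩ * ⟨g, hgS⟩⁻¹ := rfl
    rw [e, map_mul, map_mul, map_inv]
    exact (Subgroup.mem_normalizer_iff.mp hg _).mp ((mem_preimageAlong_iff θ R' y).mp hy).2
  · intro y hy
    rw [mem_preimageAlong_iff]
    refine ⟨S.mul_mem (S.mul_mem (S.inv_mem hgS) (hRS hy)) hgS, ?_⟩
    have e : (⟨g⁻¹ * y * g, S.mul_mem (S.mul_mem (S.inv_mem hgS) (hRS hy)) hgS⟩ : S) =
        ⟨g, hgS⟩⁻¹ * ⟨y, hRS hy⟩ * ⟨g, hgS⟩ := rfl
    rw [e, map_mul, map_mul, map_inv]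
    have h1 := (Subgroup.mem_normalizer_iff.mp (Subgroup.inv_mem _ hg) _).mp
      ((mem_preimageAlong_iff θ R' y).mp hy).2
    rwa [inv_inv] at h1

theorem surj_receptive [Finite S] {p : ℕ} [Fact p.Prime] (hS : IsPGroup p S) (hθ : F.IsSurjectiveMorphism F' θ)
    {Q' : Subgroup Ω'} (hQ' : Q' ≤ S') (hQa : F.IsFullyAutomized p (preimageAlong θ Q'))
    (hQr : F.IsReceptive (preimageAlong θ Q')) : F'.IsReceptive Q' := by
  refine ⟨hQ', fun R' φ' hφ' hrange' => ?_⟩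
  subst hrange'
  have hR'S' : R' ≤ S' := hom_le F' hφ'
  obtain ⟨φ, hφ, hind⟩ := exists_lift_hom F F' θ hθ hR'S' hφ'
  have hφrange : φ.range = preimageAlong θ φ'.range := range_eq_preimage_range F F' θ hθ hR'S' hφ hind
  have hRS := preimageAlong_le θ R'
  have hQS := preimageAlong_le θ φ'.range
  have hfinQ : Finite (preimageAlong θ φ'.range : Subgroup Ω) := finite_of_le hQS
  have he : IsFIso F (homEquiv F hφ hφrange) := homEquiv_isFIso F hφ hφrange
  have hN'S' : extender S' R' φ' ≤ S' := (extender_le S' R' φ').trans (normalizerIn_le S' R')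
  have hNS := preimageAlong_le θ (extender S' R' φ')
  have hπQ := projHom_surjective θ hθ.2.1 hQ'
  -- data attached to an element of `N`
  have hdata : ∀ g ∈ preimageAlong θ (extender S' R' φ'), ∃ hgS : g ∈ S,
      g ∈ Subgroup.normalizer ((preimageAlong θ R' : Subgroup Ω) : Set Ω) ∧
      ∃ h' ∈ S', ∀ (x : R') (hx : θ ⟨g, hgS⟩ * (x : Ω') * (θ ⟨g, hgS⟩)⁻¹ ∈ R'),
        φ' ⟨θ ⟨g, hgS⟩ * x * (θ ⟨g, hgS⟩)⁻¹, hx⟩ = h' * φ' x * h'⁻¹ := by
    intro g hg
    obtain ⟨hgS, hgN'⟩ := (mem_preimageAlong_iff θ _ g).mp hg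
    obtain ⟨-, hnorm', h', hh', hconj⟩ := (mem_extender_iff S' R' φ' _).mp hgN'
    exact ⟨hgS, mem_normalizer_preimageAlong θ hgS hnorm', h', hh', hconj⟩
  -- the subgroup `X`
  have hXp : IsPGroup p (((autInducedBy (preimageAlong θ (extender S' R' φ')) (preimageAlong θ R')).subgroupOf
      (F.autGroup (preimageAlong θ R'))).map (autCongr F he)) :=
    ((autInducedBy_isPGroup (hS.to_le hNS) _).comap_subtype).map _
  obtain ⟨-, Rsyl, hRsyl⟩ := hQa
  -- the key claim: elements of `X` act on `Q'` as elements of `S'`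
  have hclaim : ∀ x ∈ ((autInducedBy (preimageAlong θ (extender S' R' φ')) (preimageAlong θ R')).subgroupOf
      (F.autGroup (preimageAlong θ R'))).map (autCongr F he),
      ((autProj F F' θ hθ hQ' x : F'.autGroup φ'.range) : MulAut φ'.range) ∈ autInducedBy S' φ'.range := by
    rintro _ ⟨c, hc, rfl⟩
    rw [SetLike.mem_coe, Subgroup.mem_subgroupOf] at hc
    obtain ⟨g, hgN, hgc⟩ := (mem_autInducedBy_iff _ _ _).mp hc
    obtain ⟨hgS, hgnorm, h', hh', hconj⟩ := hdata g hgN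
    rw [mem_autInducedBy_iff]
    refine ⟨h', hh', fun z => ?_⟩
    obtain ⟨y, rfl⟩ := hπQ z
    rw [← autProj_spec, autCongr_coe, projHom_coe, projHom_coe]
    -- `y = e r`
    set r := (homEquiv F hφ hφrange).symm y with hr
    have hy : y = homEquiv F hφ hφrange r := by rw [hr, MulEquiv.apply_symm_apply]
    have h1 : (MulAut.congr (homEquiv F hφ hφrange) (c : MulAut _)) y =
        homEquiv F hφ hφrange ((c : MulAut _) r) := by
      simp [MulAut.congr, hr]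
    rw [h1]
    have h2 : θ ⟨((homEquiv F hφ hφrange ((c : MulAut _) r) : (preimageAlong θ φ'.range : Subgroup Ω)) : Ω),
        hQS (SetLike.coe_mem _)⟩ = φ' (projHom θ R' ((c : MulAut _) r)) := by
      rw [hind]
      rfl
    have h3 : θ ⟨(y : Ω), hQS y.2⟩ = φ' (projHom θ R' r) := by
      rw [hind]
      congr 2
      rw [hy]
      rfl
    rw [h2, h3]
    have hx : θ ⟨g, hgS⟩ * ((projHom θ R' r : R') : Ω') * (θ ⟨g, hgS⟩)⁻¹ ∈ R' :=
      (Subgroup.mem_normalizer_iff.mp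
        ((mem_extender_iff S' R' φ' _).mp ((mem_preimageAlong_iff θ _ g).mp hgN).2).2.1 _).mp (SetLike.coe_mem _)
    rw [← hconj (projHom θ R' r) hx]
    congr 1
    apply Subtype.ext
    have e : (⟨((((c : MulAut _) r : (preimageAlong θ R' : Subgroup Ω))) : Ω), hRS (SetLike.coe_mem _)⟩ : S) =
        ⟨g, hgS⟩ * ⟨r, hRS r.2⟩ * ⟨g, hgS⟩⁻¹ := Subtype.ext (hgc r)
    show θ ⟨((((c : MulAut _) r : (preimageAlong θ R' : Subgroup Ω))) : Ω), hRS (SetLike.coe_mem _)⟩ =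
      θ ⟨g, hgS⟩ * θ ⟨r, hRS r.2⟩ * (θ ⟨g, hgS⟩)⁻¹
    rw [e, map_mul, map_mul, map_inv]
  -- `X ≤ B K`
  have hXBK : ((autInducedBy (preimageAlong θ (extender S' R' φ')) (preimageAlong θ R')).subgroupOf
      (F.autGroup (preimageAlong θ R'))).map (autCongr F he) ≤
      (autInducedBy S (preimageAlong θ φ'.range)).subgroupOf (F.autGroup (preimageAlong θ φ'.range)) ⊔
        (autProj F F' θ hθ hQ').ker := by
    intro x hx
    have h1 := hclaim x hx
    obtain ⟨b, hb, hbind⟩ := exists_lift_autInducedBy F F' θ hθ h1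
    have hbF : b ∈ F.autGroup (preimageAlong θ φ'.range) := autInducedBy_le_autGroup F hQS hb
    have h2 : autProj F F' θ hθ hQ' ⟨b, hbF⟩ = autProj F F' θ hθ hQ' x :=
      Subtype.ext (autProj_eq F F' θ hθ hQ' ⟨b, hbF⟩ _ hbind)
    have h3 : x = ⟨b, hbF⟩ * (⟨b, hbF⟩⁻¹ * x) := by group
    rw [h3]
    apply Subgroup.mul_mem_sup
    · rw [Subgroup.mem_subgroupOf]; exact hb
    · rw [MonoidHom.mem_ker, map_mul, map_inv, h2, inv_mul_cancel]
  obtain ⟨k, hk, hkX⟩ := exists_conj_mem_of_le_sup_normal _ _ _ ⟨Rsyl, hRsyl⟩ hXp hXBK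
  have hkF := (mem_autGroup_iff F hQS (k : MulAut _)).mp k.2
  -- `k` acts trivially on `Q'`
  have hktriv : ∀ y, projHom θ φ'.range ((k : MulAut _) y) = projHom θ φ'.range y := by
    intro y
    rw [autProj_spec F F' θ hθ hQ' k y, MonoidHom.mem_ker.mp hk]
    rfl
  -- the twisted map
  have hφ₁ := comp_equiv_mem F he hkF
  have hφ₁apply : ∀ x, (((preimageAlong θ φ'.range : Subgroup Ω).subtype.comp
      (k : MulAut _).toMonoidHom).comp (homEquiv F hφ hφrange).toMonoidHom) x =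
      (((k : MulAut _) (homEquiv F hφ hφrange x) : (preimageAlong θ φ'.range : Subgroup Ω)) : Ω) := fun x => rfl
  have hφ₁range : (((preimageAlong θ φ'.range : Subgroup Ω).subtype.comp
      (k : MulAut _).toMonoidHom).comp (homEquiv F hφ hφrange).toMonoidHom).range = preimageAlong θ φ'.range := by
    apply le_antisymm
    · rintro _ ⟨x, rfl⟩
      rw [hφ₁apply]
      exact SetLike.coe_mem _
    · intro z hz
      refine ⟨(homEquiv F hφ hφrange).symm ((k : MulAut _)⁻¹ ⟨z, hz⟩), ?_⟩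
      rw [hφ₁apply, MulEquiv.apply_symm_apply, MulAut.apply_inv_self]
  -- `N ≤ N_{φ₁}`
  have hNle : preimageAlong θ (extender S' R' φ') ≤ extender S (preimageAlong θ R')
      (((preimageAlong θ φ'.range : Subgroup Ω).subtype.comp
      (k : MulAut _).toMonoidHom).comp (homEquiv F hφ hφrange).toMonoidHom) := by
    intro g hgN
    obtain ⟨hgS, hgnorm, -⟩ := hdata g hgN
    rw [mem_extender_iff]
    refine ⟨hgS, hgnorm, ?_⟩
    -- the automorphism `c_g` of `R`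
    have hcN : (preimageAlong θ R' : Subgroup Ω).normalizerMonoidHom ⟨g, hgnorm⟩ ∈
        autInducedBy (preimageAlong θ (extender S' R' φ')) (preimageAlong θ R') :=
      normalizerMonoidHom_mem_autInducedBy hgN hgnorm
    have hcF : (preimageAlong θ R' : Subgroup Ω).normalizerMonoidHom ⟨g, hgnorm⟩ ∈
        F.autGroup (preimageAlong θ R') :=
      autInducedBy_le_autGroup F hRS (autInducedBy_mono hNS _ hcN)
    have hmemX : autCongr F he ⟨_, hcF⟩ ∈
        ((autInducedBy (preimageAlong θ (extender S' R' φ')) (preimageAlong θ R')).subgroupOf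
          (F.autGroup (preimageAlong θ R'))).map (autCongr F he) :=
      ⟨⟨_, hcF⟩, by rw [SetLike.mem_coe, Subgroup.mem_subgroupOf]; exact hcN, rfl⟩
    have hB := hkX _ hmemX
    rw [Subgroup.mem_subgroupOf] at hB
    obtain ⟨h, hhS, hh⟩ := (mem_autInducedBy_iff _ _ _).mp hB
    refine ⟨h, hhS, fun x hx => ?_⟩
    rw [hφ₁apply, hφ₁apply]
    have h4 := hh ((k : MulAut _) (homEquiv F hφ hφrange x))
    rw [← h4]
    congr 1
    -- compute `(k a_g k⁻¹) (k (e x)) = k (e (c_g x))`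
    simp only [Subgroup.coe_mul, Subgroup.coe_inv, MulAut.mul_apply, MulAut.inv_apply_self, autCongr_coe]
    congr 1
    simp only [MulAut.congr, MulEquiv.coe_mk, Equiv.coe_fn_mk, MulEquiv.trans_apply, MulEquiv.symm_apply_apply]
    congr 1
  -- extend by receptivity
  obtain ⟨ψ, hψ, hψφ₁⟩ := hQr.2 _ _ hφ₁ hφ₁range
  have hψN := inclusion_comp_mem F hNle hψ
  obtain ⟨ψ', hψ', hψ'ind⟩ := exists_induced_hom F F' θ hθ hN'S' hψN
  refine ⟨ψ', hψ', fun x' hxR' hxN' => ?_⟩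
  obtain ⟨y, hy⟩ := projHom_surjective θ hθ.2.1 hN'S' ⟨x', hxN'⟩
  have hyx : θ ⟨y, hNS y.2⟩ = x' := congrArg Subtype.val hy
  have hyR : (y : Ω) ∈ preimageAlong θ R' := by
    rw [mem_preimageAlong_iff]
    exact ⟨hNS y.2, by rw [hyx]; exact hxR'⟩
  rw [← hy, hψ'ind]
  have h5 : (ψ.comp (Subgroup.inclusion hNle)) y = ψ ⟨y, hNle y.2⟩ := rfl
  have h6 := hψφ₁ (y : Ω) hyR (hNle y.2)
  have h7 : θ ⟨(ψ.comp (Subgroup.inclusion hNle)) y, hom_apply_mem F hψN y⟩ =
      ((projHom θ φ'.range ((k : MulAut _) (homEquiv F hφ hφrange ⟨y, hyR⟩)) : φ'.range) : Ω') := by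
    rw [projHom_coe]
    congr 2
  rw [h7, hktriv]
  have h8 : ((projHom θ φ'.range (homEquiv F hφ hφrange ⟨y, hyR⟩) : φ'.range) : Ω') =
      θ ⟨φ ⟨y, hyR⟩, hom_apply_mem F hφ _⟩ := rfl
  rw [h8, ← hind]
  congr 1
  exact Subtype.ext hyx

end Receptive

section Main

variable {Ω : Type*} [Group Ω] {S : Subgroup Ω} {Ω' : Type*} [Group Ω'] {S' : Subgroup Ω'}

/-- S5133. -/
theorem surj_saturated [Finite S] (p : ℕ) [Fact p.Prime] (hS : IsPGroup p S) (F : FusionSystem S)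
    (hF : F.IsSaturated p) (F' : FusionSystem S') (θ : S →* Ω') (hθ : F.IsSurjectiveMorphism F' θ) :
    F'.IsSaturated p := by
  intro P' hP'
  have hPS := preimageAlong_le θ P'
  obtain ⟨Q, hPQ, hQfn⟩ := exists_fullyNormalized_conj F hPS
  obtain ⟨φ, hφ, rfl⟩ := hPQ
  obtain ⟨φ', hφ', hind⟩ := exists_induced_hom F F' θ hθ hP' hφ
  have hrange := range_eq_preimage_range F F' θ hθ hP' hφ hind
  have hQ'S' : φ'.range ≤ S' := range_le F' hφ'
  rw [hrange] at hQfn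
  have h1 := saturated_fn hS F hF hQfn
  have h2 := saturated_fn_receptive hS F hF hQfn
  exact ⟨φ'.range, ⟨φ', hφ', rfl⟩, surj_fullyAutomized F F' θ hθ hQ'S' h1.2,
    surj_receptive F F' θ hS hθ hQ'S' h1.2 h2⟩

end Main

end Cfsg.Agent.Lib.Helper26
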