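import Cfsg.Agent.Lib.Helper26.FSCaminaB
import Cfsg.Agent.Lib.Helper26.FSFactorExists
import Cfsg.Agent.Lib.Helper26.FSSurjImage

/-!
Fusion-system version of the Camina–Herzog theorem (S5274), part C: the strongly closed subgroup
`W = {w² : w ∈ Z(S), w⁴ = 1}`, the passage to the factor system, and the main theorem `camina_herzog_fusion`.
-/

set_option autoImplicit false

namespace Cfsg.Agent.Lib.Helper26

open Cfsg Cfsg.FusionSystem

section CaminaC

variable {Ω : Type*} [Group Ω] {S : Subgroup Ω}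

/-- `W = {w² : w ∈ Z(S), w⁴ = 1}`. -/
def WS (S : Subgroup Ω) : Subgroup Ω where
  carrier := {x | ∃ w ∈ ZS S, w ^ 4 = 1 ∧ w ^ 2 = x}
  one_mem' := ⟨1, Subgroup.one_mem _, one_pow _, one_pow _⟩
  mul_mem' := by
    rintro _ _ ⟨w₁, h₁, h₁4, rfl⟩ ⟨w₂, h₂, h₂4, rfl⟩
    have hc : Commute w₁ w₂ := (mem_ZS_iff.mp h₂).2 w₁ (ZS_le S h₁)
    exact ⟨w₁ * w₂, Subgroup.mul_mem _ h₁ h₂, by rw [hc.mul_pow, h₁4, h₂4, one_mul], hc.mul_pow 2⟩
  inv_mem' := by
    rintro _ ⟨w, h, h4, rfl⟩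
    exact ⟨w⁻¹, Subgroup.inv_mem _ h, by rw [inv_pow, h4, inv_one], inv_pow w 2⟩

theorem mem_WS_iff {x : Ω} : x ∈ WS S ↔ ∃ w ∈ ZS S, w ^ 4 = 1 ∧ w ^ 2 = x := Iff.rfl

theorem WS_le_ZS (S : Subgroup Ω) : WS S ≤ ZS S := by
  rintro _ ⟨w, h, -, rfl⟩
  exact Subgroup.pow_mem _ h _

theorem WS_sq {x : Ω} (hx : x ∈ WS S) : x * x = 1 := by
  obtain ⟨w, -, h4, rfl⟩ := hx
  rw [← pow_add]
  exact h4

variable [Finite S]

theorem WS_stronglyClosed (hS : IsPGroup 2 S) (F : FusionSystem S) (hF : F.IsSaturated 2) (hH : CHyp F) :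
    F.StronglyClosed (WS S) := by
  have : Fact (Nat.Prime 2) := ⟨Nat.prime_two⟩
  refine ⟨(WS_le_ZS S).trans (ZS_le S), fun R hR φ hφ x => ?_⟩
  obtain ⟨x₀, hx₀⟩ : ∃ x₀ : Ω, x₀ = (x : Ω) := ⟨_, rfl⟩
  have hx₀R : x₀ ∈ R := hx₀ ▸ x.2
  have hx₀W : x₀ ∈ WS S := hR hx₀R
  obtain ⟨w, hw, hw4, hwx⟩ := hx₀W
  have hxR : Subgroup.zpowers x₀ ≤ R := by
    rw [Subgroup.zpowers_le]; exact hx₀R
  have hφ₁ := inclusion_comp_mem F hxR hφ
  have hφ₁x : (φ.comp (Subgroup.inclusion hxR)) ⟨x₀, Subgroup.mem_zpowers x₀⟩ = φ x := by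
    show φ _ = φ x
    congr 1
    exact Subtype.ext hx₀
  have hx'Z : φ x ∈ ZS S := by
    apply conj_mem_ZS_of_top hS F hF hH hw (a := 2) le_rfl (by simpa using hw4)
    have e : w ^ (2 ^ (2 - 1)) = x₀ := by simpa using hwx
    rw [e]
    exact ⟨_, hφ₁, hφ₁x⟩
  have hx'Z' : Subgroup.zpowers (φ x) ≤ ZS S := by
    rw [Subgroup.zpowers_le]; exact hx'Z
  have hφ₁Z : ∀ y, (φ.comp (Subgroup.inclusion hxR)) y ∈ ZS S := fun y => hx'Z' (isConjElt_apply_mem hφ₁x y)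
  obtain ⟨ψ, hψ, hψφ₁⟩ := exists_ext_centralizer hS F hF hφ₁ hφ₁Z
  have hx₀Z : x₀ ∈ ZS S := WS_le_ZS S ⟨w, hw, hw4, hwx⟩
  have hSC : S ≤ centralizerIn S (Subgroup.zpowers x₀) := by
    intro s hs
    exact mem_centralizerIn_zpowers_iff.mpr ⟨hs, ((mem_ZS_iff.mp hx₀Z).2 s hs).symm⟩
  have hwC : w ∈ centralizerIn S (Subgroup.zpowers x₀) := hSC (ZS_le S hw)
  have hx₀C : x₀ ∈ centralizerIn S (Subgroup.zpowers x₀) := hSC (ZS_le S hx₀Z)
  have hψx₀ : ψ ⟨x₀, hx₀C⟩ = φ x := (hψφ₁ x₀ (Subgroup.mem_zpowers x₀) hx₀C).trans hφ₁x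
  have hψS : ∀ c, ψ c ∈ S := hom_apply_mem F hψ
  have hinj := F.injective_of_mem hψ
  have hfinC : Finite (centralizerIn S (Subgroup.zpowers x₀)) := finite_of_le (centralizerIn_le S _)
  have hcard : Nat.card S ≤ Nat.card (centralizerIn S (Subgroup.zpowers x₀)) :=
    Nat.card_le_card_of_injective (Subgroup.inclusion hSC) (Subgroup.inclusion_injective _)
  have hsurj := surj_of_inj_of_card_le ψ hinj hψS hcard
  refine ⟨ψ ⟨w, hwC⟩, ?_, ?_, ?_⟩
  · rw [mem_ZS_iff]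
    refine ⟨hψS _, fun s hs => ?_⟩
    obtain ⟨c, rfl⟩ := hsurj s hs
    rw [← map_mul, ← map_mul]
    congr 1
    apply Subtype.ext
    exact (mem_ZS_iff.mp hw).2 c (centralizerIn_le S _ c.2)
  · rw [← map_pow]
    have : (⟨w, hwC⟩ : centralizerIn S (Subgroup.zpowers x₀)) ^ 4 = 1 := by
      apply Subtype.ext
      rw [Subgroup.coe_pow]
      exact hw4
    rw [this, map_one]
  · rw [← map_pow, ← hψx₀]
    congr 1
    apply Subtype.ext
    rw [Subgroup.coe_pow]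
    exact hwx

omit [Finite S] in
theorem exists_mem_WS_ne_one (hS : IsPGroup 2 S) (F : FusionSystem S) (hH : CHyp F) {x : Ω} (hx : x ∈ S)
    (hx2 : x * x ≠ 1) : ∃ y ∈ WS S, y ≠ 1 := by
  have : Fact (Nat.Prime 2) := ⟨Nat.prime_two⟩
  obtain ⟨z, hz, φ, hφ, hφz⟩ := hH x hx
  have hzS : z ∈ S := hz.1
  have hz2 : z * z ≠ 1 := by
    intro h
    apply hx2
    have h1 : φ (⟨x, Subgroup.mem_zpowers x⟩ * ⟨x, Subgroup.mem_zpowers x⟩) = φ 1 := by
      rw [map_mul, hφz, h, map_one]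
    exact congrArg Subtype.val (F.injective_of_mem hφ h1)
  obtain ⟨k, hk⟩ := (IsPGroup.iff_orderOf.mp hS) ⟨z, hzS⟩
  rw [Subgroup.orderOf_mk] at hk
  have hk2 : 2 ≤ k := by
    by_contra hlt
    apply hz2
    have : orderOf z ∣ 2 := by
      rw [hk]
      have : k < 2 := by omega
      interval_cases k <;> norm_num
    rw [← pow_two]
    exact orderOf_dvd_iff_pow_eq_one.mp this
  refine ⟨(z ^ (2 ^ (k - 2))) ^ 2, ⟨z ^ (2 ^ (k - 2)), Subgroup.pow_mem _ hz _, ?_, rfl⟩, ?_⟩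
  · rw [← pow_mul, show 2 ^ (k - 2) * 4 = 2 ^ k by
      rw [show (4 : ℕ) = 2 ^ 2 by norm_num, ← pow_add]; congr 1; omega, ← hk]
    exact pow_orderOf_eq_one z
  · rw [← pow_mul, show 2 ^ (k - 2) * 2 = 2 ^ (k - 1) by
      rw [← pow_succ]; congr 1; omega]
    apply pow_ne_one_of_lt_orderOf (by positivity)
    rw [hk]
    exact Nat.pow_lt_pow_right (by norm_num) (by omega)

/-- If the commutator of `a, b ∈ S` lies in `W`, then `a` and `b` commute. -/
theorem comm_of_commutator_mem_WS (hS : IsPGroup 2 S) (F : FusionSystem S) (hF : F.IsSaturated 2) (hH : CHyp F)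
    {a b : Ω} (ha : a ∈ S) (hb : b ∈ S) (hz : a * b * a⁻¹ * b⁻¹ ∈ WS S) : a * b = b * a := by
  have : Fact (Nat.Prime 2) := ⟨Nat.prime_two⟩
  have hW := WS_stronglyClosed hS F hF hH
  obtain ⟨z, hzdef⟩ : ∃ z, z = a * b * a⁻¹ * b⁻¹ := ⟨_, rfl⟩
  rw [← hzdef] at hz
  have hzZ : z ∈ ZS S := WS_le_ZS S hz
  have habz : a * b * a⁻¹ = z * b := by rw [hzdef]; group
  obtain ⟨c, hc, φ₀, hφ₀, hφ₀b⟩ := hH b hb
  have hcZ : Subgroup.zpowers c ≤ ZS S := by
    rw [Subgroup.zpowers_le]; exact hc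
  have hφ₀Z : ∀ y, φ₀ y ∈ ZS S := fun y => hcZ (isConjElt_apply_mem hφ₀b y)
  obtain ⟨ψ, hψ, hψφ₀⟩ := exists_ext_centralizer hS F hF hφ₀ hφ₀Z
  have hbC : b ∈ centralizerIn S (Subgroup.zpowers b) := mem_centralizerIn_zpowers_iff.mpr ⟨hb, rfl⟩
  have hzC : z ∈ centralizerIn S (Subgroup.zpowers b) :=
    mem_centralizerIn_zpowers_iff.mpr ⟨ZS_le S hzZ, (mem_ZS_iff.mp hzZ).2 b hb⟩
  have hBC : Subgroup.closure {b, z} ≤ centralizerIn S (Subgroup.zpowers b) := by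
    rw [Subgroup.closure_le]
    intro y hy
    rcases hy with h | h
    · rw [h]; exact hbC
    · rw [Set.mem_singleton_iff.mp h]; exact hzC
  have hψB := inclusion_comp_mem F hBC hψ
  -- values in `Z(S)`
  have hBK : Subgroup.closure {b, z} ≤ ((ZS S).comap ψ).map (centralizerIn S (Subgroup.zpowers b)).subtype := by
    rw [Subgroup.closure_le]
    intro y hy
    rcases hy with h | h
    · rw [h]
      refine ⟨⟨b, hbC⟩, ?_, rfl⟩
      show ψ ⟨b, hbC⟩ ∈ ZS S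
      rw [hψφ₀ b (Subgroup.mem_zpowers b) hbC, hφ₀b]
      exact hc
    · rw [Set.mem_singleton_iff.mp h]
      refine ⟨⟨z, hzC⟩, ?_, rfl⟩
      show ψ ⟨z, hzC⟩ ∈ ZS S
      have hzle : Subgroup.zpowers z ≤ centralizerIn S (Subgroup.zpowers b) := by
        rw [Subgroup.zpowers_le]; exact hzC
      have hzW : Subgroup.zpowers z ≤ WS S := by
        rw [Subgroup.zpowers_le]; exact hz
      exact WS_le_ZS S (hW.2 _ hzW _ (inclusion_comp_mem F hzle hψ) ⟨z, Subgroup.mem_zpowers z⟩)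
  have hψBZ : ∀ y, (ψ.comp (Subgroup.inclusion hBC)) y ∈ ZS S := by
    intro y
    obtain ⟨c', hc', hcy⟩ := hBK y.2
    have : Subgroup.inclusion hBC y = c' := Subtype.ext hcy.symm
    show ψ (Subgroup.inclusion hBC y) ∈ ZS S
    rw [this]
    exact hc'
  have hBS : Subgroup.closure {b, z} ≤ S := hBC.trans (centralizerIn_le S _)
  have hfinB : Finite (Subgroup.closure {b, z} : Subgroup Ω) := finite_of_le hBS
  have hbB : b ∈ Subgroup.closure {b, z} := Subgroup.subset_closure (Set.mem_insert _ _)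
  have hzB : z ∈ Subgroup.closure {b, z} := Subgroup.subset_closure (Set.mem_insert_of_mem _ rfl)
  have haN : a ∈ Subgroup.normalizer ((Subgroup.closure {b, z} : Subgroup Ω) : Set Ω) := by
    apply mem_normalizer_of_conj_mem_finite
    have hle : Subgroup.closure {b, z} ≤ (Subgroup.closure {b, z}).comap (MulAut.conj a).toMonoidHom := by
      rw [Subgroup.closure_le]
      intro y hy
      rw [SetLike.mem_coe, Subgroup.mem_comap]
      show a * y * a⁻¹ ∈ Subgroup.closure {b, z}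
      rcases hy with h | h
      · rw [h, habz]
        exact Subgroup.mul_mem _ hzB hbB
      · rw [Set.mem_singleton_iff.mp h, (mem_ZS_iff.mp hzZ).2 a ha, mul_inv_cancel_right]
        exact hzB
    intro y hy
    exact hle hy
  have h := conj_eq_of_hom_central hS F hF hψB hψBZ ha haN b hbB
  calc a * b = a * b * a⁻¹ * a := by group
    _ = b * a := by rw [h]

/-- The hypothesis passes to factor systems. -/
theorem chyp_factor (hS : IsPGroup 2 S) (F : FusionSystem S) (hF : F.IsSaturated 2) (hH : CHyp F)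
    {T : Subgroup Ω} (hT : F.StronglyClosed T) {Ω' : Type*} [Group Ω'] {S' : Subgroup Ω'} (θ : S →* Ω')
    (E : FusionSystem S') (hE : F.IsFactorSystem T θ E) : CHyp E := by
  have : Fact (Nat.Prime 2) := ⟨Nat.prime_two⟩
  have hsm := factorSystem_isSurjectiveMorphism hS F hF T hT θ E hE
  obtain ⟨hTS, hker, hrange, hhom⟩ := hE
  intro xbar hxbar
  rw [← hrange] at hxbar
  obtain ⟨s, rfl⟩ := hxbar
  obtain ⟨z, hz, φ, hφ, hφz⟩ := hH s s.2
  have hzS : z ∈ S := hz.1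
  refine ⟨θ ⟨z, hzS⟩, ⟨hsm.1.1 _, ?_⟩, ?_⟩
  · show θ ⟨z, hzS⟩ ∈ Subgroup.centralizer (S' : Set Ω')
    rw [Subgroup.mem_centralizer_iff]
    intro y hy
    rw [SetLike.mem_coe, ← hrange] at hy
    obtain ⟨s', rfl⟩ := hy
    rw [← map_mul, ← map_mul]
    congr 1
    apply Subtype.ext
    exact (mem_ZS_iff.mp hz).2 s' s'.2
  · obtain ⟨φ', hφ', hPS, hφS, hP', hind⟩ := hsm.1.2 _ φ hφ
    have hle : Subgroup.zpowers (θ s) ≤ imageAlong θ (Subgroup.zpowers (s : Ω)) := by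
      rw [Subgroup.zpowers_le]
      exact hP' ⟨s, Subgroup.mem_zpowers _⟩
    refine ⟨φ'.comp (Subgroup.inclusion hle), inclusion_comp_mem E hle hφ', ?_⟩
    have h1 := hind ⟨s, Subgroup.mem_zpowers _⟩
    show φ' (Subgroup.inclusion hle ⟨θ s, Subgroup.mem_zpowers _⟩) = θ ⟨z, hzS⟩
    have h2 : Subgroup.inclusion hle ⟨θ s, Subgroup.mem_zpowers _⟩ =
        ⟨θ ⟨((⟨s, Subgroup.mem_zpowers _⟩ : Subgroup.zpowers (s : Ω)) : Ω), hPS (Subgroup.mem_zpowers _)⟩,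
          hP' ⟨s, Subgroup.mem_zpowers _⟩⟩ := Subtype.ext rfl
    rw [h2, h1]
    congr 1
    exact Subtype.ext hφz

end CaminaC

section Main

universe u

/-- Fusion-system Camina–Herzog: if every element of the `2`-group `S` is conjugate in the saturated system `F` to an
element of `Z(S)`, then `S` is abelian. -/
theorem camina_herzog_fusion_aux : ∀ (n : ℕ) {Ω : Type u} [Group Ω] (S : Subgroup Ω) [Finite S], Nat.card S = n →
    IsPGroup 2 S → ∀ F : FusionSystem S, F.IsSaturated 2 → CHyp F → ∀ a ∈ S, ∀ b ∈ S, a * b = b * a := by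
  intro n
  induction n using Nat.strong_induction_on with
  | _ n ih =>
  intro Ω _ S _ hcard hS F hF hH a ha b hb
  have : Fact (Nat.Prime 2) := ⟨Nat.prime_two⟩
  by_cases hex : ∃ x ∈ S, x * x ≠ 1
  · obtain ⟨x, hx, hx2⟩ := hex
    obtain ⟨y, hyW, hy1⟩ := exists_mem_WS_ne_one hS F hH hx hx2
    have hW := WS_stronglyClosed hS F hF hH
    have hWn : ((WS S).subgroupOf S).Normal := by
      refine ⟨fun n hn g => ?_⟩
      rw [Subgroup.mem_subgroupOf] at hn ⊢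
      have hnZ := WS_le_ZS S hn
      have : ((g * n * g⁻¹ : S) : Ω) = (n : Ω) := by
        show (g : Ω) * n * (g : Ω)⁻¹ = n
        rw [(mem_ZS_iff.mp hnZ).2 g g.2, mul_inv_cancel_right]
      rw [this]
      exact hn
    obtain ⟨E, hE⟩ := exists_factorSystem_quotient F (WS S) hW
    have hsm := factorSystem_isSurjectiveMorphism hS F hF _ hW _ E hE
    have hEsat := surj_saturated 2 hS F hF E _ hsm
    have hEH := chyp_factor hS F hF hH hW _ E hE
    have hP2 : IsPGroup 2 (⊤ : Subgroup (S ⧸ (WS S).subgroupOf S)) :=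
      (hS.to_quotient ((WS S).subgroupOf S)).to_subgroup ⊤
    have hlt : Nat.card (⊤ : Subgroup (S ⧸ (WS S).subgroupOf S)) < n := by
      rw [Subgroup.card_top, ← hcard, Subgroup.card_eq_card_quotient_mul_card_subgroup ((WS S).subgroupOf S)]
      have h2 : 2 ≤ Nat.card ((WS S).subgroupOf S) := by
        have hyS : y ∈ S := (WS_le_ZS S).trans (ZS_le S) hyW
        have hne : (⟨⟨y, hyS⟩, Subgroup.mem_subgroupOf.mpr hyW⟩ : (WS S).subgroupOf S) ≠ 1 := by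
          intro h
          apply hy1
          exact congrArg (fun t : (WS S).subgroupOf S => ((t : S) : Ω)) h
        have : Nontrivial ((WS S).subgroupOf S) := ⟨⟨_, _, hne⟩⟩
        exact Finite.one_lt_card
      have h3 : 0 < Nat.card (S ⧸ (WS S).subgroupOf S) := Nat.card_pos
      nlinarith
    have hq := ih _ hlt (⊤ : Subgroup (S ⧸ (WS S).subgroupOf S)) rfl hP2 E hEsat hEH
      (QuotientGroup.mk' ((WS S).subgroupOf S) ⟨a, ha⟩) (Subgroup.mem_top _)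
      (QuotientGroup.mk' ((WS S).subgroupOf S) ⟨b, hb⟩) (Subgroup.mem_top _)
    apply comm_of_commutator_mem_WS hS F hF hH ha hb
    have hker := hE.2.1 (⟨a, ha⟩ * ⟨b, hb⟩ * ⟨a, ha⟩⁻¹ * ⟨b, hb⟩⁻¹)
    apply hker.mp
    rw [map_mul, map_mul, map_mul, map_inv, map_inv, hq]
    group
  · -- exponent at most `2`
    have hsq : ∀ g ∈ S, g * g = 1 := by
      intro g hg
      by_contra h
      exact hex ⟨g, hg, h⟩
    have h1 : a⁻¹ = a := inv_eq_of_mul_eq_one_left (hsq a ha)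
    have h2 : b⁻¹ = b := inv_eq_of_mul_eq_one_left (hsq b hb)
    have h3 : (a * b)⁻¹ = a * b := inv_eq_of_mul_eq_one_left (hsq _ (S.mul_mem ha hb))
    rw [← h3, mul_inv_rev, h1, h2]

theorem camina_herzog_fusion {Ω : Type u} [Group Ω] {S : Subgroup Ω} [Finite S] (hS : IsPGroup 2 S)
    (F : FusionSystem S) (hF : F.IsSaturated 2)
    (h : ∀ x ∈ S, ∃ z ∈ S ⊓ Subgroup.centralizer (S : Set Ω), F.IsConjElt x z) : IsMulCommutative S :=
  ⟨⟨fun a b => Subtype.ext (camina_herzog_fusion_aux _ S rfl hS F hF h a a.2 b b.2)⟩⟩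

end Main

end Cfsg.Agent.Lib.Helper26
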