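import Cfsg.Agent.Lib.Helper26.FSChain

/-!
`R ⊴ F` iff every map between subgroups of `R` is the restriction of an element of `Aut_F(R)` (S5106).
-/

set_option autoImplicit false

namespace Cfsg.Agent.Lib.Helper26

open Cfsg Cfsg.FusionSystem
open scoped commutatorElement

variable {Ω : Type*} [Group Ω] {S : Subgroup Ω}

/-- If `R ⊴ F`, every map of `F` on a subgroup of `R` is the restriction of an element of `Aut_F(R)`. -/
theorem exists_aut_of_isNormal (F : FusionSystem S) {R : Subgroup Ω} (hR : F.IsNormal R)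
    (P : Subgroup Ω) (hPR : P ≤ R) (φ : P →* Ω) (hφ : φ ∈ F.Hom P) :
    ∃ α ∈ F.autGroup R, ∀ x : P, ((α (Subgroup.inclusion hPR x) : R) : Ω) = φ x := by
  obtain ⟨ψ, hψ, hψφ, hψR⟩ := hR.2 P φ hφ
  refine ⟨restrictAut ψ (F.injective_of_mem hψ) le_sup_right hψR, ?_, fun x => ?_⟩
  · rw [mem_autGroup_iff F hR.1]
    exact inclusion_comp_mem F le_sup_right hψ
  · rw [restrictAut_apply, ← hψφ x]
    rfl

/-- The chain of S5088 from the lower central series, given that its terms are strongly closed. -/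
theorem fin_chain_of_lowerCentralSeries [Finite S] {p : ℕ} [Fact p.Prime] (hS : IsPGroup p S) (F : FusionSystem S)
    (Q : Subgroup Ω) (hQS : Q ≤ S) (hsc : ∀ k, F.StronglyClosed (Q.lowerCentralSeries k)) :
    ∃ (n : ℕ) (Qs : Fin (n + 1) → Subgroup Ω), Qs 0 = ⊥ ∧ Qs (Fin.last n) = Q ∧ Monotone Qs ∧
      ∀ i : Fin n, F.StronglyClosed (Qs i.succ) ∧ ⁅Q, Qs i.succ⁆ ≤ Qs (Fin.castSucc i) := by
  have hfin : Finite Q := finite_of_le hQS
  have hnil : Group.IsNilpotent Q := (hS.to_le hQS).isNilpotent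
  obtain ⟨c, hc⟩ := (Subgroup.isNilpotent_iff_lowerCentralSeries Q).mp hnil
  refine ⟨c, fun i => Q.lowerCentralSeries (c - i), ?_, ?_, ?_, ?_⟩
  · show Q.lowerCentralSeries (c - 0) = ⊥
    rw [Nat.sub_zero, hc]
  · show Q.lowerCentralSeries (c - c) = Q
    rw [Nat.sub_self]
    rfl
  · intro i j hij
    apply Subgroup.lowerCentralSeries_antitone
    have : (i : ℕ) ≤ j := hij
    omega
  · intro i
    refine ⟨hsc _, ?_⟩
    show ⁅Q, Q.lowerCentralSeries (c - (i.succ : ℕ))⁆ ≤ Q.lowerCentralSeries (c - (Fin.castSucc i : ℕ))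
    have hi : (i : ℕ) < c := i.2
    have e1 : c - (Fin.castSucc i : ℕ) = (c - (i.succ : ℕ)) + 1 := by
      simp only [Fin.val_castSucc, Fin.val_succ]
      omega
    rw [e1, Subgroup.lowerCentralSeries_succ, Subgroup.commutator_comm]

/-- S5106. -/
theorem isNormal_iff_forall_exists_aut [Finite S] {p : ℕ} [Fact p.Prime] (hS : IsPGroup p S) (F : FusionSystem S)
    (hF : F.IsSaturated p) (R : Subgroup Ω) (hRS : R ≤ S) :
    F.IsNormal R ↔ ∀ (P : Subgroup Ω) (hPR : P ≤ R) (φ : P →* Ω), φ ∈ F.Hom P →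
      ∃ α ∈ F.autGroup R, ∀ x : P, ((α (Subgroup.inclusion hPR x) : R) : Ω) = φ x := by
  constructor
  · intro hR P hPR φ hφ
    exact exists_aut_of_isNormal F hR P hPR φ hφ
  · intro h
    have hsc : ∀ k, F.StronglyClosed (R.lowerCentralSeries k) := by
      intro k
      have hle : R.lowerCentralSeries k ≤ R := Subgroup.lowerCentralSeries_le_self R k
      have hchar : ((R.lowerCentralSeries k).subgroupOf R).Characteristic := by
        have h1 : (R.lowerCentralSeries k).subgroupOf R = (⊤ : Subgroup R).lowerCentralSeries k := by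
          rw [← Subgroup.top_subtype_lowerCentralSeries]
          exact Subgroup.comap_map_eq_self_of_injective R.subtype_injective _
        rw [h1]
        infer_instance
      refine ⟨hle.trans hRS, fun P hP φ hφ x => ?_⟩
      obtain ⟨α, -, hα⟩ := h P (hP.trans hle) φ hφ
      rw [← hα x]
      have hx : Subgroup.inclusion (hP.trans hle) x ∈ (R.lowerCentralSeries k).subgroupOf R := by
        rw [Subgroup.mem_subgroupOf]
        exact hP x.2
      have := (hchar.fixed α).ge hx
      rw [Subgroup.mem_comap] at this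
      exact this
    obtain ⟨n, Qs, h0, hlast, hmono, hchain⟩ := fin_chain_of_lowerCentralSeries hS F R hRS hsc
    exact isNormal_of_fin_chain hS F hF R n Qs h0 hlast hmono hchain

end Cfsg.Agent.Lib.Helper26
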