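import Cfsg.Agent.Lib.Helper26.FSGroup
import Cfsg.Agent.Lib.Helper26.FSNormalRestrict

/-!
S5107: Sylow subgroup of class at most two with strongly closed centre.
-/

set_option autoImplicit false

namespace Cfsg.Agent.Lib.Helper26

open Cfsg Cfsg.FusionSystem
open scoped commutatorElement

variable {G : Type*} [Group G]

theorem groupFS_stronglyClosed_of_isStronglyClosed {S Q : Subgroup G} (h : Cfsg.IsStronglyClosed Q S) :
    (groupFusionSystem S).StronglyClosed Q := by
  refine ⟨h.1, fun R hR φ hφ x => ?_⟩
  obtain ⟨-, hφS, g, hg⟩ := hφ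
  have := hφS x
  rw [hg] at this ⊢
  exact h.2 x (hR x.2) g this

theorem groupFS_classTwo [Finite G] {p : ℕ} [Fact p.Prime] (S : Sylow p G)
    (hcl : ⁅(S : Subgroup G), (S : Subgroup G)⁆ ≤ (S : Subgroup G) ⊓ Subgroup.centralizer ((S : Subgroup G) : Set G))
    (hZ : Cfsg.IsStronglyClosed ((S : Subgroup G) ⊓ Subgroup.centralizer ((S : Subgroup G) : Set G)) (S : Subgroup G)) :
    (∀ (P : Subgroup G) (φ : P →* G), φ ∈ (groupFusionSystem (S : Subgroup G)).Hom P →
      ∃ g ∈ Subgroup.normalizer ((S : Subgroup G) : Set G), ∀ x : P, φ x = g * (x : G) * g⁻¹) ∧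
    (groupFusionSystem (S : Subgroup G)).core = S := by
  set F := groupFusionSystem (S : Subgroup G) with hF
  have hsat : F.IsSaturated p := groupFS_saturated S
  have hSp : IsPGroup p (S : Subgroup G) := S.isPGroup'
  set Z := (S : Subgroup G) ⊓ Subgroup.centralizer ((S : Subgroup G) : Set G) with hZdef
  have hZsc : F.StronglyClosed Z := groupFS_stronglyClosed_of_isStronglyClosed hZ
  have hnormal : F.IsNormal (S : Subgroup G) := by
    apply isNormal_of_fin_chain hSp F hsat (S : Subgroup G) 2 ![⊥, Z, (S : Subgroup G)] rfl rfl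
    · intro i j hij
      fin_cases i <;> fin_cases j
      · exact le_rfl
      · exact bot_le
      · exact bot_le
      · exact absurd hij (by decide)
      · exact le_rfl
      · exact inf_le_left
      · exact absurd hij (by decide)
      · exact absurd hij (by decide)
      · exact le_rfl
    · intro i
      fin_cases i
      · refine ⟨hZsc, ?_⟩
        show ⁅(S : Subgroup G), Z⁆ ≤ ⊥
        rw [Subgroup.commutator_le]
        intro a ha b hb
        rw [Subgroup.mem_bot, commutatorElement_eq_one_iff_commute]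
        exact ((Subgroup.mem_centralizer_iff.mp hb.2) a ha)
      · exact ⟨stronglyClosed_top F, hcl⟩
  constructor
  · intro P φ hφ
    have hPS : P ≤ (S : Subgroup G) := hom_le F hφ
    obtain ⟨α, hα, hαφ⟩ := exists_aut_of_isNormal F hnormal P hPS φ hφ
    rw [hF, groupFS_autGroup_eq le_rfl] at hα
    obtain ⟨g, -, hgN, rfl⟩ := (mem_autInducedBy_iff' _ _ _).mp hα
    exact ⟨g, hgN, fun x => (hαφ x).symm⟩
  · apply le_antisymm
    · exact (core_isNormal F).1
    · exact le_sSup hnormal

end Cfsg.Agent.Lib.Helper26
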