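import Cfsg.Agent.Lib.Helper26.FSChain

/-!
`O_p(F) ≠ 1` iff some nontrivial abelian subgroup is strongly closed (S5089).
-/

set_option autoImplicit false

namespace Cfsg.Agent.Lib.Helper26

open Cfsg Cfsg.FusionSystem
open scoped commutatorElement

variable {Ω : Type*} [Group Ω] {S : Subgroup Ω}

/-- An abelian strongly closed subgroup is normal in a saturated system. -/
theorem isNormal_of_abelian_stronglyClosed [Finite S] {p : ℕ} [Fact p.Prime] (hS : IsPGroup p S)
    (F : FusionSystem S) (hF : F.IsSaturated p) (Q : Subgroup Ω) [hab : IsMulCommutative Q]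
    (hQ : F.StronglyClosed Q) : F.IsNormal Q := by
  apply isNormal_of_fin_chain hS F hF Q 1 ![⊥, Q] rfl rfl
  · intro i j hij
    fin_cases i <;> fin_cases j
    · exact le_rfl
    · exact bot_le
    · exact absurd hij (by decide)
    · exact le_rfl
  · intro i
    fin_cases i
    refine ⟨hQ, ?_⟩
    show ⁅Q, Q⁆ ≤ ⊥
    rw [Subgroup.commutator_le]
    intro a ha b hb
    rw [Subgroup.mem_bot, commutatorElement_eq_one_iff_commute]
    exact setLike_mul_comm ha hb

theorem core_ne_bot_iff [Finite S] {p : ℕ} [Fact p.Prime] (hS : IsPGroup p S) (F : FusionSystem S)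
    (hF : F.IsSaturated p) :
    F.core ≠ ⊥ ↔ ∃ Q : Subgroup Ω, Q ≠ ⊥ ∧ IsMulCommutative Q ∧ F.StronglyClosed Q := by
  constructor
  · intro hne
    have hcore := core_isNormal F
    set R := F.core with hR
    have hfin : Finite R := finite_of_le hcore.1
    have hRp : IsPGroup p R := hS.to_le hcore.1
    have hnt : Nontrivial R := by
      rw [Subgroup.nontrivial_iff_ne_bot]
      exact hne
    have hZnt : Nontrivial (Subgroup.center R) := hRp.center_nontrivial
    refine ⟨(Subgroup.center R).map R.subtype, ?_, inferInstance, ?_⟩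
    · intro h
      rw [Subgroup.map_eq_bot_iff_of_injective _ R.subtype_injective] at h
      rw [Subgroup.nontrivial_iff_ne_bot] at hZnt
      exact hZnt h
    · apply stronglyClosed_of_isNormal F
      apply isNormal_of_characteristic F R _ hcore (Subgroup.map_subtype_le _)
      have h1 : ((Subgroup.center R).map R.subtype).subgroupOf R = Subgroup.center R :=
        Subgroup.comap_map_eq_self_of_injective R.subtype_injective _
      rw [h1]
      infer_instance
  · rintro ⟨Q, hne, hab, hQ⟩ hcore
    have hn := isNormal_of_abelian_stronglyClosed hS F hF Q hQ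
    have : Q ≤ F.core := le_sSup hn
    rw [hcore] at this
    exact hne (le_bot_iff.mp this)

end Cfsg.Agent.Lib.Helper26
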