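import Cfsg.Agent.Lib.Helper26.FSModel
import Mathlib.GroupTheory.SemidirectProduct

/-!
The fusion system realized by an injective homomorphism `ι : S →* G`, and the special case
`G = P ⋊ ⟨γ⟩` for an automorphism `γ` of `P`.
-/

set_option autoImplicit false

namespace Cfsg.Agent.Lib.Helper26

open Cfsg Cfsg.FusionSystem

section Realized

variable {Ω : Type*} [Group Ω] {S : Subgroup Ω} {G : Type*} [Group G]

/-- The fusion system over `S` pulled back from `G` along the injective `ι : S →* G`. -/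
def realizedSystem (ι : S →* G) (hinj : Function.Injective ι) : FusionSystem S where
  Hom P := {φ | ∃ (hP : P ≤ S) (hφ : ∀ x : P, φ x ∈ S) (g : G),
    ∀ x : P, ι ⟨φ x, hφ x⟩ = g * ι ⟨x, hP x.2⟩ * g⁻¹}
  le_of_mem := by
    rintro P φ ⟨hP, hφ, -⟩
    exact ⟨hP, hφ⟩
  injective_of_mem := by
    rintro P φ ⟨hP, hφ, g, hg⟩ a b hab
    have h1 : ι ⟨φ a, hφ a⟩ = ι ⟨φ b, hφ b⟩ := by
      congr 1
      exact Subtype.ext hab
    rw [hg a, hg b] at h1
    have h2 : ι ⟨a, hP a.2⟩ = ι ⟨b, hP b.2⟩ := mul_left_cancel (mul_right_cancel h1)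
    have h3 := hinj h2
    exact Subtype.ext (Subtype.mk_eq_mk.mp h3)
  conj_mem := by
    intro P g hP hg
    have hval : ∀ x : P, conjHom P g x ∈ S := fun x =>
      S.mul_mem (S.mul_mem hg (hP x.2)) (S.inv_mem hg)
    refine ⟨hP, hval, ι ⟨g, hg⟩, fun x => ?_⟩
    rw [← map_inv, ← map_mul, ← map_mul]
    congr 1
  comp_mem := by
    rintro P Q φ ψ ⟨hP, hφ, g, hg⟩ ⟨hQ, hψ, g', hg'⟩ h
    refine ⟨hP, fun x => hψ _, g' * g, fun x => ?_⟩
    have h1 := hg' (φ.codRestrict Q h x)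
    have h2 := hg x
    show ι ⟨ψ (φ.codRestrict Q h x), _⟩ = _
    rw [h1]
    have : (⟨((φ.codRestrict Q h x : Q) : Ω), hQ (φ.codRestrict Q h x).2⟩ : S) = ⟨φ x, hφ x⟩ := rfl
    rw [this, h2]
    group
  inv_mem := by
    rintro P φ ⟨hP, hφ, g, hg⟩
    have hφinj : Function.Injective φ := by
      intro a b hab
      have h1 : ι ⟨φ a, hφ a⟩ = ι ⟨φ b, hφ b⟩ := by
        congr 1
        exact Subtype.ext hab
      rw [hg a, hg b] at h1
      have h2 : ι ⟨a, hP a.2⟩ = ι ⟨b, hP b.2⟩ := mul_left_cancel (mul_right_cancel h1)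
      exact Subtype.ext (Subtype.mk_eq_mk.mp (hinj h2))
    let e : P ≃* φ.range := MonoidHom.ofInjective hφinj
    have he : ∀ x : P, e.symm ⟨φ x, ⟨x, rfl⟩⟩ = x := by
      intro x
      rw [MulEquiv.symm_apply_eq]
      rfl
    have hrange : φ.range ≤ S := by
      rintro _ ⟨x, rfl⟩
      exact hφ x
    refine ⟨P.subtype.comp e.symm.toMonoidHom, ⟨hrange, fun y => hP (e.symm y).2, g⁻¹, ?_⟩, fun x => ?_⟩
    · rintro ⟨_, x, rfl⟩
      have h1 : (⟨P.subtype.comp e.symm.toMonoidHom ⟨φ x, ⟨x, rfl⟩⟩, hP (e.symm ⟨φ x, ⟨x, rfl⟩⟩).2⟩ : S) =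
          ⟨x, hP x.2⟩ := by
        apply Subtype.ext
        show ((e.symm ⟨φ x, ⟨x, rfl⟩⟩ : P) : Ω) = x
        rw [he x]
      rw [h1]
      have h2 : (⟨((⟨φ x, ⟨x, rfl⟩⟩ : φ.range) : Ω), hrange (⟨φ x, ⟨x, rfl⟩⟩ : φ.range).2⟩ : S) =
          ⟨φ x, hφ x⟩ := rfl
      rw [h2, hg x]
      group
    · show ((e.symm ⟨φ x, ⟨x, rfl⟩⟩ : P) : Ω) = x
      rw [he x]

theorem realizedSystem_isRealizedBy (ι : S →* G) (hinj : Function.Injective ι) :
    (realizedSystem ι hinj).IsRealizedBy ι := by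
  refine ⟨hinj, fun P hP φ hφ => ?_⟩
  constructor
  · rintro ⟨_, _, g, hg⟩
    exact ⟨g, hg⟩
  · rintro ⟨g, hg⟩
    exact ⟨hP, hφ, g, hg⟩

theorem realizedSystem_saturated [Finite S] [Finite G] (p : ℕ) [Fact p.Prime] (ι : S →* G)
    (hinj : Function.Injective ι) (T : Sylow p G) (hT : (T : Subgroup G) = ι.range) :
    (realizedSystem ι hinj).IsSaturated p :=
  saturated_of_realized p _ ι (realizedSystem_isRealizedBy ι hinj) T hT

end Realized

section Cyclic

variable {Ω : Type*} [Group Ω] {P : Subgroup Ω}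

/-- The group `P ⋊ ⟨γ⟩`. -/
abbrev CycExt (γ : MulAut P) : Type _ :=
  SemidirectProduct P (Subgroup.zpowers γ) (Subgroup.zpowers γ).subtype

theorem cycExt_conj (γ : MulAut P) (g : CycExt γ) (x : P) :
    g * SemidirectProduct.inl x * g⁻¹ =
      SemidirectProduct.inl (g.left * (g.right : MulAut P) x * g.left⁻¹) := by
  have hg := SemidirectProduct.inl_left_mul_inr_right g
  have h1 := SemidirectProduct.inl_aut (φ := (Subgroup.zpowers γ).subtype) g.right x
  simp only [Subgroup.coe_subtype] at h1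
  calc g * SemidirectProduct.inl x * g⁻¹
      = (SemidirectProduct.inl g.left * SemidirectProduct.inr g.right) * SemidirectProduct.inl x *
          (SemidirectProduct.inl g.left * SemidirectProduct.inr g.right)⁻¹ := by rw [hg]
    _ = SemidirectProduct.inl g.left *
          (SemidirectProduct.inr g.right * SemidirectProduct.inl x * SemidirectProduct.inr g.right⁻¹) *
          SemidirectProduct.inl g.left⁻¹ := by
        rw [mul_inv_rev, map_inv, map_inv]
        group
    _ = SemidirectProduct.inl g.left * SemidirectProduct.inl ((g.right : MulAut P) x) *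
          SemidirectProduct.inl g.left⁻¹ := by rw [← h1]
    _ = SemidirectProduct.inl (g.left * (g.right : MulAut P) x * g.left⁻¹) := by
        rw [map_mul, map_mul]

/-- The fusion system of `P ⋊ ⟨γ⟩` over `P`. -/
def cycSystem (γ : MulAut P) : FusionSystem P :=
  realizedSystem (SemidirectProduct.inl : P →* CycExt γ) SemidirectProduct.inl_injective

theorem mem_cycSystem_iff (γ : MulAut P) (R : Subgroup Ω) (φ : R →* Ω) :
    φ ∈ (cycSystem γ).Hom R ↔ ∃ (hR : R ≤ P) (s : P) (a : MulAut P), a ∈ Subgroup.zpowers γ ∧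
      ∀ x : R, φ x = ((s * a ⟨x, hR x.2⟩ * s⁻¹ : P) : Ω) := by
  constructor
  · rintro ⟨hR, hφ, g, hg⟩
    refine ⟨hR, g.left, (g.right : MulAut P), g.right.2, fun x => ?_⟩
    have h1 := hg x
    rw [cycExt_conj] at h1
    have h2 := SemidirectProduct.inl_injective h1
    exact congrArg Subtype.val h2
  · rintro ⟨hR, s, a, ha, h⟩
    have hφ : ∀ x : R, φ x ∈ P := fun x => by rw [h x]; exact (s * a ⟨x, hR x.2⟩ * s⁻¹).2
    refine ⟨hR, hφ, ⟨s, ⟨a, ha⟩⟩, fun x => ?_⟩
    rw [cycExt_conj]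
    congr 1
    exact Subtype.ext (h x)

end Cyclic

end Cfsg.Agent.Lib.Helper26
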