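import Cfsg.Agent.Lib.Helper26.FSFrobenius
import Cfsg.Agent.Lib.Helper26.Stability

/-!
S5112: over a dihedral or generalized quaternion `2`-group of order at least `16`, `Aut_F(S) = Inn(S)`.
-/

set_option autoImplicit false

namespace Cfsg.Agent.Lib.Helper26

open Cfsg Cfsg.FusionSystem

section AutTwoGroup

variable {H : Type*} [Group H]

/-- Restriction of an automorphism to an invariant subgroup. -/
def restrictInvAut (α : MulAut H) (C : Subgroup H) (h : ∀ x, x ∈ C ↔ α x ∈ C) : MulAut C where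
  toFun x := ⟨α x, (h x).mp x.2⟩
  invFun x := ⟨α⁻¹ x, (h _).mpr (by rw [MulAut.apply_inv_self]; exact x.2)⟩
  left_inv x := by apply Subtype.ext; simp
  right_inv x := by apply Subtype.ext; simp
  map_mul' x y := by apply Subtype.ext; simp

theorem restrictInvAut_pow (α : MulAut H) (C : Subgroup H) (h : ∀ x, x ∈ C ↔ α x ∈ C) (m : ℕ) (x : C) :
    (((restrictInvAut α C h) ^ m) x : H) = (α ^ m) x := by
  induction m generalizing x with
  | zero => simp
  | succ m ih =>
    rw [pow_succ, pow_succ, MulAut.mul_apply, MulAut.mul_apply, ih]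
    rfl

/-- A finite group with a cyclic subgroup of order `2 ^ k` and index `2` containing all elements of order `2 ^ k` has
a `2`-group of automorphisms. -/
theorem isPGroup_mulAut_of_cyclic_index_two [Finite H] (r : H) (k : ℕ) (hk : 0 < k) (hr : orderOf r = 2 ^ k)
    (hcard : Nat.card H = 2 * 2 ^ k) (hout : ∀ x : H, x ∉ Subgroup.zpowers r → orderOf x < 2 ^ k) :
    IsPGroup 2 (MulAut H) := by
  set C := Subgroup.zpowers r with hC
  have hcardC : Nat.card C = 2 ^ k := by rw [hC, Nat.card_zpowers, hr]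
  have hidx : C.index = 2 := by
    have := C.card_mul_index
    rw [hcardC, hcard, mul_comm] at this
    exact Nat.eq_of_mul_eq_mul_right (by positivity) this
  have hαr : ∀ α : MulAut H, α r ∈ C := by
    intro α
    by_contra hcon
    have := hout _ hcon
    rw [MulEquiv.orderOf_eq, hr] at this
    exact lt_irrefl _ this
  have hαC : ∀ α : MulAut H, ∀ x ∈ C, α x ∈ C := by
    intro α x hx
    obtain ⟨j, rfl⟩ := Subgroup.mem_zpowers_iff.mp hx
    rw [map_zpow]
    exact C.zpow_mem (hαr α) j
  have hinv : ∀ α : MulAut H, ∀ x, x ∈ C ↔ α x ∈ C := by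
    intro α x
    refine ⟨hαC α x, fun h => ?_⟩
    have := hαC α⁻¹ _ h
    rwa [MulAut.inv_apply_self] at this
  let T : ℕ → Subgroup H := fun i => if i = 0 then C else ⊤
  have hmono : Monotone T := by
    intro i j hij
    by_cases hj : j = 0
    · have hi : i = 0 := by omega
      simp [T, hi, hj]
    · simp only [T, hj, if_false]
      exact le_top
  have hT0 : T 0 = C := by simp [T]
  have hT1 : T 1 = ⊤ := by simp [T]
  have hfin : ∀ i, Finite (T i) := fun i => inferInstance
  have hp : ∀ i, ∃ m, Nat.card (T i) = 2 ^ m := by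
    intro i
    by_cases hi : i = 0
    · exact ⟨k, by simp only [T, hi, if_true]; exact hcardC⟩
    · refine ⟨k + 1, ?_⟩
      simp only [T, hi, if_false]
      rw [Subgroup.card_top, hcard, pow_succ, mul_comm]
  have hX : (⊤ : Subgroup (MulAut H)) ≤ chainStab T hmono := by
    intro α _
    rw [mem_chainStab]
    refine ⟨fun i x => ?_, fun i x _ => ?_⟩
    · by_cases hi : i = 0
      · simp only [T, hi, if_true]; exact hinv α x
      · simp only [T, hi, if_false, Subgroup.mem_top]
    · by_cases hi : i = 0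
      · simp only [T, hi, if_true]
        rw [Subgroup.mul_mem_iff_of_index_two hidx, Subgroup.inv_mem_iff]
        exact hinv α x
      · simp only [T, hi, if_false, Subgroup.mem_top]
  have hbase : ∀ α ∈ (⊤ : Subgroup (MulAut H)), ∃ j : ℕ, ∀ x ∈ T 0, (α ^ (2 ^ j)) x = x := by
    intro α _
    refine ⟨k - 1, fun x hx => ?_⟩
    rw [hT0] at hx
    have : IsCyclic C := by rw [hC]; infer_instance
    have hcardA : Nat.card (MulAut C) = 2 ^ (k - 1) := by
      rw [IsCyclic.card_mulAut, hcardC, Nat.totient_prime_pow Nat.prime_two hk]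
      simp
    have h1 : (restrictInvAut α C (hinv α)) ^ (2 ^ (k - 1)) = 1 := by
      rw [← hcardA]
      exact pow_card_eq_one'
    have h2 := restrictInvAut_pow α C (hinv α) (2 ^ (k - 1)) ⟨x, hx⟩
    rw [h1] at h2
    exact h2.symm
  have := isPGroup_of_chainStab T hmono hfin hp 1 hT1 ⊤ hX hbase
  exact IsPGroup.of_equiv this Subgroup.topEquiv

theorem isPGroup_mulAut_dihedral (n : ℕ) (hn : 4 ≤ n) : IsPGroup 2 (MulAut (DihedralGroup (2 ^ (n - 1)))) := by
  have : NeZero (2 ^ (n - 1)) := ⟨by positivity⟩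
  apply isPGroup_mulAut_of_cyclic_index_two (DihedralGroup.r 1) (n - 1) (by omega) DihedralGroup.orderOf_r_one
    DihedralGroup.nat_card
  intro x hx
  cases x with
  | r i =>
    exfalso
    apply hx
    rw [Subgroup.mem_zpowers_iff]
    refine ⟨(i.val : ℤ), ?_⟩
    rw [DihedralGroup.r_one_zpow]
    simp
  | sr i =>
    rw [DihedralGroup.orderOf_sr]
    calc 2 < 2 ^ 3 := by norm_num
      _ ≤ 2 ^ (n - 1) := Nat.pow_le_pow_right (by norm_num) (by omega)

theorem isPGroup_mulAut_quaternion (n : ℕ) (hn : 4 ≤ n) : IsPGroup 2 (MulAut (QuaternionGroup (2 ^ (n - 2)))) := by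
  have : NeZero (2 ^ (n - 2)) := ⟨by positivity⟩
  have e : 2 * 2 ^ (n - 2) = 2 ^ (n - 1) := by
    rw [← pow_succ']
    congr 1
    omega
  apply isPGroup_mulAut_of_cyclic_index_two (QuaternionGroup.a 1) (n - 1) (by omega)
  · rw [QuaternionGroup.orderOf_a_one, e]
  · rw [Nat.card_eq_fintype_card, QuaternionGroup.card, ← e]
    ring
  · intro x hx
    cases x with
    | a i =>
      exfalso
      apply hx
      rw [Subgroup.mem_zpowers_iff]
      refine ⟨(i.val : ℤ), ?_⟩
      rw [zpow_natCast, QuaternionGroup.a_one_pow]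
      simp
    | xa i =>
      rw [QuaternionGroup.orderOf_xa]
      calc 4 < 2 ^ 3 := by norm_num
        _ ≤ 2 ^ (n - 1) := Nat.pow_le_pow_right (by norm_num) (by omega)

end AutTwoGroup

section Main

variable {Ω : Type*} [Group Ω] {S : Subgroup Ω}

/-- If `Aut(S)` is a `p`-group then `Aut_F(S) = Inn(S)` for saturated `F`. -/
theorem autGroup_top_eq_inn [Finite S] {p : ℕ} [Fact p.Prime] (hS : IsPGroup p S) (F : FusionSystem S)
    (hF : F.IsSaturated p) (h : IsPGroup p (MulAut S)) : F.autGroup S = Inn S := by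
  apply le_antisymm
  · obtain ⟨-, T, hT⟩ := (saturated_fn hS F hF (top_fullyNormalized F)).2
    have hTtop : (T : Subgroup (F.autGroup S)) = ⊤ := by
      have hpg : IsPGroup p (⊤ : Subgroup (F.autGroup S)) := (h.to_subgroup (F.autGroup S)).to_subgroup _
      obtain ⟨T', hT'⟩ := hpg.exists_le_sylow
      have h1 : (T' : Subgroup (F.autGroup S)) = ⊤ := top_le_iff.mp hT'
      have hfin : Finite (MulAut S) := inferInstance
      obtain ⟨g, hg⟩ := MulAction.exists_smul_eq (F.autGroup S) T' T
      rw [← hg, Sylow.coe_subgroup_smul, h1]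
      simp
    intro α hα
    have : (⟨α, hα⟩ : F.autGroup S) ∈ (T : Subgroup (F.autGroup S)) := by rw [hTtop]; trivial
    rw [hT, Subgroup.mem_subgroupOf] at this
    obtain ⟨g, hgS, hg⟩ := (mem_autInducedBy_iff S S α).mp this
    refine ⟨⟨g, hgS⟩, ?_⟩
    ext x
    rw [hg x]
    rfl
  · rintro _ ⟨g, rfl⟩
    apply autInducedBy_le_autGroup F le_rfl
    rw [mem_autInducedBy_iff]
    exact ⟨g, g.2, fun x => rfl⟩

/-- S5112. -/
theorem autGroup_top_eq_inn_of_dihedral_or_quaternion [Finite S] (n : ℕ) (hn : 4 ≤ n)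
    (hshape : Nonempty (S ≃* DihedralGroup (2 ^ (n - 1))) ∨ Nonempty (S ≃* QuaternionGroup (2 ^ (n - 2))))
    (F : FusionSystem S) (hF : F.IsSaturated 2) : F.autGroup S = Inn S := by
  have : Fact (Nat.Prime 2) := ⟨Nat.prime_two⟩
  have hAut : IsPGroup 2 (MulAut S) := by
    rcases hshape with ⟨⟨e⟩⟩ | ⟨⟨e⟩⟩
    · exact IsPGroup.of_equiv (isPGroup_mulAut_dihedral n hn) (MulAut.congr e).symm
    · exact IsPGroup.of_equiv (isPGroup_mulAut_quaternion n hn) (MulAut.congr e).symm
  have hS : IsPGroup 2 S := by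
    rcases hshape with ⟨⟨e⟩⟩ | ⟨⟨e⟩⟩
    · apply IsPGroup.of_card (n := n)
      rw [Nat.card_congr e.toEquiv, DihedralGroup.nat_card, ← pow_succ']
      congr 1; omega
    · have : NeZero (2 ^ (n - 2)) := ⟨by positivity⟩
      apply IsPGroup.of_card (n := n)
      rw [Nat.card_congr e.toEquiv, Nat.card_eq_fintype_card, QuaternionGroup.card]
      have : 4 * 2 ^ (n - 2) = 2 ^ 2 * 2 ^ (n - 2) := by norm_num
      rw [this, ← pow_add]
      congr 1; omega
  exact autGroup_top_eq_inn hS F hF hAut

end Main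

end Cfsg.Agent.Lib.Helper26
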