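import Cfsg.Agent.Lib.Helper26.FSInvariantFrattini
import Cfsg.Agent.Lib.Helper26.FSSat
import Cfsg.Agent.Lib.Helper26.FSKNormSat

/-!
Direct products `S = S₁ × S₂` with both factors strongly closed (towards S5130), part A:
conjugate maps, extension of maps to `Q ⊔ S₂`, saturation of the full subsystem on `S₁`.
-/

set_option autoImplicit false

namespace Cfsg.Agent.Lib.Helper26

open Cfsg Cfsg.FusionSystem

variable {Ω : Type*} [Group Ω] {S : Subgroup Ω}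

/-- A fusion system is strongly invariant in itself: `ψ φ ψ⁻¹` is a map of the system. -/
theorem exists_conj_map (F : FusionSystem S) {P Q : Subgroup Ω} (hPQ : P ≤ Q) {φ : P →* Ω} (hφ : φ ∈ F.Hom P)
    (hφQ : ∀ x : P, φ x ∈ Q) {ψ : Q →* Ω} (hψ : ψ ∈ F.Hom Q) :
    ∃ χ ∈ F.Hom ((P.subgroupOf Q).map ψ),
      ∀ (x : P) (hx : ψ (Subgroup.inclusion hPQ x) ∈ (P.subgroupOf Q).map ψ),
        χ ⟨ψ (Subgroup.inclusion hPQ x), hx⟩ = ψ ⟨φ x, hφQ x⟩ := by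
  have hψP : ψ.comp (Subgroup.inclusion hPQ) ∈ F.Hom P := inclusion_comp_mem F hPQ hψ
  obtain ⟨ι, hι, hιx⟩ := F.inv_mem hψP
  have hιP : ∀ z, ι z ∈ P := by
    rintro ⟨_, x, rfl⟩
    rw [hιx]
    exact x.2
  have h1 : φ.comp (ι.codRestrict P hιP) ∈ F.Hom _ := F.comp_mem hι hφ hιP
  have h1Q : ∀ z, (φ.comp (ι.codRestrict P hιP)) z ∈ Q := fun z => hφQ _
  have h2 : ψ.comp ((φ.comp (ι.codRestrict P hιP)).codRestrict Q h1Q) ∈ F.Hom _ := F.comp_mem h1 hψ h1Q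
  have hsub : (P.subgroupOf Q).map ψ ≤ (ψ.comp (Subgroup.inclusion hPQ)).range := by
    rintro _ ⟨y, hy, rfl⟩
    exact ⟨⟨y, hy⟩, rfl⟩
  refine ⟨_, inclusion_comp_mem F hsub h2, fun x hx => ?_⟩
  have e1 : ι.codRestrict P hιP ⟨(ψ.comp (Subgroup.inclusion hPQ)) x, ⟨x, rfl⟩⟩ = x := Subtype.ext (hιx x)
  show ψ ⟨φ (ι.codRestrict P hιP ⟨(ψ.comp (Subgroup.inclusion hPQ)) x, ⟨x, rfl⟩⟩), _⟩ = _
  congr 2
  rw [e1]

/-- A map of the system defined on a subgroup containing a strongly closed subgroup `T` maps `T` onto `T`. -/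
theorem surj_on_stronglyClosed [Finite S] (F : FusionSystem S) {T D : Subgroup Ω} (hT : F.StronglyClosed T)
    (hTD : T ≤ D) {ξ : D →* Ω} (hξ : ξ ∈ F.Hom D) :
    ∀ t ∈ T, ∃ (t' : Ω) (ht' : t' ∈ T), ξ ⟨t', hTD ht'⟩ = t := by
  have hfinT : Finite T := finite_of_le hT.1
  have hξT : ξ.comp (Subgroup.inclusion hTD) ∈ F.Hom T := inclusion_comp_mem F hTD hξ
  have hmap : ∀ s : T, ξ (Subgroup.inclusion hTD s) ∈ T := fun s => hT.2 T le_rfl _ hξT s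
  obtain ⟨f, hf⟩ : ∃ f : T → T, ∀ s, f s = ⟨ξ (Subgroup.inclusion hTD s), hmap s⟩ := ⟨_, fun _ => rfl⟩
  have hinj : Function.Injective f := by
    intro a b hab
    rw [hf, hf] at hab
    have h1 : ξ (Subgroup.inclusion hTD a) = ξ (Subgroup.inclusion hTD b) := congrArg Subtype.val hab
    have h2 := F.injective_of_mem hξ h1
    exact Subgroup.inclusion_injective hTD h2
  have hsurj := Finite.surjective_of_injective hinj
  intro t ht
  obtain ⟨s, hs⟩ := hsurj ⟨t, ht⟩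
  refine ⟨s, s.2, ?_⟩
  rw [hf] at hs
  exact congrArg Subtype.val hs

/-- Maps of the system preserve a strongly closed subgroup contained in the source. -/
theorem map_mem_of_stronglyClosed (F : FusionSystem S) {T D : Subgroup Ω} (hT : F.StronglyClosed T)
    (hTD : T ≤ D) {ξ : D →* Ω} (hξ : ξ ∈ F.Hom D) (t : D) (ht : (t : Ω) ∈ T) : ξ t ∈ T := by
  have hξT : ξ.comp (Subgroup.inclusion hTD) ∈ F.Hom T := inclusion_comp_mem F hTD hξ
  exact hT.2 T le_rfl _ hξT ⟨t, ht⟩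

section Ext

variable [Finite S] {p : ℕ} [Fact p.Prime] {S₁ S₂ : Subgroup Ω}

/-- Extension of a map with receptive image to `Q ⊔ S₂` when `S₂` centralizes `Q`. -/
theorem exists_ext_sup_of_receptive (F : FusionSystem S) {Q : Subgroup Ω} (hc : S₂ ≤ centralizerIn S Q)
    {ψ : Q →* Ω} (hψ : ψ ∈ F.Hom Q) (hrec : F.IsReceptive ψ.range) :
    ∃ ψ' ∈ F.Hom (Q ⊔ S₂), ∀ x : Q, ψ' (Subgroup.inclusion le_sup_left x) = ψ x := by
  obtain ⟨θ, hθ, hθx⟩ := hrec.2 Q ψ hψ rfl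
  have hle : Q ⊔ S₂ ≤ extender S Q ψ :=
    sup_le (le_extender (hom_le F hψ) ψ (hom_apply_mem F hψ)) (hc.trans (centralizerIn_le_extender Q ψ))
  refine ⟨θ.comp (Subgroup.inclusion hle), inclusion_comp_mem F hle hθ, fun x => ?_⟩
  exact hθx x x.2 (hle (le_sup_left (a := Q) (b := S₂) x.2))

/-- **Lemma X**: every map with source `Q ≤ S₁` extends to `Q ⊔ S₂`. -/
theorem exists_ext_sup (F : FusionSystem S) (hF : F.IsSaturated p)
    (hc : ∀ Q : Subgroup Ω, Q ≤ S₁ → S₂ ≤ centralizerIn S Q) (h₁ : F.StronglyClosed S₁)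
    (h₂ : F.StronglyClosed S₂) {Q : Subgroup Ω} (hQ : Q ≤ S₁) {ψ : Q →* Ω} (hψ : ψ ∈ F.Hom Q) :
    ∃ ψ' ∈ F.Hom (Q ⊔ S₂), ∀ x : Q, ψ' (Subgroup.inclusion le_sup_left x) = ψ x := by
  have hB : ψ.range ≤ S₁ := by
    rintro _ ⟨x, rfl⟩
    exact h₁.2 Q hQ ψ hψ x
  obtain ⟨C, ⟨χ, hχ, hχr⟩, -, hCr⟩ := hF ψ.range (hB.trans h₁.1)
  have hψB : ∀ x : Q, ψ x ∈ ψ.range := fun x => ⟨x, rfl⟩
  have hχψ : χ.comp (ψ.codRestrict ψ.range hψB) ∈ F.Hom Q := F.comp_mem hψ hχ hψB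
  have hr : (χ.comp (ψ.codRestrict ψ.range hψB)).range = C := by
    rw [← hχr]
    ext z
    constructor
    · rintro ⟨x, rfl⟩
      exact ⟨_, rfl⟩
    · rintro ⟨⟨_, x, rfl⟩, rfl⟩
      exact ⟨x, rfl⟩
  obtain ⟨ζ, hζ, hζx⟩ := exists_ext_sup_of_receptive (S₂ := S₂) F (hc Q hQ) hχψ (hr ▸ hCr)
  obtain ⟨ξ, hξ, hξx⟩ := exists_ext_sup_of_receptive (S₂ := S₂) F (hc ψ.range hB) hχ (hχr ▸ hCr)
  obtain ⟨ι, hι, hιx⟩ := F.inv_mem hξ
  -- `ζ` maps into the range of `ξ`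
  have hmem : ∀ y : ↥(Q ⊔ S₂), ζ y ∈ ξ.range := by
    have hK : Q ⊔ S₂ ≤ ((ξ.range).comap ζ).map (Q ⊔ S₂).subtype := by
      apply sup_le
      · intro x hx
        refine ⟨Subgroup.inclusion le_sup_left ⟨x, hx⟩, ?_, rfl⟩
        rw [SetLike.mem_coe, Subgroup.mem_comap, hζx]
        refine ⟨Subgroup.inclusion le_sup_left ⟨ψ ⟨x, hx⟩, hψB _⟩, ?_⟩
        rw [hξx]
        rfl
      · intro s hs
        refine ⟨Subgroup.inclusion le_sup_right ⟨s, hs⟩, ?_, rfl⟩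
        rw [SetLike.mem_coe, Subgroup.mem_comap]
        have h3 : ζ (Subgroup.inclusion le_sup_right ⟨s, hs⟩) ∈ S₂ :=
          map_mem_of_stronglyClosed F h₂ le_sup_right hζ _ hs
        obtain ⟨t', ht', ht⟩ := surj_on_stronglyClosed F h₂ (le_sup_right : S₂ ≤ ψ.range ⊔ S₂) hξ _ h3
        exact ⟨_, ht⟩
    intro y
    obtain ⟨y', hy', hyy'⟩ := hK y.2
    have : y' = y := Subtype.ext hyy'
    rw [← this]
    exact hy'
  refine ⟨ι.comp (ζ.codRestrict ξ.range hmem), F.comp_mem hζ hι hmem, fun x => ?_⟩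
  show ι ⟨ζ (Subgroup.inclusion le_sup_left x), hmem _⟩ = ψ x
  have h4 : ζ (Subgroup.inclusion le_sup_left x) = ξ (Subgroup.inclusion le_sup_left ⟨ψ x, hψB x⟩) := by
    rw [hζx, hξx]
    rfl
  have h5 := hιx (Subgroup.inclusion le_sup_left ⟨ψ x, hψB x⟩)
  have h6 : ((Subgroup.inclusion (le_sup_left : ψ.range ≤ ψ.range ⊔ S₂) ⟨ψ x, hψB x⟩ : ↥(ψ.range ⊔ S₂)) : Ω) = ψ x := rfl
  rw [h6] at h5
  rw [← h5]
  congr 1
  exact Subtype.ext h4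

end Ext

section Restrict

variable [Finite S] {p : ℕ} [Fact p.Prime] {S₁ : Subgroup Ω}

theorem autInducedBy_eq_of_dec (hS₁ : S₁ ≤ S)
    (hdec : ∀ g ∈ S, ∃ a ∈ S₁, ∃ b ∈ S, (∀ x ∈ S₁, x * b = b * x) ∧ g = a * b) {Q : Subgroup Ω} (hQ : Q ≤ S₁) :
    autInducedBy S₁ Q = autInducedBy S Q := by
  ext α
  rw [mem_autInducedBy_iff, mem_autInducedBy_iff]
  constructor
  · rintro ⟨g, hg, h⟩
    exact ⟨g, hS₁ hg, h⟩
  · rintro ⟨g, hg, h⟩
    obtain ⟨a, ha, b, -, hb, rfl⟩ := hdec g hg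
    refine ⟨a, ha, fun x => ?_⟩
    rw [h x]
    have hbx := hb x (hQ x.2)
    have : a * b * (x : Ω) * (a * b)⁻¹ = a * (b * x * b⁻¹) * a⁻¹ := by group
    rw [this, ← hbx, mul_inv_cancel_right]

theorem extender_mono {A B : Subgroup Ω} (hAB : A ≤ B) (P : Subgroup Ω) (φ : P →* Ω) :
    extender A P φ ≤ extender B P φ := by
  intro g hg
  rw [mem_extender_iff] at hg ⊢
  obtain ⟨h1, h2, h, hh, h3⟩ := hg
  exact ⟨hAB h1, h2, h, hAB hh, h3⟩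

/-- **L1**: the full subsystem on a strongly closed subgroup `S₁` with `S = S₁ C_S(S₁)` is saturated. -/
theorem restrict_saturated (F : FusionSystem S) (hF : F.IsSaturated p) (h₁ : F.StronglyClosed S₁)
    (hdec : ∀ g ∈ S, ∃ a ∈ S₁, ∃ b ∈ S, (∀ x ∈ S₁, x * b = b * x) ∧ g = a * b)
    (R : FusionSystem S₁) (hR : ∀ P : Subgroup Ω, P ≤ S₁ → R.Hom P = F.Hom P) : R.IsSaturated p := by
  intro P hP
  obtain ⟨Q, ⟨φ, hφ, hr⟩, hQa, hQr⟩ := hF P (hP.trans h₁.1)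
  have hQ : Q ≤ S₁ := by
    rw [← hr]
    rintro _ ⟨x, rfl⟩
    exact h₁.2 P hP φ hφ x
  refine ⟨Q, ⟨φ, by rw [hR P hP]; exact hφ, hr⟩, ⟨hQ, ?_⟩, hQ, ?_⟩
  · have hAut : R.autGroup Q = F.autGroup Q := by
      unfold FusionSystem.autGroup
      rw [hR Q hQ]
    rw [hAut, autInducedBy_eq_of_dec h₁.1 hdec hQ]
    exact hQa.2
  · intro P' φ' hφ' hr'
    have hP' : P' ≤ S₁ := hom_le R hφ'
    have hφ'F : φ' ∈ F.Hom P' := by rw [← hR P' hP']; exact hφ'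
    obtain ⟨θ, hθ, hθx⟩ := hQr.2 P' φ' hφ'F hr'
    have hle : extender S₁ P' φ' ≤ extender S P' φ' := extender_mono h₁.1 P' φ'
    have hleS : extender S₁ P' φ' ≤ S₁ := (extender_le S₁ P' φ').trans (normalizerIn_le S₁ P')
    refine ⟨θ.comp (Subgroup.inclusion hle), ?_, fun x hxP hxN => ?_⟩
    · rw [hR _ hleS]
      exact inclusion_comp_mem F hle hθ
    · exact hθx x hxP (hle hxN)

end Restrict

end Cfsg.Agent.Lib.Helper26
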