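import Cfsg.Agent.Lib.Helper26.FSDirectProdB

/-!
Direct products `S = S₁ × S₂` with both factors strongly closed (S5130), part C: normality.
-/

set_option autoImplicit false

namespace Cfsg.Agent.Lib.Helper26

open Cfsg Cfsg.FusionSystem

variable {Ω : Type*} [Group Ω] {S : Subgroup Ω} {S₁ S₂ : Subgroup Ω}

/-- An automorphism of `S₁` maps central elements to central elements. -/
theorem aut_center_mem (α : MulAut S₁) {a : Ω} (ha : a ∈ S₁) (hac : ∀ x ∈ S₁, x * a = a * x) :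
    ∀ x ∈ S₁, x * ((α ⟨a, ha⟩ : S₁) : Ω) = ((α ⟨a, ha⟩ : S₁) : Ω) * x := by
  intro x hx
  have h1 : (⟨x, hx⟩ : S₁) = α (α⁻¹ ⟨x, hx⟩) := by simp
  have h2 : (α⁻¹ ⟨x, hx⟩ : S₁) * ⟨a, ha⟩ = ⟨a, ha⟩ * (α⁻¹ ⟨x, hx⟩ : S₁) :=
    Subtype.ext (hac _ (α⁻¹ ⟨x, hx⟩ : S₁).2)
  have h3 : (⟨x, hx⟩ : S₁) * α ⟨a, ha⟩ = α ⟨a, ha⟩ * ⟨x, hx⟩ := by
    rw [h1, ← map_mul, ← map_mul, h2]
  exact congrArg Subtype.val h3

variable [Finite S] {p : ℕ} [Fact p.Prime]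

/-- Extension condition for `R' ⊴ F`. -/
theorem prod_ext_F (F : FusionSystem S) (hprod : IsInternalDirectProduct S₁ S₂ S)
    (R' : FusionSystem S₁) (hR' : ∀ P : Subgroup Ω, P ≤ S₁ → R'.Hom P = F.centralizerHom S₂ P) :
    ∀ α ∈ R'.autGroup S₁, ∃ β ∈ F.autGroup (S₁ ⊔ centralizerIn S S₁),
      (∀ x : S₁, ((β (Subgroup.inclusion le_sup_left x) : ↥(S₁ ⊔ centralizerIn S S₁)) : Ω) = ((α x : S₁) : Ω)) ∧
      ∀ c : ↥(S₁ ⊔ centralizerIn S S₁), (c : Ω) ∈ centralizerIn S S₁ →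
        (c : Ω)⁻¹ * ((β c : ↥(S₁ ⊔ centralizerIn S S₁)) : Ω) ∈ S₁ ⊓ Subgroup.centralizer (S₁ : Set Ω) := by
  intro α hα
  have hS₁S : S₁ ≤ S := hprod.1
  have hS₂S : S₂ ≤ S := hprod.2.1
  have hsup : S₁ ⊔ S₂ = S := hprod.2.2.2.2
  have hαR : S₁.subtype.comp α.toMonoidHom ∈ R'.Hom S₁ := (mem_autGroup_iff R' le_rfl α).mp hα
  rw [hR' S₁ le_rfl] at hαR
  obtain ⟨-, -, -, ψ, hψ, hψ₁, hψ₂⟩ := hαR
  have hDS : S₁ ⊔ centralizerIn S S₁ ≤ S := sup_le hS₁S (centralizerIn_le S S₁)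
  have hD : S₁ ⊔ centralizerIn S S₁ ≤ S₁ ⊔ S₂ := hsup.symm ▸ hDS
  have hSD : S ≤ S₁ ⊔ centralizerIn S S₁ :=
    hsup.ge.trans (sup_le_sup_left (prod_centralizes hprod le_rfl) S₁)
  have hψD : ψ.comp (Subgroup.inclusion hD) ∈ F.Hom (S₁ ⊔ centralizerIn S S₁) := inclusion_comp_mem F hD hψ
  obtain ⟨β, hβ, hβx⟩ := exists_aut_of_hom F hψD (fun y => hSD (hom_apply_mem F hψD y))
  refine ⟨β, hβ, fun x => ?_, fun c hc => ?_⟩
  · rw [hβx]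
    exact hψ₁ x
  · rw [hβx]
    obtain ⟨hcS, hcc⟩ := mem_centralizerIn_iff.mp hc
    obtain ⟨a, ha, b, hb, hab⟩ := prod_dec' hprod hcS
    -- `a` is central in `S₁`
    have hac : ∀ x ∈ S₁, x * a = a * x := by
      intro x hx
      have h1 := hcc x hx
      have h2 := hprod.2.2.1 x hx b hb
      rw [hab] at h1
      have : (x * a) * b = (a * x) * b := by
        calc (x * a) * b = x * (a * b) := by group
          _ = a * b * x := h1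
          _ = a * (b * x) := by group
          _ = a * (x * b) := by rw [h2]
          _ = (a * x) * b := by group
      exact mul_right_cancel this
    have hψc : (ψ.comp (Subgroup.inclusion hD)) c = ((α ⟨a, ha⟩ : S₁) : Ω) * b := by
      have e : Subgroup.inclusion hD c =
          Subgroup.inclusion le_sup_left ⟨a, ha⟩ * Subgroup.inclusion le_sup_right ⟨b, hb⟩ := Subtype.ext hab
      show ψ (Subgroup.inclusion hD c) = _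
      rw [e, map_mul, hψ₁, hψ₂]
      rfl
    rw [hψc, hab]
    have hαa := aut_center_mem α ha hac
    have hcomm : ((α ⟨a, ha⟩ : S₁) : Ω) * b = b * ((α ⟨a, ha⟩ : S₁) : Ω) :=
      hprod.2.2.1 _ (α ⟨a, ha⟩ : S₁).2 b hb
    have e2 : (a * b)⁻¹ * (((α ⟨a, ha⟩ : S₁) : Ω) * b) = a⁻¹ * ((α ⟨a, ha⟩ : S₁) : Ω) := by
      rw [hcomm, hprod.2.2.1 a ha b hb]
      group
    rw [e2, Subgroup.mem_inf, Subgroup.mem_centralizer_iff]
    refine ⟨mul_mem (inv_mem ha) (α ⟨a, ha⟩ : S₁).2, fun x hx => ?_⟩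
    have h1 := hac x hx
    have h2 := hαa x hx
    have h3 : x * a⁻¹ = a⁻¹ * x := by
      have : a * (x * a⁻¹) = a * (a⁻¹ * x) := by
        rw [← mul_assoc, ← h1, mul_assoc, mul_inv_cancel, mul_one, mul_inv_cancel_left]
      exact mul_left_cancel this
    calc x * (a⁻¹ * ((α ⟨a, ha⟩ : S₁) : Ω)) = (x * a⁻¹) * ((α ⟨a, ha⟩ : S₁) : Ω) := by group
      _ = (a⁻¹ * x) * ((α ⟨a, ha⟩ : S₁) : Ω) := by rw [h3]
      _ = a⁻¹ * (x * ((α ⟨a, ha⟩ : S₁) : Ω)) := by group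
      _ = a⁻¹ * (((α ⟨a, ha⟩ : S₁) : Ω) * x) := by rw [h2]
      _ = a⁻¹ * ((α ⟨a, ha⟩ : S₁) : Ω) * x := by group

/-- Extension condition for `R' ⊴ R`. -/
theorem prod_ext_R (R R' : FusionSystem S₁) (hRR' : ∀ P : Subgroup Ω, R'.Hom P ⊆ R.Hom P) [Finite S₁] :
    ∀ α ∈ R'.autGroup S₁, ∃ β ∈ R.autGroup (S₁ ⊔ centralizerIn S₁ S₁),
      (∀ x : S₁, ((β (Subgroup.inclusion le_sup_left x) : ↥(S₁ ⊔ centralizerIn S₁ S₁)) : Ω) = ((α x : S₁) : Ω)) ∧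
      ∀ c : ↥(S₁ ⊔ centralizerIn S₁ S₁), (c : Ω) ∈ centralizerIn S₁ S₁ →
        (c : Ω)⁻¹ * ((β c : ↥(S₁ ⊔ centralizerIn S₁ S₁)) : Ω) ∈ S₁ ⊓ Subgroup.centralizer (S₁ : Set Ω) := by
  intro α hα
  have hαR : S₁.subtype.comp α.toMonoidHom ∈ R.Hom S₁ := hRR' S₁ ((mem_autGroup_iff R' le_rfl α).mp hα)
  have hD : S₁ ⊔ centralizerIn S₁ S₁ ≤ S₁ := sup_le le_rfl (centralizerIn_le S₁ S₁)
  have hψD : (S₁.subtype.comp α.toMonoidHom).comp (Subgroup.inclusion hD) ∈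
      R.Hom (S₁ ⊔ centralizerIn S₁ S₁) := inclusion_comp_mem R hD hαR
  obtain ⟨β, hβ, hβx⟩ := exists_aut_of_hom R hψD (fun y => (le_sup_left : S₁ ≤ S₁ ⊔ centralizerIn S₁ S₁)
    (α (Subgroup.inclusion hD y)).2)
  refine ⟨β, hβ, fun x => ?_, fun c hc => ?_⟩
  · rw [hβx]
    rfl
  · rw [hβx]
    obtain ⟨hcS, hcc⟩ := mem_centralizerIn_iff.mp hc
    have hαc := aut_center_mem α hcS hcc
    show (c : Ω)⁻¹ * ((α (Subgroup.inclusion hD c) : S₁) : Ω) ∈ _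
    have e : Subgroup.inclusion hD c = ⟨(c : Ω), hcS⟩ := rfl
    rw [e, Subgroup.mem_inf, Subgroup.mem_centralizer_iff]
    refine ⟨mul_mem (inv_mem hcS) (α ⟨c, hcS⟩ : S₁).2, fun x hx => ?_⟩
    have h1 := hcc x hx
    have h2 := hαc x hx
    have h3 : x * (c : Ω)⁻¹ = (c : Ω)⁻¹ * x := by
      have : (c : Ω) * (x * (c : Ω)⁻¹) = (c : Ω) * ((c : Ω)⁻¹ * x) := by
        rw [← mul_assoc, ← h1, mul_assoc, mul_inv_cancel, mul_one, mul_inv_cancel_left]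
      exact mul_left_cancel this
    calc x * ((c : Ω)⁻¹ * ((α ⟨c, hcS⟩ : S₁) : Ω)) = (x * (c : Ω)⁻¹) * ((α ⟨c, hcS⟩ : S₁) : Ω) := by group
      _ = ((c : Ω)⁻¹ * x) * ((α ⟨c, hcS⟩ : S₁) : Ω) := by rw [h3]
      _ = (c : Ω)⁻¹ * (x * ((α ⟨c, hcS⟩ : S₁) : Ω)) := by group
      _ = (c : Ω)⁻¹ * (((α ⟨c, hcS⟩ : S₁) : Ω) * x) := by rw [h2]
      _ = (c : Ω)⁻¹ * ((α ⟨c, hcS⟩ : S₁) : Ω) * x := by group

/-- **S5130**. -/
theorem prod_main (hS : IsPGroup p S) (F : FusionSystem S) (hF : F.IsSaturated p)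
    (hprod : IsInternalDirectProduct S₁ S₂ S) (h₁ : F.StronglyClosed S₁) (h₂ : F.StronglyClosed S₂)
    (R R' : FusionSystem S₁) (hR : ∀ P : Subgroup Ω, P ≤ S₁ → R.Hom P = F.Hom P)
    (hR' : ∀ P : Subgroup Ω, P ≤ S₁ → R'.Hom P = F.centralizerHom S₂ P) :
    R.IsSaturated p ∧ R'.IsSaturated p ∧ R'.IsNormalIn F p ∧ R'.IsNormalIn R p ∧ R.IsWeaklyNormalIn F p := by
  have hS₁S : S₁ ≤ S := hprod.1
  haveI : Finite S₁ := finite_of_le hS₁S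
  have hS₁p : IsPGroup p S₁ := hS.to_le hS₁S
  have hRsat := prod_R_saturated F hF hprod h₁ R hR
  have hR'sat := prod_R'_saturated hS F hF hprod h₁ h₂ R' hR'
  have hRF : R.IsSubsystemOf F := by
    intro P φ hφ
    rw [← hR P (hom_le R hφ)]
    exact hφ
  have hR'F : R'.IsSubsystemOf F := by
    intro P φ hφ
    have := hφ
    rw [hR' P (hom_le R' hφ)] at this
    exact this.1
  have hR'R : R'.IsSubsystemOf R := by
    intro P φ hφ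
    rw [hR P (hom_le R' hφ)]
    exact hR'F P hφ
  have hSI := prod_strongInv_R' F hF hprod h₁ h₂ R' hR'
  have hSIR : StrongInv R' R := by
    intro P Q hPQ hQT φ hφ hφQ ψ hψ
    exact hSI P Q hPQ hQT φ hφ hφQ ψ (hR Q hQT ▸ hψ)
  have hSIRF : StrongInv R F := by
    intro P Q hPQ hQT φ hφ hφQ ψ hψ
    have hφF : φ ∈ F.Hom P := hRF P hφ
    obtain ⟨χ, hχ, hχx⟩ := exists_conj_map F hPQ hφF hφQ hψ
    have hD : (P.subgroupOf Q).map ψ ≤ S₁ := by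
      rintro _ ⟨y, -, rfl⟩
      exact h₁.2 Q hQT ψ hψ y
    exact ⟨χ, by rw [hR _ hD]; exact hχ, hχx⟩
  have hRsc : R.StronglyClosed S₁ := ⟨le_rfl, fun Q _ φ hφ x => hom_apply_mem R hφ x⟩
  have hinv1 : R'.IsInvariantIn F := (isInvariantIn_iff_strongInv p hS F hF R' hR'F h₁).mpr hSI
  have hinv2 : R'.IsInvariantIn R := (isInvariantIn_iff_strongInv p hS₁p R hRsat R' hR'R hRsc).mpr hSIR
  have hinv3 : R.IsInvariantIn F := (isInvariantIn_iff_strongInv p hS F hF R hRF h₁).mpr hSIRF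
  exact ⟨hRsat, hR'sat, ⟨⟨hR'sat, hF, hinv1⟩, prod_ext_F F hprod R' hR'⟩,
    ⟨⟨hR'sat, hRsat, hinv2⟩, prod_ext_R R R' hR'R⟩, ⟨hRsat, hF, hinv3⟩⟩

end Cfsg.Agent.Lib.Helper26
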