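import Cfsg.Agent.Lib.Helper26.ElemAbAut
import Cfsg.Agent.Lib.Helper26.FSEssential

/-!
S5185: an essential subgroup of order `p²` is elementary abelian and its automizer contains `SL₂(p)`.
-/

set_option autoImplicit false

namespace Cfsg.Agent.Lib.Helper26

open Cfsg Cfsg.FusionSystem Matrix

/-- A finite group with `p ∣ |X|` and no nontrivial normal `p`-subgroup has two distinct Sylow `p`-subgroups. -/
theorem exists_two_sylow {X : Type*} [Group X] [Finite X] {p : ℕ} [Fact p.Prime] (hdvd : p ∣ Nat.card X)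
    (hcore : ∀ N : Subgroup X, N.Normal → IsPGroup p N → N = ⊥) :
    ∃ P₁ P₂ : Sylow p X, P₁ ≠ P₂ ∧ (P₁ : Subgroup X) ≠ ⊥ ∧ (P₂ : Subgroup X) ≠ ⊥ := by
  have hne : ∀ P : Sylow p X, (P : Subgroup X) ≠ ⊥ := fun P => P.ne_bot_of_dvd_card hdvd
  obtain ⟨P₁⟩ : Nonempty (Sylow p X) := inferInstance
  by_cases h : ∀ P₂ : Sylow p X, P₂ = P₁
  · exfalso
    have hsub : Subsingleton (Sylow p X) := ⟨fun a b => (h a).trans (h b).symm⟩
    have hn : (P₁ : Subgroup X).Normal := Sylow.normal_of_subsingleton P₁
    exact hne P₁ (hcore _ hn P₁.isPGroup')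
  · push Not at h
    obtain ⟨P₂, hP₂⟩ := h
    exact ⟨P₁, P₂, fun h' => hP₂ h'.symm, hne P₁, hne P₂⟩

variable {Ω : Type*} [Group Ω] {S : Subgroup Ω}

theorem inn_eq_bot_of_comm {H : Type*} [Group H] (hcomm : ∀ a b : H, a * b = b * a) : Inn H = ⊥ := by
  rw [eq_bot_iff]
  rintro _ ⟨g, rfl⟩
  rw [Subgroup.mem_bot]
  ext x
  show g * x * g⁻¹ = x
  rw [hcomm g x, mul_inv_cancel_right]

/-- For an essential subgroup with trivial inner automorphism group, the automizer has `p ∣ |A|` and trivial
`p`-core. -/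
theorem autGroup_of_essential_comm [Finite S] {p : ℕ} [Fact p.Prime] (F : FusionSystem S) {H : Subgroup Ω}
    (hH : F.IsEssential p H) (hcomm : ∀ a b : H, a * b = b * a) :
    p ∣ Nat.card (F.autGroup H) ∧
      ∀ N : Subgroup (F.autGroup H), N.Normal → IsPGroup p N → N = ⊥ := by
  have hHS : H ≤ S := hH.1.1
  have hfinH : Finite H := finite_of_le hHS
  obtain ⟨hn, E, hE⟩ := hH.2.2
  have hinn : (Inn H).subgroupOf (F.autGroup H) = ⊥ := by
    rw [inn_eq_bot_of_comm hcomm]
    exact Subgroup.bot_subgroupOf _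
  have hfinA : Finite (F.autGroup H) := inferInstance
  constructor
  · exact dvd_trans hE.1 (Subgroup.card_quotient_dvd_card _)
  · intro N hN hNp
    have hmapn : (N.map (QuotientGroup.mk' ((Inn H).subgroupOf (F.autGroup H)))).Normal :=
      Subgroup.Normal.map hN _ (QuotientGroup.mk'_surjective _)
    have hmapp : IsPGroup p (N.map (QuotientGroup.mk' ((Inn H).subgroupOf (F.autGroup H)))) :=
      hNp.map _
    have hbot := eq_bot_of_normal_of_stronglyPEmbedded E hE _ hmapp
    rw [eq_bot_iff]
    intro x hx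
    have h1 : (QuotientGroup.mk' ((Inn H).subgroupOf (F.autGroup H))) x ∈
        N.map (QuotientGroup.mk' ((Inn H).subgroupOf (F.autGroup H))) := ⟨x, hx, rfl⟩
    rw [hbot, Subgroup.mem_bot, QuotientGroup.mk'_apply, QuotientGroup.eq_one_iff, hinn] at h1
    exact h1

theorem essential_card_sq [Finite S] {p : ℕ} [Fact p.Prime] (F : FusionSystem S)
    (H : Subgroup Ω) (hH : F.IsEssential p H) (hcard : Nat.card H = p ^ 2) :
    IsElementaryAbelian p H ∧
      ∃ K : Subgroup ↥(F.autGroup H), Nonempty (↥K ≃* Matrix.SpecialLinearGroup (Fin 2) (ZMod p)) := by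
  have hHS : H ≤ S := hH.1.1
  have hfinH : Finite H := finite_of_le hHS
  have hmc : IsMulCommutative H := IsPGroup.isMulCommutative_of_card_eq_prime_sq hcard
  have hcomm : ∀ a b : H, a * b = b * a := isMulCommutative_iff.mp hmc
  obtain ⟨hdvd, hcore⟩ := autGroup_of_essential_comm F hH hcomm
  obtain ⟨P₁, P₂, hne, hne₁, hne₂⟩ := exists_two_sylow hdvd hcore
  -- exponent p
  have hexp : ∀ a : H, a ^ p = 1 := by
    intro a
    by_contra ha
    have hord : orderOf a ∣ p ^ 2 := hcard ▸ orderOf_dvd_natCard a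
    obtain ⟨k, hk, hk2⟩ := (Nat.dvd_prime_pow Fact.out).mp hord
    have hk2' : orderOf a = p ^ 2 := by
      interval_cases k
      · exfalso
        rw [pow_zero, orderOf_eq_one_iff] at hk2
        exact ha (by rw [hk2, one_pow])
      · exfalso
        apply ha
        rw [← pow_one p, ← hk2]
        exact pow_orderOf_eq_one a
      · exact hk2
    have hcyc : IsCyclic H := isCyclic_of_orderOf_eq_card a (by rw [hk2', hcard])
    -- the automizer is commutative, so its Sylow subgroup is normal
    have hAcomm : ∀ α β : F.autGroup H, α * β = β * α := by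
      intro α β
      apply Subtype.ext
      apply (IsCyclic.mulAutMulEquiv H).injective
      show (IsCyclic.mulAutMulEquiv H) ((α : MulAut H) * β) = (IsCyclic.mulAutMulEquiv H) ((β : MulAut H) * α)
      rw [map_mul, map_mul, mul_comm]
    have hn : (P₁ : Subgroup (F.autGroup H)).Normal := by
      constructor
      intro n hn g
      rw [hAcomm g n, mul_inv_cancel_right]
      exact hn
    exact hne₁ (hcore _ hn P₁.isPGroup')
  refine ⟨⟨⟨⟨fun a b => hcomm a b⟩⟩, fun a ha => ?_⟩, ?_⟩
  · have := congrArg Subtype.val (hexp ⟨a, ha⟩)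
    simpa using this
  · have hinj : Function.Injective (Subgroup.map (F.autGroup H).subtype) :=
      Subgroup.map_injective (F.autGroup H).subtype_injective
    obtain ⟨K, hKA, ⟨e⟩⟩ := exists_SL2_of_two_pgroups p hcomm hexp hcard (F.autGroup H)
      ((P₁ : Subgroup (F.autGroup H)).map (F.autGroup H).subtype)
      ((P₂ : Subgroup (F.autGroup H)).map (F.autGroup H).subtype)
      (Subgroup.map_subtype_le _) (Subgroup.map_subtype_le _) (P₁.isPGroup'.map _) (P₂.isPGroup'.map _)
      (by
        intro h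
        apply hne₁
        apply hinj
        rw [h, Subgroup.map_bot])
      (by
        intro h
        apply hne₂
        apply hinj
        rw [h, Subgroup.map_bot])
      (by
        intro h
        apply hne
        exact Sylow.ext (hinj h))
    exact ⟨K.subgroupOf (F.autGroup H), ⟨(Subgroup.subgroupOfEquivOfLe hKA).trans e⟩⟩

end Cfsg.Agent.Lib.Helper26
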