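import Cfsg.Agent.Lib.Helper26.FSExtendMod

/-!
Factor systems: every map of a saturated system induces a map of the factor system modulo a strongly closed subgroup
(S5134).
-/

set_option autoImplicit false

namespace Cfsg.Agent.Lib.Helper26

open Cfsg Cfsg.FusionSystem

variable {Ω : Type*} [Group Ω] {S : Subgroup Ω} {Ω' : Type*} [Group Ω']

theorem mem_preimageAlong_iff (θ : S →* Ω') (P' : Subgroup Ω') (y : Ω) :
    y ∈ preimageAlong θ P' ↔ ∃ hy : y ∈ S, θ ⟨y, hy⟩ ∈ P' := by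
  constructor
  · rintro ⟨s, hs, rfl⟩
    exact ⟨s.2, hs⟩
  · rintro ⟨hy, h⟩
    exact ⟨⟨y, hy⟩, h, rfl⟩

theorem preimageAlong_le (θ : S →* Ω') (P' : Subgroup Ω') : preimageAlong θ P' ≤ S :=
  Subgroup.map_subtype_le _

theorem mem_imageAlong_iff (θ : S →* Ω') (P : Subgroup Ω) (z : Ω') :
    z ∈ imageAlong θ P ↔ ∃ s : S, (s : Ω) ∈ P ∧ θ s = z := by
  constructor
  · rintro ⟨s, hs, rfl⟩
    exact ⟨s, hs, rfl⟩
  · rintro ⟨s, hs, rfl⟩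
    exact ⟨s, hs, rfl⟩

/-- The full preimage of the image of `P ≤ S` is `P S₀`, where `S₀` is the kernel. -/
theorem preimageAlong_imageAlong (θ : S →* Ω') {S₀ : Subgroup Ω} (hS₀ : S₀ ≤ S)
    (hker : ∀ s : S, θ s = 1 ↔ (s : Ω) ∈ S₀) {P : Subgroup Ω} (hP : P ≤ S) :
    preimageAlong θ (imageAlong θ P) = P ⊔ S₀ := by
  apply le_antisymm
  · intro y hy
    obtain ⟨hyS, h⟩ := (mem_preimageAlong_iff θ _ y).mp hy
    obtain ⟨s, hsP, hs⟩ := (mem_imageAlong_iff θ P _).mp h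
    have h1 : θ (s⁻¹ * ⟨y, hyS⟩) = 1 := by rw [map_mul, map_inv, hs]; simp
    have h2 := (hker _).mp h1
    have h3 : y = (s : Ω) * ((s : Ω)⁻¹ * y) := by simp
    rw [h3]
    exact Subgroup.mul_mem _ (Subgroup.mem_sup_left hsP) (Subgroup.mem_sup_right h2)
  · apply sup_le
    · intro y hy
      rw [mem_preimageAlong_iff]
      exact ⟨hP hy, (mem_imageAlong_iff θ P _).mpr ⟨⟨y, hP hy⟩, hy, rfl⟩⟩
    · intro y hy
      rw [mem_preimageAlong_iff]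
      refine ⟨hS₀ hy, ?_⟩
      rw [(hker ⟨y, hS₀ hy⟩).mpr hy]
      exact Subgroup.one_mem _

/-- Construction of the homomorphism induced along `θ`. -/
theorem exists_induced (θ : S →* Ω') {Q : Subgroup Ω} (hQ : Q ≤ S) (ψ : Q →* Ω) (hψS : ∀ y : Q, ψ y ∈ S)
    (P' : Subgroup Ω') (hQP' : ∀ y : Q, θ ⟨y, hQ y.2⟩ ∈ P')
    (hsurj : ∀ z ∈ P', ∃ y : Q, θ ⟨y, hQ y.2⟩ = z)
    (hker : ∀ y : Q, θ ⟨y, hQ y.2⟩ = 1 → θ ⟨ψ y, hψS y⟩ = 1) :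
    ∃ φ' : P' →* Ω', ∀ y : Q, φ' ⟨θ ⟨y, hQ y.2⟩, hQP' y⟩ = θ ⟨ψ y, hψS y⟩ := by
  let f : Q →* P' := (θ.comp (Subgroup.inclusion hQ)).codRestrict P' hQP'
  have hf : Function.Surjective f := by
    rintro ⟨z, hz⟩
    obtain ⟨y, hy⟩ := hsurj z hz
    exact ⟨y, Subtype.ext hy⟩
  let g : Q →* Ω' := θ.comp (ψ.codRestrict S hψS)
  have hg : f.ker ≤ g.ker := by
    intro y hy
    rw [MonoidHom.mem_ker] at hy ⊢
    have h1 : θ ⟨y, hQ y.2⟩ = 1 := congrArg Subtype.val hy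
    exact hker y h1
  refine ⟨f.liftOfSurjective hf ⟨g, hg⟩, fun y => ?_⟩
  exact f.liftOfRightInverse_comp_apply _ _ ⟨g, hg⟩ y

/-- S5134. -/
theorem factorSystem_isSurjectiveMorphism [Finite S] {p : ℕ} [Fact p.Prime] (hS : IsPGroup p S)
    (F : FusionSystem S) (hF : F.IsSaturated p) (S₀ : Subgroup Ω) (hS₀ : F.StronglyClosed S₀)
    {S' : Subgroup Ω'} (θ : S →* Ω') (E : FusionSystem S') (hE : F.IsFactorSystem S₀ θ E) :
    F.IsSurjectiveMorphism E θ := by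
  obtain ⟨hS₀S, hker, hrange, hhom⟩ := hE
  have hθS' : ∀ s : S, θ s ∈ S' := fun s => hrange ▸ ⟨s, rfl⟩
  refine ⟨⟨hθS', ?_⟩, hrange, fun P' _ φ' hφ' => ((hhom P' φ').mp hφ').2⟩
  intro P φ hφ
  have hPS : P ≤ S := hom_le F hφ
  obtain ⟨ψ, hψ, hψx⟩ := extMod_all hS F hF hS₀ P φ hφ
  have hpre := preimageAlong_imageAlong θ hS₀S hker hPS
  set Q := preimageAlong θ (imageAlong θ P) with hQdef
  have hQS : Q ≤ S := preimageAlong_le θ _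
  have hψ' := hom_congr F hpre.symm hψ
  set ψ' := ψ.comp (Subgroup.inclusion hpre.le) with hψ'def
  have hψ'S : ∀ y : Q, ψ' y ∈ S := fun y => hom_apply_mem F hψ' y
  have hQP' : ∀ y : Q, θ ⟨y, hQS y.2⟩ ∈ imageAlong θ P := by
    intro y
    obtain ⟨_, h⟩ := (mem_preimageAlong_iff θ _ _).mp y.2
    exact h
  have hsurj : ∀ z ∈ imageAlong θ P, ∃ y : Q, θ ⟨y, hQS y.2⟩ = z := by
    intro z hz
    obtain ⟨s, hsP, hs⟩ := (mem_imageAlong_iff θ P z).mp hz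
    have hsQ : (s : Ω) ∈ Q := by rw [hpre]; exact Subgroup.mem_sup_left hsP
    exact ⟨⟨s, hsQ⟩, hs⟩
  have hkerψ : ∀ y : Q, θ ⟨y, hQS y.2⟩ = 1 → θ ⟨ψ' y, hψ'S y⟩ = 1 := by
    intro y hy
    rw [hker] at hy ⊢
    exact apply_mem_of_stronglyClosed F hS₀ hψ' y hy
  obtain ⟨φ', hφ'⟩ := exists_induced θ hQS ψ' hψ'S (imageAlong θ P) hQP' hsurj hkerψ
  have himS' : imageAlong θ P ≤ S' := by
    rintro _ ⟨s, -, rfl⟩
    exact hθS' s
  refine ⟨φ', (hhom _ φ').mpr ⟨himS', ψ', hψ', hQS, hψ'S, hQP', hφ'⟩, hPS, fun x => hom_apply_mem F hφ x, ?_, ?_⟩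
  · intro x
    exact (mem_imageAlong_iff θ P _).mpr ⟨⟨x, hPS x.2⟩, x.2, rfl⟩
  · intro x
    have hxQ : (x : Ω) ∈ Q := by rw [hpre]; exact Subgroup.mem_sup_left x.2
    have h1 := hφ' ⟨x, hxQ⟩
    have h2 : ψ' ⟨x, hxQ⟩ = ψ (Subgroup.inclusion le_sup_left x) := by
      show ψ _ = ψ _
      congr 1
    have h3 := hψx x
    have h4 : θ ⟨(φ x)⁻¹ * ψ (Subgroup.inclusion le_sup_left x),
        S.mul_mem (S.inv_mem (hom_apply_mem F hφ x)) (hom_apply_mem F hψ _)⟩ = 1 := (hker _).mpr h3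
    have h5 : (⟨ψ' ⟨x, hxQ⟩, hψ'S _⟩ : S) = ⟨φ x, hom_apply_mem F hφ x⟩ *
        ⟨(φ x)⁻¹ * ψ (Subgroup.inclusion le_sup_left x),
          S.mul_mem (S.inv_mem (hom_apply_mem F hφ x)) (hom_apply_mem F hψ _)⟩ := by
      apply Subtype.ext
      show ψ' ⟨x, hxQ⟩ = φ x * ((φ x)⁻¹ * ψ (Subgroup.inclusion le_sup_left x))
      rw [h2]; simp
    rw [h5, map_mul, h4, mul_one] at h1
    exact h1

end Cfsg.Agent.Lib.Helper26
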