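import Cfsg.Agent.Lib.Helper26.FSFactor

/-!
S5256: the hyperfocal subgroup of a factor system is the image of the hyperfocal subgroup.
-/

set_option autoImplicit false

namespace Cfsg.Agent.Lib.Helper26

open Cfsg Cfsg.FusionSystem

section Induced

variable {A B : Type*} [Group A] [Group B]

theorem ind_inv (π : A →* B) {α : MulAut A} {α' : MulAut B} (h : ∀ y, π (α y) = α' (π y)) :
    ∀ y, π (α⁻¹ y) = α'⁻¹ (π y) := by
  intro y
  have := h (α⁻¹ y)
  rw [MulAut.apply_inv_self] at this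
  rw [this, MulAut.inv_apply_self]

theorem ind_mul (π : A →* B) {α β : MulAut A} {α' β' : MulAut B} (h : ∀ y, π (α y) = α' (π y))
    (h' : ∀ y, π (β y) = β' (π y)) : ∀ y, π ((α * β) y) = (α' * β') (π y) := by
  intro y
  rw [MulAut.mul_apply, MulAut.mul_apply, h, h']

theorem ind_pow (π : A →* B) {α : MulAut A} {α' : MulAut B} (h : ∀ y, π (α y) = α' (π y)) (j : ℕ) :
    ∀ y, π ((α ^ j) y) = (α' ^ j) (π y) := by
  induction j with
  | zero => intro y; simp
  | succ j ih => rw [pow_succ, pow_succ]; exact ind_mul π ih h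

theorem ind_zpow (π : A →* B) {α : MulAut A} {α' : MulAut B} (h : ∀ y, π (α y) = α' (π y)) (j : ℤ) :
    ∀ y, π ((α ^ j) y) = (α' ^ j) (π y) := by
  cases j with
  | ofNat n => simpa using ind_pow π h n
  | negSucc n =>
    rw [zpow_negSucc, zpow_negSucc]
    exact ind_inv π (ind_pow π h (n + 1))

theorem ind_unique (π : A →* B) (hπ : Function.Surjective π) {α : MulAut A} {α' β' : MulAut B}
    (h : ∀ y, π (α y) = α' (π y)) (h' : ∀ y, π (α y) = β' (π y)) : α' = β' := by
  ext b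
  obtain ⟨y, rfl⟩ := hπ b
  rw [← h, ← h']

theorem ind_orderOf_dvd (π : A →* B) (hπ : Function.Surjective π) {α : MulAut A} {α' : MulAut B}
    (h : ∀ y, π (α y) = α' (π y)) : orderOf α' ∣ orderOf α := by
  apply orderOf_dvd_of_pow_eq_one
  have h1 := ind_pow π h (orderOf α)
  rw [pow_orderOf_eq_one] at h1
  exact (ind_unique π hπ h1 (fun y => rfl))

end Induced

section Hyp

variable {Ω : Type*} [Group Ω] {S : Subgroup Ω} {Ω' : Type*} [Group Ω'] {S' : Subgroup Ω'}

/-- Reduction of statements about `x⁻¹ α(x)`, `α ∈ O^p(A)`, to elements `α` of order prime to `p`. -/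
theorem pResidual_induction {P : Subgroup Ω} {p : ℕ} (A : Subgroup (MulAut P)) (M : Subgroup Ω)
    (hgen : ∀ g : A, Nat.Coprime (orderOf g) p → ∀ x : P, (x : Ω)⁻¹ * (((g : MulAut P) x : P) : Ω) ∈ M) :
    ∀ α ∈ pResidual p A, ∀ x : P, (x : Ω)⁻¹ * (((α : MulAut P) x : P) : Ω) ∈ M := by
  intro α hα
  unfold pResidual at hα
  induction hα using Subgroup.closure_induction with
  | mem g hg => exact hgen g hg
  | one => intro x; simp
  | mul a b _ _ ha hb =>
    intro x
    have h1 := hb x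
    have h2 := ha ((b : MulAut P) x)
    have e : (x : Ω)⁻¹ * ((((a * b : A) : MulAut P) x : P) : Ω) =
        ((x : Ω)⁻¹ * (((b : MulAut P) x : P) : Ω)) *
          ((((b : MulAut P) x : P) : Ω)⁻¹ * (((a : MulAut P) ((b : MulAut P) x) : P) : Ω)) := by
      simp [MulAut.mul_apply, mul_assoc]
    rw [e]
    exact M.mul_mem h1 h2
  | inv a _ ha =>
    intro x
    have h1 := ha ((a : MulAut P)⁻¹ x)
    have := M.inv_mem h1
    simpa using this

/-- The restriction of `θ` to `P ≤ S` with values in `P'`. -/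
def resHom (θ : S →* Ω') {P : Subgroup Ω} (hP : P ≤ S) (P' : Subgroup Ω')
    (h : ∀ y : P, θ ⟨y, hP y.2⟩ ∈ P') : P →* P' :=
  (θ.comp (Subgroup.inclusion hP)).codRestrict P' h

theorem resHom_coe (θ : S →* Ω') {P : Subgroup Ω} (hP : P ≤ S) (P' : Subgroup Ω')
    (h : ∀ y : P, θ ⟨y, hP y.2⟩ ∈ P') (y : P) : ((resHom θ hP P' h y : P') : Ω') = θ ⟨y, hP y.2⟩ := rfl

/-- Images of generators of `hyp(F)` lie in `hyp(E)`. -/
theorem factor_hyp_gen_image [Finite S] {p : ℕ} [Fact p.Prime] (hS : IsPGroup p S) (F : FusionSystem S)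
    (hF : F.IsSaturated p) (T : Subgroup Ω) (hT : F.StronglyClosed T) (θ : S →* Ω') (E : FusionSystem S')
    (hE : F.IsFactorSystem T θ E) {P : Subgroup Ω} (hPS : P ≤ S) (g : F.autGroup P)
    (hg : Nat.Coprime (orderOf g) p) (x : P) :
    (x : Ω)⁻¹ * (((g : MulAut P) x : P) : Ω) ∈ preimageAlong θ (E.hyperfocalSubgroup p) := by
  have hmor := (factorSystem_isSurjectiveMorphism hS F hF T hT θ E hE).1.2
  have hgF := (mem_autGroup_iff F hPS (g : MulAut P)).mp g.2
  obtain ⟨φ', hφ', hP, hφS, hP', hind⟩ := hmor P _ hgF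
  generalize hP'def : imageAlong θ P = P' at φ' hφ' hP' hind
  have hP'S' : P' ≤ S' := hom_le E hφ'
  let π : P →* P' := resHom θ hP P' hP'
  have hπsurj : Function.Surjective π := by
    rintro ⟨z, hz⟩
    obtain ⟨s, hsP, hs⟩ := (mem_imageAlong_iff θ P z).mp (hP'def ▸ hz)
    exact ⟨⟨s, hsP⟩, Subtype.ext hs⟩
  have hrange : φ'.range = P' := by
    apply le_antisymm
    · rintro _ ⟨z, rfl⟩
      obtain ⟨y, rfl⟩ := hπsurj z
      have := hind y
      have e : (π y : P') = ⟨θ ⟨y, hP y.2⟩, hP' y⟩ := rfl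
      rw [e, this]
      exact hP' ((g : MulAut P) y)
    · intro z hz
      obtain ⟨y, hy⟩ := hπsurj ⟨z, hz⟩
      refine ⟨π ((g : MulAut P)⁻¹ y), ?_⟩
      have := hind ((g : MulAut P)⁻¹ y)
      have e : (π ((g : MulAut P)⁻¹ y) : P') =
          ⟨θ ⟨((g : MulAut P)⁻¹ y : P), hP ((g : MulAut P)⁻¹ y).2⟩, hP' ((g : MulAut P)⁻¹ y)⟩ := rfl
      rw [e, this]
      have h2 : (g : MulAut P) ((g : MulAut P)⁻¹ y) = y := by simp
      show θ ⟨(((g : MulAut P) ((g : MulAut P)⁻¹ y) : P) : Ω), _⟩ = z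
      have h3 : θ ⟨(y : Ω), hP y.2⟩ = z := congrArg Subtype.val hy
      rw [← h3]
      congr 2
      exact congrArg Subtype.val h2
  let α' : MulAut P' := homEquiv E hφ' hrange
  have hα'E : α' ∈ E.autGroup P' := by
    rw [mem_autGroup_iff_isFIso E hP'S']
    exact homEquiv_isFIso E hφ' hrange
  have hindα : ∀ y : P, π ((g : MulAut P) y) = α' (π y) := by
    intro y
    apply Subtype.ext
    show θ ⟨(((g : MulAut P) y : P) : Ω), _⟩ = φ' (π y)
    exact (hind y).symm
  have hord : orderOf (⟨α', hα'E⟩ : E.autGroup P') ∣ orderOf g := by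
    rw [← Subgroup.orderOf_coe, ← Subgroup.orderOf_coe g]
    exact ind_orderOf_dvd π hπsurj hindα
  have hcop : Nat.Coprime (orderOf (⟨α', hα'E⟩ : E.autGroup P')) p := Nat.Coprime.coprime_dvd_left hord hg
  have hmem := mem_hyperfocal_of E p hP'S' ⟨α', hα'E⟩ (Subgroup.subset_closure hcop) (π x)
  rw [mem_preimageAlong_iff]
  refine ⟨S.mul_mem (S.inv_mem (hPS x.2)) (hPS ((g : MulAut P) x).2), ?_⟩
  have e : θ ⟨(x : Ω)⁻¹ * (((g : MulAut P) x : P) : Ω),
      S.mul_mem (S.inv_mem (hPS x.2)) (hPS ((g : MulAut P) x).2)⟩ =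
      ((π x : P') : Ω')⁻¹ * ((α' (π x) : P') : Ω') := by
    rw [← hindα x]
    have e2 : (⟨(x : Ω)⁻¹ * (((g : MulAut P) x : P) : Ω),
        S.mul_mem (S.inv_mem (hPS x.2)) (hPS ((g : MulAut P) x).2)⟩ : S) =
        (⟨x, hPS x.2⟩ : S)⁻¹ * ⟨((g : MulAut P) x : P), hPS ((g : MulAut P) x).2⟩ := rfl
    rw [e2, map_mul, map_inv]
    rfl
  rw [e]
  exact hmem

theorem range_eq_of_le {P : Subgroup Ω} [Finite P] (φ : P →* Ω) (hinj : Function.Injective φ)
    (hle : ∀ x : P, φ x ∈ P) : φ.range = P := by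
  apply le_antisymm
  · rintro _ ⟨x, rfl⟩
    exact hle x
  · intro z hz
    let f : P → P := fun x => ⟨φ x, hle x⟩
    have hf : Function.Injective f := by
      intro a b hab
      exact hinj (congrArg Subtype.val hab)
    obtain ⟨x, hx⟩ := (Finite.injective_iff_surjective.mp hf) ⟨z, hz⟩
    exact ⟨x, congrArg Subtype.val hx⟩

/-- Generators of `hyp(E)` lie in the image of `hyp(F)`. -/
theorem factor_hyp_gen_preimage [Finite S] {p : ℕ} [Fact p.Prime] (F : FusionSystem S)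
    (T : Subgroup Ω) (θ : S →* Ω') (E : FusionSystem S')
    (hE : F.IsFactorSystem T θ E) {P' : Subgroup Ω'} (hP'S' : P' ≤ S') (g' : E.autGroup P')
    (hg' : Nat.Coprime (orderOf g') p) (x' : P') :
    (x' : Ω')⁻¹ * (((g' : MulAut P') x' : P') : Ω') ∈ ((F.hyperfocalSubgroup p).subgroupOf S).map θ := by
  obtain ⟨hTS, hker, hrange, hhom⟩ := hE
  have hgE := (mem_autGroup_iff E hP'S' (g' : MulAut P')).mp g'.2
  obtain ⟨-, φ, hφ, hP, hφS, hP', hind⟩ := (hhom P' _).mp hgE
  have : Finite (preimageAlong θ P' : Subgroup Ω) := Finite.of_injective (Subgroup.inclusion hP) (Subgroup.inclusion_injective hP)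
  have hφP : ∀ y : (preimageAlong θ P' : Subgroup Ω), φ y ∈ preimageAlong θ P' := by
    intro y
    rw [mem_preimageAlong_iff]
    refine ⟨hφS y, ?_⟩
    rw [← hind y]
    exact ((g' : MulAut P') _).2
  have hrangeφ : φ.range = preimageAlong θ P' := range_eq_of_le φ (F.injective_of_mem hφ) hφP
  let α : MulAut (preimageAlong θ P' : Subgroup Ω) := homEquiv F hφ hrangeφ
  have hαF : α ∈ F.autGroup (preimageAlong θ P') := by
    rw [mem_autGroup_iff_isFIso F hP]
    exact homEquiv_isFIso F hφ hrangeφ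
  let π : (preimageAlong θ P' : Subgroup Ω) →* P' := resHom θ hP P' hP'
  have hπsurj : Function.Surjective π := by
    rintro ⟨z, hz⟩
    have hzS' : z ∈ θ.range := hrange ▸ hP'S' hz
    obtain ⟨s, hs⟩ := hzS'
    have hsP : (s : Ω) ∈ preimageAlong θ P' := by
      rw [mem_preimageAlong_iff]
      exact ⟨s.2, by rw [Subtype.coe_eta, hs]; exact hz⟩
    exact ⟨⟨s, hsP⟩, Subtype.ext hs⟩
  have hindα : ∀ y, π (α y) = (g' : MulAut P') (π y) := by
    intro y
    apply Subtype.ext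
    exact (hind y).symm
  obtain ⟨i, j, hdec, ⟨k, hk⟩, hcop⟩ := Cfsg.Agent.Lib.Helper8.exists_p_pprime_decomp p (⟨α, hαF⟩ : F.autGroup (preimageAlong θ P'))
  have hi : ∀ y, π ((α ^ i) y) = ((g' : MulAut P') ^ i) (π y) := ind_zpow π hindα i
  have hj : ∀ y, π ((α ^ j) y) = ((g' : MulAut P') ^ j) (π y) := ind_zpow π hindα j
  have hαi : orderOf (α ^ i) = p ^ k := by
    have := hk
    rw [← Subgroup.orderOf_coe] at this
    exact this
  have hgi : (g' : MulAut P') ^ i = 1 := by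
    have h1 : orderOf ((g' : MulAut P') ^ i) ∣ p ^ k := hαi ▸ ind_orderOf_dvd π hπsurj hi
    have h2 : orderOf ((g' : MulAut P') ^ i) ∣ orderOf (g' : MulAut P') := orderOf_dvd_of_pow_eq_one (by
      rw [← zpow_natCast, ← zpow_mul, mul_comm, zpow_mul, zpow_natCast, pow_orderOf_eq_one, one_zpow])
    have h3 : Nat.Coprime (orderOf (g' : MulAut P')) p := by
      rw [Subgroup.orderOf_coe]; exact hg'
    have h4 : Nat.Coprime (orderOf (g' : MulAut P')) (p ^ k) := Nat.Coprime.pow_right k h3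
    have h5 : orderOf ((g' : MulAut P') ^ i) = 1 := Nat.eq_one_of_dvd_coprimes h4 h2 h1
    exact orderOf_eq_one_iff.mp h5
  have hdec' : α = α ^ i * α ^ j := by
    have := congrArg Subtype.val hdec
    exact this
  have hgj : (g' : MulAut P') = (g' : MulAut P') ^ j := by
    have h1 : ∀ y, π (α y) = ((g' : MulAut P') ^ i * (g' : MulAut P') ^ j) (π y) := by
      intro y
      have := ind_mul π hi hj y
      rw [← hdec'] at this
      exact this
    have h2 := ind_unique π hπsurj hindα h1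
    rw [hgi, one_mul] at h2
    exact h2
  obtain ⟨y, rfl⟩ := hπsurj x'
  have hmem := mem_hyperfocal_of F p hP ((⟨α, hαF⟩ : F.autGroup (preimageAlong θ P')) ^ j)
    (Subgroup.subset_closure hcop) y
  have hyS : (y : Ω)⁻¹ * ((((⟨α, hαF⟩ : F.autGroup (preimageAlong θ P')) ^ j : F.autGroup _) : MulAut _) y : _) ∈ S :=
    S.mul_mem (S.inv_mem (hP y.2)) (hP (SetLike.coe_mem _))
  refine ⟨⟨_, hyS⟩, hmem, ?_⟩
  rw [hgj, ← hj y]
  have e2 : (⟨_, hyS⟩ : S) = (⟨y, hP y.2⟩ : S)⁻¹ * ⟨((α ^ j) y : _), hP ((α ^ j) y).2⟩ := rfl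
  rw [e2, map_mul, map_inv]
  rfl


/-- S5256. -/
theorem factor_hyperfocal [Finite S] (p : ℕ) [Fact p.Prime] (hS : IsPGroup p S) (F : FusionSystem S)
    (hF : F.IsSaturated p) (T : Subgroup Ω) (hT : F.StronglyClosed T) (θ : S →* Ω') (E : FusionSystem S')
    (hE : F.IsFactorSystem T θ E) :
    E.hyperfocalSubgroup p = ((F.hyperfocalSubgroup p).subgroupOf S).map θ := by
  apply le_antisymm
  · unfold FusionSystem.hyperfocalSubgroup
    rw [Subgroup.closure_le]
    rintro y ⟨P', α', x', hP'S', hα', rfl⟩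
    exact pResidual_induction (E.autGroup P') _
      (fun g hg x => factor_hyp_gen_preimage F T θ E hE hP'S' g hg x) α' hα' x'
  · rintro _ ⟨s, hs, rfl⟩
    have hle : F.hyperfocalSubgroup p ≤ preimageAlong θ (E.hyperfocalSubgroup p) := by
      unfold FusionSystem.hyperfocalSubgroup
      rw [Subgroup.closure_le]
      rintro y ⟨P, α, x, hPS, hα, rfl⟩
      exact pResidual_induction (F.autGroup P) _
        (fun g hg x => factor_hyp_gen_image hS F hF T hT θ E hE hPS g hg x) α hα x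
    have hs' : (s : Ω) ∈ F.hyperfocalSubgroup p := hs
    obtain ⟨hy, h⟩ := (mem_preimageAlong_iff θ _ _).mp (hle hs')
    exact h

end Hyp

end Cfsg.Agent.Lib.Helper26
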