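import Cfsg.Agent.Lib.Helper26.FSKNorm

/-!
Per-class versions of the saturation consequences: everything is derived from the existence of a fully automized
receptive member in the conjugacy class of the subgroup at hand.
-/

set_option autoImplicit false

namespace Cfsg.Agent.Lib.Helper26

open Cfsg Cfsg.FusionSystem

variable {Ω : Type*} [Group Ω] {S : Subgroup Ω}

/-- The conjugacy class of `P` contains a fully automized receptive subgroup. -/
def GoodClass (F : FusionSystem S) (p : ℕ) (P : Subgroup Ω) : Prop :=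
  ∃ Q : Subgroup Ω, F.IsConj P Q ∧ F.IsFullyAutomized p Q ∧ F.IsReceptive Q

theorem goodClass_of_saturated {F : FusionSystem S} {p : ℕ} (hF : F.IsSaturated p) {P : Subgroup Ω} (hP : P ≤ S) :
    GoodClass F p P := hF P hP

theorem GoodClass.of_conj {F : FusionSystem S} {p : ℕ} {P P' : Subgroup Ω} (h : GoodClass F p P)
    (hc : F.IsConj P P') : GoodClass F p P' := by
  obtain ⟨Q, hPQ, hA, hR⟩ := h
  exact ⟨Q, isConj_trans F (isConj_symm F hc) hPQ, hA, hR⟩

theorem saturated_of_forall_good {F : FusionSystem S} {p : ℕ} (h : ∀ P : Subgroup Ω, P ≤ S → GoodClass F p P) :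
    F.IsSaturated p := h

section

variable [Finite S] {p : ℕ} [Fact p.Prime]

theorem exists_normHom_of_good (hS : IsPGroup p S) (F : FusionSystem S) {P : Subgroup Ω} (hP : P ≤ S)
    (hg : GoodClass F p P) :
    ∃ Q, F.IsConj P Q ∧ F.IsFullyAutomized p Q ∧ F.IsReceptive Q ∧ Nonempty (NormHom F P Q) := by
  obtain ⟨Q, hPQ, hQA, hQR⟩ := hg
  obtain ⟨φ, hφ, hval, hmap⟩ := exists_normalizer_hom hS F hQA hQR hPQ
  exact ⟨Q, hPQ, hQA, hQR, ⟨⟨φ, hφ, hval, hmap, hP⟩⟩⟩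

theorem good_fn (hS : IsPGroup p S) (F : FusionSystem S) {P : Subgroup Ω} (hg : GoodClass F p P)
    (hP : F.IsFullyNormalized P) : F.IsFullyCentralized P ∧ F.IsFullyAutomized p P := by
  obtain ⟨Q, hPQ, hQA, hQR, ⟨D⟩⟩ := exists_normHom_of_good hS F hP.1 hg
  have hcard := hP.2 Q hPQ
  refine ⟨⟨hP.1, fun P' hPP' => ?_⟩, D.fullyAutomized hQA hcard⟩
  have hQC := receptive_fullyCentralized F Q hQR
  exact (hQC.2 P' (isConj_trans F (isConj_symm F hPQ) hPP')).trans (D.card_centralizerIn_le hcard)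

theorem good_fc (hS : IsPGroup p S) (F : FusionSystem S) {P : Subgroup Ω} (hg : GoodClass F p P)
    (hP : F.IsFullyCentralized P) : F.IsReceptive P := by
  obtain ⟨Q, hPQ, hQA, hQR, ⟨D⟩⟩ := exists_normHom_of_good hS F hP.1 hg
  exact D.receptive hQR (hP.2 Q hPQ)

/-- A `p`-subgroup of `Aut_F(Q)` can be transported into `Aut_S(Q₁)` for a fully normalized conjugate `Q₁`. -/
theorem exists_iso_conj_into_of_good (hS : IsPGroup p S) (F : FusionSystem S) {Q : Subgroup Ω}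
    (hg : GoodClass F p Q) (hQS : Q ≤ S) (B : Subgroup (MulAut Q)) (hBF : B ≤ F.autGroup Q) (hB : IsPGroup p B) :
    ∃ (Q₁ : Subgroup Ω) (e : Q ≃* Q₁), IsFIso F e ∧ F.IsFullyNormalized Q₁ ∧
      ∀ b ∈ B, MulAut.congr e b ∈ autInducedBy S Q₁ := by
  obtain ⟨Q₁, hQQ₁, hFN⟩ := exists_fullyNormalized_conj F hQS
  obtain ⟨e₀, he₀⟩ := (isConj_iff_exists_isFIso F).mp hQQ₁
  have hfinQ₁ : Finite Q₁ := finite_of_le hFN.1
  have hFA := (good_fn hS F (hg.of_conj hQQ₁) hFN).2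
  have hB₁F : B.map (MulAut.congr e₀).toMonoidHom ≤ F.autGroup Q₁ := by
    rintro _ ⟨b, hb, rfl⟩
    exact congr_mem_autGroup F he₀ (hBF hb)
  have hB₁ : IsPGroup p ↥(B.map (MulAut.congr e₀).toMonoidHom) := hB.map _
  obtain ⟨β, hβ, hβB⟩ := exists_conj_le_of_sylowIn hFA.2 hB₁F hB₁
  refine ⟨Q₁, e₀.trans (β : Q₁ ≃* Q₁), he₀.trans ((mem_autGroup_iff_isFIso F hFN.1 β).mp hβ), hFN, fun b hb => ?_⟩
  rw [congr_trans_aut]
  exact hβB ⟨_, ⟨b, hb, rfl⟩, rfl⟩

theorem fullyKNormalized_card_le_of_good (hS : IsPGroup p S) (F : FusionSystem S) {Q : Subgroup Ω}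
    (hg : GoodClass F p Q) {K : Subgroup (MulAut Q)} (hQ : FullyKNormalized F Q K) (B : Subgroup (MulAut Q))
    (hBF : B ≤ F.autGroup Q ⊓ K) (hB : IsPGroup p B) :
    Nat.card B ≤ Nat.card ↥(autInducedBy S Q ⊓ K) := by
  obtain ⟨Q₁, e, he, hFN, hconj⟩ := exists_iso_conj_into_of_good hS F hg hQ.1 B (hBF.trans inf_le_left) hB
  have hfinQ : Finite Q := finite_of_le hQ.1
  have hfinQ₁ : Finite Q₁ := finite_of_le hFN.1
  have hQQ₁ : F.IsConj Q Q₁ := (isConj_iff_exists_isFIso F).mpr ⟨e, he⟩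
  have h1 : B.map (MulAut.congr e).toMonoidHom ≤ autInducedBy S Q₁ ⊓ kmap e K := by
    rintro _ ⟨b, hb, rfl⟩
    exact ⟨hconj b hb, congr_mem_kmap e (hBF hb).2⟩
  have h2 : Nat.card B ≤ Nat.card ↥(autInducedBy S Q₁ ⊓ kmap e K) := by
    rw [← card_map_congr e B]
    exact Subgroup.card_le_of_le h1
  have h3 := hQ.2 Q₁ e he
  rw [card_NK, card_NK] at h3
  have hFC := (good_fn hS F (hg.of_conj hQQ₁) hFN).1
  have h4 : Nat.card (centralizerIn S Q) ≤ Nat.card (centralizerIn S Q₁) :=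
    hFC.2 Q ((isConj_iff_exists_isFIso F).mpr ⟨e.symm, he.symm⟩)
  have hfinC : Finite ↥(centralizerIn S Q) := finite_of_le (centralizerIn_le S Q)
  have hpos : 0 < Nat.card (centralizerIn S Q) := Nat.card_pos
  refine h2.trans ?_
  have h5 : Nat.card (centralizerIn S Q) * Nat.card ↥(autInducedBy S Q₁ ⊓ kmap e K) ≤
      Nat.card (centralizerIn S Q) * Nat.card ↥(autInducedBy S Q ⊓ K) :=
    (Nat.mul_le_mul_right _ h4).trans h3
  exact Nat.le_of_mul_le_mul_left h5 hpos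

/-- AKO I.5.2(a), the Sylow part, per class. -/
theorem fullyKNormalized_sylow_of_good (hS : IsPGroup p S) (F : FusionSystem S) {Q : Subgroup Ω}
    (hg : GoodClass F p Q) {K : Subgroup (MulAut Q)} (hQ : FullyKNormalized F Q K) :
    ∃ R : Sylow p ↥(F.autGroup Q ⊓ K),
      (R : Subgroup ↥(F.autGroup Q ⊓ K)) = (autInducedBy S Q ⊓ K).subgroupOf (F.autGroup Q ⊓ K) := by
  have hfinQ : Finite Q := finite_of_le hQ.1
  have hle : autInducedBy S Q ⊓ K ≤ F.autGroup Q ⊓ K :=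
    inf_le_inf_right _ (autInducedBy_le_autGroup F hQ.1)
  rw [sylowIn_iff_card hle]
  exact ⟨(autInducedBy_isPGroup hS Q).to_le inf_le_left,
    fun B hBH hB => fullyKNormalized_card_le_of_good hS F hg hQ B hBH hB⟩

/-- AKO I.5.2(a), the centralizer part, per class. -/
theorem fullyKNormalized_fullyCentralized_of_good (hS : IsPGroup p S) (F : FusionSystem S) {Q : Subgroup Ω}
    (hg : GoodClass F p Q) {K : Subgroup (MulAut Q)} (hQ : FullyKNormalized F Q K) : F.IsFullyCentralized Q := by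
  have hfinQ : Finite Q := finite_of_le hQ.1
  have hBF : autInducedBy S Q ⊓ K ≤ F.autGroup Q := inf_le_left.trans (autInducedBy_le_autGroup F hQ.1)
  have hB : IsPGroup p ↥(autInducedBy S Q ⊓ K) := (autInducedBy_isPGroup hS Q).to_le inf_le_left
  obtain ⟨Q₁, e, he, hFN, hconj⟩ := exists_iso_conj_into_of_good hS F hg hQ.1 _ hBF hB
  have hfinQ₁ : Finite Q₁ := finite_of_le hFN.1
  have hQQ₁ : F.IsConj Q Q₁ := (isConj_iff_exists_isFIso F).mpr ⟨e, he⟩
  have h1 : (autInducedBy S Q ⊓ K).map (MulAut.congr e).toMonoidHom ≤ autInducedBy S Q₁ ⊓ kmap e K := by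
    rintro _ ⟨b, hb, rfl⟩
    exact ⟨hconj b hb, congr_mem_kmap e hb.2⟩
  have h2 : Nat.card ↥(autInducedBy S Q ⊓ K) ≤ Nat.card ↥(autInducedBy S Q₁ ⊓ kmap e K) := by
    rw [← card_map_congr e (autInducedBy S Q ⊓ K)]
    exact Subgroup.card_le_of_le h1
  have h3 := hQ.2 Q₁ e he
  rw [card_NK, card_NK] at h3
  have hpos : 0 < Nat.card ↥(autInducedBy S Q₁ ⊓ kmap e K) := Nat.card_pos
  have h5 : Nat.card (centralizerIn S Q₁) * Nat.card ↥(autInducedBy S Q₁ ⊓ kmap e K) ≤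
      Nat.card (centralizerIn S Q) * Nat.card ↥(autInducedBy S Q₁ ⊓ kmap e K) :=
    h3.trans (Nat.mul_le_mul_left _ h2)
  have h6 : Nat.card (centralizerIn S Q₁) ≤ Nat.card (centralizerIn S Q) :=
    Nat.le_of_mul_le_mul_right h5 hpos
  have hFC := (good_fn hS F (hg.of_conj hQQ₁) hFN).1
  refine ⟨hQ.1, fun Q'' hQQ'' => ?_⟩
  have hQ₁Q'' : F.IsConj Q₁ Q'' :=
    isConj_trans F ((isConj_iff_exists_isFIso F).mpr ⟨e.symm, he.symm⟩) hQQ''
  exact (hFC.2 Q'' hQ₁Q'').trans h6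

theorem fullyKNormalized_receptive_of_good (hS : IsPGroup p S) (F : FusionSystem S) {Q : Subgroup Ω}
    (hg : GoodClass F p Q) {K : Subgroup (MulAut Q)} (hQ : FullyKNormalized F Q K) : F.IsReceptive Q :=
  good_fc hS F hg (fullyKNormalized_fullyCentralized_of_good hS F hg hQ)

end

end Cfsg.Agent.Lib.Helper26
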