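import Cfsg.Agent.Lib.Helper26.FSQuasisimple
import Cfsg.Agent.Lib.Helper26.FSNormalCrit

/-!
An analogue of Grün's lemma for fusion systems (S5315): if the hyperfocal subgroup of a saturated system `F` is all of
`S`, then the factor system of `F` modulo its centre has trivial centre.
-/

set_option autoImplicit false

namespace Cfsg.Agent.Lib.Helper26

open Cfsg Cfsg.FusionSystem

section Grun

variable {Ω : Type*} [Group Ω] {S : Subgroup Ω} {Ω' : Type*} [Group Ω']

/-- Maps of the system fix the centre pointwise. -/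
theorem hom_apply_center [Finite S] (F : FusionSystem S) {P : Subgroup Ω} {φ : P →* Ω} (hφ : φ ∈ F.Hom P)
    (z : P) (hz : (z : Ω) ∈ F.center) : φ z = z := by
  have hZ := center_isCentral F
  have hzP : Subgroup.zpowers (z : Ω) ≤ P := by rw [Subgroup.zpowers_le]; exact z.2
  have hres := inclusion_comp_mem F hzP hφ
  obtain ⟨ψ, -, hψφ, hψQ⟩ := hZ.2 _ _ hres
  have h1 := hψφ ⟨z, Subgroup.mem_zpowers _⟩
  have h2 := hψQ ⟨z, hz⟩
  have h12 : (Subgroup.inclusion (le_sup_left : Subgroup.zpowers (z : Ω) ≤ Subgroup.zpowers (z : Ω) ⊔ F.center)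
      ⟨z, Subgroup.mem_zpowers _⟩) = Subgroup.inclusion (le_sup_right : F.center ≤ Subgroup.zpowers (z : Ω) ⊔ F.center)
        ⟨z, hz⟩ := Subtype.ext rfl
  rw [h12, h2] at h1
  have h3 : (φ.comp (Subgroup.inclusion hzP)) ⟨z, Subgroup.mem_zpowers _⟩ = φ z := by
    show φ _ = φ z
    congr 1
  rw [h3] at h1
  exact h1.symm

/-- Lifting lemma: a map `φ` of `F` and a subgroup `Q'` central in the factor system modulo the centre: there is a map
`ψ` of `F` defined on a subgroup containing the source of `φ` and the preimage of `Q'`, congruent to `φ` modulo the centre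
and to the identity on the preimage of `Q'` modulo the centre. -/
theorem exists_lift_central [Finite S] {p : ℕ} [Fact p.Prime] (hS : IsPGroup p S) (F : FusionSystem S)
    (hF : F.IsSaturated p) {S' : Subgroup Ω'} (θ : S →* Ω') (E : FusionSystem S')
    (hE : F.IsFactorSystem F.center θ E) {Q' : Subgroup Ω'} (hQ' : E.IsCentral Q') {P : Subgroup Ω} {φ : P →* Ω}
    (hφ : φ ∈ F.Hom P) :
    ∃ (R : Subgroup Ω) (ψ : R →* Ω) (hPR : P ≤ R), ψ ∈ F.Hom R ∧ preimageAlong θ Q' ≤ R ∧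
      (∀ u : P, (φ u)⁻¹ * ψ (Subgroup.inclusion hPR u) ∈ F.center) ∧
      (∀ x : R, (x : Ω) ∈ preimageAlong θ Q' → (x : Ω)⁻¹ * ψ x ∈ F.center) := by
  have hsm := factorSystem_isSurjectiveMorphism hS F hF _ (center_stronglyClosed F) θ E hE
  obtain ⟨hZS, hker, hrange, hhom⟩ := hE
  obtain ⟨φ', hφ', hPS, hφS, hP', hind⟩ := hsm.1.2 P φ hφ
  obtain ⟨ψ', hψ', hψφ', hψQ'⟩ := hQ'.2 _ φ' hφ'
  have himS' : imageAlong θ P ≤ S' := by
    rintro _ ⟨s, -, rfl⟩
    exact hsm.1.1 s
  have hle : imageAlong θ P ⊔ Q' ≤ S' := sup_le himS' hQ'.1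
  obtain ⟨ψ, hψ, hRS, hψS, hR', hindψ⟩ := hsm.2.2 _ hle ψ' hψ'
  have hPR : P ≤ preimageAlong θ (imageAlong θ P ⊔ Q') := by
    intro y hy
    rw [mem_preimageAlong_iff]
    exact ⟨hPS hy, Subgroup.mem_sup_left ((mem_imageAlong_iff θ P _).mpr ⟨⟨y, hPS hy⟩, hy, rfl⟩)⟩
  have hQR : preimageAlong θ Q' ≤ preimageAlong θ (imageAlong θ P ⊔ Q') := by
    intro y hy
    obtain ⟨hyS, h⟩ := (mem_preimageAlong_iff θ _ y).mp hy
    rw [mem_preimageAlong_iff]
    exact ⟨hyS, Subgroup.mem_sup_right h⟩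
  refine ⟨_, ψ, hPR, hψ, hQR, ?_, ?_⟩
  · intro u
    have h1 := hindψ (Subgroup.inclusion hPR u)
    have h2 := hψφ' ⟨θ ⟨u, hPS u.2⟩, hP' u⟩
    have h3 := hind u
    have h4 : (⟨θ ⟨(Subgroup.inclusion hPR u : Ω), hRS (Subgroup.inclusion hPR u).2⟩,
        hR' (Subgroup.inclusion hPR u)⟩ : ↥(imageAlong θ P ⊔ Q')) =
        Subgroup.inclusion le_sup_left ⟨θ ⟨u, hPS u.2⟩, hP' u⟩ := Subtype.ext rfl
    rw [h4, h2, h3] at h1
    have h5 : θ (⟨φ u, hφS u⟩⁻¹ * ⟨ψ (Subgroup.inclusion hPR u), hψS _⟩) = 1 := by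
      rw [map_mul, map_inv, h1]; simp
    exact (hker _).mp h5
  · intro x hx
    obtain ⟨hxS, hxQ'⟩ := (mem_preimageAlong_iff θ _ _).mp hx
    have h1 := hindψ x
    have h2 := hψQ' ⟨θ ⟨x, hxS⟩, hxQ'⟩
    have h4 : (⟨θ ⟨(x : Ω), hRS x.2⟩, hR' x⟩ : ↥(imageAlong θ P ⊔ Q')) =
        Subgroup.inclusion le_sup_right ⟨θ ⟨x, hxS⟩, hxQ'⟩ := Subtype.ext rfl
    rw [h4, h2] at h1
    have h5 : θ (⟨x, hxS⟩⁻¹ * ⟨ψ x, hψS _⟩) = 1 := by
      rw [map_mul, map_inv, ← h1]; simp
    exact (hker _).mp h5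

/-- Algebra: conjugation commutator is unchanged by central factors. -/
theorem comm_central_aux {G : Type*} [Group G] (x f a b : G) (hax : Commute a x) (haf : Commute a f)
    (hbx : Commute b x) (_hbf : Commute b f) (hab : Commute a b) :
    (x * a)⁻¹ * (f * b) * (x * a) * (f * b)⁻¹ = x⁻¹ * f * x * f⁻¹ := by
  have h1 : (f * b) * (x * a) * (f * b)⁻¹ = f * (x * a) * f⁻¹ := by
    have hb : Commute b (x * a) := hbx.mul_right hab.symm
    calc (f * b) * (x * a) * (f * b)⁻¹ = f * (b * (x * a)) * b⁻¹ * f⁻¹ := by group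
      _ = f * ((x * a) * b) * b⁻¹ * f⁻¹ := by rw [hb.eq]
      _ = f * (x * a) * f⁻¹ := by group
  have h2 : f * (x * a) * f⁻¹ = f * x * f⁻¹ * a := by
    calc f * (x * a) * f⁻¹ = f * x * (a * f⁻¹) := by group
      _ = f * x * (f⁻¹ * a) := by rw [haf.inv_right.eq]
      _ = f * x * f⁻¹ * a := by group
  have h3 : Commute a (x⁻¹ * f * x * f⁻¹) :=
    ((hax.inv_right.mul_right haf).mul_right hax).mul_right haf.inv_right
  calc (x * a)⁻¹ * (f * b) * (x * a) * (f * b)⁻¹ = (x * a)⁻¹ * ((f * b) * (x * a) * (f * b)⁻¹) := by group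
    _ = (x * a)⁻¹ * (f * x * f⁻¹ * a) := by rw [h1, h2]
    _ = a⁻¹ * ((x⁻¹ * f * x * f⁻¹) * a) := by group
    _ = a⁻¹ * (a * (x⁻¹ * f * x * f⁻¹)) := by rw [h3.eq]
    _ = x⁻¹ * f * x * f⁻¹ := by group

/-- Elements of the preimage of a subgroup central in the factor system are moved by maps of `F` only within their
coset of the centre. -/
theorem apply_mod_center [Finite S] {p : ℕ} [Fact p.Prime] (hS : IsPGroup p S) (F : FusionSystem S)
    (hF : F.IsSaturated p) {S' : Subgroup Ω'} (θ : S →* Ω') (E : FusionSystem S')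
    (hE : F.IsFactorSystem F.center θ E) {Q' : Subgroup Ω'} (hQ' : E.IsCentral Q') {P : Subgroup Ω} {φ : P →* Ω}
    (hφ : φ ∈ F.Hom P) (x : P) (hx : (x : Ω) ∈ preimageAlong θ Q') : (x : Ω)⁻¹ * φ x ∈ F.center := by
  obtain ⟨R, ψ, hPR, hψ, hQR, h1, h2⟩ := exists_lift_central hS F hF θ E hE hQ' hφ
  have h3 := h1 x
  have h4 := h2 (Subgroup.inclusion hPR x) hx
  have h5 : (x : Ω)⁻¹ * φ x = ((x : Ω)⁻¹ * ψ (Subgroup.inclusion hPR x)) *
      ((φ x)⁻¹ * ψ (Subgroup.inclusion hPR x))⁻¹ := by group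
  rw [h5]
  exact Subgroup.mul_mem _ h4 (Subgroup.inv_mem _ h3)

/-- Conjugation of such an element by `φ u` and by `u` agree. -/
theorem conj_apply_eq [Finite S] {p : ℕ} [Fact p.Prime] (hS : IsPGroup p S) (F : FusionSystem S)
    (hF : F.IsSaturated p) {S' : Subgroup Ω'} (θ : S →* Ω') (E : FusionSystem S')
    (hE : F.IsFactorSystem F.center θ E) {Q' : Subgroup Ω'} (hQ' : E.IsCentral Q') {P : Subgroup Ω} {φ : P →* Ω}
    (hφ : φ ∈ F.Hom P) (u : P) {x : Ω} (hx : x ∈ preimageAlong θ Q') :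
    φ u * x * (φ u)⁻¹ = (u : Ω) * x * (u : Ω)⁻¹ := by
  have hPS : P ≤ S := hom_le F hφ
  have hxS : x ∈ S := preimageAlong_le θ Q' hx
  have hcent : ∀ z ∈ F.center, ∀ s ∈ S, Commute z s := fun z hz s hs =>
    (Subgroup.mem_centralizer_iff.mp (F.center_le_centralizer hz) s hs).symm
  -- the commutator of `u` and `x` lies in the centre
  have hc : x⁻¹ * ((u : Ω) * x * (u : Ω)⁻¹) ∈ F.center :=
    apply_mod_center hS F hF θ E hE hQ' (F.conj_mem le_rfl (hPS u.2)) ⟨x, hxS⟩ hx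
  obtain ⟨R, ψ, hPR, hψ, hQR, h1, h2⟩ := exists_lift_central hS F hF θ E hE hQ' hφ
  have hRS : R ≤ S := hom_le F hψ
  have hxR : x ∈ R := hQR hx
  set u' : R := Subgroup.inclusion hPR u with hu'
  set x' : R := ⟨x, hxR⟩ with hx'
  have h3 := h1 u
  have h4 := h2 x' hx
  set a : Ω := x⁻¹ * ψ x' with ha
  set b : Ω := (φ u)⁻¹ * ψ u' with hb
  have hψx : ψ x' = x * a := by rw [ha]; group
  have hψu : ψ u' = φ u * b := by rw [hb]; group
  have hfS : φ u ∈ S := hom_apply_mem F hφ u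
  -- `ψ` fixes the commutator
  have h5 := hom_apply_center F hψ (x'⁻¹ * u' * x' * u'⁻¹) (by
    have : ((x'⁻¹ * u' * x' * u'⁻¹ : R) : Ω) = x⁻¹ * ((u : Ω) * x * (u : Ω)⁻¹) := by
      show x⁻¹ * (u : Ω) * x * (u : Ω)⁻¹ = _
      group
    rw [this]; exact hc)
  have h6 : ψ (x'⁻¹ * u' * x' * u'⁻¹) = (ψ x')⁻¹ * ψ u' * ψ x' * (ψ u')⁻¹ := by
    simp only [map_mul, map_inv]
  have h7 : ((x'⁻¹ * u' * x' * u'⁻¹ : R) : Ω) = x⁻¹ * (u : Ω) * x * (u : Ω)⁻¹ := rfl
  rw [h6, h7, hψx, hψu, comm_central_aux x (φ u) a b (hcent a h4 x hxS) (hcent a h4 _ hfS)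
    (hcent b h3 x hxS) (hcent b h3 _ hfS) (hcent a h4 b ((center_isCentral F).1 h3))] at h5
  calc φ u * x * (φ u)⁻¹ = x * (x⁻¹ * φ u * x * (φ u)⁻¹) := by group
      _ = x * (x⁻¹ * (u : Ω) * x * (u : Ω)⁻¹) := by rw [h5]
      _ = (u : Ω) * x * (u : Ω)⁻¹ := by group

/-- If the hyperfocal subgroup is everything, such elements are central in `S`. -/
theorem commute_of_perfect [Finite S] {p : ℕ} [Fact p.Prime] (hS : IsPGroup p S) (F : FusionSystem S)
    (hF : F.IsSaturated p) (hperf : F.hyperfocalSubgroup p = S) {S' : Subgroup Ω'} (θ : S →* Ω')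
    (E : FusionSystem S') (hE : F.IsFactorSystem F.center θ E) {Q' : Subgroup Ω'} (hQ' : E.IsCentral Q') {x : Ω}
    (hx : x ∈ preimageAlong θ Q') : S ≤ Subgroup.centralizer ({x} : Set Ω) := by
  rw [← hperf]
  unfold hyperfocalSubgroup
  rw [Subgroup.closure_le]
  rintro y ⟨P, α, u, hPS, -, rfl⟩
  have hαF := (mem_autGroup_iff F hPS (α : MulAut P)).mp α.2
  have h1 := conj_apply_eq hS F hF θ E hE hQ' hαF u hx
  have h2 : (P.subtype.comp (α : MulAut P).toMonoidHom) u = (((α : MulAut P) u : P) : Ω) := rfl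
  rw [h2] at h1
  show _ ∈ Subgroup.centralizer ({x} : Set Ω)
  rw [Subgroup.mem_centralizer_iff]
  intro h hh
  rw [Set.mem_singleton_iff] at hh
  subst hh
  set v : Ω := (((α : MulAut P) u : P) : Ω) with hv
  calc h * ((u : Ω)⁻¹ * v) = (u : Ω)⁻¹ * ((u : Ω) * h * (u : Ω)⁻¹) * v := by group
    _ = (u : Ω)⁻¹ * (v * h * v⁻¹) * v := by rw [h1]
    _ = (u : Ω)⁻¹ * v * h := by group

/-- **Grün's lemma for fusion systems**: if the hyperfocal subgroup of the saturated system `F` is all of `S`, the factor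
system of `F` modulo its centre has trivial centre. -/
theorem center_factor_eq_bot [Finite S] {p : ℕ} [Fact p.Prime] (hS : IsPGroup p S) (F : FusionSystem S)
    (hF : F.IsSaturated p) (hperf : F.hyperfocalSubgroup p = S) {S' : Subgroup Ω'} (θ : S →* Ω')
    (E : FusionSystem S') (hE : F.IsFactorSystem F.center θ E) : E.center = ⊥ := by
  rw [eq_bot_iff]
  refine sSup_le fun Q' hQ' => ?_
  have hQ' : E.IsCentral Q' := hQ'
  set Q := preimageAlong θ Q' with hQdef
  have hQS : Q ≤ S := preimageAlong_le θ Q'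
  have hQc : S ≤ Subgroup.centralizer (Q : Set Ω) := by
    intro s hs
    rw [Subgroup.mem_centralizer_iff]
    intro x hx
    have := commute_of_perfect hS F hF hperf θ E hE hQ' hx hs
    rw [Subgroup.mem_centralizer_iff] at this
    exact this x rfl
  have hcentral : F.IsCentral Q := by
    apply isCentral_of_forall_aut hS F hF Q
    intro P hP
    have hPS : P ≤ S := by
      rcases hP with rfl | hP
      · exact le_rfl
      · exact hP.1.1
    have hQP : Q ≤ P := by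
      rcases hP with rfl | hP
      · exact hQS
      · exact le_of_essential_of_le_centralizer F hP hQS hQc
    have hfn : F.IsFullyNormalized P := by
      rcases hP with rfl | hP
      · exact top_fullyNormalized F
      · exact hP.2.1
    obtain ⟨-, R, hR⟩ := (saturated_fn hS F hF hfn).2
    refine ⟨hQP, fun α hα x hx => ?_⟩
    have : Finite P := finite_of_le hPS
    -- all automorphisms fix central elements
    have hfix : ∀ β : F.autGroup P, ∀ z : P, (z : Ω) ∈ F.center → (β : MulAut P) z = z := by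
      intro β z hz
      have hβF := (mem_autGroup_iff F hPS (β : MulAut P)).mp β.2
      have := hom_apply_center F hβF z hz
      exact Subtype.ext this
    have hmod : ∀ β : F.autGroup P, ((x⁻¹ * (β : MulAut P) x : P) : Ω) ∈ F.center := by
      intro β
      have hβF := (mem_autGroup_iff F hPS (β : MulAut P)).mp β.2
      exact apply_mod_center hS F hF θ E hE hQ' hβF x hx
    let χ : F.autGroup P →* P := MonoidHom.mk' (fun β => x⁻¹ * (β : MulAut P) x) (by
      intro β γ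
      have h1 : ((β * γ : F.autGroup P) : MulAut P) x = (β : MulAut P) ((γ : MulAut P) x) := rfl
      have h2 : (γ : MulAut P) x = x * (x⁻¹ * (γ : MulAut P) x) := by group
      have h3 := hfix β _ (hmod γ)
      show x⁻¹ * ((β * γ : F.autGroup P) : MulAut P) x = _
      rw [h1, h2, map_mul, h3]
      group)
    have hχ : ∀ β : F.autGroup P, χ β = x⁻¹ * (β : MulAut P) x := fun β => rfl
    have hRK : (R : Subgroup (F.autGroup P)) ≤ χ.ker := by
      intro β hβ
      rw [hR, Subgroup.mem_subgroupOf, mem_autInducedBy_iff] at hβ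
      obtain ⟨g, hg, hgβ⟩ := hβ
      rw [MonoidHom.mem_ker, hχ]
      have h1 := hgβ x
      have h2 := Subgroup.mem_centralizer_iff.mp (hQc hg) x hx
      have h3 : (β : MulAut P) x = x := by
        apply Subtype.ext
        rw [h1, ← h2]
        group
      rw [h3]; group
    have hidx : χ.ker.index ∣ (R : Subgroup (F.autGroup P)).index := Subgroup.index_dvd_of_le hRK
    have hnd : ¬ p ∣ (R : Subgroup (F.autGroup P)).index := R.not_dvd_index
    have hPp : IsPGroup p P := hS.to_le hPS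
    have hrange : IsPGroup p χ.range := hPp.to_subgroup _
    obtain ⟨n, hn⟩ := hrange.exists_card_eq
    rw [Subgroup.index_ker, hn] at hidx
    have hn0 : n = 0 := by
      by_contra hne
      exact hnd ((dvd_pow_self p hne).trans hidx)
    have hker : χ.ker = ⊤ := by
      rw [← Subgroup.index_eq_one, Subgroup.index_ker, hn, hn0, pow_zero]
    have h1 : (⟨α, hα⟩ : F.autGroup P) ∈ χ.ker := by rw [hker]; trivial
    rw [MonoidHom.mem_ker, hχ] at h1
    have h2 : x⁻¹ * α x = 1 := h1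
    calc α x = x * (x⁻¹ * α x) := by group
      _ = x := by rw [h2, mul_one]
  have hle : Q ≤ F.center := le_sSup hcentral
  obtain ⟨hZS, hker, hrange, hhom⟩ := hE
  intro y hy
  have hyS' : y ∈ θ.range := by rw [hrange]; exact hQ'.1 hy
  obtain ⟨s, rfl⟩ := hyS'
  have hsQ : (s : Ω) ∈ Q := (mem_preimageAlong_iff θ Q' _).mpr ⟨s.2, hy⟩
  rw [Subgroup.mem_bot]
  exact (hker s).mpr (hle hsQ)

end Grun

end Cfsg.Agent.Lib.Helper26
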