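import Cfsg.Agent.Lib.Helper26.FSIso
import Cfsg.Agent.Lib.Helper26.FSSylow
import Cfsg.Agent.Lib.Helper26.FSNormalizer

/-!
Invariant subsystems: the Frattini condition and strong invariance (towards S5119).
-/

set_option autoImplicit false

namespace Cfsg.Agent.Lib.Helper26

open Cfsg Cfsg.FusionSystem

variable {Ω : Type*} [Group Ω] {S T : Subgroup Ω}

/-- Invariance of `E` under `Aut_F(T)`. -/
def AutInv (E : FusionSystem T) (F : FusionSystem S) : Prop :=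
  ∀ (P : Subgroup Ω) (hPT : P ≤ T) (φ : P →* Ω), φ ∈ E.Hom P → ∀ α ∈ F.autGroup T,
    ∃ χ ∈ E.Hom ((P.subgroupOf T).map (T.subtype.comp α.toMonoidHom)),
      ∀ (x : P) (hφx : φ x ∈ T)
        (hαx : ((α ⟨x, hPT x.2⟩ : T) : Ω) ∈ (P.subgroupOf T).map (T.subtype.comp α.toMonoidHom)),
        χ ⟨(α ⟨x, hPT x.2⟩ : T), hαx⟩ = ((α ⟨φ x, hφx⟩ : T) : Ω)

/-- The strong invariance condition. -/
def StrongInv (E : FusionSystem T) (F : FusionSystem S) : Prop :=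
  ∀ (P Q : Subgroup Ω) (hPQ : P ≤ Q) (_ : Q ≤ T) (φ : P →* Ω) (_ : φ ∈ E.Hom P) (hφQ : ∀ x : P, φ x ∈ Q)
    (ψ : Q →* Ω) (_ : ψ ∈ F.Hom Q), ∃ χ ∈ E.Hom ((P.subgroupOf Q).map ψ),
      ∀ (x : P) (hx : ψ (Subgroup.inclusion hPQ x) ∈ (P.subgroupOf Q).map ψ),
        χ ⟨ψ (Subgroup.inclusion hPQ x), hx⟩ = ψ ⟨φ x, hφQ x⟩

/-- The map `φ` is an element of `Aut_F(T)` composed with a map of `E`. -/
def Dec (E : FusionSystem T) (F : FusionSystem S) (P : Subgroup Ω) (φ : P →* Ω) : Prop :=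
  ∃ α ∈ F.autGroup T, ∃ φ₀ ∈ E.Hom P, ∀ (x : P) (hx : φ₀ x ∈ T), φ x = ((α ⟨φ₀ x, hx⟩ : T) : Ω)

/-- The image of `P ∩ T` under an automorphism of `T`. -/
abbrev imgAut (α : MulAut T) (P : Subgroup Ω) : Subgroup Ω :=
  (P.subgroupOf T).map (T.subtype.comp α.toMonoidHom)

theorem mem_imgAut {α : MulAut T} {P : Subgroup Ω} {y : Ω} :
    y ∈ imgAut α P ↔ ∃ x : T, (x : Ω) ∈ P ∧ ((α x : T) : Ω) = y := by
  constructor
  · rintro ⟨x, hx, rfl⟩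
    exact ⟨x, hx, rfl⟩
  · rintro ⟨x, hx, rfl⟩
    exact ⟨x, hx, rfl⟩

theorem imgAut_le (α : MulAut T) (P : Subgroup Ω) : imgAut α P ≤ T := by
  rintro _ ⟨x, -, rfl⟩
  exact (α x).2

theorem apply_mem_imgAut (α : MulAut T) {P : Subgroup Ω} (x : T) (hx : (x : Ω) ∈ P) :
    ((α x : T) : Ω) ∈ imgAut α P := ⟨x, hx, rfl⟩

/-- A more usable form of invariance. -/
theorem AutInv.exists {E : FusionSystem T} {F : FusionSystem S} (h : AutInv E F) {P : Subgroup Ω} (hPT : P ≤ T)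
    {φ : P →* Ω} (hφ : φ ∈ E.Hom P) {α : MulAut T} (hα : α ∈ F.autGroup T) :
    ∃ χ ∈ E.Hom (imgAut α P), ∀ (y : T) (hy : (y : Ω) ∈ P) (h' : ((α y : T) : Ω) ∈ imgAut α P),
      χ ⟨(α y : T), h'⟩ = ((α ⟨φ ⟨y, hy⟩, hom_apply_mem E hφ _⟩ : T) : Ω) := by
  obtain ⟨χ, hχ, hχ'⟩ := h P hPT φ hφ α hα
  exact ⟨χ, hχ, fun y hy h' => hχ' ⟨y, hy⟩ (hom_apply_mem E hφ _) h'⟩

section DecAPI

variable {E : FusionSystem T} {F : FusionSystem S}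

theorem Dec.le {P : Subgroup Ω} {φ : P →* Ω} (h : Dec E F P φ) : P ≤ T := by
  obtain ⟨α, -, φ₀, hφ₀, -⟩ := h
  exact hom_le E hφ₀

theorem dec_of_mem {P : Subgroup Ω} {φ : P →* Ω} (hφ : φ ∈ E.Hom P) : Dec E F P φ :=
  ⟨1, Subgroup.one_mem _, φ, hφ, fun _ _ => rfl⟩

theorem dec_of_aut {P : Subgroup Ω} (hPT : P ≤ T) {α : MulAut T} (hα : α ∈ F.autGroup T) {φ : P →* Ω}
    (hφ : ∀ x : P, φ x = ((α ⟨x, hPT x.2⟩ : T) : Ω)) : Dec E F P φ :=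
  ⟨α, hα, P.subtype, subtype_mem E hPT, fun x _ => hφ x⟩

theorem Dec.restrict {P R : Subgroup Ω} {φ : P →* Ω} (h : Dec E F P φ) (hRP : R ≤ P) :
    Dec E F R (φ.comp (Subgroup.inclusion hRP)) := by
  obtain ⟨α, hα, φ₀, hφ₀, h⟩ := h
  exact ⟨α, hα, φ₀.comp (Subgroup.inclusion hRP), inclusion_comp_mem E hRP hφ₀, fun x hx => h _ hx⟩

theorem Dec.congr {P : Subgroup Ω} {φ φ' : P →* Ω} (h : Dec E F P φ) (heq : ∀ x, φ' x = φ x) : Dec E F P φ' := by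
  have : φ' = φ := MonoidHom.ext heq
  rw [this]; exact h

/-- Composition of decomposable maps. -/
theorem Dec.comp (hinv : AutInv E F) {P P' : Subgroup Ω} {φ : P →* Ω} {φ' : P' →* Ω} (h : Dec E F P φ)
    (h' : Dec E F P' φ') (hφ : ∀ x : P, φ x ∈ P') : Dec E F P (φ'.comp (φ.codRestrict P' hφ)) := by
  obtain ⟨α, hα, φ₀, hφ₀, hφα⟩ := h
  obtain ⟨α', hα', φ₀', hφ₀', hφα'⟩ := h'
  have hP'T : P' ≤ T := hom_le E hφ₀'
  have hφ₀T : ∀ x : P, φ₀ x ∈ T := hom_apply_mem E hφ₀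
  have hφ₀'T : ∀ x : P', φ₀' x ∈ T := hom_apply_mem E hφ₀'
  obtain ⟨χ, hχ, hχ'⟩ := hinv.exists hP'T hφ₀' (inv_mem hα)
  -- `φ₀` maps `P` into `α⁻¹(P')`
  have hmem : ∀ x : P, φ₀ x ∈ imgAut α⁻¹ P' := by
    intro x
    refine mem_imgAut.mpr ⟨⟨φ x, hP'T (hφ x)⟩, hφ x, ?_⟩
    have := hφα x (hφ₀T x)
    have e : (⟨φ x, hP'T (hφ x)⟩ : T) = α ⟨φ₀ x, hφ₀T x⟩ := Subtype.ext this
    rw [e]
    simp
  refine ⟨α' * α, mul_mem hα' hα, χ.comp (φ₀.codRestrict _ hmem), E.comp_mem hφ₀ hχ hmem, fun x hx => ?_⟩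
  show φ' ⟨φ x, hφ x⟩ = ((α' (α ⟨χ ⟨φ₀ x, hmem x⟩, hx⟩) : T) : Ω)
  have e1 : (⟨φ₀ x, hφ₀T x⟩ : T) = α⁻¹ ⟨φ x, hP'T (hφ x)⟩ := by
    have := hφα x (hφ₀T x)
    have e : (⟨φ x, hP'T (hφ x)⟩ : T) = α ⟨φ₀ x, hφ₀T x⟩ := Subtype.ext this
    rw [e]
    simp
  have h2 := hχ' ⟨φ x, hP'T (hφ x)⟩ (hφ x) (by rw [← e1]; exact hmem x)
  have e2 : (⟨χ ⟨φ₀ x, hmem x⟩, hx⟩ : T) = α⁻¹ ⟨φ₀' ⟨φ x, hφ x⟩, hφ₀'T _⟩ := by
    apply Subtype.ext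
    rw [← h2]
    show χ ⟨φ₀ x, hmem x⟩ = _
    congr 1
    apply Subtype.ext
    show φ₀ x = ((α⁻¹ ⟨φ x, hP'T (hφ x)⟩ : T) : Ω)
    exact congrArg Subtype.val e1
  rw [e2, hφα' ⟨φ x, hφ x⟩ (hφ₀'T _)]
  simp

/-- The inverse of a decomposable map is decomposable. -/
theorem Dec.inv (hinv : AutInv E F) {P : Subgroup Ω} {φ : P →* Ω} (h : Dec E F P φ) (ψ : φ.range →* Ω)
    (hψ : ∀ x : P, ψ ⟨φ x, ⟨x, rfl⟩⟩ = (x : Ω)) : Dec E F φ.range ψ := by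
  obtain ⟨α, hα, φ₀, hφ₀, hφα⟩ := h
  have hPT : P ≤ T := hom_le E hφ₀
  have hφ₀T : ∀ x : P, φ₀ x ∈ T := hom_apply_mem E hφ₀
  obtain ⟨ψ₀, hψ₀, hψ₀x⟩ := E.inv_mem hφ₀
  have hrT : φ₀.range ≤ T := range_le E hφ₀
  obtain ⟨χ, hχ, hχ'⟩ := hinv.exists hrT hψ₀ hα
  have hsub : φ.range ≤ imgAut α φ₀.range := by
    rintro _ ⟨x, rfl⟩
    rw [hφα x (hφ₀T x)]
    exact apply_mem_imgAut α ⟨φ₀ x, hφ₀T x⟩ ⟨x, rfl⟩
  refine ⟨α⁻¹, inv_mem hα, χ.comp (Subgroup.inclusion hsub), inclusion_comp_mem E hsub hχ, ?_⟩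
  rintro ⟨_, x, rfl⟩ hx
  rw [hψ x]
  have h1 := hχ' ⟨φ₀ x, hφ₀T x⟩ ⟨x, rfl⟩ (apply_mem_imgAut α _ ⟨x, rfl⟩)
  have e0 : (⟨ψ₀ ⟨φ₀ x, ⟨x, rfl⟩⟩, hom_apply_mem E hψ₀ _⟩ : T) = ⟨x, hPT x.2⟩ := Subtype.ext (hψ₀x x)
  rw [e0] at h1
  have e1 : (⟨(χ.comp (Subgroup.inclusion hsub)) ⟨φ x, ⟨x, rfl⟩⟩, hx⟩ : T) = α ⟨x, hPT x.2⟩ := by
    apply Subtype.ext
    rw [← h1]
    show χ (Subgroup.inclusion hsub ⟨φ x, ⟨x, rfl⟩⟩) = _
    congr 1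
    apply Subtype.ext
    show φ x = ((α ⟨φ₀ x, hφ₀T x⟩ : T) : Ω)
    exact hφα x (hφ₀T x)
  rw [e1]
  simp

/-- Transport of a decomposable map along an equality of sources. -/
theorem Dec.congr_dom {P P' : Subgroup Ω} {φ : P →* Ω} (h : Dec E F P φ) (heq : P = P') :
    Dec E F P' (φ.comp (Subgroup.inclusion heq.ge)) := by
  subst heq
  exact h.congr (fun x => rfl)

/-- An isomorphism is decomposable. -/
def DecI (E : FusionSystem T) (F : FusionSystem S) {P Q : Subgroup Ω} (e : P ≃* Q) : Prop :=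
  Dec E F P (equivHom e)

theorem DecI.trans (hinv : AutInv E F) {P Q R : Subgroup Ω} {e : P ≃* Q} {f : Q ≃* R} (he : DecI E F e)
    (hf : DecI E F f) : DecI E F (e.trans f) := by
  unfold DecI at he hf ⊢
  have := Dec.comp hinv he hf (fun x => (e x).2)
  exact this.congr (fun x => rfl)

theorem DecI.symm (hinv : AutInv E F) {P Q : Subgroup Ω} {e : P ≃* Q} (he : DecI E F e) :
    DecI E F e.symm := by
  unfold DecI at he ⊢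
  have hr : (equivHom e).range = Q := equivHom_range e
  have h1 := Dec.inv hinv he ((equivHom e.symm).comp (Subgroup.inclusion hr.le)) (fun x => by
    show ((e.symm (Subgroup.inclusion hr.le ⟨equivHom e x, ⟨x, rfl⟩⟩) : P) : Ω) = x
    have : Subgroup.inclusion hr.le ⟨equivHom e x, ⟨x, rfl⟩⟩ = e x := Subtype.ext rfl
    rw [this]
    simp)
  have h2 := h1.congr_dom hr
  exact h2.congr (fun y => rfl)

theorem decI_of_isFIso {P Q : Subgroup Ω} {e : P ≃* Q} (he : IsFIso E e) : DecI E F e := dec_of_mem he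

end DecAPI

end Cfsg.Agent.Lib.Helper26
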