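import Cfsg.Agent.Lib.Helper26.FSSat
set_option autoImplicit false

/-!
Isomorphisms of a fusion system and transport of automorphism groups (helper26's library).
-/

namespace Cfsg.Agent.Lib.Helper26

open Cfsg Cfsg.FusionSystem

variable {Ω : Type*} [Group Ω] {S : Subgroup Ω}

/-- The isomorphism `P ≃* Q` given by a map of the system with source `P` and image `Q`. -/
noncomputable def homEquiv (F : FusionSystem S) {P Q : Subgroup Ω} {φ : P →* Ω} (hφ : φ ∈ F.Hom P)
    (hr : φ.range = Q) : P ≃* Q :=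
  (MonoidHom.ofInjective (F.injective_of_mem hφ)).trans (MulEquiv.subgroupCongr hr)

@[simp] theorem homEquiv_apply (F : FusionSystem S) {P Q : Subgroup Ω} {φ : P →* Ω} (hφ : φ ∈ F.Hom P)
    (hr : φ.range = Q) (x : P) : ((homEquiv F hφ hr x : Q) : Ω) = φ x := rfl

/-- An isomorphism `e : P ≃* Q` viewed as a homomorphism `P →* Ω`. -/
def equivHom {P Q : Subgroup Ω} (e : P ≃* Q) : P →* Ω := Q.subtype.comp e.toMonoidHom

@[simp] theorem equivHom_apply {P Q : Subgroup Ω} (e : P ≃* Q) (x : P) : equivHom e x = (e x : Ω) := rfl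

theorem equivHom_range {P Q : Subgroup Ω} (e : P ≃* Q) : (equivHom e).range = Q := by
  ext z
  constructor
  · rintro ⟨x, rfl⟩
    exact (e x).2
  · intro hz
    exact ⟨e.symm ⟨z, hz⟩, by simp⟩

theorem equivHom_homEquiv (F : FusionSystem S) {P Q : Subgroup Ω} {φ : P →* Ω} (hφ : φ ∈ F.Hom P)
    (hr : φ.range = Q) : equivHom (homEquiv F hφ hr) = φ := by
  ext x; rfl

/-- `e : P ≃* Q` is an isomorphism of the system. -/
def IsFIso (F : FusionSystem S) {P Q : Subgroup Ω} (e : P ≃* Q) : Prop := equivHom e ∈ F.Hom P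

theorem homEquiv_isFIso (F : FusionSystem S) {P Q : Subgroup Ω} {φ : P →* Ω} (hφ : φ ∈ F.Hom P)
    (hr : φ.range = Q) : IsFIso F (homEquiv F hφ hr) := by
  unfold IsFIso
  rw [equivHom_homEquiv]
  exact hφ

theorem IsFIso.symm {F : FusionSystem S} {P Q : Subgroup Ω} {e : P ≃* Q} (he : IsFIso F e) :
    IsFIso F e.symm := by
  unfold IsFIso at he ⊢
  obtain ⟨ψ, hψ, hψx⟩ := F.inv_mem he
  have hr : (equivHom e).range = Q := equivHom_range e
  have h2 := hom_congr F hr hψ
  have : equivHom e.symm = ψ.comp (Subgroup.inclusion hr.ge) := by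
    ext y
    have := hψx (e.symm y)
    show ((e.symm y : P) : Ω) = ψ (Subgroup.inclusion hr.ge y)
    rw [← this]
    congr 1
    apply Subtype.ext
    simp
  rw [this]
  exact h2

theorem IsFIso.trans {F : FusionSystem S} {P Q R : Subgroup Ω} {e : P ≃* Q} {f : Q ≃* R} (he : IsFIso F e)
    (hf : IsFIso F f) : IsFIso F (e.trans f) := by
  unfold IsFIso at he hf ⊢
  have := F.comp_mem he hf (fun x => (e x).2)
  have h2 : equivHom (e.trans f) = (equivHom f).comp ((equivHom e).codRestrict Q (fun x => (e x).2)) := by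
    ext x; rfl
  rw [h2]
  exact this

theorem IsFIso.le_left {F : FusionSystem S} {P Q : Subgroup Ω} {e : P ≃* Q} (he : IsFIso F e) : P ≤ S :=
  hom_le F he

theorem IsFIso.le_right {F : FusionSystem S} {P Q : Subgroup Ω} {e : P ≃* Q} (he : IsFIso F e) : Q ≤ S := by
  have := range_le F he
  rwa [equivHom_range] at this

theorem isFIso_refl (F : FusionSystem S) {P : Subgroup Ω} (hP : P ≤ S) : IsFIso F (MulEquiv.refl P) := by
  unfold IsFIso
  exact subtype_mem F hP

theorem isConj_iff_exists_isFIso (F : FusionSystem S) {P Q : Subgroup Ω} :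
    F.IsConj P Q ↔ ∃ e : P ≃* Q, IsFIso F e := by
  constructor
  · rintro ⟨φ, hφ, hr⟩
    exact ⟨homEquiv F hφ hr, homEquiv_isFIso F hφ hr⟩
  · rintro ⟨e, he⟩
    exact ⟨equivHom e, he, equivHom_range e⟩

/-- Membership in `Aut_F(P)` in terms of `IsFIso`. -/
theorem mem_autGroup_iff_isFIso (F : FusionSystem S) {P : Subgroup Ω} (hP : P ≤ S) (α : MulAut P) :
    α ∈ F.autGroup P ↔ IsFIso F (α : P ≃* P) := mem_autGroup_iff F hP α

/-- Composite of a map of the system with an isomorphism of the system on the source side. -/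
theorem comp_equiv_mem (F : FusionSystem S) {P Q : Subgroup Ω} {e : P ≃* Q} (he : IsFIso F e) {ψ : Q →* Ω}
    (hψ : ψ ∈ F.Hom Q) : ψ.comp e.toMonoidHom ∈ F.Hom P := by
  have := F.comp_mem he hψ (fun x => (e x).2)
  have h2 : ψ.comp e.toMonoidHom = ψ.comp ((equivHom e).codRestrict Q (fun x => (e x).2)) := by
    ext x; rfl
  rw [h2]
  exact this

/-- Transport of `Aut_F` along an isomorphism of the system. -/
theorem congr_mem_autGroup (F : FusionSystem S) {P Q : Subgroup Ω} {e : P ≃* Q} (he : IsFIso F e)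
    {α : MulAut P} (hα : α ∈ F.autGroup P) : MulAut.congr e α ∈ F.autGroup Q := by
  rw [mem_autGroup_iff_isFIso F he.le_left] at hα
  rw [mem_autGroup_iff_isFIso F he.le_right]
  exact (he.symm.trans hα).trans he

theorem congr_mem_autGroup_iff (F : FusionSystem S) {P Q : Subgroup Ω} {e : P ≃* Q} (he : IsFIso F e)
    (α : MulAut P) : MulAut.congr e α ∈ F.autGroup Q ↔ α ∈ F.autGroup P := by
  constructor
  · intro h
    have := congr_mem_autGroup F he.symm h
    have h2 : MulAut.congr e.symm (MulAut.congr e α) = α := by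
      ext x; simp [MulAut.congr]
    rwa [h2] at this
  · exact congr_mem_autGroup F he

end Cfsg.Agent.Lib.Helper26
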