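import Cfsg.Agent.Lib.Helper26.FSIso
import Cfsg.Agent.Lib.Helper26.FSSylow
import Cfsg.Agent.Lib.Helper26.FSHypAction
import Cfsg.Agent.Lib.Helper26.FSSatEquiv
import Cfsg.Agent.Lib.Helper26.FSGroup

/-!
`K`-normalizers in fusion systems (AKO I.5): basic definitions and Proposition I.5.2.
-/

set_option autoImplicit false

namespace Cfsg.Agent.Lib.Helper26

open Cfsg Cfsg.FusionSystem

variable {Ω : Type*} [Group Ω] {S : Subgroup Ω}

section Basic

/-- Transport of a group of automorphisms along an isomorphism. -/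
def kmap {Q Q' : Subgroup Ω} (e : Q ≃* Q') (K : Subgroup (MulAut Q)) : Subgroup (MulAut Q') :=
  K.map (MulAut.congr e).toMonoidHom

theorem mem_kmap {Q Q' : Subgroup Ω} {e : Q ≃* Q'} {K : Subgroup (MulAut Q)} {γ : MulAut Q'} :
    γ ∈ kmap e K ↔ (MulAut.congr e).symm γ ∈ K := by
  constructor
  · rintro ⟨k, hk, rfl⟩
    have : (MulAut.congr e).symm ((MulAut.congr e) k) = k := (MulAut.congr e).symm_apply_apply k
    show (MulAut.congr e).symm ((MulAut.congr e) k) ∈ K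
    rw [this]
    exact hk
  · intro h
    exact ⟨_, h, (MulAut.congr e).apply_symm_apply γ⟩

theorem congr_mem_kmap {Q Q' : Subgroup Ω} (e : Q ≃* Q') {K : Subgroup (MulAut Q)} {k : MulAut Q} (hk : k ∈ K) :
    MulAut.congr e k ∈ kmap e K := ⟨k, hk, rfl⟩

theorem congr_mem_kmap_iff {Q Q' : Subgroup Ω} (e : Q ≃* Q') {K : Subgroup (MulAut Q)} {k : MulAut Q} :
    MulAut.congr e k ∈ kmap e K ↔ k ∈ K := by
  rw [mem_kmap]
  have : (MulAut.congr e).symm ((MulAut.congr e) k) = k := (MulAut.congr e).symm_apply_apply k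
  rw [this]

theorem congr_apply {Q Q' : Subgroup Ω} (e : Q ≃* Q') (k : MulAut Q) (y : Q') :
    (MulAut.congr e k) y = e (k (e.symm y)) := rfl

theorem congr_symm_apply {Q Q' : Subgroup Ω} (e : Q ≃* Q') (γ : MulAut Q') (x : Q) :
    ((MulAut.congr e).symm γ) x = e.symm (γ (e x)) := rfl

/-- `N_S^K(Q)`. -/
def NK (S Q : Subgroup Ω) (K : Subgroup (MulAut Q)) : Subgroup Ω := S ⊓ actSubgroup Q K

theorem mem_NK {Q : Subgroup Ω} {K : Subgroup (MulAut Q)} {x : Ω} :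
    x ∈ NK S Q K ↔ x ∈ S ∧ ∃ α ∈ K, ∀ t : Q, ((α t : Q) : Ω) = x * t * x⁻¹ := Iff.rfl

theorem NK_le (S Q : Subgroup Ω) (K : Subgroup (MulAut Q)) : NK S Q K ≤ S := inf_le_left

theorem mem_normalizer_of_mem_actSubgroup {Q : Subgroup Ω} {K : Subgroup (MulAut Q)} {x : Ω}
    (hx : x ∈ actSubgroup Q K) : x ∈ Subgroup.normalizer (Q : Set Ω) := by
  obtain ⟨α, -, hα⟩ := hx
  apply mem_normalizer_of_conj_mem
  · intro y hy
    rw [← hα ⟨y, hy⟩]
    exact (α ⟨y, hy⟩).2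
  · intro y hy
    have := hα (α⁻¹ ⟨y, hy⟩)
    rw [MulAut.apply_inv_self] at this
    have h3 : (y : Ω) = x * ((α⁻¹ ⟨y, hy⟩ : Q) : Ω) * x⁻¹ := this
    have h2 : x⁻¹ * y * x = ((α⁻¹ ⟨y, hy⟩ : Q) : Ω) := by
      calc x⁻¹ * y * x = x⁻¹ * (x * ((α⁻¹ ⟨y, hy⟩ : Q) : Ω) * x⁻¹) * x := by rw [← h3]
        _ = ((α⁻¹ ⟨y, hy⟩ : Q) : Ω) := by group
    rw [h2]
    exact (α⁻¹ ⟨y, hy⟩).2

theorem NK_le_normalizerIn (S Q : Subgroup Ω) (K : Subgroup (MulAut Q)) : NK S Q K ≤ normalizerIn S Q :=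
  fun _ hx => ⟨hx.1, mem_normalizer_of_mem_actSubgroup hx.2⟩

/-- The conjugation automorphism of an element of `N_S^K(Q)` lies in `K`. -/
theorem normalizerMonoidHom_mem_of_mem_NK {Q : Subgroup Ω} {K : Subgroup (MulAut Q)} {x : Ω}
    (hx : x ∈ NK S Q K) (hxN : x ∈ Subgroup.normalizer (Q : Set Ω)) :
    Q.normalizerMonoidHom ⟨x, hxN⟩ ∈ K := by
  obtain ⟨α, hα, hαx⟩ := hx.2
  have : Q.normalizerMonoidHom ⟨x, hxN⟩ = α := by
    ext t
    rw [hαx t]
    rfl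
  rw [this]
  exact hα

theorem mem_NK_of_normalizerMonoidHom_mem {Q : Subgroup Ω} {K : Subgroup (MulAut Q)} {x : Ω} (hxS : x ∈ S)
    (hxN : x ∈ Subgroup.normalizer (Q : Set Ω)) (h : Q.normalizerMonoidHom ⟨x, hxN⟩ ∈ K) : x ∈ NK S Q K :=
  ⟨hxS, _, h, fun _ => rfl⟩

theorem centralizerIn_le_NK (S Q : Subgroup Ω) (K : Subgroup (MulAut Q)) : centralizerIn S Q ≤ NK S Q K := by
  intro c hc
  obtain ⟨hcS, hcc⟩ := mem_centralizerIn_iff.mp hc
  refine ⟨hcS, 1, K.one_mem, fun t => ?_⟩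
  have := hcc t t.2
  show (t : Ω) = c * t * c⁻¹
  rw [← this]
  group

/-- `Q` is fully `K`-normalized. -/
def FullyKNormalized (F : FusionSystem S) (Q : Subgroup Ω) (K : Subgroup (MulAut Q)) : Prop :=
  Q ≤ S ∧ ∀ (Q' : Subgroup Ω) (e : Q ≃* Q'), IsFIso F e →
    Nat.card (NK S Q' (kmap e K)) ≤ Nat.card (NK S Q K)

/-- The conjugation action `N_S^K(Q) → Aut(Q)`. -/
def NKhom (S Q : Subgroup Ω) (K : Subgroup (MulAut Q)) : ↥(NK S Q K) →* MulAut Q :=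
  Q.normalizerMonoidHom.comp (Subgroup.inclusion
    (fun _ hx => mem_normalizer_of_mem_actSubgroup hx.2 : NK S Q K ≤ Subgroup.normalizer (Q : Set Ω)))

theorem NKhom_apply {Q : Subgroup Ω} {K : Subgroup (MulAut Q)} (x : ↥(NK S Q K)) (t : Q) :
    ((NKhom S Q K x t : Q) : Ω) = x * t * (x : Ω)⁻¹ := rfl

theorem NKhom_range (S Q : Subgroup Ω) (K : Subgroup (MulAut Q)) :
    (NKhom S Q K).range = autInducedBy S Q ⊓ K := by
  ext α
  constructor
  · rintro ⟨x, rfl⟩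
    refine ⟨?_, ?_⟩
    · show NKhom S Q K x ∈ autInducedBy S Q
      rw [mem_autInducedBy_iff]
      exact ⟨x, x.2.1, fun t => rfl⟩
    · exact normalizerMonoidHom_mem_of_mem_NK x.2 _
  · rintro ⟨h1, h2⟩
    obtain ⟨g, hgS, hgN, rfl⟩ := (mem_autInducedBy_iff' S Q α).mp h1
    exact ⟨⟨g, mem_NK_of_normalizerMonoidHom_mem hgS hgN h2⟩, rfl⟩

theorem NKhom_ker (S Q : Subgroup Ω) (K : Subgroup (MulAut Q)) :
    (NKhom S Q K).ker = (centralizerIn S Q).subgroupOf (NK S Q K) := by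
  ext x
  rw [MonoidHom.mem_ker, Subgroup.mem_subgroupOf, mem_centralizerIn_iff]
  constructor
  · intro h
    refine ⟨x.2.1, fun t ht => ?_⟩
    have h1 := congrArg (fun α : MulAut Q => ((α ⟨t, ht⟩ : Q) : Ω)) h
    simp only [MulAut.one_apply] at h1
    rw [NKhom_apply] at h1
    calc t * (x : Ω) = ((x : Ω) * t * (x : Ω)⁻¹) * x := by rw [h1]
      _ = x * t := by group
  · rintro ⟨-, h⟩
    ext t
    rw [NKhom_apply, MulAut.one_apply, ← h t t.2]
    group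

/-- `|N_S^K(Q)| = |C_S(Q)| · |Aut_S^K(Q)|`. -/
theorem card_NK [Finite S] (Q : Subgroup Ω) (K : Subgroup (MulAut Q)) :
    Nat.card (NK S Q K) = Nat.card (centralizerIn S Q) * Nat.card ↥(autInducedBy S Q ⊓ K) := by
  have h1 := (NKhom S Q K).ker.card_mul_index
  rw [Subgroup.index_ker, NKhom_range, NKhom_ker] at h1
  rw [← h1, Nat.card_congr (Subgroup.subgroupOfEquivOfLe (centralizerIn_le_NK S Q K)).toEquiv]

end Basic

section PropA

variable [Finite S] {p : ℕ} [Fact p.Prime]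

theorem congr_trans_aut {Q Q₁ : Subgroup Ω} (e₀ : Q ≃* Q₁) (β : MulAut Q₁) (b : MulAut Q) :
    MulAut.congr (e₀.trans (β : Q₁ ≃* Q₁)) b = β * MulAut.congr e₀ b * β⁻¹ := by
  ext y
  rfl

/-- A `p`-subgroup of `Aut_F(Q)` can be transported into `Aut_S(Q₁)` for a fully normalized conjugate `Q₁`. -/
theorem exists_iso_conj_into (hS : IsPGroup p S) (F : FusionSystem S) (hF : F.IsSaturated p) {Q : Subgroup Ω}
    (hQS : Q ≤ S) (B : Subgroup (MulAut Q)) (hBF : B ≤ F.autGroup Q) (hB : IsPGroup p B) :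
    ∃ (Q₁ : Subgroup Ω) (e : Q ≃* Q₁), IsFIso F e ∧ F.IsFullyNormalized Q₁ ∧
      ∀ b ∈ B, MulAut.congr e b ∈ autInducedBy S Q₁ := by
  obtain ⟨Q₁, hQQ₁, hFN⟩ := exists_fullyNormalized_conj F hQS
  obtain ⟨e₀, he₀⟩ := (isConj_iff_exists_isFIso F).mp hQQ₁
  have hfinQ₁ : Finite Q₁ := finite_of_le hFN.1
  have hFA := (saturated_fn hS F hF hFN).2
  have hB₁F : B.map (MulAut.congr e₀).toMonoidHom ≤ F.autGroup Q₁ := by
    rintro _ ⟨b, hb, rfl⟩
    exact congr_mem_autGroup F he₀ (hBF hb)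
  have hB₁ : IsPGroup p ↥(B.map (MulAut.congr e₀).toMonoidHom) := hB.map _
  obtain ⟨β, hβ, hβB⟩ := exists_conj_le_of_sylowIn hFA.2 hB₁F hB₁
  refine ⟨Q₁, e₀.trans (β : Q₁ ≃* Q₁), he₀.trans ((mem_autGroup_iff_isFIso F hFN.1 β).mp hβ), hFN, fun b hb => ?_⟩
  rw [congr_trans_aut]
  exact hβB ⟨_, ⟨b, hb, rfl⟩, rfl⟩

theorem card_map_congr {Q Q₁ : Subgroup Ω} (e : Q ≃* Q₁) (B : Subgroup (MulAut Q)) :
    Nat.card ↥(B.map (MulAut.congr e).toMonoidHom) = Nat.card B :=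
  Subgroup.card_map_of_injective (MulAut.congr e).injective

/-- Key estimate: for `Q` fully `K`-normalized, `p`-subgroups of `Aut_F^K(Q)` are at most as large as `Aut_S^K(Q)`. -/
theorem fullyKNormalized_card_le (hS : IsPGroup p S) (F : FusionSystem S) (hF : F.IsSaturated p) {Q : Subgroup Ω}
    {K : Subgroup (MulAut Q)} (hQ : FullyKNormalized F Q K) (B : Subgroup (MulAut Q))
    (hBF : B ≤ F.autGroup Q ⊓ K) (hB : IsPGroup p B) :
    Nat.card B ≤ Nat.card ↥(autInducedBy S Q ⊓ K) := by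
  obtain ⟨Q₁, e, he, hFN, hconj⟩ := exists_iso_conj_into hS F hF hQ.1 B (hBF.trans inf_le_left) hB
  have hfinQ : Finite Q := finite_of_le hQ.1
  have hfinQ₁ : Finite Q₁ := finite_of_le hFN.1
  have h1 : B.map (MulAut.congr e).toMonoidHom ≤ autInducedBy S Q₁ ⊓ kmap e K := by
    rintro _ ⟨b, hb, rfl⟩
    exact ⟨hconj b hb, congr_mem_kmap e (hBF hb).2⟩
  have h2 : Nat.card B ≤ Nat.card ↥(autInducedBy S Q₁ ⊓ kmap e K) := by
    rw [← card_map_congr e B]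
    exact Subgroup.card_le_of_le h1
  have h3 := hQ.2 Q₁ e he
  rw [card_NK, card_NK] at h3
  have hFC := (saturated_fn hS F hF hFN).1
  have h4 : Nat.card (centralizerIn S Q) ≤ Nat.card (centralizerIn S Q₁) :=
    hFC.2 Q ((isConj_iff_exists_isFIso F).mpr ⟨e.symm, he.symm⟩)
  have hfinC : Finite ↥(centralizerIn S Q) := finite_of_le (centralizerIn_le S Q)
  have hpos : 0 < Nat.card (centralizerIn S Q) := Nat.card_pos
  refine h2.trans ?_
  have h5 : Nat.card (centralizerIn S Q) * Nat.card ↥(autInducedBy S Q₁ ⊓ kmap e K) ≤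
      Nat.card (centralizerIn S Q) * Nat.card ↥(autInducedBy S Q ⊓ K) :=
    (Nat.mul_le_mul_right _ h4).trans h3
  exact Nat.le_of_mul_le_mul_left h5 hpos

/-- AKO I.5.2(a), the Sylow part. -/
theorem fullyKNormalized_sylow (hS : IsPGroup p S) (F : FusionSystem S) (hF : F.IsSaturated p) {Q : Subgroup Ω}
    {K : Subgroup (MulAut Q)} (hQ : FullyKNormalized F Q K) :
    ∃ R : Sylow p ↥(F.autGroup Q ⊓ K),
      (R : Subgroup ↥(F.autGroup Q ⊓ K)) = (autInducedBy S Q ⊓ K).subgroupOf (F.autGroup Q ⊓ K) := by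
  have hfinQ : Finite Q := finite_of_le hQ.1
  have hle : autInducedBy S Q ⊓ K ≤ F.autGroup Q ⊓ K :=
    inf_le_inf_right _ (autInducedBy_le_autGroup F hQ.1)
  rw [sylowIn_iff_card hle]
  exact ⟨(autInducedBy_isPGroup hS Q).to_le inf_le_left,
    fun B hBH hB => fullyKNormalized_card_le hS F hF hQ B hBH hB⟩

/-- AKO I.5.2(a), the centralizer part. -/
theorem fullyKNormalized_fullyCentralized (hS : IsPGroup p S) (F : FusionSystem S) (hF : F.IsSaturated p)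
    {Q : Subgroup Ω} {K : Subgroup (MulAut Q)} (hQ : FullyKNormalized F Q K) : F.IsFullyCentralized Q := by
  have hfinQ : Finite Q := finite_of_le hQ.1
  have hBF : autInducedBy S Q ⊓ K ≤ F.autGroup Q := inf_le_left.trans (autInducedBy_le_autGroup F hQ.1)
  have hB : IsPGroup p ↥(autInducedBy S Q ⊓ K) := (autInducedBy_isPGroup hS Q).to_le inf_le_left
  obtain ⟨Q₁, e, he, hFN, hconj⟩ := exists_iso_conj_into hS F hF hQ.1 _ hBF hB
  have hfinQ₁ : Finite Q₁ := finite_of_le hFN.1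
  have h1 : (autInducedBy S Q ⊓ K).map (MulAut.congr e).toMonoidHom ≤ autInducedBy S Q₁ ⊓ kmap e K := by
    rintro _ ⟨b, hb, rfl⟩
    exact ⟨hconj b hb, congr_mem_kmap e hb.2⟩
  have h2 : Nat.card ↥(autInducedBy S Q ⊓ K) ≤ Nat.card ↥(autInducedBy S Q₁ ⊓ kmap e K) := by
    rw [← card_map_congr e (autInducedBy S Q ⊓ K)]
    exact Subgroup.card_le_of_le h1
  have h3 := hQ.2 Q₁ e he
  rw [card_NK, card_NK] at h3
  have hpos : 0 < Nat.card ↥(autInducedBy S Q₁ ⊓ kmap e K) := Nat.card_pos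
  have h5 : Nat.card (centralizerIn S Q₁) * Nat.card ↥(autInducedBy S Q₁ ⊓ kmap e K) ≤
      Nat.card (centralizerIn S Q) * Nat.card ↥(autInducedBy S Q₁ ⊓ kmap e K) :=
    h3.trans (Nat.mul_le_mul_left _ h2)
  have h6 : Nat.card (centralizerIn S Q₁) ≤ Nat.card (centralizerIn S Q) :=
    Nat.le_of_mul_le_mul_right h5 hpos
  have hFC := (saturated_fn hS F hF hFN).1
  refine ⟨hQ.1, fun Q'' hQQ'' => ?_⟩
  have hQ₁Q'' : F.IsConj Q₁ Q'' :=
    isConj_trans F ((isConj_iff_exists_isFIso F).mpr ⟨e.symm, he.symm⟩) hQQ''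
  exact (hFC.2 Q'' hQ₁Q'').trans h6

theorem congr_mem_of_mem_kmap_symm {Q Q' : Subgroup Ω} (θ : Q' ≃* Q) {K : Subgroup (MulAut Q)} {γ : MulAut Q'}
    (hγ : γ ∈ kmap θ.symm K) : MulAut.congr θ γ ∈ K := by
  have h := mem_kmap.mp hγ
  have e : (MulAut.congr θ.symm).symm γ = MulAut.congr θ γ := by
    ext y
    rfl
  rw [← e]
  exact h

/-- AKO I.5.2(b). -/
theorem exists_ext_of_fullyKNormalized (hS : IsPGroup p S) (F : FusionSystem S) (hF : F.IsSaturated p)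
    {Q : Subgroup Ω} {K : Subgroup (MulAut Q)} (hQ : FullyKNormalized F Q K) {Q' : Subgroup Ω} (θ : Q' ≃* Q)
    (hθ : IsFIso F θ) :
    ∃ χ ∈ F.autGroup Q' ⊓ kmap θ.symm K, ∃ θ' ∈ F.Hom (NK S Q' (kmap θ.symm K) ⊔ Q'),
      ∀ q : Q', θ' (Subgroup.inclusion le_sup_right q) = θ (χ q) := by
  have hfinQ : Finite Q := finite_of_le hQ.1
  have hQ'S : Q' ≤ S := hθ.le_left
  have hFC := fullyKNormalized_fullyCentralized hS F hF hQ
  have hRec := saturated_fc hS F hF hFC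
  have hSyl := fullyKNormalized_sylow hS F hF hQ
  have hV : (autInducedBy S Q' ⊓ kmap θ.symm K).map (MulAut.congr θ).toMonoidHom ≤ F.autGroup Q ⊓ K := by
    rintro _ ⟨γ, hγ, rfl⟩
    exact ⟨congr_mem_autGroup F hθ (autInducedBy_le_autGroup F hQ'S hγ.1), congr_mem_of_mem_kmap_symm θ hγ.2⟩
  have hVp : IsPGroup p ↥((autInducedBy S Q' ⊓ kmap θ.symm K).map (MulAut.congr θ).toMonoidHom) :=
    ((autInducedBy_isPGroup hS Q').to_le inf_le_left).map _
  obtain ⟨β, hβ, hβV⟩ := exists_conj_le_of_sylowIn hSyl hV hVp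
  have he₂ : IsFIso F (θ.trans (β : Q ≃* Q)) := hθ.trans ((mem_autGroup_iff_isFIso F hQ.1 β).mp hβ.1)
  refine ⟨MulAut.congr θ.symm β, ⟨congr_mem_autGroup F hθ.symm hβ.1, congr_mem_kmap θ.symm hβ.2⟩, ?_⟩
  have hle : NK S Q' (kmap θ.symm K) ⊔ Q' ≤ extender S Q' (equivHom (θ.trans (β : Q ≃* Q))) := by
    apply sup_le
    · intro x hx
      have hxN : x ∈ Subgroup.normalizer (Q' : Set Ω) := mem_normalizer_of_mem_actSubgroup hx.2
      have hcx : Q'.normalizerMonoidHom ⟨x, hxN⟩ ∈ autInducedBy S Q' ⊓ kmap θ.symm K :=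
        ⟨normalizerMonoidHom_mem_autInducedBy hx.1 hxN, normalizerMonoidHom_mem_of_mem_NK hx hxN⟩
      have h1 : β * MulAut.congr θ (Q'.normalizerMonoidHom ⟨x, hxN⟩) * β⁻¹ ∈ autInducedBy S Q ⊓ K :=
        hβV ⟨_, ⟨_, hcx, rfl⟩, rfl⟩
      obtain ⟨h, hhS, hh⟩ := (mem_autInducedBy_iff S Q _).mp h1.1
      rw [mem_extender_iff]
      refine ⟨hx.1, hxN, h, hhS, fun t ht => ?_⟩
      have h2 := hh (β (θ t))
      show ((β (θ ⟨x * t * x⁻¹, ht⟩) : Q) : Ω) = h * ((β (θ t) : Q) : Ω) * h⁻¹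
      rw [← h2]
      simp only [MulAut.mul_apply, MulAut.inv_apply_self]
      rw [congr_apply, MulEquiv.symm_apply_apply]
      rfl
    · exact le_extender hQ'S _ (hom_apply_mem F he₂)
  obtain ⟨ψ, hψ, hψe⟩ := hRec.2 Q' _ he₂ (equivHom_range _)
  refine ⟨ψ.comp (Subgroup.inclusion hle), inclusion_comp_mem F hle hψ, fun q => ?_⟩
  have := hψe q q.2 (hle (Subgroup.mem_sup_right q.2))
  show ψ (Subgroup.inclusion hle (Subgroup.inclusion le_sup_right q)) = _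
  rw [show (Subgroup.inclusion hle (Subgroup.inclusion le_sup_right q)) =
    ⟨(q : Ω), hle (Subgroup.mem_sup_right q.2)⟩ from rfl, this]
  show ((β (θ q) : Q) : Ω) = θ (MulAut.congr θ.symm β q)
  rw [congr_apply]
  simp

end PropA

end Cfsg.Agent.Lib.Helper26
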