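import Cfsg.Agent.Lib.Helper26.FSKNorm
import Cfsg.Agent.Lib.Helper26.FSNormalizer

/-!
`K`-normalizer systems: the groups `K_P` and the restriction map (towards AKO I.5.5).
-/

set_option autoImplicit false

namespace Cfsg.Agent.Lib.Helper26

open Cfsg Cfsg.FusionSystem

variable {Ω : Type*} [Group Ω] {S : Subgroup Ω}

/-- The maps of the `K`-normalizer system `N_F^K(Q)` with source `P`. -/
def KHom (F : FusionSystem S) (Q : Subgroup Ω) (K : Subgroup (MulAut Q)) (P : Subgroup Ω) (φ : P →* Ω) : Prop :=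
  φ ∈ F.Hom P ∧ P ≤ NK S Q K ∧ (∀ x : P, φ x ∈ NK S Q K) ∧
    ∃ ψ ∈ F.Hom (P ⊔ Q), (∀ x : P, ψ (Subgroup.inclusion le_sup_left x) = φ x) ∧
      ∃ k ∈ K, ∀ q : Q, ψ (Subgroup.inclusion le_sup_right q) = k q

/-- A bijection of a finite set mapping a subset into itself maps it onto itself. -/
theorem mem_iff_apply_mem_of_finite {X : Type*} [Finite X] (α : X ≃ X) (s : Set X) (h : ∀ x ∈ s, α x ∈ s) (x : X) :
    x ∈ s ↔ α x ∈ s := by
  refine ⟨h x, fun hx => ?_⟩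
  have hfin : Finite s := Subtype.finite
  let f : s → s := fun y => ⟨α y, h y y.2⟩
  have hinj : Function.Injective f := by
    intro a b hab
    apply Subtype.ext
    exact α.injective (congrArg Subtype.val hab)
  have hsurj : Function.Surjective f := Finite.surjective_of_injective hinj
  obtain ⟨y, hy⟩ := hsurj ⟨α x, hx⟩
  have : α y = α x := congrArg Subtype.val hy
  rw [← α.injective this]
  exact y.2

/-- The group `K_P` of automorphisms of `PQ` stabilizing `P` and inducing an element of `K` on `Q`. -/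
def KP (Q : Subgroup Ω) (K : Subgroup (MulAut Q)) (P : Subgroup Ω) : Subgroup (MulAut ↥(P ⊔ Q)) where
  carrier := {α | (∀ x : ↥(P ⊔ Q), (x : Ω) ∈ P ↔ ((α x : ↥(P ⊔ Q)) : Ω) ∈ P) ∧
    ∃ k ∈ K, ∀ q : Q, ((α (Subgroup.inclusion le_sup_right q) : ↥(P ⊔ Q)) : Ω) = k q}
  one_mem' := ⟨fun _ => Iff.rfl, 1, K.one_mem, fun _ => rfl⟩
  mul_mem' := by
    rintro α β ⟨hα, k, hk, hαk⟩ ⟨hβ, l, hl, hβl⟩
    refine ⟨fun x => (hβ x).trans (hα (β x)), k * l, K.mul_mem hk hl, fun q => ?_⟩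
    show ((α (β (Subgroup.inclusion le_sup_right q)) : ↥(P ⊔ Q)) : Ω) = k (l q)
    have e : β (Subgroup.inclusion le_sup_right q) = Subgroup.inclusion le_sup_right (l q) :=
      Subtype.ext (hβl q)
    rw [e, hαk]
  inv_mem' := by
    rintro α ⟨hα, k, hk, hαk⟩
    refine ⟨fun x => ?_, k⁻¹, K.inv_mem hk, fun q => ?_⟩
    · have := hα (α⁻¹ x)
      rw [MulAut.apply_inv_self] at this
      exact this.symm
    · have h1 := hαk (k⁻¹ q)
      rw [MulAut.apply_inv_self] at h1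
      have e : α (Subgroup.inclusion le_sup_right (k⁻¹ q)) = Subgroup.inclusion le_sup_right q :=
        Subtype.ext h1
      have e2 : α⁻¹ (Subgroup.inclusion le_sup_right q) = Subgroup.inclusion le_sup_right (k⁻¹ q) := by
        rw [← e, MulAut.inv_apply_self]
      rw [e2]
      rfl

theorem mem_KP {Q : Subgroup Ω} {K : Subgroup (MulAut Q)} {P : Subgroup Ω} {α : MulAut ↥(P ⊔ Q)} :
    α ∈ KP Q K P ↔ (∀ x : ↥(P ⊔ Q), (x : Ω) ∈ P ↔ ((α x : ↥(P ⊔ Q)) : Ω) ∈ P) ∧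
      ∃ k ∈ K, ∀ q : Q, ((α (Subgroup.inclusion le_sup_right q) : ↥(P ⊔ Q)) : Ω) = k q := Iff.rfl

/-- Restriction to `P` of an automorphism of `PQ` stabilizing `P`. -/
def resP {Q P : Subgroup Ω} (α : MulAut ↥(P ⊔ Q))
    (hα : ∀ x : ↥(P ⊔ Q), (x : Ω) ∈ P ↔ ((α x : ↥(P ⊔ Q)) : Ω) ∈ P) : MulAut P where
  toFun x := ⟨α (Subgroup.inclusion le_sup_left x), (hα _).mp x.2⟩
  invFun x := ⟨α⁻¹ (Subgroup.inclusion le_sup_left x), by
    have := hα (α⁻¹ (Subgroup.inclusion le_sup_left x))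
    rw [MulAut.apply_inv_self] at this
    exact this.mpr x.2⟩
  left_inv x := by
    apply Subtype.ext
    show ((α⁻¹ (Subgroup.inclusion le_sup_left
      (⟨α (Subgroup.inclusion le_sup_left x), (hα _).mp x.2⟩ : P)) : ↥(P ⊔ Q)) : Ω) = x
    have e : Subgroup.inclusion (le_sup_left : P ≤ P ⊔ Q)
        (⟨α (Subgroup.inclusion le_sup_left x), (hα _).mp x.2⟩ : P) = α (Subgroup.inclusion le_sup_left x) :=
      Subtype.ext rfl
    rw [e, MulAut.inv_apply_self]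
    rfl
  right_inv x := by
    apply Subtype.ext
    show ((α (Subgroup.inclusion le_sup_left
      (⟨α⁻¹ (Subgroup.inclusion le_sup_left x), _⟩ : P)) : ↥(P ⊔ Q)) : Ω) = x
    have e : ∀ h, Subgroup.inclusion (le_sup_left : P ≤ P ⊔ Q)
        (⟨α⁻¹ (Subgroup.inclusion le_sup_left x), h⟩ : P) = α⁻¹ (Subgroup.inclusion le_sup_left x) :=
      fun h => Subtype.ext rfl
    rw [e, MulAut.apply_inv_self]
    rfl
  map_mul' x y := by
    apply Subtype.ext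
    show ((α (Subgroup.inclusion le_sup_left (x * y)) : ↥(P ⊔ Q)) : Ω) = _
    rw [map_mul, map_mul]
    rfl

theorem resP_apply {Q P : Subgroup Ω} (α : MulAut ↥(P ⊔ Q))
    (hα : ∀ x : ↥(P ⊔ Q), (x : Ω) ∈ P ↔ ((α x : ↥(P ⊔ Q)) : Ω) ∈ P) (x : P) :
    ((resP α hα x : P) : Ω) = ((α (Subgroup.inclusion le_sup_left x) : ↥(P ⊔ Q)) : Ω) := rfl

/-- The restriction homomorphism `K_P → Aut(P)`. -/
def resHomP (Q : Subgroup Ω) (K : Subgroup (MulAut Q)) (P : Subgroup Ω) : ↥(KP Q K P) →* MulAut P where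
  toFun α := resP (α : MulAut ↥(P ⊔ Q)) α.2.1
  map_one' := by
    ext x
    rfl
  map_mul' α β := by
    ext x
    show (((α : MulAut ↥(P ⊔ Q)) ((β : MulAut ↥(P ⊔ Q)) (Subgroup.inclusion le_sup_left x)) : ↥(P ⊔ Q)) : Ω) =
      (((α : MulAut ↥(P ⊔ Q)) (Subgroup.inclusion le_sup_left
        (resP (β : MulAut ↥(P ⊔ Q)) β.2.1 x)) : ↥(P ⊔ Q)) : Ω)
    congr 2

theorem resHomP_apply {Q : Subgroup Ω} {K : Subgroup (MulAut Q)} {P : Subgroup Ω} (α : ↥(KP Q K P)) (x : P) :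
    ((resHomP Q K P α x : P) : Ω) = (((α : MulAut ↥(P ⊔ Q)) (Subgroup.inclusion le_sup_left x) : ↥(P ⊔ Q)) : Ω) :=
  rfl

/-- Elements normalizing `P` and `Q` normalize `PQ`. -/
theorem mem_normalizer_sup {P Q : Subgroup Ω} {x : Ω} (hP : x ∈ Subgroup.normalizer (P : Set Ω))
    (hQ : x ∈ Subgroup.normalizer (Q : Set Ω)) : x ∈ Subgroup.normalizer ((P ⊔ Q : Subgroup Ω) : Set Ω) := by
  have key : ∀ y : Ω, y ∈ Subgroup.normalizer (P : Set Ω) → y ∈ Subgroup.normalizer (Q : Set Ω) →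
      ∀ z ∈ P ⊔ Q, y * z * y⁻¹ ∈ P ⊔ Q := by
    intro y hyP hyQ z hz
    have hle : P ⊔ Q ≤ (P ⊔ Q).comap (MulAut.conj y).toMonoidHom := by
      apply sup_le
      · intro w hw
        exact Subgroup.mem_sup_left ((Subgroup.mem_normalizer_iff.mp hyP w).mp hw)
      · intro w hw
        exact Subgroup.mem_sup_right ((Subgroup.mem_normalizer_iff.mp hyQ w).mp hw)
    exact hle hz
  apply mem_normalizer_of_conj_mem (key x hP hQ)
  intro z hz
  have := key x⁻¹ (Subgroup.inv_mem _ hP) (Subgroup.inv_mem _ hQ) z hz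
  rwa [inv_inv] at this

/-- (B1) `N_{N_S^K(Q)}(P) = N_S^{K_P}(PQ)`. -/
theorem NK_KP_eq (Q : Subgroup Ω) (K : Subgroup (MulAut Q)) (P : Subgroup Ω) :
    NK S (P ⊔ Q) (KP Q K P) = normalizerIn (NK S Q K) P := by
  ext x
  constructor
  · rintro ⟨hxS, α, ⟨hαP, k, hk, hαk⟩, hαx⟩
    refine ⟨⟨hxS, k, hk, fun q => ?_⟩, ?_⟩
    · rw [← hαk q, hαx]
      rfl
    · apply mem_normalizer_of_conj_mem
      · intro y hy
        have := (hαP ⟨y, Subgroup.mem_sup_left hy⟩).mp hy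
        rw [hαx] at this
        exact this
      · intro y hy
        have h1 := hαx (α⁻¹ ⟨y, Subgroup.mem_sup_left hy⟩)
        rw [MulAut.apply_inv_self] at h1
        have h2 := (hαP (α⁻¹ ⟨y, Subgroup.mem_sup_left hy⟩)).mpr (by rw [MulAut.apply_inv_self]; exact hy)
        have h3 : x⁻¹ * y * x = ((α⁻¹ ⟨y, Subgroup.mem_sup_left hy⟩ : ↥(P ⊔ Q)) : Ω) := by
          have h4 : (y : Ω) = x * ((α⁻¹ ⟨y, Subgroup.mem_sup_left hy⟩ : ↥(P ⊔ Q)) : Ω) * x⁻¹ := h1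
          calc x⁻¹ * y * x = x⁻¹ * (x * ((α⁻¹ ⟨y, Subgroup.mem_sup_left hy⟩ : ↥(P ⊔ Q)) : Ω) * x⁻¹) * x := by
                rw [← h4]
            _ = _ := by group
        rw [h3]
        exact h2
  · rintro ⟨⟨hxS, k, hk, hkx⟩, hxP⟩
    have hxQ : x ∈ Subgroup.normalizer (Q : Set Ω) := mem_normalizer_of_mem_actSubgroup ⟨k, hk, hkx⟩
    have hxPQ := mem_normalizer_sup hxP hxQ
    refine ⟨hxS, (P ⊔ Q).normalizerMonoidHom ⟨x, hxPQ⟩, ⟨fun y => ?_, k, hk, fun q => ?_⟩, fun t => rfl⟩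
    · exact Subgroup.mem_normalizer_iff.mp hxP y
    · rw [hkx q]
      rfl

end Cfsg.Agent.Lib.Helper26
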