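import Cfsg.Agent.Lib.Helper26.FSCyclicExt
import Cfsg.Agent.Lib.Helper26.FSFrobenius
import Cfsg.Agent.Lib.Helper26.FSFocal
import Cfsg.Agent.Lib.Helper26.FSHyperfocal
import Cfsg.Agent.Lib.Helper26.FSEssential

/-!
S5245: a saturated fusion system all of whose proper saturated subsystems are inner.
-/

set_option autoImplicit false

namespace Cfsg.Agent.Lib.Helper26

open Cfsg Cfsg.FusionSystem

variable {Ω : Type*} [Group Ω] {S : Subgroup Ω}

theorem cycSystem_saturated {P : Subgroup Ω} [Finite P] {p : ℕ} [Fact p.Prime] (hP : IsPGroup p P)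
    (γ : MulAut P) (hcop : ¬ p ∣ orderOf γ) : (cycSystem γ).IsSaturated p := by
  have hinj : Function.Injective (SemidirectProduct.inl : P →* CycExt γ) :=
    SemidirectProduct.inl_injective
  have hfinG : Finite (CycExt γ) := Finite.of_equiv _ SemidirectProduct.equivProd.symm
  have hpr : IsPGroup p (SemidirectProduct.inl : P →* CycExt γ).range :=
    hP.of_equiv (MonoidHom.ofInjective hinj)
  have hcard : Nat.card (SemidirectProduct.inl : P →* CycExt γ).range = Nat.card P :=
    (Nat.card_congr (MonoidHom.ofInjective hinj).toEquiv).symm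
  have hidx : (SemidirectProduct.inl : P →* CycExt γ).range.index = orderOf γ := by
    have h1 := Subgroup.card_mul_index (SemidirectProduct.inl : P →* CycExt γ).range
    rw [SemidirectProduct.card, hcard, Nat.card_zpowers] at h1
    exact Nat.eq_of_mul_eq_mul_left Nat.card_pos h1
  have hnd : ¬ p ∣ (SemidirectProduct.inl : P →* CycExt γ).range.index := by rw [hidx]; exact hcop
  exact realizedSystem_saturated p _ hinj (hpr.toSylow hnd) rfl

theorem cycSystem_isSubsystemOf (F : FusionSystem S) {P : Subgroup Ω} (hPS : P ≤ S) (γ : MulAut P)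
    (hγ : γ ∈ F.autGroup P) : (cycSystem γ).IsSubsystemOf F := by
  intro R φ hφ
  obtain ⟨hR, s, a, ha, h⟩ := (mem_cycSystem_iff γ R φ).mp hφ
  have haF : a ∈ F.autGroup P := (Subgroup.zpowers_le.mpr hγ) ha
  have h1 : P.subtype.comp a.toMonoidHom ∈ F.Hom P := (mem_autGroup_iff F hPS a).mp haF
  have h2 := inclusion_comp_mem F hR h1
  have h3 : conjHom P (s : Ω) ∈ F.Hom P := F.conj_mem hPS (hPS s.2)
  have hval : ∀ x : R, ((P.subtype.comp a.toMonoidHom).comp (Subgroup.inclusion hR)) x ∈ P :=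
    fun x => (a _).2
  have h4 := F.comp_mem h2 h3 hval
  have : (conjHom P (s : Ω)).comp
      (((P.subtype.comp a.toMonoidHom).comp (Subgroup.inclusion hR)).codRestrict P hval) = φ := by
    ext x
    rw [h x]
    rfl
  rw [← this]
  exact h4

theorem subtype_comp_mem_cycSystem {P : Subgroup Ω} (γ : MulAut P) :
    P.subtype.comp γ.toMonoidHom ∈ (cycSystem γ).Hom P := by
  rw [mem_cycSystem_iff]
  refine ⟨le_rfl, 1, γ, Subgroup.mem_zpowers γ, fun x => ?_⟩
  simp

/-- **Key lemma**: a nontrivial `p'`-automorphism in `Aut_F(P)` forces `P = S` and `F = F_P(P ⋊ ⟨γ⟩)`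
when all proper saturated subsystems are inner. -/
theorem eq_of_coprime_aut [Finite S] {p : ℕ} [Fact p.Prime] (hS : IsPGroup p S) (F : FusionSystem S)
    (hmin : ∀ (T : Subgroup Ω) (E : FusionSystem T), E.IsSaturated p → E.IsSubsystemOf F →
      (T = S ∧ ∀ P : Subgroup Ω, E.Hom P = F.Hom P) ∨
        (∀ P : Subgroup Ω, E.Hom P = (innerFusionSystem T).Hom P))
    {P : Subgroup Ω} (hPS : P ≤ S) (γ : MulAut P) (hγ : γ ∈ F.autGroup P) (hcop : ¬ p ∣ orderOf γ)
    (hγ1 : γ ≠ 1) : P = S ∧ ∀ R : Subgroup Ω, (cycSystem γ).Hom R = F.Hom R := by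
  have hfinP : Finite P := finite_of_le hPS
  have hPp : IsPGroup p P := hS.to_le hPS
  rcases hmin P (cycSystem γ) (cycSystem_saturated hPp γ hcop) (cycSystem_isSubsystemOf F hPS γ hγ)
    with h | h
  · exact h
  · exfalso
    have h1 := subtype_comp_mem_cycSystem γ
    rw [h P] at h1
    obtain ⟨-, g, hg, hgx⟩ := h1
    have hconj : γ = MulAut.conj (⟨g, hg⟩ : P) := by
      ext x
      exact hgx x
    obtain ⟨k, hk⟩ := hPp ⟨g, hg⟩
    have hpow : γ ^ (p ^ k) = 1 := by
      rw [hconj, ← map_pow, hk, map_one]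
    have hdvd : orderOf γ ∣ p ^ k := orderOf_dvd_of_pow_eq_one hpow
    obtain ⟨j, -, hj⟩ := (Nat.dvd_prime_pow Fact.out).mp hdvd
    rcases Nat.eq_zero_or_pos j with rfl | hjpos
    · rw [pow_zero, orderOf_eq_one_iff] at hj
      exact hγ1 hj
    · apply hcop
      rw [hj]
      exact dvd_pow_self p hjpos.ne'

/-- restriction of an automorphism of `S` to an invariant subgroup `H ≤ S` of the ambient group -/
def autResSub (γ : MulAut S) (H : Subgroup Ω) (hHS : H ≤ S)
    (h : ∀ x : S, (x : Ω) ∈ H ↔ ((γ x : S) : Ω) ∈ H) : MulAut H where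
  toFun y := ⟨γ ⟨y, hHS y.2⟩, (h _).mp y.2⟩
  invFun y := ⟨γ.symm ⟨y, hHS y.2⟩, (h _).mpr (by rw [MulEquiv.apply_symm_apply]; exact y.2)⟩
  left_inv y := Subtype.ext (by simp)
  right_inv y := Subtype.ext (by simp)
  map_mul' x y := by
    apply Subtype.ext
    have : (⟨((x * y : H) : Ω), hHS (x * y).2⟩ : S) = ⟨x, hHS x.2⟩ * ⟨y, hHS y.2⟩ := rfl
    show ((γ ⟨((x * y : H) : Ω), hHS (x * y).2⟩ : S) : Ω) = _
    rw [this, map_mul]
    rfl

theorem autResSub_pow_apply (γ : MulAut S) (H : Subgroup Ω) (hHS : H ≤ S)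
    (h : ∀ x : S, (x : Ω) ∈ H ↔ ((γ x : S) : Ω) ∈ H) (k : ℕ) (y : H) :
    ((((autResSub γ H hHS h) ^ k) y : H) : Ω) = ((γ ^ k) ⟨y, hHS y.2⟩ : S) := by
  induction k generalizing y with
  | zero => simp
  | succ k ih =>
    rw [pow_succ, pow_succ, MulAut.mul_apply, MulAut.mul_apply, ih]
    rfl

theorem autResSub_mem (F : FusionSystem S) (γ : MulAut S) (hγ : γ ∈ F.autGroup S) (H : Subgroup Ω)
    (hHS : H ≤ S) (h : ∀ x : S, (x : Ω) ∈ H ↔ ((γ x : S) : Ω) ∈ H) :
    autResSub γ H hHS h ∈ F.autGroup H := by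
  rw [mem_autGroup_iff F hHS]
  have h1 : S.subtype.comp γ.toMonoidHom ∈ F.Hom S := (mem_autGroup_iff F le_rfl γ).mp hγ
  have h2 := inclusion_comp_mem F hHS h1
  have : (S.subtype.comp γ.toMonoidHom).comp (Subgroup.inclusion hHS) =
      H.subtype.comp (autResSub γ H hHS h).toMonoidHom := by
    ext y
    rfl
  rw [← this]
  exact h2

theorem hyperfocal_le_focal (F : FusionSystem S) (p : ℕ) : F.hyperfocalSubgroup p ≤ F.focalSubgroup := by
  unfold FusionSystem.hyperfocalSubgroup
  rw [Subgroup.closure_le]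
  rintro y ⟨P, α, x, hP, -, rfl⟩
  have h1 : P.subtype.comp (α : MulAut P).toMonoidHom ∈ F.Hom P :=
    (mem_autGroup_iff F hP α).mp α.2
  exact mem_focal_of F h1 x

theorem focal_le (F : FusionSystem S) : F.focalSubgroup ≤ S := by
  unfold FusionSystem.focalSubgroup
  rw [Subgroup.closure_le]
  rintro y ⟨P, φ, x, hφ, rfl⟩
  exact S.mul_mem (S.inv_mem (hom_le F hφ x.2)) (hom_apply_mem F hφ x)

/-- A finite group that is not a `p`-group has an element of prime order `q ≠ p`. -/
theorem exists_prime_order_ne {A : Type*} [Group A] [Finite A] {p : ℕ} [Fact p.Prime]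
    (h : ¬ IsPGroup p A) : ∃ (q : ℕ) (x : A), q.Prime ∧ q ≠ p ∧ orderOf x = q := by
  by_contra hcon
  push Not at hcon
  apply h
  have hall : ∀ {d : ℕ}, d.Prime → d ∣ Nat.card A → d = p := by
    intro d hd hdvd
    by_contra hne
    have : Fact d.Prime := ⟨hd⟩
    obtain ⟨x, hx⟩ := exists_prime_orderOf_dvd_card' d hdvd
    exact hcon d x hd hne hx
  have := Nat.eq_prime_pow_of_unique_prime_dvd (Nat.card_pos (α := A)).ne' hall
  exact IsPGroup.of_card this

/-- the action of `γ^k` when `γ` fixes `x⁻¹ γ(x)` -/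
theorem aut_pow_apply_of_fix {R : Type*} [Group R] (γ : MulAut R) (x h : R) (hx : γ x = x * h)
    (hh : γ h = h) (k : ℕ) : (γ ^ k) x = x * h ^ k := by
  induction k with
  | zero => simp
  | succ k ih =>
    rw [pow_succ', MulAut.mul_apply, ih, map_mul, map_pow, hx, hh, pow_succ', mul_assoc]

/-- **S5245.** -/
theorem minimal_nonInner [Finite S] {p : ℕ} [Fact p.Prime] (hS : IsPGroup p S) (F : FusionSystem S)
    (hF : F.IsSaturated p)
    (hxs : ¬ (∀ P : Subgroup Ω, F.Hom P = (innerFusionSystem S).Hom P) ∧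
      ∀ (T : Subgroup Ω) (E : FusionSystem T), E.IsSaturated p → E.IsSubsystemOf F →
        (T = S ∧ ∀ P : Subgroup Ω, E.Hom P = F.Hom P) ∨
          (∀ P : Subgroup Ω, E.Hom P = (innerFusionSystem T).Hom P)) :
    F.IsNormal S ∧ F.focalSubgroup = S ∧ F.hyperfocalSubgroup p = S ∧
      ∃ (q : ℕ) (β : MulAut ↥S), q.Prime ∧ q ≠ p ∧ β ∈ F.autGroup S ∧ orderOf β = q ∧
        (F.autGroup S : Subgroup (MulAut ↥S)) = Cfsg.Inn ↥S ⊔ Subgroup.zpowers β := by
  obtain ⟨hni, hmin⟩ := hxs
  -- step 1: a subgroup whose automizer is not a p-group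
  have hex : ∃ P : Subgroup Ω, P ≤ S ∧ ¬ IsPGroup p (F.autGroup P) := by
    by_contra hcon
    push Not at hcon
    apply hni
    have := eq_inner_of_forall_isPGroup hS F hF hcon
    intro P
    rw [this]
  obtain ⟨P, hPS, hnp⟩ := hex
  have hfinP : Finite P := finite_of_le hPS
  obtain ⟨q, ⟨γ, hγ⟩, hq, hqp, hord⟩ := exists_prime_order_ne hnp
  have hord' : orderOf γ = q := by
    rw [← hord]
    exact (Subgroup.orderOf_mk γ hγ).symm
  have hpq : ¬ p ∣ q := fun hdvd => hqp ((Nat.prime_dvd_prime_iff_eq Fact.out hq).mp hdvd).symm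
  have hγ1 : γ ≠ 1 := by
    intro h1
    rw [h1, orderOf_one] at hord'
    exact hq.one_lt.ne hord'
  obtain ⟨hPeq, hHom⟩ := eq_of_coprime_aut hS F hmin hPS γ hγ (by rw [hord']; exact hpq) hγ1
  subst hPeq
  -- description of morphisms
  have hdesc : ∀ (R : Subgroup Ω) (φ : R →* Ω), φ ∈ F.Hom R →
      ∃ (hR : R ≤ P) (s : P) (a : MulAut P), a ∈ Subgroup.zpowers γ ∧
        ∀ x : R, φ x = ((s * a ⟨x, hR x.2⟩ * s⁻¹ : P) : Ω) := by
    intro R φ hφ
    rw [← hHom R] at hφ
    exact (mem_cycSystem_iff γ R φ).mp hφ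
  have hzle : Subgroup.zpowers γ ≤ F.autGroup P := Subgroup.zpowers_le.mpr hγ
  have hinn : Inn P ≤ F.autGroup P := inn_le_autGroup F le_rfl
  -- (a) normality
  have hnormal : F.IsNormal P := by
    refine ⟨le_rfl, fun R φ hφ => ?_⟩
    obtain ⟨hR, s, a, ha, h⟩ := hdesc R φ hφ
    have hαF : MulAut.conj s * a ∈ F.autGroup P :=
      Subgroup.mul_mem _ (hinn ⟨s, rfl⟩) (hzle ha)
    have h1 : P.subtype.comp (MulAut.conj s * a).toMonoidHom ∈ F.Hom P :=
      (mem_autGroup_iff F le_rfl _).mp hαF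
    have hle : R ⊔ P ≤ P := sup_le hR le_rfl
    refine ⟨_, inclusion_comp_mem F hle h1, fun x => ?_, ?_⟩
    · rw [h x]
      rfl
    · ext y
      constructor
      · rintro ⟨z, -, rfl⟩
        exact ((MulAut.conj s * a) _).2
      · intro hy
        refine ⟨⟨(((MulAut.conj s * a)⁻¹ ⟨y, hy⟩ : P) : Ω),
          (le_sup_right : P ≤ R ⊔ P) (((MulAut.conj s * a)⁻¹ ⟨y, hy⟩ : P)).2⟩, ?_, ?_⟩
        · show (((MulAut.conj s * a)⁻¹ ⟨y, hy⟩ : P) : Ω) ∈ P
          exact (((MulAut.conj s * a)⁻¹ ⟨y, hy⟩ : P)).2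
        · show (((MulAut.conj s * a) ((MulAut.conj s * a)⁻¹ ⟨y, hy⟩) : P) : Ω) = y
          exact congrArg Subtype.val (MulAut.apply_inv_self P (MulAut.conj s * a) ⟨y, hy⟩)
  -- (d) automorphism group
  have haut : (F.autGroup P : Subgroup (MulAut ↥P)) = Cfsg.Inn ↥P ⊔ Subgroup.zpowers γ := by
    apply le_antisymm
    · intro α hα
      have h1 : P.subtype.comp α.toMonoidHom ∈ F.Hom P := (mem_autGroup_iff F le_rfl α).mp hα
      obtain ⟨_hR, s, a, ha, h⟩ := hdesc P _ h1
      have : α = MulAut.conj s * a := by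
        ext x
        exact h x
      rw [this]
      exact Subgroup.mul_mem_sup ⟨s, rfl⟩ ha
    · exact sup_le hinn hzle
  -- (b) hyperfocal
  have hhyp : F.hyperfocalSubgroup p = P := by
    apply le_antisymm (hyperfocal_le F p)
    set H := F.hyperfocalSubgroup p with hH
    have hHS : H ≤ P := hyperfocal_le F p
    have hres : (⟨γ, hγ⟩ : F.autGroup P) ∈ pResidual p (F.autGroup P) := by
      apply Subgroup.subset_closure
      show Nat.Coprime (orderOf (⟨γ, hγ⟩ : F.autGroup P)) p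
      rw [Subgroup.orderOf_mk, hord']
      exact (Nat.coprime_primes hq Fact.out).mpr hqp
    have hmem : ∀ (k : ℕ) (x : P), (x : Ω)⁻¹ * ((γ ^ k) x : P) ∈ H := by
      intro k x
      have := mem_hyperfocal_of F p le_rfl ((⟨γ, hγ⟩ : F.autGroup P) ^ k)
        (Subgroup.pow_mem _ hres k) x
      exact this
    have hq1 : γ ^ q = 1 := by rw [← hord']; exact pow_orderOf_eq_one γ
    have hinv : ∀ x : P, (x : Ω) ∈ H ↔ ((γ x : P) : Ω) ∈ H := by
      intro x
      constructor
      · intro hx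
        have := H.mul_mem hx (hmem 1 x)
        simpa using this
      · intro hx
        have h1 := hmem (q - 1) (γ x)
        have h2 : (γ ^ (q - 1)) (γ x) = x := by
          have : (γ ^ (q - 1)) (γ x) = (γ ^ (q - 1) * γ) x := rfl
          rw [this, ← pow_succ, Nat.sub_add_cancel hq.one_le, hq1]
          rfl
        rw [h2] at h1
        have := H.mul_mem hx h1
        simpa using this
    set δ := autResSub γ H hHS hinv with hδ
    have hδF : δ ∈ F.autGroup H := autResSub_mem F γ hγ H hHS hinv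
    have hδq : δ ^ q = 1 := by
      ext y
      have := autResSub_pow_apply γ H hHS hinv q y
      rw [hq1] at this
      exact this
    by_cases hδ1 : δ = 1
    · -- γ fixes H pointwise, hence is trivial
      exfalso
      apply hγ1
      ext x
      have hfix : ∀ y : P, (y : Ω) ∈ H → γ y = y := by
        intro y hy
        have := autResSub_pow_apply γ H hHS hinv 1 ⟨y, hy⟩
        rw [← hδ, hδ1] at this
        simp only [MulAut.one_apply, pow_one] at this
        exact Subtype.ext this.symm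
      obtain ⟨h, hh⟩ : ∃ h : P, h = x⁻¹ * γ x := ⟨_, rfl⟩
      have hhH : (h : Ω) ∈ H := by
        rw [hh]
        have := hmem 1 x
        simpa using this
      have hγx : γ x = x * h := by rw [hh]; group
      have hpow := aut_pow_apply_of_fix γ x h hγx (hfix h hhH) q
      rw [hq1] at hpow
      have hhq : h ^ q = 1 := by
        have : x = x * h ^ q := hpow
        exact (mul_eq_left.mp this.symm)
      obtain ⟨k, hk⟩ := hS h
      have h1 : orderOf h ∣ q := orderOf_dvd_of_pow_eq_one hhq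
      have h2 : orderOf h ∣ p ^ k := orderOf_dvd_of_pow_eq_one hk
      have hcop : Nat.Coprime q (p ^ k) :=
        Nat.Coprime.pow_right k ((Nat.coprime_primes hq Fact.out).mpr hqp)
      have h3 : orderOf h = 1 := Nat.eq_one_of_dvd_coprimes hcop h1 h2
      rw [orderOf_eq_one_iff] at h3
      show ((γ x : P) : Ω) = x
      rw [hγx, h3, mul_one]
    · have hdvd : orderOf δ ∣ q := orderOf_dvd_of_pow_eq_one hδq
      have hordδ : orderOf δ = q := by
        rcases (Nat.dvd_prime hq).mp hdvd with h1 | h1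
        · exact absurd (orderOf_eq_one_iff.mp h1) hδ1
        · exact h1
      obtain ⟨hEq, -⟩ := eq_of_coprime_aut hS F hmin hHS δ hδF (by rw [hordδ]; exact hpq) hδ1
      exact hEq.ge
  refine ⟨hnormal, ?_, hhyp, q, γ, hq, hqp, hγ, hord', haut⟩
  apply le_antisymm (focal_le F)
  exact hhyp.ge.trans (hyperfocal_le_focal F p)

end Cfsg.Agent.Lib.Helper26
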