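import Cfsg.Agent.Lib.Helper26.GroupModelAut
import Cfsg.Prelude.Def_FusionSystem

/-!
S5105: rigidity of models.
-/

set_option autoImplicit false

namespace Cfsg.Agent.Lib.Helper26

open Cfsg Cfsg.FusionSystem

theorem model_aut_eq_conj {Ω : Type*} [Group Ω] {S : Subgroup Ω} (p : ℕ) [Fact p.Prime]
    (F : FusionSystem S) {G : Type*} [Group G] (ι : S →* G) (hG : F.IsModel p G ι) (ψ : G ≃* G)
    (hψ : ∀ x : S, ψ (ι x) = ι x) :
    ∃ z : S, z ∈ Subgroup.center S ∧ ∀ g : G, ψ g = ι z * g * (ι z)⁻¹ := by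
  obtain ⟨hfin, ⟨hinj, -⟩, ⟨T, hT⟩, hcent⟩ := hG
  have hψT : ∀ x ∈ (T : Subgroup G), ψ x = x := by
    intro x hx
    rw [hT] at hx
    obtain ⟨s, rfl⟩ := hx
    exact hψ s
  obtain ⟨z, hzT, hzcomm, hz⟩ := aut_eq_conj_of_fix_sylow p T hcent ψ hψT
  rw [hT] at hzT
  obtain ⟨z₀, rfl⟩ := hzT
  refine ⟨z₀, ?_, hz⟩
  rw [Subgroup.mem_center_iff]
  intro x
  apply hinj
  rw [map_mul, map_mul]
  have hx : ι x ∈ (T : Subgroup G) := by rw [hT]; exact ⟨x, rfl⟩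
  exact (hzcomm (ι x) hx).symm

end Cfsg.Agent.Lib.Helper26
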