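import Cfsg.Agent.Lib.Helper26.FSBasic

/-!
Morphisms of fusion systems: the kernel is strongly closed (S5131).
-/

set_option autoImplicit false

namespace Cfsg.Agent.Lib.Helper26

open Cfsg Cfsg.FusionSystem

variable {Ω : Type*} [Group Ω] {S : Subgroup Ω}

theorem ker_stronglyClosed (F : FusionSystem S) {Ω' : Type*} [Group Ω'] {S' : Subgroup Ω'}
    (F' : FusionSystem S') (α : S →* Ω') (hα : F.IsMorphism F' α) :
    F.StronglyClosed ((α.ker).map S.subtype) := by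
  refine ⟨Subgroup.map_subtype_le _, fun R hR φ hφ x => ?_⟩
  obtain ⟨φ', -, hP, hφS, hP', hind⟩ := hα.2 R φ hφ
  obtain ⟨y, hy, hyx⟩ := hR x.2
  have hker : α ⟨x, hP x.2⟩ = 1 := by
    have : (⟨x, hP x.2⟩ : S) = y := Subtype.ext hyx.symm
    rw [this]
    exact hy
  have h1 := hind x
  have h2 : (⟨α ⟨x, hP x.2⟩, hP' x⟩ : imageAlong α R) = 1 := Subtype.ext hker
  rw [h2, map_one] at h1
  exact ⟨⟨φ x, hφS x⟩, h1.symm, rfl⟩

end Cfsg.Agent.Lib.Helper26
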