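import Cfsg.Agent.Lib.Helper26.FSFrobenius
import Cfsg.Agent.Lib.Helper26.Stability

/-!
S5223: a focal-chain criterion for a saturated fusion system to be the inner system.
-/

set_option autoImplicit false

namespace Cfsg.Agent.Lib.Helper26

open Cfsg Cfsg.FusionSystem

variable {Ω : Type*} [Group Ω] {S : Subgroup Ω}

section CommSeries

variable {P : Type*} [Group P]

/-- The descending series `[P, A, ..., A]`. -/
def commSeries (A : Subgroup (MulAut P)) : ℕ → Subgroup P
  | 0 => ⊤
  | k + 1 => Subgroup.closure {y | ∃ x ∈ commSeries A k, ∃ β ∈ A, y = x⁻¹ * β x}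

theorem commSeries_invariant (A : Subgroup (MulAut P)) (k : ℕ) :
    ∀ α ∈ A, ∀ x ∈ commSeries A k, α x ∈ commSeries A k := by
  induction k with
  | zero => intro α _ x _; exact Subgroup.mem_top _
  | succ k ih =>
    intro α hα x hx
    have main : ∀ z ∈ Subgroup.closure {y | ∃ x ∈ commSeries A k, ∃ β ∈ A, y = x⁻¹ * β x},
        α z ∈ Subgroup.closure {y | ∃ x ∈ commSeries A k, ∃ β ∈ A, y = x⁻¹ * β x} := by
      intro z hz
      induction hz using Subgroup.closure_induction with
      | mem y hy =>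
        obtain ⟨x, hx, β, hβ, rfl⟩ := hy
        apply Subgroup.subset_closure
        refine ⟨α x, ih α hα x hx, α * β * α⁻¹, A.mul_mem (A.mul_mem hα hβ) (A.inv_mem hα), ?_⟩
        simp [MulAut.mul_apply]
      | one => rw [map_one]; exact Subgroup.one_mem _
      | mul a b _ _ ha hb => rw [map_mul]; exact Subgroup.mul_mem _ ha hb
      | inv a _ ha => rw [map_inv]; exact Subgroup.inv_mem _ ha
    exact main x hx

theorem commSeries_invariant_iff (A : Subgroup (MulAut P)) (k : ℕ) (α : MulAut P) (hα : α ∈ A) (x : P) :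
    x ∈ commSeries A k ↔ α x ∈ commSeries A k := by
  refine ⟨commSeries_invariant A k α hα x, fun h => ?_⟩
  have := commSeries_invariant A k α⁻¹ (A.inv_mem hα) _ h
  simpa using this

theorem commSeries_succ_le (A : Subgroup (MulAut P)) (k : ℕ) : commSeries A (k + 1) ≤ commSeries A k := by
  show Subgroup.closure _ ≤ _
  rw [Subgroup.closure_le]
  rintro _ ⟨x, hx, β, hβ, rfl⟩
  exact Subgroup.mul_mem _ (Subgroup.inv_mem _ hx) (commSeries_invariant A k β hβ x hx)

theorem commSeries_antitone (A : Subgroup (MulAut P)) : Antitone (commSeries A) :=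
  antitone_nat_of_succ_le (commSeries_succ_le A)

theorem mem_commSeries_succ (A : Subgroup (MulAut P)) (k : ℕ) {x : P} (hx : x ∈ commSeries A k) {β : MulAut P}
    (hβ : β ∈ A) : x⁻¹ * β x ∈ commSeries A (k + 1) :=
  Subgroup.subset_closure ⟨x, hx, β, hβ, rfl⟩

/-- If the series `[P, A, ..., A]` of a finite `p`-group reaches the trivial subgroup, `A` is a `p`-group. -/
theorem isPGroup_of_commSeries_eq_bot {p : ℕ} [Fact p.Prime] [Finite P] (hP : IsPGroup p P) (A : Subgroup (MulAut P))
    (n : ℕ) (hn : commSeries A n = ⊥) : IsPGroup p A := by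
  let T : ℕ → Subgroup P := fun i => commSeries A (n - i)
  have hTmono : Monotone T := fun i j hij => commSeries_antitone A (by omega)
  have hTfin : ∀ i, Finite (T i) := fun i => inferInstance
  have hTp : ∀ i, ∃ m, Nat.card (T i) = p ^ m := fun i => IsPGroup.iff_card.mp (hP.to_subgroup (T i))
  have hTn : T n = ⊤ := by
    show commSeries A (n - n) = ⊤
    rw [Nat.sub_self]
    rfl
  apply isPGroup_of_chainStab T hTmono hTfin hTp n hTn A
  · intro α hα
    refine ⟨fun i x => commSeries_invariant_iff A _ α hα x, fun i x hx => ?_⟩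
    show x⁻¹ * α x ∈ commSeries A (n - i)
    by_cases hi : i + 1 ≤ n
    · have e : n - i = (n - (i + 1)) + 1 := by omega
      rw [e]
      exact mem_commSeries_succ A _ hx hα
    · have e : n - i = 0 := by omega
      rw [e]
      exact Subgroup.mem_top _
  · intro α _
    refine ⟨0, fun x hx => ?_⟩
    have hx' : x ∈ commSeries A (n - 0) := hx
    rw [Nat.sub_zero, hn, Subgroup.mem_bot] at hx'
    rw [hx', map_one]

end CommSeries

/-- S5223. -/
theorem eq_inner_of_focal_chain [Finite S] {p : ℕ} [Fact p.Prime] (hS : IsPGroup p S) (F : FusionSystem S)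
    (hF : F.IsSaturated p) (n : ℕ) (Q : Fin (n + 1) → Subgroup Ω) (hQ0 : Q 0 = S) (hQn : Q (Fin.last n) = ⊥)
    (hstep : ∀ i : Fin n, Subgroup.closure {y : Ω | ∃ x ∈ Q i.castSucc, ∃ φ ∈ F.Hom (Subgroup.zpowers x),
      y = x⁻¹ * φ ⟨x, Subgroup.mem_zpowers x⟩} ≤ Q i.succ) :
    F = innerFusionSystem S := by
  apply eq_inner_of_forall_isPGroup hS F hF
  intro P hP
  have hfinP : Finite P := finite_of_le hP
  have hPp : IsPGroup p P := hS.to_le hP
  have key : ∀ k (hk : k ≤ n), ∀ x ∈ commSeries (F.autGroup P) k, (x : Ω) ∈ Q ⟨k, Nat.lt_succ_of_le hk⟩ := by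
    intro k
    induction k with
    | zero =>
      intro _ x _
      have : (⟨0, Nat.lt_succ_of_le (Nat.zero_le n)⟩ : Fin (n + 1)) = 0 := rfl
      rw [this, hQ0]
      exact hP x.2
    | succ k ih =>
      intro hk x hx
      have hle : commSeries (F.autGroup P) (k + 1) ≤ (Q ⟨k + 1, Nat.lt_succ_of_le hk⟩).subgroupOf P := by
        show Subgroup.closure _ ≤ _
        rw [Subgroup.closure_le]
        rintro _ ⟨x, hx, β, hβ, rfl⟩
        rw [SetLike.mem_coe, Subgroup.mem_subgroupOf]
        have hxQ := ih (by omega) x hx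
        have hz : Subgroup.zpowers (x : Ω) ≤ P := by
          rw [Subgroup.zpowers_le]; exact x.2
        have hφ := inclusion_comp_mem F hz ((mem_autGroup_iff F hP β).mp hβ)
        have := hstep ⟨k, by omega⟩
        apply this
        apply Subgroup.subset_closure
        exact ⟨x, hxQ, _, hφ, rfl⟩
      exact hle hx
  apply isPGroup_of_commSeries_eq_bot hPp (F.autGroup P) n
  rw [eq_bot_iff]
  intro x hx
  have := key n le_rfl x hx
  have e : (⟨n, Nat.lt_succ_of_le le_rfl⟩ : Fin (n + 1)) = Fin.last n := rfl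
  rw [e, hQn, Subgroup.mem_bot] at this
  rw [Subgroup.mem_bot]
  exact Subtype.ext this

end Cfsg.Agent.Lib.Helper26
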