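import Cfsg.Agent.Lib.Helper26.FSKNormSat
import Cfsg.Agent.Lib.Helper26.FSModel
import Cfsg.Agent.Lib.Helper26.FSNormalCrit

/-!
The normalizer system of a fully normalized centric radical subgroup is constrained, and `O_p` of any of its
models is the image of the subgroup (S5126).
-/

set_option autoImplicit false

namespace Cfsg.Agent.Lib.Helper26

open Cfsg Cfsg.FusionSystem

variable {Ω : Type*} [Group Ω] {S : Subgroup Ω}

/-- `R` is normal in its normalizer system. -/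
theorem isNormal_of_isNormalizerSystem (F : FusionSystem S) {R : Subgroup Ω} (hRS : R ≤ S)
    (E : FusionSystem (normalizerIn S R)) (hE : F.IsNormalizerSystem R E) : E.IsNormal R := by
  have hRN : R ≤ normalizerIn S R := le_normalizerIn hRS
  refine ⟨hRN, fun P φ hφ => ?_⟩
  have hφ' : φ ∈ F.normalizerHom R P := by rw [← hE P]; exact hφ
  obtain ⟨hφF, hPN, hφN, ψ, hψ, hψφ, hψR⟩ := hφ'
  refine ⟨ψ, ?_, hψφ, hψR⟩
  rw [hE (P ⊔ R)]
  have hle : (P ⊔ R) ⊔ R ≤ P ⊔ R := sup_le le_rfl le_sup_right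
  refine ⟨hψ, sup_le hPN hRN, fun x => ?_, ψ.comp (Subgroup.inclusion hle), inclusion_comp_mem F hle hψ,
    fun x => ?_, ?_⟩
  · have h1 := ext_apply_mem_sup φ ψ hψφ hψR x
    have h2 : φ.range ⊔ R ≤ normalizerIn S R := by
      apply sup_le
      · rintro _ ⟨y, rfl⟩
        exact hφN y
      · exact hRN
    exact h2 h1
  · show ψ _ = ψ x
    congr 1
  · obtain ⟨h1, h2⟩ := (map_subgroupOf_eq_iff ψ).mp hψR
    rw [map_subgroupOf_eq_iff]
    refine ⟨fun y hy => h1 _ hy, fun z hz => ?_⟩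
    obtain ⟨y, hy, hyz⟩ := h2 z hz
    exact ⟨⟨y, le_sup_left (a := P ⊔ R) (b := R) y.2⟩, hy, hyz⟩

/-- `Aut_{N_F(R)}(R) = Aut_F(R)`. -/
theorem autGroup_eq_of_isNormalizerSystem (F : FusionSystem S) {R : Subgroup Ω} (hRS : R ≤ S)
    (E : FusionSystem (normalizerIn S R)) (hE : F.IsNormalizerSystem R E) : E.autGroup R = F.autGroup R := by
  have hRN : R ≤ normalizerIn S R := le_normalizerIn hRS
  ext α
  rw [mem_autGroup_iff E hRN, mem_autGroup_iff F hRS, hE R]
  constructor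
  · intro h
    exact h.1
  · intro h
    have hle : R ⊔ R ≤ R := sup_le le_rfl le_rfl
    refine ⟨h, hRN, fun x => hRN (α x).2, (R.subtype.comp α.toMonoidHom).comp (Subgroup.inclusion hle),
      inclusion_comp_mem F hle h, fun x => ?_, ?_⟩
    · rfl
    · rw [map_subgroupOf_eq_iff]
      refine ⟨fun y _ => (α _).2, fun z hz => ?_⟩
      refine ⟨⟨(α.symm ⟨z, hz⟩ : R), le_sup_left (a := R) (b := R) (α.symm ⟨z, hz⟩).2⟩, (α.symm ⟨z, hz⟩).2, ?_⟩
      show ((α (Subgroup.inclusion hle _) : R) : Ω) = z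
      have : Subgroup.inclusion hle ⟨(α.symm ⟨z, hz⟩ : R), le_sup_left (a := R) (b := R) (α.symm ⟨z, hz⟩).2⟩ =
          α.symm ⟨z, hz⟩ := Subtype.ext rfl
      rw [this, MulEquiv.apply_symm_apply]

/-- A centric radical subgroup is centric and radical in its normalizer system. -/
theorem isCentric_of_isNormalizerSystem (F : FusionSystem S) {R : Subgroup Ω} (hRc : F.IsCentric R)
    (E : FusionSystem (normalizerIn S R)) (hE : F.IsNormalizerSystem R E) : E.IsCentric R := by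
  have hRS := hRc.1
  refine ⟨le_normalizerIn hRS, ?_⟩
  rintro Q' ⟨φ, hφ, hr⟩
  have hφ' : φ ∈ F.normalizerHom R R := by rw [← hE R]; exact hφ
  have hconj : F.IsConj R Q' := ⟨φ, hφ'.1, hr⟩
  intro c hc
  apply hRc.2 Q' hconj
  obtain ⟨hcN, hcc⟩ := mem_centralizerIn_iff.mp hc
  exact mem_centralizerIn_iff.mpr ⟨normalizerIn_le S R hcN, hcc⟩

theorem isRadical_of_isNormalizerSystem (F : FusionSystem S) {p : ℕ} {R : Subgroup Ω} (hRr : F.IsRadical p R)
    (E : FusionSystem (normalizerIn S R)) (hE : F.IsNormalizerSystem R E) : E.IsRadical p R := by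
  have hRS := hRr.1
  refine ⟨le_normalizerIn hRS, ?_⟩
  rw [autGroup_eq_of_isNormalizerSystem F hRS E hE]
  exact hRr.2

section Model

variable {G : Type*} [Group G]

/-- In a model, the image of a normal subgroup of the system containing the pull-back of `O_p(G)` is normal. -/
theorem map_normal_of_isNormal_of_model {N : Subgroup Ω} (E : FusionSystem N) (ι : N →* G)
    (hreal : E.IsRealizedBy ι) (U : Subgroup G) [hU : U.Normal] (hUT : U ≤ ι.range)
    (hcent : Subgroup.centralizer (U : Set G) ≤ U) {R : Subgroup Ω} (hR : E.IsNormal R)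
    (hTR : pullSub ι U ≤ R) : ((R.subgroupOf N).map ι).Normal := by
  obtain ⟨hinj, hreal'⟩ := hreal
  have hRN : R ≤ N := hR.1
  have hTN : pullSub ι U ≤ N := pullSub_le ι U
  constructor
  rintro _ ⟨r, hr, rfl⟩ g
  -- the map `φ` on `T`
  have hconjU : ∀ x : ↥(pullSub ι U),
      ((MulAut.conj g).toMonoidHom.comp (ι.comp (Subgroup.inclusion hTN))) x ∈ ι.range := by
    intro x
    apply hUT
    apply hU.conj_mem
    exact (mem_pullSub ι U (Subgroup.inclusion hTN x)).mp x.2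
  have hφN : ∀ x, (realInv ι hinj).comp
      (((MulAut.conj g).toMonoidHom.comp (ι.comp (Subgroup.inclusion hTN))).codRestrict ι.range hconjU) x ∈ N :=
    fun x => realInv_mem ι hinj _
  have hφι : ∀ x : ↥(pullSub ι U), ι ⟨(realInv ι hinj).comp
      (((MulAut.conj g).toMonoidHom.comp (ι.comp (Subgroup.inclusion hTN))).codRestrict ι.range hconjU) x, hφN x⟩ =
      g * ι ⟨x, hTN x.2⟩ * g⁻¹ := fun x => ι_realInv ι hinj _
  generalize (realInv ι hinj).comp
      (((MulAut.conj g).toMonoidHom.comp (ι.comp (Subgroup.inclusion hTN))).codRestrict ι.range hconjU) = φ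
    at hφN hφι
  have hφE : φ ∈ E.Hom (pullSub ι U) := (hreal' _ hTN φ hφN).mpr ⟨g, hφι⟩
  obtain ⟨ψ, hψ, hψφ, hψR⟩ := hR.2 _ φ hφE
  have hTRN : pullSub ι U ⊔ R ≤ N := sup_le hTN hRN
  have hψN : ∀ x, ψ x ∈ N := fun x => hom_apply_mem E hψ x
  obtain ⟨h, hh⟩ := (hreal' _ hTRN ψ hψN).mp hψ
  -- `h⁻¹ g` centralizes `U`
  have hc : h⁻¹ * g ∈ Subgroup.centralizer (U : Set G) := by
    rw [Subgroup.mem_centralizer_iff]
    intro u hu
    obtain ⟨s, rfl⟩ := hUT hu
    have hsT : (s : Ω) ∈ pullSub ι U := (mem_pullSub ι U s).mpr hu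
    have h1 := hh (Subgroup.inclusion le_sup_left ⟨s, hsT⟩)
    have h2 := hφι ⟨s, hsT⟩
    have e1 : (⟨ψ (Subgroup.inclusion le_sup_left ⟨s, hsT⟩), hψN _⟩ : N) = ⟨φ ⟨s, hsT⟩, hφN _⟩ :=
      Subtype.ext (hψφ ⟨s, hsT⟩)
    rw [e1, h2] at h1
    have h3 : g * ι s * g⁻¹ = h * ι s * h⁻¹ := h1
    calc ι s * (h⁻¹ * g) = h⁻¹ * (h * ι s * h⁻¹) * g := by group
      _ = h⁻¹ * (g * ι s * g⁻¹) * g := by rw [h3]
      _ = h⁻¹ * g * ι s := by group
  have hU' := hcent hc
  obtain ⟨t₀, ht₀⟩ := hUT hU'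
  have ht₀T : (t₀ : Ω) ∈ pullSub ι U := (mem_pullSub ι U t₀).mpr (by rw [ht₀]; exact hU')
  have ht₀R : (t₀ : Ω) ∈ R := hTR ht₀T
  have hg : g = h * ι t₀ := by rw [ht₀]; group
  have hrR : ((t₀ * r * t₀⁻¹ : N) : Ω) ∈ R := R.mul_mem (R.mul_mem ht₀R hr) (R.inv_mem ht₀R)
  have h4 := hh ⟨((t₀ * r * t₀⁻¹ : N) : Ω), Subgroup.mem_sup_right hrR⟩
  refine ⟨⟨ψ ⟨((t₀ * r * t₀⁻¹ : N) : Ω), Subgroup.mem_sup_right hrR⟩, hψN _⟩, ?_, ?_⟩
  · exact ((map_subgroupOf_eq_iff ψ).mp hψR).1 _ hrR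
  · rw [h4, hg]
    have e2 : (⟨((⟨((t₀ * r * t₀⁻¹ : N) : Ω), Subgroup.mem_sup_right hrR⟩ : ↥(pullSub ι U ⊔ R)) : Ω),
        hTRN (Subgroup.mem_sup_right hrR)⟩ : N) = t₀ * r * t₀⁻¹ := Subtype.ext rfl
    rw [e2, map_mul, map_mul, map_inv]
    group

end Model

/-- S5126. -/
theorem normalizerSystem_constrained_model [Finite S] {p : ℕ} [Fact p.Prime] (hS : IsPGroup p S)
    (F : FusionSystem S) (hF : F.IsSaturated p) {R : Subgroup Ω} (hRn : F.IsFullyNormalized R)
    (hRc : F.IsCentric R) (hRr : F.IsRadical p R) (E : FusionSystem (normalizerIn S R))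
    (hE : F.IsNormalizerSystem R E) {G : Type*} [Group G] (ι : ↥(normalizerIn S R) →* G) :
    E.IsConstrained p ∧
      (E.IsModel p G ι → (pCore p G : Subgroup G) = (R.subgroupOf (normalizerIn S R)).map ι) := by
  have hRS := hRn.1
  have hsat := normalizerSystem_saturated hS F hF hRn E hE
  have hnorm := isNormal_of_isNormalizerSystem F hRS E hE
  have hcen := isCentric_of_isNormalizerSystem F hRc E hE
  have hrad := isRadical_of_isNormalizerSystem F hRr E hE
  refine ⟨⟨hsat, R, hnorm, hcen⟩, ?_⟩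
  rintro ⟨hfin, hreal, ⟨T, hT⟩, hcent⟩
  have hNS : normalizerIn S R ≤ S := normalizerIn_le S R
  have hfinN : Finite (normalizerIn S R) := finite_of_le hNS
  have hpN : IsPGroup p (normalizerIn S R) := hS.to_le hNS
  have hOT : pCore p G ≤ ι.range := hT ▸ Cfsg.Agent.Lib.Helper16.pCore_le_sylow T
  have hTnorm : E.IsNormal (pullSub ι (pCore p G)) := isNormal_pullSub_of_realized E ι hreal (pCore p G) hOT
  have hTR : pullSub ι (pCore p G) ≤ R := le_of_isNormal_of_centric_radical hpN E hTnorm hcen hrad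
  have hnormal := map_normal_of_isNormal_of_model E ι hreal (pCore p G) hOT hcent hnorm hTR
  apply le_antisymm
  · intro u hu
    obtain ⟨s, rfl⟩ := hOT hu
    exact ⟨s, hTR ((mem_pullSub ι _ s).mpr hu), rfl⟩
  · apply Cfsg.Agent.Lib.Helper16.le_pCore hnormal
    exact (hpN.to_subgroup (R.subgroupOf (normalizerIn S R))).map ι

end Cfsg.Agent.Lib.Helper26
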