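import Cfsg.Agent.S5114
import Cfsg.Agent.Lib.Helper27.FSCentric
import Cfsg.Agent.Lib.Helper26.FSSatCritE

/-!
Existence of the `p'`-residual subsystem `O^{p'}(F)` of a saturated fusion system.
-/

set_option autoImplicit false
universe u

namespace Cfsg.Agent.Lib.Helper26

open Cfsg Cfsg.FusionSystem

variable {Ω : Type u} [Group Ω] {S : Subgroup Ω}

/-- The smallest fusion system over `S` containing the family of maps `X` (inside the ambient system `F`). -/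
def genSystem (F : FusionSystem S) (X : ∀ P : Subgroup Ω, Set (P →* Ω)) : FusionSystem S where
  Hom P := {φ | φ ∈ F.Hom P ∧ ∀ D : FusionSystem S, (∀ Q, X Q ⊆ D.Hom Q) → φ ∈ D.Hom P}
  le_of_mem h := F.le_of_mem h.1
  injective_of_mem h := F.injective_of_mem h.1
  conj_mem hP hg := ⟨F.conj_mem hP hg, fun D _ => D.conj_mem hP hg⟩
  comp_mem hφ hψ h := ⟨F.comp_mem hφ.1 hψ.1 h, fun D hD => D.comp_mem (hφ.2 D hD) (hψ.2 D hD) h⟩
  inv_mem := by
    rintro P φ ⟨hφ, hall⟩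
    obtain ⟨ψ, hψ, hψx⟩ := F.inv_mem hφ
    refine ⟨ψ, ⟨hψ, fun D hD => ?_⟩, hψx⟩
    obtain ⟨ψ', hψ', hψ'x⟩ := D.inv_mem (hall D hD)
    have : ψ' = ψ := by
      ext ⟨y, ⟨x, rfl⟩⟩
      rw [hψ'x x, hψx x]
    rw [← this]
    exact hψ'

theorem subset_genSystem {F : FusionSystem S} {X : ∀ P : Subgroup Ω, Set (P →* Ω)}
    (hX : ∀ Q, X Q ⊆ F.Hom Q) (P : Subgroup Ω) : X P ⊆ (genSystem F X).Hom P :=
  fun φ hφ => ⟨hX P hφ, fun _ hD => hD P hφ⟩

theorem genSystem_le {F : FusionSystem S} {X : ∀ P : Subgroup Ω, Set (P →* Ω)} {D : FusionSystem S}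
    (hD : ∀ Q, X Q ⊆ D.Hom Q) (P : Subgroup Ω) : (genSystem F X).Hom P ⊆ D.Hom P :=
  fun _ hφ => hφ.2 D hD

theorem genSystem_le_ambient (F : FusionSystem S) (X : ∀ P : Subgroup Ω, Set (P →* Ω)) (P : Subgroup Ω) :
    (genSystem F X).Hom P ⊆ F.Hom P := fun _ hφ => hφ.1

/-- A subgroup fully automized in `F` is fully automized in every subsystem over the same `S`. -/
theorem fullyAutomized_of_subsystem [Finite S] {p : ℕ} [Fact p.Prime] (hS : IsPGroup p S)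
    (E F : FusionSystem S) (hEF : ∀ P : Subgroup Ω, E.Hom P ⊆ F.Hom P) {Q : Subgroup Ω}
    (hQ : F.IsFullyAutomized p Q) : E.IsFullyAutomized p Q := by
  obtain ⟨hQS, R, hR⟩ := hQ
  have hfinQ : Finite Q := finite_of_le hQS
  refine ⟨hQS, ?_⟩
  have hle : E.autGroup Q ≤ F.autGroup Q := by
    intro α hα
    rw [mem_autGroup_iff F hQS]
    exact hEF Q ((mem_autGroup_iff E hQS α).mp hα)
  have hAE : autInducedBy S Q ≤ E.autGroup Q := autInducedBy_le_autGroup E hQS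
  have hAp : IsPGroup p ((autInducedBy S Q).subgroupOf (E.autGroup Q)) :=
    (autInducedBy_isPGroup hS Q).comap_subtype
  have hidx : ¬ p ∣ ((autInducedBy S Q).subgroupOf (E.autGroup Q)).index := by
    intro hdvd
    have h1 : (autInducedBy S Q).relIndex (E.autGroup Q) * (E.autGroup Q).relIndex (F.autGroup Q) =
        (autInducedBy S Q).relIndex (F.autGroup Q) := Subgroup.relIndex_mul_relIndex _ _ _ hAE hle
    have h2 : p ∣ (autInducedBy S Q).relIndex (F.autGroup Q) := by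
      rw [← h1]
      exact Dvd.dvd.mul_right hdvd _
    have h3 : (autInducedBy S Q).relIndex (F.autGroup Q) = (R : Subgroup (F.autGroup Q)).index := by
      rw [hR]
      rfl
    rw [h3] at h2
    exact R.not_dvd_index h2
  exact ⟨hAp.toSylow hidx, rfl⟩

/-- Transport of normalizers along an automorphism of `S`. -/
theorem card_normalizerIn_le_of_aut [Finite S] (β : MulAut ↥S) {Q₁ Q₂ : Subgroup Ω} (hQ₂ : Q₂ ≤ S)
    (h : ∀ y : S, (y : Ω) ∈ Q₁ ↔ ((β y : S) : Ω) ∈ Q₂) :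
    Nat.card (normalizerIn S Q₁) ≤ Nat.card (normalizerIn S Q₂) := by
  have hfin2 : Finite Q₂ := finite_of_le hQ₂
  have hfinN : Finite ↥(normalizerIn S Q₂) := finite_of_le (normalizerIn_le S Q₂)
  have hmem : ∀ g : ↥(normalizerIn S Q₁),
      ((β ⟨g, (normalizerIn_le S Q₁) g.2⟩ : S) : Ω) ∈ normalizerIn S Q₂ := by
    intro g
    refine ⟨(β ⟨g, (normalizerIn_le S Q₁) g.2⟩).2, ?_⟩
    apply mem_normalizer_of_conj_mem_finite
    intro y hy
    have hyS : y ∈ S := hQ₂ hy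
    obtain ⟨y₁, hy₁⟩ : ∃ y₁ : S, β y₁ = ⟨y, hyS⟩ := ⟨β⁻¹ ⟨y, hyS⟩, by simp⟩
    have hy₁Q : (y₁ : Ω) ∈ Q₁ := by
      rw [h y₁, hy₁]
      exact hy
    have hgN : (g : Ω) ∈ Subgroup.normalizer (Q₁ : Set Ω) := g.2.2
    have hconj : (g : Ω) * y₁ * (g : Ω)⁻¹ ∈ Q₁ := (Subgroup.mem_normalizer_iff.mp hgN _).mp hy₁Q
    have h2 := (h (⟨g, (normalizerIn_le S Q₁) g.2⟩ * y₁ * ⟨g, (normalizerIn_le S Q₁) g.2⟩⁻¹)).mp hconj
    rw [map_mul, map_mul, map_inv, hy₁] at h2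
    exact h2
  apply Nat.card_le_card_of_injective
    (fun g : ↥(normalizerIn S Q₁) =>
      (⟨((β ⟨g, (normalizerIn_le S Q₁) g.2⟩ : S) : Ω), hmem g⟩ : ↥(normalizerIn S Q₂)))
  intro g₁ g₂ h12
  have h3 : ((β ⟨g₁, (normalizerIn_le S Q₁) g₁.2⟩ : S) : Ω) = ((β ⟨g₂, (normalizerIn_le S Q₁) g₂.2⟩ : S) : Ω) :=
    congrArg (fun z : ↥(normalizerIn S Q₂) => (z : Ω)) h12
  have h4 : (⟨g₁, (normalizerIn_le S Q₁) g₁.2⟩ : S) = ⟨g₂, (normalizerIn_le S Q₁) g₂.2⟩ :=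
    β.injective (Subtype.ext h3)
  exact Subtype.ext (congrArg (fun z : S => (z : Ω)) h4)

/-- **AKO Theorem I.7.7 (existence part)**: a saturated fusion system has a `p'`-residual subsystem. -/
theorem exists_pPrimeResidual [Finite S] {p : ℕ} [Fact p.Prime] (hS : IsPGroup p S) (F : FusionSystem S)
    (hF : F.IsSaturated p) : ∃ E : FusionSystem S, F.IsPPrimeResidual p E := by
  obtain ⟨X, hXdef⟩ : ∃ X : ∀ P : Subgroup Ω, Set (P →* Ω), X = fun P =>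
      {φ | F.IsCentric P ∧ ∀ D : FusionSystem S, D.IsSaturated p → D.HasPrimeToPIndexIn F p → φ ∈ D.Hom P} :=
    ⟨_, rfl⟩
  have hXmem : ∀ (P : Subgroup Ω) (φ : P →* Ω), φ ∈ X P ↔ (F.IsCentric P ∧
      ∀ D : FusionSystem S, D.IsSaturated p → D.HasPrimeToPIndexIn F p → φ ∈ D.Hom P) := by
    intro P φ
    rw [hXdef]
    rfl
  have hFF : F.HasPrimeToPIndexIn F p := by
    refine ⟨fun P => subset_rfl, fun P _ => ?_⟩
    rintro _ ⟨ξ, -, rfl⟩
    exact ξ.2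
  have hXF : ∀ P, X P ⊆ F.Hom P := fun P φ hφ => ((hXmem P φ).mp hφ).2 F hF hFF
  obtain ⟨E, hE⟩ : ∃ E : FusionSystem S, E = genSystem F X := ⟨_, rfl⟩
  have hEF : E.IsSubsystemOf F := fun P φ hφ => by rw [hE] at hφ; exact hφ.1
  have hXE : ∀ P, X P ⊆ E.Hom P := fun P => by rw [hE]; exact subset_genSystem hXF P
  have hED : ∀ D : FusionSystem S, D.IsSaturated p → D.HasPrimeToPIndexIn F p → E.IsSubsystemOf D := by
    intro D hD hDi P φ hφ
    rw [hE] at hφ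
    exact hφ.2 D (fun Q ψ hψ => ((hXmem Q ψ).mp hψ).2 D hD hDi)
  have hpg : ∀ P : Subgroup Ω, F.IsCentric P →
      (Subgroup.closure {α : ↥(F.autGroup P) | ∃ k : ℕ, orderOf α = p ^ k}).map (F.autGroup P).subtype ≤
        E.autGroup P := by
    intro P hPc
    rw [MonoidHom.map_closure, Subgroup.closure_le]
    rintro _ ⟨ξ, ⟨k, hk⟩, rfl⟩
    rw [SetLike.mem_coe, mem_autGroup_iff E hPc.1]
    apply hXE
    rw [hXmem]
    refine ⟨hPc, fun D hD hDi => ?_⟩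
    have h1 : ((F.autGroup P).subtype ξ) ∈ D.autGroup P :=
      hDi.2 P hPc.1 ⟨ξ, Subgroup.subset_closure ⟨k, hk⟩, rfl⟩
    exact (mem_autGroup_iff D hPc.1 _).mp h1
  obtain ⟨hEi, hfrat, hcen⟩ := Cfsg.Agent.S5114.result p hS F hF E hEF hpg
  refine ⟨E, ?_, hEi, hED⟩
  apply saturated_of_criterion hS E {P | F.IsCentric P}
  · intro P hP Q hPQ
    obtain ⟨φ, hφ, hr⟩ := hPQ
    exact Cfsg.Agent.Lib.Helper27.isCentric_of_isConj F hP ⟨φ, hEF P hφ, hr⟩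
  · intro P hPc
    have hPc' : F.IsCentric P := hPc
    have hPS : P ≤ S := hPc'.1
    obtain ⟨Q', hPQ', hQ'n⟩ := exists_fullyNormalized_conj F hPS
    obtain ⟨φ, hφ, hφr⟩ := hPQ'
    obtain ⟨α, hα, φ₀, hφ₀, hφα⟩ := hfrat P φ hφ
    have hφ₀F : φ₀ ∈ F.Hom P := hEF P hφ₀
    have hφ₀S : ∀ x, φ₀ x ∈ S := hom_apply_mem F hφ₀F
    obtain ⟨Q, hQ⟩ : ∃ Q, Q = φ₀.range := ⟨_, rfl⟩
    have hPQE : E.IsConj P Q := ⟨φ₀, hφ₀, hQ.symm⟩
    have hPQF : F.IsConj P Q := ⟨φ₀, hφ₀F, hQ.symm⟩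
    have hPQ'F : F.IsConj P Q' := ⟨φ, hφ, hφr⟩
    have hQS : Q ≤ S := isConj_le_right F hPQF
    have hQc : F.IsCentric Q := Cfsg.Agent.Lib.Helper27.isCentric_of_isConj F hPc' hPQF
    have hQ'S : Q' ≤ S := hQ'n.1
    have hiff : ∀ y : S, (y : Ω) ∈ Q' ↔ ((α⁻¹ y : S) : Ω) ∈ Q := by
      intro y
      rw [← hφr, hQ]
      constructor
      · rintro ⟨x, hx⟩
        refine ⟨x, ?_⟩
        have h1 := hφα x (hφ₀S x)
        rw [hx] at h1
        have h2 : y = α ⟨φ₀ x, hφ₀S x⟩ := Subtype.ext h1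
        rw [h2, MulAut.inv_apply_self]
      · rintro ⟨x, hx⟩
        refine ⟨x, ?_⟩
        rw [hφα x (hφ₀S x)]
        have h2 : (⟨φ₀ x, hφ₀S x⟩ : S) = α⁻¹ y := Subtype.ext hx
        rw [h2, MulAut.apply_inv_self]
    have hcard : Nat.card (normalizerIn S Q') ≤ Nat.card (normalizerIn S Q) :=
      card_normalizerIn_le_of_aut α⁻¹ hQS hiff
    have hQn : F.IsFullyNormalized Q :=
      ⟨hQS, fun Q'' hQQ'' => (hQ'n.2 Q'' (isConj_trans F (isConj_trans F (isConj_symm F hPQ'F) hPQF)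
        hQQ'')).trans hcard⟩
    have hQA := (saturated_fn hS F hF hQn).2
    have hQR := saturated_fn_receptive hS F hF hQn
    refine ⟨Q, hPQE, fullyAutomized_of_subsystem hS E F hEF hQA, hQS, fun R ψ hψ hψr => ?_⟩
    have hψF : ψ ∈ F.Hom R := hEF R hψ
    obtain ⟨ψ₀, hψ₀, hext⟩ := hQR.2 R ψ hψF hψr
    have hRS : R ≤ S := hom_le F hψF
    have hRc : F.IsCentric R :=
      Cfsg.Agent.Lib.Helper27.isCentric_of_isConj F hQc (isConj_symm F ⟨ψ, hψF, hψr⟩)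
    have hRN : R ≤ extender S R ψ := le_extender hRS ψ (hom_apply_mem F hψF)
    have hNS : extender S R ψ ≤ S := (extender_le S R ψ).trans (normalizerIn_le S R)
    have hNc : F.IsCentric (extender S R ψ) := Cfsg.Agent.Lib.Helper27.isCentric_of_le F hRc hRN hNS
    have hres : ψ₀.comp (Subgroup.inclusion hRN) = ψ := by
      ext x
      exact hext x x.2 (hRN x.2)
    refine ⟨ψ₀, ?_, hext⟩
    apply hXE
    rw [hXmem]
    refine ⟨hNc, fun D hD hDi => ?_⟩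
    apply Cfsg.Agent.Lib.Helper27.mem_of_restrict_centric_mem hS F D hF hD hDi.1 hψ₀ R hRN hRc
    rw [hres]
    exact hED D hD hDi R hψ
  · intro E' hE' P φ hφ
    rw [hE] at hφ
    apply hφ.2 E'
    intro Q ψ hψ
    exact hE' Q ((hXmem Q ψ).mp hψ).1 (hXE Q hψ)
  · intro P hPE hPn
    exact absurd ((hcen P).mp hPE) hPn

end Cfsg.Agent.Lib.Helper26
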