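import Cfsg.Agent.Lib.Helper26.FSCentricMeet
import Cfsg.Agent.Lib.Helper26.FSNormalizerConstrained

/-!
`p`-stability of fusion systems and of their normalizer systems (S5247).
-/

set_option autoImplicit false

namespace Cfsg.Agent.Lib.Helper26

open Cfsg Cfsg.FusionSystem

variable {Ω : Type*} [Group Ω] {S : Subgroup Ω}

/-- The quadratic action condition. -/
def Quad {Q : Subgroup Ω} (χ : MulAut Q) : Prop := ∀ a : Q, (χ a⁻¹) * a * (χ a⁻¹) * (χ (χ a)) = 1

theorem quad_congr {Q Q₁ : Subgroup Ω} (e : Q ≃* Q₁) {χ : MulAut Q} (h : Quad χ) : Quad (MulAut.congr e χ) := by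
  intro y
  have := h (e.symm y)
  have e1 : (MulAut.congr e χ) y⁻¹ * y * (MulAut.congr e χ) y⁻¹ * (MulAut.congr e χ) ((MulAut.congr e χ) y) =
      e (χ (e.symm y)⁻¹ * e.symm y * χ (e.symm y)⁻¹ * χ (χ (e.symm y))) := by
    simp [MulAut.congr]
  rw [e1, this, map_one]

/-- `O_p` of a group intersected with a subgroup lies in `O_p` of the subgroup. -/
theorem mem_pCore_of_le {p : ℕ} [Fact p.Prime] {Q : Subgroup Ω} {A A' : Subgroup (MulAut Q)} (hle : A ≤ A')
    {χ : MulAut Q} (hχA : χ ∈ A) (hχ : χ ∈ (pCore p A').map A'.subtype) : χ ∈ (pCore p A).map A.subtype := by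
  have hn : ((pCore p ↥A').comap (Subgroup.inclusion hle)).Normal := Subgroup.Normal.comap inferInstance _
  have hp : IsPGroup p ↥((pCore p ↥A').comap (Subgroup.inclusion hle)) :=
    (Cfsg.Agent.Lib.Helper16.pCore_isPGroup (G := ↥A') (p := p)).comap_of_injective _
      (Subgroup.inclusion_injective hle)
  have h1 := Cfsg.Agent.Lib.Helper16.le_pCore hn hp
  refine ⟨⟨χ, hχA⟩, h1 ?_, rfl⟩
  obtain ⟨a, ha, hae⟩ := hχ
  rw [Subgroup.mem_comap]
  have : Subgroup.inclusion hle ⟨χ, hχA⟩ = a := Subtype.ext hae.symm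
  rw [this]
  exact ha

/-- `p`-stability for all subgroups follows from `p`-stability for fully normalized ones. -/
theorem pstable_all [Finite S] {p : ℕ} [Fact p.Prime] (F : FusionSystem S)
    (h : ∀ Q : Subgroup Ω, F.IsFullyNormalized Q → ∀ χ : MulAut ↥Q, χ ∈ F.autGroup Q → Quad χ →
      χ ∈ ((pCore p ↥(F.autGroup Q)).map (F.autGroup Q).subtype : Subgroup (MulAut ↥Q)))
    {Q : Subgroup Ω} (hQS : Q ≤ S) {χ : MulAut Q} (hχ : χ ∈ F.autGroup Q) (hq : Quad χ) :
    χ ∈ ((pCore p ↥(F.autGroup Q)).map (F.autGroup Q).subtype : Subgroup (MulAut ↥Q)) := by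
  obtain ⟨Q₁, hconj, hFN⟩ := exists_fullyNormalized_conj F hQS
  obtain ⟨e, he⟩ := (isConj_iff_exists_isFIso F).mp hconj
  have h1 := h Q₁ hFN (MulAut.congr e χ) (congr_mem_autGroup F he hχ) (quad_congr e hq)
  have h2 := congr_mem_pCore_autGroup (p := p) F he.symm h1
  have e1 : MulAut.congr e.symm (MulAut.congr e χ) = χ := by
    ext x
    simp [MulAut.congr]
  rwa [e1] at h2

/-- A quadratic automorphism of an abelian `p`-group is a `p`-element. -/
theorem quad_pow_card_eq_one [Finite S] {Q : Subgroup Ω} (hQS : Q ≤ S)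
    (hcomm : ∀ a b : Q, a * b = b * a) {χ : MulAut Q} (hq : Quad χ) : χ ^ Nat.card Q = 1 := by
  have hfinQ : Finite Q := finite_of_le hQS
  have hfix : ∀ y : Q, χ (y⁻¹ * χ y) = y⁻¹ * χ y := by
    intro y
    have h1 := hq y
    rw [map_mul]
    have h2 : χ y⁻¹ * χ (χ y) = (χ y⁻¹ * y)⁻¹ := by
      rw [eq_inv_iff_mul_eq_one]
      calc χ y⁻¹ * χ (χ y) * (χ y⁻¹ * y) = χ y⁻¹ * y * χ y⁻¹ * χ (χ y) := by
            rw [hcomm (χ y⁻¹ * χ (χ y)) (χ y⁻¹ * y)]
            group
        _ = 1 := h1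
    rw [h2, mul_inv_rev, map_inv, inv_inv]
  have hpow : ∀ n : ℕ, ∀ y : Q, (χ ^ n) y = y * (y⁻¹ * χ y) ^ n := by
    intro n
    induction n with
    | zero => intro y; simp
    | succ n ih =>
      intro y
      rw [pow_succ', MulAut.mul_apply, ih, map_mul, map_pow, hfix, pow_succ', ← mul_assoc]
      congr 1
      group
  ext y
  rw [hpow, pow_card_eq_one']
  simp

/-- S5247. -/
theorem pstable_iff_normalizers [Finite S] {p : ℕ} [Fact p.Prime] (hS : IsPGroup p S) (F : FusionSystem S) :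
    (∀ Q : Subgroup Ω, F.IsFullyNormalized Q → ∀ χ : MulAut ↥Q, χ ∈ F.autGroup Q →
      (∀ a : ↥Q, (χ a⁻¹) * a * (χ a⁻¹) * (χ (χ a)) = 1) →
        χ ∈ ((pCore p ↥(F.autGroup Q)).map (F.autGroup Q).subtype : Subgroup (MulAut ↥Q))) ↔
    ∀ R : Subgroup Ω, F.IsFullyNormalized R → ¬ IsCyclic ↥R →
      ∀ N : FusionSystem (normalizerIn S R), F.IsNormalizerSystem R N →
        (∀ Q : Subgroup Ω, N.IsFullyNormalized Q → ∀ χ : MulAut ↥Q, χ ∈ N.autGroup Q →
          (∀ a : ↥Q, (χ a⁻¹) * a * (χ a⁻¹) * (χ (χ a)) = 1) →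
            χ ∈ ((pCore p ↥(N.autGroup Q)).map (N.autGroup Q).subtype : Subgroup (MulAut ↥Q))) := by
  constructor
  · intro h R hR _ N hN Q hQ χ hχ hq
    have hQN : Q ≤ normalizerIn S R := hQ.1
    have hQS : Q ≤ S := hQN.trans (normalizerIn_le S R)
    have hle : N.autGroup Q ≤ F.autGroup Q := by
      intro β hβ
      rw [mem_autGroup_iff N hQN, hN Q] at hβ
      rw [mem_autGroup_iff F hQS]
      exact hβ.1
    exact mem_pCore_of_le hle hχ (pstable_all F h hQS (hle hχ) hq)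
  · intro h Q hQ χ hχ hq
    have hQS := hQ.1
    have hfinQ : Finite Q := finite_of_le hQS
    by_cases hcyc : IsCyclic Q
    · have hcomm : ∀ a b : Q, a * b = b * a := by
        obtain ⟨g, hg⟩ := hcyc.exists_generator
        intro a b
        obtain ⟨m, rfl⟩ := Subgroup.mem_zpowers_iff.mp (hg a)
        obtain ⟨n, rfl⟩ := Subgroup.mem_zpowers_iff.mp (hg b)
        rw [← zpow_add, ← zpow_add, add_comm]
      have hpow := quad_pow_card_eq_one hQS hcomm hq
      obtain ⟨k, hk⟩ := (hS.to_le hQS).exists_card_eq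
      rw [hk] at hpow
      have hAcomm : ∀ a b : MulAut Q, a * b = b * a := fun a b =>
        (IsCyclic.mulAutMulEquiv Q).injective (by rw [map_mul, map_mul, mul_comm])
      have hn : (Subgroup.zpowers (⟨χ, hχ⟩ : F.autGroup Q)).Normal := by
        constructor
        intro n hn g
        have h1 : g * n = n * g := Subtype.ext (hAcomm _ _)
        have : g * n * g⁻¹ = n := by
          rw [h1]
          group
        rw [this]
        exact hn
      have hχk : (⟨χ, hχ⟩ : F.autGroup Q) ^ (p ^ k) = 1 := Subtype.ext hpow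
      have hp : IsPGroup p (Subgroup.zpowers (⟨χ, hχ⟩ : F.autGroup Q)) := by
        rintro ⟨g, hg⟩
        obtain ⟨n, rfl⟩ := Subgroup.mem_zpowers_iff.mp hg
        refine ⟨k, Subtype.ext ?_⟩
        show ((⟨χ, hχ⟩ : F.autGroup Q) ^ n) ^ (p ^ k) = 1
        rw [← zpow_natCast, ← zpow_mul, mul_comm, zpow_mul, zpow_natCast, hχk, one_zpow]
      exact ⟨⟨χ, hχ⟩, Cfsg.Agent.Lib.Helper16.le_pCore hn hp (Subgroup.mem_zpowers _), rfl⟩
    · have hN := normalizerSystem_isNormalizerSystem F Q hQS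
      have hauteq := autGroup_eq_of_isNormalizerSystem F hQS _ hN
      have hFN : (normalizerSystem F Q hQS).IsFullyNormalized Q := by
        refine ⟨le_normalizerIn hQS, ?_⟩
        rintro Q' ⟨φ, hφ, rfl⟩
        rw [hN Q] at hφ
        obtain ⟨-, -, -, ψ, -, hψφ, hψQ⟩ := hφ
        obtain ⟨h1, h2⟩ := (map_subgroupOf_eq_iff ψ).mp hψQ
        have hr : φ.range = Q := by
          ext z
          constructor
          · rintro ⟨x, rfl⟩
            rw [← hψφ]
            exact h1 _ x.2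
          · intro hz
            obtain ⟨y, hy, rfl⟩ := h2 z hz
            refine ⟨⟨y, hy⟩, ?_⟩
            rw [← hψφ]
            rfl
        rw [hr]
      have hχN : χ ∈ (normalizerSystem F Q hQS).autGroup Q := by rw [hauteq]; exact hχ
      have h1 := h Q hQ hcyc _ hN Q hFN χ hχN hq
      rw [hauteq] at h1
      exact h1

end Cfsg.Agent.Lib.Helper26
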