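import Cfsg.Agent.Lib.Helper26.FSPStable
import Cfsg.Agent.Lib.Helper26.FSGroup
import Cfsg.Prelude.Def_LocalEven

/-!
`p`-stability of a finite group in the normalizer form versus `p`-stability of its fusion system (S5246).
-/

set_option autoImplicit false

namespace Cfsg.Agent.Lib.Helper26

open Cfsg Cfsg.FusionSystem
open scoped commutatorElement

/-- Membership of a coset in `O_p` of a quotient, read off in an isomorphic image. -/
theorem mk_mem_pCore_iff {p : ℕ} [Fact p.Prime] {N A : Type*} [Group N] [Group A] (f : N →* A)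
    (hf : Function.Surjective f) (C : Subgroup N) [hCn : C.Normal] (hC : C = f.ker) (x : N) :
    (QuotientGroup.mk (s := C) x) ∈ pCore p (N ⧸ C) ↔ f x ∈ pCore p A := by
  subst hC
  have h := Cfsg.Agent.Lib.Helper16.pCore_map_equiv (p := p) (QuotientGroup.quotientKerEquivOfSurjective f hf)
  have he : (QuotientGroup.quotientKerEquivOfSurjective f hf) (QuotientGroup.mk x) = f x := rfl
  rw [← h, ← he]
  constructor
  · intro hx
    exact ⟨_, hx, rfl⟩
  · rintro ⟨y, hy, hye⟩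
    have := (QuotientGroup.quotientKerEquivOfSurjective f hf).injective hye
    rwa [← this]

variable {G : Type*} [Group G]

theorem normalizerMonoidHom_coe {Q : Subgroup G} {g : G} (hg : g ∈ Subgroup.normalizer (Q : Set G)) (a : Q) :
    ((Q.normalizerMonoidHom ⟨g, hg⟩ a : Q) : G) = g * a * g⁻¹ := rfl

/-- The subgroup of automorphisms acting trivially on the fixed points `D` of `χ` and on `Q / D`. -/
def quadStab {Q : Subgroup G} (χ : MulAut Q) : Subgroup (MulAut Q) where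
  carrier := {ψ | (∀ d : Q, χ d = d → ψ d = d) ∧ ∀ a : Q, χ (a⁻¹ * ψ a) = a⁻¹ * ψ a}
  one_mem' := ⟨fun d _ => rfl, fun a => by simp⟩
  mul_mem' := by
    rintro ψ₁ ψ₂ ⟨h1, h1'⟩ ⟨h2, h2'⟩
    refine ⟨fun d hd => ?_, fun a => ?_⟩
    · rw [MulAut.mul_apply, h2 d hd, h1 d hd]
    · have e1 : a⁻¹ * (ψ₁ * ψ₂) a = (a⁻¹ * ψ₁ a) * (a⁻¹ * ψ₂ a) := by
        have := h1 _ (h2' a)
        rw [MulAut.mul_apply]
        have e2 : ψ₁ (ψ₂ a) = ψ₁ a * ψ₁ (a⁻¹ * ψ₂ a) := by
          rw [← map_mul]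
          congr 1
          group
        rw [e2, this]
        group
      rw [e1, map_mul, h1' a, h2' a]
  inv_mem' := by
    rintro ψ ⟨h1, h1'⟩
    refine ⟨fun d hd => ?_, fun a => ?_⟩
    · have := h1 d hd
      rw [MulAut.inv_apply, MulEquiv.symm_apply_eq]
      exact this.symm
    · have h2 := h1' (ψ⁻¹ a)
      have e1 : ψ (ψ⁻¹ a) = a := by
        rw [MulAut.inv_apply]
        exact ψ.apply_symm_apply a
      rw [e1] at h2
      have e2 : a⁻¹ * ψ⁻¹ a = ((ψ⁻¹ a)⁻¹ * a)⁻¹ := by group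
      rw [e2, map_inv, h2]

theorem mem_quadStab_self {Q : Subgroup G} {χ : MulAut Q} (h : Quad χ) : χ ∈ quadStab χ := by
  refine ⟨fun d hd => hd, fun a => ?_⟩
  have h1 := h a
  -- χ a⁻¹ * a * χ a⁻¹ * χ (χ a) = 1
  rw [map_mul]
  have : χ a⁻¹ * χ (χ a) = (χ a⁻¹ * a)⁻¹ := by
    rw [eq_inv_iff_mul_eq_one]
    have e : χ a⁻¹ * χ (χ a) * (χ a⁻¹ * a) = (χ a⁻¹ * a)⁻¹ * (χ a⁻¹ * a * χ a⁻¹ * χ (χ a)) * (χ a⁻¹ * a) := by
      group
    rw [e, h1]
    group
  rw [this, mul_inv_rev, map_inv, inv_inv]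

/-- Quadratic action of `c_g` on `Q` in terms of commutators. -/
theorem quad_iff_comm {Q : Subgroup G} {g : G} (hg : g ∈ Subgroup.normalizer (Q : Set G)) :
    Quad (Q.normalizerMonoidHom ⟨g, hg⟩) ↔ ⁅⁅Q, Subgroup.zpowers g⁆, Subgroup.zpowers g⁆ = ⊥ := by
  rw [Subgroup.commutator_eq_bot_iff_le_centralizer]
  constructor
  · intro hq
    rw [Subgroup.commutator_le]
    intro a ha h hh
    obtain ⟨k, rfl⟩ := Subgroup.mem_zpowers_iff.mp hh
    have hk : (Q.normalizerMonoidHom ⟨g, hg⟩) ^ k ∈ quadStab (Q.normalizerMonoidHom ⟨g, hg⟩) :=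
      Subgroup.zpow_mem _ (mem_quadStab_self hq) k
    have hk2 := hk.2 (⟨a, ha⟩ : Q)⁻¹
    rw [← map_zpow] at hk2
    have hk3 := congrArg (Subtype.val) hk2
    have hgk : (⟨g, hg⟩ : Subgroup.normalizer (Q : Set G)) ^ k = ⟨g ^ k, Subgroup.zpow_mem _ hg k⟩ := by
      apply Subtype.ext
      simp
    rw [hgk] at hk3
    rw [normalizerMonoidHom_coe] at hk3
    simp only [Subgroup.coe_mul, Subgroup.coe_inv, inv_inv, normalizerMonoidHom_coe] at hk3
    -- hk3 : g * (a * (g^k * a⁻¹ * (g^k)⁻¹)) * g⁻¹ = a * (g^k * a⁻¹ * (g^k)⁻¹)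
    rw [Subgroup.mem_centralizer_iff]
    intro z hz
    obtain ⟨m, rfl⟩ := Subgroup.mem_zpowers_iff.mp hz
    have hc : Commute g ⁅a, g ^ k⁆ := by
      show g * ⁅a, g ^ k⁆ = ⁅a, g ^ k⁆ * g
      rw [commutatorElement_def]
      have e : a * g ^ k * a⁻¹ * (g ^ k)⁻¹ = a * (g ^ k * a⁻¹ * (g ^ k)⁻¹) := by group
      rw [e]
      generalize a * (g ^ k * a⁻¹ * (g ^ k)⁻¹) = w at hk3
      calc g * w = (g * w * g⁻¹) * g := by group
        _ = w * g := by rw [hk3]
    exact (hc.zpow_left m).eq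
  · intro hc a
    have h1 : ⁅((a⁻¹ : Q) : G), g⁆ ∈ ⁅Q, Subgroup.zpowers g⁆ :=
      Subgroup.commutator_mem_commutator (a⁻¹).2 (Subgroup.mem_zpowers g)
    have h2 := (Subgroup.mem_centralizer_iff.mp (hc h1)) g (Subgroup.mem_zpowers g)
    rw [commutatorElement_def] at h2
    apply Subtype.ext
    simp only [Subgroup.coe_mul, Subgroup.coe_inv, normalizerMonoidHom_coe, Subgroup.coe_one]
    simp only [Subgroup.coe_inv, inv_inv] at h2
    -- h2 : g * (a⁻¹ * g * a * g⁻¹) = a⁻¹ * g * a * g⁻¹ * g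
    have e : g * (a : G)⁻¹ * g⁻¹ * a * (g * (a : G)⁻¹ * g⁻¹) * (g * (g * a * g⁻¹) * g⁻¹) =
        ((a : G)⁻¹ * g * a * g⁻¹)⁻¹ * (g * ((a : G)⁻¹ * g * a * g⁻¹)) * g⁻¹ := by group
    rw [e, h2]
    group

/-- S5246. -/
theorem normalizerPStable_iff {Ω : Type*} [Group Ω] [Finite Ω] {p : ℕ} [Fact p.Prime] (P : Sylow p Ω) :
    Cfsg.IsNormalizerPStable p Ω ↔ (∀ Q : Subgroup Ω, (Cfsg.groupFusionSystem (P : Subgroup Ω)).IsFullyNormalized Q →
      ∀ χ : MulAut ↥Q, χ ∈ (Cfsg.groupFusionSystem (P : Subgroup Ω)).autGroup Q →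
        (∀ a : ↥Q, (χ a⁻¹) * a * (χ a⁻¹) * (χ (χ a)) = 1) →
          χ ∈ ((Cfsg.pCore p ↥((Cfsg.groupFusionSystem (P : Subgroup Ω)).autGroup Q)).map
            ((Cfsg.groupFusionSystem (P : Subgroup Ω)).autGroup Q).subtype : Subgroup (MulAut ↥Q))) := by
  have G1 : ∀ (Q : Subgroup Ω) (g : Ω) (hg : g ∈ Subgroup.normalizer (Q : Set Ω)),
      (QuotientGroup.mk (s := (Subgroup.centralizer (Q : Set Ω)).subgroupOf (Subgroup.normalizer (Q : Set Ω)))
          (⟨g, hg⟩ : ↥(Subgroup.normalizer (Q : Set Ω)))) ∈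
        pCore p (↥(Subgroup.normalizer (Q : Set Ω)) ⧸
          (Subgroup.centralizer (Q : Set Ω)).subgroupOf (Subgroup.normalizer (Q : Set Ω))) ↔
      normalizerToAut Q ⟨g, hg⟩ ∈ pCore p ↥(autInducedBy (⊤ : Subgroup Ω) Q) := by
    intro Q g hg
    apply mk_mem_pCore_iff (normalizerToAut Q) (normalizerToAut_surjective Q)
    rw [← Subgroup.normalizerMonoidHom_ker]
    ext x
    rw [MonoidHom.mem_ker, MonoidHom.mem_ker]
    constructor
    · intro h
      exact Subtype.ext h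
    · intro h
      exact congrArg Subtype.val h
  constructor
  · intro hstab Q hQ χ hχ hq
    have hQP : Q ≤ (P : Subgroup Ω) := hQ.1
    rw [groupFS_autGroup_eq hQP] at hχ ⊢
    obtain ⟨g, -, hgN, rfl⟩ := (mem_autInducedBy_iff' _ _ _).mp hχ
    have hcomm := (quad_iff_comm hgN).mp hq
    have h1 := hstab Q (P.isPGroup'.to_le hQP) g hgN hcomm
    have h2 := (G1 Q g hgN).mp h1
    exact ⟨_, h2, rfl⟩
  · intro h Q hQ g hg hcomm
    obtain ⟨a, ha⟩ := exists_conj_le_sylow P hQ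
    obtain ⟨Q', hQ'⟩ : ∃ Q' : Subgroup Ω, Q' = Q.map (MulAut.conj a).toMonoidHom := ⟨_, rfl⟩
    rw [← hQ'] at ha
    have hφ : conjHom Q a ∈ (groupFusionSystem (⊤ : Subgroup Ω)).Hom Q := conjHom_mem_groupFS le_top le_top
    have hr : (conjHom Q a).range = Q' := by rw [conjHom_range, hQ']
    have he := homEquiv_isFIso (groupFusionSystem (⊤ : Subgroup Ω)) hφ hr
    have hχ : Q.normalizerMonoidHom ⟨g, hg⟩ ∈ (groupFusionSystem (⊤ : Subgroup Ω)).autGroup Q := by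
      rw [groupFS_autGroup_eq le_top]
      exact normalizerMonoidHom_mem_autInducedBy (Subgroup.mem_top _) hg
    have hq := (quad_iff_comm hg).mpr hcomm
    have hχ' := congr_mem_autGroup (groupFusionSystem (⊤ : Subgroup Ω)) he hχ
    have hq' := quad_congr (homEquiv (groupFusionSystem (⊤ : Subgroup Ω)) hφ hr) hq
    have hEq : (groupFusionSystem (P : Subgroup Ω)).autGroup Q' = (groupFusionSystem (⊤ : Subgroup Ω)).autGroup Q' := by
      rw [groupFS_autGroup_eq ha, groupFS_autGroup_eq le_top]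
    have hχP : MulAut.congr (homEquiv (groupFusionSystem (⊤ : Subgroup Ω)) hφ hr) (Q.normalizerMonoidHom ⟨g, hg⟩) ∈
        (groupFusionSystem (P : Subgroup Ω)).autGroup Q' := by
      rw [hEq]
      exact hχ'
    have h1 := pstable_all (groupFusionSystem (P : Subgroup Ω)) h ha hχP hq'
    rw [hEq] at h1
    have h2 := congr_mem_pCore_autGroup (p := p) (groupFusionSystem (⊤ : Subgroup Ω)) he.symm h1
    have e1 : MulAut.congr (homEquiv (groupFusionSystem (⊤ : Subgroup Ω)) hφ hr).symm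
        (MulAut.congr (homEquiv (groupFusionSystem (⊤ : Subgroup Ω)) hφ hr) (Q.normalizerMonoidHom ⟨g, hg⟩)) =
        Q.normalizerMonoidHom ⟨g, hg⟩ := by
      ext x
      simp [MulAut.congr]
    rw [e1, groupFS_autGroup_eq le_top] at h2
    obtain ⟨y, hy, hyχ⟩ := h2
    have hy2 : y = normalizerToAut Q ⟨g, hg⟩ := Subtype.ext hyχ
    rw [hy2] at hy
    exact (G1 Q g hg).mpr hy

end Cfsg.Agent.Lib.Helper26
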