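import Cfsg.Agent.Lib.Helper26.FSBasic

/-!
S5136: existence of the direct product of two fusion systems.
-/

set_option autoImplicit false

namespace Cfsg.Agent.Lib.Helper26

open Cfsg Cfsg.FusionSystem

section Prod

variable {Ω₁ Ω₂ : Type*} [Group Ω₁] [Group Ω₂] {S₁ : Subgroup Ω₁} {S₂ : Subgroup Ω₂}

/-- The set of maps of the product system with source `P`. -/
def prodHomSet (F₁ : FusionSystem S₁) (F₂ : FusionSystem S₂) (P : Subgroup (Ω₁ × Ω₂)) : Set (P →* Ω₁ × Ω₂) :=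
  {φ | P ≤ S₁.prod S₂ ∧
      ∃ φ₁ ∈ F₁.Hom (P.map (MonoidHom.fst Ω₁ Ω₂)), ∃ φ₂ ∈ F₂.Hom (P.map (MonoidHom.snd Ω₁ Ω₂)),
        ∀ (x : P) (h₁ : (x : Ω₁ × Ω₂).1 ∈ P.map (MonoidHom.fst Ω₁ Ω₂))
          (h₂ : (x : Ω₁ × Ω₂).2 ∈ P.map (MonoidHom.snd Ω₁ Ω₂)),
          φ x = (φ₁ ⟨(x : Ω₁ × Ω₂).1, h₁⟩, φ₂ ⟨(x : Ω₁ × Ω₂).2, h₂⟩)}

theorem fst_mem_map {P : Subgroup (Ω₁ × Ω₂)} (x : P) : (x : Ω₁ × Ω₂).1 ∈ P.map (MonoidHom.fst Ω₁ Ω₂) :=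
  ⟨x, x.2, rfl⟩

theorem snd_mem_map {P : Subgroup (Ω₁ × Ω₂)} (x : P) : (x : Ω₁ × Ω₂).2 ∈ P.map (MonoidHom.snd Ω₁ Ω₂) :=
  ⟨x, x.2, rfl⟩

theorem map_fst_le {P : Subgroup (Ω₁ × Ω₂)} (hP : P ≤ S₁.prod S₂) : P.map (MonoidHom.fst Ω₁ Ω₂) ≤ S₁ := by
  rintro _ ⟨x, hx, rfl⟩
  exact (hP hx).1

theorem map_snd_le {P : Subgroup (Ω₁ × Ω₂)} (hP : P ≤ S₁.prod S₂) : P.map (MonoidHom.snd Ω₁ Ω₂) ≤ S₂ := by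
  rintro _ ⟨x, hx, rfl⟩
  exact (hP hx).2

/-- The product homomorphism. -/
def prodHom (P : Subgroup (Ω₁ × Ω₂)) (φ₁ : P.map (MonoidHom.fst Ω₁ Ω₂) →* Ω₁)
    (φ₂ : P.map (MonoidHom.snd Ω₁ Ω₂) →* Ω₂) : P →* Ω₁ × Ω₂ :=
  (φ₁.comp ((MonoidHom.fst Ω₁ Ω₂).subgroupMap P)).prod (φ₂.comp ((MonoidHom.snd Ω₁ Ω₂).subgroupMap P))

theorem prodHom_apply (P : Subgroup (Ω₁ × Ω₂)) (φ₁ : P.map (MonoidHom.fst Ω₁ Ω₂) →* Ω₁)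
    (φ₂ : P.map (MonoidHom.snd Ω₁ Ω₂) →* Ω₂) (x : P) :
    prodHom P φ₁ φ₂ x = (φ₁ ⟨(x : Ω₁ × Ω₂).1, fst_mem_map x⟩, φ₂ ⟨(x : Ω₁ × Ω₂).2, snd_mem_map x⟩) := rfl

theorem prodHomSet_le (F₁ : FusionSystem S₁) (F₂ : FusionSystem S₂) {P : Subgroup (Ω₁ × Ω₂)}
    {φ : P →* Ω₁ × Ω₂} (h : φ ∈ prodHomSet F₁ F₂ P) : P ≤ S₁.prod S₂ ∧ ∀ x : P, φ x ∈ S₁.prod S₂ := by
  obtain ⟨hP, φ₁, hφ₁, φ₂, hφ₂, hφ⟩ := h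
  refine ⟨hP, fun x => ?_⟩
  rw [hφ x (fst_mem_map x) (snd_mem_map x)]
  exact ⟨hom_apply_mem F₁ hφ₁ _, hom_apply_mem F₂ hφ₂ _⟩

theorem prodHomSet_injective (F₁ : FusionSystem S₁) (F₂ : FusionSystem S₂) {P : Subgroup (Ω₁ × Ω₂)}
    {φ : P →* Ω₁ × Ω₂} (h : φ ∈ prodHomSet F₁ F₂ P) : Function.Injective φ := by
  obtain ⟨hP, φ₁, hφ₁, φ₂, hφ₂, hφ⟩ := h
  intro x y hxy
  rw [hφ x (fst_mem_map x) (snd_mem_map x), hφ y (fst_mem_map y) (snd_mem_map y)] at hxy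
  have h1 := F₁.injective_of_mem hφ₁ (congrArg Prod.fst hxy)
  have h2 := F₂.injective_of_mem hφ₂ (congrArg Prod.snd hxy)
  apply Subtype.ext
  exact Prod.ext (congrArg Subtype.val h1) (congrArg Subtype.val h2)

theorem prodHomSet_conj (F₁ : FusionSystem S₁) (F₂ : FusionSystem S₂) {P : Subgroup (Ω₁ × Ω₂)}
    {g : Ω₁ × Ω₂} (hP : P ≤ S₁.prod S₂) (hg : g ∈ S₁.prod S₂) : conjHom P g ∈ prodHomSet F₁ F₂ P := by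
  refine ⟨hP, conjHom _ g.1, F₁.conj_mem (map_fst_le hP) hg.1, conjHom _ g.2, F₂.conj_mem (map_snd_le hP) hg.2,
    fun x h₁ h₂ => ?_⟩
  rfl

theorem prodHomSet_comp (F₁ : FusionSystem S₁) (F₂ : FusionSystem S₂) {P Q : Subgroup (Ω₁ × Ω₂)}
    {φ : P →* Ω₁ × Ω₂} {ψ : Q →* Ω₁ × Ω₂} (hφ' : φ ∈ prodHomSet F₁ F₂ P) (hψ' : ψ ∈ prodHomSet F₁ F₂ Q)
    (h : ∀ x : P, φ x ∈ Q) : ψ.comp (φ.codRestrict Q h) ∈ prodHomSet F₁ F₂ P := by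
  obtain ⟨hP, φ₁, hφ₁, φ₂, hφ₂, hφ⟩ := hφ'
  obtain ⟨hQ, ψ₁, hψ₁, ψ₂, hψ₂, hψ⟩ := hψ'
  have h1 : ∀ y : P.map (MonoidHom.fst Ω₁ Ω₂), φ₁ y ∈ Q.map (MonoidHom.fst Ω₁ Ω₂) := by
    rintro ⟨_, x, hx, rfl⟩
    refine ⟨φ ⟨x, hx⟩, h _, ?_⟩
    rw [hφ ⟨x, hx⟩ (fst_mem_map _) (snd_mem_map _)]
    rfl
  have h2 : ∀ y : P.map (MonoidHom.snd Ω₁ Ω₂), φ₂ y ∈ Q.map (MonoidHom.snd Ω₁ Ω₂) := by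
    rintro ⟨_, x, hx, rfl⟩
    refine ⟨φ ⟨x, hx⟩, h _, ?_⟩
    rw [hφ ⟨x, hx⟩ (fst_mem_map _) (snd_mem_map _)]
    rfl
  refine ⟨hP, _, F₁.comp_mem hφ₁ hψ₁ h1, _, F₂.comp_mem hφ₂ hψ₂ h2, fun x k₁ k₂ => ?_⟩
  show ψ ⟨φ x, h x⟩ = _
  rw [hψ ⟨φ x, h x⟩ (fst_mem_map _) (snd_mem_map _)]
  have e := hφ x k₁ k₂
  apply Prod.ext
  · show ψ₁ ⟨(φ x).1, _⟩ = ψ₁ ⟨φ₁ ⟨(x : Ω₁ × Ω₂).1, k₁⟩, _⟩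
    congr 2
    rw [e]
  · show ψ₂ ⟨(φ x).2, _⟩ = ψ₂ ⟨φ₂ ⟨(x : Ω₁ × Ω₂).2, k₂⟩, _⟩
    congr 2
    rw [e]

theorem prodHomSet_inv (F₁ : FusionSystem S₁) (F₂ : FusionSystem S₂) {P : Subgroup (Ω₁ × Ω₂)}
    {φ : P →* Ω₁ × Ω₂} (h : φ ∈ prodHomSet F₁ F₂ P) :
    ∃ ψ ∈ prodHomSet F₁ F₂ φ.range, ∀ x : P, ψ ⟨φ x, ⟨x, rfl⟩⟩ = (x : Ω₁ × Ω₂) := by
  have hle := prodHomSet_le F₁ F₂ h
  obtain ⟨hP, φ₁, hφ₁, φ₂, hφ₂, hφ⟩ := h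
  have hrS : φ.range ≤ S₁.prod S₂ := by
    rintro _ ⟨x, rfl⟩
    exact hle.2 x
  have hR₁ : φ₁.range = φ.range.map (MonoidHom.fst Ω₁ Ω₂) := by
    apply le_antisymm
    · rintro _ ⟨⟨_, x, hx, rfl⟩, rfl⟩
      refine ⟨φ ⟨x, hx⟩, ⟨_, rfl⟩, ?_⟩
      rw [hφ ⟨x, hx⟩ (fst_mem_map _) (snd_mem_map _)]
      rfl
    · rintro _ ⟨_, ⟨x, rfl⟩, rfl⟩
      rw [hφ x (fst_mem_map _) (snd_mem_map _)]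
      exact ⟨_, rfl⟩
  have hR₂ : φ₂.range = φ.range.map (MonoidHom.snd Ω₁ Ω₂) := by
    apply le_antisymm
    · rintro _ ⟨⟨_, x, hx, rfl⟩, rfl⟩
      refine ⟨φ ⟨x, hx⟩, ⟨_, rfl⟩, ?_⟩
      rw [hφ ⟨x, hx⟩ (fst_mem_map _) (snd_mem_map _)]
      rfl
    · rintro _ ⟨_, ⟨x, rfl⟩, rfl⟩
      rw [hφ x (fst_mem_map _) (snd_mem_map _)]
      exact ⟨_, rfl⟩
  obtain ⟨ψ₁, hψ₁, hψφ₁⟩ := F₁.inv_mem hφ₁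
  obtain ⟨ψ₂, hψ₂, hψφ₂⟩ := F₂.inv_mem hφ₂
  have hψ₁' := hom_congr F₁ hR₁ hψ₁
  have hψ₂' := hom_congr F₂ hR₂ hψ₂
  refine ⟨prodHom φ.range (ψ₁.comp (Subgroup.inclusion hR₁.ge)) (ψ₂.comp (Subgroup.inclusion hR₂.ge)),
    ⟨hrS, _, hψ₁', _, hψ₂', fun x h₁ h₂ => rfl⟩, fun x => ?_⟩
  rw [prodHom_apply]
  have e := hφ x (fst_mem_map _) (snd_mem_map _)
  apply Prod.ext
  · show ψ₁ (Subgroup.inclusion hR₁.ge ⟨(φ x).1, _⟩) = (x : Ω₁ × Ω₂).1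
    have : Subgroup.inclusion hR₁.ge ⟨(φ x).1, fst_mem_map (⟨φ x, ⟨x, rfl⟩⟩ : φ.range)⟩ =
        ⟨φ₁ ⟨(x : Ω₁ × Ω₂).1, fst_mem_map x⟩, ⟨_, rfl⟩⟩ := by
      apply Subtype.ext
      show (φ x).1 = _
      rw [e]
    rw [this, hψφ₁]
  · show ψ₂ (Subgroup.inclusion hR₂.ge ⟨(φ x).2, _⟩) = (x : Ω₁ × Ω₂).2
    have : Subgroup.inclusion hR₂.ge ⟨(φ x).2, snd_mem_map (⟨φ x, ⟨x, rfl⟩⟩ : φ.range)⟩ =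
        ⟨φ₂ ⟨(x : Ω₁ × Ω₂).2, snd_mem_map x⟩, ⟨_, rfl⟩⟩ := by
      apply Subtype.ext
      show (φ x).2 = _
      rw [e]
    rw [this, hψφ₂]

/-- The direct product of two fusion systems. -/
def prodSystem (F₁ : FusionSystem S₁) (F₂ : FusionSystem S₂) : FusionSystem (S₁.prod S₂) where
  Hom P := prodHomSet F₁ F₂ P
  le_of_mem h := prodHomSet_le F₁ F₂ h
  injective_of_mem h := prodHomSet_injective F₁ F₂ h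
  conj_mem hP hg := prodHomSet_conj F₁ F₂ hP hg
  comp_mem hφ hψ h := prodHomSet_comp F₁ F₂ hφ hψ h
  inv_mem h := prodHomSet_inv F₁ F₂ h

theorem prodSystem_isProductSystem (F₁ : FusionSystem S₁) (F₂ : FusionSystem S₂) :
    IsProductSystem F₁ F₂ (prodSystem F₁ F₂) := fun _ _ => Iff.rfl

end Prod

end Cfsg.Agent.Lib.Helper26
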