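import Cfsg.Agent.Lib.Helper26.FSFactorHyp
import Cfsg.Agent.Lib.Helper26.FSFactorExists
import Cfsg.Agent.Lib.Helper26.FSCore
import Cfsg.Agent.Lib.Helper27.FSInner

/-!
S5148: the underlying group of a quasisimple fusion system is nonabelian.
-/

set_option autoImplicit false

namespace Cfsg.Agent.Lib.Helper26

open Cfsg Cfsg.FusionSystem

section Center

variable {Ω : Type*} [Group Ω] {S : Subgroup Ω}

theorem stronglyClosed_of_isCentral (F : FusionSystem S) {Q : Subgroup Ω} (h : F.IsCentral Q) :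
    F.StronglyClosed Q := by
  refine ⟨h.1, fun R hR φ hφ x => ?_⟩
  obtain ⟨ψ, -, hψR, hψQ⟩ := h.2 R φ hφ
  have h1 := hψR x
  have h2 := hψQ ⟨x, hR x.2⟩
  have h12 : Subgroup.inclusion (le_sup_left : R ≤ R ⊔ Q) x =
      Subgroup.inclusion (le_sup_right : Q ≤ R ⊔ Q) ⟨x, hR x.2⟩ := Subtype.ext rfl
  rw [h12, h2] at h1
  rw [← h1]
  exact hR x.2

theorem center_stronglyClosed [Finite S] (F : FusionSystem S) : F.StronglyClosed F.center :=
  stronglyClosed_of_isCentral F (center_isCentral F)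

end Center

section Abelian

variable {Ω : Type*} [Group Ω] {S : Subgroup Ω}

theorem inner_hom_eq_subtype_of_comm (hcomm : ∀ a ∈ S, ∀ b ∈ S, a * b = b * a) {P : Subgroup Ω} {φ : P →* Ω}
    (h : φ ∈ (innerFusionSystem S).Hom P) : φ = P.subtype := by
  obtain ⟨hP, g, hg, hφ⟩ := h
  ext x
  rw [hφ x, hcomm g hg x (hP x.2)]
  simp

theorem subtype_mem_inner {P : Subgroup Ω} (hP : P ≤ S) : P.subtype ∈ (innerFusionSystem S).Hom P :=
  subtype_mem (innerFusionSystem S) hP

/-- Over an abelian group, the inner system is normal in every saturated system. -/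
theorem inner_isNormalIn_of_comm [Finite S] {p : ℕ} [Fact p.Prime] (hS : IsPGroup p S)
    (hcomm : ∀ a ∈ S, ∀ b ∈ S, a * b = b * a) (E : FusionSystem S) (hE : E.IsSaturated p) :
    (innerFusionSystem S).IsNormalIn E p := by
  have hab : IsMulCommutative S := ⟨⟨fun a b => Subtype.ext (hcomm a a.2 b b.2)⟩⟩
  have hnormal : E.IsNormal S := isNormal_of_abelian_stronglyClosed hS E hE S (stronglyClosed_top E)
  refine ⟨⟨Cfsg.Agent.Lib.Helper27.inner_saturated S hS, hE, inner_hom_subset E, stronglyClosed_top E, ?_, ?_⟩, ?_⟩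
  · -- invariance
    intro P hPT φ hφ α _
    have hφ' := inner_hom_eq_subtype_of_comm hcomm hφ
    have hle : (P.subgroupOf S).map (S.subtype.comp α.toMonoidHom) ≤ S := by
      rintro _ ⟨y, -, rfl⟩
      exact SetLike.coe_mem _
    refine ⟨Subgroup.subtype _, subtype_mem_inner hle, fun x hφx hαx => ?_⟩
    show ((α ⟨x, hPT x.2⟩ : S) : Ω) = ((α ⟨φ x, hφx⟩ : S) : Ω)
    congr 2
    apply Subtype.ext
    show (x : Ω) = φ x
    rw [hφ']
    rfl
  · -- Frattini
    intro P hPT φ hφ
    obtain ⟨ψ, hψ, hψP, hψS⟩ := hnormal.2 P φ hφ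
    refine ⟨restrictAut ψ (E.injective_of_mem hψ) le_sup_right hψS, ?_, P.subtype, subtype_mem_inner hPT,
      fun x hx => ?_⟩
    · rw [mem_autGroup_iff E le_rfl]
      exact inclusion_comp_mem E le_sup_right hψ
    · rw [restrictAut_apply, ← hψP x]
      congr 1
  · -- extension condition
    intro α hα
    have hα1 : α = 1 := by
      rw [Cfsg.Agent.Lib.Helper27.inner_autGroup_eq S S le_rfl, mem_autInducedBy_iff] at hα
      obtain ⟨g, hg, hgα⟩ := hα
      ext x
      rw [hgα x, hcomm g hg x x.2]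
      simp
    refine ⟨1, Subgroup.one_mem _, fun x => ?_, fun c _ => ?_⟩
    · rw [hα1]
      rfl
    · simp

/-- A system over an abelian group with the maps of the inner system has trivial hyperfocal subgroup. -/
theorem hyperfocal_eq_bot_of_inner (hcomm : ∀ a ∈ S, ∀ b ∈ S, a * b = b * a) (E : FusionSystem S) (p : ℕ)
    (h : ∀ P : Subgroup Ω, (innerFusionSystem S).Hom P = E.Hom P) : E.hyperfocalSubgroup p = ⊥ := by
  unfold FusionSystem.hyperfocalSubgroup
  rw [Subgroup.closure_eq_bot_iff]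
  rintro y ⟨P, α, x, hPS, -, rfl⟩
  have hα : (α : MulAut P) = 1 := by
    have h1 := (mem_autGroup_iff E hPS (α : MulAut P)).mp α.2
    rw [← h P] at h1
    have h2 := inner_hom_eq_subtype_of_comm hcomm h1
    ext z
    have := congrArg (fun f : P →* Ω => f z) h2
    exact this
  rw [hα]
  simp

end Abelian

section Main

variable {Ω : Type*} [Group Ω] {S : Subgroup Ω}

/-- S5148. -/
theorem not_comm_of_quasisimple [Finite S] (p : ℕ) [Fact p.Prime] (hS : IsPGroup p S) (F : FusionSystem S)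
    (hq : F.Quasisimple p) : ¬ IsMulCommutative S := by
  intro hab
  obtain ⟨hF, hhyp, hsimple⟩ := hq
  have hZ := center_stronglyClosed F
  have hker : ∀ s : S, QuotientGroup.mk' ((F.center).subgroupOf S) s = 1 ↔ (s : Ω) ∈ F.center := by
    intro s
    rw [QuotientGroup.mk'_apply, QuotientGroup.eq_one_iff]
    exact Subgroup.mem_subgroupOf
  have hrange : (QuotientGroup.mk' ((F.center).subgroupOf S)).range = ⊤ :=
    MonoidHom.range_eq_top.mpr (QuotientGroup.mk'_surjective _)
  have hfac := factorSystem_isFactorSystem F hZ _ hker hrange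
  obtain ⟨hEsat, hne, hnorm⟩ := hsimple _ hfac
  have hcomm : ∀ a ∈ (⊤ : Subgroup (S ⧸ (F.center).subgroupOf S)), ∀ b ∈ (⊤ : Subgroup (S ⧸ (F.center).subgroupOf S)),
      a * b = b * a := by
    intro a _ b _
    obtain ⟨a, rfl⟩ := QuotientGroup.mk_surjective a
    obtain ⟨b, rfl⟩ := QuotientGroup.mk_surjective b
    rw [← QuotientGroup.mk_mul, ← QuotientGroup.mk_mul, hab.1.comm a b]
  have hpT : IsPGroup p ↥(⊤ : Subgroup (S ⧸ (F.center).subgroupOf S)) :=
    (hS.to_quotient _).to_subgroup ⊤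
  have hI := inner_isNormalIn_of_comm hpT hcomm _ hEsat
  rcases hnorm ⊤ (innerFusionSystem ⊤) hI with h | ⟨-, h⟩
  · exact hne h
  · have h1 := hyperfocal_eq_bot_of_inner hcomm _ p h
    have h2 := factor_hyperfocal p hS F hF F.center hZ _ _ hfac
    rw [h1, hhyp, Subgroup.subgroupOf_self, ← MonoidHom.range_eq_map, hrange] at h2
    exact hne h2.symm

end Main

end Cfsg.Agent.Lib.Helper26
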