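import Cfsg.Agent.Lib.Helper26.FSQuotientFusion
import Cfsg.Agent.Lib.Helper26.FSFactor

/-!
S5135: the fusion system of `G/H` is the factor system of the fusion system of `G` modulo `S ∩ H`.
-/

set_option autoImplicit false

namespace Cfsg.Agent.Lib.Helper26

open Cfsg Cfsg.FusionSystem

variable {G : Type*} [Group G]

theorem groupFS_quotient_isFactorSystem [Finite G] (p : ℕ) [Fact p.Prime] (S : Sylow p G) (H : Subgroup G)
    [H.Normal] :
    (groupFusionSystem (S : Subgroup G)).IsFactorSystem ((S : Subgroup G) ⊓ H)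
      ((QuotientGroup.mk' H).comp (S : Subgroup G).subtype)
      (groupFusionSystem ((S : Subgroup G).map (QuotientGroup.mk' H))) := by
  refine ⟨inf_le_left, ?_, ?_, ?_⟩
  · intro s
    show (QuotientGroup.mk (s : G) : G ⧸ H) = 1 ↔ _
    rw [QuotientGroup.eq_one_iff]
    exact ⟨fun h => ⟨s.2, h⟩, fun h => h.2⟩
  · rw [MonoidHom.range_comp, Subgroup.range_subtype]
  · intro P' φ'
    constructor
    · rintro ⟨hP', hφ'S, γ, hγ⟩
      refine ⟨hP', ?_⟩
      have hPS := preimageAlong_le ((QuotientGroup.mk' H).comp (S : Subgroup G).subtype) P'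
      have hmem : ∀ x ∈ preimageAlong ((QuotientGroup.mk' H).comp (S : Subgroup G).subtype) P',
          (QuotientGroup.mk x : G ⧸ H) ∈ P' := by
        intro x hx
        obtain ⟨hxS, h⟩ := (mem_preimageAlong_iff _ _ _).mp hx
        exact h
      have hγ' : ∀ x ∈ preimageAlong ((QuotientGroup.mk' H).comp (S : Subgroup G).subtype) P',
          γ * QuotientGroup.mk x * γ⁻¹ ∈ ((S : Subgroup G).map (QuotientGroup.mk' H)) := by
        intro x hx
        have := hφ'S ⟨_, hmem x hx⟩
        rw [hγ] at this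
        exact this
      obtain ⟨g, hg⟩ := exists_lift_conj H S _ hPS γ hγ'
      refine ⟨conjHom _ g, ⟨hPS, fun x => (hg x x.2).1, g, fun _ => rfl⟩, hPS, fun x => (hg x x.2).1,
        fun x => hmem x x.2, ?_⟩
      intro x
      rw [hγ]
      exact ((hg x x.2).2).symm
    · rintro ⟨hP', φ, ⟨hPS, hφS, g, hg⟩, hP, hφ, hPP', hind⟩
      have key : ∀ x' : P', ∃ s : (S : Subgroup G), ∃ hs : (s : G) ∈ preimageAlong
          ((QuotientGroup.mk' H).comp (S : Subgroup G).subtype) P',
          (QuotientGroup.mk (s : G) : G ⧸ H) = x' := by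
        intro x'
        obtain ⟨s, hs, hsx⟩ := hP' x'.2
        refine ⟨⟨s, hs⟩, ?_, hsx⟩
        rw [mem_preimageAlong_iff]
        refine ⟨hs, ?_⟩
        show (QuotientGroup.mk s : G ⧸ H) ∈ P'
        have : (QuotientGroup.mk s : G ⧸ H) = x' := hsx
        rw [this]
        exact x'.2
      have hval : ∀ x' : P', ∃ s : (S : Subgroup G), g * (s : G) * g⁻¹ ∈ (S : Subgroup G) ∧
          (QuotientGroup.mk (s : G) : G ⧸ H) = x' ∧
          φ' x' = QuotientGroup.mk (g * (s : G) * g⁻¹) := by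
        intro x'
        obtain ⟨s, hs, hsx⟩ := key x'
        have h1 := hind ⟨s, hs⟩
        have h2 := hg ⟨s, hs⟩
        have h3 := hφS ⟨s, hs⟩
        rw [h2] at h3
        refine ⟨s, h3, hsx, ?_⟩
        have e : x' = ⟨((QuotientGroup.mk' H).comp (S : Subgroup G).subtype) ⟨(s : G), hP hs⟩, hPP' ⟨s, hs⟩⟩ :=
          Subtype.ext hsx.symm
        rw [e, h1]
        show (QuotientGroup.mk (φ ⟨s, hs⟩) : G ⧸ H) = _
        rw [h2]
      refine ⟨hP', fun x' => ?_, QuotientGroup.mk g, fun x' => ?_⟩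
      · obtain ⟨s, hsS, hsx, hφ'⟩ := hval x'
        rw [hφ']
        exact ⟨_, hsS, rfl⟩
      · obtain ⟨s, hsS, hsx, hφ'⟩ := hval x'
        rw [hφ', ← hsx]
        simp only [QuotientGroup.mk_mul, QuotientGroup.mk_inv]

end Cfsg.Agent.Lib.Helper26
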