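import Cfsg.Agent.Lib.Helper26.FSGroup

/-!
S5191: fusion in `G` and in `G/N` agree (lifting conjugation from the quotient).
-/

set_option autoImplicit false

namespace Cfsg.Agent.Lib.Helper26

open Cfsg Cfsg.FusionSystem

variable {G : Type*} [Group G]

theorem exists_lift_conj [Finite G] {p : ℕ} [Fact p.Prime] (N : Subgroup G) [N.Normal] (S : Sylow p G)
    (P : Subgroup G) (hP : P ≤ (S : Subgroup G)) (γ : G ⧸ N)
    (hγ : ∀ x ∈ P, γ * QuotientGroup.mk x * γ⁻¹ ∈ ((S : Subgroup G).map (QuotientGroup.mk' N))) :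
    ∃ g : G, ∀ x ∈ P, g * x * g⁻¹ ∈ S ∧
      (QuotientGroup.mk (g * x * g⁻¹) : G ⧸ N) = γ * QuotientGroup.mk x * γ⁻¹ := by
  obtain ⟨h, rfl⟩ := QuotientGroup.mk_surjective γ
  have hSyl : ∃ R : Sylow p ↥((S : Subgroup G) ⊔ N),
      (R : Subgroup ↥((S : Subgroup G) ⊔ N)) = (S : Subgroup G).subgroupOf ((S : Subgroup G) ⊔ N) := by
    rw [sylowIn_iff_card le_sup_left]
    refine ⟨S.isPGroup', fun B _ hB => ?_⟩
    obtain ⟨g, hg⟩ := exists_conj_le_sylow S hB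
    rw [← card_map_conj B g]
    exact Subgroup.card_le_of_le hg
  have hBK : P.map (MulAut.conj h).toMonoidHom ≤ (S : Subgroup G) ⊔ N := by
    rintro _ ⟨x, hx, rfl⟩
    obtain ⟨s, hs, hsx⟩ := hγ x hx
    have h1 : (QuotientGroup.mk s : G ⧸ N) = QuotientGroup.mk (h * x * h⁻¹) := by
      rw [QuotientGroup.mk_mul, QuotientGroup.mk_mul, QuotientGroup.mk_inv]
      exact hsx
    have h2 : s⁻¹ * (h * x * h⁻¹) ∈ N := QuotientGroup.eq.mp h1
    have h3 : h * x * h⁻¹ = s * (s⁻¹ * (h * x * h⁻¹)) := by simp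
    show h * x * h⁻¹ ∈ _
    rw [h3]
    exact Subgroup.mul_mem _ (Subgroup.mem_sup_left hs) (Subgroup.mem_sup_right h2)
  obtain ⟨k, hk, hkB⟩ := exists_conj_le_of_sylowIn hSyl hBK
    (isPGroup_map_conj (S.isPGroup'.to_le hP) h)
  have hk' : k ∈ (((S : Subgroup G) ⊔ N : Subgroup G) : Set G) := hk
  rw [Subgroup.mul_normal] at hk'
  obtain ⟨s, hs, n, hn, rfl⟩ := hk'
  refine ⟨n * h, fun x hx => ⟨?_, ?_⟩⟩
  · have h1 : s * n * (h * x * h⁻¹) * (s * n)⁻¹ ∈ (S : Subgroup G) := hkB ⟨_, ⟨x, hx, rfl⟩, rfl⟩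
    have h2 : s⁻¹ * (s * n * (h * x * h⁻¹) * (s * n)⁻¹) * s ∈ (S : Subgroup G) :=
      Subgroup.mul_mem _ (Subgroup.mul_mem _ (Subgroup.inv_mem _ hs) h1) hs
    have h3 : s⁻¹ * (s * n * (h * x * h⁻¹) * (s * n)⁻¹) * s = n * h * x * (n * h)⁻¹ := by
      simp [mul_assoc]
    rw [h3] at h2
    exact h2
  · have hn1 : (QuotientGroup.mk n : G ⧸ N) = 1 := (QuotientGroup.eq_one_iff n).mpr hn
    simp only [QuotientGroup.mk_mul, QuotientGroup.mk_inv, hn1, one_mul]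

end Cfsg.Agent.Lib.Helper26
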