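import Cfsg.Agent.Lib.Helper26.OliverG
import Cfsg.Agent.Lib.Helper27.FSPrimeToP
import Cfsg.Agent.Lib.Helper27.FSAlperinStrong
import Cfsg.Agent.Lib.Helper27.FSCentric

/-!
The subsystem of the maps which, on large centric subgroups, act on `Z(S)` like an element of `Aut_F(S)`; the
Frattini argument showing that it is everything when the `p`-elements of the automizers of the large essential
subgroups centralize `Z(S)`.
-/

set_option autoImplicit false
universe u

namespace Cfsg.Agent.Lib.Helper26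

open Cfsg Cfsg.FusionSystem Cfsg.Agent.Lib.Helper27

section OliverH

variable {Ω : Type u} [Group Ω] {S : Subgroup Ω}

/-- Automorphisms of `S` preserve its centre. -/
theorem aut_center_mem_ol (β : MulAut S) {z : Ω} (hz : z ∈ S ⊓ Subgroup.centralizer (S : Set Ω)) :
    ((β ⟨z, hz.1⟩ : S) : Ω) ∈ S ⊓ Subgroup.centralizer (S : Set Ω) := by
  rw [mem_inf_centralizer_iff]
  refine ⟨(β ⟨z, hz.1⟩).2, fun s hs => ?_⟩
  have h1 : (β.symm ⟨s, hs⟩ : S) * ⟨z, hz.1⟩ = ⟨z, hz.1⟩ * β.symm ⟨s, hs⟩ :=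
    Subtype.ext ((mem_inf_centralizer_iff.mp hz).2 _ (β.symm ⟨s, hs⟩).2)
  have h2 := congrArg (fun u : S => ((β u : S) : Ω)) h1
  simpa using h2

/-- The centre of `S` lies in every centric subgroup. -/
theorem center_le_of_isCentric (F : FusionSystem S) {P : Subgroup Ω} (hP : F.IsCentric P) :
    S ⊓ Subgroup.centralizer (S : Set Ω) ≤ P := by
  intro z hz
  apply hP.2 P (isConj_refl F hP.1)
  rw [mem_centralizerIn_iff]
  exact ⟨hz.1, fun w hw => (mem_inf_centralizer_iff.mp hz).2 w (hP.1 hw)⟩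

/-- The maps of `F` which, when their source is centric of order larger than `n₀`, agree on `Z(S)` with an
element of `Aut_F(S)`. -/
def zSystem [Finite S] (F : FusionSystem S) (n₀ : ℕ) : FusionSystem S where
  Hom R := {φ | φ ∈ F.Hom R ∧ (F.IsCentric R → n₀ < Nat.card R →
      ∃ β ∈ F.autGroup S, ∀ (z : Ω) (hz : z ∈ S ⊓ Subgroup.centralizer (S : Set Ω)) (hzR : z ∈ R),
        φ ⟨z, hzR⟩ = ((β ⟨z, hz.1⟩ : S) : Ω))}
  le_of_mem h := F.le_of_mem h.1
  injective_of_mem h := F.injective_of_mem h.1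
  conj_mem := by
    intro P g hP hg
    refine ⟨F.conj_mem hP hg, fun _ _ => ⟨1, Subgroup.one_mem _, fun z hz hzR => ?_⟩⟩
    show g * z * g⁻¹ = z
    rw [(mem_inf_centralizer_iff.mp hz).2 g hg, mul_inv_cancel_right]
  comp_mem := by
    intro P Q φ ψ hφ hψ h
    refine ⟨F.comp_mem hφ.1 hψ.1 h, fun hc hn => ?_⟩
    obtain ⟨β₁, hβ₁, h1⟩ := hφ.2 hc hn
    have hQS : Q ≤ S := (F.le_of_mem hψ.1).1
    have hfinQ : Finite Q := finite_of_le hQS
    have hcr : F.IsCentric φ.range := isCentric_of_isConj F hc ⟨φ, hφ.1, rfl⟩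
    have hrQ : φ.range ≤ Q := by
      rintro _ ⟨w, rfl⟩
      exact h w
    have hcQ : F.IsCentric Q := isCentric_of_le F hcr hrQ hQS
    have hnQ : n₀ < Nat.card Q := by
      have e1 : Nat.card P = Nat.card φ.range :=
        Nat.card_congr (MonoidHom.ofInjective (F.injective_of_mem hφ.1)).toEquiv
      have e2 : Nat.card φ.range ≤ Nat.card Q := Subgroup.card_le_of_le hrQ
      omega
    obtain ⟨β₂, hβ₂, h2⟩ := hψ.2 hcQ hnQ
    refine ⟨β₂ * β₁, Subgroup.mul_mem _ hβ₂ hβ₁, fun z hz hzP => ?_⟩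
    have hz' := aut_center_mem_ol β₁ hz
    have e : (φ.codRestrict Q h ⟨z, hzP⟩ : Q) = ⟨((β₁ ⟨z, hz.1⟩ : S) : Ω), h1 z hz hzP ▸ h ⟨z, hzP⟩⟩ :=
      Subtype.ext (h1 z hz hzP)
    show ψ (φ.codRestrict Q h ⟨z, hzP⟩) = _
    rw [e, h2 _ hz']
    rfl
  inv_mem := by
    intro P φ hφ
    obtain ⟨ψ, hψ, hψx⟩ := F.inv_mem hφ.1
    refine ⟨ψ, ⟨hψ, fun hc hn => ?_⟩, hψx⟩
    have hconj : F.IsConj P φ.range := ⟨φ, hφ.1, rfl⟩
    have hcP : F.IsCentric P := isCentric_of_isConj F hc (isConj_symm F hconj)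
    have hnP : n₀ < Nat.card P := by
      have e1 : Nat.card P = Nat.card φ.range :=
        Nat.card_congr (MonoidHom.ofInjective (F.injective_of_mem hφ.1)).toEquiv
      omega
    obtain ⟨β, hβ, h1⟩ := hφ.2 hcP hnP
    refine ⟨β⁻¹, Subgroup.inv_mem _ hβ, fun z hz hzR => ?_⟩
    have hz' := aut_center_mem_ol β⁻¹ hz
    have hz'P := center_le_of_isCentric F hcP hz'
    have h2 := h1 _ hz' hz'P
    have h3 : ((β ⟨((β⁻¹ ⟨z, hz.1⟩ : S) : Ω), hz'.1⟩ : S) : Ω) = z := by
      have : (⟨((β⁻¹ ⟨z, hz.1⟩ : S) : Ω), hz'.1⟩ : S) = β⁻¹ ⟨z, hz.1⟩ := rfl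
      rw [this, MulAut.apply_inv_self]
    rw [h3] at h2
    have e : (⟨z, hzR⟩ : φ.range) = ⟨φ ⟨_, hz'P⟩, ⟨_, rfl⟩⟩ := Subtype.ext h2.symm
    rw [e, hψx]


/-- If the `p`-elements of the automizers of the essential subgroups of order larger than `n₀` centralize
`Z(S)`, every map of `F` lies in `zSystem F n₀`. -/
theorem hom_subset_zSystem [Finite S] {p : ℕ} [Fact p.Prime] (hS : IsPGroup p S) (F : FusionSystem S)
    (hF : F.IsSaturated p) (n₀ : ℕ)
    (hK : ∀ P : Subgroup Ω, F.IsEssential p P → n₀ < Nat.card P → ∀ γ ∈ F.autGroup P,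
      (∃ k : ℕ, orderOf γ = p ^ k) →
      ∀ (z : Ω) (_ : z ∈ S ⊓ Subgroup.centralizer (S : Set Ω)) (hzP : z ∈ P), γ ⟨z, hzP⟩ = ⟨z, hzP⟩) :
    ∀ P : Subgroup Ω, F.Hom P ⊆ (zSystem F n₀).Hom P := by
  apply alperin_strong hS F hF
  intro P hP IH
  rcases hP with rfl | hess
  · intro α hα
    rw [mem_autGroup_iff _ le_rfl]
    exact ⟨(mem_autGroup_iff F le_rfl α).mp hα, fun _ _ => ⟨α, hα, fun z hz hzR => rfl⟩⟩
  · have hPS : P ≤ S := hess.2.1.1
    by_cases hn : n₀ < Nat.card P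
    · have hne : P ≠ S := essential_ne_top hS F hF hess
      have hKP := hK P hess hn
      obtain ⟨hcen, hfn, -⟩ := hess
      have hfinP : Finite P := finite_of_le hPS
      obtain ⟨-, R, hR⟩ := (saturated_fn hS F hF hfn).2
      have hRec := saturated_fn_receptive hS F hF hfn
      let K' : Subgroup ↥(F.autGroup P) := Subgroup.closure {α : F.autGroup P | ∃ k : ℕ, orderOf α = p ^ k}
      have hK'n : K'.Normal := by
        apply Cfsg.Agent.Lib.Helper8.closure_normal_of_conj_invariant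
        rintro g s ⟨k, hk⟩
        exact ⟨k, by rw [Cfsg.Agent.Lib.Helper8.orderOf_conj', hk]⟩
      let B : Subgroup ↥(F.autGroup P) := ((zSystem F n₀).autGroup P).subgroupOf (F.autGroup P)
      have hK'B : K' ≤ B := by
        apply (Subgroup.closure_le B).mpr
        rintro γ ⟨k, hk⟩
        show (γ : MulAut P) ∈ (zSystem F n₀).autGroup P
        rw [mem_autGroup_iff _ hPS]
        refine ⟨(mem_autGroup_iff F hPS _).mp γ.2, fun _ _ => ⟨1, Subgroup.one_mem _, fun z hz hzP => ?_⟩⟩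
        have hk' : orderOf (γ : MulAut P) = p ^ k := by rw [Subgroup.orderOf_coe, hk]
        have := hKP (γ : MulAut P) γ.2 ⟨k, hk'⟩ z hz hzP
        show (((γ : MulAut P) ⟨z, hzP⟩ : P) : Ω) = z
        rw [this]
      obtain ⟨U, hU⟩ := sylowIn_inf_of_normal R K'
      have hfrat := Sylow.normalizer_sup_eq_top U
      have hUmap : (U : Subgroup ↥K').map K'.subtype = (R : Subgroup ↥(F.autGroup P)) ⊓ K' := by
        rw [hU]
        exact Subgroup.map_subgroupOf_eq_of_le inf_le_right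
      rw [hUmap] at hfrat
      obtain ⟨g₀, hg₀N, hg₀P⟩ := exists_mem_normalizerIn_not_mem hS hPS hne
      have hNB : Subgroup.normalizer
          (((R : Subgroup ↥(F.autGroup P)) ⊓ K' : Subgroup ↥(F.autGroup P)) : Set ↥(F.autGroup P)) ≤ B := by
        intro γ hγ
        have hNT : normalizerIn S P ≤ extender S P (equivHom ((γ : MulAut P) : P ≃* P)) := by
          intro t ht
          have htS : t ∈ S := ht.1
          have htN : t ∈ Subgroup.normalizer (P : Set Ω) := ht.2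
          have haF : P.normalizerMonoidHom ⟨t, htN⟩ ∈ F.autGroup P :=
            autInducedBy_le_autGroup F hPS (normalizerMonoidHom_mem_autInducedBy htS htN)
          have haR : (⟨_, haF⟩ : ↥(F.autGroup P)) ∈ (R : Subgroup ↥(F.autGroup P)) := by
            rw [hR, Subgroup.mem_subgroupOf]
            exact normalizerMonoidHom_mem_autInducedBy htS htN
          have haK : (⟨_, haF⟩ : ↥(F.autGroup P)) ∈ K' := by
            apply Subgroup.subset_closure
            obtain ⟨k, hk⟩ := (IsPGroup.iff_orderOf.mp R.isPGroup') ⟨_, haR⟩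
            rw [Subgroup.orderOf_mk] at hk
            exact ⟨k, hk⟩
          have h1 := (Subgroup.mem_normalizer_iff.mp hγ _).mp ⟨haR, haK⟩
          have h2 : (γ * ⟨_, haF⟩ * γ⁻¹ : ↥(F.autGroup P)) ∈ (R : Subgroup ↥(F.autGroup P)) := h1.1
          rw [hR, Subgroup.mem_subgroupOf] at h2
          obtain ⟨h, hhS, hh⟩ := (mem_autInducedBy_iff S P _).mp h2
          rw [mem_extender_iff]
          refine ⟨htS, htN, h, hhS, fun x hx => ?_⟩
          have h3 := hh ((γ : MulAut P) x)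
          have h4 : ((γ * ⟨_, haF⟩ * γ⁻¹ : ↥(F.autGroup P)) : MulAut P) ((γ : MulAut P) x) =
              (γ : MulAut P) ⟨t * x * t⁻¹, hx⟩ := by
            show (γ : MulAut P) ((P.normalizerMonoidHom ⟨t, htN⟩) ((γ : MulAut P)⁻¹ ((γ : MulAut P) x))) = _
            rw [MulAut.inv_apply_self]
            rfl
          rw [h4] at h3
          exact h3
        show (γ : MulAut P) ∈ (zSystem F n₀).autGroup P
        exact mem_autGroup_of_extender F (zSystem F n₀) hRec IH γ.2 (hNT hg₀N) hg₀P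
      intro α hα
      have htop : (⟨α, hα⟩ : ↥(F.autGroup P)) ∈ (⊤ : Subgroup ↥(F.autGroup P)) := Subgroup.mem_top _
      rw [← hfrat] at htop
      exact (sup_le hNB hK'B) htop
    · intro α hα
      rw [mem_autGroup_iff _ hPS]
      exact ⟨(mem_autGroup_iff F hPS α).mp hα, fun _ h => absurd h hn⟩

/-- Consequence: a map of `F` defined on a centric subgroup of order larger than `n₀` agrees on `Z(S)` with an
element of `Aut_F(S)`. -/
theorem exists_aut_of_hom_zsys [Finite S] {p : ℕ} [Fact p.Prime] (hS : IsPGroup p S) (F : FusionSystem S)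
    (hF : F.IsSaturated p) (n₀ : ℕ)
    (hK : ∀ P : Subgroup Ω, F.IsEssential p P → n₀ < Nat.card P → ∀ γ ∈ F.autGroup P,
      (∃ k : ℕ, orderOf γ = p ^ k) →
      ∀ (z : Ω) (_ : z ∈ S ⊓ Subgroup.centralizer (S : Set Ω)) (hzP : z ∈ P), γ ⟨z, hzP⟩ = ⟨z, hzP⟩)
    {R : Subgroup Ω} {φ : R →* Ω} (hφ : φ ∈ F.Hom R) (hc : F.IsCentric R) (hn : n₀ < Nat.card R) :
    ∃ β ∈ F.autGroup S, ∀ (z : Ω) (hz : z ∈ S ⊓ Subgroup.centralizer (S : Set Ω)) (hzR : z ∈ R),
      φ ⟨z, hzR⟩ = ((β ⟨z, hz.1⟩ : S) : Ω) :=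
  (hom_subset_zSystem hS F hF n₀ hK R hφ).2 hc hn

end OliverH

end Cfsg.Agent.Lib.Helper26
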