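import Cfsg.Agent.Lib.Helper26.EssTransvA
import Cfsg.Agent.Lib.Helper26.FSNormalCrit
import Cfsg.Agent.Lib.Helper26.FSAlperin
import Cfsg.Agent.Lib.Helper26.OliverH
import Cfsg.Agent.Lib.Helper27.FSPrimeToP
import Cfsg.Prelude.Def_LieRecognition

/-!
A resistance criterion: if all elements of order at most `p` of the `p`-group `S` are central and all commutators
have order at most `p`, then `S` is normal in every saturated fusion system on `S`.
-/

set_option autoImplicit false
universe u

namespace Cfsg.Agent.Lib.Helper26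

open Cfsg Cfsg.FusionSystem Cfsg.Agent.Lib.Helper27

variable {Ω : Type u} [Group Ω] {S : Subgroup Ω} [Finite S] {p : ℕ} [Fact p.Prime]

/-- No essential subgroups when `Ω₁(S) ≤ Z(S)` and `S' ≤ Ω₁(S)`. -/
theorem not_essential_of_omega_central (hS : IsPGroup p S) (F : FusionSystem S) (hF : F.IsSaturated p)
    (hΩ : ∀ x ∈ S, x ^ p = 1 → ∀ s ∈ S, s * x = x * s)
    (hcomm : ∀ a ∈ S, ∀ b ∈ S, (a⁻¹ * b⁻¹ * a * b) ^ p = 1) {E : Subgroup Ω} (hE : F.IsEssential p E) : False := by
  have hES : E ≤ S := hE.1.1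
  have hfinE : Finite E := finite_of_le hES
  have hne : E ≠ S := essential_ne_top hS F hF hE
  obtain ⟨t, htNS, htE⟩ := exists_mem_normalizerIn_not_mem hS hES hne
  have htS : t ∈ S := htNS.1
  have htN : t ∈ Subgroup.normalizer (E : Set Ω) := htNS.2
  have hd := essData_of_essential hS F hE
  have hEp : IsPGroup p E := hS.to_le hES
  apply htE
  apply mem_of_normalizerMonoidHom_mem_inn F hE.1 htS htN
  obtain ⟨K, hK⟩ : ∃ K : Subgroup ↥E, ∀ x : ↥E, x ∈ K ↔ x ^ p = 1 := by
    refine ⟨{ carrier := {x | x ^ p = 1}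
              one_mem' := one_pow p
              mul_mem' := ?_
              inv_mem' := ?_ }, fun x => Iff.rfl⟩
    · intro x y hx hy
      have hx' : (x : Ω) ^ p = 1 := by
        have := congrArg Subtype.val hx
        rwa [Subgroup.coe_pow] at this
      have hc : Commute x y := Subtype.ext (hΩ x (hES x.2) hx' y (hES y.2)).symm
      show (x * y) ^ p = 1
      rw [hc.mul_pow, show x ^ p = 1 from hx, show y ^ p = 1 from hy, one_mul]
    · intro x hx
      show x⁻¹ ^ p = 1
      rw [inv_pow, show x ^ p = 1 from hx, inv_one]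
  refine hd.mem_inn_of_stab hEp (K := K) ?_
    (autInducedBy_le_autGroup F hES (normalizerMonoidHom_mem_autInducedBy htS htN)) ?_ ?_
  · intro γ _ x
    rw [hK, hK, ← map_pow]
    exact (map_eq_one_iff γ γ.injective).symm
  · intro x hx
    rw [hK] at hx
    have hx' : (x : Ω) ^ p = 1 := by
      have := congrArg Subtype.val hx
      rwa [Subgroup.coe_pow] at this
    apply Subtype.ext
    show t * (x : Ω) * t⁻¹ = x
    rw [hΩ x (hES x.2) hx' t htS]
    group
  · intro x
    rw [hK]
    apply Subtype.ext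
    rw [Subgroup.coe_pow]
    show ((x : Ω)⁻¹ * (t * (x : Ω) * t⁻¹)) ^ p = 1
    have := hcomm x (hES x.2) t⁻¹ (S.inv_mem htS)
    rw [inv_inv] at this
    have e : (x : Ω)⁻¹ * (t * (x : Ω) * t⁻¹) = (x : Ω)⁻¹ * t * (x : Ω) * t⁻¹ := by group
    rw [e]
    exact this

/-- **Resistance criterion.** -/
theorem isNormal_of_omega_central (hS : IsPGroup p S) (F : FusionSystem S) (hF : F.IsSaturated p)
    (hΩ : ∀ x ∈ S, x ^ p = 1 → ∀ s ∈ S, s * x = x * s)
    (hcomm : ∀ a ∈ S, ∀ b ∈ S, (a⁻¹ * b⁻¹ * a * b) ^ p = 1) : F.IsNormal S := by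
  apply isNormal_of_forall_aut hS F hF
  intro P hP
  rcases hP with rfl | hP
  · refine ⟨le_rfl, fun α _ => ?_⟩
    have : P.subgroupOf P = ⊤ := Subgroup.subgroupOf_self P
    rw [this]
    exact Subgroup.map_top_of_surjective _ α.surjective
  · exact absurd hP (fun h => not_essential_of_omega_central hS F hF hΩ hcomm h)

end Cfsg.Agent.Lib.Helper26
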