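import Cfsg.Agent.Lib.Helper26.FSCentricExt
import Cfsg.Agent.Lib.Helper26.FSNormalExt

/-!
S5111: saturation iff `S` is fully automized and every fully normalized subgroup is receptive.
-/

set_option autoImplicit false

namespace Cfsg.Agent.Lib.Helper26

open Cfsg Cfsg.FusionSystem

variable {Ω : Type*} [Group Ω] {S : Subgroup Ω}

/-- A `p`-element of `Aut_F(P)`, `P` fully automized, is conjugate into `Aut_S(P)`. -/
theorem exists_conj_eq_normalizerMonoidHom' [Finite S] {p : ℕ} [Fact p.Prime]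
    (F : FusionSystem S) {P : Subgroup Ω} (hP : F.IsFullyAutomized p P) (α : F.autGroup P)
    (k : ℕ) (hα : α ^ (p ^ k) = 1) :
    ∃ β : F.autGroup P, ∃ s ∈ S, ∃ hs : s ∈ Subgroup.normalizer (P : Set Ω),
      ((β * α * β⁻¹ : F.autGroup P) : MulAut P) = P.normalizerMonoidHom ⟨s, hs⟩ := by
  have hfinP : Finite P := finite_of_le hP.1
  obtain ⟨-, T, hT⟩ := hP
  have hB : IsPGroup p (Subgroup.zpowers α) := by
    rintro ⟨g, hg⟩
    obtain ⟨j, rfl⟩ := Subgroup.mem_zpowers_iff.mp hg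
    refine ⟨k, Subtype.ext ?_⟩
    show (α ^ j) ^ (p ^ k) = 1
    rw [← zpow_natCast, ← zpow_mul, mul_comm, zpow_mul, zpow_natCast, hα, one_zpow]
  obtain ⟨β, hβ⟩ := exists_conj_le_sylow T hB
  have h1 : β * α * β⁻¹ ∈ (T : Subgroup (F.autGroup P)) := hβ ⟨α, Subgroup.mem_zpowers α, rfl⟩
  rw [hT, Subgroup.mem_subgroupOf] at h1
  obtain ⟨s, hsS, hsN, hs⟩ := (mem_autInducedBy_iff' _ _ _).mp h1
  exact ⟨β, s, hsS, hsN, hs⟩

/-- If `β c_t β⁻¹` is induced by an element of `S`, then `t` lies in the extender of `β`. -/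
theorem mem_extender_of_conj_mem {U : Subgroup Ω} (β : MulAut U) {t : Ω} (htS : t ∈ S)
    (htN : t ∈ Subgroup.normalizer (U : Set Ω))
    (h : β * U.normalizerMonoidHom ⟨t, htN⟩ * β⁻¹ ∈ autInducedBy S U) :
    t ∈ extender S U (U.subtype.comp (β : U ≃* U).toMonoidHom) := by
  obtain ⟨h', hhS, hhN, hh⟩ := (mem_autInducedBy_iff' _ _ _).mp h
  rw [mem_extender_iff]
  refine ⟨htS, htN, h', hhS, fun x hx => ?_⟩
  have h1 : (((β * U.normalizerMonoidHom ⟨t, htN⟩ * β⁻¹) (β x) : U) : Ω) =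
      ((U.normalizerMonoidHom ⟨h', hhN⟩ (β x) : U) : Ω) := by rw [hh]
  have h2 : (((β * U.normalizerMonoidHom ⟨t, htN⟩ * β⁻¹) (β x) : U) : Ω) =
      ((β (U.normalizerMonoidHom ⟨t, htN⟩ x) : U) : Ω) := by
    simp [MulAut.mul_apply]
  rw [h2] at h1
  show ((β ⟨t * x * t⁻¹, hx⟩ : U) : Ω) = h' * ((β x : U) : Ω) * h'⁻¹
  have h3 : (⟨t * x * t⁻¹, hx⟩ : U) = U.normalizerMonoidHom ⟨t, htN⟩ x := Subtype.ext rfl
  rw [h3, h1]
  rfl

/-- If `β ^ m ∈ H` with `m` prime to the order `p ^ k` of `β`, then `β ∈ H`. -/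
theorem mem_of_pow_mem_of_coprime {A : Type*} [Group A] (H : Subgroup A) {β : A} {p k m : ℕ}
    (hβ : β ^ (p ^ k) = 1) (hm : Nat.Coprime m (p ^ k)) (h : β ^ m ∈ H) : β ∈ H := by
  have hb : (m : ℤ) * Nat.gcdA m (p ^ k) + ((p ^ k : ℕ) : ℤ) * Nat.gcdB m (p ^ k) = 1 := by
    have := Nat.gcd_eq_gcd_ab m (p ^ k)
    rw [hm.gcd_eq_one] at this
    exact_mod_cast this.symm
  have h1 : β = (β ^ m) ^ (Nat.gcdA m (p ^ k)) := by
    conv_lhs => rw [← zpow_one β, ← hb]
    rw [zpow_add, zpow_mul, zpow_mul, zpow_natCast, zpow_natCast, hβ, one_zpow, mul_one]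
  rw [h1]
  exact H.zpow_mem h _

theorem fullyAutomized_of_crit [Finite S] {p : ℕ} [Fact p.Prime] (hS : IsPGroup p S) (F : FusionSystem S)
    (hA : F.IsFullyAutomized p S) (hR : ∀ P : Subgroup Ω, F.IsFullyNormalized P → F.IsReceptive P) :
    ∀ Q : Subgroup Ω, F.IsFullyNormalized Q → F.IsFullyAutomized p Q := by
  have main : ∀ d : ℕ, ∀ Q : Subgroup Ω, F.IsFullyNormalized Q → Nat.card S - Nat.card Q = d →
      F.IsFullyAutomized p Q := by
    intro d
    induction d using Nat.strong_induction_on with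
    | _ d ih =>
      intro Q hQn hd
      have hQS : Q ≤ S := hQn.1
      by_cases hQeq : Q = S
      · rw [hQeq]; exact hA
      have hfinQ : Finite Q := finite_of_le hQS
      by_contra hnot
      set AS' := (autInducedBy S Q).subgroupOf (F.autGroup Q) with hAS'
      have hASp : IsPGroup p AS' := (autInducedBy_isPGroup hS Q).comap_subtype
      obtain ⟨R, hR'⟩ := hASp.exists_le_sylow
      have hne : AS' ≠ (R : Subgroup (F.autGroup Q)) := fun h => hnot ⟨hQS, R, h.symm⟩
      obtain ⟨β, hβN, hβ⟩ := exists_mem_normalizerIn_not_mem (S := (R : Subgroup (F.autGroup Q)))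
        R.isPGroup' hR' hne
      have hβR : β ∈ (R : Subgroup (F.autGroup Q)) := hβN.1
      have hβnorm : β ∈ Subgroup.normalizer ((AS' : Subgroup (F.autGroup Q)) : Set (F.autGroup Q)) := hβN.2
      obtain ⟨k, hk⟩ := R.isPGroup' ⟨β, hβR⟩
      have hβpow : β ^ (p ^ k) = 1 := congrArg Subtype.val hk
      -- Step 1: `N_S(Q)` lies in the extender of `β`
      set N := normalizerIn S Q with hN
      have hNS : N ≤ S := normalizerIn_le S Q
      have hQN : Q ≤ N := le_normalizerIn hQS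
      have hfinN : Finite N := finite_of_le hNS
      have hNext : N ≤ extender S Q (Q.subtype.comp ((β : MulAut Q) : Q ≃* Q).toMonoidHom) := by
        intro t ht
        have htS : t ∈ S := ht.1
        have htN : t ∈ Subgroup.normalizer (Q : Set Ω) := ht.2
        apply mem_extender_of_conj_mem (β : MulAut Q) htS htN
        have hctS : Q.normalizerMonoidHom ⟨t, htN⟩ ∈ autInducedBy S Q :=
          normalizerMonoidHom_mem_autInducedBy htS htN
        have hctA : Q.normalizerMonoidHom ⟨t, htN⟩ ∈ F.autGroup Q := autInducedBy_le_autGroup F hQS hctS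
        have hct : (⟨Q.normalizerMonoidHom ⟨t, htN⟩, hctA⟩ : F.autGroup Q) ∈ AS' := hctS
        have := (Subgroup.mem_normalizer_iff.mp hβnorm _).mp hct
        exact this
      -- Step 2: extend `β` to `N`
      have hβF := (mem_autGroup_iff F hQS (β : MulAut Q)).mp β.2
      have hrange : (Q.subtype.comp ((β : MulAut Q) : Q ≃* Q).toMonoidHom).range = Q := equivHom_range _
      obtain ⟨ψ, hψ, hψx⟩ := (hR Q hQn).2 Q _ hβF hrange
      have hψN := inclusion_comp_mem F hNext hψ
      set ψN := ψ.comp (Subgroup.inclusion hNext) with hψNdef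
      have hψNQ : ∀ x : Q, ψN (Subgroup.inclusion hQN x) = (((β : MulAut Q) x : Q) : Ω) := fun x =>
        hψx x x.2 (hNext (hQN x.2))
      -- Step 3: `ψN` is an automorphism of `N`
      have hψNval : ∀ n : N, ψN n ∈ N := by
        intro n
        refine ⟨hom_apply_mem F hψN n, ?_⟩
        apply mem_normalizer_of_conj_mem_finite
        intro q hq
        obtain ⟨q₀, hq₀⟩ := ((β : MulAut Q) : Q ≃* Q).surjective ⟨q, hq⟩
        have hq₀' : q = ψN (Subgroup.inclusion hQN q₀) := by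
          rw [hψNQ]
          exact (congrArg Subtype.val hq₀).symm
        have hnq : (n : Ω) * q₀ * (n : Ω)⁻¹ ∈ Q := (Subgroup.mem_normalizer_iff.mp n.2.2 _).mp q₀.2
        have e : n * Subgroup.inclusion hQN q₀ * n⁻¹ = Subgroup.inclusion hQN ⟨(n : Ω) * q₀ * (n : Ω)⁻¹, hnq⟩ :=
          Subtype.ext rfl
        rw [hq₀', ← map_inv, ← map_mul, ← map_mul, e, hψNQ]
        exact ((β : MulAut Q) _).2
      have hψNrange : ψN.range = N := by
        apply le_antisymm
        · rintro _ ⟨n, rfl⟩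
          exact hψNval n
        · intro b hb
          exact surj_of_inj_of_card_le ψN (F.injective_of_mem hψN) hψNval le_rfl b hb
      let γ : MulAut N := homEquiv F hψN hψNrange
      have hγF : γ ∈ F.autGroup N := by
        rw [mem_autGroup_iff_isFIso F hNS]
        exact homEquiv_isFIso F hψN hψNrange
      have hγQ : ∀ y : Q, (((β : MulAut Q) y : Q) : Ω) = ((γ (Subgroup.inclusion hQN y) : N) : Ω) := fun y =>
        (hψNQ y).symm
      -- Step 4: pass to `p`-parts
      have hfinAutN : Finite (MulAut N) := inferInstance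
      have ho : orderOf γ ≠ 0 := (orderOf_pos γ).ne'
      obtain ⟨a, m, hm, hom⟩ := Nat.exists_eq_pow_mul_and_not_dvd ho p (Fact.out : p.Prime).ne_one
      have hγ₁pow : (γ ^ m) ^ (p ^ a) = 1 := by
        rw [← pow_mul, mul_comm, ← hom, pow_orderOf_eq_one]
      have hmcop : Nat.Coprime m (p ^ k) :=
        Nat.Coprime.pow_right k ((Nat.Prime.coprime_iff_not_dvd (Fact.out : p.Prime)).mpr hm).symm
      have hβ₁ : β ^ m ∉ AS' := fun h => hβ (mem_of_pow_mem_of_coprime AS' hβpow hmcop h)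
      have hγ₁Q : ∀ y : Q, ((((β : MulAut Q) ^ m) y : Q) : Ω) = (((γ ^ m) (Subgroup.inclusion hQN y) : N) : Ω) :=
        aut_pow_restrict hQN γ (β : MulAut Q) hγQ m
      have hγ₁F : γ ^ m ∈ F.autGroup N := Subgroup.pow_mem _ hγF m
      -- Step 5: a fully normalized (hence fully automized) conjugate of `N`
      obtain ⟨N', hNN', hN'n⟩ := exists_fullyNormalized_conj F hNS
      obtain ⟨θ, hθ⟩ := (isConj_iff_exists_isFIso F).mp hNN'
      have hcardQN : Nat.card Q < Nat.card N := card_lt_card_normalizerIn hS hQS hQeq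
      have hcardN' : Nat.card N' = Nat.card N := (Nat.card_congr θ.toEquiv).symm
      have hN'S : N' ≤ S := hN'n.1
      have hcardN'S : Nat.card N' ≤ Nat.card S := Subgroup.card_le_of_le hN'S
      have hN'A : F.IsFullyAutomized p N' := ih (Nat.card S - Nat.card N') (by omega) N' hN'n rfl
      have hα'pow : (autCongr F hθ ⟨γ ^ m, hγ₁F⟩) ^ (p ^ a) = 1 := by
        rw [← map_pow]
        have : (⟨γ ^ m, hγ₁F⟩ : F.autGroup N) ^ (p ^ a) = 1 := Subtype.ext hγ₁pow
        rw [this, map_one]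
      obtain ⟨δ, s, hsS, hsN, hs⟩ := exists_conj_eq_normalizerMonoidHom' F hN'A _ a hα'pow
      have hδF : IsFIso F ((δ : MulAut N') : N' ≃* N') := (mem_autGroup_iff_isFIso F hN'S _).mp δ.2
      let ρ : N ≃* N' := θ.trans (δ : MulAut N')
      have hρ : IsFIso F ρ := hθ.trans hδF
      have hstar : ∀ x : N, ((ρ ((γ ^ m) x) : N') : Ω) = s * (ρ x : N') * s⁻¹ := by
        intro x
        have h1 : (((δ * autCongr F hθ ⟨γ ^ m, hγ₁F⟩ * δ⁻¹ : F.autGroup N') : MulAut N') (ρ x) : Ω) =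
            s * (ρ x : N') * s⁻¹ := by
          rw [hs]
          rfl
        rw [← h1]
        show ((ρ ((γ ^ m) x) : N') : Ω) =
          ((((δ : MulAut N') * (MulAut.congr θ (γ ^ m)) * (δ : MulAut N')⁻¹) (ρ x) : N') : Ω)
        congr 1
        simp [ρ, MulAut.mul_apply, MulAut.congr]
      -- Step 6: `s ∈ N'`
      have hfinN' : Finite N' := finite_of_le hN'S
      set Q' := (Q.subgroupOf N).map (equivHom ρ) with hQ'
      have hconj : F.IsConj Q Q' := isConj_map_subgroupOf F hQN hρ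
      have hQ'S : Q' ≤ S := isConj_le_right F hconj
      have hfinQ' : Finite Q' := finite_of_le hQ'S
      have hγ₁memQ : ∀ x : N, (x : Ω) ∈ Q → (((γ ^ m) x : N) : Ω) ∈ Q := by
        intro x hx
        have := hγ₁Q ⟨x, hx⟩
        have e : Subgroup.inclusion hQN ⟨x, hx⟩ = x := Subtype.ext rfl
        rw [e] at this
        rw [← this]
        exact (((β : MulAut Q) ^ m) ⟨x, hx⟩).2
      have hsNQ' : s ∈ Subgroup.normalizer (Q' : Set Ω) := by
        apply mem_normalizer_of_conj_mem_finite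
        rintro _ ⟨x, hx, rfl⟩
        show s * ((ρ x : N') : Ω) * s⁻¹ ∈ Q'
        rw [← hstar x]
        exact ⟨(γ ^ m) x, hγ₁memQ x hx, rfl⟩
      have hN'le : N' ≤ normalizerIn S Q' := by
        intro y hy
        refine ⟨hN'S hy, ?_⟩
        apply mem_normalizer_of_conj_mem_finite
        rintro _ ⟨x, hx, rfl⟩
        set n := ρ.symm ⟨y, hy⟩ with hn
        have hyn : y = ((ρ n : N') : Ω) := by rw [hn]; simp
        have hnx : ((n * x * n⁻¹ : N) : Ω) ∈ Q :=
          (Subgroup.mem_normalizer_iff.mp n.2.2 _).mp hx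
        refine ⟨n * x * n⁻¹, hnx, ?_⟩
        show ((ρ (n * x * n⁻¹) : N') : Ω) = y * ((ρ x : N') : Ω) * y⁻¹
        rw [map_mul, map_mul, map_inv, hyn]
        rfl
      have hcardle : Nat.card (normalizerIn S Q') ≤ Nat.card N' := by
        rw [hcardN']
        exact hQn.2 Q' hconj
      have hfinNQ' : Finite (normalizerIn S Q') := finite_of_le (normalizerIn_le S Q')
      have hN'eq : N' = normalizerIn S Q' := Subgroup.eq_of_le_of_card_ge hN'le hcardle
      have hsN' : s ∈ N' := by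
        rw [hN'eq]
        exact ⟨hsS, hsNQ'⟩
      -- Step 7: `γ ^ m` is conjugation by `n₀ ∈ N`
      set n₀ := ρ.symm ⟨s, hsN'⟩ with hn₀
      have hρn₀ : ((ρ n₀ : N') : Ω) = s := by rw [hn₀]; simp
      have hγ₁conj : ∀ x : N, (γ ^ m) x = n₀ * x * n₀⁻¹ := by
        intro x
        apply ρ.injective
        apply Subtype.ext
        rw [hstar x, map_mul, map_mul, map_inv, ← hρn₀]
        rfl
      apply hβ₁
      show ((β ^ m : F.autGroup Q) : MulAut Q) ∈ autInducedBy S Q
      have hn₀N : (n₀ : Ω) ∈ Subgroup.normalizer (Q : Set Ω) := n₀.2.2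
      have : ((β ^ m : F.autGroup Q) : MulAut Q) = Q.normalizerMonoidHom ⟨n₀, hn₀N⟩ := by
        ext y
        show ((((β : MulAut Q) ^ m) y : Q) : Ω) = (n₀ : Ω) * y * (n₀ : Ω)⁻¹
        rw [hγ₁Q y, hγ₁conj]
        rfl
      rw [this]
      exact normalizerMonoidHom_mem_autInducedBy n₀.2.1 hn₀N
  intro Q hQn
  exact main _ Q hQn rfl

/-- S5111. -/
theorem saturated_iff_crit [Finite S] {p : ℕ} [Fact p.Prime] (hS : IsPGroup p S) (F : FusionSystem S) :
    F.IsSaturated p ↔
      (F.IsFullyAutomized p S ∧ ∀ P : Subgroup Ω, F.IsFullyNormalized P → F.IsReceptive P) := by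
  constructor
  · intro hF
    exact ⟨(saturated_fn hS F hF (top_fullyNormalized F)).2, fun P hP => saturated_fn_receptive hS F hF hP⟩
  · rintro ⟨hA, hR⟩ P hP
    obtain ⟨Q, hPQ, hQn⟩ := exists_fullyNormalized_conj F hP
    exact ⟨Q, hPQ, fullyAutomized_of_crit hS F hA hR Q hQn, hR Q hQn⟩

end Cfsg.Agent.Lib.Helper26
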