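import Cfsg.Agent.Lib.Helper26.FSGood

/-!
Saturation criterion (BCGLO, Theorem 2.2), part A: pairs `X ≤ R`, stabilizers of `X` in `Aut(R)`, fully normalized
pairs and the extension lemma for them.
-/

set_option autoImplicit false

namespace Cfsg.Agent.Lib.Helper26

open Cfsg Cfsg.FusionSystem

variable {Ω : Type*} [Group Ω] {S : Subgroup Ω}

section Pairs

/-- The automorphisms of `R` preserving `X`. -/
def stabAut (R X : Subgroup Ω) : Subgroup (MulAut R) where
  carrier := {α | ∀ x : R, (x : Ω) ∈ X ↔ ((α x : R) : Ω) ∈ X}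
  one_mem' := fun _ => Iff.rfl
  mul_mem' := by
    intro a b ha hb x
    exact (hb x).trans (ha (b x))
  inv_mem' := by
    intro a ha x
    have := ha (a⁻¹ x)
    rw [MulAut.apply_inv_self] at this
    exact this.symm

theorem mem_stabAut {R X : Subgroup Ω} {α : MulAut R} :
    α ∈ stabAut R X ↔ ∀ x : R, (x : Ω) ∈ X ↔ ((α x : R) : Ω) ∈ X := Iff.rfl

theorem stabAut_congr {R X X' : Subgroup Ω} (h : ∀ x : R, (x : Ω) ∈ X ↔ (x : Ω) ∈ X') :
    stabAut R X = stabAut R X' := by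
  ext α
  rw [mem_stabAut, mem_stabAut]
  constructor
  · intro ha x
    rw [← h, ← h]
    exact ha x
  · intro ha x
    rw [h, h]
    exact ha x

/-- The image of a subgroup under an isomorphism. -/
def imageSub {R R' : Subgroup Ω} (e : R ≃* R') (X : Subgroup Ω) : Subgroup Ω :=
  (X.subgroupOf R).map (equivHom e)

theorem mem_imageSub' {R R' : Subgroup Ω} (e : R ≃* R') (X : Subgroup Ω) (z : Ω) :
    z ∈ imageSub e X ↔ ∃ x : R, (x : Ω) ∈ X ∧ ((e x : R') : Ω) = z := by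
  unfold imageSub
  rw [Subgroup.mem_map]
  constructor
  · rintro ⟨x, hx, rfl⟩
    exact ⟨x, hx, rfl⟩
  · rintro ⟨x, hx, rfl⟩
    exact ⟨x, hx, rfl⟩

theorem mem_imageSub {R R' : Subgroup Ω} (e : R ≃* R') (X : Subgroup Ω) (y : R') :
    (y : Ω) ∈ imageSub e X ↔ ((e.symm y : R) : Ω) ∈ X := by
  rw [mem_imageSub']
  constructor
  · rintro ⟨x, hx, hxy⟩
    have : e x = y := Subtype.ext hxy
    rw [← this, MulEquiv.symm_apply_apply]
    exact hx
  · intro h
    exact ⟨e.symm y, h, by rw [MulEquiv.apply_symm_apply]⟩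

theorem apply_mem_imageSub {R R' : Subgroup Ω} (e : R ≃* R') (X : Subgroup Ω) (x : R) :
    ((e x : R') : Ω) ∈ imageSub e X ↔ (x : Ω) ∈ X := by
  rw [mem_imageSub, MulEquiv.symm_apply_apply]

theorem imageSub_le {R R' : Subgroup Ω} (e : R ≃* R') (X : Subgroup Ω) : imageSub e X ≤ R' := by
  intro z hz
  obtain ⟨x, -, rfl⟩ := (mem_imageSub' e X z).mp hz
  exact (e x).2

theorem imageSub_trans {R R' R'' : Subgroup Ω} (e₁ : R ≃* R') (e₂ : R' ≃* R'') (X : Subgroup Ω) :
    imageSub (e₁.trans e₂) X = imageSub e₂ (imageSub e₁ X) := by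
  ext z
  rw [mem_imageSub', mem_imageSub']
  constructor
  · rintro ⟨x, hx, rfl⟩
    exact ⟨e₁ x, (apply_mem_imageSub e₁ X x).mpr hx, rfl⟩
  · rintro ⟨y, hy, rfl⟩
    refine ⟨e₁.symm y, (mem_imageSub e₁ X y).mp hy, ?_⟩
    rw [MulEquiv.trans_apply, MulEquiv.apply_symm_apply]

theorem imageSub_symm_imageSub {R R' : Subgroup Ω} (e : R ≃* R') {X : Subgroup Ω} (hX : X ≤ R) :
    imageSub e.symm (imageSub e X) = X := by
  ext z
  rw [mem_imageSub']
  constructor
  · rintro ⟨y, hy, rfl⟩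
    exact (mem_imageSub e X y).mp hy
  · intro hz
    refine ⟨e ⟨z, hX hz⟩, (apply_mem_imageSub e X _).mpr hz, ?_⟩
    rw [MulEquiv.symm_apply_apply]

theorem imageSub_refl {R : Subgroup Ω} {X : Subgroup Ω} (hX : X ≤ R) : imageSub (MulEquiv.refl R) X = X := by
  ext z
  rw [mem_imageSub']
  constructor
  · rintro ⟨y, hy, rfl⟩
    exact hy
  · intro hz
    exact ⟨⟨z, hX hz⟩, hz, rfl⟩

theorem card_imageSub {R R' : Subgroup Ω} (e : R ≃* R') {X : Subgroup Ω} (hX : X ≤ R) :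
    Nat.card (imageSub e X) = Nat.card X := by
  unfold imageSub
  rw [Subgroup.card_map_of_injective]
  · exact Nat.card_congr (Subgroup.subgroupOfEquivOfLe hX).toEquiv
  · intro a b hab
    exact e.injective (Subtype.ext hab)

theorem imageSub_mono {R R' : Subgroup Ω} (e : R ≃* R') {X Y : Subgroup Ω} (h : X ≤ Y) :
    imageSub e X ≤ imageSub e Y := by
  intro z hz
  obtain ⟨x, hx, rfl⟩ := (mem_imageSub' e X z).mp hz
  exact (mem_imageSub' e Y _).mpr ⟨x, h hx, rfl⟩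

theorem imageSub_self {R R' : Subgroup Ω} (e : R ≃* R') : imageSub e R = R' := by
  apply le_antisymm (imageSub_le e R)
  intro z hz
  exact (mem_imageSub' e R z).mpr ⟨e.symm ⟨z, hz⟩, (e.symm ⟨z, hz⟩).2, by rw [MulEquiv.apply_symm_apply]⟩

theorem kmap_stabAut {R R' : Subgroup Ω} (e : R ≃* R') (X : Subgroup Ω) :
    kmap e (stabAut R X) = stabAut R' (imageSub e X) := by
  ext γ
  rw [mem_kmap, mem_stabAut, mem_stabAut]
  constructor
  · intro h y
    rw [mem_imageSub, mem_imageSub]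
    have := h (e.symm y)
    rw [congr_symm_apply, MulEquiv.apply_symm_apply] at this
    exact this
  · intro h x
    have := h (e x)
    rw [mem_imageSub, mem_imageSub, MulEquiv.symm_apply_apply] at this
    rw [congr_symm_apply]
    exact this

theorem kmap_trans {Q Q₁ Q₂ : Subgroup Ω} (e₁ : Q ≃* Q₁) (e₂ : Q₁ ≃* Q₂) (K : Subgroup (MulAut Q)) :
    kmap e₂ (kmap e₁ K) = kmap (e₁.trans e₂) K := by
  unfold kmap
  rw [Subgroup.map_map]
  congr 1

theorem mem_NK_stabAut {R X : Subgroup Ω} {s : Ω} :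
    s ∈ NK S R (stabAut R X) ↔
      s ∈ S ∧ s ∈ Subgroup.normalizer (R : Set Ω) ∧ ∀ x ∈ R, (x ∈ X ↔ s * x * s⁻¹ ∈ X) := by
  constructor
  · intro hs
    obtain ⟨α, hα, hαs⟩ := hs.2
    refine ⟨hs.1, mem_normalizer_of_mem_actSubgroup hs.2, fun x hx => ?_⟩
    have := hα ⟨x, hx⟩
    rw [hαs] at this
    exact this
  · rintro ⟨hsS, hsN, h⟩
    apply mem_NK_of_normalizerMonoidHom_mem hsS hsN
    intro x
    exact h x x.2

/-- Elements of `S` normalizing both `R` and `X`. -/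
theorem mem_NK_stabAut_of_normalizer {R X : Subgroup Ω} {s : Ω} (hsS : s ∈ S)
    (hsR : s ∈ Subgroup.normalizer (R : Set Ω)) (hsX : s ∈ Subgroup.normalizer (X : Set Ω)) :
    s ∈ NK S R (stabAut R X) :=
  mem_NK_stabAut.mpr ⟨hsS, hsR, fun x _ => Subgroup.mem_normalizer_iff.mp hsX x⟩

theorem mem_normalizer_of_mem_NK_stabAut {R X : Subgroup Ω} (hXR : X ≤ R) {s : Ω}
    (hs : s ∈ NK S R (stabAut R X)) : s ∈ Subgroup.normalizer (X : Set Ω) := by
  obtain ⟨-, hsN, h⟩ := mem_NK_stabAut.mp hs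
  rw [Subgroup.mem_normalizer_iff]
  intro x
  constructor
  · intro hx
    exact (h x (hXR hx)).mp hx
  · intro hx
    have hxR : s * x * s⁻¹ ∈ R := hXR hx
    have hxR' : x ∈ R := by
      have := (Subgroup.mem_normalizer_iff.mp hsN x).mpr hxR
      exact this
    exact (h x hxR').mpr hx

theorem exists_fullyKNormalized_conj [Finite S] (F : FusionSystem S) {R : Subgroup Ω} (hR : R ≤ S)
    (K : Subgroup (MulAut R)) :
    ∃ (R₁ : Subgroup Ω) (e : R ≃* R₁), IsFIso F e ∧ FullyKNormalized F R₁ (kmap e K) := by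
  have key : ∀ d : ℕ, ∀ (R₁ : Subgroup Ω) (e : R ≃* R₁), IsFIso F e →
      Nat.card S - Nat.card (NK S R₁ (kmap e K)) = d →
      ∃ (R₂ : Subgroup Ω) (e' : R ≃* R₂), IsFIso F e' ∧ FullyKNormalized F R₂ (kmap e' K) := by
    intro d
    induction d using Nat.strong_induction_on with
    | _ d ih =>
      intro R₁ e he hd
      by_cases hmax : ∀ (R₂ : Subgroup Ω) (e₂ : R₁ ≃* R₂), IsFIso F e₂ →
          Nat.card (NK S R₂ (kmap e₂ (kmap e K))) ≤ Nat.card (NK S R₁ (kmap e K))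
      · exact ⟨R₁, e, he, he.le_right, hmax⟩
      · push Not at hmax
        obtain ⟨R₂, e₂, he₂, hlt⟩ := hmax
        rw [kmap_trans] at hlt
        have hle : Nat.card (NK S R₂ (kmap (e.trans e₂) K)) ≤ Nat.card S :=
          Subgroup.card_le_of_le (NK_le S _ _)
        exact ih _ (by omega) R₂ (e.trans e₂) (he.trans he₂) rfl
  exact key _ R (MulEquiv.refl R) (isFIso_refl F hR) rfl

end Pairs

section Ext

variable [Finite S] {p : ℕ} [Fact p.Prime]

/-- AKO I.5.2(b), per class. -/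
theorem exists_ext_of_fullyKNormalized_of_good (hS : IsPGroup p S) (F : FusionSystem S)
    {Q : Subgroup Ω} (hg : GoodClass F p Q) {K : Subgroup (MulAut Q)} (hQ : FullyKNormalized F Q K)
    {Q' : Subgroup Ω} (θ : Q' ≃* Q) (hθ : IsFIso F θ) :
    ∃ χ ∈ F.autGroup Q' ⊓ kmap θ.symm K, ∃ θ' ∈ F.Hom (NK S Q' (kmap θ.symm K) ⊔ Q'),
      ∀ q : Q', θ' (Subgroup.inclusion le_sup_right q) = θ (χ q) := by
  have hfinQ : Finite Q := finite_of_le hQ.1
  have hQ'S : Q' ≤ S := hθ.le_left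
  have hFC := fullyKNormalized_fullyCentralized_of_good hS F hg hQ
  have hRec := good_fc hS F hg hFC
  have hSyl := fullyKNormalized_sylow_of_good hS F hg hQ
  have hV : (autInducedBy S Q' ⊓ kmap θ.symm K).map (MulAut.congr θ).toMonoidHom ≤ F.autGroup Q ⊓ K := by
    rintro _ ⟨γ, hγ, rfl⟩
    exact ⟨congr_mem_autGroup F hθ (autInducedBy_le_autGroup F hQ'S hγ.1), congr_mem_of_mem_kmap_symm θ hγ.2⟩
  have hVp : IsPGroup p ↥((autInducedBy S Q' ⊓ kmap θ.symm K).map (MulAut.congr θ).toMonoidHom) :=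
    ((autInducedBy_isPGroup hS Q').to_le inf_le_left).map _
  obtain ⟨β, hβ, hβV⟩ := exists_conj_le_of_sylowIn hSyl hV hVp
  have he₂ : IsFIso F (θ.trans (β : Q ≃* Q)) := hθ.trans ((mem_autGroup_iff_isFIso F hQ.1 β).mp hβ.1)
  refine ⟨MulAut.congr θ.symm β, ⟨congr_mem_autGroup F hθ.symm hβ.1, congr_mem_kmap θ.symm hβ.2⟩, ?_⟩
  have hle : NK S Q' (kmap θ.symm K) ⊔ Q' ≤ extender S Q' (equivHom (θ.trans (β : Q ≃* Q))) := by
    apply sup_le
    · intro x hx
      have hxN : x ∈ Subgroup.normalizer (Q' : Set Ω) := mem_normalizer_of_mem_actSubgroup hx.2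
      have hcx : Q'.normalizerMonoidHom ⟨x, hxN⟩ ∈ autInducedBy S Q' ⊓ kmap θ.symm K :=
        ⟨normalizerMonoidHom_mem_autInducedBy hx.1 hxN, normalizerMonoidHom_mem_of_mem_NK hx hxN⟩
      have h1 : β * MulAut.congr θ (Q'.normalizerMonoidHom ⟨x, hxN⟩) * β⁻¹ ∈ autInducedBy S Q ⊓ K :=
        hβV ⟨_, ⟨_, hcx, rfl⟩, rfl⟩
      obtain ⟨h, hhS, hh⟩ := (mem_autInducedBy_iff S Q _).mp h1.1
      rw [mem_extender_iff]
      refine ⟨hx.1, hxN, h, hhS, fun t ht => ?_⟩
      have h2 := hh (β (θ t))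
      show ((β (θ ⟨x * t * x⁻¹, ht⟩) : Q) : Ω) = h * ((β (θ t) : Q) : Ω) * h⁻¹
      rw [← h2]
      simp only [MulAut.mul_apply, MulAut.inv_apply_self]
      rw [congr_apply, MulEquiv.symm_apply_apply]
      rfl
    · exact le_extender hQ'S _ (hom_apply_mem F he₂)
  obtain ⟨ψ, hψ, hψe⟩ := hRec.2 Q' _ he₂ (equivHom_range _)
  refine ⟨ψ.comp (Subgroup.inclusion hle), inclusion_comp_mem F hle hψ, fun q => ?_⟩
  have := hψe q q.2 (hle (Subgroup.mem_sup_right q.2))
  show ψ (Subgroup.inclusion hle (Subgroup.inclusion le_sup_right q)) = _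
  rw [show (Subgroup.inclusion hle (Subgroup.inclusion le_sup_right q)) =
    ⟨(q : Ω), hle (Subgroup.mem_sup_right q.2)⟩ from rfl, this]
  show ((β (θ q) : Q) : Ω) = θ (MulAut.congr θ.symm β q)
  rw [congr_apply]
  simp

/-- The extension lemma for pairs: if `R'` is fully normalized with respect to the stabilizer of `X'`, every
isomorphism `θ : R → R'` of the system carrying `X` to `X'` can be modified by an automorphism of `R` preserving `X`
so that it extends to `N_S(R) ∩ N_S(X)`. -/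
theorem pair_ext (hS : IsPGroup p S) (F : FusionSystem S) {R' X' : Subgroup Ω} (hg : GoodClass F p R')
    (hfn : FullyKNormalized F R' (stabAut R' X')) {R : Subgroup Ω} (θ : R ≃* R') (hθ : IsFIso F θ)
    (X : Subgroup Ω) (hX : ∀ x : R, (x : Ω) ∈ X ↔ ((θ x : R') : Ω) ∈ X') :
    ∃ χ ∈ F.autGroup R ⊓ stabAut R X, ∃ Θ ∈ F.Hom (NK S R (stabAut R X) ⊔ R),
      ∀ r : R, Θ (Subgroup.inclusion le_sup_right r) = θ (χ r) := by
  have hK : kmap θ.symm (stabAut R' X') = stabAut R X := by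
    rw [kmap_stabAut]
    apply stabAut_congr
    intro x
    rw [mem_imageSub]
    exact (hX x).symm
  have := exists_ext_of_fullyKNormalized_of_good hS F hg hfn θ hθ
  rw [hK] at this
  exact this

end Ext

end Cfsg.Agent.Lib.Helper26
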