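import Cfsg.Agent.Lib.Helper26.FSSatCritA
import Cfsg.Agent.Lib.Helper26.FSSubsystem

/-!
Saturation criterion (BCGLO, Theorem 2.2), part B: chains of restrictions of maps between strictly larger subgroups,
and how generation by a family produces them.
-/

set_option autoImplicit false

namespace Cfsg.Agent.Lib.Helper26

open Cfsg Cfsg.FusionSystem

variable {Ω : Type*} [Group Ω] {S : Subgroup Ω}

/-- An isomorphism that is a composite of restrictions of maps of the system defined on strictly larger subgroups
normalizing the source. -/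
inductive EChain (F : FusionSystem S) : ∀ {X Y : Subgroup Ω}, (X ≃* Y) → Prop
  | elem {X Y : Subgroup Ω} (e : X ≃* Y) (R : Subgroup Ω) (hXR : X ≤ R) (hne : X ≠ R)
      (hRN : R ≤ normalizerIn S X) (ψ : R →* Ω) (hψ : ψ ∈ F.Hom R)
      (h : ∀ x : X, ψ (Subgroup.inclusion hXR x) = ((e x : Y) : Ω)) : EChain F e
  | trans {X Y Z : Subgroup Ω} (e₁ : X ≃* Y) (e₂ : Y ≃* Z) : EChain F e₁ → EChain F e₂ → EChain F (e₁.trans e₂)

theorem EChain.isFIso {F : FusionSystem S} {X Y : Subgroup Ω} {e : X ≃* Y} (h : EChain F e) : IsFIso F e := by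
  induction h with
  | elem e R hXR hne hRN ψ hψ h =>
    unfold IsFIso
    have : equivHom e = ψ.comp (Subgroup.inclusion hXR) := by
      ext x
      exact (h x).symm
    rw [this]
    exact inclusion_comp_mem F hXR hψ
  | trans e₁ e₂ _ _ ih₁ ih₂ => exact ih₁.trans ih₂

theorem EChain.symm [Finite S] {F : FusionSystem S} {X Y : Subgroup Ω} {e : X ≃* Y} (h : EChain F e) :
    EChain F e.symm := by
  induction h with
  | @elem X Y e R hXR hne hRN ψ hψ h =>
    obtain ⟨ψinv, hψinv, hinv⟩ := F.inv_mem hψ
    have hYR' : Y ≤ ψ.range := by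
      intro y hy
      refine ⟨Subgroup.inclusion hXR (e.symm ⟨y, hy⟩), ?_⟩
      rw [h, MulEquiv.apply_symm_apply]
    have hYS : Y ≤ S := hYR'.trans (range_le F hψ)
    have hfinY : Finite Y := finite_of_le hYS
    refine EChain.elem e.symm ψ.range hYR' ?_ ?_ ψinv hψinv ?_
    · intro heq
      apply hne
      apply le_antisymm hXR
      intro r hr
      have hmem : ψ ⟨r, hr⟩ ∈ Y := by
        rw [heq]
        exact ⟨_, rfl⟩
      have h2 := h (e.symm ⟨_, hmem⟩)
      rw [MulEquiv.apply_symm_apply] at h2
      have h3 := F.injective_of_mem hψ h2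
      have h4 : ((e.symm ⟨_, hmem⟩ : X) : Ω) = r := congrArg Subtype.val h3
      rw [← h4]
      exact (e.symm _).2
    · rintro _ ⟨r, rfl⟩
      refine ⟨hom_apply_mem F hψ r, ?_⟩
      apply mem_normalizer_of_conj_mem_finite
      intro y hy
      have hx := h (e.symm ⟨y, hy⟩)
      rw [MulEquiv.apply_symm_apply] at hx
      have hrN := (hRN r.2).2
      have hx' : (r : Ω) * ((e.symm ⟨y, hy⟩ : X) : Ω) * (r : Ω)⁻¹ ∈ X :=
        (Subgroup.mem_normalizer_iff.mp hrN _).mp (e.symm ⟨y, hy⟩).2
      have h5 := h ⟨_, hx'⟩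
      have e1 : Subgroup.inclusion hXR ⟨_, hx'⟩ = r * Subgroup.inclusion hXR (e.symm ⟨y, hy⟩) * r⁻¹ :=
        Subtype.ext rfl
      rw [e1, map_mul, map_mul, map_inv, hx] at h5
      rw [h5]
      exact (e _).2
    · intro y
      have hx := h (e.symm y)
      rw [MulEquiv.apply_symm_apply] at hx
      have h6 := hinv (Subgroup.inclusion hXR (e.symm y))
      show ψinv (Subgroup.inclusion hYR' y) = ((e.symm y : X) : Ω)
      rw [show ((e.symm y : X) : Ω) = ((Subgroup.inclusion hXR (e.symm y) : R) : Ω) from rfl, ← h6]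
      congr 1
      apply Subtype.ext
      exact hx.symm
  | trans e₁ e₂ _ _ ih₁ ih₂ => exact EChain.trans _ _ ih₂ ih₁

section Gen

variable [Finite S] {p : ℕ} [Fact p.Prime]

/-- The restriction of a map defined on a strictly larger subgroup is elementary. -/
theorem echain_of_lt (hS : IsPGroup p S) (F : FusionSystem S) {X Y R : Subgroup Ω} (e : X ≃* Y) (hXR : X ≤ R)
    (hne : X ≠ R) (ψ : R →* Ω) (hψ : ψ ∈ F.Hom R)
    (h : ∀ x : X, ψ (Subgroup.inclusion hXR x) = ((e x : Y) : Ω)) : EChain F e := by
  have hRS : R ≤ S := hom_le F hψ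
  have hfinR : Finite R := finite_of_le hRS
  obtain ⟨g, hgN, hgX⟩ := exists_mem_normalizerIn_not_mem (S := R) (hS.to_le hRS) hXR hne
  have hX0 : X ≤ normalizerIn R X := le_normalizerIn hXR
  have hle : normalizerIn R X ≤ R := normalizerIn_le R X
  refine EChain.elem e (normalizerIn R X) hX0 ?_ ?_ (ψ.comp (Subgroup.inclusion hle))
    (inclusion_comp_mem F hle hψ) ?_
  · intro heq
    apply hgX
    rw [heq]
    exact hgN
  · intro x hx
    exact ⟨hRS hx.1, hx.2⟩
  · intro x
    exact h x

theorem echain_of_gen (hS : IsPGroup p S) (F : FusionSystem S) (ℋ : Set (Subgroup Ω))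
    (hℋconj : ∀ P ∈ ℋ, ∀ Q, F.IsConj P Q → Q ∈ ℋ)
    (hgen : ∀ E : FusionSystem S, (∀ P ∈ ℋ, F.Hom P ⊆ E.Hom P) → F ≤ E) (hSℋ : S ∈ ℋ)
    {X Y : Subgroup Ω} (e : X ≃* Y) (he : IsFIso F e) (hX : X ∉ ℋ) : EChain F e := by
  let C : HomPred F :=
    { C := fun P φ => P ∉ ℋ → ∀ (Y : Subgroup Ω) (e : P ≃* Y), (∀ x : P, ((e x : Y) : Ω) = φ x) → EChain F e
      conj := by
        intro P g hP hg hPℋ Y e he
        have hne : P ≠ S := by
          rintro rfl
          exact hPℋ hSℋ
        apply echain_of_lt hS F e hP hne (conjHom S g) (F.conj_mem le_rfl hg)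
        intro x
        rw [he]
        rfl
      comp := by
        intro P Q φ ψ hφ hψ hCφ hCψ h hPℋ Y e he
        by_cases hQ : φ.range = Q
        · have hQℋ : Q ∉ ℋ := by
            intro hQℋ
            exact hPℋ (hℋconj Q hQℋ P (isConj_symm F ⟨φ, hφ, hQ⟩))
          have h1 := hCφ hPℋ Q (homEquiv F hφ hQ) (fun x => rfl)
          have h2 : EChain F ((homEquiv F hφ hQ).symm.trans e) := by
            apply hCψ hQℋ
            intro y
            show ((e ((homEquiv F hφ hQ).symm y) : Y) : Ω) = ψ y
            rw [he]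
            show ψ (⟨φ ((homEquiv F hφ hQ).symm y), _⟩ : Q) = ψ y
            congr 1
            apply Subtype.ext
            show φ ((homEquiv F hφ hQ).symm y) = y
            have := (homEquiv F hφ hQ).apply_symm_apply y
            exact congrArg Subtype.val this
          have h3 : e = (homEquiv F hφ hQ).trans ((homEquiv F hφ hQ).symm.trans e) := by
            ext x
            simp
          rw [h3]
          exact EChain.trans _ _ h1 h2
        · have hle : φ.range ≤ Q := by
            rintro _ ⟨x, rfl⟩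
            exact h x
          have h1 := hCφ hPℋ φ.range (homEquiv F hφ rfl) (fun x => rfl)
          have h2 : EChain F ((homEquiv F hφ rfl).symm.trans e) := by
            apply echain_of_lt hS F _ hle hQ ψ hψ
            intro y
            show ψ (Subgroup.inclusion hle y) = ((e ((homEquiv F hφ rfl).symm y) : Y) : Ω)
            rw [he]
            show ψ (Subgroup.inclusion hle y) = ψ (⟨φ ((homEquiv F hφ rfl).symm y), _⟩ : Q)
            congr 1
            apply Subtype.ext
            show (y : Ω) = φ ((homEquiv F hφ rfl).symm y)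
            have := (homEquiv F hφ rfl).apply_symm_apply y
            exact (congrArg Subtype.val this).symm
          have h3 : e = (homEquiv F hφ rfl).trans ((homEquiv F hφ rfl).symm.trans e) := by
            ext x
            simp
          rw [h3]
          exact EChain.trans _ _ h1 h2
      inv := by
        intro P φ hφ hCφ ψ hψ hinv hRℋ Y e he
        have hPℋ : P ∉ ℋ := by
          intro hPℋ
          exact hRℋ (hℋconj P hPℋ _ ⟨φ, hφ, rfl⟩)
        have h1 := hCφ hPℋ φ.range (homEquiv F hφ rfl) (fun x => rfl)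
        have hY : Y = P := by
          ext z
          constructor
          · intro hz
            have h2 := he (e.symm ⟨z, hz⟩)
            rw [MulEquiv.apply_symm_apply] at h2
            obtain ⟨x, hx⟩ := (e.symm ⟨z, hz⟩).2
            have h3 := hinv x
            have h4 : (⟨φ x, ⟨x, rfl⟩⟩ : φ.range) = e.symm ⟨z, hz⟩ := Subtype.ext hx
            rw [h4, ← h2] at h3
            show z ∈ P
            have h5 : z = (x : Ω) := h3
            rw [h5]
            exact x.2
          · intro hz
            have h2 := he ⟨φ ⟨z, hz⟩, ⟨_, rfl⟩⟩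
            rw [hinv ⟨z, hz⟩] at h2
            have h3 : z = ((e ⟨φ ⟨z, hz⟩, ⟨_, rfl⟩⟩ : Y) : Ω) := h2.symm
            rw [h3]
            exact (e _).2
        subst hY
        have h3 : e = (homEquiv F hφ rfl).symm := by
          ext y
          rw [he]
          obtain ⟨x, hx⟩ := y.2
          have h4 : (⟨φ x, ⟨x, rfl⟩⟩ : φ.range) = y := Subtype.ext hx
          rw [← h4, hinv x]
          have h5 : homEquiv F hφ rfl x = (⟨φ x, ⟨x, rfl⟩⟩ : φ.range) := Subtype.ext rfl
          rw [← h5, MulEquiv.symm_apply_apply]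
        rw [h3]
        exact h1.symm }
  have hle := hgen C.system (fun P hP φ hφ => ⟨hφ, fun hP' => absurd hP hP'⟩)
  exact (hle X he).2 hX Y e (fun x => rfl)

end Gen

end Cfsg.Agent.Lib.Helper26
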