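import Cfsg.Agent.Lib.Helper26.FSSatCritB

/-!
Saturation criterion (BCGLO, Theorem 2.2), part C: every member of a class all of whose strictly larger subgroups are
good maps, together with its normalizer, onto any fully normalized member of the class.
-/

set_option autoImplicit false

namespace Cfsg.Agent.Lib.Helper26

open Cfsg Cfsg.FusionSystem

variable {Ω : Type*} [Group Ω] {S : Subgroup Ω}

namespace NormHom

/-- The identity. -/
def refl (F : FusionSystem S) {P : Subgroup Ω} (hP : P ≤ S) : NormHom F P P where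
  φ := (normalizerIn S P).subtype
  mem := subtype_mem F (normalizerIn_le S P)
  val := fun x => x.2
  map := by
    rw [map_subgroupOf_eq_iff']
    exact ⟨fun y hy => hy, fun z hz => ⟨⟨z, le_normalizerIn hP hz⟩, hz, rfl⟩⟩
  le := hP

/-- Composition. -/
def trans {F : FusionSystem S} {P Q R : Subgroup Ω} (D₁ : NormHom F P Q) (D₂ : NormHom F Q R) : NormHom F P R where
  φ := D₂.φ.comp (D₁.φ.codRestrict _ D₁.val)
  mem := F.comp_mem D₁.mem D₂.mem D₁.val
  val := fun x => D₂.val _
  map := by
    have h1 := (map_subgroupOf_eq_iff' D₁.φ).mp D₁.map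
    have h2 := (map_subgroupOf_eq_iff' D₂.φ).mp D₂.map
    rw [map_subgroupOf_eq_iff']
    constructor
    · intro y hy
      exact h2.1 _ (h1.1 y hy)
    · intro z hz
      obtain ⟨y₂, hy₂, rfl⟩ := h2.2 z hz
      obtain ⟨y₁, hy₁, hy₁₂⟩ := h1.2 y₂ hy₂
      refine ⟨y₁, hy₁, ?_⟩
      show D₂.φ ⟨D₁.φ y₁, _⟩ = D₂.φ y₂
      congr 1
      exact Subtype.ext hy₁₂
  le := D₁.le

/-- An isomorphism of the system from `N_S(Q')` into `N_S(Q)` carrying `Q'` to `Q`. -/
def ofIso {F : FusionSystem S} {Q Q' M M' : Subgroup Ω} (f : M' ≃* M) (hf : IsFIso F f)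
    (hM' : M' = normalizerIn S Q') (hM : M ≤ normalizerIn S Q) (himg : imageSub f Q' = Q) (hQ' : Q' ≤ S) :
    NormHom F Q' Q := by
  subst hM'
  exact
    { φ := equivHom f
      mem := hf
      val := fun x => hM (f x).2
      map := himg
      le := hQ' }

theorem isConj {F : FusionSystem S} {P Q : Subgroup Ω} (D : NormHom F P Q) : F.IsConj P Q :=
  (isConj_iff_exists_isFIso F).mpr ⟨D.e, D.e_isFIso⟩

/-- If `|N_S(Q)| ≤ |N_S(P)|` the map can be inverted. -/
theorem symm_of_card [Finite S] {F : FusionSystem S} {P Q : Subgroup Ω} (D : NormHom F P Q)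
    (hcard : Nat.card (normalizerIn S Q) ≤ Nat.card (normalizerIn S P)) : Nonempty (NormHom F Q P) := by
  have hr : D.φ.range = normalizerIn S Q := by
    apply le_antisymm
    · rintro _ ⟨x, rfl⟩
      exact D.val x
    · intro h hh
      obtain ⟨g, hg⟩ := D.surj hcard h hh
      exact ⟨g, hg⟩
  have hf := homEquiv_isFIso F D.mem hr
  have himg : imageSub (homEquiv F D.mem hr) P = Q := by
    unfold imageSub
    rw [equivHom_homEquiv]
    exact D.map
  refine ⟨ofIso (homEquiv F D.mem hr).symm hf.symm rfl le_rfl ?_ D.leQ⟩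
  have h2 := imageSub_symm_imageSub (homEquiv F D.mem hr) (le_normalizerIn D.le)
  rw [himg] at h2
  exact h2

end NormHom

section Top

variable [Finite S] {p : ℕ} [Fact p.Prime]

/-- `Q` is a proper normal subgroup of `M ≤ S`, of order `n`. -/
def PairOK (S : Subgroup Ω) (n : ℕ) (Q M : Subgroup Ω) : Prop :=
  Q ≤ M ∧ Q ≠ M ∧ M ≤ normalizerIn S Q ∧ Nat.card Q = n

theorem pairOK_image (F : FusionSystem S) {n : ℕ} {Q M M' : Subgroup Ω} (f : M ≃* M') (hf : IsFIso F f)
    (h : PairOK S n Q M) : PairOK S n (imageSub f Q) M' := by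
  obtain ⟨hQM, hne, hMN, hn⟩ := h
  have hMS : M ≤ S := hf.le_left
  have hfinM : Finite M := finite_of_le hMS
  have hfinM' : Finite M' := finite_of_le hf.le_right
  refine ⟨imageSub_le f Q, ?_, ?_, ?_⟩
  · intro heq
    apply hne
    apply Subgroup.eq_of_le_of_card_ge hQM
    rw [← card_imageSub f hQM, heq]
    exact (Nat.card_congr f.toEquiv).le
  · intro y hy
    refine ⟨hf.le_right hy, ?_⟩
    have hfin : Finite ↥(imageSub f Q) := finite_of_le ((imageSub_le f Q).trans hf.le_right)
    apply mem_normalizer_of_conj_mem_finite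
    intro z hz
    obtain ⟨x, hx, rfl⟩ := (mem_imageSub' f Q z).mp hz
    have hm : ((f.symm ⟨y, hy⟩ : M) : Ω) ∈ Subgroup.normalizer (Q : Set Ω) := (hMN (f.symm ⟨y, hy⟩).2).2
    have hx' : ((f.symm ⟨y, hy⟩ * x * (f.symm ⟨y, hy⟩)⁻¹ : M) : Ω) ∈ Q :=
      (Subgroup.mem_normalizer_iff.mp hm _).mp hx
    have h2 := (apply_mem_imageSub f Q _).mpr hx'
    rw [map_mul, map_mul, map_inv, MulEquiv.apply_symm_apply] at h2
    exact h2
  · rw [card_imageSub f hQM, hn]

variable (hS : IsPGroup p S) (F : FusionSystem S) (n : ℕ)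

include hS in
/-- Comparison of `Q` with its image in a fully normalized pair. -/
theorem top_step (hup : ∀ Q : Subgroup Ω, Q ≤ S → n < Nat.card Q → GoodClass F p Q) (G : Subgroup Ω → Prop)
    {M M₁ Q : Subgroup Ω} (θ : M ≃* M₁) (hθ : IsFIso F θ) (hok : PairOK S n Q M)
    (hlt : M ≠ normalizerIn S Q) (hfn : FullyKNormalized F M₁ (stabAut M₁ (imageSub θ Q)))
    (IH : ∀ (D D' : Subgroup Ω) (f : D ≃* D') (Q₁ : Subgroup Ω), IsFIso F f → PairOK S n Q₁ D →
      Nat.card M < Nat.card D → G Q₁ → G (imageSub f Q₁)) :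
    G Q ↔ G (imageSub θ Q) := by
  obtain ⟨hQM, hne, hMN, hn⟩ := hok
  have hMS : M ≤ S := hθ.le_left
  have hfinM : Finite M := finite_of_le hMS
  have hM₁S : M₁ ≤ S := hθ.le_right
  have hcardlt : Nat.card Q < Nat.card M := by
    rcases (Subgroup.card_le_of_le hQM).lt_or_eq with h | h
    · exact h
    · exact absurd (Subgroup.eq_of_le_of_card_ge hQM h.ge) hne
  have hg : GoodClass F p M₁ := by
    apply hup M₁ hM₁S
    rw [← Nat.card_congr θ.toEquiv, ← hn]
    exact hcardlt
  obtain ⟨χ, hχ, Θ, hΘ, hΘχ⟩ := pair_ext hS F hg hfn θ hθ Q (fun x => (apply_mem_imageSub θ Q x).symm)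
  have hDS : NK S M (stabAut M Q) ⊔ M ≤ S := hom_le F hΘ
  have hfinD : Finite ↥(NK S M (stabAut M Q) ⊔ M) := finite_of_le hDS
  have hQD : Q ≤ NK S M (stabAut M Q) ⊔ M := hQM.trans le_sup_right
  have hDN : NK S M (stabAut M Q) ⊔ M ≤ normalizerIn S Q := by
    apply sup_le
    · intro s hs
      exact ⟨hs.1, mem_normalizer_of_mem_NK_stabAut hQM hs⟩
    · exact hMN
  have hMD : Nat.card M < Nat.card ↥(NK S M (stabAut M Q) ⊔ M) := by
    have hfinN : Finite ↥(normalizerIn S Q) := finite_of_le (normalizerIn_le S Q)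
    obtain ⟨g, hgN, hgM⟩ := exists_mem_normalizerIn_not_mem (S := normalizerIn S Q)
      (hS.to_le (normalizerIn_le S Q)) hMN hlt
    have hg1 : g ∈ NK S M (stabAut M Q) :=
      mem_NK_stabAut_of_normalizer (normalizerIn_le S Q hgN.1) hgN.2 hgN.1.2
    rcases (Subgroup.card_le_of_le (le_sup_right : M ≤ NK S M (stabAut M Q) ⊔ M)).lt_or_eq with h | h
    · exact h
    · exfalso
      have := Subgroup.eq_of_le_of_card_ge (le_sup_right : M ≤ NK S M (stabAut M Q) ⊔ M) h.ge
      apply hgM
      rw [this]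
      exact Subgroup.mem_sup_left hg1
  have hokD : PairOK S n Q (NK S M (stabAut M Q) ⊔ M) := by
    refine ⟨hQD, ?_, hDN, hn⟩
    intro heq
    rw [← heq] at hMD
    exact absurd hMD (not_lt.mpr (Subgroup.card_le_of_le hQM))
  have hf := homEquiv_isFIso F hΘ rfl
  have himg : imageSub (homEquiv F hΘ rfl) Q = imageSub θ Q := by
    ext z
    rw [mem_imageSub', mem_imageSub']
    constructor
    · rintro ⟨x, hx, rfl⟩
      have h1 := hΘχ ⟨x, hQM hx⟩
      have h2 : (homEquiv F hΘ rfl x : Ω) = Θ x := rfl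
      have h3 : Subgroup.inclusion (le_sup_right : M ≤ NK S M (stabAut M Q) ⊔ M) ⟨x, hQM hx⟩ = x :=
        Subtype.ext rfl
      rw [h3] at h1
      refine ⟨χ ⟨x, hQM hx⟩, (hχ.2 ⟨x, hQM hx⟩).mp hx, ?_⟩
      rw [h2, h1]
    · rintro ⟨x, hx, rfl⟩
      have hx2 : ((χ⁻¹ x : M) : Ω) ∈ Q := ((stabAut M Q).inv_mem hχ.2 x).mp hx
      refine ⟨Subgroup.inclusion le_sup_right (χ⁻¹ x), hx2, ?_⟩
      have h1 := hΘχ (χ⁻¹ x)
      rw [MulAut.apply_inv_self] at h1
      exact h1
  constructor
  · intro h
    have := IH _ _ (homEquiv F hΘ rfl) Q hf hokD hMD h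
    rwa [himg] at this
  · intro h
    have hok' := pairOK_image F (homEquiv F hΘ rfl) hf hokD
    have hc : Nat.card M < Nat.card Θ.range := by
      rw [← Nat.card_congr (homEquiv F hΘ rfl).toEquiv]
      exact hMD
    have := IH _ _ (homEquiv F hΘ rfl).symm _ hf.symm hok' hc (by rw [himg]; exact h)
    rwa [imageSub_symm_imageSub _ hQD] at this

include hS in
/-- The key claim: along any map of a proper normal overgroup, membership in the set of subgroups mapping to the
fully normalized `Ph` is preserved. -/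
theorem top_claim (hup : ∀ Q : Subgroup Ω, Q ≤ S → n < Nat.card Q → GoodClass F p Q) {Ph : Subgroup Ω}
    (hPh : F.IsFullyNormalized Ph) :
    ∀ d : ℕ, ∀ (M M' : Subgroup Ω) (f : M ≃* M') (Q : Subgroup Ω), IsFIso F f → PairOK S n Q M →
      Nat.card S - Nat.card M = d → Nonempty (NormHom F Q Ph) → Nonempty (NormHom F (imageSub f Q) Ph) := by
  intro d
  induction d using Nat.strong_induction_on with
  | _ d ih =>
    have IH : ∀ (M₀ : Subgroup Ω), Nat.card S - Nat.card M₀ = d → M₀ ≤ S →
        ∀ (D D' : Subgroup Ω) (f : D ≃* D') (Q₁ : Subgroup Ω), IsFIso F f → PairOK S n Q₁ D →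
        Nat.card M₀ < Nat.card D → Nonempty (NormHom F Q₁ Ph) → Nonempty (NormHom F (imageSub f Q₁) Ph) := by
      intro M₀ hd hM₀S D D' f Q₁ hf hok hlt
      have hDS : Nat.card D ≤ Nat.card S := Subgroup.card_le_of_le hf.le_left
      exact ih (Nat.card S - Nat.card D) (by omega) D D' f Q₁ hf hok rfl
    -- the case where neither side is a full normalizer
    have sub : ∀ (M M' : Subgroup Ω) (f : M ≃* M') (Q : Subgroup Ω), IsFIso F f → PairOK S n Q M →
        Nat.card S - Nat.card M = d → M ≠ normalizerIn S Q → M' ≠ normalizerIn S (imageSub f Q) →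
        (Nonempty (NormHom F Q Ph) ↔ Nonempty (NormHom F (imageSub f Q) Ph)) := by
      intro M M' f Q hf hok hd hlt hlt'
      have hMS : M ≤ S := hf.le_left
      obtain ⟨M₁, θ, hθ, hfn⟩ := exists_fullyKNormalized_conj F hMS (stabAut M Q)
      rw [kmap_stabAut] at hfn
      have h1 := top_step hS F n hup (fun X => Nonempty (NormHom F X Ph)) θ hθ hok hlt hfn (IH M hd hMS)
      have himg : imageSub (f.symm.trans θ) (imageSub f Q) = imageSub θ Q := by
        rw [imageSub_trans, imageSub_symm_imageSub f hok.1]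
      have hfn' : FullyKNormalized F M₁ (stabAut M₁ (imageSub (f.symm.trans θ) (imageSub f Q))) := by
        rw [himg]
        exact hfn
      have hcard : Nat.card M' = Nat.card M := (Nat.card_congr f.toEquiv).symm
      have h2 := top_step hS F n hup (fun X => Nonempty (NormHom F X Ph)) (f.symm.trans θ) (hf.symm.trans hθ)
        (pairOK_image F f hf hok) hlt' hfn' (IH M' (by rw [hcard]; exact hd) hf.le_right)
      rw [himg] at h2
      exact h1.trans h2.symm
    intro M M' f Q hf hok hd ha
    have hok' := pairOK_image F f hf hok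
    have hQ'S : imageSub f Q ≤ S := (imageSub_le f Q).trans hf.le_right
    by_cases hA : M' = normalizerIn S (imageSub f Q)
    · obtain ⟨a⟩ := ha
      exact ⟨(NormHom.ofIso f.symm hf.symm hA hok.2.2.1 (imageSub_symm_imageSub f hok.1) hQ'S).trans a⟩
    by_cases hB : M = normalizerIn S Q
    · subst hB
      obtain ⟨a⟩ := ha
      have hg := homEquiv_isFIso F a.mem rfl
      have himg : imageSub (homEquiv F a.mem rfl) Q = Ph := by
        unfold imageSub
        rw [equivHom_homEquiv]
        exact a.map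
      have hM'' : a.φ.range ≤ normalizerIn S Ph := by
        rintro _ ⟨x, rfl⟩
        exact a.val x
      have himg2 : imageSub (f.symm.trans (homEquiv F a.mem rfl)) (imageSub f Q) = Ph := by
        rw [imageSub_trans, imageSub_symm_imageSub f hok.1, himg]
      have hf₂ : IsFIso F (f.symm.trans (homEquiv F a.mem rfl)) := hf.symm.trans hg
      by_cases hC : a.φ.range = normalizerIn S Ph
      · have h4 := imageSub_symm_imageSub (f.symm.trans (homEquiv F a.mem rfl)) hok'.1
        rw [himg2] at h4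
        have hb : NormHom F Ph (imageSub f Q) :=
          NormHom.ofIso (f.symm.trans (homEquiv F a.mem rfl)).symm hf₂.symm hC hok'.2.2.1 h4 hPh.1
        exact hb.symm_of_card (hPh.2 _ hb.isConj)
      · have h3 := sub _ _ (f.symm.trans (homEquiv F a.mem rfl)) (imageSub f Q) hf₂ hok'
          (by rw [← Nat.card_congr f.toEquiv]; exact hd) hA (by rw [himg2]; exact hC)
        rw [himg2] at h3
        exact h3.mpr ⟨NormHom.refl F hPh.1⟩
    · exact (sub M M' f Q hf hok hd hB hA).mp ha

include hS in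
/-- Every member of the class maps, with its normalizer, to a fully normalized member. -/
theorem top_of_echain (hup : ∀ Q : Subgroup Ω, Q ≤ S → n < Nat.card Q → GoodClass F p Q) {Ph : Subgroup Ω}
    (hPh : F.IsFullyNormalized Ph) {X Y : Subgroup Ω} {e : X ≃* Y} (he : EChain F e) :
    Nat.card X = n → (Nonempty (NormHom F X Ph) ↔ Nonempty (NormHom F Y Ph)) := by
  induction he with
  | @elem X Y e R hXR hne hRN ψ hψ h =>
    intro hn
    have hf := homEquiv_isFIso F hψ rfl
    have hok : PairOK S n X R := ⟨hXR, hne, hRN, hn⟩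
    have himg : imageSub (homEquiv F hψ rfl) X = Y := by
      ext z
      rw [mem_imageSub']
      constructor
      · rintro ⟨x, hx, rfl⟩
        have := h ⟨x, hx⟩
        have h2 : (homEquiv F hψ rfl x : Ω) = ψ x := rfl
        rw [h2, show x = Subgroup.inclusion hXR ⟨x, hx⟩ from Subtype.ext rfl, this]
        exact (e _).2
      · intro hz
        refine ⟨Subgroup.inclusion hXR (e.symm ⟨z, hz⟩), (e.symm ⟨z, hz⟩).2, ?_⟩
        have := h (e.symm ⟨z, hz⟩)
        rw [MulEquiv.apply_symm_apply] at this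
        exact this
    constructor
    · intro ha
      have := top_claim hS F n hup hPh _ R _ (homEquiv F hψ rfl) X hf hok rfl ha
      rwa [himg] at this
    · intro ha
      have hok' := pairOK_image F (homEquiv F hψ rfl) hf hok
      have := top_claim hS F n hup hPh _ _ _ (homEquiv F hψ rfl).symm _ hf.symm hok' rfl
        (by rw [himg]; exact ha)
      rwa [imageSub_symm_imageSub _ hXR] at this
  | @trans X Y Z e₁ e₂ _ _ ih₁ ih₂ =>
    intro hn
    have hn' : Nat.card Y = n := by rw [← Nat.card_congr e₁.toEquiv, hn]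
    exact (ih₁ hn).trans (ih₂ hn')

end Top

end Cfsg.Agent.Lib.Helper26
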