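import Cfsg.Agent.Lib.Helper26.FSSatCritC
import Cfsg.Agent.Lib.Helper26.Stability

/-!
Saturation criterion (BCGLO, Theorem 2.2), part D1: restriction calculus for isomorphisms between overgroups of a
fixed subgroup `P`, and the group of automorphisms of `P` extending to a given overgroup `U`.
-/

set_option autoImplicit false

namespace Cfsg.Agent.Lib.Helper26

open Cfsg Cfsg.FusionSystem

variable {Ω : Type*} [Group Ω] {S : Subgroup Ω}

section Restrict

/-- Restriction of an isomorphism to subgroups that correspond under it. -/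
def isoRestrict {R R' : Subgroup Ω} (f : R ≃* R') (X X' : Subgroup Ω) (hX : X ≤ R) (hX' : X' ≤ R')
    (h : ∀ x : R, (x : Ω) ∈ X ↔ ((f x : R') : Ω) ∈ X') : X ≃* X' where
  toFun x := ⟨f ⟨x, hX x.2⟩, (h _).mp x.2⟩
  invFun y := ⟨f.symm ⟨y, hX' y.2⟩, (h _).mpr (by rw [MulEquiv.apply_symm_apply]; exact y.2)⟩
  left_inv x := by
    apply Subtype.ext
    simp
  right_inv y := by
    apply Subtype.ext
    simp
  map_mul' x y := by
    apply Subtype.ext
    show ((f ⟨((x * y : X) : Ω), _⟩ : R') : Ω) = ((f ⟨x, _⟩ : R') : Ω) * ((f ⟨y, _⟩ : R') : Ω)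
    rw [← Subgroup.coe_mul, ← map_mul]
    rfl

theorem isoRestrict_apply {R R' : Subgroup Ω} (f : R ≃* R') (X X' : Subgroup Ω) (hX : X ≤ R) (hX' : X' ≤ R')
    (h : ∀ x : R, (x : Ω) ∈ X ↔ ((f x : R') : Ω) ∈ X') (x : X) :
    ((isoRestrict f X X' hX hX' h x : X') : Ω) = f ⟨x, hX x.2⟩ := rfl

theorem isoRestrict_isFIso (F : FusionSystem S) {R R' : Subgroup Ω} {f : R ≃* R'} (hf : IsFIso F f)
    (X X' : Subgroup Ω) (hX : X ≤ R) (hX' : X' ≤ R') (h : ∀ x : R, (x : Ω) ∈ X ↔ ((f x : R') : Ω) ∈ X') :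
    IsFIso F (isoRestrict f X X' hX hX' h) := by
  unfold IsFIso
  have : equivHom (isoRestrict f X X' hX hX' h) = (equivHom f).comp (Subgroup.inclusion hX) := by
    ext x
    rfl
  rw [this]
  exact inclusion_comp_mem F hX hf

/-- `f` restricts to the automorphism `α` of `P`. -/
def Restricts {R R' P : Subgroup Ω} (hPR : P ≤ R) (f : R ≃* R') (α : MulAut P) : Prop :=
  ∀ x : P, ((f (Subgroup.inclusion hPR x) : R') : Ω) = ((α x : P) : Ω)

theorem Restricts.le_right {R R' P : Subgroup Ω} {hPR : P ≤ R} {f : R ≃* R'} {α : MulAut P}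
    (h : Restricts hPR f α) : P ≤ R' := by
  intro y hy
  have := h (α⁻¹ ⟨y, hy⟩)
  rw [MulAut.apply_inv_self] at this
  have h2 : y = ((f (Subgroup.inclusion hPR (α⁻¹ ⟨y, hy⟩)) : R') : Ω) := this.symm
  rw [h2]
  exact (f _).2

theorem Restricts.apply {R R' P : Subgroup Ω} {hPR : P ≤ R} {f : R ≃* R'} {α : MulAut P}
    (h : Restricts hPR f α) (x : P) :
    f (Subgroup.inclusion hPR x) = Subgroup.inclusion h.le_right (α x) := Subtype.ext (h x)

theorem Restricts.trans {R R' R'' P : Subgroup Ω} {hPR : P ≤ R} {f : R ≃* R'} {α : MulAut P}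
    (h : Restricts hPR f α) {hPR' : P ≤ R'} {g : R' ≃* R''} {β : MulAut P} (h' : Restricts hPR' g β) :
    Restricts hPR (f.trans g) (β * α) := by
  intro x
  rw [MulEquiv.trans_apply, h.apply x]
  exact h' (α x)

theorem Restricts.symm {R R' P : Subgroup Ω} {hPR : P ≤ R} {f : R ≃* R'} {α : MulAut P}
    (h : Restricts hPR f α) : Restricts h.le_right f.symm α⁻¹ := by
  intro x
  have h1 := h.apply (α⁻¹ x)
  rw [MulAut.apply_inv_self] at h1
  rw [← h1, MulEquiv.symm_apply_apply]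
  rfl

theorem Restricts.unique {R R' P : Subgroup Ω} {hPR : P ≤ R} {f : R ≃* R'} {α β : MulAut P}
    (h : Restricts hPR f α) (h' : Restricts hPR f β) : α = β := by
  ext x
  rw [← h x, ← h' x]

theorem Restricts.stab {R R' P : Subgroup Ω} {hPR : P ≤ R} {f : R ≃* R'} {α : MulAut P}
    (h : Restricts hPR f α) (x : R) : (x : Ω) ∈ P ↔ ((f x : R') : Ω) ∈ P := by
  constructor
  · intro hx
    have := h ⟨x, hx⟩
    have e : Subgroup.inclusion hPR ⟨x, hx⟩ = x := Subtype.ext rfl
    rw [e] at this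
    rw [this]
    exact (α _).2
  · intro hx
    have h1 := h.apply (α⁻¹ ⟨_, hx⟩)
    rw [MulAut.apply_inv_self] at h1
    have h2 : Subgroup.inclusion h.le_right (⟨_, hx⟩ : P) = f x := Subtype.ext rfl
    rw [h2] at h1
    have h3 := f.injective h1
    rw [← h3]
    exact (α⁻¹ _).2

theorem exists_restricts {R R' P : Subgroup Ω} (hPR : P ≤ R) (hPR' : P ≤ R') (f : R ≃* R')
    (h : ∀ x : R, (x : Ω) ∈ P ↔ ((f x : R') : Ω) ∈ P) : ∃ α : MulAut P, Restricts hPR f α :=
  ⟨isoRestrict f P P hPR hPR' h, fun _ => rfl⟩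

theorem Restricts.mem_autGroup (F : FusionSystem S) {R R' P : Subgroup Ω} {hPR : P ≤ R} {f : R ≃* R'}
    {α : MulAut P} (h : Restricts hPR f α) (hf : IsFIso F f) : α ∈ F.autGroup P := by
  have hPS : P ≤ S := hPR.trans hf.le_left
  rw [mem_autGroup_iff F hPS]
  have : P.subtype.comp α.toMonoidHom = (equivHom f).comp (Subgroup.inclusion hPR) := by
    ext x
    exact (h x).symm
  rw [this]
  exact inclusion_comp_mem F hPR hf

theorem restricts_one {R P : Subgroup Ω} (hPR : P ≤ R) : Restricts hPR (MulEquiv.refl R) (1 : MulAut P) :=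
  fun _ => rfl

theorem restricts_mul {R P : Subgroup Ω} {hPR : P ≤ R} {f g : MulAut R} {α β : MulAut P}
    (hf : Restricts hPR (f : R ≃* R) α) (hg : Restricts hPR (g : R ≃* R) β) :
    Restricts hPR ((f * g : MulAut R) : R ≃* R) (α * β) := by
  intro x
  show ((f (g (Subgroup.inclusion hPR x)) : R) : Ω) = ((α (β x) : P) : Ω)
  rw [hg.apply x]
  exact hf (β x)

theorem restricts_inv {R P : Subgroup Ω} {hPR : P ≤ R} {f : MulAut R} {α : MulAut P}
    (hf : Restricts hPR (f : R ≃* R) α) : Restricts hPR ((f⁻¹ : MulAut R) : R ≃* R) α⁻¹ := by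
  have := hf.symm
  exact this

theorem restricts_pow {R P : Subgroup Ω} {hPR : P ≤ R} {f : MulAut R} {α : MulAut P}
    (hf : Restricts hPR (f : R ≃* R) α) (m : ℕ) : Restricts hPR ((f ^ m : MulAut R) : R ≃* R) (α ^ m) := by
  induction m with
  | zero =>
    rw [pow_zero, pow_zero]
    exact restricts_one hPR
  | succ m ih =>
    rw [pow_succ, pow_succ]
    exact restricts_mul ih hf

/-- Conjugation by an element normalizing both `R` and `P` restricts to conjugation. -/
theorem restricts_normalizerMonoidHom {R P : Subgroup Ω} (hPR : P ≤ R) {g : Ω}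
    (hgR : g ∈ Subgroup.normalizer (R : Set Ω)) (hgP : g ∈ Subgroup.normalizer (P : Set Ω)) :
    Restricts hPR (R.normalizerMonoidHom ⟨g, hgR⟩ : R ≃* R) (P.normalizerMonoidHom ⟨g, hgP⟩) :=
  fun _ => rfl

/-- The automorphisms of `R` in a subgroup of `Aut(R)` restricting to an element of `K`. -/
def resSub {R P : Subgroup Ω} (hPR : P ≤ R) (K : Subgroup (MulAut P)) : Subgroup (MulAut R) where
  carrier := {f | ∃ k ∈ K, Restricts hPR (f : R ≃* R) k}
  one_mem' := ⟨1, K.one_mem, restricts_one hPR⟩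
  mul_mem' := by
    rintro f g ⟨k, hk, hfk⟩ ⟨l, hl, hgl⟩
    exact ⟨k * l, K.mul_mem hk hl, restricts_mul hfk hgl⟩
  inv_mem' := by
    rintro f ⟨k, hk, hfk⟩
    exact ⟨k⁻¹, K.inv_mem hk, restricts_inv hfk⟩

theorem mem_resSub {R P : Subgroup Ω} {hPR : P ≤ R} {K : Subgroup (MulAut P)} {f : MulAut R} :
    f ∈ resSub hPR K ↔ ∃ k ∈ K, Restricts hPR (f : R ≃* R) k := Iff.rfl

theorem resSub_le_stabAut {R P : Subgroup Ω} (hPR : P ≤ R) (K : Subgroup (MulAut P)) :
    resSub hPR K ≤ stabAut R P := by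
  rintro f ⟨k, -, hfk⟩
  exact fun x => hfk.stab x

/-- Restriction of an isomorphism of the system to a finite subgroup mapped into itself. -/
theorem exists_restrict_aut [Finite S] (F : FusionSystem S) {R R' X : Subgroup Ω} (f : R ≃* R') (hf : IsFIso F f)
    (hXR : X ≤ R) (h : ∀ x : X, ((f (Subgroup.inclusion hXR x) : R') : Ω) ∈ X) :
    ∃ β : MulAut X, β ∈ F.autGroup X ∧ ∀ x : X, ((β x : X) : Ω) = f (Subgroup.inclusion hXR x) := by
  have hXS : X ≤ S := hXR.trans hf.le_left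
  have hfinX : Finite X := finite_of_le hXS
  let g : X →* X := ((equivHom f).comp (Subgroup.inclusion hXR)).codRestrict X h
  have hinj : Function.Injective g := by
    intro a b hab
    have h0 : ((g a : X) : Ω) = ((g b : X) : Ω) := congrArg Subtype.val hab
    have h1 : ((f (Subgroup.inclusion hXR a) : R') : Ω) = f (Subgroup.inclusion hXR b) := h0
    have h2 := f.injective (Subtype.ext h1)
    exact Subgroup.inclusion_injective hXR h2
  have hbij : Function.Bijective g := ⟨hinj, Finite.surjective_of_injective hinj⟩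
  refine ⟨MulEquiv.ofBijective g hbij, ?_, fun x => rfl⟩
  rw [mem_autGroup_iff F hXS]
  have : X.subtype.comp (MulEquiv.ofBijective g hbij).toMonoidHom =
      (equivHom f).comp (Subgroup.inclusion hXR) := by
    ext x
    rfl
  rw [this]
  exact inclusion_comp_mem F hXR hf

end Restrict

section ExtAut

/-- The automorphisms of `P` extending to automorphisms of `U` in the system. -/
def extAut (F : FusionSystem S) {U P : Subgroup Ω} (hPU : P ≤ U) : Subgroup (MulAut P) where
  carrier := {α | ∃ β : MulAut U, β ∈ F.autGroup U ∧ Restricts hPU (β : U ≃* U) α}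
  one_mem' := ⟨1, (F.autGroup U).one_mem, restricts_one hPU⟩
  mul_mem' := by
    rintro a b ⟨β, hβ, hβa⟩ ⟨γ, hγ, hγb⟩
    exact ⟨β * γ, (F.autGroup U).mul_mem hβ hγ, restricts_mul hβa hγb⟩
  inv_mem' := by
    rintro a ⟨β, hβ, hβa⟩
    exact ⟨β⁻¹, (F.autGroup U).inv_mem hβ, restricts_inv hβa⟩

theorem mem_extAut {F : FusionSystem S} {U P : Subgroup Ω} {hPU : P ≤ U} {α : MulAut P} :
    α ∈ extAut F hPU ↔ ∃ β : MulAut U, β ∈ F.autGroup U ∧ Restricts hPU (β : U ≃* U) α := Iff.rfl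

theorem inn_le_extAut (F : FusionSystem S) {U P : Subgroup Ω} (hPU : P ≤ U) (hUS : U ≤ S) :
    Inn P ≤ extAut F hPU := by
  rintro _ ⟨x, rfl⟩
  refine ⟨MulAut.conj (Subgroup.inclusion hPU x), inn_le_autGroup F hUS ⟨_, rfl⟩, fun y => rfl⟩

end ExtAut

end Cfsg.Agent.Lib.Helper26
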