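import Cfsg.Agent.Lib.Helper26.FSSatCritD1

/-!
Saturation criterion (BCGLO, Theorem 2.2), part D2: the data at a fully normalized member `P` of the class, the subgroup
`U = N_S^K(P)`, and the lemma on automorphisms of fully normalized pairs.
-/

set_option autoImplicit false

namespace Cfsg.Agent.Lib.Helper26

open Cfsg Cfsg.FusionSystem

variable {Ω : Type*} [Group Ω] {S : Subgroup Ω}

/-- The situation at a fully normalized member `P` of a class all of whose strictly larger subgroups are good. -/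
structure TopData (F : FusionSystem S) (p n : ℕ) (P : Subgroup Ω) (K : Subgroup (MulAut P)) : Prop where
  fn : F.IsFullyNormalized P
  card : Nat.card P = n
  up : ∀ Q : Subgroup Ω, Q ≤ S → n < Nat.card Q → GoodClass F p Q
  top : ∀ Q, F.IsConj Q P → Nonempty (NormHom F Q P)
  KA : K ≤ F.autGroup P
  Kn : ∀ α ∈ F.autGroup P, ∀ k ∈ K, α * k * α⁻¹ ∈ K
  Kp : IsPGroup p K
  inn : Inn P ≤ K
  dich : K = Inn P ∨ centralizerIn S P ≤ P
  ne : ∃ s ∈ NK S P K, s ∉ P

namespace TopData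

variable {F : FusionSystem S} {p n : ℕ} {P : Subgroup Ω} {K : Subgroup (MulAut P)}

theorem PS (h : TopData F p n P K) : P ≤ S := h.fn.1

theorem PU (h : TopData F p n P K) : P ≤ NK S P K := by
  intro x hx
  refine ⟨h.PS hx, MulAut.conj (⟨x, hx⟩ : P), h.inn ⟨_, rfl⟩, fun t => rfl⟩

theorem UT (_h : TopData F p n P K) : NK S P K ≤ normalizerIn S P := NK_le_normalizerIn S P K

theorem US (_h : TopData F p n P K) : NK S P K ≤ S := NK_le S P K

/-- Isomorphisms of the system restricting to an automorphism of `P` map `U` into `U`. -/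
theorem map_U (h : TopData F p n P K) {R R' : Subgroup Ω} {f : R ≃* R'} (hf : IsFIso F f) {hPR : P ≤ R}
    {α : MulAut P} (hα : Restricts hPR f α) (u : R) (hu : (u : Ω) ∈ NK S P K) :
    ((f u : R') : Ω) ∈ NK S P K := by
  obtain ⟨k, hk, hku⟩ := hu.2
  have hαA : α ∈ F.autGroup P := hα.mem_autGroup F hf
  refine ⟨hf.le_right (f u).2, α * k * α⁻¹, h.Kn α hαA k hk, fun t => ?_⟩
  show ((α (k (α⁻¹ t)) : P) : Ω) = _
  rw [← hα (k (α⁻¹ t))]
  have e1 : Subgroup.inclusion hPR (k (α⁻¹ t)) = u * Subgroup.inclusion hPR (α⁻¹ t) * u⁻¹ := by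
    apply Subtype.ext
    exact hku (α⁻¹ t)
  rw [e1, map_mul, map_mul, map_inv, hα.apply (α⁻¹ t), MulAut.apply_inv_self]
  rfl

/-- `N_S(P)` normalizes `U`. -/
theorem conj_mem_U (h : TopData F p n P K) {t u : Ω} (ht : t ∈ normalizerIn S P) (hu : u ∈ NK S P K) :
    t * u * t⁻¹ ∈ NK S P K := by
  obtain ⟨k, hk, hku⟩ := hu.2
  have hc : P.normalizerMonoidHom ⟨t, ht.2⟩ ∈ F.autGroup P :=
    autInducedBy_le_autGroup F h.PS (normalizerMonoidHom_mem_autInducedBy ht.1 ht.2)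
  refine ⟨S.mul_mem (S.mul_mem ht.1 hu.1) (S.inv_mem ht.1), _, h.Kn _ hc k hk, fun x => ?_⟩
  show t * ((k ((P.normalizerMonoidHom ⟨t, ht.2⟩)⁻¹ x) : P) : Ω) * t⁻¹ = _
  rw [hku]
  have e : (((P.normalizerMonoidHom ⟨t, ht.2⟩)⁻¹ x : P) : Ω) = t⁻¹ * x * t := by
    rw [← map_inv]
    show (t⁻¹ : Ω) * x * (t⁻¹)⁻¹ = _
    rw [inv_inv]
  rw [e]
  group

theorem normalizerIn_le_normalizer_U [Finite S] (h : TopData F p n P K) :
    normalizerIn S P ≤ Subgroup.normalizer ((NK S P K : Subgroup Ω) : Set Ω) := by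
  intro t ht
  have hfin : Finite ↥(NK S P K) := finite_of_le h.US
  exact mem_normalizer_of_conj_mem_finite (fun u hu => h.conj_mem_U ht hu)

end TopData

section Omega

variable [Finite S] {p : ℕ} [Fact p.Prime] {F : FusionSystem S} {n : ℕ} {P : Subgroup Ω} {K : Subgroup (MulAut P)}

/-- The automorphisms of `R` in the system restricting to an element of `K` form a normal subgroup of those
preserving `P`. -/
theorem resSub_normal (h : TopData F p n P K) {R : Subgroup Ω} (hPR : P ≤ R) (hRS : R ≤ S) {σ lam : MulAut R}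
    (hσ : σ ∈ F.autGroup R ⊓ stabAut R P) (hlam : lam ∈ F.autGroup R ⊓ resSub hPR K) :
    σ * lam * σ⁻¹ ∈ F.autGroup R ⊓ resSub hPR K := by
  refine ⟨(F.autGroup R).mul_mem ((F.autGroup R).mul_mem hσ.1 hlam.1) ((F.autGroup R).inv_mem hσ.1), ?_⟩
  obtain ⟨s, hs⟩ := exists_restricts hPR hPR (σ : R ≃* R) hσ.2
  obtain ⟨k, hk, hlk⟩ := hlam.2
  have hsA : s ∈ F.autGroup P := hs.mem_autGroup F ((mem_autGroup_iff_isFIso F hRS σ).mp hσ.1)
  exact ⟨s * k * s⁻¹, h.Kn s hsA k hk, restricts_mul (restricts_mul hs hlk) (restricts_inv hs)⟩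

/-- In the centric case the automorphisms of `R` restricting to elements of `K` form a `p`-group. -/
theorem resSub_isPGroup (hS : IsPGroup p S) (h : TopData F p n P K) (hc : centralizerIn S P ≤ P) {R : Subgroup Ω}
    (hPR : P ≤ R) (hRT : R ≤ normalizerIn S P) : IsPGroup p ↥(resSub hPR K) := by
  have hRS : R ≤ S := hRT.trans (normalizerIn_le S P)
  have hfinR : Finite R := finite_of_le hRS
  have hfinP : Finite P := finite_of_le h.PS
  rintro ⟨lam, k, hk, hlk⟩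
  obtain ⟨a, ha⟩ := h.Kp ⟨k, hk⟩
  have hka : k ^ (p ^ a) = 1 := congrArg Subtype.val ha
  obtain ⟨e, he⟩ := (hS.to_le h.PS).exists_card_eq
  have hμ : Restricts hPR ((lam ^ (p ^ a) : MulAut R) : R ≃* R) 1 := by
    have := restricts_pow hlk (p ^ a)
    rwa [hka] at this
  have hfinN : Finite ↥(P.subgroupOf R) := inferInstance
  have hstep := stab_step (α := lam ^ (p ^ a)) (N := P.subgroupOf R) (M := ⊤) le_top ?_ 1 ?_
  · refine ⟨a + e, Subtype.ext ?_⟩
    show lam ^ (p ^ (a + e)) = 1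
    ext x
    have h1 := hstep x (Subgroup.mem_top x)
    rw [one_mul, Nat.card_congr (Subgroup.subgroupOfEquivOfLe hPR).toEquiv, he, ← pow_mul, ← pow_add] at h1
    rw [h1]
    rfl
  · intro x _
    rw [Subgroup.mem_subgroupOf]
    apply hc
    rw [mem_centralizerIn_iff]
    have hxS : ((x⁻¹ * (lam ^ (p ^ a)) x : R) : Ω) ∈ S := hRS (x⁻¹ * (lam ^ (p ^ a)) x).2
    refine ⟨hxS, fun y hy => ?_⟩
    have hxN : (x : Ω) ∈ Subgroup.normalizer (P : Set Ω) := (hRT x.2).2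
    have hy' : (x : Ω) * y * (x : Ω)⁻¹ ∈ P := (Subgroup.mem_normalizer_iff.mp hxN y).mp hy
    have h1 := hμ ⟨_, hy'⟩
    have h2 := hμ ⟨y, hy⟩
    have e1 : Subgroup.inclusion hPR ⟨_, hy'⟩ = x * Subgroup.inclusion hPR ⟨y, hy⟩ * x⁻¹ := Subtype.ext rfl
    rw [e1, map_mul, map_mul, map_inv] at h1
    have h3 : ((lam ^ (p ^ a)) x : Ω) * y * ((lam ^ (p ^ a)) x : Ω)⁻¹ = (x : Ω) * y * (x : Ω)⁻¹ := by
      have h4 := h1
      simp only [Subgroup.coe_mul, Subgroup.coe_inv, MulAut.one_apply] at h4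
      rw [show (((lam ^ (p ^ a)) (Subgroup.inclusion hPR ⟨y, hy⟩) : R) : Ω) = y from h2] at h4
      exact h4
    simp only [Subgroup.coe_mul, Subgroup.coe_inv]
    calc y * ((x : Ω)⁻¹ * ((lam ^ (p ^ a)) x : Ω))
        = (x : Ω)⁻¹ * ((x : Ω) * y * (x : Ω)⁻¹) * ((lam ^ (p ^ a)) x : Ω) := by group
      _ = (x : Ω)⁻¹ * (((lam ^ (p ^ a)) x : Ω) * y * ((lam ^ (p ^ a)) x : Ω)⁻¹) * ((lam ^ (p ^ a)) x : Ω) := by
          rw [h3]
      _ = (x : Ω)⁻¹ * ((lam ^ (p ^ a)) x : Ω) * y := by group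
  · intro x hx
    rw [pow_one]
    have := hμ ⟨x, hx⟩
    apply Subtype.ext
    exact this

end Omega

end Cfsg.Agent.Lib.Helper26
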