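import Cfsg.Agent.Lib.Helper26.FSSatCritD2

/-!
Saturation criterion (BCGLO, Theorem 2.2), part D3: automorphisms of fully normalized pairs over `P` restrict to
automorphisms of `P` that extend to `U`.
-/

set_option autoImplicit false

namespace Cfsg.Agent.Lib.Helper26

open Cfsg Cfsg.FusionSystem

variable {Ω : Type*} [Group Ω] {S : Subgroup Ω}

section Omega

variable [Finite S] {p : ℕ} [Fact p.Prime] {F : FusionSystem S} {n : ℕ} {P : Subgroup Ω} {K : Subgroup (MulAut P)}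

theorem card_lt_of_le_of_ne {A B : Subgroup Ω} [Finite B] (hAB : A ≤ B) (hne : A ≠ B) : Nat.card A < Nat.card B := by
  rcases (Subgroup.card_le_of_le hAB).lt_or_eq with h | h
  · exact h
  · exact absurd (Subgroup.eq_of_le_of_card_ge hAB h.ge) hne

/-- Correcting an automorphism of a fully normalized pair by an element restricting into `K` so that it
normalizes the image of `N_U(R)`. -/
theorem exists_delta (hS : IsPGroup p S) (h : TopData F p n P K) {R : Subgroup Ω} (hPR : P ≤ R) (hne : P ≠ R)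
    (hRT : R ≤ normalizerIn S P) (hfn : FullyKNormalized F R (stabAut R P)) {ω : MulAut R}
    (hω : ω ∈ F.autGroup R ⊓ stabAut R P) :
    ∃ δ ∈ F.autGroup R ⊓ resSub hPR K, (∃ d ∈ extAut F h.PU, Restricts hPR (δ : R ≃* R) d) ∧
      ∀ (g : Ω) (_ : g ∈ NK S P K) (hgN : g ∈ normalizerIn S R),
        δ * ω * R.normalizerMonoidHom ⟨g, hgN.2⟩ * ω⁻¹ * δ⁻¹ ∈ autInducedBy S R := by
  have hRS : R ≤ S := hRT.trans (normalizerIn_le S P)
  have hfinR : Finite R := finite_of_le hRS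
  have hcard : n < Nat.card R := by
    rw [← h.card]
    exact card_lt_of_le_of_ne hPR hne
  have hg : GoodClass F p R := h.up R hRS hcard
  have hSyl := fullyKNormalized_sylow_of_good hS F hg hfn
  have hLL₀ : F.autGroup R ⊓ resSub hPR K ≤ F.autGroup R ⊓ stabAut R P :=
    inf_le_inf_left _ (resSub_le_stabAut hPR K)
  have hcg : ∀ (g : Ω) (_ : g ∈ NK S P K) (hgN : g ∈ normalizerIn S R),
      R.normalizerMonoidHom ⟨g, hgN.2⟩ ∈ F.autGroup R ⊓ resSub hPR K := by
    intro g hgU hgN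
    have hgP : g ∈ Subgroup.normalizer (P : Set Ω) := (h.UT hgU).2
    exact ⟨autInducedBy_le_autGroup F hRS (normalizerMonoidHom_mem_autInducedBy hgN.1 hgN.2),
      P.normalizerMonoidHom ⟨g, hgP⟩, normalizerMonoidHom_mem_of_mem_NK hgU hgP,
      restricts_normalizerMonoidHom hPR hgN.2 hgP⟩
  have hconj : ∀ (g : Ω) (hgU : g ∈ NK S P K) (hgN : g ∈ normalizerIn S R),
      ω * R.normalizerMonoidHom ⟨g, hgN.2⟩ * ω⁻¹ ∈ F.autGroup R ⊓ resSub hPR K :=
    fun g hgU hgN => resSub_normal h hPR hRS hω (hcg g hgU hgN)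
  rcases h.dich with hK | hc
  · -- `K = Inn(P)`
    have hA₁ : ∃ Syl' : Sylow p ↥(F.autGroup R ⊓ resSub hPR K),
        (Syl' : Subgroup ↥(F.autGroup R ⊓ resSub hPR K)) =
          ((autInducedBy S R ⊓ stabAut R P) ⊓ (F.autGroup R ⊓ resSub hPR K)).subgroupOf
            (F.autGroup R ⊓ resSub hPR K) := by
      rw [sylowIn_iff_card inf_le_right]
      refine ⟨(autInducedBy_isPGroup hS R).to_le (inf_le_left.trans inf_le_left), fun B hBL hB => ?_⟩
      obtain ⟨σ, hσ, hσB⟩ := exists_conj_le_of_sylowIn hSyl (hBL.trans hLL₀) hB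
      have hle : B.map (MulAut.conj σ).toMonoidHom ≤
          (autInducedBy S R ⊓ stabAut R P) ⊓ (F.autGroup R ⊓ resSub hPR K) := by
        rintro _ ⟨b, hb, rfl⟩
        exact ⟨hσB ⟨b, hb, rfl⟩, resSub_normal h hPR hRS hσ (hBL hb)⟩
      calc Nat.card B = Nat.card (B.map (MulAut.conj σ).toMonoidHom) :=
            (Subgroup.card_map_of_injective (MulAut.conj σ).injective).symm
        _ ≤ _ := Subgroup.card_le_of_le hle
    obtain ⟨V, hV⟩ : ∃ V : Subgroup (MulAut R), V = Subgroup.closure {c | ∃ (g : Ω) (_ : g ∈ NK S P K)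
        (hgN : g ∈ normalizerIn S R), c = ω * R.normalizerMonoidHom ⟨g, hgN.2⟩ * ω⁻¹} := ⟨_, rfl⟩
    have hVL : V ≤ F.autGroup R ⊓ resSub hPR K := by
      rw [hV, Subgroup.closure_le]
      rintro _ ⟨g, hgU, hgN, rfl⟩
      exact hconj g hgU hgN
    have hVp : IsPGroup p V := by
      have hle : V ≤ (autInducedBy S R).map (MulAut.conj ω).toMonoidHom := by
        rw [hV, Subgroup.closure_le]
        rintro _ ⟨g, hgU, hgN, rfl⟩
        exact ⟨_, normalizerMonoidHom_mem_autInducedBy hgN.1 hgN.2, rfl⟩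
      exact ((autInducedBy_isPGroup hS R).map _).to_le hle
    obtain ⟨δ, hδ, hδV⟩ := exists_conj_le_of_sylowIn hA₁ hVL hVp
    refine ⟨δ, hδ, ?_, fun g hgU hgN => ?_⟩
    · obtain ⟨k, hk, hδk⟩ := hδ.2
      refine ⟨k, inn_le_extAut F h.PU h.US ?_, hδk⟩
      rw [← hK]
      exact hk
    · have hmem : ω * R.normalizerMonoidHom ⟨g, hgN.2⟩ * ω⁻¹ ∈ V := by
        rw [hV]
        exact Subgroup.subset_closure ⟨g, hgU, hgN, rfl⟩
      have h1 := hδV ⟨_, hmem, rfl⟩
      have e : δ * ω * R.normalizerMonoidHom ⟨g, hgN.2⟩ * ω⁻¹ * δ⁻¹ =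
          δ * (ω * R.normalizerMonoidHom ⟨g, hgN.2⟩ * ω⁻¹) * δ⁻¹ := by group
      rw [e]
      exact h1.1.1
  · -- centric case
    have hLp : IsPGroup p ↥(F.autGroup R ⊓ resSub hPR K) :=
      (resSub_isPGroup hS h hc hPR hRT).to_le inf_le_right
    obtain ⟨σ, hσ, hσL⟩ := exists_conj_le_of_sylowIn hSyl hLL₀ hLp
    have hLA₀ : F.autGroup R ⊓ resSub hPR K ≤ autInducedBy S R ⊓ stabAut R P := by
      intro lam hlam
      have h1 : σ⁻¹ * lam * σ⁻¹⁻¹ ∈ F.autGroup R ⊓ resSub hPR K :=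
        resSub_normal h hPR hRS ((F.autGroup R ⊓ stabAut R P).inv_mem hσ) hlam
      have h2 := hσL ⟨_, h1, rfl⟩
      have e : (MulAut.conj σ).toMonoidHom (σ⁻¹ * lam * σ⁻¹⁻¹) = lam := by
        show σ * (σ⁻¹ * lam * σ⁻¹⁻¹) * σ⁻¹ = lam
        group
      rwa [e] at h2
    refine ⟨1, Subgroup.one_mem _, ⟨1, (extAut F h.PU).one_mem, restricts_one hPR⟩, fun g hgU hgN => ?_⟩
    have := hLA₀ (hconj g hgU hgN)
    simp only [one_mul, inv_one, mul_one]
    exact this.1

/-- **Automorphisms of fully normalized pairs.** -/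
theorem omega_lemma (hS : IsPGroup p S) (h : TopData F p n P K) {R : Subgroup Ω} (hPR : P ≤ R) (hne : P ≠ R)
    (hRT : R ≤ normalizerIn S P) (hfn : FullyKNormalized F R (stabAut R P))
    (IH : ∀ (D D' : Subgroup Ω) (f : D ≃* D') (hPD : P ≤ D), IsFIso F f → D ≤ normalizerIn S P →
      Nat.card R < Nat.card D → ∀ a : MulAut P, Restricts hPD f a → a ∈ extAut F h.PU)
    (ω : MulAut R) (hω : ω ∈ F.autGroup R) (α : MulAut P) (hωα : Restricts hPR (ω : R ≃* R) α) :
    α ∈ extAut F h.PU := by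
  have hRS : R ≤ S := hRT.trans (normalizerIn_le S P)
  have hfinR : Finite R := finite_of_le hRS
  have hωF : IsFIso F (ω : R ≃* R) := (mem_autGroup_iff_isFIso F hRS ω).mp hω
  by_cases hUR : NK S P K ≤ R
  · have hmap : ∀ u : ↥(NK S P K), (((ω : R ≃* R) (Subgroup.inclusion hUR u) : R) : Ω) ∈ NK S P K :=
      fun u => h.map_U hωF hωα _ u.2
    obtain ⟨β, hβ, hβω⟩ := exists_restrict_aut F (ω : R ≃* R) hωF hUR hmap
    refine ⟨β, hβ, fun x => ?_⟩
    rw [hβω]
    exact hωα x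
  · -- an element of `N_U(R)` outside `R`
    have hLE : R ≤ Subgroup.normalizer ((NK S P K : Subgroup Ω) : Set Ω) :=
      hRT.trans h.normalizerIn_le_normalizer_U
    have hVS : R ⊔ NK S P K ≤ S := sup_le hRS h.US
    have hfinV : Finite ↥(R ⊔ NK S P K) := finite_of_le hVS
    have hneV : R ≠ R ⊔ NK S P K := by
      intro heq
      apply hUR
      rw [heq]
      exact le_sup_right
    obtain ⟨g, hgN, hgR⟩ := exists_mem_normalizerIn_not_mem (S := R ⊔ NK S P K) (hS.to_le hVS) le_sup_left hneV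
    have hgV : g ∈ ((R ⊔ NK S P K : Subgroup Ω) : Set Ω) := hgN.1
    rw [Subgroup.coe_mul_of_left_le_normalizer_right R (NK S P K) hLE] at hgV
    obtain ⟨r, hr, u, hu, hru⟩ := hgV
    have huN : u ∈ Subgroup.normalizer (R : Set Ω) := by
      have : u = r⁻¹ * g := by rw [← hru]; group
      rw [this]
      exact Subgroup.mul_mem _ (Subgroup.inv_mem _ (Subgroup.le_normalizer hr)) hgN.2
    have huR : u ∉ R := by
      intro huR
      apply hgR
      rw [← hru]
      exact R.mul_mem hr huR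
    have huNS : u ∈ normalizerIn S R := ⟨h.US hu, huN⟩
    -- correct `ω`
    have hω' : ω ∈ F.autGroup R ⊓ stabAut R P := ⟨hω, fun x => hωα.stab x⟩
    obtain ⟨δ, hδ, ⟨d, hd, hδd⟩, hδc⟩ := exists_delta hS h hPR hne hRT hfn hω'
    have hcard : n < Nat.card R := by
      rw [← h.card]
      exact card_lt_of_le_of_ne hPR hne
    have hg : GoodClass F p R := h.up R hRS hcard
    have hRec := fullyKNormalized_receptive_of_good hS F hg hfn
    have hδω : δ * ω ∈ F.autGroup R := (F.autGroup R).mul_mem hδ.1 hω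
    have hδωF : IsFIso F ((δ * ω : MulAut R) : R ≃* R) := (mem_autGroup_iff_isFIso F hRS _).mp hδω
    have hres : Restricts hPR ((δ * ω : MulAut R) : R ≃* R) (d * α) := restricts_mul hδd hωα
    have hle : R ⊔ (NK S P K ⊓ normalizerIn S R) ≤ extender S R (equivHom ((δ * ω : MulAut R) : R ≃* R)) := by
      apply sup_le
      · exact le_extender hRS _ (hom_apply_mem F hδωF)
      · intro g hg
        have h1 := hδc g hg.1 hg.2
        obtain ⟨k, hkS, hk⟩ := (mem_autInducedBy_iff S R _).mp h1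
        rw [mem_extender_iff]
        refine ⟨hg.2.1, hg.2.2, k, hkS, fun t ht => ?_⟩
        have h2 := hk ((δ * ω) t)
        show (((δ * ω) ⟨g * t * g⁻¹, ht⟩ : R) : Ω) = k * (((δ * ω) t : R) : Ω) * k⁻¹
        rw [← h2]
        have e : δ * ω * R.normalizerMonoidHom ⟨g, hg.2.2⟩ * ω⁻¹ * δ⁻¹ =
            (δ * ω) * R.normalizerMonoidHom ⟨g, hg.2.2⟩ * (δ * ω)⁻¹ := by group
        rw [e]
        generalize δ * ω = γ
        simp only [MulAut.mul_apply, MulAut.inv_apply_self]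
        rfl
    obtain ⟨ψ, hψ, hψe⟩ := hRec.2 R _ hδωF (equivHom_range _)
    have hΘ : ψ.comp (Subgroup.inclusion hle) ∈ F.Hom (R ⊔ (NK S P K ⊓ normalizerIn S R)) :=
      inclusion_comp_mem F hle hψ
    have hPR₁ : P ≤ R ⊔ (NK S P K ⊓ normalizerIn S R) := hPR.trans le_sup_left
    have hres₁ : Restricts hPR₁ (homEquiv F hΘ rfl) (d * α) := by
      intro x
      have := hψe x (hPR x.2) (hle (hPR₁ x.2))
      show ψ (Subgroup.inclusion hle (Subgroup.inclusion hPR₁ x)) = _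
      rw [show (Subgroup.inclusion hle (Subgroup.inclusion hPR₁ x)) = ⟨(x : Ω), hle (hPR₁ x.2)⟩ from rfl, this]
      exact hres x
    have hR₁T : R ⊔ (NK S P K ⊓ normalizerIn S R) ≤ normalizerIn S P :=
      sup_le hRT (inf_le_left.trans h.UT)
    have hfinR₁ : Finite ↥(R ⊔ (NK S P K ⊓ normalizerIn S R)) :=
      finite_of_le (hR₁T.trans (normalizerIn_le S P))
    have hcard₁ : Nat.card R < Nat.card ↥(R ⊔ (NK S P K ⊓ normalizerIn S R)) := by
      apply card_lt_of_le_of_ne le_sup_left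
      intro heq
      apply huR
      rw [heq]
      exact Subgroup.mem_sup_right ⟨hu, huNS⟩
    have h3 := IH _ _ (homEquiv F hΘ rfl) hPR₁ (homEquiv_isFIso F hΘ rfl) hR₁T hcard₁ (d * α) hres₁
    have h4 := (extAut F h.PU).mul_mem ((extAut F h.PU).inv_mem hd) h3
    rwa [inv_mul_cancel_left] at h4

end Omega

end Cfsg.Agent.Lib.Helper26
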