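import Cfsg.Agent.Lib.Helper26.FSSatCritD3

/-!
Saturation criterion (BCGLO, Theorem 2.2), part D4: maps between proper overgroups of `P` inside `N_S(P)` that
preserve `P` restrict to automorphisms of `P` extending to `U`.
-/

set_option autoImplicit false

namespace Cfsg.Agent.Lib.Helper26

open Cfsg Cfsg.FusionSystem

variable {Ω : Type*} [Group Ω] {S : Subgroup Ω}

section Extr

variable [Finite S] {p : ℕ} [Fact p.Prime] {F : FusionSystem S} {n : ℕ} {P : Subgroup Ω} {K : Subgroup (MulAut P)}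

/-- A fully normalized pair over `P` inside `N_S(P)` conjugate to a given pair `(R, P)`. -/
theorem exists_fn_pair_over (h : TopData F p n P K) {R : Subgroup Ω} (hPR : P ≤ R) (hne : P ≠ R)
    (hRT : R ≤ normalizerIn S P) :
    ∃ (R₁ : Subgroup Ω) (θ : R ≃* R₁) (a₀ : MulAut P), IsFIso F θ ∧ R₁ ≤ normalizerIn S P ∧
      FullyKNormalized F R₁ (stabAut R₁ P) ∧ Restricts hPR θ a₀ := by
  have hRS : R ≤ S := hRT.trans (normalizerIn_le S P)
  obtain ⟨R₀, e₀, he₀, hfn₀⟩ := exists_fullyKNormalized_conj F hRS (stabAut R P)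
  rw [kmap_stabAut] at hfn₀
  obtain ⟨P₀, hP₀⟩ : ∃ P₀ : Subgroup Ω, P₀ = imageSub e₀ P := ⟨_, rfl⟩
  rw [← hP₀] at hfn₀
  have hok : PairOK S n P R := ⟨hPR, hne, hRT, h.card⟩
  have hok₀ : PairOK S n P₀ R₀ := by
    rw [hP₀]
    exact pairOK_image F e₀ he₀ hok
  have hP₀R₀ : P₀ ≤ R₀ := hok₀.1
  have hstab₀ : ∀ x : R, (x : Ω) ∈ P ↔ ((e₀ x : R₀) : Ω) ∈ P₀ := by
    intro x
    rw [hP₀]
    exact (apply_mem_imageSub e₀ P x).symm
  have hconj : F.IsConj P₀ P :=
    (isConj_iff_exists_isFIso F).mpr ⟨_, (isoRestrict_isFIso F he₀ P P₀ hPR hP₀R₀ hstab₀).symm⟩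
  obtain ⟨a⟩ := h.top P₀ hconj
  have hgmem : a.φ.comp (Subgroup.inclusion hok₀.2.2.1) ∈ F.Hom R₀ := inclusion_comp_mem F _ a.mem
  obtain ⟨gb, hgb⟩ : ∃ gb : R₀ ≃* (a.φ.comp (Subgroup.inclusion hok₀.2.2.1)).range, gb = homEquiv F hgmem rfl :=
    ⟨_, rfl⟩
  have hgbF : IsFIso F gb := by
    rw [hgb]
    exact homEquiv_isFIso F hgmem rfl
  have hgb_apply : ∀ x : R₀, ((gb x : _) : Ω) = a.φ (Subgroup.inclusion hok₀.2.2.1 x) := by
    intro x
    rw [hgb]
    rfl
  have hamap := (map_subgroupOf_eq_iff' a.φ).mp a.map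
  have himg : imageSub gb P₀ = P := by
    ext z
    rw [mem_imageSub']
    constructor
    · rintro ⟨x, hx, rfl⟩
      rw [hgb_apply]
      exact hamap.1 _ hx
    · intro hz
      obtain ⟨y, hy, rfl⟩ := hamap.2 z hz
      refine ⟨⟨y, hP₀R₀ hy⟩, hy, ?_⟩
      rw [hgb_apply]
      rfl
  have hR₁T : (a.φ.comp (Subgroup.inclusion hok₀.2.2.1)).range ≤ normalizerIn S P := by
    rintro _ ⟨x, rfl⟩
    exact a.val _
  have hR₁S : (a.φ.comp (Subgroup.inclusion hok₀.2.2.1)).range ≤ S := hR₁T.trans (normalizerIn_le S P)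
  have hfinR₁ : Finite ↥(a.φ.comp (Subgroup.inclusion hok₀.2.2.1)).range := finite_of_le hR₁S
  have himgθ : imageSub (e₀.trans gb) P = P := by
    rw [imageSub_trans, ← hP₀, himg]
  have hstab : ∀ x : R, (x : Ω) ∈ P ↔ (((e₀.trans gb) x : _) : Ω) ∈ P := by
    intro x
    have := apply_mem_imageSub (e₀.trans gb) P x
    rw [himgθ] at this
    exact this.symm
  have hPR₁ : P ≤ (a.φ.comp (Subgroup.inclusion hok₀.2.2.1)).range := by
    have := imageSub_le (e₀.trans gb) P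
    rwa [himgθ] at this
  obtain ⟨a₀, ha₀⟩ := exists_restricts hPR hPR₁ (e₀.trans gb) hstab
  refine ⟨_, e₀.trans gb, a₀, he₀.trans hgbF, hR₁T, ⟨hR₁S, fun R₂ e₂ he₂ => ?_⟩, ha₀⟩
  have h1 := hfn₀.2 R₂ (gb.trans e₂) (hgbF.trans he₂)
  rw [← kmap_trans, kmap_stabAut gb, himg] at h1
  refine h1.trans ?_
  -- injection of `N_S(R₀) ∩ N_S(P₀)` into `N_S(R₁) ∩ N_S(P)`
  have hfinP₀ : Finite P₀ := finite_of_le (hP₀R₀.trans he₀.le_right)
  have hfinNK : Finite ↥(NK S (a.φ.comp (Subgroup.inclusion hok₀.2.2.1)).range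
      (stabAut (a.φ.comp (Subgroup.inclusion hok₀.2.2.1)).range P)) := finite_of_le (NK_le S _ _)
  have hmem : ∀ s : ↥(NK S R₀ (stabAut R₀ P₀)), (s : Ω) ∈ normalizerIn S P₀ :=
    fun s => ⟨s.2.1, mem_normalizer_of_mem_NK_stabAut hP₀R₀ s.2⟩
  have hval : ∀ s : ↥(NK S R₀ (stabAut R₀ P₀)), a.φ ⟨s, hmem s⟩ ∈
      NK S (a.φ.comp (Subgroup.inclusion hok₀.2.2.1)).range
        (stabAut (a.φ.comp (Subgroup.inclusion hok₀.2.2.1)).range P) := by
    intro s
    apply mem_NK_stabAut_of_normalizer (a.val _).1 _ (a.val _).2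
    apply mem_normalizer_of_conj_mem_finite
    rintro _ ⟨r, rfl⟩
    have hsN : (s : Ω) ∈ Subgroup.normalizer (R₀ : Set Ω) := (mem_NK_stabAut.mp s.2).2.1
    have hr' : (s : Ω) * r * (s : Ω)⁻¹ ∈ R₀ := (Subgroup.mem_normalizer_iff.mp hsN _).mp r.2
    refine ⟨⟨_, hr'⟩, ?_⟩
    show a.φ (Subgroup.inclusion hok₀.2.2.1 ⟨_, hr'⟩) = a.φ ⟨s, hmem s⟩ *
      a.φ (Subgroup.inclusion hok₀.2.2.1 r) * (a.φ ⟨s, hmem s⟩)⁻¹
    rw [← map_inv, ← map_mul, ← map_mul]
    congr 1
  apply Nat.card_le_card_of_injective (fun s : ↥(NK S R₀ (stabAut R₀ P₀)) => (⟨a.φ ⟨s, hmem s⟩, hval s⟩ :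
    ↥(NK S (a.φ.comp (Subgroup.inclusion hok₀.2.2.1)).range
      (stabAut (a.φ.comp (Subgroup.inclusion hok₀.2.2.1)).range P))))
  intro s t hst
  have h2 : a.φ ⟨s, hmem s⟩ = a.φ ⟨t, hmem t⟩ := congrArg Subtype.val hst
  have h3 := a.inj h2
  apply Subtype.ext
  exact Subtype.mk_eq_mk.mp h3

/-- **Extension property.** Maps between proper overgroups of `P` in `N_S(P)` preserving `P` restrict to
automorphisms of `P` that extend to `U`. -/
theorem extr (hS : IsPGroup p S) (h : TopData F p n P K) :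
    ∀ d : ℕ, ∀ (R R' : Subgroup Ω) (f : R ≃* R') (hPR : P ≤ R), IsFIso F f → R ≤ normalizerIn S P → P ≠ R →
      Nat.card S - Nat.card R = d → ∀ α : MulAut P, Restricts hPR f α → α ∈ extAut F h.PU := by
  intro d
  induction d using Nat.strong_induction_on with
  | _ d ih =>
    intro R R' f hPR hf hRT hne hd α hα
    have hRS : R ≤ S := hRT.trans (normalizerIn_le S P)
    have hfinR : Finite R := finite_of_le hRS
    have hfinP : Finite P := finite_of_le h.PS
    have hfinT : Finite ↥(normalizerIn S P) := finite_of_le (normalizerIn_le S P)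
    have IH' : ∀ (D D' : Subgroup Ω) (g : D ≃* D') (hPD : P ≤ D), IsFIso F g → D ≤ normalizerIn S P →
        Nat.card R < Nat.card D → ∀ a : MulAut P, Restricts hPD g a → a ∈ extAut F h.PU := by
      intro D D' g hPD hg hDT hlt a ha
      have hDS : Nat.card D ≤ Nat.card S := Subgroup.card_le_of_le hg.le_left
      have hneD : P ≠ D := by
        rintro rfl
        exact absurd hlt (not_lt.mpr (Subgroup.card_le_of_le hPR))
      exact ih (Nat.card S - Nat.card D) (by omega) D D' g hPD hg hDT hneD rfl a ha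
    by_cases hRtop : R = normalizerIn S P
    · have hUR : NK S P K ≤ R := by
        rw [hRtop]
        exact h.UT
      have hmap : ∀ u : ↥(NK S P K), ((f (Subgroup.inclusion hUR u) : R') : Ω) ∈ NK S P K :=
        fun u => h.map_U hf hα _ u.2
      obtain ⟨β, hβ, hβf⟩ := exists_restrict_aut F f hf hUR hmap
      refine ⟨β, hβ, fun x => ?_⟩
      rw [hβf]
      exact hα x
    · have hPR' : P ≤ R' := hα.le_right
      have hR'S : R' ≤ S := hf.le_right
      have hfinR' : Finite R' := finite_of_le hR'S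
      have hcardR' : Nat.card R' = Nat.card R := (Nat.card_congr f.toEquiv).symm
      have hR'T : R' ≤ normalizerIn S P := by
        intro y hy
        refine ⟨hR'S hy, ?_⟩
        apply mem_normalizer_of_conj_mem_finite
        intro z hz
        have hm : ((f.symm ⟨y, hy⟩ : R) : Ω) ∈ Subgroup.normalizer (P : Set Ω) := (hRT (f.symm ⟨y, hy⟩).2).2
        have hz' : ((f.symm ⟨y, hy⟩ : R) : Ω) * ((α⁻¹ ⟨z, hz⟩ : P) : Ω) * ((f.symm ⟨y, hy⟩ : R) : Ω)⁻¹ ∈ P :=
          (Subgroup.mem_normalizer_iff.mp hm _).mp (α⁻¹ ⟨z, hz⟩).2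
        have h1 := (hα.stab (f.symm ⟨y, hy⟩ * Subgroup.inclusion hPR (α⁻¹ ⟨z, hz⟩) * (f.symm ⟨y, hy⟩)⁻¹)).mp hz'
        rw [map_mul, map_mul, map_inv, MulEquiv.apply_symm_apply, hα.apply, MulAut.apply_inv_self] at h1
        exact h1
      have hR'top : R' ≠ normalizerIn S P := by
        intro heq
        apply hRtop
        apply Subgroup.eq_of_le_of_card_ge hRT
        rw [← hcardR', heq]
      have hne' : P ≠ R' := by
        intro heq
        apply hne
        apply Subgroup.eq_of_le_of_card_ge hPR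
        rw [← hcardR', ← heq]
      obtain ⟨R₁, θ, a₀, hθ, hR₁T, hfn, hθa₀⟩ := exists_fn_pair_over h hPR hne hRT
      have hPR₁ : P ≤ R₁ := hθa₀.le_right
      have hR₁S : R₁ ≤ S := hθ.le_right
      have hfinR₁ : Finite R₁ := finite_of_le hR₁S
      have hcard₁ : Nat.card R₁ = Nat.card R := (Nat.card_congr θ.toEquiv).symm
      have hne₁ : P ≠ R₁ := by
        intro heq
        apply hne
        apply Subgroup.eq_of_le_of_card_ge hPR
        rw [← hcard₁, ← heq]
      have hg₁ : GoodClass F p R₁ := by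
        apply h.up R₁ hR₁S
        rw [← h.card]
        exact card_lt_of_le_of_ne hPR₁ hne₁
      -- a general step: maps out of the normalizer of the pair
      have step : ∀ (R₂ : Subgroup Ω) (θ₂ : R₂ ≃* R₁) (hPR₂ : P ≤ R₂) (b : MulAut P), IsFIso F θ₂ →
          R₂ ≤ normalizerIn S P → R₂ ≠ normalizerIn S P → Nat.card R₂ = Nat.card R → Restricts hPR₂ θ₂ b →
          ∃ (χ : MulAut R₂) (c : MulAut P), IsFIso F ((χ : R₂ ≃* R₂).trans θ₂) ∧
            Restricts hPR₂ ((χ : R₂ ≃* R₂).trans θ₂) (b * c) ∧ b * c ∈ extAut F h.PU := by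
        intro R₂ θ₂ hPR₂ b hθ₂ hR₂T hR₂top hcard₂ hb
        have hR₂S : R₂ ≤ S := hR₂T.trans (normalizerIn_le S P)
        have hfinR₂ : Finite R₂ := finite_of_le hR₂S
        obtain ⟨χ, hχ, Θ, hΘ, hΘχ⟩ := pair_ext hS F hg₁ hfn θ₂ hθ₂ P (fun x => hb.stab x)
        obtain ⟨c, hc⟩ := exists_restricts hPR₂ hPR₂ (χ : R₂ ≃* R₂) hχ.2
        have hχF : IsFIso F (χ : R₂ ≃* R₂) := (mem_autGroup_iff_isFIso F hR₂S χ).mp hχ.1
        refine ⟨χ, c, hχF.trans hθ₂, hc.trans hb, ?_⟩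
        have hPD : P ≤ NK S R₂ (stabAut R₂ P) ⊔ R₂ := hPR₂.trans le_sup_right
        have hDT : NK S R₂ (stabAut R₂ P) ⊔ R₂ ≤ normalizerIn S P := by
          apply sup_le
          · intro s hs
            exact ⟨hs.1, mem_normalizer_of_mem_NK_stabAut hPR₂ hs⟩
          · exact hR₂T
        have hfinD : Finite ↥(NK S R₂ (stabAut R₂ P) ⊔ R₂) := finite_of_le (hDT.trans (normalizerIn_le S P))
        have hlt : Nat.card R < Nat.card ↥(NK S R₂ (stabAut R₂ P) ⊔ R₂) := by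
          rw [← hcard₂]
          apply card_lt_of_le_of_ne le_sup_right
          intro heq
          obtain ⟨g, hgN, hgR⟩ := exists_mem_normalizerIn_not_mem (S := normalizerIn S P)
            (hS.to_le (normalizerIn_le S P)) hR₂T hR₂top
          apply hgR
          rw [heq]
          exact Subgroup.mem_sup_left (mem_NK_stabAut_of_normalizer hgN.1.1 hgN.2 hgN.1.2)
        apply IH' _ _ (homEquiv F hΘ rfl) hPD (homEquiv_isFIso F hΘ rfl) hDT hlt
        intro x
        have h1 := hΘχ (Subgroup.inclusion hPR₂ x)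
        show Θ (Subgroup.inclusion hPD x) = _
        rw [show Subgroup.inclusion hPD x = Subgroup.inclusion le_sup_right (Subgroup.inclusion hPR₂ x) from rfl,
          h1]
        exact (hc.trans hb) x
      obtain ⟨χ, c, hF₁, hres₁, ha₁⟩ := step R θ hPR a₀ hθ hRT hRtop rfl hθa₀
      have hθ' : IsFIso F (f.symm.trans θ) := hf.symm.trans hθ
      have hres' : Restricts hPR' (f.symm.trans θ) (a₀ * α⁻¹) := hα.symm.trans hθa₀
      obtain ⟨χ', c', hF₂, hres₂, ha₂⟩ := step R' (f.symm.trans θ) hPR' (a₀ * α⁻¹) hθ' hR'T hR'top hcardR' hres'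
      -- the automorphism `ω` of `R₁`
      have hωF : IsFIso F (((χ : R ≃* R).trans θ).symm.trans (f.trans ((χ' : R' ≃* R').trans (f.symm.trans θ)))) :=
        hF₁.symm.trans (hf.trans hF₂)
      have hωres : Restricts hPR₁
          (((χ : R ≃* R).trans θ).symm.trans (f.trans ((χ' : R' ≃* R').trans (f.symm.trans θ))))
          ((a₀ * α⁻¹ * c') * α * (a₀ * c)⁻¹) := hres₁.symm.trans (hα.trans hres₂)
      have IH₁ : ∀ (D D' : Subgroup Ω) (g : D ≃* D') (hPD : P ≤ D), IsFIso F g → D ≤ normalizerIn S P →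
          Nat.card R₁ < Nat.card D → ∀ a : MulAut P, Restricts hPD g a → a ∈ extAut F h.PU := by
        intro D D' g hPD hg hDT hlt
        rw [hcard₁] at hlt
        exact IH' D D' g hPD hg hDT hlt
      have hw := omega_lemma hS h hPR₁ hne₁ hR₁T hfn IH₁
        (((χ : R ≃* R).trans θ).symm.trans (f.trans ((χ' : R' ≃* R').trans (f.symm.trans θ))))
        ((mem_autGroup_iff_isFIso F hR₁S _).mpr hωF) _ hωres
      have e : α = (a₀ * α⁻¹ * c')⁻¹ * ((a₀ * α⁻¹ * c') * α * (a₀ * c)⁻¹) * (a₀ * c) := by group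
      rw [e]
      exact (extAut F h.PU).mul_mem ((extAut F h.PU).mul_mem ((extAut F h.PU).inv_mem ha₂) hw) ha₁

end Extr

end Cfsg.Agent.Lib.Helper26
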