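import Cfsg.Agent.Lib.Helper26.FSSatCritD4

/-!
Saturation criterion (BCGLO, Theorem 2.2), part D5: every automorphism of `P` in the system extends to `U`; `P` is
fully automized and receptive.
-/

set_option autoImplicit false

namespace Cfsg.Agent.Lib.Helper26

open Cfsg Cfsg.FusionSystem

variable {Ω : Type*} [Group Ω] {S : Subgroup Ω}

section Gen

variable [Finite S] {p : ℕ} [Fact p.Prime] {F : FusionSystem S} {n : ℕ} {P : Subgroup Ω} {K : Subgroup (MulAut P)}

/-- The image of an elementary step normalizes the image of the source. -/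
theorem elem_range_le {X Y R : Subgroup Ω} (e : X ≃* Y) (hXR : X ≤ R) (hRN : R ≤ normalizerIn S X) (ψ : R →* Ω)
    (hψ : ψ ∈ F.Hom R) (h : ∀ x : X, ψ (Subgroup.inclusion hXR x) = ((e x : Y) : Ω)) :
    ψ.range ≤ normalizerIn S Y := by
  have hYR' : Y ≤ ψ.range := by
    intro y hy
    refine ⟨Subgroup.inclusion hXR (e.symm ⟨y, hy⟩), ?_⟩
    rw [h, MulEquiv.apply_symm_apply]
  have hYS : Y ≤ S := hYR'.trans (range_le F hψ)
  have hfinY : Finite Y := finite_of_le hYS
  rintro _ ⟨r, rfl⟩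
  refine ⟨hom_apply_mem F hψ r, ?_⟩
  apply mem_normalizer_of_conj_mem_finite
  intro y hy
  have hx := h (e.symm ⟨y, hy⟩)
  rw [MulEquiv.apply_symm_apply] at hx
  have hrN := (hRN r.2).2
  have hx' : (r : Ω) * ((e.symm ⟨y, hy⟩ : X) : Ω) * (r : Ω)⁻¹ ∈ X :=
    (Subgroup.mem_normalizer_iff.mp hrN _).mp (e.symm ⟨y, hy⟩).2
  have h5 := h ⟨_, hx'⟩
  have e1 : Subgroup.inclusion hXR ⟨_, hx'⟩ = r * Subgroup.inclusion hXR (e.symm ⟨y, hy⟩) * r⁻¹ :=
    Subtype.ext rfl
  rw [e1, map_mul, map_mul, map_inv, hx] at h5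
  rw [h5]
  exact (e _).2

theorem gen_aux (hS : IsPGroup p S) (h : TopData F p n P K) {X Y : Subgroup Ω} {e : X ≃* Y} (he : EChain F e) :
    ∀ (a : NormHom F X P) (b : NormHom F Y P),
      (((a.e.symm.trans e).trans b.e : P ≃* P) : MulAut P) ∈ extAut F h.PU := by
  induction he with
  | @elem X Y e R hXR hne hRN ψ hψ hψe =>
    intro a b
    have hRS : R ≤ S := hom_le F hψ
    have hfinR : Finite R := finite_of_le hRS
    have hψN := elem_range_le e hXR hRN ψ hψ hψe
    have hg₁ : a.φ.comp (Subgroup.inclusion hRN) ∈ F.Hom R := inclusion_comp_mem F hRN a.mem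
    have hg₂ : b.φ.comp (Subgroup.inclusion hψN) ∈ F.Hom ψ.range := inclusion_comp_mem F hψN b.mem
    have hF : IsFIso F ((homEquiv F hg₁ rfl).symm.trans ((homEquiv F hψ rfl).trans (homEquiv F hg₂ rfl))) :=
      (homEquiv_isFIso F hg₁ rfl).symm.trans ((homEquiv_isFIso F hψ rfl).trans (homEquiv_isFIso F hg₂ rfl))
    have hkey : ∀ y : P, ((homEquiv F hg₁ rfl (Subgroup.inclusion hXR (a.e.symm y)) : _) : Ω) = y := by
      intro y
      show a.φ (Subgroup.inclusion hRN (Subgroup.inclusion hXR (a.e.symm y))) = y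
      have := a.e_apply (a.e.symm y)
      rw [MulEquiv.apply_symm_apply] at this
      rw [this]
      rfl
    have hPR₂ : P ≤ (a.φ.comp (Subgroup.inclusion hRN)).range := by
      intro y hy
      have h0 := hkey ⟨y, hy⟩
      have h00 : y = ((homEquiv F hg₁ rfl (Subgroup.inclusion hXR (a.e.symm ⟨y, hy⟩)) : _) : Ω) := h0.symm
      rw [h00]
      exact (homEquiv F hg₁ rfl _).2
    have hR₂T : (a.φ.comp (Subgroup.inclusion hRN)).range ≤ normalizerIn S P := by
      rintro _ ⟨x, rfl⟩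
      exact a.val _
    have hfinR₂ : Finite ↥(a.φ.comp (Subgroup.inclusion hRN)).range :=
      finite_of_le (hR₂T.trans (normalizerIn_le S P))
    have hne₂ : P ≠ (a.φ.comp (Subgroup.inclusion hRN)).range := by
      intro heq
      have h1 : Nat.card P = Nat.card ↥(a.φ.comp (Subgroup.inclusion hRN)).range := by rw [← heq]
      rw [← Nat.card_congr (homEquiv F hg₁ rfl).toEquiv, ← Nat.card_congr a.e.toEquiv] at h1
      exact absurd h1 (card_lt_of_le_of_ne hXR hne).ne
    apply extr hS h _ _ _ _ hPR₂ hF hR₂T hne₂ rfl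
    intro y
    have h1 : (homEquiv F hg₁ rfl).symm (Subgroup.inclusion hPR₂ y) = Subgroup.inclusion hXR (a.e.symm y) := by
      rw [MulEquiv.symm_apply_eq]
      exact Subtype.ext (hkey y).symm
    show ((homEquiv F hg₂ rfl (homEquiv F hψ rfl ((homEquiv F hg₁ rfl).symm (Subgroup.inclusion hPR₂ y))) : _) : Ω) = _
    rw [h1]
    show b.φ (Subgroup.inclusion hψN (homEquiv F hψ rfl (Subgroup.inclusion hXR (a.e.symm y)))) = _
    have h2 : Subgroup.inclusion hψN (homEquiv F hψ rfl (Subgroup.inclusion hXR (a.e.symm y))) =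
        Subgroup.inclusion (le_normalizerIn b.le) (e (a.e.symm y)) := by
      apply Subtype.ext
      exact hψe (a.e.symm y)
    rw [h2, ← b.e_apply]
    rfl
  | @trans X Y Z e₁ e₂ h₁ h₂ ih₁ ih₂ =>
    intro a b
    have hconj : F.IsConj Y P :=
      isConj_trans F ((isConj_iff_exists_isFIso F).mpr ⟨e₂, h₂.isFIso⟩) b.isConj
    obtain ⟨c⟩ := h.top Y hconj
    have e : (((a.e.symm.trans (e₁.trans e₂)).trans b.e : P ≃* P) : MulAut P) =
        (((c.e.symm.trans e₂).trans b.e : P ≃* P) : MulAut P) * (((a.e.symm.trans e₁).trans c.e : P ≃* P) : MulAut P) := by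
      ext x
      simp [MulAut.mul_apply]
    rw [e]
    exact (extAut F h.PU).mul_mem (ih₂ c b) (ih₁ a c)

/-- **Every automorphism of `P` in the system extends to `U`.** -/
theorem gen (hS : IsPGroup p S) (h : TopData F p n P K) (hch : ∀ α ∈ F.autGroup P, EChain F (α : P ≃* P)) :
    F.autGroup P ≤ extAut F h.PU := by
  intro α hα
  have h1 := gen_aux hS h (hch α hα) (NormHom.refl F h.PS) (NormHom.refl F h.PS)
  have hid : ∀ x : P, (NormHom.refl F h.PS).e x = x := fun x => Subtype.ext rfl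
  have e : ((((NormHom.refl F h.PS).e.symm.trans (α : P ≃* P)).trans (NormHom.refl F h.PS).e : P ≃* P) : MulAut P) = α := by
    ext x
    show (((NormHom.refl F h.PS).e (α ((NormHom.refl F h.PS).e.symm x)) : P) : Ω) = α x
    rw [hid]
    have : (NormHom.refl F h.PS).e.symm x = x := by
      rw [MulEquiv.symm_apply_eq, hid]
    rw [this]
  rwa [e] at h1

end Gen

end Cfsg.Agent.Lib.Helper26
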