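import Cfsg.Agent.Lib.Helper26.FSSatCritD5

/-!
Saturation criterion (BCGLO, Theorem 2.2), part D6: `P` is fully automized and receptive.
-/

set_option autoImplicit false

namespace Cfsg.Agent.Lib.Helper26

open Cfsg Cfsg.FusionSystem

variable {Ω : Type*} [Group Ω] {S : Subgroup Ω}

section FA

variable [Finite S] {p : ℕ} [Fact p.Prime] {F : FusionSystem S} {n : ℕ} {P : Subgroup Ω} {K : Subgroup (MulAut P)}

theorem TopData.card_U_lt (h : TopData F p n P K) : n < Nat.card ↥(NK S P K) := by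
  have hfinU : Finite ↥(NK S P K) := finite_of_le h.US
  rw [← h.card]
  apply card_lt_of_le_of_ne h.PU
  intro heq
  obtain ⟨s, hs, hsP⟩ := h.ne
  apply hsP
  rw [heq]
  exact hs

theorem TopData.good_U (h : TopData F p n P K) : GoodClass F p (NK S P K) := h.up _ h.US h.card_U_lt

/-- `U` is fully normalized with respect to the stabilizer of `P`. -/
theorem TopData.fn_U (h : TopData F p n P K) : FullyKNormalized F (NK S P K) (stabAut (NK S P K) P) := by
  refine ⟨h.US, fun U' e he => ?_⟩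
  rw [kmap_stabAut]
  have hstab : ∀ x : ↥(NK S P K), (x : Ω) ∈ P ↔ ((e x : U') : Ω) ∈ imageSub e P :=
    fun x => (apply_mem_imageSub e P x).symm
  have hconj : F.IsConj (imageSub e P) P :=
    (isConj_iff_exists_isFIso F).mpr ⟨_, (isoRestrict_isFIso F he P (imageSub e P) h.PU (imageSub_le e P) hstab).symm⟩
  obtain ⟨a⟩ := h.top _ hconj
  have hfinT : Finite ↥(normalizerIn S P) := finite_of_le (normalizerIn_le S P)
  have hfinNK : Finite ↥(NK S (NK S P K) (stabAut (NK S P K) P)) := finite_of_le (NK_le S _ _)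
  have h1 : Nat.card ↥(NK S U' (stabAut U' (imageSub e P))) ≤ Nat.card ↥(normalizerIn S P) := by
    have hmem : ∀ s : ↥(NK S U' (stabAut U' (imageSub e P))), (s : Ω) ∈ normalizerIn S (imageSub e P) :=
      fun s => ⟨s.2.1, mem_normalizer_of_mem_NK_stabAut (imageSub_le e P) s.2⟩
    apply Nat.card_le_card_of_injective (fun s : ↥(NK S U' (stabAut U' (imageSub e P))) =>
      (⟨a.φ ⟨s, hmem s⟩, a.val _⟩ : ↥(normalizerIn S P)))
    intro s t hst
    have h2 : a.φ ⟨s, hmem s⟩ = a.φ ⟨t, hmem t⟩ := congrArg Subtype.val hst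
    have h3 := a.inj h2
    apply Subtype.ext
    exact Subtype.mk_eq_mk.mp h3
  refine h1.trans (Subgroup.card_le_of_le ?_)
  intro t ht
  exact mem_NK_stabAut_of_normalizer ht.1 (h.normalizerIn_le_normalizer_U ht) ht.2

/-- The restriction homomorphism from the automorphisms of `U` in the system preserving `P`. -/
noncomputable def resHomU (F : FusionSystem S) {U P : Subgroup Ω} (hPU : P ≤ U) (hUS : U ≤ S) :
    ↥(F.autGroup U ⊓ stabAut U P) →* ↥(F.autGroup P) where
  toFun β := ⟨isoRestrict (β : MulAut U) P P hPU hPU β.2.2,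
    Restricts.mem_autGroup F (hPR := hPU) (f := ((β : MulAut U) : U ≃* U)) (fun _ => rfl)
      ((mem_autGroup_iff_isFIso F hUS _).mp β.2.1)⟩
  map_one' := by
    apply Subtype.ext
    ext x
    rfl
  map_mul' β γ := by
    apply Subtype.ext
    ext x
    rfl

theorem resHomU_restricts (F : FusionSystem S) {U P : Subgroup Ω} (hPU : P ≤ U) (hUS : U ≤ S)
    (β : ↥(F.autGroup U ⊓ stabAut U P)) :
    Restricts hPU ((β : MulAut U) : U ≃* U) (resHomU F hPU hUS β : MulAut P) := fun _ => rfl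

theorem resHomU_surjective (hS : IsPGroup p S) (h : TopData F p n P K)
    (hch : ∀ α ∈ F.autGroup P, EChain F (α : P ≃* P)) : Function.Surjective (resHomU F h.PU h.US) := by
  rintro ⟨α, hα⟩
  obtain ⟨β, hβ, hβα⟩ := gen hS h hch hα
  refine ⟨⟨β, hβ, fun x => hβα.stab x⟩, ?_⟩
  apply Subtype.ext
  exact (resHomU_restricts F h.PU h.US _).unique hβα

/-- **`P` is fully automized.** -/
theorem fullyAutomized_of_topData (hS : IsPGroup p S) (h : TopData F p n P K)
    (hch : ∀ α ∈ F.autGroup P, EChain F (α : P ≃* P)) : F.IsFullyAutomized p P := by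
  refine ⟨h.PS, ?_⟩
  have hfinU : Finite ↥(NK S P K) := finite_of_le h.US
  have hfinP : Finite P := finite_of_le h.PS
  obtain ⟨Syl, hSyl⟩ := fullyKNormalized_sylow_of_good hS F h.good_U h.fn_U
  refine ⟨Syl.mapSurjective (resHomU_surjective hS h hch), ?_⟩
  rw [Sylow.coe_mapSurjective, hSyl]
  ext ⟨α, hα⟩
  rw [Subgroup.mem_map, Subgroup.mem_subgroupOf]
  constructor
  · rintro ⟨β, hβ, hβα⟩
    rw [Subgroup.mem_subgroupOf] at hβ
    obtain ⟨s, hsS, hs⟩ := (mem_autInducedBy_iff S _ _).mp hβ.1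
    show α ∈ autInducedBy S P
    rw [mem_autInducedBy_iff]
    refine ⟨s, hsS, fun x => ?_⟩
    have h1 : (resHomU F h.PU h.US β : MulAut P) = α := congrArg Subtype.val hβα
    rw [← h1]
    exact hs (Subgroup.inclusion h.PU x)
  · intro hα'
    have hα'' : α ∈ autInducedBy S P := hα'
    obtain ⟨s, hsS, hsN, rfl⟩ := (mem_autInducedBy_iff' S P α).mp hα''
    have hsU : s ∈ Subgroup.normalizer ((NK S P K : Subgroup Ω) : Set Ω) :=
      h.normalizerIn_le_normalizer_U ⟨hsS, hsN⟩
    have hmem : (NK S P K).normalizerMonoidHom ⟨s, hsU⟩ ∈ F.autGroup (NK S P K) ⊓ stabAut (NK S P K) P :=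
      ⟨autInducedBy_le_autGroup F h.US (normalizerMonoidHom_mem_autInducedBy hsS hsU),
        fun x => Subgroup.mem_normalizer_iff.mp hsN x⟩
    refine ⟨⟨_, hmem⟩, ?_, ?_⟩
    · rw [Subgroup.mem_subgroupOf]
      exact ⟨normalizerMonoidHom_mem_autInducedBy hsS hsU, fun x => Subgroup.mem_normalizer_iff.mp hsN x⟩
    · apply Subtype.ext
      ext x
      rfl

end FA

end Cfsg.Agent.Lib.Helper26
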