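import Cfsg.Agent.Lib.Helper26.FSSatCritD6

/-!
Saturation criterion (BCGLO, Theorem 2.2), part D7: `P` is receptive.
-/

set_option autoImplicit false

namespace Cfsg.Agent.Lib.Helper26

open Cfsg Cfsg.FusionSystem

variable {Ω : Type*} [Group Ω] {S : Subgroup Ω}

section RC

variable [Finite S] {p : ℕ} [Fact p.Prime] {F : FusionSystem S} {n : ℕ} {P : Subgroup Ω} {K : Subgroup (MulAut P)}

/-- Automorphisms of `P` in the system extend to their extenders. -/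
theorem aut_receptive_of_topData (hS : IsPGroup p S) (h : TopData F p n P K)
    (hch : ∀ α ∈ F.autGroup P, EChain F (α : P ≃* P)) (χ : MulAut P) (hχ : χ ∈ F.autGroup P) :
    ∃ ψ ∈ F.Hom (extender S P (equivHom (χ : P ≃* P))),
      ∀ (x : Ω) (hP : x ∈ P) (hN : x ∈ extender S P (equivHom (χ : P ≃* P))), ψ ⟨x, hN⟩ = ((χ ⟨x, hP⟩ : P) : Ω) := by
  have hfinU : Finite ↥(NK S P K) := finite_of_le h.US
  have hfinP : Finite P := finite_of_le h.PS
  have hgU := h.good_U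
  have hfnU := h.fn_U
  have hSylU := fullyKNormalized_sylow_of_good hS F hgU hfnU
  have hRecU := fullyKNormalized_receptive_of_good hS F hgU hfnU
  obtain ⟨β, hβ, hβχ⟩ := gen hS h hch hχ
  have hβL₀ : β ∈ F.autGroup (NK S P K) ⊓ stabAut (NK S P K) P := ⟨hβ, fun x => hβχ.stab x⟩
  -- elements of the extender
  have hN : ∀ g ∈ extender S P (equivHom (χ : P ≃* P)), g ∈ normalizerIn S P := by
    intro g hg
    obtain ⟨hgS, hgN, -⟩ := (mem_extender_iff S P _ g).mp hg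
    exact ⟨hgS, hgN⟩
  have hNU : ∀ g ∈ extender S P (equivHom (χ : P ≃* P)),
      g ∈ Subgroup.normalizer ((NK S P K : Subgroup Ω) : Set Ω) :=
    fun g hg => h.normalizerIn_le_normalizer_U (hN g hg)
  -- conjugation by elements of `N_S(P)` on `U`
  have hcU : ∀ (t : Ω) (ht : t ∈ normalizerIn S P),
      (NK S P K).normalizerMonoidHom ⟨t, h.normalizerIn_le_normalizer_U ht⟩ ∈
        autInducedBy S (NK S P K) ⊓ stabAut (NK S P K) P :=
    fun t ht => ⟨normalizerMonoidHom_mem_autInducedBy ht.1 _, fun x => Subgroup.mem_normalizer_iff.mp ht.2 x⟩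
  have hA₀L₀ : autInducedBy S (NK S P K) ⊓ stabAut (NK S P K) P ≤
      F.autGroup (NK S P K) ⊓ stabAut (NK S P K) P :=
    inf_le_inf_right _ (autInducedBy_le_autGroup F h.US)
  -- `W`
  have hA₀W : autInducedBy S (NK S P K) ⊓ stabAut (NK S P K) P ≤
      (F.autGroup (NK S P K) ⊓ stabAut (NK S P K) P) ⊓ resSub h.PU (autInducedBy S P) := by
    intro c hc
    refine ⟨hA₀L₀ hc, ?_⟩
    obtain ⟨s, hsS, hsN, rfl⟩ := (mem_autInducedBy_iff' S _ c).mp hc.1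
    have hsP : s ∈ Subgroup.normalizer (P : Set Ω) := by
      have hmem : s ∈ NK S (NK S P K) (stabAut (NK S P K) P) :=
        mem_NK_of_normalizerMonoidHom_mem hsS hsN hc.2
      exact mem_normalizer_of_mem_NK_stabAut h.PU hmem
    exact ⟨P.normalizerMonoidHom ⟨s, hsP⟩, normalizerMonoidHom_mem_autInducedBy hsS hsP,
      restricts_normalizerMonoidHom h.PU hsN hsP⟩
  have hSylW : ∃ Syl : Sylow p ↥((F.autGroup (NK S P K) ⊓ stabAut (NK S P K) P) ⊓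
      resSub h.PU (autInducedBy S P)),
      (Syl : Subgroup ↥((F.autGroup (NK S P K) ⊓ stabAut (NK S P K) P) ⊓ resSub h.PU (autInducedBy S P))) =
        (autInducedBy S (NK S P K) ⊓ stabAut (NK S P K) P).subgroupOf
          ((F.autGroup (NK S P K) ⊓ stabAut (NK S P K) P) ⊓ resSub h.PU (autInducedBy S P)) := by
    rw [sylowIn_iff_card hA₀W]
    obtain ⟨h1, h2⟩ := (sylowIn_iff_card hA₀L₀).mp hSylU
    exact ⟨h1, fun B hBW hB => h2 B (hBW.trans inf_le_left) hB⟩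
  -- `V`
  obtain ⟨V, hV⟩ : ∃ V : Subgroup (MulAut ↥(NK S P K)), V = Subgroup.closure
      {c | ∃ (g : Ω) (hg : g ∈ extender S P (equivHom (χ : P ≃* P))),
        c = β * (NK S P K).normalizerMonoidHom ⟨g, hNU g hg⟩ * β⁻¹} := ⟨_, rfl⟩
  have hVW : V ≤ (F.autGroup (NK S P K) ⊓ stabAut (NK S P K) P) ⊓ resSub h.PU (autInducedBy S P) := by
    rw [hV, Subgroup.closure_le]
    rintro _ ⟨g, hg, rfl⟩
    have hc := hcU g (hN g hg)
    refine ⟨Subgroup.mul_mem _ (Subgroup.mul_mem _ hβL₀ (hA₀L₀ hc)) (Subgroup.inv_mem _ hβL₀), ?_⟩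
    have hres : Restricts h.PU ((β * (NK S P K).normalizerMonoidHom ⟨g, hNU g hg⟩ * β⁻¹ : MulAut ↥(NK S P K)) :
        ↥(NK S P K) ≃* ↥(NK S P K)) (χ * P.normalizerMonoidHom ⟨g, (hN g hg).2⟩ * χ⁻¹) :=
      restricts_mul (restricts_mul hβχ (restricts_normalizerMonoidHom h.PU (hNU g hg) (hN g hg).2))
        (restricts_inv hβχ)
    refine ⟨_, ?_, hres⟩
    obtain ⟨-, -, k, hkS, hk⟩ := (mem_extender_iff S P _ g).mp hg
    rw [mem_autInducedBy_iff]
    refine ⟨k, hkS, fun y => ?_⟩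
    show ((χ (P.normalizerMonoidHom ⟨g, (hN g hg).2⟩ (χ⁻¹ y)) : P) : Ω) = k * y * k⁻¹
    have hx : g * ((χ⁻¹ y : P) : Ω) * g⁻¹ ∈ P :=
      (Subgroup.mem_normalizer_iff.mp (hN g hg).2 _).mp (χ⁻¹ y).2
    have h1 := hk (χ⁻¹ y) hx
    rw [equivHom_apply, equivHom_apply, MulAut.apply_inv_self] at h1
    rw [← h1]
    rfl
  have hVp : IsPGroup p V := by
    have hle : V ≤ (autInducedBy S (NK S P K)).map (MulAut.conj β).toMonoidHom := by
      rw [hV, Subgroup.closure_le]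
      rintro _ ⟨g, hg, rfl⟩
      exact ⟨_, (hcU g (hN g hg)).1, rfl⟩
    exact ((autInducedBy_isPGroup hS _).map _).to_le hle
  obtain ⟨w, hw, hwV⟩ := exists_conj_le_of_sylowIn hSylW hVW hVp
  obtain ⟨k, hk, hwk⟩ := hw.2
  obtain ⟨t, htS, htN, rfl⟩ := (mem_autInducedBy_iff' S P k).mp hk
  have ht : t ∈ normalizerIn S P := ⟨htS, htN⟩
  have hct := hcU t ht
  -- `δ₀` and `β'`
  obtain ⟨ct, hctdef⟩ : ∃ ct : MulAut ↥(NK S P K),
      ct = (NK S P K).normalizerMonoidHom ⟨t, h.normalizerIn_le_normalizer_U ht⟩ := ⟨_, rfl⟩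
  rw [← hctdef] at hct
  have hctres : Restricts h.PU (ct : ↥(NK S P K) ≃* ↥(NK S P K)) (P.normalizerMonoidHom ⟨t, htN⟩) := by
    rw [hctdef]
    exact restricts_normalizerMonoidHom h.PU _ htN
  have hδres : Restricts h.PU ((ct⁻¹ * w : MulAut ↥(NK S P K)) : ↥(NK S P K) ≃* ↥(NK S P K)) 1 := by
    have := restricts_mul (restricts_inv hctres) hwk
    rwa [inv_mul_cancel] at this
  have hβ'res : Restricts h.PU ((ct⁻¹ * w * β : MulAut ↥(NK S P K)) : ↥(NK S P K) ≃* ↥(NK S P K)) χ := by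
    have := restricts_mul hδres hβχ
    rwa [one_mul] at this
  have hβ'mem : ct⁻¹ * w * β ∈ F.autGroup (NK S P K) :=
    Subgroup.mul_mem _ (Subgroup.mul_mem _ (Subgroup.inv_mem _ (hA₀L₀ hct).1) hw.1.1) hβ
  have hβ'F : IsFIso F ((ct⁻¹ * w * β : MulAut ↥(NK S P K)) : ↥(NK S P K) ≃* ↥(NK S P K)) :=
    (mem_autGroup_iff_isFIso F h.US _).mp hβ'mem
  have hconj : ∀ (g : Ω) (hg : g ∈ extender S P (equivHom (χ : P ≃* P))),
      (ct⁻¹ * w * β) * (NK S P K).normalizerMonoidHom ⟨g, hNU g hg⟩ * (ct⁻¹ * w * β)⁻¹ ∈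
        autInducedBy S (NK S P K) := by
    intro g hg
    have hmem : β * (NK S P K).normalizerMonoidHom ⟨g, hNU g hg⟩ * β⁻¹ ∈ V := by
      rw [hV]
      exact Subgroup.subset_closure ⟨g, hg, rfl⟩
    have h1 : w * (β * (NK S P K).normalizerMonoidHom ⟨g, hNU g hg⟩ * β⁻¹) * w⁻¹ ∈
        autInducedBy S (NK S P K) ⊓ stabAut (NK S P K) P := hwV ⟨_, hmem, rfl⟩
    have e : (ct⁻¹ * w * β) * (NK S P K).normalizerMonoidHom ⟨g, hNU g hg⟩ * (ct⁻¹ * w * β)⁻¹ =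
        ct⁻¹ * (w * (β * (NK S P K).normalizerMonoidHom ⟨g, hNU g hg⟩ * β⁻¹) * w⁻¹) * ct := by group
    rw [e]
    exact Subgroup.mul_mem _ (Subgroup.mul_mem _ (Subgroup.inv_mem _ hct.1) h1.1) hct.1
  have hle : extender S P (equivHom (χ : P ≃* P)) ≤
      extender S (NK S P K) (equivHom ((ct⁻¹ * w * β : MulAut ↥(NK S P K)) : ↥(NK S P K) ≃* ↥(NK S P K))) := by
    intro g hg
    obtain ⟨k, hkS, hk⟩ := (mem_autInducedBy_iff S _ _).mp (hconj g hg)
    rw [mem_extender_iff]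
    refine ⟨(hN g hg).1, hNU g hg, k, hkS, fun u hu => ?_⟩
    have h2 := hk ((ct⁻¹ * w * β) u)
    show (((ct⁻¹ * w * β) ⟨g * u * g⁻¹, hu⟩ : ↥(NK S P K)) : Ω) = k * (((ct⁻¹ * w * β) u : ↥(NK S P K)) : Ω) * k⁻¹
    rw [← h2]
    generalize ct⁻¹ * w * β = γ
    simp only [MulAut.mul_apply, MulAut.inv_apply_self]
    rfl
  obtain ⟨ψ, hψ, hψe⟩ := hRecU.2 _ _ hβ'F (equivHom_range _)
  refine ⟨ψ.comp (Subgroup.inclusion hle), inclusion_comp_mem F hle hψ, fun x hP hNx => ?_⟩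
  have := hψe x (h.PU hP) (hle hNx)
  show ψ (Subgroup.inclusion hle ⟨x, hNx⟩) = _
  rw [show Subgroup.inclusion hle ⟨x, hNx⟩ = ⟨x, hle hNx⟩ from rfl, this]
  exact hβ'res ⟨x, hP⟩

/-- **`P` is receptive.** -/
theorem receptive_of_topData (hS : IsPGroup p S) (h : TopData F p n P K)
    (hch : ∀ α ∈ F.autGroup P, EChain F (α : P ≃* P)) : F.IsReceptive P := by
  refine ⟨h.PS, fun Q φ hφ hr => ?_⟩
  obtain ⟨a⟩ := h.top Q ⟨φ, hφ, hr⟩
  have hχF : IsFIso F (a.e.symm.trans (homEquiv F hφ hr)) := a.e_isFIso.symm.trans (homEquiv_isFIso F hφ hr)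
  have hχ : ((a.e.symm.trans (homEquiv F hφ hr) : P ≃* P) : MulAut P) ∈ F.autGroup P :=
    (mem_autGroup_iff_isFIso F h.PS _).mpr hχF
  obtain ⟨ψ, hψ, hψχ⟩ := aut_receptive_of_topData hS h hch _ hχ
  have hle1 : extender S Q φ ≤ normalizerIn S Q := by
    intro g hg
    obtain ⟨hgS, hgN, -⟩ := (mem_extender_iff S Q _ g).mp hg
    exact ⟨hgS, hgN⟩
  have hχapp : ∀ x : Q, (((a.e.symm.trans (homEquiv F hφ hr)) (a.e x) : P) : Ω) = φ x := by
    intro x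
    rw [MulEquiv.trans_apply, MulEquiv.symm_apply_apply]
    rfl
  have hval : ∀ g : ↥(extender S Q φ), (a.φ.comp (Subgroup.inclusion hle1)) g ∈
      extender S P (equivHom (a.e.symm.trans (homEquiv F hφ hr) : P ≃* P)) := by
    intro g
    obtain ⟨hgS, hgN, k, hkS, hk⟩ := (mem_extender_iff S Q _ g).mp g.2
    rw [mem_extender_iff]
    refine ⟨(a.val _).1, (a.val _).2, k, hkS, fun y hy => ?_⟩
    have hx : (g : Ω) * ((a.e.symm y : Q) : Ω) * (g : Ω)⁻¹ ∈ Q :=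
      (Subgroup.mem_normalizer_iff.mp hgN _).mp (a.e.symm y).2
    have h1 := a.φ_conj (Subgroup.inclusion hle1 g) (a.e.symm y) hx
    rw [MulEquiv.apply_symm_apply] at h1
    have h2 : (⟨(a.φ.comp (Subgroup.inclusion hle1)) g * (y : Ω) * ((a.φ.comp (Subgroup.inclusion hle1)) g)⁻¹, hy⟩ : P) =
        a.e ⟨(g : Ω) * ((a.e.symm y : Q) : Ω) * (g : Ω)⁻¹, hx⟩ := Subtype.ext h1.symm
    rw [h2, equivHom_apply, equivHom_apply, hχapp]
    have h3 := hχapp (a.e.symm y)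
    rw [MulEquiv.apply_symm_apply] at h3
    rw [h3]
    exact hk (a.e.symm y) hx
  refine ⟨ψ.comp ((a.φ.comp (Subgroup.inclusion hle1)).codRestrict _ hval),
    F.comp_mem (inclusion_comp_mem F hle1 a.mem) hψ hval, fun x hP hN => ?_⟩
  show ψ ⟨a.φ (Subgroup.inclusion hle1 ⟨x, hN⟩), _⟩ = φ ⟨x, hP⟩
  have h4 : a.φ (Subgroup.inclusion hle1 ⟨x, hN⟩) = ((a.e ⟨x, hP⟩ : P) : Ω) := by
    rw [a.e_apply]
    rfl
  have h5 := hψχ _ (a.e ⟨x, hP⟩).2 (by rw [← h4]; exact hval ⟨x, hN⟩)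
  rw [← hχapp ⟨x, hP⟩, ← h5]
  congr 1

/-- **The class of `P` is good.** -/
theorem good_of_topData (hS : IsPGroup p S) (h : TopData F p n P K)
    (hch : ∀ α ∈ F.autGroup P, EChain F (α : P ≃* P)) : GoodClass F p P :=
  ⟨P, isConj_refl F h.PS, fullyAutomized_of_topData hS h hch, receptive_of_topData hS h hch⟩

end RC

end Cfsg.Agent.Lib.Helper26
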