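import Cfsg.Agent.Lib.Helper26.FSSurjImage
import Cfsg.Agent.Lib.Helper26.FSStronglyClosedProd
import Cfsg.Agent.Lib.Helper26.FSCore

/-!
S5157: a saturated fusion system is solvable iff `S` has a chain of strongly closed subgroups with abelian
quotients.
-/

set_option autoImplicit false

namespace Cfsg.Agent.Lib.Helper26

open Cfsg Cfsg.FusionSystem
open scoped commutatorElement

section Transfer

variable {Ω : Type*} [Group Ω] {S : Subgroup Ω} {Ω' : Type*} [Group Ω'] {S' : Subgroup Ω'}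

/-- The full preimage of a strongly closed subgroup under a morphism is strongly closed. -/
theorem stronglyClosed_preimageAlong (F : FusionSystem S) (E : FusionSystem S') (θ : S →* Ω')
    (hθ : F.IsSurjectiveMorphism E θ) {A' : Subgroup Ω'} (hA' : E.StronglyClosed A') :
    F.StronglyClosed (preimageAlong θ A') := by
  refine ⟨preimageAlong_le θ A', fun P hPle φ hφ x => ?_⟩
  obtain ⟨φ', hφ', hP, hφS, hPP', hind⟩ := hθ.1.2 P φ hφ
  have hle : imageAlong θ P ≤ A' := by
    rintro _ ⟨s, hs, rfl⟩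
    exact ((mem_preimageAlong_iff θ A' _).mp (hPle hs)).2
  have h1 := hA'.2 (imageAlong θ P) hle φ' hφ' ⟨θ ⟨x, hP x.2⟩, hPP' x⟩
  rw [hind] at h1
  rw [mem_preimageAlong_iff]
  exact ⟨hφS x, h1⟩

/-- The image of a strongly closed subgroup `U` is strongly closed when `U T` is strongly closed. -/
theorem stronglyClosed_imageAlong (F : FusionSystem S) (E : FusionSystem S') (θ : S →* Ω')
    (hθ : F.IsSurjectiveMorphism E θ) {U : Subgroup Ω}
    (hUT : F.StronglyClosed (preimageAlong θ (imageAlong θ U))) :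
    E.StronglyClosed (imageAlong θ U) := by
  have hAS' : imageAlong θ U ≤ S' := by
    rintro _ ⟨s, -, rfl⟩
    exact hθ.1.1 s
  refine ⟨hAS', fun P' hP' φ' hφ' x' => ?_⟩
  have hP'S' := hP'.trans hAS'
  obtain ⟨φ, hφ, hind⟩ := exists_lift_hom F E θ hθ hP'S' hφ'
  obtain ⟨x, rfl⟩ := projHom_surjective θ hθ.2.1 hP'S' x'
  rw [hind]
  have hle : preimageAlong θ P' ≤ preimageAlong θ (imageAlong θ U) := by
    intro y hy
    obtain ⟨hyS, h⟩ := (mem_preimageAlong_iff θ P' y).mp hy
    exact (mem_preimageAlong_iff θ _ y).mpr ⟨hyS, hP' h⟩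
  have h1 := hUT.2 _ hle φ hφ x
  exact ((mem_preimageAlong_iff θ _ _).mp h1).2

end Transfer

section Solvable

variable {Ω : Type*} [Group Ω] {S : Subgroup Ω}

theorem normal_subgroupOf_of_stronglyClosed (F : FusionSystem S) {R : Subgroup Ω} (hR : F.StronglyClosed R) :
    (R.subgroupOf S).Normal :=
  Subgroup.normal_subgroupOf_of_le_normalizer (le_normalizer_of_stronglyClosed F hR)

theorem quot_ker (R : Subgroup Ω) [(R.subgroupOf S).Normal] :
    ∀ s : S, QuotientGroup.mk' (R.subgroupOf S) s = 1 ↔ (s : Ω) ∈ R := by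
  intro s
  rw [QuotientGroup.mk'_apply, QuotientGroup.eq_one_iff]
  exact Subgroup.mem_subgroupOf

theorem quot_range (R : Subgroup Ω) [(R.subgroupOf S).Normal] :
    (QuotientGroup.mk' (R.subgroupOf S)).range = ⊤ :=
  MonoidHom.range_eq_top.mpr (QuotientGroup.mk'_surjective _)

/-- One step of the chain. -/
theorem exists_abelian_step [Finite S] {p : ℕ} [Fact p.Prime] (hS : IsPGroup p S) (F : FusionSystem S)
    (hF : F.IsSaturated p) (h : F.IsSolvableSystem) {R : Subgroup Ω} (hR : F.StronglyClosed R) (hne : R ≠ S) :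
    ∃ R₁, F.StronglyClosed R₁ ∧ R ≤ R₁ ∧ R ≠ R₁ ∧ ⁅R₁, R₁⁆ ≤ R := by
  have hn : (R.subgroupOf S).Normal := normal_subgroupOf_of_stronglyClosed F hR
  have hker := quot_ker (S := S) R
  have hrange := quot_range (S := S) R
  have hfac := factorSystem_isFactorSystem F hR _ hker hrange
  have hcore := h R hR hne _ hfac
  have hθ := factorSystem_isSurjectiveMorphism hS F hF R hR _ _ hfac
  have hEsat := surj_saturated p hS F hF _ _ hθ
  have hpT : IsPGroup p ↥(⊤ : Subgroup (S ⧸ R.subgroupOf S)) := (hS.to_quotient _).to_subgroup ⊤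
  obtain ⟨A', hA'ne, hA'ab, hA'sc⟩ := (core_ne_bot_iff hpT _ hEsat).mp hcore
  refine ⟨preimageAlong _ A', stronglyClosed_preimageAlong F _ _ hθ hA'sc, ?_, ?_, ?_⟩
  · intro r hr
    rw [mem_preimageAlong_iff]
    refine ⟨hR.1 hr, ?_⟩
    rw [(hker ⟨r, hR.1 hr⟩).mpr hr]
    exact A'.one_mem
  · intro heq
    have hle' : preimageAlong (QuotientGroup.mk' (R.subgroupOf S)) A' ≤ R := heq.ge
    apply hA'ne
    rw [eq_bot_iff]
    intro a ha
    obtain ⟨y, hy⟩ := exists_preimage_elt _ hrange (hA'sc.1) a ha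
    have hyR : (y : Ω) ∈ R := hle' y.2
    rw [← hy, (hker _).mpr hyR]
    exact Subgroup.one_mem _
  · rw [Subgroup.commutator_le]
    intro a ha b hb
    obtain ⟨haS, ha'⟩ := (mem_preimageAlong_iff _ A' a).mp ha
    obtain ⟨hbS, hb'⟩ := (mem_preimageAlong_iff _ A' b).mp hb
    have hcS : ⁅a, b⁆ ∈ S := by
      rw [commutatorElement_def]
      exact S.mul_mem (S.mul_mem (S.mul_mem haS hbS) (S.inv_mem haS)) (S.inv_mem hbS)
    rw [← hker ⟨⁅a, b⁆, hcS⟩]
    have e : (⟨⁅a, b⁆, hcS⟩ : S) = ⁅(⟨a, haS⟩ : S), ⟨b, hbS⟩⁆ := rfl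
    rw [e, map_commutatorElement, commutatorElement_eq_one_iff_commute]
    have := hA'ab.1.comm ⟨_, ha'⟩ ⟨_, hb'⟩
    exact congrArg Subtype.val this

/-- Existence of the chain above a strongly closed subgroup. -/
theorem exists_chain_above [Finite S] {p : ℕ} [Fact p.Prime] (hS : IsPGroup p S) (F : FusionSystem S)
    (hF : F.IsSaturated p) (h : F.IsSolvableSystem) :
    ∀ d : ℕ, ∀ R : Subgroup Ω, F.StronglyClosed R → Nat.card S - Nat.card R = d →
      ∃ (n : ℕ) (T : Fin (n + 1) → Subgroup Ω), T 0 = R ∧ T (Fin.last n) = S ∧ Monotone T ∧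
        (∀ i, F.StronglyClosed (T i)) ∧ ∀ i : Fin n, ⁅T i.succ, T i.succ⁆ ≤ T (Fin.castSucc i) := by
  intro d
  induction d using Nat.strong_induction_on with
  | _ d ih =>
    intro R hR hd
    by_cases hne : R = S
    · refine ⟨0, fun _ => S, hne.symm, rfl, fun _ _ _ => le_rfl, fun _ => stronglyClosed_top F, fun i => i.elim0⟩
    · obtain ⟨R₁, hR₁, hle, hneq, hcomm⟩ := exists_abelian_step hS F hF h hR hne
      have hfin : Finite R₁ := finite_of_le hR₁.1
      have hlt : Nat.card R < Nat.card R₁ := by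
        by_contra hcon
        push Not at hcon
        exact hneq (Subgroup.eq_of_le_of_card_ge hle hcon)
      have hS₁ : Nat.card R₁ ≤ Nat.card S := Subgroup.card_le_of_le hR₁.1
      obtain ⟨n, T, hT0, hTlast, hTmono, hTsc, hTcomm⟩ := ih (Nat.card S - Nat.card R₁) (by omega) R₁ hR₁ rfl
      refine ⟨n + 1, Fin.cons R T, rfl, ?_, ?_, ?_, ?_⟩
      · have : Fin.last (n + 1) = (Fin.last n).succ := rfl
        rw [this, Fin.cons_succ]
        exact hTlast
      · rw [Fin.monotone_iff_le_succ]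
        intro i
        refine Fin.cases ?_ (fun j => ?_) i
        · show (Fin.cons R T : Fin (n + 2) → Subgroup Ω) 0 ≤ (Fin.cons R T : Fin (n + 2) → Subgroup Ω) (Fin.succ 0)
          rw [Fin.cons_zero, Fin.cons_succ, hT0]
          exact hle
        · have e : (Fin.castSucc j.succ : Fin (n + 2)) = (Fin.castSucc j).succ := rfl
          rw [e, Fin.cons_succ, Fin.cons_succ]
          exact hTmono (Fin.castSucc_le_succ j)
      · intro i
        refine Fin.cases ?_ (fun j => ?_) i
        · rw [Fin.cons_zero]; exact hR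
        · rw [Fin.cons_succ]; exact hTsc j
      · intro i
        refine Fin.cases ?_ (fun j => ?_) i
        · show ⁅(Fin.cons R T : Fin (n + 2) → Subgroup Ω) (Fin.succ 0), _⁆ ≤
            (Fin.cons R T : Fin (n + 2) → Subgroup Ω) 0
          rw [Fin.cons_zero, Fin.cons_succ, hT0]
          exact hcomm
        · have e : (Fin.castSucc j.succ : Fin (n + 2)) = (Fin.castSucc j).succ := rfl
          rw [e, Fin.cons_succ, Fin.cons_succ]
          exact hTcomm j

/-- In a chain from `⊥` to `S` and a proper subgroup `R`, some step leaves `R`. -/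
theorem exists_step_not_le {n : ℕ} (T : Fin (n + 1) → Subgroup Ω) {R : Subgroup Ω} (h0 : T 0 ≤ R)
    (hlast : ¬ T (Fin.last n) ≤ R) :
    ∃ j : Fin n, T (Fin.castSucc j) ≤ R ∧ ¬ T j.succ ≤ R := by
  by_contra hcon
  push Not at hcon
  apply hlast
  have : ∀ i : Fin (n + 1), T i ≤ R := by
    intro i
    induction i using Fin.induction with
    | zero => exact h0
    | succ j ih => exact hcon j ih
  exact this _

/-- A chain of strongly closed subgroups with abelian quotients makes the system solvable. -/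
theorem solvable_of_chain [Finite S] {p : ℕ} [Fact p.Prime] (hS : IsPGroup p S) (F : FusionSystem S)
    (hF : F.IsSaturated p) {n : ℕ} (T : Fin (n + 1) → Subgroup Ω) (hT0 : T 0 = ⊥) (hTlast : T (Fin.last n) = S)
    (hTsc : ∀ i, F.StronglyClosed (T i)) (hTcomm : ∀ i : Fin n, ⁅T i.succ, T i.succ⁆ ≤ T (Fin.castSucc i)) :
    F.IsSolvableSystem := by
  intro R hR hne hn E hE
  have hθ := factorSystem_isSurjectiveMorphism hS F hF R hR _ E hE
  have hEsat := surj_saturated p hS F hF E _ hθ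
  have hpT : IsPGroup p ↥(⊤ : Subgroup (S ⧸ R.subgroupOf S)) := (hS.to_quotient _).to_subgroup ⊤
  have hker := quot_ker (S := S) R
  have hlast : ¬ T (Fin.last n) ≤ R := by
    rw [hTlast]
    intro hle
    exact hne (le_antisymm hR.1 hle)
  obtain ⟨j, hj1, hj2⟩ := exists_step_not_le T (hT0 ▸ bot_le) hlast
  have hU := hTsc j.succ
  rw [core_ne_bot_iff hpT E hEsat]
  refine ⟨imageAlong (QuotientGroup.mk' (R.subgroupOf S)) (T j.succ), ?_, ?_, ?_⟩
  · intro hbot
    apply hj2
    intro u hu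
    have huS : u ∈ S := hU.1 hu
    have h1 : (QuotientGroup.mk' (R.subgroupOf S)) ⟨u, huS⟩ ∈
        imageAlong (QuotientGroup.mk' (R.subgroupOf S)) (T j.succ) :=
      (mem_imageAlong_iff _ _ _).mpr ⟨⟨u, huS⟩, hu, rfl⟩
    rw [hbot, Subgroup.mem_bot] at h1
    exact (hker _).mp h1
  · refine ⟨⟨?_⟩⟩
    rintro ⟨_, ha⟩ ⟨_, hb⟩
    obtain ⟨a, haU, rfl⟩ := (mem_imageAlong_iff _ _ _).mp ha
    obtain ⟨b, hbU, rfl⟩ := (mem_imageAlong_iff _ _ _).mp hb
    apply Subtype.ext
    show (QuotientGroup.mk' (R.subgroupOf S)) a * (QuotientGroup.mk' (R.subgroupOf S)) b =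
      (QuotientGroup.mk' (R.subgroupOf S)) b * (QuotientGroup.mk' (R.subgroupOf S)) a
    have hc : ⁅(a : Ω), (b : Ω)⁆ ∈ R := hj1 (hTcomm j (Subgroup.commutator_mem_commutator haU hbU))
    have hc' : (QuotientGroup.mk' (R.subgroupOf S)) ⁅a, b⁆ = 1 := (hker _).mpr hc
    rw [map_commutatorElement, commutatorElement_eq_one_iff_commute] at hc'
    exact hc'
  · apply stronglyClosed_imageAlong F E _ hθ
    rw [preimageAlong_imageAlong _ hR.1 hker hU.1]
    exact stronglyClosed_sup hS F hF _ _ hU hR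

/-- S5157. -/
theorem solvable_iff_chain [Finite S] (p : ℕ) [Fact p.Prime] (hS : IsPGroup p S) (F : FusionSystem S)
    (hF : F.IsSaturated p) :
    F.IsSolvableSystem ↔ ∃ (n : ℕ) (T : Fin (n + 1) → Subgroup Ω), T 0 = ⊥ ∧ T (Fin.last n) = S ∧ Monotone T ∧
      (∀ i, F.StronglyClosed (T i)) ∧ ∀ i : Fin n, ⁅T i.succ, T i.succ⁆ ≤ T (Fin.castSucc i) := by
  constructor
  · intro h
    exact exists_chain_above hS F hF h _ ⊥ (stronglyClosed_bot F) rfl
  · rintro ⟨n, T, hT0, hTlast, -, hTsc, hTcomm⟩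
    exact solvable_of_chain hS F hF T hT0 hTlast hTsc hTcomm

end Solvable

end Cfsg.Agent.Lib.Helper26
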