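import Cfsg.Agent.Lib.Helper26.FSSolvable
import Cfsg.Agent.Lib.Helper26.FSInvariant
import Cfsg.Agent.Lib.Helper26.FSChain

/-!
S5159: for `E ⊴ F` over `T`, `F` is solvable iff `E` and `F/T` are solvable.
-/

set_option autoImplicit false

namespace Cfsg.Agent.Lib.Helper26

open Cfsg Cfsg.FusionSystem
open scoped commutatorElement

section RelChain

variable {Ω : Type*} [Group Ω] {S : Subgroup Ω}

/-- A chain of strongly closed subgroups from `B` to `C` with abelian quotients. -/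
def RelChain (F : FusionSystem S) (B C : Subgroup Ω) : Prop :=
  ∃ (N : ℕ) (W : ℕ → Subgroup Ω), W 0 = B ∧ W N = C ∧ (∀ i, i ≤ N → F.StronglyClosed (W i)) ∧
    ∀ i, i < N → ⁅W (i + 1), W (i + 1)⁆ ≤ W i

theorem RelChain.refl (F : FusionSystem S) {B : Subgroup Ω} (hB : F.StronglyClosed B) : RelChain F B B :=
  ⟨0, fun _ => B, rfl, rfl, fun _ _ => hB, fun i hi => absurd hi (Nat.not_lt_zero i)⟩

theorem RelChain.step (F : FusionSystem S) {B C : Subgroup Ω} (hB : F.StronglyClosed B)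
    (hC : F.StronglyClosed C) (h : ⁅C, C⁆ ≤ B) : RelChain F B C := by
  refine ⟨1, fun i => if i = 0 then B else C, by simp, by simp, fun i _ => ?_, fun i hi => ?_⟩
  · by_cases h0 : i = 0
    · simp only [h0, if_true]; exact hB
    · simp only [h0, if_false]; exact hC
  · have : i = 0 := by omega
    subst this
    simpa using h

theorem RelChain.trans {F : FusionSystem S} {B C D : Subgroup Ω} (h1 : RelChain F B C) (h2 : RelChain F C D) :
    RelChain F B D := by
  obtain ⟨N₁, W₁, h10, h1N, h1sc, h1c⟩ := h1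
  obtain ⟨N₂, W₂, h20, h2N, h2sc, h2c⟩ := h2
  refine ⟨N₁ + N₂, fun i => if i ≤ N₁ then W₁ i else W₂ (i - N₁), ?_, ?_, fun i hi => ?_, fun i hi => ?_⟩
  · simp [h10]
  · by_cases h : N₂ = 0
    · subst h
      simp only [add_zero, le_refl, if_true]
      rw [h1N, ← h20, h2N]
    · have : ¬ N₁ + N₂ ≤ N₁ := by omega
      simp only [this, if_false]
      rw [show N₁ + N₂ - N₁ = N₂ by omega, h2N]
  · by_cases h : i ≤ N₁
    · simp only [h, if_true]; exact h1sc i h
    · simp only [h, if_false]; exact h2sc _ (by omega)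
  · by_cases h : i + 1 ≤ N₁
    · have h' : i ≤ N₁ := by omega
      simp only [h, h', if_true]
      exact h1c i (by omega)
    · by_cases h' : i ≤ N₁
      · have hi' : i = N₁ := by omega
        subst hi'
        simp only [h, le_refl, if_true, if_false]
        rw [show i + 1 - i = 0 + 1 by omega, h1N, ← h20]
        exact h2c 0 (by omega)
      · simp only [h, h', if_false]
        rw [show i + 1 - N₁ = (i - N₁) + 1 by omega]
        exact h2c _ (by omega)

theorem relChain_of_solvable [Finite S] {p : ℕ} [Fact p.Prime] (hS : IsPGroup p S) (F : FusionSystem S)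
    (hF : F.IsSaturated p) (h : F.IsSolvableSystem) : RelChain F ⊥ S := by
  obtain ⟨n, T, hT0, hTlast, -, hTsc, hTcomm⟩ := (solvable_iff_chain p hS F hF).mp h
  refine ⟨n, fun i => T ⟨min i n, by omega⟩, ?_, ?_, fun i _ => hTsc _, fun i hi => ?_⟩
  · simpa using hT0
  · simpa [Fin.last] using hTlast
  · have h1 := hTcomm ⟨i, hi⟩
    have e1 : (⟨min (i + 1) n, by omega⟩ : Fin (n + 1)) = (⟨i, hi⟩ : Fin n).succ := by
      apply Fin.ext
      simp
      omega
    have e2 : (⟨min i n, by omega⟩ : Fin (n + 1)) = Fin.castSucc (⟨i, hi⟩ : Fin n) := by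
      apply Fin.ext
      simp
      omega
    show ⁅T ⟨min (i + 1) n, _⟩, T ⟨min (i + 1) n, _⟩⁆ ≤ T ⟨min i n, _⟩
    rw [e1, e2]
    exact h1

theorem solvable_of_relChain [Finite S] {p : ℕ} [Fact p.Prime] (hS : IsPGroup p S) (F : FusionSystem S)
    (hF : F.IsSaturated p) (h : RelChain F ⊥ S) : F.IsSolvableSystem := by
  obtain ⟨N, W, h0, hN, hsc, hc⟩ := h
  refine solvable_of_chain hS F hF (fun i : Fin (N + 1) => W i) (by simpa using h0) (by simpa [Fin.last] using hN)
    (fun i => hsc _ (by omega)) (fun i => ?_)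
  have := hc i i.2
  simpa using this

end RelChain

section TransferChain

variable {Ω : Type*} [Group Ω] {S : Subgroup Ω} {Ω' : Type*} [Group Ω'] {S' : Subgroup Ω'}

theorem RelChain.preimage (F : FusionSystem S) (D : FusionSystem S') (θ : S →* Ω')
    (hθ : F.IsSurjectiveMorphism D θ) {B' C' : Subgroup Ω'} (h : RelChain D B' C') :
    RelChain F (preimageAlong θ B') (preimageAlong θ C') := by
  obtain ⟨N, W, h0, hN, hsc, hc⟩ := h
  refine ⟨N, fun i => preimageAlong θ (W i), congrArg (preimageAlong θ) h0, congrArg (preimageAlong θ) hN,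
    fun i hi => stronglyClosed_preimageAlong F D θ hθ (hsc i hi), fun i hi => ?_⟩
  rw [Subgroup.commutator_le]
  intro a ha b hb
  obtain ⟨haS, ha'⟩ := (mem_preimageAlong_iff θ _ a).mp ha
  obtain ⟨hbS, hb'⟩ := (mem_preimageAlong_iff θ _ b).mp hb
  rw [mem_preimageAlong_iff]
  have hcS : ⁅a, b⁆ ∈ S := by
    rw [commutatorElement_def]
    exact S.mul_mem (S.mul_mem (S.mul_mem haS hbS) (S.inv_mem haS)) (S.inv_mem hbS)
  refine ⟨hcS, ?_⟩
  have e1 : θ ⟨⁅a, b⁆, hcS⟩ = ⁅θ ⟨a, haS⟩, θ ⟨b, hbS⟩⁆ := by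
    rw [← map_commutatorElement]
    rfl
  rw [e1]
  exact hc i hi (Subgroup.commutator_mem_commutator ha' hb')

theorem RelChain.image [Finite S] {p : ℕ} [Fact p.Prime] (hS : IsPGroup p S) (F : FusionSystem S)
    (hF : F.IsSaturated p) (D : FusionSystem S') (θ : S →* Ω') (hθ : F.IsSurjectiveMorphism D θ)
    {S₀ : Subgroup Ω} (hS₀ : F.StronglyClosed S₀) (hker : ∀ s : S, θ s = 1 ↔ (s : Ω) ∈ S₀)
    {B C : Subgroup Ω} (h : RelChain F B C) : RelChain D (imageAlong θ B) (imageAlong θ C) := by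
  obtain ⟨N, W, h0, hN, hsc, hc⟩ := h
  refine ⟨N, fun i => imageAlong θ (W i), congrArg (imageAlong θ) h0, congrArg (imageAlong θ) hN,
    fun i hi => ?_, fun i hi => ?_⟩
  · apply stronglyClosed_imageAlong F D θ hθ
    rw [preimageAlong_imageAlong θ hS₀.1 hker (hsc i hi).1]
    exact stronglyClosed_sup hS F hF _ _ (hsc i hi) hS₀
  · rw [Subgroup.commutator_le]
    intro a ha b hb
    obtain ⟨s, hs, rfl⟩ := (mem_imageAlong_iff θ _ a).mp ha
    obtain ⟨t, ht, rfl⟩ := (mem_imageAlong_iff θ _ b).mp hb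
    rw [← map_commutatorElement, mem_imageAlong_iff]
    exact ⟨⁅s, t⁆, hc i hi (Subgroup.commutator_mem_commutator hs ht), rfl⟩

theorem RelChain.restrict {T : Subgroup Ω} (E : FusionSystem T) (F : FusionSystem S) (hEF : E.IsSubsystemOf F)
    {B C : Subgroup Ω} (h : RelChain F B C) : RelChain E (B ⊓ T) (C ⊓ T) := by
  obtain ⟨N, W, h0, hN, hsc, hc⟩ := h
  refine ⟨N, fun i => W i ⊓ T, congrArg (· ⊓ T) h0, congrArg (· ⊓ T) hN, fun i hi => ?_, fun i hi => ?_⟩
  · refine ⟨inf_le_right, fun R hR φ hφ x => ⟨?_, hom_apply_mem E hφ x⟩⟩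
    exact (hsc i hi).2 R (hR.trans inf_le_left) φ (hEF R hφ) x
  · apply le_inf
    · exact (Subgroup.commutator_mono inf_le_left inf_le_left).trans (hc i hi)
    · exact (Subgroup.commutator_mono inf_le_right inf_le_right).trans (Subgroup.commutator_le_self T)

end TransferChain

section Derived

variable {Ω : Type*} [Group Ω] {S T : Subgroup Ω}

theorem stronglyClosed_sInf (E : FusionSystem T) (𝒰 : Set (Subgroup Ω)) {U₀ : Subgroup Ω} (hU₀ : U₀ ∈ 𝒰)
    (h : ∀ U ∈ 𝒰, E.StronglyClosed U) : E.StronglyClosed (sInf 𝒰) := by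
  refine ⟨(sInf_le hU₀).trans (h U₀ hU₀).1, fun R hR φ hφ x => ?_⟩
  rw [Subgroup.mem_sInf]
  intro U hU
  exact (h U hU).2 R (hR.trans (sInf_le hU)) φ hφ x

/-- The canonical derived-type series of `E`. -/
def dser (E : FusionSystem T) : ℕ → Subgroup Ω
  | 0 => T
  | (i + 1) => sInf {U | E.StronglyClosed U ∧ ⁅dser E i, dser E i⁆ ≤ U}

theorem dser_zero (E : FusionSystem T) : dser E 0 = T := rfl

theorem dser_succ (E : FusionSystem T) (i : ℕ) :
    dser E (i + 1) = sInf {U | E.StronglyClosed U ∧ ⁅dser E i, dser E i⁆ ≤ U} := rfl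

theorem dser_stronglyClosed (E : FusionSystem T) : ∀ i, E.StronglyClosed (dser E i) := by
  intro i
  induction i with
  | zero => exact stronglyClosed_top E
  | succ i ih =>
    rw [dser_succ]
    apply stronglyClosed_sInf E _ (U₀ := T)
    · exact ⟨stronglyClosed_top E, (Subgroup.commutator_le_self _).trans ih.1⟩
    · intro U hU
      exact hU.1

theorem dser_succ_le (E : FusionSystem T) (i : ℕ) : dser E (i + 1) ≤ dser E i := by
  rw [dser_succ]
  exact sInf_le ⟨dser_stronglyClosed E i, Subgroup.commutator_le_self _⟩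

theorem comm_le_dser_succ (E : FusionSystem T) (i : ℕ) : ⁅dser E i, dser E i⁆ ≤ dser E (i + 1) := by
  rw [dser_succ]
  exact le_sInf fun U hU => hU.2

theorem dser_le_of_chain (E : FusionSystem T) {N : ℕ} {W : ℕ → Subgroup Ω} (hN : W N = T)
    (hsc : ∀ i, i ≤ N → E.StronglyClosed (W i)) (hc : ∀ i, i < N → ⁅W (i + 1), W (i + 1)⁆ ≤ W i) :
    ∀ i, i ≤ N → dser E i ≤ W (N - i) := by
  intro i
  induction i with
  | zero =>
    intro _
    rw [dser_zero, Nat.sub_zero, hN]
  | succ i ih =>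
    intro hi
    rw [dser_succ]
    apply sInf_le
    refine ⟨hsc _ (by omega), ?_⟩
    have h1 := ih (by omega)
    have h2 := hc (N - (i + 1)) (by omega)
    rw [show N - (i + 1) + 1 = N - i by omega] at h2
    exact (Subgroup.commutator_mono h1 h1).trans h2

variable {E : FusionSystem T} {F : FusionSystem S}

theorem imgAut_stronglyClosed (hinv : AutInv E F) {U : Subgroup Ω} (hU : E.StronglyClosed U) {α : MulAut T}
    (hα : α ∈ F.autGroup T) : E.StronglyClosed (imgAut α U) := by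
  refine ⟨imgAut_le α U, fun R hR ψ hψ r => ?_⟩
  have hRT : R ≤ T := hR.trans (imgAut_le α U)
  have hα' : α⁻¹ ∈ F.autGroup T := Subgroup.inv_mem _ hα
  obtain ⟨χ, hχ, hχ'⟩ := AutInv.exists hinv hRT hψ hα'
  have hle : imgAut α⁻¹ R ≤ U := by
    intro z hz
    obtain ⟨x, hx, rfl⟩ := mem_imgAut.mp hz
    obtain ⟨u, hu, hux⟩ := mem_imgAut.mp (hR hx)
    have : α u = x := Subtype.ext hux
    rw [← this, MulAut.inv_apply_self]
    exact hu
  have hmem : ((α⁻¹ ⟨r, hRT r.2⟩ : T) : Ω) ∈ imgAut α⁻¹ R := apply_mem_imgAut α⁻¹ ⟨r, hRT r.2⟩ r.2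
  have h1 := hU.2 (imgAut α⁻¹ R) hle χ hχ ⟨_, hmem⟩
  rw [hχ' ⟨r, hRT r.2⟩ r.2 hmem] at h1
  have h2 := apply_mem_imgAut α _ h1
  rw [MulAut.apply_inv_self] at h2
  exact h2

theorem stronglyClosed_of_invariant (hfrat : ∀ P : Subgroup Ω, P ≤ T → ∀ φ : P →* Ω, φ ∈ F.Hom P → Dec E F P φ)
    {U : Subgroup Ω} (hUS : U ≤ S) (hU : E.StronglyClosed U)
    (hinvU : ∀ α ∈ F.autGroup T, imgAut α U ≤ U) : F.StronglyClosed U := by
  refine ⟨hUS, fun R hR φ hφ x => ?_⟩
  obtain ⟨α, hα, φ₀, hφ₀, h⟩ := hfrat R (hR.trans hU.1) φ hφ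
  have hx0 : φ₀ x ∈ U := hU.2 R hR φ₀ hφ₀ x
  rw [h x (hU.1 hx0)]
  exact hinvU α hα (apply_mem_imgAut α ⟨φ₀ x, hU.1 hx0⟩ hx0)

theorem dser_invariant (hinv : AutInv E F) : ∀ i, ∀ α ∈ F.autGroup T, imgAut α (dser E i) ≤ dser E i := by
  intro i
  induction i with
  | zero =>
    intro α _
    exact imgAut_le α _
  | succ i ih =>
    intro α hα z hz
    obtain ⟨u, hu, rfl⟩ := mem_imgAut.mp hz
    rw [dser_succ, Subgroup.mem_sInf]
    rintro U ⟨hUsc, hUc⟩
    have hα' : α⁻¹ ∈ F.autGroup T := Subgroup.inv_mem _ hα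
    have hU' : imgAut α⁻¹ U ∈ {U | E.StronglyClosed U ∧ ⁅dser E i, dser E i⁆ ≤ U} := by
      refine ⟨imgAut_stronglyClosed hinv hUsc hα', ?_⟩
      rw [Subgroup.commutator_le]
      intro a ha b hb
      have haT : a ∈ T := (dser_stronglyClosed E i).1 ha
      have hbT : b ∈ T := (dser_stronglyClosed E i).1 hb
      have ha' : ((α ⟨a, haT⟩ : T) : Ω) ∈ dser E i := ih α hα (apply_mem_imgAut α ⟨a, haT⟩ ha)
      have hb' : ((α ⟨b, hbT⟩ : T) : Ω) ∈ dser E i := ih α hα (apply_mem_imgAut α ⟨b, hbT⟩ hb)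
      have hc : ((α ⁅(⟨a, haT⟩ : T), ⟨b, hbT⟩⁆ : T) : Ω) ∈ U := by
        rw [map_commutatorElement]
        exact hUc (Subgroup.commutator_mem_commutator ha' hb')
      have h3 := apply_mem_imgAut α⁻¹ _ hc
      rw [MulAut.inv_apply_self] at h3
      exact h3
    have h4 : (u : Ω) ∈ imgAut α⁻¹ U := by
      have hle : dser E (i + 1) ≤ imgAut α⁻¹ U := by
        rw [dser_succ]
        exact sInf_le hU'
      exact hle hu
    obtain ⟨w, hw, hwu⟩ := mem_imgAut.mp h4
    have : α⁻¹ w = u := Subtype.ext hwu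
    rw [← this, MulAut.apply_inv_self]
    exact hw

theorem relChain_dser (hinv : AutInv E F)
    (hfrat : ∀ P : Subgroup Ω, P ≤ T → ∀ φ : P →* Ω, φ ∈ F.Hom P → Dec E F P φ) (hTS : T ≤ S) :
    ∀ m, RelChain F (dser E m) T := by
  have hsc : ∀ i, F.StronglyClosed (dser E i) := fun i =>
    stronglyClosed_of_invariant hfrat ((dser_stronglyClosed E i).1.trans hTS) (dser_stronglyClosed E i)
      (dser_invariant hinv i)
  intro m
  induction m with
  | zero => exact RelChain.refl F (hsc 0)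
  | succ m ih => exact (RelChain.step F (hsc (m + 1)) (hsc m) (comm_le_dser_succ E m)).trans ih

end Derived

section Main

variable {Ω : Type*} [Group Ω] {S : Subgroup Ω}

/-- S5159. -/
theorem solvable_iff_of_normal [Finite S] {p : ℕ} [Fact p.Prime] (hS : IsPGroup p S) (F : FusionSystem S)
    (hF : F.IsSaturated p) {T : Subgroup Ω} (E : FusionSystem T) (hE : E.IsNormalIn F p) {Ω' : Type*} [Group Ω']
    {S' : Subgroup Ω'} (θ : S →* Ω') (D : FusionSystem S') (hD : F.IsFactorSystem T θ D) :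
    F.IsSolvableSystem ↔ (E.IsSolvableSystem ∧ D.IsSolvableSystem) := by
  obtain ⟨⟨hEsat, -, hEF, hT, hinv, hfrat⟩, -⟩ := hE
  have hθ := factorSystem_isSurjectiveMorphism hS F hF T hT θ D hD
  have hDsat := surj_saturated p hS F hF D θ hθ
  obtain ⟨hTS, hker, hrange, -⟩ := hD
  subst hrange
  have hfinS' : Finite θ.range := Finite.of_surjective θ.rangeRestrict θ.rangeRestrict_surjective
  have hpS' : IsPGroup p θ.range := hS.of_surjective θ.rangeRestrict θ.rangeRestrict_surjective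
  have hfinT : Finite T := finite_of_le hTS
  have hpT : IsPGroup p T := hS.to_le hTS
  have himg_bot : imageAlong θ ⊥ = ⊥ := by
    unfold imageAlong
    rw [Subgroup.bot_subgroupOf, Subgroup.map_bot]
  have himg_top : imageAlong θ S = θ.range := by
    unfold imageAlong
    rw [Subgroup.subgroupOf_self, ← MonoidHom.range_eq_map]
  have hpre_bot : preimageAlong θ ⊥ = T := by
    ext y
    rw [mem_preimageAlong_iff]
    constructor
    · rintro ⟨hy, h⟩
      exact (hker _).mp (Subgroup.mem_bot.mp h)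
    · intro hy
      exact ⟨hTS hy, Subgroup.mem_bot.mpr ((hker ⟨y, hTS hy⟩).mpr hy)⟩
  have hpre_top : preimageAlong θ θ.range = S := by
    ext y
    rw [mem_preimageAlong_iff]
    constructor
    · rintro ⟨hy, -⟩
      exact hy
    · intro hy
      exact ⟨hy, ⟨_, rfl⟩⟩
  constructor
  · intro h
    have c := relChain_of_solvable hS F hF h
    constructor
    · have c1 := c.restrict E F hEF
      rw [bot_inf_eq, inf_eq_right.mpr hTS] at c1
      exact solvable_of_relChain hpT E hEsat c1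
    · have c2 := c.image hS F hF D θ hθ hT hker
      rw [himg_bot, himg_top] at c2
      exact solvable_of_relChain hpS' D hDsat c2
  · rintro ⟨hEs, hDs⟩
    obtain ⟨N, W, h0, hN, hsc, hc⟩ := relChain_of_solvable hpT E hEsat hEs
    have h1 := dser_le_of_chain E hN hsc hc N le_rfl
    rw [Nat.sub_self, h0] at h1
    have h2 : dser E N = ⊥ := le_bot_iff.mp h1
    have c1 := relChain_dser (F := F) hinv hfrat hTS N
    rw [h2] at c1
    have c2 := (relChain_of_solvable hpS' D hDsat hDs).preimage F D θ hθ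
    rw [hpre_bot, hpre_top] at c2
    exact solvable_of_relChain hS F hF (c1.trans c2)

end Main

end Cfsg.Agent.Lib.Helper26
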