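import Cfsg.Agent.Lib.Helper26.FSFactorExists
import Cfsg.Agent.Lib.Helper26.FSSat

/-!
Transport of fusion systems along an isomorphism `e : U ≃* U'` between subgroups of two ambient groups:
images of subgroups and of homomorphisms.
-/

set_option autoImplicit false

namespace Cfsg.Agent.Lib.Helper26.FSTr

open Cfsg Cfsg.FusionSystem Cfsg.Agent.Lib.Helper26

variable {Ω Ω' : Type*} [Group Ω] [Group Ω'] {U : Subgroup Ω} {U' : Subgroup Ω'}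

/-- The homomorphism `U → Ω'` underlying `e`. -/
def toHom (e : U ≃* U') : U →* Ω' := U'.subtype.comp e.toMonoidHom

@[simp] theorem toHom_apply (e : U ≃* U') (x : U) : toHom e x = ((e x : U') : Ω') := rfl

/-- The image of `P ∩ U` under `e`. -/
def mapS (e : U ≃* U') (P : Subgroup Ω) : Subgroup Ω' := (P.subgroupOf U).map (toHom e)

theorem mapS_eq_imageAlong (e : U ≃* U') (P : Subgroup Ω) : mapS e P = imageAlong (toHom e) P := rfl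

theorem mem_mapS {e : U ≃* U'} {P : Subgroup Ω} {y : Ω'} :
    y ∈ mapS e P ↔ ∃ x : U, (x : Ω) ∈ P ∧ ((e x : U') : Ω') = y := by
  constructor
  · rintro ⟨x, hx, rfl⟩
    exact ⟨x, hx, rfl⟩
  · rintro ⟨x, hx, rfl⟩
    exact ⟨x, hx, rfl⟩

theorem mapS_le (e : U ≃* U') (P : Subgroup Ω) : mapS e P ≤ U' := by
  intro y hy
  obtain ⟨x, -, rfl⟩ := mem_mapS.mp hy
  exact (e x).2

theorem apply_mem_mapS (e : U ≃* U') {P : Subgroup Ω} (x : U) (hx : (x : Ω) ∈ P) :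
    ((e x : U') : Ω') ∈ mapS e P := mem_mapS.mpr ⟨x, hx, rfl⟩

theorem coe_mem_mapS_iff (e : U ≃* U') {P : Subgroup Ω} (y : U') :
    (y : Ω') ∈ mapS e P ↔ ((e.symm y : U) : Ω) ∈ P := by
  constructor
  · intro hy
    obtain ⟨x, hx, hxy⟩ := mem_mapS.mp hy
    have : e x = y := Subtype.ext hxy
    rw [← this, MulEquiv.symm_apply_apply]
    exact hx
  · intro hy
    have := apply_mem_mapS e (e.symm y) hy
    rwa [MulEquiv.apply_symm_apply] at this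

theorem apply_mem_mapS_iff (e : U ≃* U') {P : Subgroup Ω} (x : U) :
    ((e x : U') : Ω') ∈ mapS e P ↔ (x : Ω) ∈ P := by
  rw [coe_mem_mapS_iff, MulEquiv.symm_apply_apply]

theorem mapS_mono (e : U ≃* U') {P Q : Subgroup Ω} (h : P ≤ Q) : mapS e P ≤ mapS e Q := by
  intro y hy
  obtain ⟨x, hx, rfl⟩ := mem_mapS.mp hy
  exact apply_mem_mapS e x (h hx)

theorem mapS_symm_mapS (e : U ≃* U') {P : Subgroup Ω} (hP : P ≤ U) : mapS e.symm (mapS e P) = P := by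
  ext z
  constructor
  · intro hz
    obtain ⟨y, hy, rfl⟩ := mem_mapS.mp hz
    exact (coe_mem_mapS_iff e y).mp hy
  · intro hz
    have h1 := apply_mem_mapS e ⟨z, hP hz⟩ hz
    have h2 := apply_mem_mapS e.symm (e ⟨z, hP hz⟩) h1
    rwa [MulEquiv.symm_apply_apply] at h2

theorem mapS_mapS_symm (e : U ≃* U') {P' : Subgroup Ω'} (hP' : P' ≤ U') : mapS e (mapS e.symm P') = P' :=
  mapS_symm_mapS e.symm hP'

theorem mapS_le_mapS_iff (e : U ≃* U') {P Q : Subgroup Ω} (hP : P ≤ U) (hQ : Q ≤ U) :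
    mapS e P ≤ mapS e Q ↔ P ≤ Q := by
  constructor
  · intro h
    have := mapS_mono e.symm h
    rwa [mapS_symm_mapS e hP, mapS_symm_mapS e hQ] at this
  · exact mapS_mono e

theorem mapS_injective (e : U ≃* U') {P Q : Subgroup Ω} (hP : P ≤ U) (hQ : Q ≤ U)
    (h : mapS e P = mapS e Q) : P = Q :=
  le_antisymm ((mapS_le_mapS_iff e hP hQ).mp h.le) ((mapS_le_mapS_iff e hQ hP).mp h.ge)

theorem mapS_self (e : U ≃* U') : mapS e U = U' := by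
  apply le_antisymm (mapS_le e U)
  intro y hy
  have := apply_mem_mapS e (e.symm ⟨y, hy⟩) (e.symm ⟨y, hy⟩).2
  rwa [MulEquiv.apply_symm_apply] at this

theorem mapS_bot (e : U ≃* U') : mapS e ⊥ = ⊥ := by
  rw [eq_bot_iff]
  intro y hy
  obtain ⟨x, hx, rfl⟩ := mem_mapS.mp hy
  have hx1 : x = 1 := Subtype.ext (Subgroup.mem_bot.mp hx)
  rw [hx1, map_one]
  exact Subgroup.one_mem _

theorem mapS_sup (e : U ≃* U') {P Q : Subgroup Ω} (hP : P ≤ U) (hQ : Q ≤ U) :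
    mapS e (P ⊔ Q) = mapS e P ⊔ mapS e Q := by
  apply le_antisymm
  · have h1 : P ⊔ Q ≤ mapS e.symm (mapS e P ⊔ mapS e Q) := by
      apply sup_le
      · have := mapS_mono e.symm (le_sup_left : mapS e P ≤ mapS e P ⊔ mapS e Q)
        rwa [mapS_symm_mapS e hP] at this
      · have := mapS_mono e.symm (le_sup_right : mapS e Q ≤ mapS e P ⊔ mapS e Q)
        rwa [mapS_symm_mapS e hQ] at this
    have h2 := mapS_mono e h1
    rwa [mapS_mapS_symm e (sup_le (mapS_le e P) (mapS_le e Q))] at h2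
  · exact sup_le (mapS_mono e le_sup_left) (mapS_mono e le_sup_right)

theorem mapS_inf (e : U ≃* U') (P Q : Subgroup Ω) :
    mapS e (P ⊓ Q) = mapS e P ⊓ mapS e Q := by
  apply le_antisymm
  · exact le_inf (mapS_mono e inf_le_left) (mapS_mono e inf_le_right)
  · intro y hy
    obtain ⟨x, hx, rfl⟩ := mem_mapS.mp hy.1
    have hxQ : (x : Ω) ∈ Q := (apply_mem_mapS_iff e x).mp hy.2
    exact apply_mem_mapS e x ⟨hx, hxQ⟩

/-- The isomorphism `P ≃ e(P)` for `P ≤ U`. -/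
noncomputable def eqvS (e : U ≃* U') {P : Subgroup Ω} (hP : P ≤ U) : P ≃* mapS e P :=
  MulEquiv.ofBijective
    (((toHom e).comp (Subgroup.inclusion hP)).codRestrict (mapS e P)
      (fun x => apply_mem_mapS e ⟨x, hP x.2⟩ x.2))
    (by
      constructor
      · intro x y hxy
        have h1 : ((e ⟨x, hP x.2⟩ : U') : Ω') = ((e ⟨y, hP y.2⟩ : U') : Ω') :=
          congrArg (fun z : mapS e P => (z : Ω')) hxy
        have h2 : (⟨x, hP x.2⟩ : U) = ⟨y, hP y.2⟩ := e.injective (Subtype.ext h1)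
        exact Subtype.ext (congrArg (fun z : U => (z : Ω)) h2)
      · rintro ⟨y, hy⟩
        obtain ⟨x, hx, rfl⟩ := mem_mapS.mp hy
        exact ⟨⟨x, hx⟩, rfl⟩)

@[simp] theorem eqvS_apply (e : U ≃* U') {P : Subgroup Ω} (hP : P ≤ U) (x : P) :
    ((eqvS e hP x : mapS e P) : Ω') = ((e ⟨x, hP x.2⟩ : U') : Ω') := rfl

theorem eqvS_symm_apply (e : U ≃* U') {P : Subgroup Ω} (hP : P ≤ U) (y : mapS e P) :
    (((eqvS e hP).symm y : P) : Ω) = ((e.symm ⟨y, mapS_le e P y.2⟩ : U) : Ω) := by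
  obtain ⟨x, rfl⟩ := (eqvS e hP).surjective y
  rw [MulEquiv.symm_apply_apply]
  have : (⟨(eqvS e hP x : mapS e P), mapS_le e P (eqvS e hP x).2⟩ : U') = e ⟨x, hP x.2⟩ := Subtype.ext rfl
  rw [this, MulEquiv.symm_apply_apply]

theorem card_mapS (e : U ≃* U') {P : Subgroup Ω} (hP : P ≤ U) : Nat.card (mapS e P) = Nat.card P :=
  (Nat.card_congr (eqvS e hP).toEquiv).symm

/-! ### Induced homomorphisms -/

/-- `φ'` is induced by `φ` along `e`. -/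
def Ind (e : U ≃* U') {P : Subgroup Ω} (φ : P →* Ω) {P' : Subgroup Ω'} (φ' : P' →* Ω') : Prop :=
  ∀ (x : P) (hx : (x : Ω) ∈ U) (hφx : φ x ∈ U) (h' : ((e ⟨x, hx⟩ : U') : Ω') ∈ P'),
    φ' ⟨e ⟨x, hx⟩, h'⟩ = ((e ⟨φ x, hφx⟩ : U') : Ω')

/-- The homomorphism induced by `φ` on `e(P)`. -/
noncomputable def mapH (e : U ≃* U') {P : Subgroup Ω} (hP : P ≤ U) (φ : P →* Ω) (hφ : ∀ x, φ x ∈ U) :
    mapS e P →* Ω' :=
  (toHom e).comp ((φ.codRestrict U hφ).comp (eqvS e hP).symm.toMonoidHom)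

theorem mapH_eqvS (e : U ≃* U') {P : Subgroup Ω} (hP : P ≤ U) (φ : P →* Ω) (hφ : ∀ x, φ x ∈ U) (x : P) :
    mapH e hP φ hφ (eqvS e hP x) = ((e ⟨φ x, hφ x⟩ : U') : Ω') := by
  show ((e ⟨φ ((eqvS e hP).symm (eqvS e hP x)), _⟩ : U') : Ω') = _
  congr 3
  rw [MulEquiv.symm_apply_apply]

theorem ind_mapH (e : U ≃* U') {P : Subgroup Ω} (hP : P ≤ U) (φ : P →* Ω) (hφ : ∀ x, φ x ∈ U) :
    Ind e φ (mapH e hP φ hφ) := by
  intro x hx hφx h'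
  have : (⟨((e ⟨x, hx⟩ : U') : Ω'), h'⟩ : mapS e P) = eqvS e hP x := Subtype.ext rfl
  rw [this, mapH_eqvS]

theorem Ind.unique {e : U ≃* U'} {P : Subgroup Ω} (hP : P ≤ U) {φ : P →* Ω} (hφ : ∀ x, φ x ∈ U)
    {φ' φ'' : mapS e P →* Ω'} (h1 : Ind e φ φ') (h2 : Ind e φ φ'') : φ' = φ'' := by
  ext y
  obtain ⟨x, rfl⟩ := (eqvS e hP).surjective y
  have e1 : eqvS e hP x = (⟨((e ⟨x, hP x.2⟩ : U') : Ω'), apply_mem_mapS e ⟨x, hP x.2⟩ x.2⟩ : mapS e P) :=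
    Subtype.ext rfl
  rw [e1, h1 x (hP x.2) (hφ x), h2 x (hP x.2) (hφ x)]

theorem Ind.symm {e : U ≃* U'} {P : Subgroup Ω} {φ : P →* Ω} (hφ : ∀ x, φ x ∈ U)
    {P' : Subgroup Ω'} {φ' : P' →* Ω'} (h : Ind e φ φ') : Ind e.symm φ' φ := by
  intro y hy hφ'y hx
  have hxU : ((e.symm ⟨y, hy⟩ : U) : Ω) ∈ U := (e.symm ⟨y, hy⟩).2
  have e1 : e ⟨((e.symm ⟨y, hy⟩ : U) : Ω), hxU⟩ = ⟨y, hy⟩ := by
    have : (⟨((e.symm ⟨y, hy⟩ : U) : Ω), hxU⟩ : U) = e.symm ⟨y, hy⟩ := Subtype.ext rfl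
    rw [this, MulEquiv.apply_symm_apply]
  have h' : ((e ⟨((e.symm ⟨y, hy⟩ : U) : Ω), hxU⟩ : U') : Ω') ∈ P' := by
    rw [e1]
    exact y.2
  have h2 := h ⟨((e.symm ⟨y, hy⟩ : U) : Ω), hx⟩ hxU (hφ _) h'
  have e2 : (⟨((e ⟨((e.symm ⟨y, hy⟩ : U) : Ω), hxU⟩ : U') : Ω'), h'⟩ : P') = y := by
    apply Subtype.ext
    show ((e ⟨((e.symm ⟨y, hy⟩ : U) : Ω), hxU⟩ : U') : Ω') = y
    rw [e1]
  rw [e2] at h2
  have e3 : (⟨φ' y, hφ'y⟩ : U') = e ⟨φ ⟨((e.symm ⟨y, hy⟩ : U) : Ω), hx⟩, hφ _⟩ := Subtype.ext h2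
  rw [e3, MulEquiv.symm_apply_apply]

theorem Ind.comp {e : U ≃* U'} {P Q : Subgroup Ω} {φ : P →* Ω} {ψ : Q →* Ω} {P' Q' : Subgroup Ω'}
    {φ' : P' →* Ω'} {ψ' : Q' →* Ω'} (h1 : Ind e φ φ') (h2 : Ind e ψ ψ') (hQU : Q ≤ U)
    (hPQ : ∀ x, φ x ∈ Q) (hPQ' : ∀ y, φ' y ∈ Q') :
    Ind e (ψ.comp (φ.codRestrict Q hPQ)) (ψ'.comp (φ'.codRestrict Q' hPQ')) := by
  intro x hx hψφx h'
  have h3 := h1 x hx (hQU (hPQ x)) h'
  show ψ' ⟨φ' ⟨e ⟨x, hx⟩, h'⟩, hPQ' _⟩ = _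
  have h4 : ((e ⟨φ x, hQU (hPQ x)⟩ : U') : Ω') ∈ Q' := by
    rw [← h3]
    exact hPQ' _
  have e1 : (⟨φ' ⟨e ⟨x, hx⟩, h'⟩, hPQ' _⟩ : Q') = ⟨((e ⟨φ x, hQU (hPQ x)⟩ : U') : Ω'), h4⟩ := Subtype.ext h3
  rw [e1]
  exact h2 ⟨φ x, hPQ x⟩ (hQU (hPQ x)) hψφx h4

theorem Ind.restrict {e : U ≃* U'} {P R : Subgroup Ω} {φ : P →* Ω} {P' R' : Subgroup Ω'}
    {φ' : P' →* Ω'} (h : Ind e φ φ') (hRP : R ≤ P) (hR'P' : R' ≤ P') :
    Ind e (φ.comp (Subgroup.inclusion hRP)) (φ'.comp (Subgroup.inclusion hR'P')) := by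
  intro x hx hφx h'
  exact h (Subgroup.inclusion hRP x) hx hφx (hR'P' h')

theorem ind_subtype (e : U ≃* U') (P : Subgroup Ω) (P' : Subgroup Ω') : Ind e P.subtype P'.subtype := by
  intro x hx hφx h'
  rfl

theorem ind_conjHom (e : U ≃* U') (P : Subgroup Ω) (P' : Subgroup Ω') (g : U) :
    Ind e (conjHom P (g : Ω)) (conjHom P' ((e g : U') : Ω')) := by
  intro x hx hφx h'
  show ((e g : U') : Ω') * ((e ⟨x, hx⟩ : U') : Ω') * ((e g : U') : Ω')⁻¹ = _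
  have : (⟨conjHom P (g : Ω) x, hφx⟩ : U) = g * ⟨x, hx⟩ * g⁻¹ := Subtype.ext rfl
  rw [this, map_mul, map_mul, map_inv]
  rfl

/-- The range of an induced homomorphism. -/
theorem Ind.range_eq {e : U ≃* U'} {P : Subgroup Ω} (hP : P ≤ U) {φ : P →* Ω} (hφ : ∀ x, φ x ∈ U)
    {φ' : mapS e P →* Ω'} (h : Ind e φ φ') : φ'.range = mapS e φ.range := by
  ext z
  constructor
  · rintro ⟨y, rfl⟩
    obtain ⟨x, rfl⟩ := (eqvS e hP).surjective y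
    have e1 : eqvS e hP x = (⟨((e ⟨x, hP x.2⟩ : U') : Ω'), apply_mem_mapS e ⟨x, hP x.2⟩ x.2⟩ : mapS e P) :=
      Subtype.ext rfl
    rw [e1, h x (hP x.2) (hφ x)]
    exact apply_mem_mapS e ⟨φ x, hφ x⟩ ⟨x, rfl⟩
  · intro hz
    obtain ⟨u, ⟨x, hx⟩, rfl⟩ := mem_mapS.mp hz
    refine ⟨⟨((e ⟨x, hP x.2⟩ : U') : Ω'), apply_mem_mapS e ⟨x, hP x.2⟩ x.2⟩, ?_⟩
    rw [h x (hP x.2) (hφ x)]
    congr 2
    exact Subtype.ext hx

end Cfsg.Agent.Lib.Helper26.FSTr
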