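import Cfsg.Agent.Lib.Helper26.FSTrA

/-!
Transport of fusion systems along an isomorphism `e : U ≃* U'`: the relation "`E'` is the image of `E`".
-/

set_option autoImplicit false

namespace Cfsg.Agent.Lib.Helper26.FSTr

open Cfsg Cfsg.FusionSystem Cfsg.Agent.Lib.Helper26

variable {Ω Ω' : Type*} [Group Ω] [Group Ω'] {U : Subgroup Ω} {U' : Subgroup Ω'}

/-- `E'` is the image of the fusion system `E` (over `T ≤ U`) under `e`. -/
structure Img (e : U ≃* U') {T : Subgroup Ω} (E : FusionSystem T) {T' : Subgroup Ω'} (E' : FusionSystem T') :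
    Prop where
  le : T ≤ U
  eq : T' = mapS e T
  hom : ∀ (P' : Subgroup Ω') (φ' : P' →* Ω'), φ' ∈ E'.Hom P' ↔
    ∃ (P : Subgroup Ω) (φ : P →* Ω), φ ∈ E.Hom P ∧ mapS e P = P' ∧ Ind e φ φ'

variable {e : U ≃* U'} {T : Subgroup Ω} {E : FusionSystem T} {T' : Subgroup Ω'} {E' : FusionSystem T'}

theorem Img.le' (h : Img e E E') : T' ≤ U' := h.eq ▸ mapS_le e T

theorem Img.mem_of_ind (h : Img e E E') {P : Subgroup Ω} {φ : P →* Ω} (hφ : φ ∈ E.Hom P)
    {φ' : mapS e P →* Ω'} (hind : Ind e φ φ') : φ' ∈ E'.Hom (mapS e P) :=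
  (h.hom _ _).mpr ⟨P, φ, hφ, rfl, hind⟩

theorem Img.mapH_mem (h : Img e E E') {P : Subgroup Ω} {φ : P →* Ω} (hφ : φ ∈ E.Hom P) :
    mapH e ((hom_le E hφ).trans h.le) φ (fun x => h.le (hom_apply_mem E hφ x)) ∈ E'.Hom (mapS e P) :=
  h.mem_of_ind hφ (ind_mapH e _ φ _)

theorem Img.exists_lift (h : Img e E E') {P' : Subgroup Ω'} {φ' : P' →* Ω'} (hφ' : φ' ∈ E'.Hom P') :
    ∃ (P : Subgroup Ω) (φ : P →* Ω), φ ∈ E.Hom P ∧ mapS e P = P' ∧ Ind e φ φ' :=
  (h.hom _ _).mp hφ'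

/-- The image relation is symmetric. -/
theorem Img.symm (h : Img e E E') : Img e.symm E' E := by
  refine ⟨h.le', ?_, fun P φ => ?_⟩
  · rw [h.eq, mapS_symm_mapS e h.le]
  · constructor
    · intro hφ
      have hPU : P ≤ U := (hom_le E hφ).trans h.le
      have hφU : ∀ x, φ x ∈ U := fun x => h.le (hom_apply_mem E hφ x)
      exact ⟨mapS e P, mapH e hPU φ hφU, h.mapH_mem hφ, mapS_symm_mapS e hPU, (ind_mapH e hPU φ hφU).symm hφU⟩
    · rintro ⟨P', φ', hφ', hPP', hind⟩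
      obtain ⟨P₁, φ₁, hφ₁, hP₁, hind₁⟩ := h.exists_lift hφ'
      have hP₁U : P₁ ≤ U := (hom_le E hφ₁).trans h.le
      have hφ₁U : ∀ x, φ₁ x ∈ U := fun x => h.le (hom_apply_mem E hφ₁ x)
      have hP'U' : P' ≤ U' := hP₁ ▸ mapS_le e P₁
      have hφ'U' : ∀ y, φ' y ∈ U' := fun y => h.le' (hom_apply_mem E' hφ' y)
      have hP : P₁ = P := by
        rw [← hPP', ← hP₁, mapS_symm_mapS e hP₁U]
      subst hP
      have hind₂ : Ind e.symm φ' φ₁ := hind₁.symm hφ₁U
      -- both `φ` and `φ₁` are induced by `φ'` along `e.symm`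
      have : φ = φ₁ := by
        ext x
        have hxU : (x : Ω) ∈ U := hP₁U x.2
        have hy : ((e ⟨x, hxU⟩ : U') : Ω') ∈ P' := by
          rw [← hP₁]
          exact apply_mem_mapS e ⟨x, hxU⟩ x.2
        have e1 : e.symm ⟨((e ⟨x, hxU⟩ : U') : Ω'), (e ⟨x, hxU⟩).2⟩ = ⟨x, hxU⟩ := by
          rw [Subtype.coe_eta, MulEquiv.symm_apply_apply]
        have hx' : ((e.symm ⟨((e ⟨x, hxU⟩ : U') : Ω'), (e ⟨x, hxU⟩).2⟩ : U) : Ω) ∈ P₁ := by
          rw [e1]
          exact x.2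
        have h1 := hind ⟨_, hy⟩ (e ⟨x, hxU⟩).2 (hφ'U' _) hx'
        have h2 := hind₂ ⟨_, hy⟩ (e ⟨x, hxU⟩).2 (hφ'U' _) hx'
        have e2 : (⟨((e.symm ⟨((e ⟨x, hxU⟩ : U') : Ω'), (e ⟨x, hxU⟩).2⟩ : U) : Ω), hx'⟩ : P₁) = x := by
          apply Subtype.ext
          show ((e.symm ⟨((e ⟨x, hxU⟩ : U') : Ω'), (e ⟨x, hxU⟩).2⟩ : U) : Ω) = x
          rw [e1]
        rw [e2] at h1 h2
        rw [h1, h2]
      rw [this]
      exact hφ₁

theorem Img.symm_iff : Img e.symm E' E ↔ Img e E E' :=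
  ⟨fun h => by simpa using h.symm, Img.symm⟩

/-- Extensionality for fusion systems. -/
theorem fs_ext {S : Subgroup Ω} {F₁ F₂ : FusionSystem S} (h : ∀ P : Subgroup Ω, F₁.Hom P = F₂.Hom P) :
    F₁ = F₂ := by
  cases F₁
  cases F₂
  simp only [FusionSystem.mk.injEq]
  funext P
  exact h P

theorem Img.hom_eq {T₁' T₂' : Subgroup Ω'} {E₁' : FusionSystem T₁'} {E₂' : FusionSystem T₂'}
    (h₁ : Img e E E₁') (h₂ : Img e E E₂') (P' : Subgroup Ω') : E₁'.Hom P' = E₂'.Hom P' := by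
  ext φ'
  rw [h₁.hom, h₂.hom]

theorem Img.unique {E₁' E₂' : FusionSystem T'} (h₁ : Img e E E₁') (h₂ : Img e E E₂') : E₁' = E₂' :=
  fs_ext (h₁.hom_eq h₂)

/-- The image relation only depends on the values of `e` on `T`. -/
theorem Img.congr {U₂ : Subgroup Ω} {U₂' : Subgroup Ω'} {e₂ : U₂ ≃* U₂'} (h : Img e E E') (hT₂ : T ≤ U₂)
    (hag : ∀ (x : Ω) (h₁ : x ∈ U) (h₂ : x ∈ U₂), x ∈ T → ((e ⟨x, h₁⟩ : U') : Ω') = ((e₂ ⟨x, h₂⟩ : U₂') : Ω')) :
    Img e₂ E E' := by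
  have hmap : ∀ P : Subgroup Ω, P ≤ T → mapS e P = mapS e₂ P := by
    intro P hP
    ext y
    constructor
    · intro hy
      obtain ⟨x, hx, rfl⟩ := mem_mapS.mp hy
      rw [hag x x.2 (hT₂ (hP hx)) (hP hx)]
      exact apply_mem_mapS e₂ ⟨x, hT₂ (hP hx)⟩ hx
    · intro hy
      obtain ⟨x, hx, rfl⟩ := mem_mapS.mp hy
      rw [← hag x (h.le (hP hx)) x.2 (hP hx)]
      exact apply_mem_mapS e ⟨x, h.le (hP hx)⟩ hx
  refine ⟨hT₂, ?_, fun P' φ' => ?_⟩
  · rw [h.eq, hmap T le_rfl]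
  · rw [h.hom]
    constructor
    · rintro ⟨P, φ, hφ, hP, hind⟩
      have hPT : P ≤ T := hom_le E hφ
      refine ⟨P, φ, hφ, by rw [← hmap P hPT]; exact hP, ?_⟩
      intro x hx hφx h'
      have hxT : (x : Ω) ∈ T := hPT x.2
      have hφT : φ x ∈ T := hom_apply_mem E hφ x
      have e1 := hag x (h.le hxT) hx hxT
      have e2 := hag (φ x) (h.le hφT) hφx hφT
      have h1 : ((e ⟨x, h.le hxT⟩ : U') : Ω') ∈ P' := by
        rw [e1]
        exact h'
      have h2 := hind x (h.le hxT) (h.le hφT) h1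
      rw [← e2, ← h2]
      congr 1
      exact Subtype.ext e1.symm
    · rintro ⟨P, φ, hφ, hP, hind⟩
      have hPT : P ≤ T := hom_le E hφ
      refine ⟨P, φ, hφ, by rw [hmap P hPT]; exact hP, ?_⟩
      intro x hx hφx h'
      have hxT : (x : Ω) ∈ T := hPT x.2
      have hφT : φ x ∈ T := hom_apply_mem E hφ x
      have e1 := hag x hx (hT₂ hxT) hxT
      have e2 := hag (φ x) hφx (hT₂ hφT) hφT
      have h1 : ((e₂ ⟨x, hT₂ hxT⟩ : U₂') : Ω') ∈ P' := by
        rw [← e1]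
        exact h'
      have h2 := hind x (hT₂ hxT) (hT₂ hφT) h1
      rw [e2, ← h2]
      congr 1
      exact Subtype.ext e1

/-! ### Conversion to and from factor systems modulo the trivial subgroup -/

section Conv

variable (e) (hTU : T ≤ U) (θ : T →* Ω') (hθ : ∀ s : T, θ s = ((e ⟨s, hTU s.2⟩ : U') : Ω'))

include hθ in
theorem range_eq_mapS : θ.range = mapS e T := by
  ext y
  constructor
  · rintro ⟨s, rfl⟩
    rw [hθ]
    exact apply_mem_mapS e ⟨s, hTU s.2⟩ s.2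
  · intro hy
    obtain ⟨x, hx, rfl⟩ := mem_mapS.mp hy
    exact ⟨⟨x, hx⟩, hθ ⟨x, hx⟩⟩

include hθ in
theorem preimageAlong_mapS {P : Subgroup Ω} (hP : P ≤ T) : preimageAlong θ (mapS e P) = P := by
  ext z
  rw [mem_preimageAlong_iff]
  constructor
  · rintro ⟨hz, h⟩
    rw [hθ] at h
    exact (apply_mem_mapS_iff e _).mp h
  · intro hz
    refine ⟨hP hz, ?_⟩
    rw [hθ]
    exact apply_mem_mapS e ⟨z, hTU (hP hz)⟩ hz

include hθ in
theorem inducedAlong_iff_ind {P : Subgroup Ω} (hP : P ≤ T) {φ : P →* Ω} (hφ : ∀ x, φ x ∈ T)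
    {P' : Subgroup Ω'} (hPP' : mapS e P ≤ P') {φ' : P' →* Ω'} : InducedAlong θ φ φ' ↔ Ind e φ φ' := by
  constructor
  · rintro ⟨hP₁, hφ₁, hP', hind⟩ x hx hφx h'
    have h1 := hind x
    have e1 : θ ⟨x, hP₁ x.2⟩ = ((e ⟨x, hx⟩ : U') : Ω') := hθ _
    have e2 : θ ⟨φ x, hφ₁ x⟩ = ((e ⟨φ x, hφx⟩ : U') : Ω') := hθ _
    rw [e2] at h1
    rw [← h1]
    congr 1
    exact Subtype.ext e1.symm
  · intro hind
    have hP' : ∀ x : P, θ ⟨x, hP x.2⟩ ∈ P' := by
      intro x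
      rw [hθ]
      exact hPP' (apply_mem_mapS e ⟨x, hTU (hP x.2)⟩ x.2)
    refine ⟨hP, hφ, hP', fun x => ?_⟩
    have e1 : θ ⟨x, hP x.2⟩ = ((e ⟨x, hTU (hP x.2)⟩ : U') : Ω') := hθ _
    have e2 : θ ⟨φ x, hφ x⟩ = ((e ⟨φ x, hTU (hφ x)⟩ : U') : Ω') := hθ _
    have h1 := hind x (hTU (hP x.2)) (hTU (hφ x)) (hPP' (apply_mem_mapS e ⟨x, hTU (hP x.2)⟩ x.2))
    rw [e2, ← h1]
    congr 1
    exact Subtype.ext e1

include hθ in
theorem img_of_isFactorSystem (h : E.IsFactorSystem ⊥ θ E') : Img e E E' := by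
  obtain ⟨-, hker, hrange, hhom⟩ := h
  have hT' : T' = mapS e T := by rw [← hrange, range_eq_mapS e hTU θ hθ]
  refine ⟨hTU, hT', fun P' φ' => ?_⟩
  rw [hhom]
  constructor
  · rintro ⟨hP'T', φ, hφ, hind⟩
    have hPT : preimageAlong θ P' ≤ T := preimageAlong_le θ P'
    have hmap : mapS e (preimageAlong θ P') = P' := by
      ext y
      constructor
      · intro hy
        obtain ⟨x, hx, rfl⟩ := mem_mapS.mp hy
        obtain ⟨hxT, h1⟩ := (mem_preimageAlong_iff θ P' _).mp hx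
        rw [hθ] at h1
        exact h1
      · intro hy
        have hyT' : y ∈ mapS e T := hT' ▸ hP'T' hy
        obtain ⟨x, hx, rfl⟩ := mem_mapS.mp hyT'
        refine apply_mem_mapS e x ?_
        rw [mem_preimageAlong_iff]
        refine ⟨hx, ?_⟩
        rw [hθ]
        exact hy
    refine ⟨preimageAlong θ P', φ, hφ, hmap, ?_⟩
    exact (inducedAlong_iff_ind e hTU θ hθ hPT (hom_apply_mem E hφ) hmap.le).mp hind
  · rintro ⟨P, φ, hφ, hP, hind⟩
    have hPT : P ≤ T := hom_le E hφ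
    subst hP
    refine ⟨hT' ▸ mapS_mono e hPT, ?_⟩
    have hpre := preimageAlong_mapS e hTU θ hθ hPT
    refine ⟨φ.comp (Subgroup.inclusion hpre.le), hom_congr E hpre.symm hφ, ?_⟩
    have h1 := (inducedAlong_iff_ind e hTU θ hθ hPT (hom_apply_mem E hφ) le_rfl).mpr hind
    obtain ⟨hP₁, hφ₁, hP', hind'⟩ := h1
    refine ⟨preimageAlong_le θ _, fun x => hφ₁ _, fun x => hP' (Subgroup.inclusion hpre.le x), fun x => ?_⟩
    exact hind' (Subgroup.inclusion hpre.le x)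

include hθ in
theorem isFactorSystem_of_img (h : Img e E E') : E.IsFactorSystem ⊥ θ E' := by
  have hrange : θ.range = T' := by rw [h.eq, range_eq_mapS e hTU θ hθ]
  refine ⟨bot_le, fun s => ?_, hrange, fun P' φ' => ?_⟩
  · rw [hθ, Subgroup.mem_bot]
    constructor
    · intro h1
      have h2 : e ⟨s, hTU s.2⟩ = 1 := Subtype.ext h1
      have h3 : (⟨s, hTU s.2⟩ : U) = 1 := by
        rw [← e.map_eq_one_iff]
        exact h2
      exact congrArg (fun z : U => (z : Ω)) h3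
    · intro h1
      have h3 : (⟨s, hTU s.2⟩ : U) = 1 := Subtype.ext h1
      rw [h3, map_one]
      rfl
  · rw [h.hom]
    constructor
    · rintro ⟨P, φ, hφ, hP, hind⟩
      have hPT : P ≤ T := hom_le E hφ
      subst hP
      refine ⟨h.eq ▸ mapS_mono e hPT, ?_⟩
      have hpre := preimageAlong_mapS e hTU θ hθ hPT
      refine ⟨φ.comp (Subgroup.inclusion hpre.le), hom_congr E hpre.symm hφ, ?_⟩
      have h1 := (inducedAlong_iff_ind e hTU θ hθ hPT (hom_apply_mem E hφ) le_rfl).mpr hind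
      obtain ⟨hP₁, hφ₁, hP', hind'⟩ := h1
      refine ⟨preimageAlong_le θ _, fun x => hφ₁ _, fun x => hP' (Subgroup.inclusion hpre.le x), fun x => ?_⟩
      exact hind' (Subgroup.inclusion hpre.le x)
    · rintro ⟨hP'T', φ, hφ, hind⟩
      have hPT : preimageAlong θ P' ≤ T := preimageAlong_le θ P'
      have hmap : mapS e (preimageAlong θ P') = P' := by
        ext y
        constructor
        · intro hy
          obtain ⟨x, hx, rfl⟩ := mem_mapS.mp hy
          obtain ⟨hxT, h1⟩ := (mem_preimageAlong_iff θ P' _).mp hx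
          rw [hθ] at h1
          exact h1
        · intro hy
          have hyT' : y ∈ mapS e T := h.eq ▸ hP'T' hy
          obtain ⟨x, hx, rfl⟩ := mem_mapS.mp hyT'
          refine apply_mem_mapS e x ?_
          rw [mem_preimageAlong_iff]
          refine ⟨hx, ?_⟩
          rw [hθ]
          exact hy
      refine ⟨preimageAlong θ P', φ, hφ, hmap, ?_⟩
      exact (inducedAlong_iff_ind e hTU θ hθ hPT (hom_apply_mem E hφ) hmap.le).mp hind

end Conv

/-- The restriction of `e` to `T`, as a homomorphism into the ambient group. -/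
def resHomT (e : U ≃* U') {T : Subgroup Ω} (hTU : T ≤ U) : T →* Ω' := (toHom e).comp (Subgroup.inclusion hTU)

theorem resHomT_apply (e : U ≃* U') {T : Subgroup Ω} (hTU : T ≤ U) (s : T) :
    resHomT e hTU s = ((e ⟨s, hTU s.2⟩ : U') : Ω') := rfl

theorem bot_stronglyClosed (E : FusionSystem T) : E.StronglyClosed ⊥ := by
  refine ⟨bot_le, fun R hR φ _ x => ?_⟩
  have hx : x = 1 := Subtype.ext (Subgroup.mem_bot.mp (hR x.2))
  rw [hx, map_one]
  exact Subgroup.one_mem _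

/-- Existence of the image system. -/
theorem exists_img [Finite T] (e : U ≃* U') (hTU : T ≤ U) (E : FusionSystem T) :
    ∃ E' : FusionSystem (mapS e T), Img e E E' := by
  have hθ : ∀ s : T, resHomT e hTU s = ((e ⟨s, hTU s.2⟩ : U') : Ω') := fun s => rfl
  have hrange := range_eq_mapS e hTU (resHomT e hTU) hθ
  have hker : ∀ s : T, resHomT e hTU s = 1 ↔ (s : Ω) ∈ (⊥ : Subgroup Ω) := by
    intro s
    rw [hθ, Subgroup.mem_bot]
    constructor
    · intro h1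
      have h2 : e ⟨s, hTU s.2⟩ = 1 := Subtype.ext h1
      have h3 : (⟨s, hTU s.2⟩ : U) = 1 := by
        rw [← e.map_eq_one_iff]
        exact h2
      exact congrArg (fun z : U => (z : Ω)) h3
    · intro h1
      have h3 : (⟨s, hTU s.2⟩ : U) = 1 := Subtype.ext h1
      rw [h3, map_one]
      rfl
  exact ⟨factorSystem E (bot_stronglyClosed E) (resHomT e hTU) hker hrange,
    img_of_isFactorSystem e hTU _ hθ (factorSystem_isFactorSystem E (bot_stronglyClosed E) _ hker hrange)⟩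

end Cfsg.Agent.Lib.Helper26.FSTr
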