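import Cfsg.Agent.Lib.Helper26.FSTrB
import Cfsg.Agent.Lib.Helper26.FSSurjImage
import Cfsg.Agent.Lib.Helper26.FSFactor

/-!
Transport of fusion systems along an isomorphism: automorphism groups, saturation, strongly closed subgroups.
-/

set_option autoImplicit false

namespace Cfsg.Agent.Lib.Helper26.FSTr

open Cfsg Cfsg.FusionSystem Cfsg.Agent.Lib.Helper26

variable {Ω Ω' : Type*} [Group Ω] [Group Ω'] {U : Subgroup Ω} {U' : Subgroup Ω'}

/-- The isomorphism `P ≃ P'` when `P' = e(P)`. -/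
noncomputable def eqvS' (e : U ≃* U') {P : Subgroup Ω} (hP : P ≤ U) {P' : Subgroup Ω'} (hPP' : mapS e P = P') :
    P ≃* P' := (eqvS e hP).trans (MulEquiv.subgroupCongr hPP')

theorem eqvS'_apply (e : U ≃* U') {P : Subgroup Ω} (hP : P ≤ U) {P' : Subgroup Ω'} (hPP' : mapS e P = P')
    (x : P) : ((eqvS' e hP hPP' x : P') : Ω') = ((e ⟨x, hP x.2⟩ : U') : Ω') := rfl

theorem eqvS'_symm_apply (e : U ≃* U') {P : Subgroup Ω} (hP : P ≤ U) {P' : Subgroup Ω'} (hPP' : mapS e P = P')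
    (y : P') : (((eqvS' e hP hPP').symm y : P) : Ω) =
      ((e.symm ⟨y, (hPP' ▸ mapS_le e P : P' ≤ U') y.2⟩ : U) : Ω) := by
  obtain ⟨x, rfl⟩ := (eqvS' e hP hPP').surjective y
  rw [MulEquiv.symm_apply_apply]
  have : (⟨((eqvS' e hP hPP' x : P') : Ω'), (hPP' ▸ mapS_le e P : P' ≤ U') (eqvS' e hP hPP' x).2⟩ : U') =
      e ⟨x, hP x.2⟩ := Subtype.ext rfl
  rw [this, MulEquiv.symm_apply_apply]

/-- Transport of automorphisms. -/
noncomputable def autMap (e : U ≃* U') {P : Subgroup Ω} (hP : P ≤ U) {P' : Subgroup Ω'} (hPP' : mapS e P = P') :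
    MulAut P ≃* MulAut P' := MulAut.congr (eqvS' e hP hPP')

theorem autMap_apply (e : U ≃* U') {P : Subgroup Ω} (hP : P ≤ U) {P' : Subgroup Ω'} (hPP' : mapS e P = P')
    (α : MulAut P) (x : P) :
    autMap e hP hPP' α (eqvS' e hP hPP' x) = eqvS' e hP hPP' (α x) := by
  simp [autMap, MulAut.congr]

theorem autMap_symm_apply (e : U ≃* U') {P : Subgroup Ω} (hP : P ≤ U) {P' : Subgroup Ω'} (hPP' : mapS e P = P')
    (α' : MulAut P') (x : P) :
    eqvS' e hP hPP' ((autMap e hP hPP').symm α' x) = α' (eqvS' e hP hPP' x) := by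
  simp [autMap, MulAut.congr]

theorem ind_aut (e : U ≃* U') {P : Subgroup Ω} (hP : P ≤ U) {P' : Subgroup Ω'} (hPP' : mapS e P = P')
    (α : MulAut P) :
    Ind e (P.subtype.comp α.toMonoidHom) (P'.subtype.comp (autMap e hP hPP' α).toMonoidHom) := by
  intro x hx hφx h'
  have e1 : (⟨((e ⟨x, hx⟩ : U') : Ω'), h'⟩ : P') = eqvS' e hP hPP' x := Subtype.ext rfl
  show ((autMap e hP hPP' α ⟨((e ⟨x, hx⟩ : U') : Ω'), h'⟩ : P') : Ω') = _
  rw [e1, autMap_apply, eqvS'_apply]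
  rfl

theorem Ind.source_unique {e : U ≃* U'} {P : Subgroup Ω} (hP : P ≤ U) {φ₁ φ₂ : P →* Ω}
    (h₁ : ∀ x, φ₁ x ∈ U) (h₂ : ∀ x, φ₂ x ∈ U) {P' : Subgroup Ω'} (hPP' : mapS e P ≤ P') {φ' : P' →* Ω'}
    (hi₁ : Ind e φ₁ φ') (hi₂ : Ind e φ₂ φ') : φ₁ = φ₂ := by
  ext x
  have h' := hPP' (apply_mem_mapS e ⟨x, hP x.2⟩ x.2)
  have e1 := hi₁ x (hP x.2) (h₁ x) h'
  have e2 := hi₂ x (hP x.2) (h₂ x) h'
  rw [e1] at e2
  have e3 : e ⟨φ₁ x, h₁ x⟩ = e ⟨φ₂ x, h₂ x⟩ := Subtype.ext e2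
  exact congrArg (fun z : U => (z : Ω)) (e.injective e3)

theorem mapS_centralizerIn (e : U ≃* U') {S P : Subgroup Ω} (hP : P ≤ U) :
    mapS e (centralizerIn S P) = centralizerIn (mapS e S) (mapS e P) := by
  ext y
  rw [mem_centralizerIn_iff]
  constructor
  · intro hy
    obtain ⟨x, hx, rfl⟩ := mem_mapS.mp hy
    rw [mem_centralizerIn_iff] at hx
    refine ⟨apply_mem_mapS e x hx.1, fun y' hy' => ?_⟩
    obtain ⟨x', hx', rfl⟩ := mem_mapS.mp hy'
    have h1 : x' * x = x * x' := Subtype.ext (hx.2 x' hx')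
    have h2 := congrArg (fun z => ((e z : U') : Ω')) h1
    simpa using h2
  · rintro ⟨hyS, hy⟩
    obtain ⟨x, hx, rfl⟩ := mem_mapS.mp hyS
    refine apply_mem_mapS e x ?_
    rw [mem_centralizerIn_iff]
    refine ⟨hx, fun x' hx' => ?_⟩
    have h1 := hy _ (apply_mem_mapS e ⟨x', hP hx'⟩ hx')
    have h2 : e (⟨x', hP hx'⟩ * x) = e (x * ⟨x', hP hx'⟩) := by
      apply Subtype.ext
      simpa using h1
    exact congrArg (fun z : U => (z : Ω)) (e.injective h2)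

variable {e : U ≃* U'} {S : Subgroup Ω} {F : FusionSystem S} {S' : Subgroup Ω'} {F' : FusionSystem S'}

theorem Img.autMap_mem_iff (h : Img e F F') {P : Subgroup Ω} (hPS : P ≤ S) {P' : Subgroup Ω'}
    (hPP' : mapS e P = P') (α : MulAut P) :
    autMap e (hPS.trans h.le) hPP' α ∈ F'.autGroup P' ↔ α ∈ F.autGroup P := by
  have hPU : P ≤ U := hPS.trans h.le
  have hP'S' : P' ≤ S' := by
    rw [← hPP', h.eq]
    exact mapS_mono e hPS
  rw [mem_autGroup_iff F' hP'S', mem_autGroup_iff F hPS]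
  constructor
  · intro h1
    obtain ⟨P₁, φ₁, hφ₁, hP₁, hind₁⟩ := h.exists_lift h1
    have hP₁U : P₁ ≤ U := (hom_le F hφ₁).trans h.le
    have hPP₁ : P₁ = P := mapS_injective e hP₁U hPU (hP₁.trans hPP'.symm)
    subst hPP₁
    have := Ind.source_unique hPU (fun x => h.le (hom_apply_mem F hφ₁ x)) (fun x => hPU (α x).2) hP₁.le hind₁
      (ind_aut e hPU hPP' α)
    rw [← this]
    exact hφ₁
  · intro h1
    exact (h.hom _ _).mpr ⟨P, _, h1, hPP', ind_aut e hPU hPP' α⟩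

theorem Img.isSubsystemOf {T : Subgroup Ω} {E : FusionSystem T} {T' : Subgroup Ω'} {E' : FusionSystem T'}
    (hE : Img e E E') (hF : Img e F F') (h : E.IsSubsystemOf F) : E'.IsSubsystemOf F' := by
  intro P' φ' hφ'
  obtain ⟨P, φ, hφ, hP, hind⟩ := hE.exists_lift hφ'
  exact (hF.hom _ _).mpr ⟨P, φ, h P hφ, hP, hind⟩

theorem Img.isSaturated [Finite S] {p : ℕ} [Fact p.Prime] (hS : IsPGroup p S) (h : Img e F F')
    (hF : F.IsSaturated p) : F'.IsSaturated p := by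
  have hfs := isFactorSystem_of_img e h.le (resHomT e h.le) (fun s => rfl) h
  have hsm := factorSystem_isSurjectiveMorphism hS F hF ⊥ (bot_stronglyClosed F) (resHomT e h.le) F' hfs
  exact surj_saturated p hS F hF F' (resHomT e h.le) hsm

theorem Img.isConj (h : Img e F F') {P Q : Subgroup Ω} (hPQ : F.IsConj P Q) :
    F'.IsConj (mapS e P) (mapS e Q) := by
  obtain ⟨φ, hφ, rfl⟩ := hPQ
  have hPU : P ≤ U := (hom_le F hφ).trans h.le
  have hφU : ∀ x, φ x ∈ U := fun x => h.le (hom_apply_mem F hφ x)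
  exact ⟨mapH e hPU φ hφU, h.mapH_mem hφ, (ind_mapH e hPU φ hφU).range_eq hPU hφU⟩

theorem Img.stronglyClosed (h : Img e F F') {R : Subgroup Ω} (hR : F.StronglyClosed R) :
    F'.StronglyClosed (mapS e R) := by
  refine ⟨h.eq ▸ mapS_mono e hR.1, fun Q' hQ' φ' hφ' y => ?_⟩
  obtain ⟨Q, φ, hφ, hQ, hind⟩ := h.exists_lift hφ'
  have hQU : Q ≤ U := (hom_le F hφ).trans h.le
  have hφU : ∀ x, φ x ∈ U := fun x => h.le (hom_apply_mem F hφ x)
  subst hQ
  have hQR : Q ≤ R := (mapS_le_mapS_iff e hQU (hR.1.trans h.le)).mp hQ'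
  obtain ⟨x, rfl⟩ := (eqvS e hQU).surjective y
  have e1 : eqvS e hQU x = (⟨((e ⟨x, hQU x.2⟩ : U') : Ω'), apply_mem_mapS e ⟨x, hQU x.2⟩ x.2⟩ : mapS e Q) :=
    Subtype.ext rfl
  rw [e1, hind x (hQU x.2) (hφU x)]
  exact apply_mem_mapS e ⟨φ x, hφU x⟩ (hR.2 Q hQR φ hφ x)

end Cfsg.Agent.Lib.Helper26.FSTr
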