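import Cfsg.Agent.Lib.Helper26.FSTrC
import Cfsg.Agent.Lib.Helper26.FSInvariant

/-!
Transport of fusion systems along an isomorphism: invariant and normal subsystems.
-/

set_option autoImplicit false

namespace Cfsg.Agent.Lib.Helper26.FSTr

open Cfsg Cfsg.FusionSystem Cfsg.Agent.Lib.Helper26

variable {Ω Ω' : Type*} [Group Ω] [Group Ω'] {U : Subgroup Ω} {U' : Subgroup Ω'}
variable {e : U ≃* U'} {S T : Subgroup Ω} {F : FusionSystem S} {E : FusionSystem T}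
variable {S' T' : Subgroup Ω'} {F' : FusionSystem S'} {E' : FusionSystem T'}

/-- The image of `imgAut α P` is `imgAut α' P'`. -/
theorem mapS_imgAut (hT : T ≤ U) (hTT' : mapS e T = T') (α : MulAut T) (P : Subgroup Ω) :
    mapS e (imgAut α P) = imgAut (autMap e hT hTT' α) (mapS e P) := by
  ext y
  constructor
  · intro hy
    obtain ⟨u, hu, rfl⟩ := mem_mapS.mp hy
    obtain ⟨t, ht, htu⟩ := mem_imgAut.mp hu
    rw [mem_imgAut]
    refine ⟨eqvS' e hT hTT' t, ?_, ?_⟩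
    · rw [eqvS'_apply]
      exact apply_mem_mapS e ⟨t, hT t.2⟩ ht
    · rw [autMap_apply, eqvS'_apply]
      congr 2
      exact Subtype.ext htu
  · intro hy
    obtain ⟨t', ht', rfl⟩ := mem_imgAut.mp hy
    obtain ⟨t, rfl⟩ := (eqvS' e hT hTT').surjective t'
    rw [eqvS'_apply, apply_mem_mapS_iff] at ht'
    rw [autMap_apply, eqvS'_apply]
    refine apply_mem_mapS e _ ?_
    exact apply_mem_imgAut α t ht'

theorem Img.autInv (hE : Img e E E') (hF : Img e F F') (hTS : T ≤ S) (h : AutInv E F) : AutInv E' F' := by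
  intro P' hP'T' φ' hφ' α' hα'
  obtain ⟨P, φ, hφ, hP, hind⟩ := hE.exists_lift hφ'
  subst hP
  have hTU : T ≤ U := hE.le
  have hTT' : mapS e T = T' := hE.eq.symm
  have hPT : P ≤ T := hom_le E hφ
  have hPU : P ≤ U := hPT.trans hTU
  have hφT : ∀ x, φ x ∈ T := hom_apply_mem E hφ
  obtain ⟨α, rfl⟩ := (autMap e hTU hTT').surjective α'
  have hα : α ∈ F.autGroup T := (hF.autMap_mem_iff hTS hTT' α).mp hα'
  obtain ⟨χ, hχ, hχ'⟩ := h.exists hPT hφ hα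
  have hQU : imgAut α P ≤ U := (imgAut_le α P).trans hTU
  have hχU : ∀ z, χ z ∈ U := fun z => hTU (hom_apply_mem E hχ z)
  have hmap := mapS_imgAut hTU hTT' α P
  have hχ'mem : mapH e hQU χ hχU ∈ E'.Hom (mapS e (imgAut α P)) := hE.mem_of_ind hχ (ind_mapH e hQU χ hχU)
  refine ⟨(mapH e hQU χ hχU).comp (Subgroup.inclusion hmap.ge), hom_congr E' hmap hχ'mem, ?_⟩
  intro x' hφx' hαx'
  obtain ⟨x, rfl⟩ := (eqvS e hPU).surjective x'
  -- the element `x'` of `T'` is `eqvS' x`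
  have e1 : (⟨((eqvS e hPU x : mapS e P) : Ω'), hP'T' (eqvS e hPU x).2⟩ : T') =
      eqvS' e hTU hTT' ⟨x, hPT x.2⟩ := Subtype.ext rfl
  have e2 : φ' (eqvS e hPU x) = ((e ⟨φ x, hTU (hφT x)⟩ : U') : Ω') :=
    hind x (hPU x.2) (hTU (hφT x)) (eqvS e hPU x).2
  have e3 : (⟨φ' (eqvS e hPU x), hφx'⟩ : T') = eqvS' e hTU hTT' ⟨φ x, hφT x⟩ := Subtype.ext e2
  rw [e3, autMap_apply, eqvS'_apply]
  have e4 : (autMap e hTU hTT' α) ⟨((eqvS e hPU x : mapS e P) : Ω'), hP'T' (eqvS e hPU x).2⟩ =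
      eqvS' e hTU hTT' (α ⟨x, hPT x.2⟩) := by
    rw [e1, autMap_apply]
  have hmem : ((e ⟨((α ⟨x, hPT x.2⟩ : T) : Ω), hTU (α ⟨x, hPT x.2⟩).2⟩ : U') : Ω') ∈ mapS e (imgAut α P) :=
    apply_mem_mapS e _ (apply_mem_imgAut α ⟨x, hPT x.2⟩ x.2)
  have e5 : (Subgroup.inclusion hmap.ge
      ⟨((autMap e hTU hTT' α ⟨((eqvS e hPU x : mapS e P) : Ω'), hP'T' (eqvS e hPU x).2⟩ : T') : Ω'), hαx'⟩ :
        mapS e (imgAut α P)) =
      ⟨((e ⟨((α ⟨x, hPT x.2⟩ : T) : Ω), hTU (α ⟨x, hPT x.2⟩).2⟩ : U') : Ω'), hmem⟩ := by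
    apply Subtype.ext
    show ((autMap e hTU hTT' α ⟨((eqvS e hPU x : mapS e P) : Ω'), hP'T' (eqvS e hPU x).2⟩ : T') : Ω') = _
    rw [e4]
    rfl
  show (mapH e hQU χ hχU) (Subgroup.inclusion hmap.ge _) = _
  rw [e5]
  have h6 := ind_mapH e hQU χ hχU ⟨((α ⟨x, hPT x.2⟩ : T) : Ω), apply_mem_imgAut α ⟨x, hPT x.2⟩ x.2⟩
    (hTU (α ⟨x, hPT x.2⟩).2) (hχU _) hmem
  rw [h6]
  congr 2
  apply Subtype.ext
  exact hχ' ⟨x, hPT x.2⟩ x.2 (apply_mem_imgAut α ⟨x, hPT x.2⟩ x.2)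

theorem Img.frattini (hE : Img e E E') (hF : Img e F F') (hTS : T ≤ S)
    (h : ∀ P : Subgroup Ω, P ≤ T → ∀ φ ∈ F.Hom P, Dec E F P φ) :
    ∀ P' : Subgroup Ω', P' ≤ T' → ∀ φ' ∈ F'.Hom P', Dec E' F' P' φ' := by
  intro P' hP'T' φ' hφ'
  obtain ⟨P, φ, hφ, hP, hind⟩ := hF.exists_lift hφ'
  subst hP
  have hTU : T ≤ U := hE.le
  have hTT' : mapS e T = T' := hE.eq.symm
  have hPS : P ≤ S := hom_le F hφ
  have hPU : P ≤ U := hPS.trans hF.le
  have hφS : ∀ x, φ x ∈ S := hom_apply_mem F hφ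
  have hPT : P ≤ T := by
    rw [← hTT'] at hP'T'
    exact (mapS_le_mapS_iff e hPU hTU).mp hP'T'
  obtain ⟨α, hα, φ₀, hφ₀, hφα⟩ := h P hPT φ hφ
  have hφ₀T : ∀ x, φ₀ x ∈ T := hom_apply_mem E hφ₀
  have hφ₀U : ∀ x, φ₀ x ∈ U := fun x => hTU (hφ₀T x)
  refine ⟨autMap e hTU hTT' α, (hF.autMap_mem_iff hTS hTT' α).mpr hα, mapH e hPU φ₀ hφ₀U,
    hE.mem_of_ind hφ₀ (ind_mapH e hPU φ₀ hφ₀U), ?_⟩
  intro x' hx'
  obtain ⟨x, rfl⟩ := (eqvS e hPU).surjective x'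
  have e1 : φ' (eqvS e hPU x) = ((e ⟨φ x, hF.le (hφS x)⟩ : U') : Ω') :=
    hind x (hPU x.2) (hF.le (hφS x)) (eqvS e hPU x).2
  have e2 : mapH e hPU φ₀ hφ₀U (eqvS e hPU x) = ((e ⟨φ₀ x, hφ₀U x⟩ : U') : Ω') := mapH_eqvS e hPU φ₀ hφ₀U x
  have e3 : (⟨mapH e hPU φ₀ hφ₀U (eqvS e hPU x), hx'⟩ : T') = eqvS' e hTU hTT' ⟨φ₀ x, hφ₀T x⟩ :=
    Subtype.ext e2
  rw [e3, autMap_apply, eqvS'_apply, e1]
  congr 2
  apply Subtype.ext
  exact hφα x (hφ₀T x)

theorem Img.isInvariantIn (hE : Img e E E') (hF : Img e F F') (h : E.IsInvariantIn F) :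
    E'.IsInvariantIn F' := by
  obtain ⟨hsub, hsc, hinv, hfrat⟩ := h
  have hTS : T ≤ S := hsc.1
  refine ⟨hE.isSubsystemOf hF hsub, ?_, hE.autInv hF hTS hinv, hE.frattini hF hTS hfrat⟩
  rw [hE.eq]
  exact hF.stronglyClosed hsc

theorem Img.isWeaklyNormalIn [Finite S] {p : ℕ} [Fact p.Prime] (hS : IsPGroup p S) (hE : Img e E E')
    (hF : Img e F F') (h : E.IsWeaklyNormalIn F p) : E'.IsWeaklyNormalIn F' p := by
  obtain ⟨hEs, hFs, hinv⟩ := h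
  have hTS : T ≤ S := hinv.2.1.1
  have : Finite T := finite_of_le hTS
  exact ⟨hE.isSaturated (hS.to_le hTS) hEs, hF.isSaturated hS hFs, hE.isInvariantIn hF hinv⟩

theorem Img.isNormalIn [Finite S] {p : ℕ} [Fact p.Prime] (hS : IsPGroup p S) (hE : Img e E E')
    (hF : Img e F F') (h : E.IsNormalIn F p) : E'.IsNormalIn F' p := by
  obtain ⟨hwn, hext⟩ := h
  refine ⟨hE.isWeaklyNormalIn hS hF hwn, ?_⟩
  have hTS : T ≤ S := hwn.2.2.2.1.1
  have hTU : T ≤ U := hE.le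
  have hSU : S ≤ U := hF.le
  have hTT' : mapS e T = T' := hE.eq.symm
  have hSS' : mapS e S = S' := hF.eq.symm
  have hRS : T ⊔ centralizerIn S T ≤ S := sup_le hTS (centralizerIn_le S T)
  have hRU : T ⊔ centralizerIn S T ≤ U := hRS.trans hSU
  have hCC' : mapS e (centralizerIn S T) = centralizerIn S' T' := by
    rw [mapS_centralizerIn e hTU, hTT', hSS']
  have hRR' : mapS e (T ⊔ centralizerIn S T) = T' ⊔ centralizerIn S' T' := by
    rw [mapS_sup e hTU ((centralizerIn_le S T).trans hSU), hTT', hCC']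
  have hZZ' : mapS e (T ⊓ Subgroup.centralizer (T : Set Ω)) = T' ⊓ Subgroup.centralizer (T' : Set Ω') := by
    have := mapS_centralizerIn e (S := T) hTU
    rw [hTT'] at this
    exact this
  intro α' hα'
  obtain ⟨α, rfl⟩ := (autMap e hTU hTT').surjective α'
  have hα : α ∈ E.autGroup T := (hE.autMap_mem_iff le_rfl hTT' α).mp hα'
  obtain ⟨β, hβ, hβT, hβC⟩ := hext α hα
  refine ⟨autMap e hRU hRR' β, (hF.autMap_mem_iff hRS hRR' β).mpr hβ, ?_, ?_⟩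
  · intro x'
    obtain ⟨x, rfl⟩ := (eqvS' e hTU hTT').surjective x'
    have e1 : (Subgroup.inclusion le_sup_left (eqvS' e hTU hTT' x) : ↥(T' ⊔ centralizerIn S' T')) =
        eqvS' e hRU hRR' (Subgroup.inclusion le_sup_left x) := Subtype.ext rfl
    rw [e1, autMap_apply, autMap_apply, eqvS'_apply, eqvS'_apply]
    congr 2
    apply Subtype.ext
    exact hβT x
  · intro c' hc'
    obtain ⟨c, rfl⟩ := (eqvS' e hRU hRR').surjective c'
    rw [autMap_apply, eqvS'_apply, eqvS'_apply]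
    rw [eqvS'_apply, ← hCC', apply_mem_mapS_iff] at hc'
    have h1 := hβC c hc'
    rw [← hZZ']
    have h2 := apply_mem_mapS e ⟨_, hTU h1.1⟩ h1
    have e2 : (⟨(c : Ω)⁻¹ * ((β c : ↥(T ⊔ centralizerIn S T)) : Ω), hTU h1.1⟩ : U) =
        (⟨c, hRU c.2⟩ : U)⁻¹ * ⟨β c, hRU (β c).2⟩ := Subtype.ext rfl
    rw [e2, map_mul, map_inv] at h2
    exact h2

theorem Img.isSubnormalIn_aux {p : ℕ} {T S : Subgroup Ω} {E : FusionSystem T}
    {F : FusionSystem S} (h : IsSubnormalIn E F p) :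
    Fact p.Prime → ∀ [Finite S], IsPGroup p S →
      ∀ {T' S' : Subgroup Ω'} {E' : FusionSystem T'} {F' : FusionSystem S'},
      Img e E E' → Img e F F' → IsSubnormalIn E' F' p := by
  induction h with
  | refl F p =>
    intro _ _ hS T' S' E' F' hE hF
    have : T' = S' := hE.eq.trans hF.eq.symm
    subst this
    rw [hE.unique hF]
    exact IsSubnormalIn.refl F' p
  | @step U₁ S E D F p hED hDF ih =>
    intro hp _ hS T' S' E' F' hE hF
    have hU₁S : U₁ ≤ S := hDF.1.2.2.2.1.1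
    have hfin : Finite U₁ := finite_of_le hU₁S
    obtain ⟨D', hD'⟩ := exists_img e (hU₁S.trans hF.le) D
    have hn : D'.IsNormalIn F' p := hD'.isNormalIn hS hF hDF
    exact IsSubnormalIn.step (ih hp (hS.to_le hU₁S) hE hD') hn

theorem Img.isSubnormalIn {p : ℕ} [hp : Fact p.Prime] {T S : Subgroup Ω} {E : FusionSystem T}
    {F : FusionSystem S} [Finite S] (hS : IsPGroup p S) {T' S' : Subgroup Ω'} {E' : FusionSystem T'}
    {F' : FusionSystem S'} (hE : Img e E E') (hF : Img e F F') (h : IsSubnormalIn E F p) :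
    IsSubnormalIn E' F' p :=
  Img.isSubnormalIn_aux h hp hS hE hF

end Cfsg.Agent.Lib.Helper26.FSTr
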