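import Cfsg.Agent.Lib.Helper26.FSTrD
import Cfsg.Agent.Lib.Helper26.FSFactorHyp
import Cfsg.Agent.Lib.Helper26.FSQuasisimple

/-!
Transport of fusion systems along an isomorphism: hyperfocal subgroup, centre, simple systems.
-/

set_option autoImplicit false

namespace Cfsg.Agent.Lib.Helper26.FSTr

open Cfsg Cfsg.FusionSystem Cfsg.Agent.Lib.Helper26

variable {Ω Ω' : Type*} [Group Ω] [Group Ω'] {U : Subgroup Ω} {U' : Subgroup Ω'}
variable {e : U ≃* U'} {S : Subgroup Ω} {F : FusionSystem S} {S' : Subgroup Ω'} {F' : FusionSystem S'}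

theorem Img.hyperfocal [Finite S] {p : ℕ} [Fact p.Prime] (hS : IsPGroup p S) (h : Img e F F')
    (hF : F.IsSaturated p) : F'.hyperfocalSubgroup p = mapS e (F.hyperfocalSubgroup p) := by
  have hfs := isFactorSystem_of_img e h.le (resHomT e h.le) (fun s => rfl) h
  rw [factor_hyperfocal p hS F hF ⊥ (bot_stronglyClosed F) (resHomT e h.le) F' hfs]
  ext y
  constructor
  · rintro ⟨s, hs, rfl⟩
    exact apply_mem_mapS e ⟨s, h.le s.2⟩ hs
  · intro hy
    obtain ⟨x, hx, rfl⟩ := mem_mapS.mp hy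
    have hxS : (x : Ω) ∈ S := by
      have h1 : F.hyperfocalSubgroup p ≤ S := by
        unfold FusionSystem.hyperfocalSubgroup
        rw [Subgroup.closure_le]
        rintro _ ⟨P, α, z, hPS, -, rfl⟩
        exact S.mul_mem (S.inv_mem (hPS z.2)) (hPS ((α : MulAut P) z).2)
      exact h1 hx
    exact ⟨⟨x, hxS⟩, hx, rfl⟩

theorem Img.isCentral (h : Img e F F') {Q : Subgroup Ω} (hQ : F.IsCentral Q) : F'.IsCentral (mapS e Q) := by
  obtain ⟨hQS, hext⟩ := hQ
  have hSU : S ≤ U := h.le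
  have hQU : Q ≤ U := hQS.trans hSU
  refine ⟨h.eq ▸ mapS_mono e hQS, fun P' φ' hφ' => ?_⟩
  obtain ⟨P, φ, hφ, hP, hind⟩ := h.exists_lift hφ'
  subst hP
  have hPS : P ≤ S := hom_le F hφ
  have hPU : P ≤ U := hPS.trans hSU
  obtain ⟨ψ, hψ, hψP, hψQ⟩ := hext P φ hφ
  have hRU : P ⊔ Q ≤ U := sup_le hPU hQU
  have hψU : ∀ z, ψ z ∈ U := fun z => hSU (hom_apply_mem F hψ z)
  have hmap : mapS e (P ⊔ Q) = mapS e P ⊔ mapS e Q := mapS_sup e hPU hQU
  have hmem : mapH e hRU ψ hψU ∈ F'.Hom (mapS e (P ⊔ Q)) := h.mem_of_ind hψ (ind_mapH e hRU ψ hψU)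
  refine ⟨(mapH e hRU ψ hψU).comp (Subgroup.inclusion hmap.ge), hom_congr F' hmap hmem, ?_, ?_⟩
  · intro x'
    obtain ⟨x, rfl⟩ := (eqvS e hPU).surjective x'
    have e1 : (Subgroup.inclusion hmap.ge (Subgroup.inclusion le_sup_left (eqvS e hPU x)) : mapS e (P ⊔ Q)) =
        eqvS e hRU (Subgroup.inclusion le_sup_left x) := Subtype.ext rfl
    show mapH e hRU ψ hψU (Subgroup.inclusion hmap.ge (Subgroup.inclusion le_sup_left (eqvS e hPU x))) = _
    rw [e1, mapH_eqvS]
    have e2 : φ' (eqvS e hPU x) = ((e ⟨φ x, hSU (hom_apply_mem F hφ x)⟩ : U') : Ω') :=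
      hind x (hPU x.2) (hSU (hom_apply_mem F hφ x)) (eqvS e hPU x).2
    rw [e2]
    congr 2
    apply Subtype.ext
    exact hψP x
  · intro x'
    obtain ⟨x, rfl⟩ := (eqvS e hQU).surjective x'
    have e1 : (Subgroup.inclusion hmap.ge (Subgroup.inclusion le_sup_right (eqvS e hQU x)) : mapS e (P ⊔ Q)) =
        eqvS e hRU (Subgroup.inclusion le_sup_right x) := Subtype.ext rfl
    show mapH e hRU ψ hψU (Subgroup.inclusion hmap.ge (Subgroup.inclusion le_sup_right (eqvS e hQU x))) = _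
    rw [e1, mapH_eqvS]
    show _ = ((e ⟨x, hQU x.2⟩ : U') : Ω')
    congr 2
    apply Subtype.ext
    exact hψQ x

theorem Img.center [Finite S] (h : Img e F F') : F'.center = mapS e F.center := by
  have hfin' : Finite S' := by
    have := (eqvS' e h.le h.eq.symm).toEquiv
    exact Finite.of_equiv S this
  apply le_antisymm
  · have h1 := h.symm.isCentral (center_isCentral F')
    have h2 : mapS e.symm F'.center ≤ F.center := le_sSup h1
    have h3 := mapS_mono e h2
    rwa [mapS_mapS_symm e ((center_isCentral F').1.trans h.le')] at h3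
  · exact le_sSup (h.isCentral (center_isCentral F))

theorem Img.finite' [Finite S] (h : Img e F F') : Finite S' :=
  Finite.of_equiv S (eqvS' e h.le h.eq.symm).toEquiv

theorem Img.isPGroup' {p : ℕ} (hS : IsPGroup p S) (h : Img e F F') : IsPGroup p S' :=
  hS.of_equiv (eqvS' e h.le h.eq.symm)

theorem Img.isSimple [Finite S] {p : ℕ} [Fact p.Prime] (hS : IsPGroup p S) (h : Img e F F')
    (hF : F.IsSimple p) : F'.IsSimple p := by
  obtain ⟨hsat, hne, hsimple⟩ := hF
  have hfin' : Finite S' := h.finite'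
  have hS' : IsPGroup p S' := h.isPGroup' hS
  refine ⟨h.isSaturated hS hsat, ?_, fun T' E' hE' => ?_⟩
  · intro hbot
    apply hne
    have h1 : S = mapS e.symm S' := h.symm.eq
    rw [h1, hbot, mapS_bot]
  · have hT'S' : T' ≤ S' := hE'.1.2.2.2.1.1
    have hfinT' : Finite T' := finite_of_le hT'S'
    obtain ⟨E, hE⟩ := exists_img e.symm (hT'S'.trans h.le') E'
    have hn : E.IsNormalIn F p := hE.isNormalIn hS' h.symm hE'
    have hE2 : Img e E E' := by simpa using hE.symm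
    rcases hsimple _ E hn with h0 | ⟨h1, h2⟩
    · left
      rw [hE2.eq, h0, mapS_bot]
    · right
      refine ⟨by rw [hE2.eq, h1, h.eq], fun P' => ?_⟩
      ext φ'
      rw [hE2.hom, h.hom]
      constructor
      · rintro ⟨P, φ, hφ, hP, hind⟩
        exact ⟨P, φ, (h2 P) ▸ hφ, hP, hind⟩
      · rintro ⟨P, φ, hφ, hP, hind⟩
        exact ⟨P, φ, (h2 P).symm ▸ hφ, hP, hind⟩

end Cfsg.Agent.Lib.Helper26.FSTr
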