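import Cfsg.Agent.Lib.Helper26.FSTrE

/-!
Transport of fusion systems along an isomorphism: factor systems (composition with an isomorphism, uniqueness up to
isomorphism) and quasisimple systems.
-/

set_option autoImplicit false

namespace Cfsg.Agent.Lib.Helper26.FSTr

open Cfsg Cfsg.FusionSystem Cfsg.Agent.Lib.Helper26

section Comp

variable {Ω Ω' Ω'' : Type*} [Group Ω] [Group Ω'] [Group Ω''] {U : Subgroup Ω} {U' : Subgroup Ω'}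
variable {e : U ≃* U'} {S : Subgroup Ω} {F : FusionSystem S} {S' : Subgroup Ω'} {F' : FusionSystem S'}

/-- A factor system of the image of `F` is a factor system of `F`. -/
theorem Img.comp_factor (h : Img e F F') {S'' : Subgroup Ω''} {Z' : Subgroup Ω'} (θ' : S' →* Ω'')
    (Eb : FusionSystem S'') (hfs : F'.IsFactorSystem Z' θ' Eb) :
    F.IsFactorSystem (mapS e.symm Z') (θ'.comp (eqvS' e h.le h.eq.symm).toMonoidHom) Eb := by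
  obtain ⟨hZ'S', hker, hrange, hhom⟩ := hfs
  have hSU : S ≤ U := h.le
  have hSS' : mapS e S = S' := h.eq.symm
  obtain ⟨eS, heS⟩ : ∃ eS : S ≃* S', eS = eqvS' e hSU hSS' := ⟨_, rfl⟩
  have heSx : ∀ s : S, ((eS s : S') : Ω') = ((e ⟨s, hSU s.2⟩ : U') : Ω') := fun s => by rw [heS]; rfl
  rw [← heS]
  have hpre : ∀ Pb : Subgroup Ω'', mapS e (preimageAlong (θ'.comp eS.toMonoidHom) Pb) = preimageAlong θ' Pb := by
    intro Pb
    ext y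
    rw [mem_preimageAlong_iff]
    constructor
    · intro hy
      obtain ⟨x, hx, rfl⟩ := mem_mapS.mp hy
      obtain ⟨hxS, h1⟩ := (mem_preimageAlong_iff _ Pb _).mp hx
      have e1 : (⟨((e x : U') : Ω'), hSS' ▸ apply_mem_mapS e x hxS⟩ : S') = eS ⟨x, hxS⟩ :=
        Subtype.ext (heSx ⟨x, hxS⟩).symm
      exact ⟨hSS' ▸ apply_mem_mapS e x hxS, by rw [e1]; exact h1⟩
    · rintro ⟨hyS', h1⟩
      obtain ⟨s, rfl⟩ : ∃ s : S, ((eS s : S') : Ω') = y := ⟨eS.symm ⟨y, hyS'⟩, by simp⟩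
      rw [heSx]
      refine apply_mem_mapS e ⟨s, hSU s.2⟩ ?_
      rw [mem_preimageAlong_iff]
      exact ⟨s.2, h1⟩
  refine ⟨?_, fun s => ?_, ?_, fun Pb φb => ?_⟩
  · have := mapS_mono e.symm hZ'S'
    rwa [← hSS', mapS_symm_mapS e hSU] at this
  · show θ' (eS s) = 1 ↔ _
    rw [hker, heSx]
    have := coe_mem_mapS_iff e.symm (P := Z') ⟨s, hSU s.2⟩
    exact this.symm
  · rw [← hrange]
    ext z
    constructor
    · rintro ⟨s, rfl⟩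
      exact ⟨eS s, rfl⟩
    · rintro ⟨s', rfl⟩
      exact ⟨eS.symm s', by simp⟩
  · rw [hhom]
    have hPS : preimageAlong (θ'.comp eS.toMonoidHom) Pb ≤ S := preimageAlong_le _ _
    have hPU : preimageAlong (θ'.comp eS.toMonoidHom) Pb ≤ U := hPS.trans hSU
    constructor
    · rintro ⟨hPb, φ', hφ', hP', hφ'S', hP'Pb, hind'⟩
      refine ⟨hPb, ?_⟩
      obtain ⟨P₁, φ, hφ, hP₁, hind⟩ := h.exists_lift hφ'
      have hP₁U : P₁ ≤ U := (hom_le F hφ).trans hSU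
      have hPP₁ : P₁ = preimageAlong (θ'.comp eS.toMonoidHom) Pb :=
        mapS_injective e hP₁U hPU (hP₁.trans (hpre Pb).symm)
      subst hPP₁
      refine ⟨φ, hφ, hPS, hom_apply_mem F hφ, ?_, ?_⟩
      · intro x
        exact ((mem_preimageAlong_iff _ Pb _).mp x.2).2
      · intro x
        have hx' : ((e ⟨x, hPU x.2⟩ : U') : Ω') ∈ preimageAlong θ' Pb :=
          hP₁ ▸ apply_mem_mapS e ⟨x, hPU x.2⟩ x.2
        have h1 := hind' ⟨_, hx'⟩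
        have h2 := hind x (hPU x.2) (hSU (hom_apply_mem F hφ x)) hx'
        have e1 : (⟨((⟨_, hx'⟩ : preimageAlong θ' Pb) : Ω'), hP' hx'⟩ : S') = eS ⟨x, hPS x.2⟩ :=
          Subtype.ext (heSx ⟨x, hPS x.2⟩).symm
        have e2 : (⟨φ' ⟨_, hx'⟩, hφ'S' _⟩ : S') = eS ⟨φ x, hom_apply_mem F hφ x⟩ := by
          apply Subtype.ext
          rw [heSx]
          exact h2
        rw [e2] at h1
        show φb ⟨θ' (eS ⟨x, hPS x.2⟩), _⟩ = θ' (eS ⟨φ x, _⟩)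
        rw [← h1]
        congr 1
        apply Subtype.ext
        show θ' (eS ⟨x, hPS x.2⟩) = θ' ⟨_, hP' hx'⟩
        rw [e1]
    · rintro ⟨hPb, φ, hφ, hP, hφS, hPPb, hind⟩
      refine ⟨hPb, ?_⟩
      have hφU : ∀ x, φ x ∈ U := fun x => hSU (hφS x)
      have hmem : mapH e hPU φ hφU ∈ F'.Hom (mapS e (preimageAlong (θ'.comp eS.toMonoidHom) Pb)) :=
        h.mem_of_ind hφ (ind_mapH e hPU φ hφU)
      refine ⟨(mapH e hPU φ hφU).comp (Subgroup.inclusion (hpre Pb).ge), hom_congr F' (hpre Pb) hmem, ?_⟩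
      have hP'S' : preimageAlong θ' Pb ≤ S' := preimageAlong_le _ _
      have hval : ∀ y : preimageAlong θ' Pb,
          ((mapH e hPU φ hφU).comp (Subgroup.inclusion (hpre Pb).ge)) y ∈ S' :=
        fun y => hom_apply_mem F' (hom_congr F' (hpre Pb) hmem) y
      refine ⟨hP'S', hval, fun y => ((mem_preimageAlong_iff θ' Pb _).mp y.2).2, fun y => ?_⟩
      obtain ⟨x, hx⟩ : ∃ x : preimageAlong (θ'.comp eS.toMonoidHom) Pb,
          Subgroup.inclusion (hpre Pb).ge y = eqvS e hPU x :=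
        ⟨(eqvS e hPU).symm (Subgroup.inclusion (hpre Pb).ge y), (MulEquiv.apply_symm_apply _ _).symm⟩
      have hyx : (y : Ω') = ((e ⟨x, hPU x.2⟩ : U') : Ω') := congrArg (fun z : mapS e _ => (z : Ω')) hx
      have e1 : (⟨(y : Ω'), hP'S' y.2⟩ : S') = eS ⟨x, hP x.2⟩ := by
        apply Subtype.ext
        rw [heSx]
        exact hyx
      have h3 : ((mapH e hPU φ hφU).comp (Subgroup.inclusion (hpre Pb).ge)) y =
          ((e ⟨φ x, hφU x⟩ : U') : Ω') := by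
        show mapH e hPU φ hφU (Subgroup.inclusion (hpre Pb).ge y) = _
        rw [hx, mapH_eqvS]
      have e2 : (⟨((mapH e hPU φ hφU).comp (Subgroup.inclusion (hpre Pb).ge)) y, hval y⟩ : S') =
          eS ⟨φ x, hφS x⟩ := by
        apply Subtype.ext
        rw [heSx]
        exact h3
      rw [e2]
      have h4 := hind x
      show φb ⟨θ' ⟨(y : Ω'), hP'S' y.2⟩, _⟩ = θ' (eS ⟨φ x, hφS x⟩)
      have h5 : θ' (eS ⟨φ x, hφS x⟩) = (θ'.comp eS.toMonoidHom) ⟨φ x, hφS x⟩ := rfl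
      rw [h5, ← h4]
      congr 1
      apply Subtype.ext
      show θ' ⟨(y : Ω'), hP'S' y.2⟩ = θ' (eS ⟨x, hP x.2⟩)
      rw [e1]

end Comp

section Uniq

variable {Ω Ω₁ Ω₂ : Type*} [Group Ω] [Group Ω₁] [Group Ω₂] {S : Subgroup Ω} {F : FusionSystem S}
  {S₁ : Subgroup Ω₁} {S₂ : Subgroup Ω₂}

/-- The canonical isomorphism between the images of two homomorphisms with the same kernel. -/
theorem exists_rangeEquiv (θ₁ : S →* Ω₁) (θ₂ : S →* Ω₂) (hr₁ : θ₁.range = S₁) (hr₂ : θ₂.range = S₂)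
    (hk : ∀ s : S, θ₁ s = 1 ↔ θ₂ s = 1) :
    ∃ ι : S₁ ≃* S₂, ∀ (s : S) (h₁ : θ₁ s ∈ S₁), ((ι ⟨θ₁ s, h₁⟩ : S₂) : Ω₂) = θ₂ s := by
  have hm₁ : ∀ s : S, θ₁ s ∈ S₁ := fun s => hr₁ ▸ ⟨s, rfl⟩
  have hm₂ : ∀ s : S, θ₂ s ∈ S₂ := fun s => hr₂ ▸ ⟨s, rfl⟩
  let f₁ : S →* S₁ := θ₁.codRestrict S₁ hm₁
  let g : S →* S₂ := θ₂.codRestrict S₂ hm₂
  have hf₁ : Function.Surjective f₁ := by
    rintro ⟨y, hy⟩
    rw [← hr₁] at hy
    obtain ⟨s, rfl⟩ := hy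
    exact ⟨s, rfl⟩
  have hker : f₁.ker ≤ g.ker := by
    intro s hs
    rw [MonoidHom.mem_ker] at hs ⊢
    have h1 : θ₁ s = 1 := congrArg (fun z : S₁ => (z : Ω₁)) hs
    exact Subtype.ext ((hk s).mp h1)
  let l : S₁ →* S₂ := f₁.liftOfSurjective hf₁ ⟨g, hker⟩
  have hl : ∀ s : S, l (f₁ s) = g s := fun s => f₁.liftOfRightInverse_comp_apply _ _ ⟨g, hker⟩ s
  have hbij : Function.Bijective l := by
    constructor
    · rw [injective_iff_map_eq_one]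
      intro y hy
      obtain ⟨s, rfl⟩ := hf₁ y
      rw [hl] at hy
      have h1 : θ₂ s = 1 := congrArg (fun z : S₂ => (z : Ω₂)) hy
      exact Subtype.ext ((hk s).mpr h1)
    · rintro ⟨y, hy⟩
      rw [← hr₂] at hy
      obtain ⟨s, rfl⟩ := hy
      exact ⟨f₁ s, by rw [hl]; rfl⟩
  refine ⟨MulEquiv.ofBijective l hbij, fun s h₁ => ?_⟩
  have : (⟨θ₁ s, h₁⟩ : S₁) = f₁ s := rfl
  rw [this]
  show ((l (f₁ s) : S₂) : Ω₂) = θ₂ s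
  rw [hl]
  rfl

theorem factor_img_aux {S₀ : Subgroup Ω} (θ₁ : S →* Ω₁) (θ₂ : S →* Ω₂) (E₁ : FusionSystem S₁)
    (E₂ : FusionSystem S₂) (h₁ : F.IsFactorSystem S₀ θ₁ E₁) (h₂ : F.IsFactorSystem S₀ θ₂ E₂)
    (ι : S₁ ≃* S₂) (hι : ∀ (s : S) (h : θ₁ s ∈ S₁), ((ι ⟨θ₁ s, h⟩ : S₂) : Ω₂) = θ₂ s)
    {P₁ : Subgroup Ω₁} {φ₁ : P₁ →* Ω₁} (hφ₁ : φ₁ ∈ E₁.Hom P₁) {φ₂ : mapS ι P₁ →* Ω₂} (hind : Ind ι φ₁ φ₂) :
    φ₂ ∈ E₂.Hom (mapS ι P₁) := by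
  obtain ⟨-, -, hr₁, hhom₁⟩ := h₁
  obtain ⟨-, -, hr₂, hhom₂⟩ := h₂
  have hm₁ : ∀ s : S, θ₁ s ∈ S₁ := fun s => hr₁ ▸ ⟨s, rfl⟩
  obtain ⟨hP₁S₁, φ, hφ, hP, hφS, hPP₁, hind₁⟩ := (hhom₁ P₁ φ₁).mp hφ₁
  rw [hhom₂]
  refine ⟨mapS_le ι P₁, ?_⟩
  have hpre : preimageAlong θ₂ (mapS ι P₁) = preimageAlong θ₁ P₁ := by
    ext y
    rw [mem_preimageAlong_iff, mem_preimageAlong_iff]
    constructor
    · rintro ⟨hy, h⟩
      rw [← hι ⟨y, hy⟩ (hm₁ _), apply_mem_mapS_iff] at h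
      exact ⟨hy, h⟩
    · rintro ⟨hy, h⟩
      refine ⟨hy, ?_⟩
      rw [← hι ⟨y, hy⟩ (hm₁ _)]
      exact apply_mem_mapS ι ⟨_, hm₁ _⟩ h
  refine ⟨φ.comp (Subgroup.inclusion hpre.le), hom_congr F hpre.symm hφ, preimageAlong_le _ _,
    fun x => hφS _, fun x => ((mem_preimageAlong_iff θ₂ _ _).mp x.2).2, fun x => ?_⟩
  have hx₁ : θ₁ ⟨x, preimageAlong_le _ _ x.2⟩ ∈ P₁ := ((mem_preimageAlong_iff θ₁ _ _).mp (hpre.le x.2)).2
  have h3 := hind ⟨θ₁ ⟨x, preimageAlong_le _ _ x.2⟩, hx₁⟩ (hm₁ _) (hφ₁ |> fun h => (hom_apply_mem E₁ h _))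
    (apply_mem_mapS ι ⟨_, hm₁ _⟩ hx₁)
  have h4 := hind₁ (Subgroup.inclusion hpre.le x)
  have e1 : φ₁ ⟨θ₁ ⟨x, preimageAlong_le _ _ x.2⟩, hx₁⟩ = θ₁ ⟨φ (Subgroup.inclusion hpre.le x), hφS _⟩ := h4
  have e2 : (⟨φ₁ ⟨θ₁ ⟨x, preimageAlong_le _ _ x.2⟩, hx₁⟩, hom_apply_mem E₁ hφ₁ _⟩ : S₁) =
      ⟨θ₁ ⟨φ (Subgroup.inclusion hpre.le x), hφS _⟩, hm₁ _⟩ := Subtype.ext e1
  have e3 : ((ι ⟨φ₁ ⟨θ₁ ⟨x, preimageAlong_le _ _ x.2⟩, hx₁⟩, hom_apply_mem E₁ hφ₁ _⟩ : S₂) : Ω₂) =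
      θ₂ ⟨φ (Subgroup.inclusion hpre.le x), hφS _⟩ := by
    rw [e2]
    exact hι _ _
  rw [e3] at h3
  show φ₂ ⟨θ₂ ⟨x, _⟩, _⟩ = θ₂ ⟨φ (Subgroup.inclusion hpre.le x), _⟩
  rw [← h3]
  congr 1
  apply Subtype.ext
  exact (hι ⟨x, preimageAlong_le _ _ x.2⟩ (hm₁ _)).symm

/-- Two factor systems of `F` modulo the same subgroup are isomorphic. -/
theorem exists_img_of_isFactorSystem {S₀ : Subgroup Ω} (θ₁ : S →* Ω₁) (θ₂ : S →* Ω₂) (E₁ : FusionSystem S₁)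
    (E₂ : FusionSystem S₂) (h₁ : F.IsFactorSystem S₀ θ₁ E₁) (h₂ : F.IsFactorSystem S₀ θ₂ E₂) :
    ∃ ι : S₁ ≃* S₂, Img ι E₁ E₂ := by
  have hk : ∀ s : S, θ₁ s = 1 ↔ θ₂ s = 1 := fun s => (h₁.2.1 s).trans (h₂.2.1 s).symm
  obtain ⟨ι, hι⟩ := exists_rangeEquiv θ₁ θ₂ h₁.2.2.1 h₂.2.2.1 hk
  have hm₁ : ∀ s : S, θ₁ s ∈ S₁ := fun s => h₁.2.2.1 ▸ ⟨s, rfl⟩
  have hm₂ : ∀ s : S, θ₂ s ∈ S₂ := fun s => h₂.2.2.1 ▸ ⟨s, rfl⟩
  have hι' : ∀ (s : S) (h : θ₂ s ∈ S₂), ((ι.symm ⟨θ₂ s, h⟩ : S₁) : Ω₁) = θ₁ s := by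
    intro s h
    have e1 : (⟨θ₂ s, h⟩ : S₂) = ι ⟨θ₁ s, hm₁ s⟩ := Subtype.ext (hι s (hm₁ s)).symm
    rw [e1, MulEquiv.symm_apply_apply]
  refine ⟨ι, le_rfl, (mapS_self ι).symm, fun P₂ φ₂ => ?_⟩
  constructor
  · intro hφ₂
    have hP₂ : P₂ ≤ S₂ := hom_le E₂ hφ₂
    have hφ₂S : ∀ x, φ₂ x ∈ S₂ := hom_apply_mem E₂ hφ₂
    have h3 := factor_img_aux θ₂ θ₁ E₂ E₁ h₂ h₁ ι.symm hι' hφ₂ (ind_mapH ι.symm hP₂ φ₂ hφ₂S)
    refine ⟨mapS ι.symm P₂, mapH ι.symm hP₂ φ₂ hφ₂S, h3, mapS_mapS_symm ι hP₂, ?_⟩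
    have := (ind_mapH ι.symm hP₂ φ₂ hφ₂S).symm hφ₂S
    simpa using this
  · rintro ⟨P₁, φ₁, hφ₁, hP, hind⟩
    subst hP
    exact factor_img_aux θ₁ θ₂ E₁ E₂ h₁ h₂ ι hι hφ₁ hind

end Uniq

section Quasi

variable {Ω Ω' : Type*} [Group Ω] [Group Ω'] {U : Subgroup Ω} {U' : Subgroup Ω'}
variable {e : U ≃* U'} {S : Subgroup Ω} {F : FusionSystem S} {S' : Subgroup Ω'} {F' : FusionSystem S'}

/-- Quasisimplicity is invariant under isomorphism. -/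
theorem Img.quasisimple [Finite S] {p : ℕ} [Fact p.Prime] (hS : IsPGroup p S) (h : Img e F F')
    (hF : F.Quasisimple p) : F'.Quasisimple p := by
  obtain ⟨hsat, hhyp, hquot⟩ := hF
  have hfin' : Finite S' := h.finite'
  refine ⟨h.isSaturated hS hsat, ?_, fun Eb' hEb' => ?_⟩
  · rw [h.hyperfocal hS hsat, hhyp, h.eq]
  · have h1 := h.comp_factor _ Eb' hEb'
    have hZU : F.center ≤ U := (center_isCentral F).1.trans h.le
    have hZ : mapS e.symm F'.center = F.center := by rw [h.center, mapS_symm_mapS e hZU]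
    rw [hZ] at h1
    obtain ⟨Eb, hEb⟩ := exists_factorSystem_quotient F F.center (center_stronglyClosed F)
    have hsimple := hquot Eb hEb
    obtain ⟨ι, hι⟩ := exists_img_of_isFactorSystem _ _ Eb Eb' hEb h1
    have hTop : IsPGroup p (⊤ : Subgroup (S ⧸ (F.center).subgroupOf S)) :=
      (hS.to_quotient _).to_subgroup _
    exact hι.isSimple hTop hsimple

end Quasi

end Cfsg.Agent.Lib.Helper26.FSTr
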