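import Cfsg.Agent.Lib.Helper26.FSTrG

/-!
Conjugates of subnormal subsystems and of components (S5154).
-/

set_option autoImplicit false

namespace Cfsg.Agent.Lib.Helper26.FSTr

open Cfsg Cfsg.FusionSystem Cfsg.Agent.Lib.Helper26

variable {Ω : Type*} [Group Ω]

/-- An automorphism of `S` from a map of the system with source `S`. -/
theorem exists_aut_of_hom {S : Subgroup Ω} [Finite S] (F : FusionSystem S) {γ : S →* Ω} (hγ : γ ∈ F.Hom S) :
    ∃ α : S ≃* S, (∀ s : S, ((α s : S) : Ω) = γ s) ∧ toHom α ∈ F.Hom S ∧ toHom α.symm ∈ F.Hom S := by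
  have hinj := F.injective_of_mem hγ
  have hr : γ.range = S := range_eq_of_le γ hinj (hom_apply_mem F hγ)
  obtain ⟨α, hα⟩ : ∃ α : S ≃* S, α = (MonoidHom.ofInjective hinj).trans (MulEquiv.subgroupCongr hr) := ⟨_, rfl⟩
  have hαx : ∀ s : S, ((α s : S) : Ω) = γ s := fun s => by rw [hα]; rfl
  refine ⟨α, hαx, ?_, ?_⟩
  · have : toHom α = γ := by
      ext s
      exact hαx s
    rw [this]
    exact hγ
  · obtain ⟨ψ, hψ, hψx⟩ := F.inv_mem hγ
    have h1 := hom_congr F hr hψ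
    have : toHom α.symm = ψ.comp (Subgroup.inclusion hr.ge) := by
      ext y
      obtain ⟨s, rfl⟩ := α.surjective y
      show ((α.symm (α s) : S) : Ω) = ψ (Subgroup.inclusion hr.ge (α s))
      rw [MulEquiv.symm_apply_apply]
      have e1 : (Subgroup.inclusion hr.ge (α s) : γ.range) = ⟨γ s, ⟨s, rfl⟩⟩ := Subtype.ext (hαx s)
      rw [e1, hψx]
    rw [this]
    exact h1

theorem isSubnormalIn_of_eq {p : ℕ} {S R : Subgroup Ω} (F : FusionSystem S) (E : FusionSystem R) (hR : R = S)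
    (hhom : ∀ P : Subgroup Ω, E.Hom P = F.Hom P) : IsSubnormalIn E F p := by
  subst hR
  rw [fs_ext hhom]
  exact IsSubnormalIn.refl F p

theorem isSubnormalIn_conj_aux {p : ℕ} {T S : Subgroup Ω} {C : FusionSystem T} {F : FusionSystem S}
    (h : IsSubnormalIn C F p) :
    Fact p.Prime → ∀ [Finite S], IsPGroup p S → F.IsSaturated p → ∀ (γ : T →* Ω), γ ∈ F.Hom T →
      ∀ {R : Subgroup Ω} (E : FusionSystem R), C.IsFactorSystem ⊥ γ E → IsSubnormalIn E F p := by
  induction h with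
  | refl F p =>
    intro _ _ hS hF γ hγ R E hE
    obtain ⟨α, hαx, hα1, hα2⟩ := exists_aut_of_hom F hγ
    have h1 : Img α F E := img_of_isFactorSystem α le_rfl γ (fun s => (hαx s).symm) hE
    have h2 : Img α F F := by
      refine img_self α le_rfl (mapS_self α) ?_ ?_
      · intro P φ hφ φ' hind
        exact conj_mem_of_mem F α hα1 hφ (hom_le F hφ) (hom_apply_mem F hφ) hind
      · intro P φ hφ φ' hind
        exact conj_mem_of_mem F α.symm hα2 hφ (hom_le F hφ) (hom_apply_mem F hφ) hind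
    exact isSubnormalIn_of_eq F E (h1.eq.trans h2.eq.symm) (h1.hom_eq h2)
  | @step U₁ S C D F p hCD hDF ih =>
    intro hp _ hS hF γ hγ R E hE
    have hU₁S : U₁ ≤ S := hDF.1.2.2.2.1.1
    have hfin : Finite U₁ := finite_of_le hU₁S
    have hU₁p : IsPGroup p U₁ := hS.to_le hU₁S
    have hTU₁ := le_of_isSubnormalIn hCD
    have hfinT := finite_of_le hTU₁
    obtain ⟨α, hα, φ₀, hφ₀, hγα⟩ := hDF.1.2.2.2.2.2 _ hTU₁ γ hγ
    have hφ₀U₁ : ∀ x, φ₀ x ∈ U₁ := hom_apply_mem D hφ₀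
    have hinj₀ := D.injective_of_mem hφ₀
    have hinjγ := F.injective_of_mem hγ
    -- the image of `C` under `φ₀`
    have hker₀ : ∀ s, φ₀ s = 1 ↔ ((s : _) : Ω) ∈ (⊥ : Subgroup Ω) := by
      intro s
      rw [Subgroup.mem_bot]
      constructor
      · intro h1
        have : s = 1 := hinj₀ (by rw [h1, map_one])
        rw [this]
        rfl
      · intro h1
        have : s = 1 := Subtype.ext h1
        rw [this, map_one]
    have hE₁ := factorSystem_isFactorSystem C (bot_stronglyClosed C) φ₀ hker₀ rfl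
    have hsub₁ := ih hp hU₁p hDF.1.1 φ₀ hφ₀ _ hE₁
    -- transport along `α`
    have hrange : γ.range = R := hE.2.2.1
    obtain ⟨e₀, he₀⟩ : ∃ e₀ : _ ≃* φ₀.range, e₀ = MonoidHom.ofInjective hinj₀ := ⟨_, rfl⟩
    obtain ⟨eγ, heγ⟩ : ∃ eγ : _ ≃* R, eγ = (MonoidHom.ofInjective hinjγ).trans (MulEquiv.subgroupCongr hrange) :=
      ⟨_, rfl⟩
    have hI₀ := img_of_isFactorSystem e₀ le_rfl φ₀ (fun s => by rw [he₀]; rfl) hE₁
    have hIγ := img_of_isFactorSystem eγ le_rfl γ (fun s => by rw [heγ]; rfl) hE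
    have hI := hI₀.symm.trans hIγ
    have hIα : Img (α : U₁ ≃* U₁) (factorSystem C (bot_stronglyClosed C) φ₀ hker₀ rfl) E := by
      refine hI.congr (range_le D hφ₀) ?_
      rintro x h₁ h₂ ⟨t, rfl⟩
      have e1 : (⟨φ₀ t, h₁⟩ : φ₀.range) = e₀ t := by rw [he₀]; rfl
      show ((eγ (e₀.symm ⟨φ₀ t, h₁⟩) : R) : Ω) = _
      rw [e1, MulEquiv.symm_apply_apply]
      have e2 : ((eγ t : R) : Ω) = γ t := by rw [heγ]; rfl
      rw [e2]
      exact hγα t (hφ₀U₁ t)
    have hDD := img_self_of_autInv hDF.1.2.2.2.2.1 α hα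
    exact IsSubnormalIn.step (hIα.isSubnormalIn hU₁p hDD hsub₁) hDF

/-- **S5154**: the image of a component of `F` under a map of `F` is a component of `F`. -/
theorem isComponentIn_conj {S : Subgroup Ω} [Finite S] {p : ℕ} [hp : Fact p.Prime] (hS : IsPGroup p S)
    (F : FusionSystem S) (hF : F.IsSaturated p) {T : Subgroup Ω} (C : FusionSystem T) (hC : C.IsComponentIn F p)
    (γ : T →* Ω) (hγ : γ ∈ F.Hom T) {R : Subgroup Ω} (E : FusionSystem R) (hE : C.IsFactorSystem ⊥ γ E) :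
    E.IsComponentIn F p := by
  refine ⟨isSubnormalIn_conj_aux hC.1 hp hS hF γ hγ E hE, ?_⟩
  have hTS : T ≤ S := hom_le F hγ
  have hfinT := finite_of_le hTS
  have hinjγ := F.injective_of_mem hγ
  have hrange : γ.range = R := hE.2.2.1
  have hIγ := img_of_isFactorSystem ((MonoidHom.ofInjective hinjγ).trans (MulEquiv.subgroupCongr hrange))
    le_rfl γ (fun s => rfl) hE
  exact hIγ.quasisimple (hS.to_le hTS) hC.2

end Cfsg.Agent.Lib.Helper26.FSTr
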