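import Cfsg.Agent.Lib.Helper26.FSTrG

/-!
The layer of a saturated fusion system is invariant under the automorphisms of the system (S5311).
-/

set_option autoImplicit false

namespace Cfsg.Agent.Lib.Helper26.FSTr

open Cfsg Cfsg.FusionSystem Cfsg.Agent.Lib.Helper26

variable {Ω : Type*} [Group Ω] {S : Subgroup Ω}

theorem img_self_of_isMorphism (F : FusionSystem S) (α : S ≃* S) (h₁ : F.IsMorphism F (toHom α))
    (h₂ : F.IsMorphism F (toHom α.symm)) : Img α F F := by
  have key : ∀ β : S ≃* S, F.IsMorphism F (toHom β) → ∀ (P : Subgroup Ω) (φ : P →* Ω), φ ∈ F.Hom P →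
      ∀ φ' : mapS β P →* Ω, Ind β φ φ' → φ' ∈ F.Hom (mapS β P) := by
    intro β hβ P φ hφ φ' hind
    obtain ⟨φ'', hφ'', hind''⟩ := hβ.2 P φ hφ
    have hPS : P ≤ S := hom_le F hφ
    have hφS : ∀ x, φ x ∈ S := hom_apply_mem F hφ
    have h3 : Ind β φ (P' := mapS β P) φ'' :=
      (inducedAlong_iff_ind β le_rfl (toHom β) (fun s => rfl) hPS hφS le_rfl).mp hind''
    have := Ind.unique hPS hφS hind h3
    rw [this]
    exact hφ''
  exact img_self α le_rfl (mapS_self α) (key α h₁) (key α.symm h₂)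

/-- The layer is contained in its image under an automorphism of the system. -/
theorem layer_le_image [Finite S] {p : ℕ} [Fact p.Prime] (hS : IsPGroup p S) (F : FusionSystem S)
    {T : Subgroup Ω} (E : FusionSystem T) (hE : E.IsLayerOf F p) (β : S ≃* S) (hβ : Img β F F)
    {T' : Subgroup Ω} (E' : FusionSystem T') (hE' : Img β E E') : E.IsSubsystemOf E' := by
  apply hE.2.2 T' E' (hE'.isNormalIn hS hβ hE.1)
  intro U₀ C hC
  have hU₀S : U₀ ≤ S := le_of_isSubnormalIn hC.1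
  have hfin : Finite U₀ := finite_of_le hU₀S
  obtain ⟨C', hC'⟩ := exists_img β.symm hU₀S C
  have hcomp : C'.IsComponentIn F p :=
    ⟨hC'.isSubnormalIn hS hβ.symm hC.1, hC'.quasisimple (hS.to_le hU₀S) hC.2⟩
  have hsub : C'.IsSubsystemOf E := hE.2.1 _ C' hcomp
  have hC'' : Img β C' C := by simpa using hC'.symm
  exact hC''.isSubsystemOf hE' hsub

theorem layer_characteristic [Finite S] {p : ℕ} [Fact p.Prime] (hS : IsPGroup p S) (F : FusionSystem S)
    (α : S ≃* S) (h₁ : F.IsMorphism F (toHom α)) (h₂ : F.IsMorphism F (toHom α.symm))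
    {T : Subgroup Ω} (E : FusionSystem T) (hE : E.IsLayerOf F p) :
    mapS α T = T ∧ ∀ (P : Subgroup Ω) (φ : P →* Ω), φ ∈ E.Hom P → ∀ φ' : mapS α P →* Ω, Ind α φ φ' →
      φ' ∈ E.Hom (mapS α P) := by
  have hFF : Img α F F := img_self_of_isMorphism F α h₁ h₂
  have hTS : T ≤ S := hE.1.1.2.2.2.1.1
  have hfin : Finite T := finite_of_le hTS
  obtain ⟨Eα, hEα⟩ := exists_img α hTS E
  obtain ⟨Eα', hEα'⟩ := exists_img α.symm hTS E
  have hle₁ : E.IsSubsystemOf Eα := layer_le_image hS F E hE α hFF Eα hEα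
  have hle₂ : E.IsSubsystemOf Eα' := layer_le_image hS F E hE α.symm hFF.symm Eα' hEα'
  have hEα'' : Img α Eα' E := by simpa using hEα'.symm
  have hle₃ : Eα.IsSubsystemOf E := hEα.isSubsystemOf hEα'' hle₂
  refine ⟨le_antisymm ?_ ?_, fun P φ hφ φ' hind => hle₃ _ (hEα.mem_of_ind hφ hind)⟩
  · exact hom_le E (hle₃ _ (subtype_mem Eα le_rfl))
  · exact hom_le Eα (hle₁ _ (subtype_mem E le_rfl))

end Cfsg.Agent.Lib.Helper26.FSTr
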