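import Cfsg.Agent.Lib.Helper16.Large2

/-! L-Lemma (S2834), part A: conjugation calculus, maximal `p`-subgroups of a subgroup (helper26). -/

set_option autoImplicit false
set_option linter.unusedSectionVars false
set_option linter.style.haveILetI false
open Cfsg

namespace Cfsg.Agent.Lib.Helper26.LLem

open Cfsg.Agent.Lib.Helper16

variable {G : Type*} [Group G] {p : ℕ}

/-- the conjugate subgroup `g X g⁻¹`. -/
abbrev cj (g : G) (X : Subgroup G) : Subgroup G := X.map (MulAut.conj g).toMonoidHom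

theorem mem_cj_iff (g x : G) (X : Subgroup G) : x ∈ cj g X ↔ g⁻¹ * x * g ∈ X :=
  mem_map_conj_iff X g x

theorem cj_mono {X Y : Subgroup G} (g : G) (h : X ≤ Y) : cj g X ≤ cj g Y := Subgroup.map_mono h

theorem cj_cj (h g : G) (X : Subgroup G) : cj h (cj g X) = cj (h * g) X := map_conj_map_conj X g h

theorem cj_one (X : Subgroup G) : cj (1 : G) X = X := map_conj_one X

theorem cj_inv_cj (g : G) (X : Subgroup G) : cj g⁻¹ (cj g X) = X := map_conj_inv_map_conj X g

theorem cj_cj_inv (g : G) (X : Subgroup G) : cj g (cj g⁻¹ X) = X := map_conj_map_conj_inv X g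

theorem le_cj_iff {A B : Subgroup G} (g : G) : A ≤ cj g B ↔ cj g⁻¹ A ≤ B := by
  constructor
  · intro h
    have := cj_mono g⁻¹ h
    rwa [cj_inv_cj] at this
  · intro h
    have := cj_mono g h
    rwa [cj_cj_inv] at this

theorem cj_le_iff {A B : Subgroup G} (g : G) : cj g A ≤ B ↔ A ≤ cj g⁻¹ B := by
  rw [le_cj_iff, inv_inv]

theorem cj_sup (g : G) (A B : Subgroup G) : cj g (A ⊔ B) = cj g A ⊔ cj g B :=
  Subgroup.map_sup A B _

theorem cj_inf (g : G) (A B : Subgroup G) : cj g (A ⊓ B) = cj g A ⊓ cj g B :=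
  Subgroup.map_inf A B _ (MulAut.conj g).injective

theorem cj_le_cj_iff {A B : Subgroup G} (g : G) : cj g A ≤ cj g B ↔ A ≤ B :=
  Subgroup.map_le_map_iff_of_injective (MulAut.conj g).injective

theorem cj_lt_cj_iff {A B : Subgroup G} (g : G) : cj g A < cj g B ↔ A < B := by
  rw [lt_iff_le_not_ge, lt_iff_le_not_ge, cj_le_cj_iff, cj_le_cj_iff]

theorem cj_injective (g : G) {A B : Subgroup G} (h : cj g A = cj g B) : A = B :=
  Subgroup.map_injective (MulAut.conj g).injective h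

theorem cj_eq_self_of_mem {Y : Subgroup G} {y : G} (hy : y ∈ Y) : cj y Y = Y :=
  map_conj_eq_self_of_mem hy

theorem cj_le_of_mem {X Y : Subgroup G} {y : G} (hy : y ∈ Y) (h : X ≤ Y) : cj y X ≤ Y := by
  have := cj_mono y h
  rwa [cj_eq_self_of_mem hy] at this

theorem card_cj [Finite G] (g : G) (X : Subgroup G) : Nat.card (cj g X) = Nat.card X :=
  card_map_conj X g

theorem isPGroup_cj {X : Subgroup G} (h : IsPGroup p X) (g : G) : IsPGroup p (cj g X) :=
  isPGroup_map_conj h g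

theorem mem_normalizer_iff_cj {X : Subgroup G} {g : G} :
    g ∈ Subgroup.normalizer (X : Set G) ↔ cj g X = X :=
  Subgroup.mem_normalizer_iff_map_conj_eq

theorem cj_mem_self {X : Subgroup G} {g x : G} (hx : x ∈ X) : g * x * g⁻¹ ∈ cj g X := by
  rw [mem_cj_iff]
  have : g⁻¹ * (g * x * g⁻¹) * g = x := by group
  rw [this]; exact hx

/-- `O_p` commutes with conjugation. -/
theorem pCoreOf_cj [Finite G] [Fact p.Prime] (L : Subgroup G) (c : G) :
    pCoreOf p (cj c L) = cj c (pCoreOf p L) := by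
  have key : ∀ (L : Subgroup G) (c : G), cj c (pCoreOf p L) ≤ pCoreOf p (cj c L) := by
    intro L c
    apply le_pCoreOf (cj_mono c (pCoreOf_le L))
    · show cj c L ≤ Subgroup.normalizer ((cj c (pCoreOf p L) : Subgroup G) : Set G)
      rw [normalizer_map_conj]
      exact Subgroup.map_mono (le_normalizer_pCoreOf L)
    · exact isPGroup_cj (pCoreOf_isPGroup L) c
  apply le_antisymm _ (key L c)
  rw [le_cj_iff]
  have := key (cj c L) c⁻¹
  rwa [cj_inv_cj] at this

theorem cj_pCoreOf_of_mem [Finite G] [Fact p.Prime] {K : Subgroup G} {k : G} (hk : k ∈ K) :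
    cj k (pCoreOf p K) = pCoreOf p K :=
  mem_normalizer_iff_cj.mp (le_normalizer_pCoreOf K hk)

/-- `T` is a maximal `p`-subgroup of `K`. -/
def IsMaxP (p : ℕ) (K T : Subgroup G) : Prop :=
  T ≤ K ∧ IsPGroup p T ∧ ∀ P : Subgroup G, P ≤ K → IsPGroup p P → T ≤ P → P = T

theorem IsMaxP.cj {K T : Subgroup G} (h : IsMaxP p K T) (g : G) : IsMaxP p (cj g K) (cj g T) := by
  refine ⟨cj_mono g h.1, isPGroup_cj h.2.1 g, ?_⟩
  intro P hPK hP hTP
  have h1 : LLem.cj g⁻¹ P ≤ K := by rwa [← le_cj_iff]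
  have h2 : T ≤ LLem.cj g⁻¹ P := by rwa [← cj_le_iff]
  have h3 := h.2.2 _ h1 (isPGroup_cj hP g⁻¹) h2
  have := congrArg (LLem.cj g) h3
  rwa [cj_cj_inv] at this

/-- the Sylow subgroup of `↥K` attached to a maximal `p`-subgroup of `K`. -/
def IsMaxP.toSylow {K T : Subgroup G} (h : IsMaxP p K T) : Sylow p ↥K where
  toSubgroup := T.subgroupOf K
  isPGroup' := h.2.1.comap_subtype
  is_maximal' := by
    intro Q hQ hTQ
    have h1 : Q.map K.subtype ≤ K := Subgroup.map_subtype_le Q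
    have h2 : IsPGroup p (Q.map K.subtype) := hQ.map _
    have h3 : T ≤ Q.map K.subtype := by
      intro t ht
      exact ⟨⟨t, h.1 ht⟩, hTQ (Subgroup.mem_subgroupOf.mpr ht), rfl⟩
    have h4 := h.2.2 _ h1 h2 h3
    ext x
    rw [Subgroup.mem_subgroupOf, ← h4]
    constructor
    · intro hx; exact ⟨x, hx, rfl⟩
    · rintro ⟨y, hy, hyx⟩
      have : y = x := Subtype.ext hyx
      rwa [← this]

/-- Sylow's theorem inside a subgroup `K`. -/
theorem exists_cj_le [Finite G] [Fact p.Prime] {K T P : Subgroup G} (hT : IsMaxP p K T)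
    (hPK : P ≤ K) (hP : IsPGroup p P) : ∃ k ∈ K, P ≤ cj k T := by
  obtain ⟨Q, hQ⟩ := (hP.comap_subtype (K := K)).exists_le_sylow
  obtain ⟨k, hk⟩ := MulAction.exists_smul_eq ↥K hT.toSylow Q
  refine ⟨k, k.2, ?_⟩
  intro x hx
  have h1 : (⟨x, hPK hx⟩ : ↥K) ∈ (Q : Subgroup ↥K) := hQ (Subgroup.mem_subgroupOf.mpr hx)
  rw [← hk, Sylow.smul_def, Sylow.pointwise_smul_def, Subgroup.mem_pointwise_smul_iff_inv_smul_mem] at h1
  have h2 : (MulAut.conj k)⁻¹ • (⟨x, hPK hx⟩ : ↥K) ∈ T.subgroupOf K := h1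
  rw [Subgroup.mem_subgroupOf] at h2
  rw [mem_cj_iff]
  have e : (((MulAut.conj k)⁻¹ • (⟨x, hPK hx⟩ : ↥K) : ↥K) : G) = (k : G)⁻¹ * x * k := by
    rw [MulAut.smul_def, MulAut.conj_inv_apply]
    simp
  rwa [e] at h2

end Cfsg.Agent.Lib.Helper26.LLem
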