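import Mathlib
import Cfsg.Agent.Lib.Helper26.LLemA

/-!
# S2863: abstract core (helper26)

`A = D₁ D₂` modulo a central subgroup `C`, with `D₁ ∩ D₂ = C`; `y₁` centralises `D₁` and `[A, y₁] ≤ D₁`,
`y₂` likewise for `D₂`; `y₁` has no fixed points on `D₂/C`, `y₂` none on `D₁/C`. Then `y₁ y₂` (times any
element of `A`) acts fixed-point-freely on `A/C`.
-/

set_option autoImplicit false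
set_option linter.unusedSectionVars false
set_option linter.style.haveILetI false

namespace Cfsg.Agent.Lib.Helper26.FrakLFpf

open Subgroup

variable {Lg : Type*} [Group Lg]

theorem central_conj {C : Subgroup Lg} (hCc : C ≤ center Lg) {c : Lg} (hc : c ∈ C) (g : Lg) :
    g * c * g⁻¹ = c := by
  have := mem_center_iff.mp (hCc hc) g
  rw [this, mul_inv_cancel_right]

theorem central_conj' {C : Subgroup Lg} (hCc : C ≤ center Lg) {c : Lg} (hc : c ∈ C) (g : Lg) :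
    g⁻¹ * c * g = c := by
  have := central_conj hCc hc g⁻¹
  rwa [inv_inv] at this

theorem core_fpf (C A D₁ D₂ : Subgroup Lg) (y₁ y₂ : Lg)
    (hCc : C ≤ center Lg)
    (hAA : ∀ a ∈ A, ∀ b ∈ A, a * b * a⁻¹ * b⁻¹ ∈ C)
    (hprod : ∀ a ∈ A, ∃ d₁ ∈ D₁, ∃ d₂ ∈ D₂, a = d₁ * d₂)
    (hint : D₁ ⊓ D₂ ≤ C) (hCD₁ : C ≤ D₁)
    (h1c : ∀ d ∈ D₁, y₁ * d = d * y₁) (h1A : ∀ a ∈ A, y₁ * a * y₁⁻¹ * a⁻¹ ∈ D₁)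
    (h2c : ∀ d ∈ D₂, y₂ * d = d * y₂) (h2A : ∀ a ∈ A, y₂ * a * y₂⁻¹ * a⁻¹ ∈ D₂)
    (h1f : ∀ b ∈ D₂, y₁ * b * y₁⁻¹ * b⁻¹ ∈ C → b ∈ C)
    (h2f : ∀ b ∈ D₁, y₂ * b * y₂⁻¹ * b⁻¹ ∈ C → b ∈ C)
    (a₀ a : Lg) (ha₀ : a₀ ∈ A) (ha : a ∈ A)
    (h : (y₁ * y₂ * a₀) * a * (y₁ * y₂ * a₀)⁻¹ * a⁻¹ ∈ C) : a ∈ C := by
  -- step 1
  have hc₀ : a₀ * a * a₀⁻¹ * a⁻¹ ∈ C := hAA a₀ ha₀ a ha
  have hE : y₁ * y₂ * a * y₂⁻¹ * y₁⁻¹ * a⁻¹ ∈ C := by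
    have e : y₁ * y₂ * a * y₂⁻¹ * y₁⁻¹ * a⁻¹ =
        ((y₁ * y₂) * (a₀ * a * a₀⁻¹ * a⁻¹) * (y₁ * y₂)⁻¹)⁻¹ *
          ((y₁ * y₂ * a₀) * a * (y₁ * y₂ * a₀)⁻¹ * a⁻¹) := by group
    rw [e, central_conj hCc hc₀]
    exact C.mul_mem (C.inv_mem hc₀) h
  -- step 2
  have hS : y₁ * a * y₁⁻¹ * a⁻¹ ∈ D₁ := h1A a ha
  have hR : y₁⁻¹ * a * y₁ * a⁻¹ ∈ D₁ := by
    have e : y₁⁻¹ * a * y₁ * a⁻¹ = y₁⁻¹ * (y₁ * a * y₁⁻¹ * a⁻¹)⁻¹ * y₁ := by group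
    have hc := h1c _ (D₁.inv_mem hS)
    rw [e, mul_assoc, ← hc, ← mul_assoc, inv_mul_cancel, one_mul]
    exact D₁.inv_mem hS
  have hP : y₂ * a * y₂⁻¹ * a⁻¹ ∈ D₂ := h2A a ha
  have ePER : y₂ * a * y₂⁻¹ * a⁻¹ =
      (y₁⁻¹ * (y₁ * y₂ * a * y₂⁻¹ * y₁⁻¹ * a⁻¹) * y₁) * (y₁⁻¹ * a * y₁ * a⁻¹) := by group
  have hPC : y₂ * a * y₂⁻¹ * a⁻¹ ∈ C := by
    apply hint
    refine ⟨?_, hP⟩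
    rw [ePER, central_conj' hCc hE]
    exact D₁.mul_mem (hCD₁ hE) hR
  have hRC : y₁⁻¹ * a * y₁ * a⁻¹ ∈ C := by
    have e : y₁⁻¹ * a * y₁ * a⁻¹ =
        (y₁⁻¹ * (y₁ * y₂ * a * y₂⁻¹ * y₁⁻¹ * a⁻¹) * y₁)⁻¹ * (y₂ * a * y₂⁻¹ * a⁻¹) := by group
    rw [e, central_conj' hCc hE]
    exact C.mul_mem (C.inv_mem hE) hPC
  have hSC : y₁ * a * y₁⁻¹ * a⁻¹ ∈ C := by
    have e : y₁ * a * y₁⁻¹ * a⁻¹ = y₁ * (y₁⁻¹ * a * y₁ * a⁻¹)⁻¹ * y₁⁻¹ := by group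
    rw [e, central_conj hCc (C.inv_mem hRC)]
    exact C.inv_mem hRC
  -- step 3
  obtain ⟨d₁, hd₁, d₂, hd₂, rfl⟩ := hprod a ha
  have hd₂C : d₂ ∈ C := by
    apply h1f d₂ hd₂
    have e : y₁ * d₂ * y₁⁻¹ * d₂⁻¹ = d₁⁻¹ * (d₁ * y₁ * d₂ * y₁⁻¹ * d₂⁻¹ * d₁⁻¹) * d₁ := by group
    have e2 : d₁ * y₁ * d₂ * y₁⁻¹ * d₂⁻¹ * d₁⁻¹ = y₁ * (d₁ * d₂) * y₁⁻¹ * (d₁ * d₂)⁻¹ := by
      rw [← h1c d₁ hd₁]; group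
    rw [e, e2, central_conj' hCc hSC]
    exact hSC
  have hd₁C : d₁ ∈ C := by
    apply h2f d₁ hd₁
    have hcomm : d₁ * d₂ = d₂ * d₁ := (mem_center_iff.mp (hCc hd₂C) d₁)
    have e : y₂ * d₁ * y₂⁻¹ * d₁⁻¹ = d₂⁻¹ * (y₂ * (d₂ * d₁) * y₂⁻¹ * (d₂ * d₁)⁻¹) * d₂ := by
      have h3 : y₂ * d₂ = d₂ * y₂ := h2c d₂ hd₂
      have : y₂ * (d₂ * d₁) * y₂⁻¹ * (d₂ * d₁)⁻¹ = d₂ * (y₂ * d₁ * y₂⁻¹ * d₁⁻¹) * d₂⁻¹ := by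
        rw [← mul_assoc y₂ d₂ d₁, h3]; group
      rw [this]; group
    rw [e, ← hcomm, central_conj' hCc hPC]
    exact hPC
  exact C.mul_mem hd₁C hd₂C

end Cfsg.Agent.Lib.Helper26.FrakLFpf
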