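import Mathlib
import Cfsg.Agent.Lib.Helper26.LLemA
import Cfsg.Agent.Lib.Helper26.FrakLFpfA
import Cfsg.Agent.Lib.Helper16.StronglyEmbedded

/-!
# S2863: the configuration `(Y, K)` inside `L` (helper26)

`Y` abelian with `⟨Y^L⟩ = L`, `K` normal, normalising `Y`, `K = ⟨(Y ∩ K)^L⟩`, `L = ⟨Y, Y^g⟩` and
`Y ∩ Y^g ≤ Z(L)` for `g ∉ N(Y)`.  Then `K = (Y ∩ K)(Y^g ∩ K)`, `K' ≤ C = Y ∩ Z(L)`, and products of two
elements from different conjugates of `Y` act fixed-point-freely on `K / C`.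
-/

set_option autoImplicit false
set_option linter.unusedSectionVars false
set_option linter.style.haveILetI false

namespace Cfsg.Agent.Lib.Helper26.FrakLFpf

open Subgroup Cfsg.Agent.Lib.Helper26.LLem

variable {Lg : Type*} [Group Lg]

structure Cfg (Y K : Subgroup Lg) : Prop where
  comm : ∀ a ∈ Y, ∀ b ∈ Y, a * b = b * a
  Kn : K.Normal
  KN : K ≤ normalizer (Y : Set Lg)
  Kcl : K ≤ normalClosure ((Y ⊓ K : Subgroup Lg) : Set Lg)
  CK : Y ⊓ center Lg ≤ K
  ncl : normalClosure (Y : Set Lg) = ⊤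
  gen : ∀ g : Lg, g ∉ normalizer (Y : Set Lg) → Y ⊔ cj g Y = ⊤
  int : ∀ g : Lg, g ∉ normalizer (Y : Set Lg) → Y ⊓ cj g Y ≤ center Lg

/-- elements `l` with `[l, a] ∈ C` for a central subgroup `C` -/
def commSub (C : Subgroup Lg) (hCc : C ≤ center Lg) (a : Lg) : Subgroup Lg where
  carrier := {l | l * a * l⁻¹ * a⁻¹ ∈ C}
  one_mem' := by
    change (1 : Lg) * a * 1⁻¹ * a⁻¹ ∈ C
    have : (1 : Lg) * a * 1⁻¹ * a⁻¹ = 1 := by group
    rw [this]; exact C.one_mem
  mul_mem' := by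
    intro l₁ l₂ h₁ h₂
    change l₁ * l₂ * a * (l₁ * l₂)⁻¹ * a⁻¹ ∈ C
    have e : l₁ * l₂ * a * (l₁ * l₂)⁻¹ * a⁻¹ =
        (l₁ * (l₂ * a * l₂⁻¹ * a⁻¹) * l₁⁻¹) * (l₁ * a * l₁⁻¹ * a⁻¹) := by group
    rw [e, central_conj hCc h₂]
    exact C.mul_mem h₂ h₁
  inv_mem' := by
    intro l h
    change l⁻¹ * a * l⁻¹⁻¹ * a⁻¹ ∈ C
    have e : l⁻¹ * a * l⁻¹⁻¹ * a⁻¹ = l⁻¹ * (l * a * l⁻¹ * a⁻¹)⁻¹ * l := by group
    rw [e, central_conj' hCc (C.inv_mem h)]
    exact C.inv_mem h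

theorem mem_commSub {C : Subgroup Lg} {hCc : C ≤ center Lg} {a l : Lg} :
    l ∈ commSub C hCc a ↔ l * a * l⁻¹ * a⁻¹ ∈ C := Iff.rfl

theorem center_cj (g : Lg) (Y : Subgroup Lg) : cj g Y ⊓ center Lg = Y ⊓ center Lg := by
  ext x
  simp only [mem_inf, mem_cj_iff]
  constructor
  · rintro ⟨h1, h2⟩
    refine ⟨?_, h2⟩
    have : g⁻¹ * x * g = x := by
      have := mem_center_iff.mp h2 g
      rw [mul_assoc, ← this, ← mul_assoc, inv_mul_cancel, one_mul]
    rwa [this] at h1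
  · rintro ⟨h1, h2⟩
    refine ⟨?_, h2⟩
    have : g⁻¹ * x * g = x := by
      have := mem_center_iff.mp h2 g
      rw [mul_assoc, ← this, ← mul_assoc, inv_mul_cancel, one_mul]
    rwa [this]

theorem cj_normal {K : Subgroup Lg} (hK : K.Normal) (g : Lg) : cj g K = K := by
  ext x
  rw [mem_cj_iff]
  constructor
  · intro h
    have := hK.conj_mem _ h g
    have e : g * (g⁻¹ * x * g) * g⁻¹ = x := by group
    rwa [e] at this
  · intro h
    have := hK.conj_mem _ h g⁻¹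
    rwa [inv_inv] at this

theorem normalizer_cj (g : Lg) (Y : Subgroup Lg) :
    normalizer ((cj g Y : Subgroup Lg) : Set Lg) = cj g (normalizer (Y : Set Lg)) :=
  Cfsg.Agent.Lib.Helper16.normalizer_map_conj Y g

theorem Cfg.cj {Y K : Subgroup Lg} (h : Cfg Y K) (g : Lg) : Cfg (cj g Y) K := by
  have hKg : LLem.cj g K = K := cj_normal h.Kn g
  constructor
  · intro a ha b hb
    rw [mem_cj_iff] at ha hb
    have := h.comm _ ha _ hb
    calc a * b = g * ((g⁻¹ * a * g) * (g⁻¹ * b * g)) * g⁻¹ := by group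
      _ = g * ((g⁻¹ * b * g) * (g⁻¹ * a * g)) * g⁻¹ := by rw [this]
      _ = b * a := by group
  · exact h.Kn
  · rw [normalizer_cj, ← hKg]
    exact cj_mono g h.KN
  · have e : (LLem.cj g Y ⊓ K : Subgroup Lg) = LLem.cj g (Y ⊓ K) := by
      rw [cj_inf, hKg]
    rw [e]
    intro x hx
    have hx' : g⁻¹ * x * g ∈ K := by
      have := h.Kn.conj_mem _ hx g⁻¹
      rwa [inv_inv] at this
    have h1 := h.Kcl hx'
    have hn : (normalClosure ((LLem.cj g (Y ⊓ K) : Subgroup Lg) : Set Lg)).Normal :=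
      normalClosure_normal
    have h2 : normalClosure ((Y ⊓ K : Subgroup Lg) : Set Lg) ≤
        normalClosure ((LLem.cj g (Y ⊓ K) : Subgroup Lg) : Set Lg) := by
      apply normalClosure_le_normal
      intro d hd
      have hd' : g * d * g⁻¹ ∈ LLem.cj g (Y ⊓ K) := cj_mem_self hd
      have := hn.conj_mem _ (subset_normalClosure hd') g⁻¹
      have e2 : g⁻¹ * (g * d * g⁻¹) * g⁻¹⁻¹ = d := by group
      rwa [e2] at this
    have h3 := hn.conj_mem _ (h2 h1) g
    have e3 : g * (g⁻¹ * x * g) * g⁻¹ = x := by group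
    rwa [e3] at h3
  · rw [center_cj]; exact h.CK
  · rw [eq_top_iff]
    intro x _
    have hn : (normalClosure ((LLem.cj g Y : Subgroup Lg) : Set Lg)).Normal := normalClosure_normal
    have h2 : normalClosure ((Y : Subgroup Lg) : Set Lg) ≤
        normalClosure ((LLem.cj g Y : Subgroup Lg) : Set Lg) := by
      apply normalClosure_le_normal
      intro d hd
      have hd' : g * d * g⁻¹ ∈ LLem.cj g Y := cj_mem_self hd
      have := hn.conj_mem _ (subset_normalClosure hd') g⁻¹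
      have e2 : g⁻¹ * (g * d * g⁻¹) * g⁻¹⁻¹ = d := by group
      rwa [e2] at this
    apply h2
    rw [h.ncl]; exact mem_top x
  · intro k hk
    rw [normalizer_cj, mem_cj_iff] at hk
    have := h.gen _ hk
    rw [cj_cj]
    have e : k * g = g * (g⁻¹ * k * g) := by group
    rw [e, ← cj_cj, ← cj_sup, this]
    rw [eq_top_iff]
    intro x _
    rw [mem_cj_iff]; exact mem_top _
  · intro k hk
    rw [normalizer_cj, mem_cj_iff] at hk
    have := h.int _ hk
    rw [cj_cj]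
    have e : k * g = g * (g⁻¹ * k * g) := by group
    rw [e, ← cj_cj, ← cj_inf]
    intro x hx
    rw [mem_cj_iff] at hx
    have hc := this hx
    have hn : (center Lg).Normal := inferInstance
    have := hn.conj_mem _ hc g
    have e3 : g * (g⁻¹ * x * g) * g⁻¹ = x := by group
    rwa [e3] at this

section facts

variable {Y K : Subgroup Lg} (h : Cfg Y K)
include h

theorem Cfg.comm_mem {a y : Lg} (ha : a ∈ K) (hy : y ∈ Y) : y * a * y⁻¹ * a⁻¹ ∈ Y ⊓ K := by
  refine ⟨?_, ?_⟩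
  · have h1 : a * y⁻¹ * a⁻¹ ∈ Y := (mem_normalizer_iff.mp (h.KN ha) _).mp (Y.inv_mem hy)
    have e : y * a * y⁻¹ * a⁻¹ = y * (a * y⁻¹ * a⁻¹) := by group
    rw [e]; exact Y.mul_mem hy h1
  · exact K.mul_mem (h.Kn.conj_mem _ ha y) (K.inv_mem ha)

theorem Cfg.C_le_center : Y ⊓ center Lg ≤ center Lg := inf_le_right

/-- no fixed points of an element outside `N(Y)` on `Y / C` -/
theorem Cfg.no_fix {y₁ b : Lg} (hy₁ : y₁ ∉ normalizer (Y : Set Lg)) (hb : b ∈ Y)
    (hyb : y₁ * b * y₁⁻¹ * b⁻¹ ∈ Y ⊓ center Lg) : b ∈ Y ⊓ center Lg := by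
  have hCc : Y ⊓ center Lg ≤ center Lg := inf_le_right
  set H := commSub (Y ⊓ center Lg) hCc b with hH
  have hYH : Y ≤ H := by
    intro y hy
    rw [hH, mem_commSub]
    have : y * b * y⁻¹ * b⁻¹ = 1 := by
      rw [h.comm y hy b hb]; group
    rw [this]; exact one_mem _
  have hy₁H : y₁ ∈ H := hyb
  have hHtop : H = ⊤ := by
    rw [eq_top_iff, ← h.gen y₁ hy₁]
    apply sup_le hYH
    intro x hx
    rw [mem_cj_iff] at hx
    have : x = y₁ * (y₁⁻¹ * x * y₁) * y₁⁻¹ := by group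
    rw [this]
    exact H.mul_mem (H.mul_mem hy₁H (hYH hx)) (H.inv_mem hy₁H)
  have hall : ∀ l : Lg, l * b * l⁻¹ * b⁻¹ ∈ Y ⊓ center Lg := by
    intro l
    have : l ∈ H := by rw [hHtop]; exact mem_top l
    exact this
  have hcn : (centralizer ({b} : Set Lg)).Normal := by
    constructor
    intro k hk l
    rw [mem_centralizer_singleton_iff] at hk ⊢
    have hc := hall l⁻¹
    rw [inv_inv] at hc
    -- l⁻¹ b l = c b
    have e1 : l⁻¹ * b * l = (l⁻¹ * b * l * b⁻¹) * b := by group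
    have hcc := mem_center_iff.mp (hCc hc)
    calc l * k * l⁻¹ * b = l * k * (l⁻¹ * b * l) * l⁻¹ := by group
      _ = l * k * ((l⁻¹ * b * l * b⁻¹) * b) * l⁻¹ := by rw [← e1]
      _ = l * ((l⁻¹ * b * l * b⁻¹) * (k * b)) * l⁻¹ := by
          have e5 : k * ((l⁻¹ * b * l * b⁻¹) * b) = (l⁻¹ * b * l * b⁻¹) * (k * b) := by
            rw [← mul_assoc, hcc k, mul_assoc]
          rw [mul_assoc l k, e5]
      _ = l * ((l⁻¹ * b * l * b⁻¹) * (b * k)) * l⁻¹ := by rw [hk]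
      _ = b * (l * k * l⁻¹) := by group
  have hYc : Y ≤ centralizer ({b} : Set Lg) := by
    intro y hy
    rw [mem_centralizer_singleton_iff]
    exact h.comm y hy b hb
  have htop : centralizer ({b} : Set Lg) = ⊤ := by
    rw [eq_top_iff, ← h.ncl]
    exact normalClosure_le_normal hYc
  refine ⟨hb, ?_⟩
  change b ∈ center Lg
  rw [mem_center_iff]
  intro l
  have : l ∈ centralizer ({b} : Set Lg) := by rw [htop]; exact mem_top l
  exact (mem_centralizer_singleton_iff.mp this)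

end facts

end Cfsg.Agent.Lib.Helper26.FrakLFpf
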