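import Mathlib
import Cfsg.Agent.Lib.Helper26.FrakLFpfB

/-!
# S2863: `K = (Y ∩ K)(Y^g ∩ K)`, `K' ≤ C`, and the fixed-point-free products (helper26)
-/

set_option autoImplicit false
set_option linter.unusedSectionVars false
set_option linter.style.haveILetI false

namespace Cfsg.Agent.Lib.Helper26.FrakLFpf

open Subgroup Cfsg.Agent.Lib.Helper26.LLem

variable {Lg : Type*} [Group Lg]

/-- the product set `D₁ D₂` of two subgroups of `K` normalised by `K`, as a subgroup -/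
def prodSub (K D₁ D₂ : Subgroup Lg) (hD₂K : D₂ ≤ K)
    (hn₁ : ∀ k ∈ K, ∀ d ∈ D₁, k * d * k⁻¹ ∈ D₁) : Subgroup Lg where
  carrier := {x | ∃ d₁ ∈ D₁, ∃ d₂ ∈ D₂, x = d₁ * d₂}
  one_mem' := ⟨1, D₁.one_mem, 1, D₂.one_mem, by simp⟩
  mul_mem' := by
    rintro _ _ ⟨d₁, hd₁, d₂, hd₂, rfl⟩ ⟨e₁, he₁, e₂, he₂, rfl⟩
    refine ⟨d₁ * (d₂ * e₁ * d₂⁻¹), D₁.mul_mem hd₁ (hn₁ _ (hD₂K hd₂) _ he₁), d₂ * e₂,
      D₂.mul_mem hd₂ he₂, by group⟩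
  inv_mem' := by
    rintro _ ⟨d₁, hd₁, d₂, hd₂, rfl⟩
    refine ⟨d₂⁻¹ * d₁⁻¹ * d₂⁻¹⁻¹, hn₁ _ (K.inv_mem (hD₂K hd₂)) _ (D₁.inv_mem hd₁), d₂⁻¹,
      D₂.inv_mem hd₂, by group⟩

section facts

variable [Finite Lg] {Y K : Subgroup Lg} (h : Cfg Y K)
include h

theorem Cfg.K_normalizes_D {k d : Lg} (hk : k ∈ K) (hd : d ∈ Y ⊓ K) : k * d * k⁻¹ ∈ Y ⊓ K :=
  ⟨(mem_normalizer_iff.mp (h.KN hk) _).mp hd.1, h.Kn.conj_mem _ hd.2 k⟩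

/-- `K = (Y ∩ K)(Y^g ∩ K)` for `g ∉ N(Y)` -/
theorem Cfg.exists_prod {g : Lg} (hg : g ∉ normalizer (Y : Set Lg)) {a : Lg} (ha : a ∈ K) :
    ∃ d₁ ∈ Y ⊓ K, ∃ d₂ ∈ LLem.cj g Y ⊓ K, a = d₁ * d₂ := by
  have h' := h.cj g
  set P := prodSub K (Y ⊓ K) (LLem.cj g Y ⊓ K) inf_le_right
    (fun k hk d hd => h.K_normalizes_D hk hd) with hP
  have hPK : P ≤ K := by
    rintro _ ⟨d₁, hd₁, d₂, hd₂, rfl⟩
    exact K.mul_mem hd₁.2 hd₂.2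
  have hD₁P : Y ⊓ K ≤ P := fun d hd => ⟨d, hd, 1, one_mem _, by simp⟩
  have hD₂P : LLem.cj g Y ⊓ K ≤ P := fun d hd => ⟨1, one_mem _, d, hd, by simp⟩
  have hYN : Y ≤ normalizer (P : Set Lg) := by
    intro y hy
    apply Cfsg.Agent.Lib.Helper16.mem_normalizer_of_map_conj_le
    rintro _ ⟨x, hx, rfl⟩
    change y * x * y⁻¹ ∈ P
    have e : y * x * y⁻¹ = (y * x * y⁻¹ * x⁻¹) * x := by group
    rw [e]
    exact P.mul_mem (hD₁P (h.comm_mem (hPK hx) hy)) hx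
  have hY'N : LLem.cj g Y ≤ normalizer (P : Set Lg) := by
    intro y hy
    apply Cfsg.Agent.Lib.Helper16.mem_normalizer_of_map_conj_le
    rintro _ ⟨x, hx, rfl⟩
    change y * x * y⁻¹ ∈ P
    have e : y * x * y⁻¹ = (y * x * y⁻¹ * x⁻¹) * x := by group
    rw [e]
    exact P.mul_mem (hD₂P (h'.comm_mem (hPK hx) hy)) hx
  have hPn : P.Normal := by
    rw [← normalizer_eq_top_iff, eq_top_iff, ← h.gen g hg]
    exact sup_le hYN hY'N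
  have hKP : K ≤ P := h.Kcl.trans (normalClosure_le_normal hD₁P)
  exact hKP ha

theorem Cfg.inter_le {g : Lg} (hg : g ∉ normalizer (Y : Set Lg)) :
    (Y ⊓ K) ⊓ (LLem.cj g Y ⊓ K) ≤ Y ⊓ center Lg := by
  intro x hx
  exact ⟨hx.1.1, h.int g hg ⟨hx.1.1, hx.2.1⟩⟩

/-- commutators between `Y ∩ K` and `Y^g ∩ K` lie in `C` -/
theorem Cfg.comm_D_D' {g : Lg} (hg : g ∉ normalizer (Y : Set Lg)) {d e : Lg} (hd : d ∈ Y ⊓ K)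
    (he : e ∈ LLem.cj g Y ⊓ K) : d * e * d⁻¹ * e⁻¹ ∈ Y ⊓ center Lg := by
  have h' := h.cj g
  apply h.inter_le hg
  refine mem_inf.mpr ⟨?_, ?_⟩
  · have h1 := h.K_normalizes_D he.2 (inv_mem hd)
    have e1 : d * e * d⁻¹ * e⁻¹ = d * (e * d⁻¹ * e⁻¹) := by group
    rw [e1]; exact mul_mem hd h1
  · have h1 := h'.K_normalizes_D hd.2 he
    exact mul_mem h1 (inv_mem he)

/-- `[K, K] ≤ C` -/
theorem Cfg.comm_K_K (hnot : ∃ g : Lg, g ∉ normalizer (Y : Set Lg)) {a b : Lg} (ha : a ∈ K)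
    (hb : b ∈ K) : a * b * a⁻¹ * b⁻¹ ∈ Y ⊓ center Lg := by
  obtain ⟨g, hg⟩ := hnot
  have h' := h.cj g
  have hCc : Y ⊓ center Lg ≤ center Lg := inf_le_right
  -- `D₁` commutes with `K` mod `C`
  have h1 : ∀ d ∈ Y ⊓ K, ∀ b ∈ K, d * b * d⁻¹ * b⁻¹ ∈ Y ⊓ center Lg := by
    intro d hd b hb
    obtain ⟨e₁, he₁, e₂, he₂, rfl⟩ := h.exists_prod hg hb
    have hc := h.comm_D_D' hg hd he₂
    have e : d * (e₁ * e₂) * d⁻¹ * (e₁ * e₂)⁻¹ = e₁ * (d * e₂ * d⁻¹ * e₂⁻¹) * e₁⁻¹ := by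
      have := h.comm d hd.1 e₁ he₁.1
      calc d * (e₁ * e₂) * d⁻¹ * (e₁ * e₂)⁻¹ = (d * e₁) * e₂ * d⁻¹ * e₂⁻¹ * e₁⁻¹ := by group
        _ = (e₁ * d) * e₂ * d⁻¹ * e₂⁻¹ * e₁⁻¹ := by rw [this]
        _ = _ := by group
    rw [e, central_conj hCc hc]
    exact hc
  have h2 : ∀ d ∈ LLem.cj g Y ⊓ K, ∀ b ∈ K, d * b * d⁻¹ * b⁻¹ ∈ Y ⊓ center Lg := by
    intro d hd b hb
    obtain ⟨e₁, he₁, e₂, he₂, rfl⟩ := h.exists_prod hg hb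
    have hc := h.comm_D_D' hg he₁ hd
    have e : d * (e₁ * e₂) * d⁻¹ * (e₁ * e₂)⁻¹ = (e₁ * d * e₁⁻¹ * d⁻¹)⁻¹ := by
      have := h'.comm d hd.1 e₂ he₂.1
      calc d * (e₁ * e₂) * d⁻¹ * (e₁ * e₂)⁻¹ = d * e₁ * (e₂ * d⁻¹) * e₂⁻¹ * e₁⁻¹ := by group
        _ = d * e₁ * (d⁻¹ * e₂) * e₂⁻¹ * e₁⁻¹ := by
            have : e₂ * d⁻¹ = d⁻¹ * e₂ := by
              calc e₂ * d⁻¹ = d⁻¹ * (d * e₂) * d⁻¹ := by group
                _ = d⁻¹ * (e₂ * d) * d⁻¹ := by rw [this]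
                _ = d⁻¹ * e₂ := by group
            rw [this]
        _ = _ := by group
    rw [e]
    exact inv_mem hc
  obtain ⟨d₁, hd₁, d₂, hd₂, rfl⟩ := h.exists_prod hg ha
  have e : d₁ * d₂ * b * (d₁ * d₂)⁻¹ * b⁻¹ =
      (d₁ * (d₂ * b * d₂⁻¹ * b⁻¹) * d₁⁻¹) * (d₁ * b * d₁⁻¹ * b⁻¹) := by group
  rw [e, central_conj hCc (h2 d₂ hd₂ b hb)]
  exact mul_mem (h2 d₂ hd₂ b hb) (h1 d₁ hd₁ b hb)

/-- the fixed-point-free property of `x` on `K / C` -/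
def Fpf (Y K : Subgroup Lg) (x : Lg) : Prop :=
  ∀ a ∈ K, x * a * x⁻¹ * a⁻¹ ∈ Y ⊓ center Lg → a ∈ Y ⊓ center Lg

omit h in
theorem Fpf.of_pow {Y K : Subgroup Lg} {x : Lg} {n : ℕ} (hx : Fpf Y K (x ^ n)) : Fpf Y K x := by
  intro a ha hxa
  apply hx a ha
  have hCc : Y ⊓ center Lg ≤ center Lg := inf_le_right
  have : x ^ n ∈ commSub (Y ⊓ center Lg) hCc a := pow_mem (show x ∈ commSub _ hCc a from hxa) n
  exact this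

/-- products of two elements from two different conjugates of `Y` are fixed-point-free -/
theorem Cfg.fpf_prod {g : Lg} {y₁ y₂ a₀ : Lg} (hy₁ : y₁ ∈ Y) (hy₂ : y₂ ∈ LLem.cj g Y)
    (hn₁ : y₁ ∉ normalizer ((LLem.cj g Y : Subgroup Lg) : Set Lg))
    (hn₂ : y₂ ∉ normalizer (Y : Set Lg)) (ha₀ : a₀ ∈ K) : Fpf Y K (y₁ * y₂ * a₀) := by
  have h' := h.cj g
  have hg : g ∉ normalizer (Y : Set Lg) := by
    intro hg
    apply hn₂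
    have : LLem.cj g Y = Y := mem_normalizer_iff_cj.mp hg
    rw [this] at hy₂
    exact le_normalizer hy₂
  have hCc : Y ⊓ center Lg ≤ center Lg := inf_le_right
  intro a ha hxa
  refine core_fpf (Y ⊓ center Lg) K (Y ⊓ K) (LLem.cj g Y ⊓ K) y₁ y₂ hCc
    (fun a ha b hb => h.comm_K_K ⟨g, hg⟩ ha hb)
    (fun a ha => h.exists_prod hg ha) (h.inter_le hg) (le_inf inf_le_left h.CK)
    (fun d hd => h.comm y₁ hy₁ d hd.1) (fun a ha => h.comm_mem ha hy₁)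
    (fun d hd => h'.comm y₂ hy₂ d hd.1) (fun a ha => h'.comm_mem ha hy₂)
    ?_ ?_ a₀ a ha₀ ha hxa
  · intro b hb hyb
    have := h'.no_fix hn₁ hb.1 (by rw [center_cj]; exact hyb)
    rwa [center_cj] at this
  · intro b hb hyb
    exact h.no_fix hn₂ hb.1 hyb

/-- the general pair version -/
theorem Cfg.fpf_prod' {g₁ g₂ : Lg} {y₁ y₂ a₀ : Lg} (hy₁ : y₁ ∈ LLem.cj g₁ Y) (hy₂ : y₂ ∈ LLem.cj g₂ Y)
    (hn₁ : y₁ ∉ normalizer ((LLem.cj g₂ Y : Subgroup Lg) : Set Lg))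
    (hn₂ : y₂ ∉ normalizer ((LLem.cj g₁ Y : Subgroup Lg) : Set Lg)) (ha₀ : a₀ ∈ K) :
    Fpf Y K (y₁ * y₂ * a₀) := by
  have h₁ := h.cj g₁
  have e : LLem.cj (g₂ * g₁⁻¹) (LLem.cj g₁ Y) = LLem.cj g₂ Y := by
    rw [cj_cj, mul_assoc, inv_mul_cancel, mul_one]
  have := h₁.fpf_prod (g := g₂ * g₁⁻¹) hy₁ (by rw [e]; exact hy₂) (by rw [e]; exact hn₁) hn₂ ha₀
  intro a ha hxa
  have h3 := this a ha (by rw [center_cj]; exact hxa)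
  rwa [center_cj] at h3

end facts

end Cfsg.Agent.Lib.Helper26.FrakLFpf
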