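import Mathlib
import Cfsg.Agent.Lib.Helper16.StronglyEmbedded

/-!
# Uniqueness of the nontrivial normal exponent-`p` subgroup of a normalizer (helper26)

Abstract part for S2861: the predicate `Uniq p Y`, transport along isomorphisms, and the case
`|Y| = 2` (a group generated by two conjugate involutions with trivial `O_2`).
-/

set_option autoImplicit false
set_option linter.unusedSectionVars false

namespace Cfsg.Agent.Lib.Helper26.FrakLQuot

open Subgroup

variable {X : Type*} [Group X]

/-- every nontrivial subgroup `V` of `N(Y)` of exponent `p` normalised by `N(Y)` equals `Y`. -/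
def Uniq (p : ℕ) (Y : Subgroup X) : Prop :=
  ∀ V : Subgroup X, V ≤ normalizer (Y : Set X) → normalizer (Y : Set X) ≤ normalizer (V : Set X) →
    (∀ a ∈ V, a ^ p = 1) → V ≠ ⊥ → V = Y

theorem Uniq.of_map {X' : Type*} [Group X'] {p : ℕ} {Y : Subgroup X} (e : X ≃* X')
    (h : Uniq p (Y.map e.toMonoidHom)) : Uniq p Y := by
  intro V hVN hNV hexp hne
  have h1 : V.map e.toMonoidHom ≤ normalizer ((Y.map e.toMonoidHom : Subgroup X') : Set X') := by
    rw [← map_equiv_normalizer_eq]
    exact Subgroup.map_mono hVN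
  have h2 : normalizer ((Y.map e.toMonoidHom : Subgroup X') : Set X') ≤
      normalizer ((V.map e.toMonoidHom : Subgroup X') : Set X') := by
    rw [← map_equiv_normalizer_eq, ← map_equiv_normalizer_eq]
    exact Subgroup.map_mono hNV
  have h3 : ∀ a ∈ V.map e.toMonoidHom, a ^ p = 1 := by
    rintro _ ⟨v, hv, rfl⟩
    rw [← map_pow, hexp v hv, map_one]
  have h4 : V.map e.toMonoidHom ≠ ⊥ := by
    intro h0
    apply hne
    rw [Subgroup.map_eq_bot_iff_of_injective _ e.injective] at h0
    exact h0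
  have h5 := h _ h1 h2 h3 h4
  exact Subgroup.map_injective e.injective h5

/-- conjugation of an integer power -/
theorem conj_zpow (a b : X) (i : ℤ) : a * b ^ i * a⁻¹ = (a * b * a⁻¹) ^ i := by
  have := map_zpow (MulAut.conj a) b i
  simp only [MulAut.conj_apply] at this
  exact this

/-- The case `|Y| = 2`: if `O_2(X) = 1` and `X = ⟨Y, Y^g⟩` for all `g ∉ N(Y)` then `N(Y) = Y`,
so `Y` is the unique nontrivial subgroup of `N(Y)`. -/
theorem uniq_of_card_two [Finite X] (Y : Subgroup X) (hY : Nat.card Y = 2)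
    (hO : ∀ K : Subgroup X, K.Normal → IsPGroup 2 K → K = ⊥)
    (hgen : ∀ g : X, g ∉ normalizer (Y : Set X) → Y ⊔ Y.map (MulAut.conj g).toMonoidHom = ⊤) :
    Uniq 2 Y := by
  classical
  -- the involution `t`
  obtain ⟨t', ht'1, ht'u⟩ := (Nat.card_eq_two_iff' (1 : Y)).mp hY
  set t : X := (t' : X) with htdef
  have htY : t ∈ Y := t'.2
  have ht1 : t ≠ 1 := fun h => ht'1 (Subtype.ext h)
  have hYmem : ∀ y ∈ Y, y = 1 ∨ y = t := by
    intro y hy
    by_cases h1 : y = 1
    · exact Or.inl h1
    · right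
      have := ht'u ⟨y, hy⟩ (fun h => h1 (congrArg Subtype.val h))
      exact congrArg Subtype.val this
  have htt : t * t = 1 := by
    rcases hYmem _ (Y.mul_mem htY htY) with h | h
    · exact h
    · exact absurd (mul_eq_left.mp h) ht1
  have htinv : t⁻¹ = t := inv_eq_of_mul_eq_one_left htt
  -- `N(Y) ≠ ⊤`
  have hN : ∃ g : X, g ∉ normalizer (Y : Set X) := by
    by_contra hcon
    push Not at hcon
    have hYn : Y.Normal := by
      rw [← Subgroup.normalizer_eq_top_iff]
      exact eq_top_iff.mpr fun g _ => hcon g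
    have hYp : IsPGroup 2 Y := IsPGroup.of_card (n := 1) (by rw [hY, pow_one])
    have := hO Y hYn hYp
    rw [this] at hY
    simp at hY
  obtain ⟨g, hg⟩ := hN
  obtain ⟨s, hsdef⟩ : ∃ s : X, s = g * t * g⁻¹ := ⟨_, rfl⟩
  have hss : s * s = 1 := by
    rw [hsdef]
    calc g * t * g⁻¹ * (g * t * g⁻¹) = g * (t * t) * g⁻¹ := by group
      _ = 1 := by rw [htt]; group
  have hsinv : s⁻¹ = s := inv_eq_of_mul_eq_one_left hss
  have hsYg : s ∈ Y.map (MulAut.conj g).toMonoidHom := ⟨t, htY, hsdef.symm⟩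
  have htop : ∀ H : Subgroup X, t ∈ H → s ∈ H → H = ⊤ := by
    intro H htH hsH
    rw [eq_top_iff, ← hgen g hg]
    apply sup_le
    · intro y hy
      rcases hYmem y hy with rfl | rfl
      · exact H.one_mem
      · exact htH
    · rintro _ ⟨y, hy, rfl⟩
      rcases hYmem y hy with h | h
      · rw [h, map_one]; exact H.one_mem
      · rw [h]
        change g * t * g⁻¹ ∈ H
        rw [← hsdef]; exact hsH
  -- the rotation `u`
  obtain ⟨u, hudef⟩ : ∃ u : X, u = t * s := ⟨_, rfl⟩
  have hut : t * u * t⁻¹ = u⁻¹ := by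
    rw [hudef, htinv, mul_inv_rev, htinv, hsinv, ← mul_assoc t t s, htt, one_mul]
  have hus : s * u * s⁻¹ = u⁻¹ := by
    rw [hudef, hsinv, mul_inv_rev, htinv, hsinv, mul_assoc, mul_assoc, hss, mul_one]
  have hsu : s = t * u := by
    rw [hudef, ← mul_assoc, htt, one_mul]
  have hCn : (zpowers u).Normal := by
    rw [← Subgroup.normalizer_eq_top_iff]
    apply htop
    · apply Cfsg.Agent.Lib.Helper16.mem_normalizer_of_map_conj_le
      rintro _ ⟨x, hx, rfl⟩
      obtain ⟨i, rfl⟩ := mem_zpowers_iff.mp hx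
      change t * u ^ i * t⁻¹ ∈ zpowers u
      rw [conj_zpow, hut]
      exact (zpowers u).zpow_mem ((zpowers u).inv_mem (mem_zpowers u)) i
    · apply Cfsg.Agent.Lib.Helper16.mem_normalizer_of_map_conj_le
      rintro _ ⟨x, hx, rfl⟩
      obtain ⟨i, rfl⟩ := mem_zpowers_iff.mp hx
      change s * u ^ i * s⁻¹ ∈ zpowers u
      rw [conj_zpow, hus]
      exact (zpowers u).zpow_mem ((zpowers u).inv_mem (mem_zpowers u)) i
  have hform : ∀ x : X, ∃ i j : ℤ, x = u ^ i * t ^ j := by
    intro x
    have hx : x ∈ zpowers u ⊔ zpowers t := by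
      have : zpowers u ⊔ zpowers t = ⊤ := by
        apply htop
        · exact mem_sup_right (mem_zpowers t)
        · rw [hsu]
          exact (zpowers u ⊔ zpowers t).mul_mem (mem_sup_right (mem_zpowers t))
            (mem_sup_left (mem_zpowers u))
      rw [this]; exact mem_top x
    obtain ⟨y, hy, z, hz, rfl⟩ := (mem_sup_of_normal_left (hs := hCn)).mp hx
    obtain ⟨i, rfl⟩ := mem_zpowers_iff.mp hy
    obtain ⟨j, rfl⟩ := mem_zpowers_iff.mp hz
    exact ⟨i, j, rfl⟩
  -- `u` has odd order
  have hodd : ¬ 2 ∣ orderOf u := by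
    rintro ⟨k, hk⟩
    have hpos : 0 < orderOf u := orderOf_pos u
    have hkpos : 0 < k := by omega
    set z : X := u ^ k with hzdef
    have hz1 : z ≠ 1 := pow_ne_one_of_lt_orderOf hkpos.ne' (by omega)
    have hzz : z * z = 1 := by
      rw [hzdef, ← pow_add, ← two_mul, ← hk, pow_orderOf_eq_one]
    have hzinv : z⁻¹ = z := inv_eq_of_mul_eq_one_left hzz
    have hzt : t * z * t⁻¹ = z := by
      have := conj_zpow t u (k : ℤ)
      rw [zpow_natCast, hut, inv_zpow, zpow_natCast] at this
      rw [this, hzinv]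
    have hzs : s * z * s⁻¹ = z := by
      have := conj_zpow s u (k : ℤ)
      rw [zpow_natCast, hus, inv_zpow, zpow_natCast] at this
      rw [this, hzinv]
    have hcent : centralizer ({z} : Set X) = ⊤ := by
      apply htop
      · rw [mem_centralizer_singleton_iff]
        calc t * z = t * z * t⁻¹ * t := by group
          _ = z * t := by rw [hzt]
      · rw [mem_centralizer_singleton_iff]
        calc s * z = s * z * s⁻¹ * s := by group
          _ = z * s := by rw [hzs]
    have hKn : (zpowers z).Normal := by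
      constructor
      intro n hn x
      obtain ⟨i, rfl⟩ := mem_zpowers_iff.mp hn
      have hx : x ∈ centralizer ({z} : Set X) := by rw [hcent]; exact mem_top x
      rw [mem_centralizer_singleton_iff] at hx
      rw [conj_zpow]
      have : x * z * x⁻¹ = z := by rw [hx]; group
      rw [this]
      exact (zpowers z).zpow_mem (mem_zpowers z) i
    have hKp : IsPGroup 2 (zpowers z) := by
      apply IsPGroup.of_card (n := 1)
      rw [Nat.card_zpowers, pow_one]
      exact orderOf_eq_prime (by rw [pow_two]; exact hzz) hz1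
    have := hO _ hKn hKp
    rw [zpowers_eq_bot] at this
    exact hz1 this
  -- `N(Y) ≤ Y`
  have hNY : normalizer (Y : Set X) ≤ Y := by
    intro c hc
    have hct : c * t * c⁻¹ = t := by
      have h1 : c * t * c⁻¹ ∈ Y := (mem_normalizer_iff.mp hc t).mp htY
      rcases hYmem _ h1 with h | h
      · exfalso
        apply ht1
        have : t = c⁻¹ * (c * t * c⁻¹) * c := by group
        rw [this, h]; group
      · exact h
    obtain ⟨i, j, rfl⟩ := hform c
    have htj : t * t ^ j * t⁻¹ = t ^ j := by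
      rw [conj_zpow]; congr 1; group
    have hui : t * u ^ i * t⁻¹ = u ^ i := by
      have h1 : (u ^ i * t ^ j) * t * (u ^ i * t ^ j)⁻¹ = u ^ i * t * (u ^ i)⁻¹ := by
        have : t ^ j * t * (t ^ j)⁻¹ = t := by
          rw [← zpow_add_one, ← zpow_neg, ← zpow_add]; simp
        calc (u ^ i * t ^ j) * t * (u ^ i * t ^ j)⁻¹
            = u ^ i * (t ^ j * t * (t ^ j)⁻¹) * (u ^ i)⁻¹ := by group
          _ = u ^ i * t * (u ^ i)⁻¹ := by rw [this]
      rw [h1] at hct
      calc t * u ^ i * t⁻¹ = (u ^ i * t * (u ^ i)⁻¹)⁻¹⁻¹ * u ^ i * t⁻¹ := by rw [hct, inv_inv]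
        _ = u ^ i := by group
    rw [conj_zpow, hut, inv_zpow] at hui
    have h2 : u ^ (2 * i) = 1 := by
      rw [two_mul, zpow_add]
      nth_rewrite 1 [← hui]
      exact inv_mul_cancel _
    have h3 : (orderOf u : ℤ) ∣ 2 * i := orderOf_dvd_iff_zpow_eq_one.mpr h2
    have hcop : IsCoprime (orderOf u : ℤ) 2 := by
      have h0 : Nat.Coprime (orderOf u) 2 :=
        ((Nat.Prime.coprime_iff_not_dvd Nat.prime_two).mpr hodd).symm
      exact_mod_cast Nat.isCoprime_iff_coprime.mpr h0
    have h4 : (orderOf u : ℤ) ∣ i := hcop.dvd_of_dvd_mul_left h3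
    have h5 : u ^ i = 1 := orderOf_dvd_iff_zpow_eq_one.mp h4
    rw [h5, one_mul]
    exact Y.zpow_mem htY j
  intro V hVN _ _ hne
  apply le_antisymm (hVN.trans hNY)
  obtain ⟨⟨v, hv⟩, hv1⟩ := (Subgroup.ne_bot_iff_exists_ne_one).mp hne
  have hv1' : v ≠ 1 := fun h => hv1 (Subtype.ext h)
  have hvt : v = t := (hYmem v (hNY (hVN hv))).resolve_left hv1'
  intro y hy
  rcases hYmem y hy with rfl | rfl
  · exact V.one_mem
  · rw [← hvt]; exact hv

end Cfsg.Agent.Lib.Helper26.FrakLQuot
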