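import Mathlib
import Cfsg.Agent.Lib.Helper26.FrakLQuotA
import Cfsg.Agent.Lib.Helper16.FrakM2

/-!
# S2861: abstract quotient lemmas (helper26)
-/

set_option autoImplicit false
set_option linter.unusedSectionVars false
set_option linter.style.haveILetI false

namespace Cfsg.Agent.Lib.Helper26.FrakLQuot

open Subgroup

variable {Lg : Type*} [Group Lg]

/-- image of a conjugate under a homomorphism -/
theorem map_map_conj {X : Type*} [Group X] (f : Lg →* X) (Y : Subgroup Lg) (g : Lg) :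
    (Y.map (MulAut.conj g).toMonoidHom).map f = (Y.map f).map (MulAut.conj (f g)).toMonoidHom := by
  rw [Subgroup.map_map, Subgroup.map_map]
  congr 1
  ext y
  simp [MulAut.conj_apply]

/-- Passing the configuration `Y ≤ L₀ ≤ N(Y)`, `⟨Y, Y^g⟩ = ⊤` for `g ∉ L₀` to a quotient by a normal
subgroup `K ≤ L₀`. -/
theorem quot_config (K : Subgroup Lg) [K.Normal] (Yl L₀ : Subgroup Lg) (hKL : K ≤ L₀)
    (hYL : Yl ≤ L₀) (hLN : L₀ ≤ normalizer (Yl : Set Lg)) (hL₀ : L₀ ≠ ⊤)
    (hgen : ∀ g : Lg, g ∉ L₀ → Yl ⊔ Yl.map (MulAut.conj g).toMonoidHom = ⊤) :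
    normalizer ((Yl.map (QuotientGroup.mk' K) : Subgroup (Lg ⧸ K)) : Set (Lg ⧸ K)) =
        L₀.map (QuotientGroup.mk' K) ∧
      ∀ x : Lg ⧸ K, x ∉ normalizer ((Yl.map (QuotientGroup.mk' K) : Subgroup (Lg ⧸ K)) : Set (Lg ⧸ K)) →
        Yl.map (QuotientGroup.mk' K) ⊔
          (Yl.map (QuotientGroup.mk' K)).map (MulAut.conj x).toMonoidHom = ⊤ := by
  set π := QuotientGroup.mk' K with hπ
  have hsurj : Function.Surjective π := QuotientGroup.mk'_surjective K
  have hgen' : ∀ x : Lg ⧸ K, x ∉ L₀.map π →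
      Yl.map π ⊔ (Yl.map π).map (MulAut.conj x).toMonoidHom = ⊤ := by
    intro x hx
    obtain ⟨g, rfl⟩ := hsurj x
    have hg : g ∉ L₀ := fun h => hx ⟨g, h, rfl⟩
    rw [← map_map_conj, ← Subgroup.map_sup, hgen g hg]
    exact Subgroup.map_top_of_surjective π hsurj
  have hle : L₀.map π ≤ normalizer ((Yl.map π : Subgroup (Lg ⧸ K)) : Set (Lg ⧸ K)) :=
    (Subgroup.map_mono hLN).trans (le_normalizer_map π)
  have hNb : L₀.map π ≠ ⊤ := by
    intro h
    apply hL₀
    have h1 := Subgroup.comap_map_eq π L₀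
    rw [h, Subgroup.comap_top, hπ, QuotientGroup.ker_mk', sup_eq_left.mpr hKL] at h1
    exact h1.symm
  have heq : normalizer ((Yl.map π : Subgroup (Lg ⧸ K)) : Set (Lg ⧸ K)) = L₀.map π := by
    apply le_antisymm _ hle
    intro x hx
    by_contra hxn
    have h1 := hgen' x hxn
    rw [Cfsg.Agent.Lib.Helper16.map_conj_eq_of_mem_normalizer hx, sup_idem] at h1
    apply hNb
    rw [eq_top_iff, ← h1]
    exact Subgroup.map_mono hYL
  refine ⟨heq, ?_⟩
  intro x hx
  rw [heq] at hx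
  exact hgen' x hx

/-- Pulling `Uniq` back along an injective homomorphism onto the normalizer. -/
theorem uniq_pullback {Q X : Type*} [Group Q] [Group X] {p : ℕ} (ψ : Q →* X)
    (hinj : Function.Injective ψ) (Yb : Subgroup X) (Ybar : Subgroup Q)
    (hmap : Ybar.map ψ = Yb) (hrange : ψ.range = normalizer (Yb : Set X)) (hU : Uniq p Yb)
    (V : Subgroup Q) (hV : V.Normal) (hexp : ∀ a ∈ V, a ^ p = 1) (hne : V ≠ ⊥) : V = Ybar := by
  have h1 : V.map ψ ≤ normalizer (Yb : Set X) := by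
    rw [← hrange]
    rintro _ ⟨v, -, rfl⟩
    exact ⟨v, rfl⟩
  have h2 : normalizer (Yb : Set X) ≤ normalizer ((V.map ψ : Subgroup X) : Set X) := by
    rw [← hrange, MonoidHom.range_eq_map, ← Subgroup.normalizer_eq_top_iff.mpr hV]
    exact le_normalizer_map ψ
  have h3 : ∀ a ∈ V.map ψ, a ^ p = 1 := by
    rintro _ ⟨v, hv, rfl⟩
    rw [← map_pow, hexp v hv, map_one]
  have h4 : V.map ψ ≠ ⊥ := by
    intro h0
    apply hne
    rwa [Subgroup.map_eq_bot_iff_of_injective _ hinj] at h0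
  have h5 := hU _ h1 h2 h3 h4
  rw [← hmap] at h5
  exact Subgroup.map_injective hinj h5

end Cfsg.Agent.Lib.Helper26.FrakLQuot
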