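import Mathlib
import Cfsg.Agent.Lib.Helper26.FrakLFpfC
import Cfsg.Agent.Lib.Helper26.FrakLQuotD

/-!
# S2863: interface with the quotient `X = L / K` (helper26)
-/

set_option autoImplicit false
set_option linter.unusedSectionVars false
set_option linter.style.haveILetI false

namespace Cfsg.Agent.Lib.Helper26.FrakLFpf

open Subgroup Cfsg.Agent.Lib.Helper26.LLem Cfsg.Agent.Lib.Helper26.FrakLQuot

/-- `x` is a product of two elements of two conjugates of `Yb`, neither normalising the other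
conjugate. -/
def DecX {X : Type*} [Group X] (Yb : Subgroup X) (x : X) : Prop :=
  ∃ x₁ x₂ u₁ u₂ : X, u₁ ∈ LLem.cj x₁ Yb ∧ u₂ ∈ LLem.cj x₂ Yb ∧ x = u₁ * u₂ ∧
    u₁ ∉ normalizer ((LLem.cj x₂ Yb : Subgroup X) : Set X) ∧
    u₂ ∉ normalizer ((LLem.cj x₁ Yb : Subgroup X) : Set X)

theorem DecX.of_cj {X : Type*} [Group X] {Yb : Subgroup X} {x : X} (g : X)
    (h : DecX (LLem.cj g Yb) x) : DecX Yb x := by
  obtain ⟨x₁, x₂, u₁, u₂, h1, h2, h3, h4, h5⟩ := h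
  rw [cj_cj] at h1 h2 h4 h5
  exact ⟨x₁ * g, x₂ * g, u₁, u₂, h1, h2, h3, h4, h5⟩

theorem DecX.to_cj {X : Type*} [Group X] {Yb : Subgroup X} {x : X} (g : X)
    (h : DecX Yb x) : DecX (LLem.cj g Yb) x := by
  apply DecX.of_cj g⁻¹
  rwa [cj_inv_cj]

theorem DecX.of_map {X X' : Type*} [Group X] [Group X'] (e : X ≃* X') {Yb : Subgroup X} {x : X}
    (h : DecX (Yb.map e.toMonoidHom) (e x)) : DecX Yb x := by
  obtain ⟨x₁, x₂, u₁, u₂, h1, h2, h3, h4, h5⟩ := h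
  have hc : ∀ z : X', LLem.cj z (Yb.map e.toMonoidHom) =
      (LLem.cj (e.symm z) Yb).map e.toMonoidHom := by
    intro z
    have := map_map_conj e.toMonoidHom Yb (e.symm z)
    simp only [MulEquiv.coe_toMonoidHom, MulEquiv.apply_symm_apply] at this
    exact this.symm
  rw [hc] at h1 h2 h4 h5
  obtain ⟨v₁, hv₁, rfl⟩ := h1
  obtain ⟨v₂, hv₂, rfl⟩ := h2
  refine ⟨e.symm x₁, e.symm x₂, v₁, v₂, hv₁, hv₂, ?_, ?_, ?_⟩
  · apply e.injective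
    rw [h3, map_mul]; rfl
  · intro hn
    apply h4
    rw [← map_equiv_normalizer_eq]
    exact ⟨v₁, hn, rfl⟩
  · intro hn
    apply h5
    rw [← map_equiv_normalizer_eq]
    exact ⟨v₂, hn, rfl⟩

variable {Lg : Type*} [Group Lg]

/-- all lifts of `x` act fixed-point-freely -/
def FpfX (Y K : Subgroup Lg) [K.Normal] (x : Lg ⧸ K) : Prop :=
  ∀ h : Lg, QuotientGroup.mk' K h = x → Fpf Y K h

section

variable [Finite Lg] {Y K : Subgroup Lg} [hKn : K.Normal] (h : Cfg Y K)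
include h

theorem fpfX_of_decX {x : Lg ⧸ K} (hd : DecX (Y.map (QuotientGroup.mk' K)) x) : FpfX Y K x := by
  obtain ⟨x₁, x₂, u₁, u₂, h1, h2, h3, h4, h5⟩ := hd
  obtain ⟨g₁, rfl⟩ := QuotientGroup.mk'_surjective K x₁
  obtain ⟨g₂, rfl⟩ := QuotientGroup.mk'_surjective K x₂
  have hc : ∀ g : Lg, LLem.cj (QuotientGroup.mk' K g) (Y.map (QuotientGroup.mk' K)) =
      (LLem.cj g Y).map (QuotientGroup.mk' K) := fun g => (map_map_conj _ Y g).symm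
  rw [hc] at h1 h2 h4 h5
  obtain ⟨y₁, hy₁, rfl⟩ := h1
  obtain ⟨y₂, hy₂, rfl⟩ := h2
  intro k hk
  have hn₁ : y₁ ∉ normalizer ((LLem.cj g₂ Y : Subgroup Lg) : Set Lg) := by
    intro hn
    apply h4
    exact le_normalizer_map _ ⟨y₁, hn, rfl⟩
  have hn₂ : y₂ ∉ normalizer ((LLem.cj g₁ Y : Subgroup Lg) : Set Lg) := by
    intro hn
    apply h5
    exact le_normalizer_map _ ⟨y₂, hn, rfl⟩
  have ha₀ : (y₁ * y₂)⁻¹ * k ∈ K := by
    rw [← QuotientGroup.eq]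
    rw [h3] at hk
    change (QuotientGroup.mk' K) (y₁ * y₂) = (QuotientGroup.mk' K) k
    rw [hk, map_mul]
  have := h.fpf_prod' hy₁ hy₂ hn₁ hn₂ ha₀
  have e : y₁ * y₂ * ((y₁ * y₂)⁻¹ * k) = k := by group
  rwa [e] at this

/-- the quaternion trick: if `w₁, w₂, w₁w₂` all square to `x` and act fixed-point-freely, then so
does `x` (`p` odd). -/
theorem fpfX_of_q8 {p : ℕ} [Fact p.Prime] (hp : p ≠ 2) (hK : IsPGroup p K)
    (hnot : ∃ g : Lg, g ∉ normalizer (Y : Set Lg)) {x w₁ w₂ : Lg ⧸ K}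
    (h₁ : FpfX Y K w₁) (h₂ : FpfX Y K w₂) (h₃ : FpfX Y K (w₁ * w₂))
    (e₁ : w₁ * w₁ = x) (e₂ : w₂ * w₂ = x) (e₃ : (w₁ * w₂) * (w₁ * w₂) = x) : FpfX Y K x := by
  have hCc : Y ⊓ center Lg ≤ center Lg := inf_le_right
  -- key: a lift `k` of `w` with `w² = x` inverts `a` modulo `C`
  have key : ∀ (w : Lg ⧸ K), FpfX Y K w → w * w = x → ∀ (k t a : Lg), QuotientGroup.mk' K k = w →
      QuotientGroup.mk' K t = x → a ∈ K → t * a * t⁻¹ * a⁻¹ ∈ Y ⊓ center Lg →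
      a * (k * a * k⁻¹) ∈ Y ⊓ center Lg := by
    intro w hw hww k t a hk ht ha hta
    have hka : k * a * k⁻¹ ∈ K := hKn.conj_mem _ ha k
    apply hw k hk _ (K.mul_mem ha hka)
    -- `k² = t a₁`
    have ha₁ : t⁻¹ * (k * k) ∈ K := by
      rw [← QuotientGroup.eq]
      change (QuotientGroup.mk' K) t = (QuotientGroup.mk' K) (k * k)
      rw [map_mul, hk, hww, ht]
    set a₁ := t⁻¹ * (k * k) with ha₁def
    have hkk : k * k = t * a₁ := by rw [ha₁def]; group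
    -- `k² a k⁻² ≡ a`
    have h5 : (k * k) * a * (k * k)⁻¹ * a⁻¹ ∈ Y ⊓ center Lg := by
      have hc1 := h.comm_K_K hnot ha₁ ha
      have e : (k * k) * a * (k * k)⁻¹ * a⁻¹ =
          (t * (a₁ * a * a₁⁻¹ * a⁻¹) * t⁻¹) * (t * a * t⁻¹ * a⁻¹) := by
        rw [hkk]; group
      rw [e, central_conj hCc hc1]
      exact mul_mem hc1 hta
    have hc2 := h.comm_K_K hnot hka ha
    -- `k (a · kak⁻¹) k⁻¹ (a · kak⁻¹)⁻¹ = (kak⁻¹ · k²ak⁻² ) (kak⁻¹)⁻¹ a⁻¹`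
    have e : k * (a * (k * a * k⁻¹)) * k⁻¹ * (a * (k * a * k⁻¹))⁻¹ =
        ((k * a * k⁻¹) * ((k * k) * a * (k * k)⁻¹ * a⁻¹) * (k * a * k⁻¹)⁻¹) *
          ((k * a * k⁻¹) * a * (k * a * k⁻¹)⁻¹ * a⁻¹) := by group
    rw [e, central_conj hCc h5]
    exact mul_mem h5 hc2
  intro t ht a ha hta
  obtain ⟨k₁, hk₁⟩ := QuotientGroup.mk'_surjective K w₁
  obtain ⟨k₂, hk₂⟩ := QuotientGroup.mk'_surjective K w₂
  have hk₃ : QuotientGroup.mk' K (k₁ * k₂) = w₁ * w₂ := by rw [map_mul, hk₁, hk₂]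
  have i₁ := key w₁ h₁ e₁ k₁ t a hk₁ ht ha hta
  have i₂ := key w₂ h₂ e₂ k₂ t a hk₂ ht ha hta
  have i₃ := key (w₁ * w₂) h₃ e₃ (k₁ * k₂) t a hk₃ ht ha hta
  -- `a² ∈ C`
  have hsq : a * a ∈ Y ⊓ center Lg := by
    -- (k₁k₂) a (k₁k₂)⁻¹ = k₁ (k₂ a k₂⁻¹) k₁⁻¹
    have e : a * a = (a * (k₁ * k₂ * a * (k₁ * k₂)⁻¹)) *
        (k₁ * (a * (k₂ * a * k₂⁻¹))⁻¹ * k₁⁻¹) * (a⁻¹ * (a * (k₁ * a * k₁⁻¹)) * a) := by
      group
    rw [e, central_conj hCc (inv_mem i₂), central_conj' hCc i₁]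
    exact mul_mem (mul_mem i₃ (inv_mem i₂)) i₁
  -- `a` has odd order
  obtain ⟨j, hj⟩ := hK ⟨a, ha⟩
  have hj' : a ^ (p ^ j) = 1 := by
    have := congrArg Subtype.val hj
    simpa using this
  have hodd : Odd (p ^ j) := by
    apply Odd.pow
    exact (Nat.Prime.eq_two_or_odd' Fact.out).resolve_left hp
  obtain ⟨r, hr⟩ := hodd
  have : a = ((a * a) ^ r)⁻¹ := by
    rw [eq_inv_iff_mul_eq_one, ← pow_two, ← pow_mul, ← pow_succ', ← hr, hj']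
  rw [this]
  exact inv_mem (pow_mem hsq r)

end

end Cfsg.Agent.Lib.Helper26.FrakLFpf
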