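import Mathlib
import Cfsg.Agent.Lib.Helper26.FrakLFpfD

/-!
# S2863: reduction to `p'`-elements of the quotient; the decomposition predicate `DecQ`; the
case `|Yb| = 2` (helper26)
-/

set_option autoImplicit false
set_option linter.unusedSectionVars false
set_option linter.style.haveILetI false

namespace Cfsg.Agent.Lib.Helper26.FrakLFpf

open Subgroup Cfsg.Agent.Lib.Helper26.LLem Cfsg.Agent.Lib.Helper26.FrakLQuot

theorem DecX.conj {X : Type*} [Group X] {Yb : Subgroup X} {x : X} (g : X) (h : DecX Yb x) :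
    DecX Yb (g * x * g⁻¹) := by
  obtain ⟨x₁, x₂, u₁, u₂, h1, h2, h3, h4, h5⟩ := h
  have hm : ∀ (z u : X), u ∈ LLem.cj z Yb → g * u * g⁻¹ ∈ LLem.cj (g * z) Yb := by
    intro z u hu
    rw [mem_cj_iff] at hu ⊢
    have e : (g * z)⁻¹ * (g * u * g⁻¹) * (g * z) = z⁻¹ * u * z := by group
    rwa [e]
  have hn : ∀ (z u : X), u ∉ normalizer ((LLem.cj z Yb : Subgroup X) : Set X) →
      g * u * g⁻¹ ∉ normalizer ((LLem.cj (g * z) Yb : Subgroup X) : Set X) := by
    intro z u hu hcon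
    apply hu
    rw [← cj_cj, normalizer_cj, mem_cj_iff] at hcon
    have e : g⁻¹ * (g * u * g⁻¹) * g = u := by group
    rwa [e] at hcon
  refine ⟨g * x₁, g * x₂, g * u₁ * g⁻¹, g * u₂ * g⁻¹, hm _ _ h1, hm _ _ h2, ?_, hn _ _ h4,
    hn _ _ h5⟩
  rw [h3]; group

/-- `x` is a product as in `DecX`, or (`p` odd) the common square of a quaternion triple of such
products. -/
def DecQ {X : Type*} [Group X] (p : ℕ) (Yb : Subgroup X) (x : X) : Prop :=
  DecX Yb x ∨ (p ≠ 2 ∧ ∃ w₁ w₂ : X, DecX Yb w₁ ∧ DecX Yb w₂ ∧ DecX Yb (w₁ * w₂) ∧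
    w₁ * w₁ = x ∧ w₂ * w₂ = x ∧ (w₁ * w₂) * (w₁ * w₂) = x)

theorem DecQ.of_cj {X : Type*} [Group X] {p : ℕ} {Yb : Subgroup X} {x : X} (g : X)
    (h : DecQ p (LLem.cj g Yb) x) : DecQ p Yb x := by
  rcases h with h | ⟨hp, w₁, w₂, h1, h2, h3, h4⟩
  · exact Or.inl (h.of_cj g)
  · exact Or.inr ⟨hp, w₁, w₂, h1.of_cj g, h2.of_cj g, h3.of_cj g, h4⟩

theorem DecQ.of_map {X X' : Type*} [Group X] [Group X'] {p : ℕ} (e : X ≃* X') {Yb : Subgroup X}
    {x : X} (h : DecQ p (Yb.map e.toMonoidHom) (e x)) : DecQ p Yb x := by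
  rcases h with h | ⟨hp, w₁, w₂, h1, h2, h3, h4, h5, h6⟩
  · exact Or.inl (DecX.of_map e h)
  · refine Or.inr ⟨hp, e.symm w₁, e.symm w₂, DecX.of_map e (by simpa using h1),
      DecX.of_map e (by simpa using h2), DecX.of_map e (by simpa using h3), ?_, ?_, ?_⟩
    · apply e.injective; simpa using h4
    · apply e.injective; simpa using h5
    · apply e.injective; simpa using h6

variable {Lg : Type*} [Group Lg]

theorem fpfX_of_decQ [Finite Lg] {Y K : Subgroup Lg} [hKn : K.Normal] (h : Cfg Y K) {p : ℕ}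
    [Fact p.Prime] (hK : IsPGroup p K) (hnot : ∃ g : Lg, g ∉ normalizer (Y : Set Lg))
    {x : Lg ⧸ K} (hd : DecQ p (Y.map (QuotientGroup.mk' K)) x) : FpfX Y K x := by
  rcases hd with hd | ⟨hp, w₁, w₂, h1, h2, h3, h4, h5, h6⟩
  · exact fpfX_of_decX h hd
  · exact fpfX_of_q8 h hp hK hnot (fpfX_of_decX h h1) (fpfX_of_decX h h2) (fpfX_of_decX h h3)
      h4 h5 h6

/-- reduction to nontrivial `p'`-elements of the quotient -/
theorem fpf_of_fpfX [Finite Lg] {Y K : Subgroup Lg} [hKn : K.Normal] {p : ℕ} [hp : Fact p.Prime]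
    (hK : IsPGroup p K)
    (hX : ∀ x : Lg ⧸ K, x ≠ 1 → (orderOf x).Coprime p → FpfX Y K x)
    (t : Lg) (ht : ¬ ∃ k : ℕ, orderOf t = p ^ k) : Fpf Y K t := by
  have hn0 : orderOf t ≠ 0 := (orderOf_pos t).ne'
  obtain ⟨e, m, hm, hn⟩ := Nat.exists_eq_pow_mul_and_not_dvd hn0 p hp.out.ne_one
  have hm1 : m ≠ 1 := by
    rintro rfl
    exact ht ⟨e, by rw [hn, mul_one]⟩
  have hpe : p ^ e ≠ 0 := pow_ne_zero _ hp.out.ne_zero
  have ho : orderOf (t ^ (p ^ e)) = m := by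
    rw [orderOf_pow' t hpe, hn, Nat.gcd_eq_right (dvd_mul_right _ _),
      Nat.mul_div_cancel_left _ (Nat.pos_of_ne_zero hpe)]
  have hcop : m.Coprime p := ((Nat.Prime.coprime_iff_not_dvd hp.out).mpr hm).symm
  apply Fpf.of_pow (n := p ^ e)
  apply hX (QuotientGroup.mk' K (t ^ (p ^ e))) _ _ _ rfl
  · intro h1
    rw [QuotientGroup.mk'_apply, QuotientGroup.eq_one_iff] at h1
    obtain ⟨j, hj⟩ := hK ⟨_, h1⟩
    have hj' : (t ^ (p ^ e)) ^ (p ^ j) = 1 := by
      have := congrArg Subtype.val hj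
      simpa using this
    have hdvd : m ∣ p ^ j := by rw [← ho]; exact orderOf_dvd_of_pow_eq_one hj'
    have : m ∣ 1 := by
      have := Nat.Coprime.dvd_of_dvd_mul_left (hcop.pow_right j) (by simpa using hdvd : m ∣ p ^ j * 1)
      exact this
    exact hm1 (Nat.dvd_one.mp this)
  · have hdvd : orderOf (QuotientGroup.mk' K (t ^ (p ^ e))) ∣ m := by
      rw [← ho]; exact orderOf_map_dvd _ _
    exact Nat.Coprime.coprime_dvd_left hdvd hcop

end Cfsg.Agent.Lib.Helper26.FrakLFpf
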