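import Mathlib
import Cfsg.Agent.Lib.Helper26.FrakLFpfE
import Cfsg.Agent.Lib.Helper26.FrakLQuotA

/-!
# S2863: the case `|Yb| = 2` (dihedral quotient) (helper26)
-/

set_option autoImplicit false
set_option linter.unusedSectionVars false
set_option linter.style.haveILetI false

namespace Cfsg.Agent.Lib.Helper26.FrakLFpf

open Subgroup Cfsg.Agent.Lib.Helper26.LLem Cfsg.Agent.Lib.Helper26.FrakLQuot

/-- The case `|Y| = 2`: if `O_2(X) = 1` and `X = ⟨Y, Y^g⟩` for all `g ∉ N(Y)` then every
nontrivial element of odd order is a product of two conjugates of the involution of `Y`. -/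
theorem decX_of_card_two {X : Type*} [Group X] [Finite X] (Y : Subgroup X) (hY : Nat.card Y = 2)
    (hO : ∀ K : Subgroup X, K.Normal → IsPGroup 2 K → K = ⊥)
    (hgen : ∀ g : X, g ∉ normalizer (Y : Set X) → Y ⊔ Y.map (MulAut.conj g).toMonoidHom = ⊤)
    (x : X) (hx1 : x ≠ 1) (hxo : (orderOf x).Coprime 2) : DecX Y x := by
  classical
  -- the involution `t`
  obtain ⟨t', ht'1, ht'u⟩ := (Nat.card_eq_two_iff' (1 : Y)).mp hY
  set t : X := (t' : X) with htdef
  have htY : t ∈ Y := t'.2
  have ht1 : t ≠ 1 := fun h => ht'1 (Subtype.ext h)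
  have hYmem : ∀ y ∈ Y, y = 1 ∨ y = t := by
    intro y hy
    by_cases h1 : y = 1
    · exact Or.inl h1
    · right
      have := ht'u ⟨y, hy⟩ (fun h => h1 (congrArg Subtype.val h))
      exact congrArg Subtype.val this
  have htt : t * t = 1 := by
    rcases hYmem _ (Y.mul_mem htY htY) with h | h
    · exact h
    · exact absurd (mul_eq_left.mp h) ht1
  have htinv : t⁻¹ = t := inv_eq_of_mul_eq_one_left htt
  -- `N(Y) ≠ ⊤`
  have hN : ∃ g : X, g ∉ normalizer (Y : Set X) := by
    by_contra hcon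
    push Not at hcon
    have hYn : Y.Normal := by
      rw [← Subgroup.normalizer_eq_top_iff]
      exact eq_top_iff.mpr fun g _ => hcon g
    have hYp : IsPGroup 2 Y := IsPGroup.of_card (n := 1) (by rw [hY, pow_one])
    have := hO Y hYn hYp
    rw [this] at hY
    simp at hY
  obtain ⟨g, hg⟩ := hN
  obtain ⟨s, hsdef⟩ : ∃ s : X, s = g * t * g⁻¹ := ⟨_, rfl⟩
  have hss : s * s = 1 := by
    rw [hsdef]
    calc g * t * g⁻¹ * (g * t * g⁻¹) = g * (t * t) * g⁻¹ := by group
      _ = 1 := by rw [htt]; group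
  have hsinv : s⁻¹ = s := inv_eq_of_mul_eq_one_left hss
  have hsYg : s ∈ Y.map (MulAut.conj g).toMonoidHom := ⟨t, htY, hsdef.symm⟩
  have htop : ∀ H : Subgroup X, t ∈ H → s ∈ H → H = ⊤ := by
    intro H htH hsH
    rw [eq_top_iff, ← hgen g hg]
    apply sup_le
    · intro y hy
      rcases hYmem y hy with rfl | rfl
      · exact H.one_mem
      · exact htH
    · rintro _ ⟨y, hy, rfl⟩
      rcases hYmem y hy with h | h
      · rw [h, map_one]; exact H.one_mem
      · rw [h]
        change g * t * g⁻¹ ∈ H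
        rw [← hsdef]; exact hsH
  -- the rotation `u`
  obtain ⟨u, hudef⟩ : ∃ u : X, u = t * s := ⟨_, rfl⟩
  have hut : t * u * t⁻¹ = u⁻¹ := by
    rw [hudef, htinv, mul_inv_rev, htinv, hsinv, ← mul_assoc t t s, htt, one_mul]
  have hus : s * u * s⁻¹ = u⁻¹ := by
    rw [hudef, hsinv, mul_inv_rev, htinv, hsinv, mul_assoc, mul_assoc, hss, mul_one]
  have hsu : s = t * u := by
    rw [hudef, ← mul_assoc, htt, one_mul]
  have hCn : (zpowers u).Normal := by
    rw [← Subgroup.normalizer_eq_top_iff]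
    apply htop
    · apply Cfsg.Agent.Lib.Helper16.mem_normalizer_of_map_conj_le
      rintro _ ⟨x, hx, rfl⟩
      obtain ⟨i, rfl⟩ := mem_zpowers_iff.mp hx
      change t * u ^ i * t⁻¹ ∈ zpowers u
      rw [FrakLQuot.conj_zpow, hut]
      exact (zpowers u).zpow_mem ((zpowers u).inv_mem (mem_zpowers u)) i
    · apply Cfsg.Agent.Lib.Helper16.mem_normalizer_of_map_conj_le
      rintro _ ⟨x, hx, rfl⟩
      obtain ⟨i, rfl⟩ := mem_zpowers_iff.mp hx
      change s * u ^ i * s⁻¹ ∈ zpowers u
      rw [FrakLQuot.conj_zpow, hus]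
      exact (zpowers u).zpow_mem ((zpowers u).inv_mem (mem_zpowers u)) i
  have hform : ∀ x : X, ∃ i j : ℤ, x = u ^ i * t ^ j := by
    intro x
    have hx : x ∈ zpowers u ⊔ zpowers t := by
      have : zpowers u ⊔ zpowers t = ⊤ := by
        apply htop
        · exact mem_sup_right (mem_zpowers t)
        · rw [hsu]
          exact (zpowers u ⊔ zpowers t).mul_mem (mem_sup_right (mem_zpowers t))
            (mem_sup_left (mem_zpowers u))
      rw [this]; exact mem_top x
    obtain ⟨y, hy, z, hz, rfl⟩ := (mem_sup_of_normal_left (hs := hCn)).mp hx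
    obtain ⟨i, rfl⟩ := mem_zpowers_iff.mp hy
    obtain ⟨j, rfl⟩ := mem_zpowers_iff.mp hz
    exact ⟨i, j, rfl⟩
  -- `u` has odd order
  have hodd : ¬ 2 ∣ orderOf u := by
    rintro ⟨k, hk⟩
    have hpos : 0 < orderOf u := orderOf_pos u
    have hkpos : 0 < k := by omega
    set z : X := u ^ k with hzdef
    have hz1 : z ≠ 1 := pow_ne_one_of_lt_orderOf hkpos.ne' (by omega)
    have hzz : z * z = 1 := by
      rw [hzdef, ← pow_add, ← two_mul, ← hk, pow_orderOf_eq_one]
    have hzinv : z⁻¹ = z := inv_eq_of_mul_eq_one_left hzz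
    have hzt : t * z * t⁻¹ = z := by
      have := FrakLQuot.conj_zpow t u (k : ℤ)
      rw [zpow_natCast, hut, inv_zpow, zpow_natCast] at this
      rw [this, hzinv]
    have hzs : s * z * s⁻¹ = z := by
      have := FrakLQuot.conj_zpow s u (k : ℤ)
      rw [zpow_natCast, hus, inv_zpow, zpow_natCast] at this
      rw [this, hzinv]
    have hcent : centralizer ({z} : Set X) = ⊤ := by
      apply htop
      · rw [mem_centralizer_singleton_iff]
        calc t * z = t * z * t⁻¹ * t := by group
          _ = z * t := by rw [hzt]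
      · rw [mem_centralizer_singleton_iff]
        calc s * z = s * z * s⁻¹ * s := by group
          _ = z * s := by rw [hzs]
    have hKn : (zpowers z).Normal := by
      constructor
      intro n hn x
      obtain ⟨i, rfl⟩ := mem_zpowers_iff.mp hn
      have hx : x ∈ centralizer ({z} : Set X) := by rw [hcent]; exact mem_top x
      rw [mem_centralizer_singleton_iff] at hx
      rw [FrakLQuot.conj_zpow]
      have : x * z * x⁻¹ = z := by rw [hx]; group
      rw [this]
      exact (zpowers z).zpow_mem (mem_zpowers z) i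
    have hKp : IsPGroup 2 (zpowers z) := by
      apply IsPGroup.of_card (n := 1)
      rw [Nat.card_zpowers, pow_one]
      exact orderOf_eq_prime (by rw [pow_two]; exact hzz) hz1
    have := hO _ hKn hKp
    rw [zpowers_eq_bot] at this
    exact hz1 this
  -- an element `z` inverted by `t` with `z t ∈ N(Y)` squares to one
  have hinvN : ∀ z : X, t * z * t⁻¹ = z⁻¹ → z * t ∈ normalizer (Y : Set X) → z * z = 1 := by
    intro z hz hzn
    have h1 : (z * t) * t * (z * t)⁻¹ ∈ Y := (mem_normalizer_iff.mp hzn t).mp htY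
    have e1 : (z * t) * t * (z * t)⁻¹ = z * t * z⁻¹ := by
      calc (z * t) * t * (z * t)⁻¹ = z * (t * t) * t⁻¹ * z⁻¹ := by group
        _ = z * t * z⁻¹ := by rw [htt, htinv, mul_one]
    rw [e1] at h1
    rcases hYmem _ h1 with h | h
    · exfalso; apply ht1
      have : t = z⁻¹ * (z * t * z⁻¹) * z := by group
      rw [this, h]; group
    · -- `z t z⁻¹ = t`, so `t z t⁻¹ = z`, hence `z = z⁻¹`
      have h2 : t * z * t⁻¹ = z := by
        calc t * z * t⁻¹ = (z * t * z⁻¹)⁻¹⁻¹ * z * t⁻¹ := by rw [h, inv_inv]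
          _ = z * (t * z⁻¹ * z * t⁻¹) := by group
          _ = z := by group
      rw [hz] at h2
      have h3 : z * z = z * z⁻¹ := by rw [h2]
      rw [h3]; exact mul_inv_cancel z
  -- analysis of `x`
  obtain ⟨i, j, hxij⟩ := hform x
  have htj : t ^ j = 1 ∨ t ^ j = t := by
    have h2 : t ^ (2 : ℤ) = 1 := by
      rw [zpow_ofNat, pow_two]; exact htt
    have hj : j = j % 2 + 2 * (j / 2) := (Int.emod_add_mul_ediv j 2).symm
    have : t ^ j = t ^ (j % 2) := by
      conv_lhs => rw [hj]
      rw [zpow_add, zpow_mul, h2, one_zpow, mul_one]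
    rw [this]
    rcases Int.emod_two_eq_zero_or_one j with h | h
    · left; rw [h, zpow_zero]
    · right; rw [h, zpow_one]
  have hcopZ : IsCoprime (orderOf u : ℤ) 2 := by
    have h0 : Nat.Coprime (orderOf u) 2 :=
      ((Nat.Prime.coprime_iff_not_dvd Nat.prime_two).mpr hodd).symm
    exact_mod_cast Nat.isCoprime_iff_coprime.mpr h0
  have hsq1 : ∀ z : X, z * z = 1 → (orderOf z).Coprime 2 → z = 1 := by
    intro z hz hc
    have h1 : orderOf z ∣ 2 := orderOf_dvd_of_pow_eq_one (by rw [pow_two]; exact hz)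
    have h2 : orderOf z ∣ 1 := by
      have := Nat.Coprime.dvd_of_dvd_mul_left hc (by simpa using h1 : orderOf z ∣ 2 * 1)
      exact this
    exact orderOf_eq_one_iff.mp (Nat.dvd_one.mp h2)
  rcases htj with htj | htj
  · -- rotation
    rw [htj, mul_one] at hxij
    -- choose a square root
    obtain ⟨a, b, hab⟩ := hcopZ
    -- a * n + b * 2 = 1
    obtain ⟨r, hrdef⟩ : ∃ r : X, r = u ^ (b * i) := ⟨_, rfl⟩
    have hrr : r * r = x := by
      rw [hrdef, ← zpow_add, hxij]
      have e : b * i + b * i = i - (orderOf u : ℤ) * (i * a) := by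
        have : i = i * (a * (orderOf u : ℤ) + b * 2) := by rw [hab, mul_one]
        linarith
      rw [e, zpow_sub, zpow_mul, zpow_natCast, pow_orderOf_eq_one, one_zpow, inv_one, mul_one]
    have hrt : t * r * t⁻¹ = r⁻¹ := by
      rw [hrdef, FrakLQuot.conj_zpow, hut, inv_zpow]
    have hxt : t * x * t⁻¹ = x⁻¹ := by
      rw [← hrr]
      calc t * (r * r) * t⁻¹ = (t * r * t⁻¹) * (t * r * t⁻¹) := by group
        _ = (r * r)⁻¹ := by rw [hrt]; group
    have hxodd : ∀ z : X, z = x ∨ z = x⁻¹ → z * z ≠ 1 := by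
      intro z hz hzz
      rcases hz with rfl | rfl
      · exact hx1 (hsq1 _ hzz hxo)
      · apply hx1
        have : x⁻¹ = 1 := hsq1 _ hzz (by rwa [orderOf_inv])
        exact inv_eq_one.mp this
    refine ⟨r, 1, r * t * r⁻¹, t, cj_mem_self htY, ?_, ?_, ?_, ?_⟩
    · rw [cj_one]; exact htY
    · rw [← hrr]
      have : t * r⁻¹ = r * t := by
        calc t * r⁻¹ = (t * r * t⁻¹)⁻¹ * t := by group
          _ = r * t := by rw [hrt, inv_inv]
      calc r * r = r * (r * t) * t⁻¹ := by group
        _ = r * (t * r⁻¹) * t⁻¹ := by rw [this]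
        _ = r * t * r⁻¹ * t := by rw [htinv]; group
    · rw [cj_one]
      intro hn
      have e : r * t * r⁻¹ = x * t := by
        have : t * r⁻¹ = r * t := by
          calc t * r⁻¹ = (t * r * t⁻¹)⁻¹ * t := by group
            _ = r * t := by rw [hrt, inv_inv]
        calc r * t * r⁻¹ = r * (t * r⁻¹) := by group
          _ = r * (r * t) := by rw [this]
          _ = x * t := by rw [← hrr]; group
      rw [e] at hn
      exact hxodd x (Or.inl rfl) (hinvN x hxt hn)
    · rw [normalizer_cj, mem_cj_iff]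
      intro hn
      have e : r⁻¹ * t * r = x⁻¹ * t := by
        have : t * r = r⁻¹ * t := by
          calc t * r = (t * r * t⁻¹) * t := by group
            _ = r⁻¹ * t := by rw [hrt]
        calc r⁻¹ * t * r = r⁻¹ * (t * r) := by group
          _ = r⁻¹ * (r⁻¹ * t) := by rw [this]
          _ = x⁻¹ * t := by rw [← hrr]; group
      rw [e] at hn
      have hxt' : t * x⁻¹ * t⁻¹ = x⁻¹⁻¹ := by
        calc t * x⁻¹ * t⁻¹ = (t * x * t⁻¹)⁻¹ := by group
          _ = x⁻¹⁻¹ := by rw [hxt]
      exact hxodd x⁻¹ (Or.inr rfl) (hinvN x⁻¹ hxt' hn)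
  · -- reflection: `x² = 1`
    exfalso
    apply hx1
    apply hsq1 _ _ hxo
    rw [hxij, htj]
    have : t * u ^ i = (u ^ i)⁻¹ * t := by
      calc t * u ^ i = (t * u ^ i * t⁻¹) * t := by group
        _ = (u ^ i)⁻¹ * t := by rw [FrakLQuot.conj_zpow, hut, inv_zpow]
    calc u ^ i * t * (u ^ i * t) = u ^ i * (t * u ^ i) * t := by group
      _ = u ^ i * ((u ^ i)⁻¹ * t) * t := by rw [this]
      _ = t * t := by group
      _ = 1 := htt

end Cfsg.Agent.Lib.Helper26.FrakLFpf
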