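import Mathlib
import Cfsg.Agent.Lib.Helper26.FrakLQuotA
import Cfsg.Agent.Lib.Helper13.SL2Gen
import Cfsg.Agent.Lib.Helper13.SL2Redundant
import Cfsg.Agent.Lib.Helper13.NaturalSL2

/-!
# S2861, the `SL₂(q)` case (helper26)

A subgroup of `SL₂(F)` of order `|F|` (a Sylow `p`-subgroup) is the unique nontrivial subgroup of
exponent `p` of its normalizer that is normalised by the normalizer.
-/

set_option autoImplicit false
set_option linter.unusedSectionVars false
set_option linter.style.haveILetI false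

namespace Cfsg.Agent.Lib.Helper26.FrakLQuot

open Subgroup Matrix Cfsg.Agent.Lib.Helper13

variable {F : Type*} [Field F]

theorem upper_pow_SL (v : SpecialLinearGroup (Fin 2) F)
    (hv : (v : Matrix (Fin 2) (Fin 2) F) 1 0 = 0) (n : ℕ) :
    ((v ^ n : SpecialLinearGroup (Fin 2) F) : Matrix (Fin 2) (Fin 2) F) 1 0 = 0 ∧
      ((v ^ n : SpecialLinearGroup (Fin 2) F) : Matrix (Fin 2) (Fin 2) F) 0 0 =
        (v : Matrix (Fin 2) (Fin 2) F) 0 0 ^ n := by
  induction n with
  | zero => simp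
  | succ n ih =>
    rw [pow_succ, coe_mul_SL]
    constructor
    · rw [Matrix.mul_apply, Fin.sum_univ_two, ih.1, hv]; simp
    · rw [Matrix.mul_apply, Fin.sum_univ_two, ih.2, hv, pow_succ]; simp

theorem eq_tSL_of_upper_of_one (v : SpecialLinearGroup (Fin 2) F)
    (hv : (v : Matrix (Fin 2) (Fin 2) F) 1 0 = 0) (ha : (v : Matrix (Fin 2) (Fin 2) F) 0 0 = 1) :
    v = tSL ((v : Matrix (Fin 2) (Fin 2) F) 0 1) := by
  have hd := v.2
  rw [Matrix.det_fin_two, hv, mul_zero, sub_zero, ha, one_mul] at hd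
  apply Subtype.ext
  rw [tSL_coe]
  ext i j
  fin_cases i <;> fin_cases j <;> simp [hv, ha, hd]

/-- every element of a finite field is a difference of two squares -/
theorem exists_sq_sub_sq [Finite F] (c : F) : ∃ s₁ s₂ : F, c = s₁ ^ 2 - s₂ ^ 2 := by
  by_cases h2 : (2 : F) = 0
  · haveI : CharP F 2 := by
      apply CharTwo.of_one_ne_zero_of_two_eq_zero one_ne_zero h2
    haveI := Fintype.ofFinite F
    obtain ⟨s, hs⟩ := FiniteField.isSquare_of_char_two (ringChar.eq F 2) c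
    exact ⟨s, 0, by rw [hs]; ring⟩
  · refine ⟨(c + 1) / 2, (c - 1) / 2, ?_⟩
    field_simp
    ring

theorem uniq_unipSL [Fintype F] (p : ℕ) [Fact p.Prime] [CharP F p] : Uniq p (unipSL F) := by
  have hN : ∀ g ∈ normalizer ((unipSL F : Subgroup (SpecialLinearGroup (Fin 2) F)) :
      Set (SpecialLinearGroup (Fin 2) F)), (g : Matrix (Fin 2) (Fin 2) F) 1 0 = 0 := by
    intro g hg
    have h1 : g * tSL 1 * g⁻¹ ∈ unipSL F := (mem_normalizer_iff.mp hg _).mp (tSL_mem_unipSL 1)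
    exact upper_of_conj_tSL_mem g 1 one_ne_zero h1
  intro V hVN hNV hexp hne
  have hVU : ∀ v ∈ V, ∃ b : F, v = tSL b := by
    intro v hv
    have h10 := hN v (hVN hv)
    have hp := hexp v hv
    have h00 := (upper_pow_SL v h10 p).2
    rw [hp] at h00
    have ha : (v : Matrix (Fin 2) (Fin 2) F) 0 0 = 1 := by
      have h1 : (v : Matrix (Fin 2) (Fin 2) F) 0 0 ^ p = 1 := by
        rw [← h00]; simp
      apply frobenius_inj F p
      rw [frobenius_def, frobenius_def, h1, one_pow]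
    exact ⟨_, eq_tSL_of_upper_of_one v h10 ha⟩
  obtain ⟨⟨v₀, hv₀⟩, hv₀1⟩ := (Subgroup.ne_bot_iff_exists_ne_one).mp hne
  have hv₀1' : v₀ ≠ 1 := fun h => hv₀1 (Subtype.ext h)
  obtain ⟨t₀, rfl⟩ := hVU v₀ hv₀
  have ht₀ : t₀ ≠ 0 := by
    rintro rfl
    exact hv₀1' tSL_zero
  have hsq : ∀ s : F, tSL (s ^ 2 * t₀) ∈ V := by
    intro s
    by_cases hs : s = 0
    · rw [hs]; simp only [ne_eq, OfNat.ofNat_ne_zero, not_false_eq_true, zero_pow, zero_mul]
      rw [tSL_zero]; exact V.one_mem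
    · have h1 : dSL s hs ∈ normalizer ((V : Subgroup (SpecialLinearGroup (Fin 2) F)) :
          Set (SpecialLinearGroup (Fin 2) F)) := by
        apply hNV
        apply upper_mem_normalizer_unipSL
        simp [dSL]
      have h2 := (mem_normalizer_iff.mp h1 _).mp hv₀
      rw [dSL_mul_tSL, mul_assoc, mul_inv_cancel, mul_one] at h2
      exact h2
  have hall : ∀ c : F, tSL (c * t₀) ∈ V := by
    intro c
    obtain ⟨s₁, s₂, rfl⟩ := exists_sq_sub_sq c
    have : tSL ((s₁ ^ 2 - s₂ ^ 2) * t₀) = tSL (s₁ ^ 2 * t₀) * (tSL (s₂ ^ 2 * t₀))⁻¹ := by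
      rw [eq_mul_inv_iff_mul_eq, tSL_mul]; congr 1; ring
    rw [this]
    exact V.mul_mem (hsq s₁) (V.inv_mem (hsq s₂))
  apply le_antisymm
  · intro v hv
    obtain ⟨b, rfl⟩ := hVU v hv
    exact tSL_mem_unipSL b
  · intro v hv
    obtain ⟨b, rfl⟩ := mem_unipSL.mp hv
    have := hall (b / t₀)
    rwa [div_mul_cancel₀ _ ht₀] at this

theorem uniq_SL2 [Fintype F] (p : ℕ) [Fact p.Prime]
    (Y : Subgroup (SpecialLinearGroup (Fin 2) F)) (hYp : IsPGroup p Y)
    (hcard : Nat.card Y = Fintype.card F) : Uniq p Y := by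
  obtain ⟨n, hn⟩ := IsPGroup.iff_card.mp hYp
  haveI : CharP F p := NatSL2.charP_of_card n (by rw [← hcard, hn])
  obtain ⟨P, hYP⟩ := hYp.exists_le_sylow
  obtain ⟨x, hx⟩ := MulAction.exists_smul_eq (SpecialLinearGroup (Fin 2) F) P (sylowUnipSL (F := F) p)
  have h1 : Y.map (MulAut.conj x).toMonoidHom ≤ unipSL F := by
    rw [← coe_sylowUnipSL p, ← hx, Sylow.coe_subgroup_smul]
    rintro _ ⟨y, hy, rfl⟩
    rw [Subgroup.mem_pointwise_smul_iff_inv_smul_mem]
    have : (MulAut.conj x)⁻¹ • (MulAut.conj x).toMonoidHom y = y := by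
      simp [MulAut.smul_def, MulAut.conj_apply, ← map_inv]
      group
    rw [this]
    exact hYP hy
  have h2 : Y.map (MulAut.conj x).toMonoidHom = unipSL F := by
    apply Subgroup.eq_of_le_of_card_ge h1
    rw [Subgroup.card_map_of_injective (MulAut.conj x).injective, hcard]
    change Nat.card (tSLHom (K := F)).range ≤ _
    rw [card_range_tSLHom, Nat.card_eq_fintype_card]
  apply Uniq.of_map (MulAut.conj x)
  rw [h2]
  exact uniq_unipSL p

end Cfsg.Agent.Lib.Helper26.FrakLQuot
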