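import Mathlib
import Cfsg.Agent.Lib.Helper26.FrakLFpfE
import Cfsg.Agent.Lib.Helper26.FrakLQuotB
import Cfsg.Agent.Lib.Helper13.PSL2

/-!
# S2863: the case `SL₂(q)` (helper26)

Every nontrivial `p'`-element of `SL₂(F)` (`char F = p`) is a product of two unipotent elements
from two different Sylow `p`-subgroups, or (`x = -1`, `p` odd) the common square of a quaternion
triple of such products.
-/

set_option autoImplicit false
set_option linter.unusedSectionVars false
set_option linter.style.haveILetI false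

namespace Cfsg.Agent.Lib.Helper26.FrakLFpf

open Subgroup Matrix Cfsg.Agent.Lib.Helper13 Cfsg.Agent.Lib.Helper26.LLem
  Cfsg.Agent.Lib.Helper26.FrakLQuot

variable {F : Type*} [Field F]

theorem lower_of_mem_normalizer_unipSL (g : SpecialLinearGroup (Fin 2) F)
    (hg : g ∈ normalizer ((unipSL F : Subgroup (SpecialLinearGroup (Fin 2) F)) :
      Set (SpecialLinearGroup (Fin 2) F))) : (g : Matrix (Fin 2) (Fin 2) F) 1 0 = 0 := by
  have h1 : g * tSL 1 * g⁻¹ ∈ unipSL F := (mem_normalizer_iff.mp hg _).mp (tSL_mem_unipSL 1)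
  exact upper_of_conj_tSL_mem g 1 one_ne_zero h1

theorem conj_tSL_apply_one_zero (B : SpecialLinearGroup (Fin 2) F) (t : F) :
    ((B * tSL t * B⁻¹ : SpecialLinearGroup (Fin 2) F) : Matrix (Fin 2) (Fin 2) F) 1 0 =
      - t * (B : Matrix (Fin 2) (Fin 2) F) 1 0 ^ 2 := by
  rw [coe_mul_SL, coe_mul_SL, Matrix.SpecialLinearGroup.coe_inv, Matrix.adjugate_fin_two, tSL_coe]
  simp [Matrix.mul_apply, Fin.sum_univ_two]
  ring

theorem inv_conj_tSL_apply_one_zero (B : SpecialLinearGroup (Fin 2) F) (t : F) :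
    ((B⁻¹ * tSL t * B : SpecialLinearGroup (Fin 2) F) : Matrix (Fin 2) (Fin 2) F) 1 0 =
      - t * (B : Matrix (Fin 2) (Fin 2) F) 1 0 ^ 2 := by
  rw [coe_mul_SL, coe_mul_SL, Matrix.SpecialLinearGroup.coe_inv, Matrix.adjugate_fin_two, tSL_coe]
  simp [Matrix.mul_apply, Fin.sum_univ_two]
  ring

theorem trace_conj_SL (k x : SpecialLinearGroup (Fin 2) F) :
    ((k * x * k⁻¹ : SpecialLinearGroup (Fin 2) F) : Matrix (Fin 2) (Fin 2) F).trace =
      (x : Matrix (Fin 2) (Fin 2) F).trace := by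
  rw [coe_mul_SL, Matrix.trace_mul_comm, ← coe_mul_SL]
  have e : k⁻¹ * (k * x) = x := by group
  rw [e]

/-- lower-left entry nonzero and trace `≠ 2`: product of two unipotents -/
theorem decX_of_lower_ne_zero (m : SpecialLinearGroup (Fin 2) F)
    (hc : (m : Matrix (Fin 2) (Fin 2) F) 1 0 ≠ 0)
    (htr : (m : Matrix (Fin 2) (Fin 2) F).trace ≠ 2) : DecX (unipSL F) m := by
  obtain ⟨a, ha⟩ : ∃ a, a = (m : Matrix (Fin 2) (Fin 2) F) 0 0 := ⟨_, rfl⟩
  obtain ⟨d, hd⟩ : ∃ d, d = (m : Matrix (Fin 2) (Fin 2) F) 1 1 := ⟨_, rfl⟩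
  obtain ⟨c, hcdef⟩ : ∃ c, c = (m : Matrix (Fin 2) (Fin 2) F) 1 0 := ⟨_, rfl⟩
  rw [← hcdef] at hc
  rw [Matrix.trace_fin_two, ← ha, ← hd] at htr
  obtain ⟨t, htdef⟩ : ∃ t, t = (a + d - 2) / c := ⟨_, rfl⟩
  have htc : t * c = a + d - 2 := by rw [htdef]; field_simp
  have ht0 : t ≠ 0 := by
    intro h0
    rw [h0, zero_mul] at htc
    apply htr
    linear_combination -htc
  obtain ⟨u₂, hu₂⟩ : ∃ u₂, u₂ = tSL (-t) * m := ⟨_, rfl⟩
  have hm : m = tSL t * u₂ := by
    rw [hu₂, ← mul_assoc, tSL_mul, add_neg_cancel, tSL_zero, one_mul]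
  have hu₂c : (u₂ : Matrix (Fin 2) (Fin 2) F) = !![1, -t; 0, 1] * (m : Matrix (Fin 2) (Fin 2) F) := by
    rw [hu₂, coe_mul_SL, tSL_coe]
  have h10 : (u₂ : Matrix (Fin 2) (Fin 2) F) 1 0 = c := by
    rw [hu₂c, hcdef]; simp [Matrix.mul_apply, Fin.sum_univ_two]
  have h00 : (u₂ : Matrix (Fin 2) (Fin 2) F) 0 0 = a - t * c := by
    rw [hu₂c, hcdef, ha]; simp [Matrix.mul_apply, Fin.sum_univ_two]; ring
  have h11 : (u₂ : Matrix (Fin 2) (Fin 2) F) 1 1 = d := by
    rw [hu₂c, hd]; simp [Matrix.mul_apply, Fin.sum_univ_two]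
  have hsq : ((u₂ : Matrix (Fin 2) (Fin 2) F) - 1) ^ 2 = 0 := by
    have hch := cayley_hamilton_two (u₂ : Matrix (Fin 2) (Fin 2) F) u₂.2
    rw [h00, h11] at hch
    have e2 : a - t * c + d = 2 := by rw [htc]; ring
    rw [e2] at hch
    rw [pow_two, sub_mul, mul_sub, mul_sub, hch]
    simp only [Matrix.mul_one, Matrix.one_mul]
    module
  have hne : u₂ ≠ 1 := by
    intro h1
    rw [h1] at h10
    simp at h10
    exact hc h10.symm
  obtain ⟨B, t', ht', hB⟩ := exists_conj_tSL u₂ hsq hne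
  have hu₂B : u₂ = B * tSL t' * B⁻¹ := by rw [← hB]; group
  have hγ : (B : Matrix (Fin 2) (Fin 2) F) 1 0 ≠ 0 := by
    intro h0
    have := conj_tSL_apply_one_zero B t'
    rw [← hu₂B, h10, h0] at this
    apply hc
    rw [this]; ring
  refine ⟨1, B, tSL t, u₂, ?_, ?_, hm, ?_, ?_⟩
  · rw [cj_one]; exact tSL_mem_unipSL t
  · rw [mem_cj_iff, hu₂B]
    have : B⁻¹ * (B * tSL t' * B⁻¹) * B = tSL t' := by group
    rw [this]; exact tSL_mem_unipSL t'
  · rw [normalizer_cj, mem_cj_iff]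
    intro hn
    have h1 := lower_of_mem_normalizer_unipSL _ hn
    rw [inv_conj_tSL_apply_one_zero] at h1
    rcases mul_eq_zero.mp h1 with h | h
    · exact ht0 (neg_eq_zero.mp h)
    · exact hγ (pow_eq_zero_iff (two_ne_zero) |>.mp h)
  · rw [cj_one]
    intro hn
    have h1 := lower_of_mem_normalizer_unipSL _ hn
    rw [h10] at h1
    exact hc h1

theorem mul_mul_apply_one_zero (A X B : Matrix (Fin 2) (Fin 2) F) :
    (A * X * B) 1 0 = (A 1 0 * X 0 0 + A 1 1 * X 1 0) * B 0 0 +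
      (A 1 0 * X 0 1 + A 1 1 * X 1 1) * B 1 0 := by
  simp [Matrix.mul_apply, Fin.sum_univ_two]

/-- the Weyl element -/
def wSL (F : Type*) [Field F] : SpecialLinearGroup (Fin 2) F :=
  ⟨!![0, 1; -1, 0], by simp [Matrix.det_fin_two]⟩

/-- non-scalar elements of trace `≠ 2` -/
theorem decX_of_nonscalar (x : SpecialLinearGroup (Fin 2) F)
    (hns : ¬ ((x : Matrix (Fin 2) (Fin 2) F) 0 1 = 0 ∧ (x : Matrix (Fin 2) (Fin 2) F) 1 0 = 0 ∧
      (x : Matrix (Fin 2) (Fin 2) F) 0 0 = (x : Matrix (Fin 2) (Fin 2) F) 1 1))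
    (htr : (x : Matrix (Fin 2) (Fin 2) F).trace ≠ 2) : DecX (unipSL F) x := by
  have key : ∀ k : SpecialLinearGroup (Fin 2) F,
      ((k * x * k⁻¹ : SpecialLinearGroup (Fin 2) F) : Matrix (Fin 2) (Fin 2) F) 1 0 ≠ 0 →
      DecX (unipSL F) x := by
    intro k hk
    have h1 := decX_of_lower_ne_zero (k * x * k⁻¹) hk (by rw [trace_conj_SL]; exact htr)
    have h2 := h1.conj k⁻¹
    have e : k⁻¹ * (k * x * k⁻¹) * k⁻¹⁻¹ = x := by group
    rwa [e] at h2
  by_cases hc : (x : Matrix (Fin 2) (Fin 2) F) 1 0 = 0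
  · by_cases hb : (x : Matrix (Fin 2) (Fin 2) F) 0 1 = 0
    · have had : (x : Matrix (Fin 2) (Fin 2) F) 0 0 ≠ (x : Matrix (Fin 2) (Fin 2) F) 1 1 :=
        fun h => hns ⟨hb, hc, h⟩
      apply key (lSL 1)
      rw [coe_mul_SL, coe_mul_SL, Matrix.SpecialLinearGroup.coe_inv, Matrix.adjugate_fin_two,
        lSL_coe, mul_mul_apply_one_zero]
      simp [hb, hc]
      intro h
      apply had
      linear_combination h
    · apply key (wSL F)
      rw [coe_mul_SL, coe_mul_SL, Matrix.SpecialLinearGroup.coe_inv, Matrix.adjugate_fin_two,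
        mul_mul_apply_one_zero]
      simp [wSL, hb]
  · apply key 1
    rw [one_mul, inv_one, mul_one]
    exact hc

theorem trace_ne_two_of_coprime (p : ℕ) [Fact p.Prime] [CharP F p]
    (x : SpecialLinearGroup (Fin 2) F) (hx1 : x ≠ 1) (hcop : (orderOf x).Coprime p) :
    (x : Matrix (Fin 2) (Fin 2) F).trace ≠ 2 := by
  intro h
  have h1 := NatSL2.pow_char_eq_one_of_trace p x h
  have h2 : orderOf x ∣ p := orderOf_dvd_of_pow_eq_one h1
  have h3 : orderOf x ∣ 1 := by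
    have := Nat.Coprime.dvd_of_dvd_mul_left hcop (by simpa using h2 : orderOf x ∣ p * 1)
    exact this
  exact hx1 (orderOf_eq_one_iff.mp (Nat.dvd_one.mp h3))

/-- the main statement for the standard Sylow subgroup -/
theorem decQ_unipSL (p : ℕ) [Fact p.Prime] [CharP F p] (x : SpecialLinearGroup (Fin 2) F)
    (hx1 : x ≠ 1) (hcop : (orderOf x).Coprime p) : DecQ p (unipSL F) x := by
  have htr := trace_ne_two_of_coprime p x hx1 hcop
  by_cases hns : ((x : Matrix (Fin 2) (Fin 2) F) 0 1 = 0 ∧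
      (x : Matrix (Fin 2) (Fin 2) F) 1 0 = 0 ∧
      (x : Matrix (Fin 2) (Fin 2) F) 0 0 = (x : Matrix (Fin 2) (Fin 2) F) 1 1)
  swap
  · exact Or.inl (decX_of_nonscalar x hns htr)
  obtain ⟨hb, hc, had⟩ := hns
  have hdet := x.2
  rw [Matrix.det_fin_two, hb, zero_mul, sub_zero, ← had] at hdet
  have ha : (x : Matrix (Fin 2) (Fin 2) F) 0 0 = -1 := by
    have h1 : ((x : Matrix (Fin 2) (Fin 2) F) 0 0 - 1) * ((x : Matrix (Fin 2) (Fin 2) F) 0 0 + 1) = 0 := by
      linear_combination hdet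
    rcases mul_eq_zero.mp h1 with h | h
    · exfalso; apply hx1
      have h' := sub_eq_zero.mp h
      apply Subtype.ext
      ext i j
      fin_cases i <;> fin_cases j <;> simp [hb, hc, ← had, h']
    · linear_combination h
  have h2 : (2 : F) ≠ 0 := by
    intro h2
    apply htr
    rw [Matrix.trace_fin_two, ← had, ha]
    linear_combination (-2) * h2
  have hp2 : p ≠ 2 := by
    rintro rfl
    apply h2
    exact CharTwo.two_eq_zero
  haveI : NeZero p := ⟨(Fact.out : p.Prime).ne_zero⟩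
  obtain ⟨α', β', hαβ⟩ := CharP.sq_add_sq F p (-1)
  obtain ⟨α, hα⟩ : ∃ α : F, α = (α' : F) := ⟨_, rfl⟩
  obtain ⟨β, hβ⟩ : ∃ β : F, β = (β' : F) := ⟨_, rfl⟩
  rw [← hα, ← hβ] at hαβ
  have hαβ' : α ^ 2 + β ^ 2 = -1 := by simpa using hαβ
  obtain ⟨w₂, hw₂⟩ : ∃ w₂ : SpecialLinearGroup (Fin 2) F,
      (w₂ : Matrix (Fin 2) (Fin 2) F) = !![α, β; β, -α] :=
    ⟨⟨!![α, β; β, -α], by rw [Matrix.det_fin_two_of]; linear_combination -hαβ'⟩, rfl⟩
  have hw₁ : ((wSL F : SpecialLinearGroup (Fin 2) F) : Matrix (Fin 2) (Fin 2) F) =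
      !![0, 1; -1, 0] := rfl
  have hxm : (x : Matrix (Fin 2) (Fin 2) F) = !![-1, 0; 0, -1] := by
    ext i j
    fin_cases i <;> fin_cases j <;> simp [hb, hc, ha, ← had]
  have hw₁₂ : ((wSL F * w₂ : SpecialLinearGroup (Fin 2) F) : Matrix (Fin 2) (Fin 2) F) =
      !![β, -α; -α, -β] := by
    rw [coe_mul_SL, hw₁, hw₂]
    ext i j
    fin_cases i <;> fin_cases j <;> simp [Matrix.mul_apply, Fin.sum_univ_two]
  have h02 : (0 : F) ≠ 2 := fun h => h2 h.symm
  right
  refine ⟨hp2, wSL F, w₂, ?_, ?_, ?_, ?_, ?_, ?_⟩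
  · apply decX_of_nonscalar
    · rw [hw₁]; simp
    · rw [Matrix.trace_fin_two, hw₁]; simpa using h02
  · apply decX_of_nonscalar
    · rw [hw₂]
      simp only [Matrix.of_apply, Matrix.cons_val', Matrix.cons_val_zero, Matrix.cons_val_one,
        Matrix.cons_val_fin_one]
      rintro ⟨h1, -, h3⟩
      have hα0 : α = 0 := by
        have : 2 * α = 0 := by linear_combination h3
        exact (mul_eq_zero.mp this).resolve_left h2
      rw [h1, hα0] at hαβ'
      simp at hαβ'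
    · rw [Matrix.trace_fin_two, hw₂]; simpa using h02
  · apply decX_of_nonscalar
    · rw [hw₁₂]
      simp only [Matrix.of_apply, Matrix.cons_val', Matrix.cons_val_zero, Matrix.cons_val_one,
        Matrix.cons_val_fin_one]
      rintro ⟨h1, -, h3⟩
      have hα0 : α = 0 := neg_eq_zero.mp h1
      have hβ0 : β = 0 := by
        have : 2 * β = 0 := by linear_combination h3
        exact (mul_eq_zero.mp this).resolve_left h2
      rw [hβ0, hα0] at hαβ'
      simp at hαβ'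
    · rw [Matrix.trace_fin_two, hw₁₂]; simpa using h02
  · apply Subtype.ext
    rw [coe_mul_SL, hw₁, hxm]
    ext i j
    fin_cases i <;> fin_cases j <;> simp [Matrix.mul_apply, Fin.sum_univ_two]
  · apply Subtype.ext
    rw [coe_mul_SL, hw₂, hxm]
    ext i j
    fin_cases i <;> fin_cases j <;> simp [Matrix.mul_apply, Fin.sum_univ_two]
    · linear_combination hαβ'
    · ring
    · ring
    · linear_combination hαβ'
  · apply Subtype.ext
    rw [coe_mul_SL, hw₁₂, hxm]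
    ext i j
    fin_cases i <;> fin_cases j <;> simp [Matrix.mul_apply, Fin.sum_univ_two]
    · linear_combination hαβ'
    · ring
    · ring
    · linear_combination hαβ'

/-- transport to an arbitrary `p`-subgroup of order `|F|` -/
theorem decQ_SL2 [Fintype F] (p : ℕ) [Fact p.Prime]
    (Y : Subgroup (SpecialLinearGroup (Fin 2) F)) (hYp : IsPGroup p Y)
    (hcard : Nat.card Y = Fintype.card F) (x : SpecialLinearGroup (Fin 2) F)
    (hx1 : x ≠ 1) (hcop : (orderOf x).Coprime p) : DecQ p Y x := by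
  obtain ⟨n, hn⟩ := IsPGroup.iff_card.mp hYp
  haveI : CharP F p := NatSL2.charP_of_card n (by rw [← hcard, hn])
  obtain ⟨P, hYP⟩ := hYp.exists_le_sylow
  obtain ⟨x₀, hx₀⟩ := MulAction.exists_smul_eq (SpecialLinearGroup (Fin 2) F) P
    (sylowUnipSL (F := F) p)
  have h1 : Y.map (MulAut.conj x₀).toMonoidHom ≤ unipSL F := by
    rw [← coe_sylowUnipSL p, ← hx₀, Sylow.coe_subgroup_smul]
    rintro _ ⟨y, hy, rfl⟩
    rw [Subgroup.mem_pointwise_smul_iff_inv_smul_mem]
    have : (MulAut.conj x₀)⁻¹ • (MulAut.conj x₀).toMonoidHom y = y := by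
      simp [MulAut.smul_def, MulAut.conj_apply, ← map_inv]
      group
    rw [this]
    exact hYP hy
  have h2 : LLem.cj x₀ Y = unipSL F := by
    apply Subgroup.eq_of_le_of_card_ge h1
    rw [Subgroup.card_map_of_injective (MulAut.conj x₀).injective, hcard]
    change Nat.card (tSLHom (K := F)).range ≤ _
    rw [card_range_tSLHom, Nat.card_eq_fintype_card]
  apply DecQ.of_cj x₀
  rw [h2]
  exact decQ_unipSL p x hx1 hcop

end Cfsg.Agent.Lib.Helper26.FrakLFpf
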