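import Mathlib
import Cfsg.Agent.Lib.Helper26.FrakLQuotA
import Cfsg.Agent.Lib.Helper15.SuzukiBorel
import Cfsg.Agent.Lib.Helper15.SuzukiElements
import Cfsg.Agent.Lib.Helper15.SuzukiLie

/-!
# S2861, the Suzuki case (helper26)

In `Sz(q)`, `q = 2^(2m+1)`, `m ≥ 1`, a subgroup of exponent `2` and order `q` is the centre of a Sylow
`2`-subgroup, and it is the unique nontrivial subgroup of exponent `2` of its normalizer that is
normalised by the normalizer.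
-/

set_option autoImplicit false
set_option linter.unusedSectionVars false
set_option linter.style.haveILetI false

namespace Cfsg.Agent.Lib.Helper26.FrakLQuot

open Subgroup Matrix
open Cfsg.Agent.Lib.Helper15.SuzukiAlg Cfsg.Agent.Lib.Helper15.SuzukiOvoid
  Cfsg.Agent.Lib.Helper15.SuzukiForm Cfsg.Agent.Lib.Helper15.SuzukiMat
  Cfsg.Agent.Lib.Helper15.SuzukiGroup Cfsg.Agent.Lib.Helper15.SuzukiOrder
  Cfsg.Agent.Lib.Helper15.SuzukiSylow Cfsg.Agent.Lib.Helper15.SuzukiZassenhaus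
  Cfsg.Agent.Lib.Helper15.SuzukiBorel Cfsg.Agent.Lib.Helper15.SuzukiElements
open scoped Pointwise

variable {F : Type*} [Field F] [Fintype F] {m : ℕ} (hF : Fintype.card F = 2 ^ (2 * m + 1))

/-- the centre of the standard Sylow `2`-subgroup of the Suzuki group -/
def ZSz : Subgroup (Cfsg.Sz F m) where
  carrier := {g | ∃ b : F, g = Ts hF 0 b}
  one_mem' := ⟨0, (Ts_one hF).symm⟩
  mul_mem' := by
    rintro _ _ ⟨b, rfl⟩ ⟨d, rfl⟩
    refine ⟨b + d, ?_⟩
    rw [Ts_mul]; simp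
  inv_mem' := by
    rintro _ ⟨b, rfl⟩
    refine ⟨b, ?_⟩
    rw [Ts_inv]; simp

theorem mem_ZSz (g : Cfsg.Sz F m) : g ∈ ZSz hF ↔ ∃ b : F, g = Ts hF 0 b := Iff.rfl

theorem card_ZSz_le : Nat.card (ZSz hF) ≤ Fintype.card F := by
  rw [← Nat.card_eq_fintype_card]
  apply Nat.card_le_card_of_surjective (fun b : F => (⟨Ts hF 0 b, ⟨b, rfl⟩⟩ : ZSz hF))
  rintro ⟨_, b, rfl⟩
  exact ⟨b, rfl⟩

theorem Hs_mul_Hs (μ ν : Fˣ) : Hs hF μ * Hs hF ν = Hs hF (μ * ν) :=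
  Subtype.ext (H_mul _ m μ ν)

theorem Hs_one' : Hs hF (1 : Fˣ) = 1 := Subtype.ext (H_one _ m)

theorem Ts_sq_eq_one {a b : F} (h : Ts hF a b * Ts hF a b = 1) : a = 0 := by
  have h2 := two_eq_zero hF
  rw [Ts_mul, ← Ts_one hF] at h
  have h1 := (Ts_inj hF h).2
  rw [add_self h2 b, zero_add] at h1
  rcases mul_eq_zero.mp h1 with h3 | h3
  · exact (map_eq_zero _).mp h3
  · exact h3

/-- an element of the Borel subgroup with square one is a central translation -/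
theorem borel_sq_eq_one {a b : F} {μ : Fˣ}
    (h : (Ts hF a b * Hs hF μ) * (Ts hF a b * Hs hF μ) = 1) : a = 0 ∧ μ = 1 := by
  have h2 := two_eq_zero hF
  have h0 := h
  have e : (Ts hF a b * Hs hF μ) * (Ts hF a b * Hs hF μ) =
      Ts hF a b * (Hs hF μ * Ts hF a b) * Hs hF μ := by group
  rw [e, Hs_mul_Ts, ← mul_assoc, Ts_mul, mul_assoc, Hs_mul_Hs] at h
  have h' : Ts hF (a + sig h2 m (μ : F) * a)
      (b + (μ : F) ^ 2 * sig h2 m (μ : F) * b + sig h2 m a * (sig h2 m (μ : F) * a)) * Hs hF (μ * μ) =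
      Ts hF 0 0 * Hs hF 1 := by
    rw [h, Ts_one, Hs_one', one_mul]
  have h3 := TH_unique hF (congrArg Subtype.val h')
  have hμ : μ = 1 := by
    have h4 : ((μ : F)) ^ 2 = 1 ^ 2 := by
      have := congrArg (fun u : Fˣ => (u : F)) h3.2.2
      simp only [Units.val_mul, Units.val_one] at this
      rw [pow_two, this, one_pow]
    exact Units.ext (sq_inj h2 h4)
  rw [hμ, Hs_one', mul_one] at h0
  exact ⟨Ts_sq_eq_one hF h0, hμ⟩

theorem Hs_conj_Ts_zero (μ : Fˣ) (b : F) :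
    Hs hF μ * Ts hF 0 b * (Hs hF μ)⁻¹ =
      Ts hF 0 ((μ : F) ^ 2 * sig (two_eq_zero hF) m (μ : F) * b) := by
  rw [Hs_mul_Ts, mul_zero, mul_inv_cancel_right]

theorem Hs_mem_normalizer_ZSz (μ : Fˣ) :
    Hs hF μ ∈ normalizer ((ZSz hF : Subgroup (Cfsg.Sz F m)) : Set (Cfsg.Sz F m)) := by
  apply Cfsg.Agent.Lib.Helper16.mem_normalizer_of_map_conj_le
  rintro _ ⟨_, ⟨b, rfl⟩, rfl⟩
  change Hs hF μ * Ts hF 0 b * (Hs hF μ)⁻¹ ∈ ZSz hF
  rw [Hs_conj_Ts_zero]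
  exact ⟨_, rfl⟩

/-- the normalizer of `Z` fixes the point at infinity -/
theorem normalizer_ZSz_form (hm : 1 ≤ m) {g : Cfsg.Sz F m}
    (hg : g ∈ normalizer ((ZSz hF : Subgroup (Cfsg.Sz F m)) : Set (Cfsg.Sz F m))) :
    ∃ (a b : F) (μ : Fˣ), g = Ts hF a b * Hs hF μ := by
  apply fix_inf hF hm
  have h1 : g * Ts hF 0 1 * g⁻¹ ∈ ZSz hF := (mem_normalizer_iff.mp hg _).mp ⟨1, rfl⟩
  obtain ⟨b', hb'⟩ := h1
  have hb'0 : ¬ ((0 : F) = 0 ∧ b' = 0) := by
    rintro ⟨-, rfl⟩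
    rw [Ts_one] at hb'
    have : Ts hF 0 1 = 1 := by
      have : Ts hF 0 1 = g⁻¹ * (g * Ts hF 0 1 * g⁻¹) * g := by group
      rw [this, hb']; group
    rw [← Ts_one hF] at this
    exact one_ne_zero (Ts_inj hF this).2
  apply Ts_fix_only hF hb'0
  rw [← hb', mul_smul, mul_smul, inv_smul_smul, Ts_inf]

/-- the torus character `μ ↦ μ² σ(μ)` is onto -/
theorem exists_torus_char (c : F) (hc : c ≠ 0) :
    ∃ μ : Fˣ, (μ : F) ^ 2 * sig (two_eq_zero hF) m (μ : F) = c := by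
  have h2 := two_eq_zero hF
  have hinj : Function.Injective (fun x : F => x ^ 2 * sig h2 m x) := by
    intro x y hxy
    simp only at hxy
    by_cases hy : y = 0
    · subst hy
      simp only [ne_eq, OfNat.ofNat_ne_zero, not_false_eq_true, zero_pow, map_zero, mul_zero,
        mul_eq_zero, pow_eq_zero_iff, map_eq_zero, or_self] at hxy
      exact hxy
    · have hsy : sig h2 m y ≠ 0 := fun h => hy ((map_eq_zero _).mp h)
      have h1 : (x / y) ^ 2 * sig h2 m (x / y) = 1 := by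
        rw [map_div₀, div_pow]
        field_simp
        exact hxy
      have := char_two_inj hF h1
      field_simp at this
      exact this
  obtain ⟨x, hx⟩ := (Finite.injective_iff_surjective.mp hinj) c
  simp only at hx
  have hx0 : x ≠ 0 := by
    rintro rfl
    apply hc
    rw [← hx]; simp
  exact ⟨Units.mk0 x hx0, hx⟩

theorem uniq_ZSz (hm : 1 ≤ m) : Uniq 2 (ZSz hF) := by
  have h2 := two_eq_zero hF
  intro V hVN hNV hexp hne
  have hVZ : V ≤ ZSz hF := by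
    intro v hv
    obtain ⟨a, b, μ, rfl⟩ := normalizer_ZSz_form hF hm (hVN hv)
    have h1 := hexp _ hv
    rw [pow_two] at h1
    obtain ⟨rfl, rfl⟩ := borel_sq_eq_one hF h1
    rw [Hs_one', mul_one]
    exact ⟨b, rfl⟩
  apply le_antisymm hVZ
  obtain ⟨⟨v₀, hv₀⟩, hv₀1⟩ := (Subgroup.ne_bot_iff_exists_ne_one).mp hne
  have hv₀1' : v₀ ≠ 1 := fun h => hv₀1 (Subtype.ext h)
  obtain ⟨b₀, rfl⟩ := hVZ hv₀
  have hb₀ : b₀ ≠ 0 := by
    rintro rfl
    exact hv₀1' (Ts_one hF)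
  rintro _ ⟨b, rfl⟩
  by_cases hb : b = 0
  · rw [hb, Ts_one]; exact V.one_mem
  · obtain ⟨μ, hμ⟩ := exists_torus_char hF (b / b₀) (div_ne_zero hb hb₀)
    have h1 : Hs hF μ ∈ normalizer ((V : Subgroup (Cfsg.Sz F m)) : Set (Cfsg.Sz F m)) :=
      hNV (Hs_mem_normalizer_ZSz hF μ)
    have h3 := (mem_normalizer_iff.mp h1 _).mp hv₀
    rw [Hs_conj_Ts_zero, hμ, div_mul_cancel₀ _ hb₀] at h3
    exact h3

include hF in
theorem uniq_Sz (hm : 1 ≤ m) (Y : Subgroup (Cfsg.Sz F m)) (hexp : ∀ y ∈ Y, y ^ 2 = 1)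
    (hcard : Nat.card Y = Fintype.card F) : Uniq 2 Y := by
  have hYp : IsPGroup 2 Y := IsPGroup.of_card (n := 2 * m + 1) (by rw [hcard, hF])
  obtain ⟨P, hYP⟩ := hYp.exists_le_sylow
  obtain ⟨x, hx⟩ := exists_conj_sylow hF hm P
  have h1 : Y.map (MulAut.conj x).toMonoidHom ≤ ZSz hF := by
    rintro _ ⟨y, hy, rfl⟩
    have h3 : x * y * x⁻¹ ∈ Qz hF := (hx y).mp (hYP hy)
    obtain ⟨a, b, hab⟩ := (mem_Qz hF _).mp h3
    change x * y * x⁻¹ ∈ ZSz hF
    have h4 : (x * y * x⁻¹) * (x * y * x⁻¹) = 1 := by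
      have := hexp y hy
      rw [pow_two] at this
      calc (x * y * x⁻¹) * (x * y * x⁻¹) = x * (y * y) * x⁻¹ := by group
        _ = 1 := by rw [this]; group
    rw [hab] at h4 ⊢
    have := Ts_sq_eq_one hF h4
    subst this
    exact ⟨b, rfl⟩
  have h2 : Y.map (MulAut.conj x).toMonoidHom = ZSz hF := by
    apply Subgroup.eq_of_le_of_card_ge h1
    rw [Subgroup.card_map_of_injective (MulAut.conj x).injective, hcard]
    exact card_ZSz_le hF
  apply Uniq.of_map (MulAut.conj x)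
  rw [h2]
  exact uniq_ZSz hF hm

include hF in
open Cfsg.Agent.Lib.Helper15.SuzukiLie in
theorem uniq_LieSz (hm : 1 ≤ m) (Y : Subgroup (Cfsg.Lie.Sz F (2 ^ (m + 1))))
    (hexp : ∀ y ∈ Y, y ^ 2 = 1) (hcard : Nat.card Y = Fintype.card F) : Uniq 2 Y := by
  apply Uniq.of_map (equivLie hF hm).symm
  apply uniq_Sz hF hm
  · rintro _ ⟨y, hy, rfl⟩
    rw [← map_pow, hexp y hy, map_one]
  · rw [Subgroup.card_map_of_injective (equivLie hF hm).symm.injective, hcard]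

end Cfsg.Agent.Lib.Helper26.FrakLQuot
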