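import Mathlib
import Cfsg.Agent.Lib.Helper26.FrakLFpfE
import Cfsg.Agent.Lib.Helper26.FrakLQuotC
import Cfsg.Agent.Lib.Helper15.SuzukiTori

/-!
# S2863: the Suzuki case, part 1: every element of odd order is inverted by an involution
(helper26)
-/

set_option autoImplicit false
set_option linter.unusedSectionVars false
set_option linter.style.haveILetI false

namespace Cfsg.Agent.Lib.Helper26.FrakLFpf

open Subgroup Matrix
open Cfsg.Agent.Lib.Helper15.SuzukiAlg Cfsg.Agent.Lib.Helper15.SuzukiOvoid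
  Cfsg.Agent.Lib.Helper15.SuzukiForm Cfsg.Agent.Lib.Helper15.SuzukiMat
  Cfsg.Agent.Lib.Helper15.SuzukiGroup Cfsg.Agent.Lib.Helper15.SuzukiOrder
  Cfsg.Agent.Lib.Helper15.SuzukiSylow Cfsg.Agent.Lib.Helper15.SuzukiZassenhaus
  Cfsg.Agent.Lib.Helper15.SuzukiBorel Cfsg.Agent.Lib.Helper15.SuzukiElements
  Cfsg.Agent.Lib.Helper15.SuzukiFpf Cfsg.Agent.Lib.Helper15.SuzukiTori
  Cfsg.Agent.Lib.Helper15.SuzukiField Cfsg.Agent.S2410
  Cfsg.Agent.Lib.Helper26.LLem Cfsg.Agent.Lib.Helper26.FrakLQuot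
open scoped Pointwise

theorem eq_one_of_pow_four_of_odd {G : Type*} [Group G] (x : G) (h : (x * x) * (x * x) = 1)
    (hodd : ¬ 2 ∣ orderOf x) : x = 1 := by
  have h4 : x ^ 4 = 1 := by
    rw [← h]; simp only [pow_succ, pow_zero, one_mul, mul_assoc]
  have h1 : orderOf x ∣ 4 := orderOf_dvd_of_pow_eq_one h4
  have hc : Nat.Coprime (orderOf x) 2 :=
    ((Nat.Prime.coprime_iff_not_dvd Nat.prime_two).mpr hodd).symm
  have hc4 : Nat.Coprime (orderOf x) 4 := by
    have : (4 : ℕ) = 2 ^ 2 := by norm_num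
    rw [this]
    exact hc.pow_right 2
  have h2 : orderOf x ∣ 1 := by
    have := Nat.Coprime.dvd_of_dvd_mul_left hc4 (by simpa using h1 : orderOf x ∣ 4 * 1)
    exact this
  exact orderOf_eq_one_iff.mp (Nat.dvd_one.mp h2)

theorem eq_one_of_sq_of_odd {G : Type*} [Group G] (x : G) (h : x * x = 1)
    (hodd : ¬ 2 ∣ orderOf x) : x = 1 := by
  apply eq_one_of_pow_four_of_odd x _ hodd
  rw [h, one_mul]

variable {F : Type*} [Field F] [Fintype F] {m : ℕ} (hF : Fintype.card F = 2 ^ (2 * m + 1))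

include hF

theorem Ts_pow_four (a b : F) :
    (Ts hF a b * Ts hF a b) * (Ts hF a b * Ts hF a b) = 1 := by
  have h2 := two_eq_zero hF
  rw [Ts_mul, Ts_mul, add_self h2 a, map_zero, zero_mul, add_zero, add_zero, add_self h2,
    Ts_one]

/-- an involution is conjugate to a central translation -/
theorem involution_conj (hm : 1 ≤ m) (s : Cfsg.Sz F m) (hs : s * s = 1) (hs1 : s ≠ 1) :
    ∃ (y : Cfsg.Sz F m) (b : F), b ≠ 0 ∧ y * s * y⁻¹ = Ts hF 0 b := by
  have ho : orderOf s = 2 := orderOf_eq_prime (by rw [pow_two]; exact hs) hs1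
  have hp : IsPGroup 2 (zpowers s) := by
    apply IsPGroup.of_card (n := 1)
    rw [Nat.card_zpowers, ho, pow_one]
  obtain ⟨P, hP⟩ := hp.exists_le_sylow
  obtain ⟨y, hy⟩ := exists_conj_sylow hF hm P
  have h1 : y * s * y⁻¹ ∈ Qz hF := (hy s).mp (hP (mem_zpowers s))
  obtain ⟨a, b, hab⟩ := (mem_Qz hF _).mp h1
  have h4 : (y * s * y⁻¹) * (y * s * y⁻¹) = 1 := by
    calc (y * s * y⁻¹) * (y * s * y⁻¹) = y * (s * s) * y⁻¹ := by group
      _ = 1 := by rw [hs]; group
  rw [hab] at h4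
  have ha := Ts_sq_eq_one hF h4
  subst ha
  refine ⟨y, b, ?_, hab⟩
  rintro rfl
  rw [Ts_one] at hab
  apply hs1
  have : s = y⁻¹ * (y * s * y⁻¹) * y := by group
  rw [this, hab]; group

/-- the centraliser of an involution consists of `2`-elements -/
theorem pow_four_of_comm_involution (hm : 1 ≤ m) (s : Cfsg.Sz F m) (hs : s * s = 1)
    (hs1 : s ≠ 1) (h : Cfsg.Sz F m) (hc : h * s = s * h) : (h * h) * (h * h) = 1 := by
  obtain ⟨y, b, hb, hy⟩ := involution_conj hF hm s hs hs1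
  have hc' : (y * h * y⁻¹) * Ts hF 0 b = Ts hF 0 b * (y * h * y⁻¹) := by
    rw [← hy]
    calc y * h * y⁻¹ * (y * s * y⁻¹) = y * (h * s) * y⁻¹ := by group
      _ = y * (s * h) * y⁻¹ := by rw [hc]
      _ = y * s * y⁻¹ * (y * h * y⁻¹) := by group
  have hab : ¬ ((0 : F) = 0 ∧ b = 0) := fun h => hb h.2
  have h1 := cent_Ts hF hm hab hc'
  obtain ⟨c, d, hcd⟩ := (mem_Qz hF _).mp h1
  have h2 := Ts_pow_four hF c d
  rw [← hcd] at h2
  have e : (h * h) * (h * h) = y⁻¹ * ((y * h * y⁻¹ * (y * h * y⁻¹)) *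
      (y * h * y⁻¹ * (y * h * y⁻¹))) * y := by group
  rw [e, h2]; group

/-- elements of odd order with a fixed point are inverted by an involution -/
theorem inverted_of_fixed (hm : 1 ≤ m) (x : Cfsg.Sz F m) (hx1 : x ≠ 1)
    (hodd : ¬ 2 ∣ orderOf x) (P : Cfsg.suzukiOvoid F m) (hP : x • P = P) :
    ∃ s : Cfsg.Sz F m, s * s = 1 ∧ s ≠ 1 ∧ s * x * s⁻¹ = x⁻¹ := by
  -- a second point
  obtain ⟨Q, hPQ⟩ : ∃ Q : Cfsg.suzukiOvoid F m, P ≠ Q := by
    by_cases h : P = pt hF none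
    · exact ⟨pt hF (some (0, 0)), by rw [h]; exact pt_none_ne_zero hF⟩
    · exact ⟨pt hF none, h⟩
  obtain ⟨k, hk0, -⟩ := exists_to_standard hF hPQ
  have f0 : (k * x * k⁻¹) • pt hF none = pt hF none := by
    rw [← hk0, mul_smul, inv_smul_smul, mul_smul, hP]
  obtain ⟨a, b, μ, hab⟩ := fix_inf hF hm f0
  have ho : orderOf (k * x * k⁻¹) = orderOf x := orderOf_conj' k x
  have hμ : μ ≠ 1 := by
    rintro rfl
    rw [Hs_one', mul_one] at hab
    have h1 : k * x * k⁻¹ = 1 := by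
      apply eq_one_of_pow_four_of_odd _ _ (by rw [ho]; exact hodd)
      rw [hab]; exact Ts_pow_four hF a b
    apply hx1
    have : x = k⁻¹ * (k * x * k⁻¹) * k := by group
    rw [this, h1]; group
  obtain ⟨x₀, y₀, hfix⟩ := exists_second_fixed hF a b hμ
  rw [← hab] at hfix
  have hne : pt hF none ≠ pt hF (some (x₀, y₀)) := by
    intro h
    have := pt_inj hF h
    simp at this
  obtain ⟨k', ν, hk'⟩ := two_fixed_conj hF hm hne f0 hfix
  obtain ⟨g, hg⟩ : ∃ g, g = k' * k := ⟨_, rfl⟩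
  have hgx : g * x * g⁻¹ = Hs hF ν := by
    rw [← hk', hg]; group
  have hJ1 : Js hF ≠ 1 := by
    intro h
    have h1 := Js_inf hF
    rw [h, one_smul] at h1
    exact pt_none_ne_zero hF h1
  refine ⟨g⁻¹ * Js hF * g, ?_, ?_, ?_⟩
  · calc g⁻¹ * Js hF * g * (g⁻¹ * Js hF * g) = g⁻¹ * (Js hF * Js hF) * g := by group
      _ = 1 := by rw [Js_mul_self]; group
  · intro h
    apply hJ1
    have : Js hF = g * (g⁻¹ * Js hF * g) * g⁻¹ := by group
    rw [this, h]; group
  · have hx : x = g⁻¹ * Hs hF ν * g := by rw [← hgx]; group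
    have e : g⁻¹ * Js hF * g * x * (g⁻¹ * Js hF * g)⁻¹ =
        g⁻¹ * (Js hF * (g * x * g⁻¹) * (Js hF)⁻¹) * g := by group
    rw [e, hgx, Js_mul_Hs, mul_inv_cancel_right, ← Hs_inv, hx]
    group

/-- the normaliser of the centraliser of a fixed-point-free element has order `4 |C(x)|` -/
theorem card_normalizer_fpf (hm : 1 ≤ m) (x : Cfsg.Sz F m) (hx : IsFpf x) :
    Nat.card (normalizer
        ((centralizer ({x} : Set (Cfsg.Sz F m)) : Subgroup (Cfsg.Sz F m)) :
          Set (Cfsg.Sz F m))) = 4 * dd x := by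
  have key : ∀ y : Cfsg.Sz F m, IsFpf y → dd x = dd y →
      Nat.card (normalizer
        ((centralizer ({y} : Set (Cfsg.Sz F m)) : Subgroup (Cfsg.Sz F m)) :
          Set (Cfsg.Sz F m))) = 4 * dd y →
      Nat.card (normalizer
        ((centralizer ({x} : Set (Cfsg.Sz F m)) : Subgroup (Cfsg.Sz F m)) :
          Set (Cfsg.Sz F m))) = 4 * dd x := by
    intro y hy hd hN
    have hcls : cls x = cls y := by
      ext z
      simp only [cls, Set.mem_ofPred_eq, hd]
    have h1 := card_cls hF hm hx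
    have h2 := card_cls hF hm hy
    rw [hcls, hd, ← h2] at h1
    have hpos : 0 < (cls y).ncard := by
      rw [Set.ncard_pos (Set.toFinite _)]
      exact ⟨y, hy, rfl⟩
    have := Nat.eq_of_mul_eq_mul_left hpos h1
    rw [this, hN, hd]
  obtain ⟨x₁, x₂, hx₁, hx₂, -, -, hN₁, hN₂, hall⟩ := tori hF hm
  rcases hall x hx with h | h
  · exact key x₁ hx₁ h hN₁
  · exact key x₂ hx₂ h hN₂

/-- fixed-point-free elements are inverted by an involution -/
theorem inverted_of_fpf (hm : 1 ≤ m) (x : Cfsg.Sz F m) (hx : IsFpf x) :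
    ∃ s : Cfsg.Sz F m, s * s = 1 ∧ s ≠ 1 ∧ s * x * s⁻¹ = x⁻¹ := by
  have hN := card_normalizer_fpf hF hm x hx
  have h2 : 2 ∣ Nat.card (normalizer
        ((centralizer ({x} : Set (Cfsg.Sz F m)) : Subgroup (Cfsg.Sz F m)) :
          Set (Cfsg.Sz F m))) := by
    rw [hN]; exact ⟨2 * dd x, by ring⟩
  haveI : Fact (Nat.Prime 2) := ⟨Nat.prime_two⟩
  obtain ⟨⟨s, hsN⟩, hso⟩ := exists_prime_orderOf_dvd_card' 2 h2
  have hso' : orderOf s = 2 := by
    rw [← hso]; exact (Subgroup.orderOf_coe (⟨s, hsN⟩ : normalizer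
        ((centralizer ({x} : Set (Cfsg.Sz F m)) : Subgroup (Cfsg.Sz F m)) :
          Set (Cfsg.Sz F m))))
  have hs1 : s ≠ 1 := by
    rintro rfl
    rw [orderOf_one] at hso'
    omega
  have hss : s * s = 1 := by
    have := pow_orderOf_eq_one s
    rw [hso', pow_two] at this
    exact this
  have hsinv : s⁻¹ = s := inv_eq_of_mul_eq_one_left hss
  refine ⟨s, hss, hs1, ?_⟩
  -- `s x s⁻¹ ∈ C(x)`
  have hxC : x ∈ centralizer ({x} : Set (Cfsg.Sz F m)) := mem_centralizer_singleton_iff.mpr rfl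
  have hsxC : s * x * s⁻¹ ∈ centralizer ({x} : Set (Cfsg.Sz F m)) :=
    (mem_normalizer_iff.mp hsN x).mp hxC
  have hc1 : (s * x * s⁻¹) * x = x * (s * x * s⁻¹) := mem_centralizer_singleton_iff.mp hsxC
  obtain ⟨z, hz⟩ : ∃ z, z = x * (s * x * s⁻¹) := ⟨_, rfl⟩
  have hzC : z ∈ centralizer ({x} : Set (Cfsg.Sz F m)) := by
    rw [hz]; exact mul_mem hxC hsxC
  have hzs : z * s = s * z := by
    have : s * z * s⁻¹ = z := by
      rw [hz]
      calc s * (x * (s * x * s⁻¹)) * s⁻¹ = (s * x * s⁻¹) * ((s * s) * x * (s * s)⁻¹) := by group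
        _ = (s * x * s⁻¹) * x := by rw [hss]; group
        _ = x * (s * x * s⁻¹) := hc1
    calc z * s = (s * z * s⁻¹) * s := by rw [this]
      _ = s * z := by group
  have hz4 := pow_four_of_comm_involution hF hm s hss hs1 z hzs
  have hzodd : ¬ 2 ∣ orderOf z := by
    intro h
    have h1 : orderOf (⟨z, hzC⟩ : centralizer ({x} : Set (Cfsg.Sz F m))) ∣ dd x :=
      orderOf_dvd_natCard _
    rw [← Subgroup.orderOf_coe] at h1
    exact two_not_dvd_N (m := m) (dvd_trans h (dvd_trans h1 (dd_dvd hF hm hx)))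
  have hz1 := eq_one_of_pow_four_of_odd z hz4 hzodd
  rw [hz] at hz1
  exact (eq_inv_of_mul_eq_one_right hz1)

/-- every nontrivial element of odd order is inverted by an involution -/
theorem exists_inverting (hm : 1 ≤ m) (x : Cfsg.Sz F m) (hx1 : x ≠ 1)
    (hodd : ¬ 2 ∣ orderOf x) :
    ∃ s : Cfsg.Sz F m, s * s = 1 ∧ s ≠ 1 ∧ s * x * s⁻¹ = x⁻¹ := by
  by_cases hfp : IsFpf x
  · exact inverted_of_fpf hF hm x hfp
  · unfold IsFpf at hfp
    push Not at hfp
    obtain ⟨P, hP⟩ := hfp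
    exact inverted_of_fixed hF hm x hx1 hodd P hP

end Cfsg.Agent.Lib.Helper26.FrakLFpf
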