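import Mathlib
import Cfsg.Agent.Lib.Helper26.FrakLFpfH

/-!
# S2863: the Suzuki case, part 2: every nontrivial element of odd order is a product of two
involutions from different Sylow centres (helper26)
-/

set_option autoImplicit false
set_option linter.unusedSectionVars false
set_option linter.style.haveILetI false

namespace Cfsg.Agent.Lib.Helper26.FrakLFpf

open Subgroup Matrix
open Cfsg.Agent.Lib.Helper15.SuzukiAlg Cfsg.Agent.Lib.Helper15.SuzukiOvoid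
  Cfsg.Agent.Lib.Helper15.SuzukiForm Cfsg.Agent.Lib.Helper15.SuzukiMat
  Cfsg.Agent.Lib.Helper15.SuzukiGroup Cfsg.Agent.Lib.Helper15.SuzukiOrder
  Cfsg.Agent.Lib.Helper15.SuzukiSylow Cfsg.Agent.Lib.Helper15.SuzukiZassenhaus
  Cfsg.Agent.Lib.Helper15.SuzukiBorel Cfsg.Agent.Lib.Helper15.SuzukiElements
  Cfsg.Agent.Lib.Helper26.LLem Cfsg.Agent.Lib.Helper26.FrakLQuot
open scoped Pointwise

variable {F : Type*} [Field F] [Fintype F] {m : ℕ} (hF : Fintype.card F = 2 ^ (2 * m + 1))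

include hF

/-- two elements conjugated into `Z` by the same element have a product of square one -/
theorem sq_one_of_both (y u₁ u₂ : Cfsg.Sz F m) (h₁ : y * u₁ * y⁻¹ ∈ ZSz hF)
    (h₂ : y * u₂ * y⁻¹ ∈ ZSz hF) : (u₁ * u₂) * (u₁ * u₂) = 1 := by
  have h2 := two_eq_zero hF
  obtain ⟨b₁, hb₁⟩ := h₁
  obtain ⟨b₂, hb₂⟩ := h₂
  have e : (u₁ * u₂) * (u₁ * u₂) = y⁻¹ * ((y * u₁ * y⁻¹) * (y * u₂ * y⁻¹) *
      ((y * u₁ * y⁻¹) * (y * u₂ * y⁻¹))) * y := by group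
  rw [e, hb₁, hb₂, Ts_mul, Ts_mul]
  simp only [map_zero, zero_mul, add_zero]
  rw [add_self h2, Ts_one]
  group

/-- an involution normalising `Z` lies in `Z` -/
theorem involution_mem_ZSz (hm : 1 ≤ m) (u : Cfsg.Sz F m) (hu : u * u = 1)
    (hn : u ∈ normalizer ((ZSz hF : Subgroup (Cfsg.Sz F m)) : Set (Cfsg.Sz F m))) :
    u ∈ ZSz hF := by
  obtain ⟨a, b, μ, rfl⟩ := normalizer_ZSz_form hF hm hn
  obtain ⟨rfl, rfl⟩ := borel_sq_eq_one hF hu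
  rw [Hs_one', mul_one]
  exact ⟨b, rfl⟩

theorem decX_ZSz (hm : 1 ≤ m) (x : Cfsg.Sz F m) (hx1 : x ≠ 1) (hodd : ¬ 2 ∣ orderOf x) :
    DecX (ZSz hF) x := by
  obtain ⟨s, hss, hs1, hsx⟩ := exists_inverting hF hm x hx1 hodd
  have hsinv : s⁻¹ = s := inv_eq_of_mul_eq_one_left hss
  obtain ⟨u₂, hu₂⟩ : ∃ u₂, u₂ = s * x := ⟨_, rfl⟩
  have hx : x = s * u₂ := by rw [hu₂, ← mul_assoc, hss, one_mul]
  have hu₂u₂ : u₂ * u₂ = 1 := by
    rw [hu₂]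
    calc s * x * (s * x) = (s * x * s⁻¹) * x := by rw [hsinv]; group
      _ = 1 := by rw [hsx]; group
  have hu₂1 : u₂ ≠ 1 := by
    intro h
    rw [h, mul_one] at hx
    apply hs1
    rw [← hx]
    exact eq_one_of_sq_of_odd x (by rw [hx]; exact hss) hodd
  obtain ⟨y₁, b₁, -, hy₁⟩ := involution_conj hF hm s hss hs1
  obtain ⟨y₂, b₂, -, hy₂⟩ := involution_conj hF hm u₂ hu₂u₂ hu₂1
  have hconj_sq : ∀ (y u : Cfsg.Sz F m), u * u = 1 → (y * u * y⁻¹) * (y * u * y⁻¹) = 1 := by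
    intro y u hu
    calc (y * u * y⁻¹) * (y * u * y⁻¹) = y * (u * u) * y⁻¹ := by group
      _ = 1 := by rw [hu]; group
  refine ⟨y₁⁻¹, y₂⁻¹, s, u₂, ?_, ?_, hx, ?_, ?_⟩
  · rw [mem_cj_iff, inv_inv, hy₁]; exact ⟨b₁, rfl⟩
  · rw [mem_cj_iff, inv_inv, hy₂]; exact ⟨b₂, rfl⟩
  · rw [normalizer_cj, mem_cj_iff, inv_inv]
    intro hn
    have h1 := involution_mem_ZSz hF hm _ (hconj_sq y₂ s hss) hn
    have h2 : y₂ * u₂ * y₂⁻¹ ∈ ZSz hF := by rw [hy₂]; exact ⟨b₂, rfl⟩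
    have h3 := sq_one_of_both hF y₂ s u₂ h1 h2
    rw [← hx] at h3
    exact hx1 (eq_one_of_sq_of_odd x h3 hodd)
  · rw [normalizer_cj, mem_cj_iff, inv_inv]
    intro hn
    have h1 := involution_mem_ZSz hF hm _ (hconj_sq y₁ u₂ hu₂u₂) hn
    have h2 : y₁ * s * y₁⁻¹ ∈ ZSz hF := by rw [hy₁]; exact ⟨b₁, rfl⟩
    have h3 := sq_one_of_both hF y₁ s u₂ h2 h1
    rw [← hx] at h3
    exact hx1 (eq_one_of_sq_of_odd x h3 hodd)

theorem decX_Sz (hm : 1 ≤ m) (Y : Subgroup (Cfsg.Sz F m)) (hexp : ∀ y ∈ Y, y ^ 2 = 1)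
    (hcard : Nat.card Y = Fintype.card F) (x : Cfsg.Sz F m) (hx1 : x ≠ 1)
    (hodd : ¬ 2 ∣ orderOf x) : DecX Y x := by
  have hYp : IsPGroup 2 Y := IsPGroup.of_card (n := 2 * m + 1) (by rw [hcard, hF])
  obtain ⟨P, hYP⟩ := hYp.exists_le_sylow
  obtain ⟨x₀, hx₀⟩ := exists_conj_sylow hF hm P
  have h1 : LLem.cj x₀ Y ≤ ZSz hF := by
    rintro _ ⟨y, hy, rfl⟩
    have h3 : x₀ * y * x₀⁻¹ ∈ Qz hF := (hx₀ y).mp (hYP hy)
    obtain ⟨a, b, hab⟩ := (mem_Qz hF _).mp h3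
    change x₀ * y * x₀⁻¹ ∈ ZSz hF
    have h4 : (x₀ * y * x₀⁻¹) * (x₀ * y * x₀⁻¹) = 1 := by
      have := hexp y hy
      rw [pow_two] at this
      calc (x₀ * y * x₀⁻¹) * (x₀ * y * x₀⁻¹) = x₀ * (y * y) * x₀⁻¹ := by group
        _ = 1 := by rw [this]; group
    rw [hab] at h4 ⊢
    have := Ts_sq_eq_one hF h4
    subst this
    exact ⟨b, rfl⟩
  have h2 : LLem.cj x₀ Y = ZSz hF := by
    apply Subgroup.eq_of_le_of_card_ge h1
    rw [Subgroup.card_map_of_injective (MulAut.conj x₀).injective, hcard]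
    exact card_ZSz_le hF
  apply DecX.of_cj x₀
  rw [h2]
  exact decX_ZSz hF hm x hx1 hodd

open Cfsg.Agent.Lib.Helper15.SuzukiLie in
theorem decX_LieSz (hm : 1 ≤ m) (Y : Subgroup (Cfsg.Lie.Sz F (2 ^ (m + 1))))
    (hexp : ∀ y ∈ Y, y ^ 2 = 1) (hcard : Nat.card Y = Fintype.card F)
    (x : Cfsg.Lie.Sz F (2 ^ (m + 1))) (hx1 : x ≠ 1) (hodd : ¬ 2 ∣ orderOf x) : DecX Y x := by
  apply DecX.of_map (equivLie hF hm).symm
  apply decX_Sz hF hm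
  · rintro _ ⟨y, hy, rfl⟩
    rw [← map_pow, hexp y hy, map_one]
  · rw [Subgroup.card_map_of_injective (equivLie hF hm).symm.injective, hcard]
  · intro h
    apply hx1
    exact (MulEquiv.map_eq_one_iff _).mp h
  · rw [MulEquiv.orderOf_eq]; exact hodd

end Cfsg.Agent.Lib.Helper26.FrakLFpf
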