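import Mathlib
import Cfsg.Prelude.Def_LocalStructure
import Cfsg.Agent.Lib.Helper26.FrakLQuotA
import Cfsg.Agent.Lib.Helper26.FrakLQuotD
import Cfsg.Agent.Lib.Helper16.Minimal2

/-!
# S2861: the configuration inside `L ∈ 𝔏_G(Y_M)` (helper26)
-/

set_option autoImplicit false
set_option linter.unusedSectionVars false
set_option linter.style.haveILetI false

namespace Cfsg.Agent.Lib.Helper26.FrakLQuot

open Subgroup Cfsg

variable {G : Type*} [Group G] [Finite G] {p : ℕ} [Fact p.Prime]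

/-- The configuration in `↥L`: `K = O_p(L) ≤ L₀ = N_L(Y)`, `Y ≤ L₀ ≤ N(Y)`, `L₀ ≠ ⊤` and `⟨Y, Y^g⟩ = L`
for all `g ∉ L₀`. -/
theorem frakL_config (Y L : Subgroup G) (hYL : Y ≤ L) (hYp : IsPGroup p Y)
    (hAN : pCoreOf p L ≤ normalizer (Y : Set G))
    (hmin : IsMinimalOver (Y.subgroupOf L))
    (hmax : L ⊓ normalizer (Y : Set G) < L ∧
      ∀ X : Subgroup G, Y ≤ X → X < L → X ≤ L ⊓ normalizer (Y : Set G)) :
    pCore p ↥L ≤ (L ⊓ normalizer (Y : Set G)).subgroupOf L ∧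
      Y.subgroupOf L ≤ (L ⊓ normalizer (Y : Set G)).subgroupOf L ∧
      (L ⊓ normalizer (Y : Set G)).subgroupOf L ≤
        normalizer ((Y.subgroupOf L : Subgroup ↥L) : Set ↥L) ∧
      (L ⊓ normalizer (Y : Set G)).subgroupOf L ≠ ⊤ ∧
      ∀ g : ↥L, g ∉ (L ⊓ normalizer (Y : Set G)).subgroupOf L →
        Y.subgroupOf L ⊔ (Y.subgroupOf L).map (MulAut.conj g).toMonoidHom = ⊤ := by
  set NL := L ⊓ normalizer (Y : Set G) with hNL
  set L₀ := NL.subgroupOf L with hL₀def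
  set Yl := Y.subgroupOf L with hYldef
  have hYNL : Y ≤ NL := le_inf hYL le_normalizer
  have hKL : pCore p ↥L ≤ L₀ := by
    intro k hk
    rw [hL₀def, mem_subgroupOf, hNL, mem_inf]
    refine ⟨k.2, hAN ?_⟩
    exact ⟨k, hk, rfl⟩
  have hYL₀ : Yl ≤ L₀ := by
    intro y hy
    rw [hYldef, mem_subgroupOf] at hy
    rw [hL₀def, mem_subgroupOf]
    exact hYNL hy
  have hLN : L₀ ≤ normalizer ((Yl : Subgroup ↥L) : Set ↥L) := by
    intro n hn
    rw [hL₀def, mem_subgroupOf, hNL, mem_inf] at hn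
    rw [mem_normalizer_iff]
    intro h
    rw [hYldef, mem_subgroupOf, mem_subgroupOf]
    exact mem_normalizer_iff.mp hn.2 (h : G)
  have hL₀top : L₀ ≠ ⊤ := by
    intro h
    rw [hL₀def, subgroupOf_eq_top] at h
    exact (not_le_of_gt hmax.1) h
  have hcoatom : IsCoatom L₀ := by
    refine ⟨hL₀top, ?_⟩
    intro b hb
    by_contra hbt
    have hB : b.map L.subtype < L := by
      apply lt_of_le_of_ne (map_subtype_le b)
      intro h
      apply hbt
      rw [eq_top_iff]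
      intro x _
      have hx : (x : G) ∈ b.map L.subtype := by rw [h]; exact x.2
      obtain ⟨y, hy, hyx⟩ := hx
      have : y = x := Subtype.ext hyx
      rw [← this]; exact hy
    have hYB : Y ≤ b.map L.subtype := by
      intro y hy
      exact ⟨⟨y, hYL hy⟩, hb.le (hYL₀ (by rw [hYldef, mem_subgroupOf]; exact hy)), rfl⟩
    have h1 := hmax.2 _ hYB hB
    apply not_le_of_gt hb
    intro x hx
    rw [hL₀def, mem_subgroupOf]
    exact h1 ⟨x, hx, rfl⟩
  have hYlp : IsPGroup p Yl := hYp.comap_subtype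
  have hYlp' : IsPGroup p (Yl.subgroupOf L₀) := hYlp.comap_subtype
  obtain ⟨T, hT⟩ := hYlp'.exists_le_sylow
  have hYT : Yl ≤ (T : Subgroup ↥L₀).map L₀.subtype := by
    intro y hy
    refine ⟨⟨y, hYL₀ hy⟩, hT ?_, rfl⟩
    rw [mem_subgroupOf]
    exact hy
  have key := Cfsg.Agent.Lib.Helper16.minimalOver_structure L₀ hcoatom T Yl hYT hmin
  exact ⟨hKL, hYL₀, hLN, hL₀top, key.2.2.2.2.1⟩

end Cfsg.Agent.Lib.Helper26.FrakLQuot
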