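import Mathlib
import Cfsg.Prelude.Def_LocalStructure
import Cfsg.Agent.Lib.Helper26.FrakLQuotA
import Cfsg.Agent.Lib.Helper26.FrakLQuotB
import Cfsg.Agent.Lib.Helper26.FrakLQuotC
import Cfsg.Agent.Lib.Helper26.FrakLQuotD
import Cfsg.Agent.Lib.Helper26.FrakLQuotE
import Cfsg.Agent.Lib.Helper16.YSubnormal
import Cfsg.Agent.Lib.Helper17.TwoConj

/-!
# S2861: uniqueness in `L / O_p(L)` for `L ∈ 𝔏_G(Y_M)` (helper26)
-/

set_option autoImplicit false
set_option linter.unusedSectionVars false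
set_option linter.style.haveILetI false

namespace Cfsg.Agent.Lib.Helper26.FrakLQuot

open Subgroup Cfsg

variable {G : Type*} [Group G] [Finite G] {p : ℕ} [Fact p.Prime]

theorem card_map_mk_pCore (Y L : Subgroup G) (hYL : Y ≤ L) :
    Nat.card ((Y.subgroupOf L).map (QuotientGroup.mk' (pCore p ↥L))) =
      (Y ⊓ pCoreOf p L).relIndex Y := by
  rw [← relIndex_ker, QuotientGroup.ker_mk']
  have h1 : pCore p ↥L = (pCoreOf p L).comap L.subtype := by
    unfold pCoreOf
    exact (comap_map_eq_self_of_injective L.subtype_injective _).symm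
  rw [h1, relIndex_comap]
  have h2 : (Y.subgroupOf L).map L.subtype = Y := map_subgroupOf_eq_of_le hYL
  rw [h2, inf_comm, inf_relIndex_right]

theorem frakL_uniq (M L : Subgroup G) (hL : IsInFrakL p M L) :
    (largestPReducedOf p M).subgroupOf L ≤
        (L ⊓ normalizer ((largestPReducedOf p M : Subgroup G) : Set G)).subgroupOf L ∧
      ((largestPReducedOf p M).subgroupOf L).map (QuotientGroup.mk' (pCore p ↥L)) ≠ ⊥ ∧
      normalizer ((((largestPReducedOf p M).subgroupOf L).map (QuotientGroup.mk' (pCore p ↥L)) :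
        Subgroup (↥L ⧸ pCore p ↥L)) : Set (↥L ⧸ pCore p ↥L)) =
        ((L ⊓ normalizer ((largestPReducedOf p M : Subgroup G) : Set G)).subgroupOf L).map
          (QuotientGroup.mk' (pCore p ↥L)) ∧
      Uniq p (((largestPReducedOf p M).subgroupOf L).map (QuotientGroup.mk' (pCore p ↥L))) := by
  obtain ⟨hYL, -, hAN, hmin, -, hmax, hiso⟩ := hL
  set Y := largestPReducedOf p M with hYdef
  have hYe : IsElementaryAbelian p Y :=
    (Cfsg.Agent.Lib.Helper16.largestPReducedOf_spec' (p := p) M).2.1.2.1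
  have hYp : IsPGroup p Y := Cfsg.Agent.Lib.Helper16.isPGroup_of_isElementaryAbelian hYe
  obtain ⟨hKL, hYL₀, hLN, hL₀top, hgen⟩ := frakL_config Y L hYL hYp hAN hmin hmax
  obtain ⟨hnorm, hgen'⟩ := quot_config (pCore p ↥L) _ _ hKL hYL₀ hLN hL₀top hgen
  set Yb := (Y.subgroupOf L).map (QuotientGroup.mk' (pCore p ↥L)) with hYbdef
  have hcard : Nat.card Yb = (Y ⊓ pCoreOf p L).relIndex Y := card_map_mk_pCore Y L hYL
  have hYbp : IsPGroup p Yb := (hYp.comap_subtype).map _
  have hYbexp : ∀ y ∈ Yb, y ^ p = 1 := by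
    rintro _ ⟨y, hy, rfl⟩
    rw [← map_pow]
    have : y ^ p = 1 := by
      apply Subtype.ext
      rw [SubgroupClass.coe_pow]
      exact hYe.2 _ hy
    rw [this, map_one]
  have hYbne : Yb ≠ ⊥ := by
    intro h0
    apply hL₀top
    rw [eq_top_iff]
    refine le_trans ?_ hKL
    rw [← hmin.1]
    apply normalClosure_le_normal
    intro y hy
    have : QuotientGroup.mk' (pCore p ↥L) y ∈ Yb := ⟨y, hy, rfl⟩
    rw [h0, mem_bot, QuotientGroup.mk'_apply, QuotientGroup.eq_one_iff] at this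
    exact this
  have hO : ∀ K : Subgroup (↥L ⧸ pCore p ↥L), K.Normal → IsPGroup p K → K = ⊥ := by
    intro K hKn hKp
    have := Cfsg.Agent.Lib.Helper1.le_pCore hKn hKp
    rw [Cfsg.Agent.Lib.Helper17.pCore_quot_eq_bot] at this
    exact le_bot_iff.mp this
  refine ⟨hYL₀, hYbne, hnorm, ?_⟩
  rcases hiso with ⟨F, hField, hFin, hFcard, ⟨e⟩⟩ | ⟨hp2, F, hField, hFin, m, hFm, hFcard, ⟨e⟩⟩ |
    ⟨hp2, r, hr, hr2, ⟨e⟩⟩
  · -- `SL₂(F)`
    apply Uniq.of_map e
    apply uniq_SL2 p
    · exact hYbp.map _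
    · rw [card_map_of_injective e.injective, hcard, hFcard]
  · -- Suzuki
    subst hp2
    by_cases hm : 1 ≤ m
    · apply Uniq.of_map e
      apply uniq_LieSz hFm hm
      · rintro _ ⟨y, hy, rfl⟩
        rw [← map_pow, hYbexp y hy, map_one]
      · rw [card_map_of_injective e.injective, hcard, hFcard]
    · have hm0 : m = 0 := by omega
      subst hm0
      apply uniq_of_card_two Yb _ hO hgen'
      rw [hcard, ← hFcard, hFm]; norm_num
  · -- dihedral
    subst hp2
    apply uniq_of_card_two Yb _ hO hgen'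
    obtain ⟨k, hk⟩ := IsPGroup.iff_card.mp hYbp
    have hX : Nat.card (↥L ⧸ pCore 2 ↥L) = 2 * r := by
      rw [Nat.card_congr e.toEquiv, DihedralGroup.nat_card]
    have hdvd : 2 ^ k ∣ 2 * r := by
      rw [← hk, ← hX]
      exact Subgroup.card_subgroup_dvd_card Yb
    have hk0 : k ≠ 0 := by
      rintro rfl
      rw [pow_zero] at hk
      exact hYbne (Subgroup.card_eq_one.mp hk)
    have hrodd : ¬ 2 ∣ r := by
      intro h
      exact hr2 ((Nat.prime_dvd_prime_iff_eq Nat.prime_two hr).mp h).symm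
    have hk1 : k ≤ 1 := by
      by_contra hk1
      push Not at hk1
      have h4 : 2 ^ 2 ∣ 2 * r := (pow_dvd_pow 2 hk1).trans hdvd
      have : 2 ∣ r := by
        have h5 : 2 * 2 ∣ 2 * r := by simpa [pow_two] using h4
        exact (Nat.mul_dvd_mul_iff_left (by norm_num)).mp h5
      exact hrodd this
    have : k = 1 := by omega
    rw [hk, this, pow_one]

end Cfsg.Agent.Lib.Helper26.FrakLQuot
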