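import Mathlib
import Cfsg.Prelude.Def_LocalStructure
import Cfsg.Agent.Lib.Helper26.FrakLFpfF
import Cfsg.Agent.Lib.Helper26.FrakLFpfG
import Cfsg.Agent.Lib.Helper26.FrakLFpfI
import Cfsg.Agent.Lib.Helper26.FrakLQuotF

/-!
# S2863: assembly (helper26)

For `L ∈ 𝔏_G(Y_M)`, every element of `L` whose order is not a power of `p` acts without nontrivial
fixed points on `O_p(L) / C_{Y_M}(L)`.
-/

set_option autoImplicit false
set_option linter.unusedSectionVars false
set_option linter.style.haveILetI false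

namespace Cfsg.Agent.Lib.Helper26.FrakLFpf

open Subgroup Cfsg Cfsg.Agent.Lib.Helper26.LLem Cfsg.Agent.Lib.Helper26.FrakLQuot

variable {G : Type*} [Group G] [Finite G] {p : ℕ} [Fact p.Prime]

/-- the intersection clause of the configuration (the companion of `frakL_config`) -/
theorem frakL_int (Y L : Subgroup G) (hYL : Y ≤ L) (hYp : IsPGroup p Y)
    (hYc : ∀ a ∈ Y, ∀ b ∈ Y, a * b = b * a)
    (hmin : IsMinimalOver (Y.subgroupOf L))
    (hmax : L ⊓ normalizer (Y : Set G) < L ∧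
      ∀ X : Subgroup G, Y ≤ X → X < L → X ≤ L ⊓ normalizer (Y : Set G)) :
    ∀ g : ↥L, g ∉ (L ⊓ normalizer (Y : Set G)).subgroupOf L →
        Y.subgroupOf L ⊓ (Y.subgroupOf L).map (MulAut.conj g).toMonoidHom =
          Y.subgroupOf L ⊓ center ↥L := by
  set NL := L ⊓ normalizer (Y : Set G) with hNL
  set L₀ := NL.subgroupOf L with hL₀def
  set Yl := Y.subgroupOf L with hYldef
  have hYNL : Y ≤ NL := le_inf hYL le_normalizer
  have hYL₀ : Yl ≤ L₀ := by
    intro y hy
    rw [hYldef, mem_subgroupOf] at hy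
    rw [hL₀def, mem_subgroupOf]
    exact hYNL hy
  have hL₀top : L₀ ≠ ⊤ := by
    intro h
    rw [hL₀def, subgroupOf_eq_top] at h
    exact (not_le_of_gt hmax.1) h
  have hcoatom : IsCoatom L₀ := by
    refine ⟨hL₀top, ?_⟩
    intro b hb
    by_contra hbt
    have hB : b.map L.subtype < L := by
      apply lt_of_le_of_ne (map_subtype_le b)
      intro h
      apply hbt
      rw [eq_top_iff]
      intro x _
      have hx : (x : G) ∈ b.map L.subtype := by rw [h]; exact x.2
      obtain ⟨y, hy, hyx⟩ := hx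
      have : y = x := Subtype.ext hyx
      rw [← this]; exact hy
    have hYB : Y ≤ b.map L.subtype := by
      intro y hy
      exact ⟨⟨y, hYL hy⟩, hb.le (hYL₀ (by rw [hYldef, mem_subgroupOf]; exact hy)), rfl⟩
    have h1 := hmax.2 _ hYB hB
    apply not_le_of_gt hb
    intro x hx
    rw [hL₀def, mem_subgroupOf]
    exact h1 ⟨x, hx, rfl⟩
  have hYlp : IsPGroup p Yl := hYp.comap_subtype
  have hYlp' : IsPGroup p (Yl.subgroupOf L₀) := hYlp.comap_subtype
  obtain ⟨T, hT⟩ := hYlp'.exists_le_sylow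
  have hYT : Yl ≤ (T : Subgroup ↥L₀).map L₀.subtype := by
    intro y hy
    refine ⟨⟨y, hYL₀ hy⟩, hT ?_, rfl⟩
    rw [mem_subgroupOf]
    exact hy
  have key := Cfsg.Agent.Lib.Helper16.minimalOver_structure L₀ hcoatom T Yl hYT hmin
  have hcomm : IsMulCommutative ↥Yl := by
    refine ⟨⟨?_⟩⟩
    rintro ⟨a, ha⟩ ⟨b, hb⟩
    apply Subtype.ext
    apply Subtype.ext
    exact hYc _ (mem_subgroupOf.mp ha) _ (mem_subgroupOf.mp hb)
  exact key.2.2.2.2.2 hcomm

/-- the configuration `Cfg` for a member of `𝔏_G(Y_M)` -/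
theorem frakL_cfg (M L : Subgroup G) (hL : IsInFrakL p M L) :
    Cfg ((largestPReducedOf p M).subgroupOf L) (pCore p ↥L) ∧
      ∃ g : ↥L, g ∉ normalizer ((((largestPReducedOf p M).subgroupOf L) : Subgroup ↥L) : Set ↥L) := by
  obtain ⟨hYL, hcl, hAN, hmin, -, hmax, -⟩ := hL
  set Y := largestPReducedOf p M with hYdef
  have hYe : IsElementaryAbelian p Y :=
    (Cfsg.Agent.Lib.Helper16.largestPReducedOf_spec' (p := p) M).2.1.2.1
  have hYp : IsPGroup p Y := Cfsg.Agent.Lib.Helper16.isPGroup_of_isElementaryAbelian hYe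
  have hYc : ∀ a ∈ Y, ∀ b ∈ Y, a * b = b * a :=
    fun a ha b hb => Cfsg.Agent.Lib.Helper16.comm_of_isElementaryAbelian hYe _ ha _ hb
  obtain ⟨hKL, hYL₀, hLN, hL₀top, hgen⟩ := frakL_config Y L hYL hYp hAN hmin hmax
  have hint := frakL_int Y L hYL hYp hYc hmin hmax
  set Yl := Y.subgroupOf L with hYldef
  set K := pCore p ↥L with hKdef
  have hKn : K.Normal := Cfsg.Agent.Lib.Helper1.pCore_normal p ↥L
  have hnot : ∃ g : ↥L, g ∉ normalizer ((Yl : Subgroup ↥L) : Set ↥L) := by
    by_contra hcon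
    push Not at hcon
    have hYn : Yl.Normal := by
      rw [← Subgroup.normalizer_eq_top_iff]
      exact eq_top_iff.mpr fun g _ => hcon g
    apply hL₀top
    rw [eq_top_iff, ← hmin.1]
    exact (normalClosure_le_normal (le_refl Yl)).trans hYL₀
  refine ⟨?_, hnot⟩
  constructor
  · intro a ha b hb
    apply Subtype.ext
    exact hYc _ (mem_subgroupOf.mp ha) _ (mem_subgroupOf.mp hb)
  · exact hKn
  · exact hKL.trans hLN
  · -- `K` is the normal closure of `Yl ⊓ K`
    have h1 : pCoreOf p L = K.map L.subtype := rfl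
    have h2 : (Y ⊓ pCoreOf p L).subgroupOf L = Yl ⊓ K := by
      ext z
      rw [mem_subgroupOf, mem_inf, mem_inf, hYldef, mem_subgroupOf, h1]
      constructor
      · rintro ⟨hz1, ⟨w, hw, hwz⟩⟩
        refine ⟨hz1, ?_⟩
        have : w = z := Subtype.ext hwz
        rw [← this]; exact hw
      · rintro ⟨hz1, hz2⟩
        exact ⟨hz1, ⟨z, hz2, rfl⟩⟩
    rw [h2, h1] at hcl
    have h3 := Subgroup.map_injective L.subtype_injective hcl
    exact le_of_eq h3
  · -- `C ≤ K`
    have hCn : (Yl ⊓ center ↥L).Normal := by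
      constructor
      intro n hn g
      have hc : n ∈ center ↥L := hn.2
      have : g * n * g⁻¹ = n := by
        rw [mem_center_iff] at hc
        rw [hc g]; group
      rw [this]; exact hn
    have hYlp : IsPGroup p Yl := hYp.comap_subtype
    have hCp : IsPGroup p (Yl ⊓ center ↥L : Subgroup ↥L) := hYlp.to_le inf_le_left
    exact Cfsg.Agent.Lib.Helper1.le_pCore hCn hCp
  · exact hmin.1
  · intro g hg
    exact hgen g (fun h => hg (hLN h))
  · intro g hg
    have := hint g (fun h => hg (hLN h))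
    change Yl ⊓ Yl.map (MulAut.conj g).toMonoidHom ≤ center ↥L
    rw [this]
    exact inf_le_right

/-- the decomposition property in `L / O_p(L)` -/
theorem frakL_decQ (M L : Subgroup G) (hL : IsInFrakL p M L) (x : ↥L ⧸ pCore p ↥L) (hx1 : x ≠ 1)
    (hxo : (orderOf x).Coprime p) :
    DecQ p (((largestPReducedOf p M).subgroupOf L).map (QuotientGroup.mk' (pCore p ↥L))) x := by
  obtain ⟨hYL, -, hAN, hmin, -, hmax, hiso⟩ := hL
  set Y := largestPReducedOf p M with hYdef
  have hYe : IsElementaryAbelian p Y :=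
    (Cfsg.Agent.Lib.Helper16.largestPReducedOf_spec' (p := p) M).2.1.2.1
  have hYp : IsPGroup p Y := Cfsg.Agent.Lib.Helper16.isPGroup_of_isElementaryAbelian hYe
  obtain ⟨hKL, hYL₀, hLN, hL₀top, hgen⟩ := frakL_config Y L hYL hYp hAN hmin hmax
  obtain ⟨hnorm, hgen'⟩ := quot_config (pCore p ↥L) _ _ hKL hYL₀ hLN hL₀top hgen
  set Yb := (Y.subgroupOf L).map (QuotientGroup.mk' (pCore p ↥L)) with hYbdef
  have hcard : Nat.card Yb = (Y ⊓ pCoreOf p L).relIndex Y := card_map_mk_pCore Y L hYL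
  have hYbp : IsPGroup p Yb := (hYp.comap_subtype).map _
  have hYbexp : ∀ y ∈ Yb, y ^ p = 1 := by
    rintro _ ⟨y, hy, rfl⟩
    rw [← map_pow]
    have : y ^ p = 1 := by
      apply Subtype.ext
      rw [SubgroupClass.coe_pow]
      exact hYe.2 _ hy
    rw [this, map_one]
  have hYbne : Yb ≠ ⊥ := by
    intro h0
    apply hL₀top
    rw [eq_top_iff]
    refine le_trans ?_ hKL
    rw [← hmin.1]
    apply normalClosure_le_normal
    intro y hy
    have : QuotientGroup.mk' (pCore p ↥L) y ∈ Yb := ⟨y, hy, rfl⟩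
    rw [h0, mem_bot, QuotientGroup.mk'_apply, QuotientGroup.eq_one_iff] at this
    exact this
  have hO : ∀ K : Subgroup (↥L ⧸ pCore p ↥L), K.Normal → IsPGroup p K → K = ⊥ := by
    intro K hKn hKp
    have := Cfsg.Agent.Lib.Helper1.le_pCore hKn hKp
    rw [Cfsg.Agent.Lib.Helper17.pCore_quot_eq_bot] at this
    exact le_bot_iff.mp this
  rcases hiso with ⟨F, hField, hFin, hFcard, ⟨e⟩⟩ | ⟨hp2, F, hField, hFin, m, hFm, hFcard, ⟨e⟩⟩ |
    ⟨hp2, r, hr, hr2, ⟨e⟩⟩
  · -- `SL₂(F)`
    apply DecQ.of_map e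
    apply decQ_SL2 p
    · exact hYbp.map _
    · rw [card_map_of_injective e.injective, hcard, hFcard]
    · intro h
      exact hx1 ((MulEquiv.map_eq_one_iff e).mp h)
    · rw [MulEquiv.orderOf_eq]; exact hxo
  · -- Suzuki
    subst hp2
    have hodd : ¬ 2 ∣ orderOf x := by
      intro h
      have := Nat.Coprime.eq_one_of_dvd hxo.symm h
      omega
    by_cases hm : 1 ≤ m
    · left
      apply DecX.of_map e
      apply decX_LieSz hFm hm
      · rintro _ ⟨y, hy, rfl⟩
        rw [← map_pow, hYbexp y hy, map_one]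
      · rw [card_map_of_injective e.injective, hcard, hFcard]
      · intro h
        exact hx1 ((MulEquiv.map_eq_one_iff e).mp h)
      · rw [MulEquiv.orderOf_eq]; exact hodd
    · have hm0 : m = 0 := by omega
      subst hm0
      left
      apply decX_of_card_two Yb _ hO hgen' x hx1 hxo
      rw [hcard, ← hFcard, hFm]; norm_num
  · -- dihedral
    subst hp2
    left
    apply decX_of_card_two Yb _ hO hgen' x hx1 hxo
    obtain ⟨k, hk⟩ := IsPGroup.iff_card.mp hYbp
    have hX : Nat.card (↥L ⧸ pCore 2 ↥L) = 2 * r := by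
      rw [Nat.card_congr e.toEquiv, DihedralGroup.nat_card]
    have hdvd : 2 ^ k ∣ 2 * r := by
      rw [← hk, ← hX]
      exact Subgroup.card_subgroup_dvd_card Yb
    have hk0 : k ≠ 0 := by
      rintro rfl
      rw [pow_zero] at hk
      exact hYbne (Subgroup.card_eq_one.mp hk)
    have hrodd : ¬ 2 ∣ r := by
      intro h
      exact hr2 ((Nat.prime_dvd_prime_iff_eq Nat.prime_two hr).mp h).symm
    have hk1 : k ≤ 1 := by
      by_contra hk1
      push Not at hk1
      have h4 : 2 ^ 2 ∣ 2 * r := (pow_dvd_pow 2 hk1).trans hdvd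
      have : 2 ∣ r := by
        have h5 : 2 * 2 ∣ 2 * r := by simpa [pow_two] using h4
        exact (Nat.mul_dvd_mul_iff_left (by norm_num)).mp h5
      exact hrodd this
    have : k = 1 := by omega
    rw [hk, this, pow_one]

/-- the main theorem inside `↥L` -/
theorem frakL_fpf (M L : Subgroup G) (hL : IsInFrakL p M L) (t : ↥L)
    (ht : ¬ ∃ k : ℕ, orderOf t = p ^ k) :
    Fpf ((largestPReducedOf p M).subgroupOf L) (pCore p ↥L) t := by
  obtain ⟨hcfg, hnot⟩ := frakL_cfg M L hL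
  haveI : (pCore p ↥L).Normal := hcfg.Kn
  have hK : IsPGroup p (pCore p ↥L) := Cfsg.Agent.Lib.Helper1.pCore_isPGroup p ↥L
  apply fpf_of_fpfX hK _ t ht
  intro x hx1 hxo
  exact fpfX_of_decQ hcfg hK hnot (frakL_decQ M L hL x hx1 hxo)

/-- the main theorem, stated in `G` -/
theorem frakL_fpf_main (M L : Subgroup G) (hL : IsInFrakL p M L) (h : G) (hh : h ∈ L)
    (hnp : ¬ ∃ k : ℕ, orderOf h = p ^ k) :
    ∀ a ∈ pCoreOf p L,
      h * a * h⁻¹ * a⁻¹ ∈ largestPReducedOf p M ⊓ centralizer ((L : Subgroup G) : Set G) →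
      a ∈ largestPReducedOf p M ⊓ centralizer ((L : Subgroup G) : Set G) := by
  have key := frakL_fpf M L hL ⟨h, hh⟩ (by
    rintro ⟨k, hk⟩
    apply hnp
    exact ⟨k, by rw [← hk]; exact (Subgroup.orderOf_mk h hh).symm⟩)
  have hiff : ∀ z : ↥L, z ∈ (largestPReducedOf p M).subgroupOf L ⊓ center ↥L ↔
      (z : G) ∈ largestPReducedOf p M ⊓ centralizer ((L : Subgroup G) : Set G) := by
    intro z
    rw [mem_inf, mem_inf, mem_subgroupOf, mem_center_iff, mem_centralizer_iff]
    constructor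
    · rintro ⟨h1, h2⟩
      refine ⟨h1, ?_⟩
      intro l hl
      have := h2 ⟨l, hl⟩
      exact congrArg Subtype.val this
    · rintro ⟨h1, h2⟩
      refine ⟨h1, ?_⟩
      intro l
      apply Subtype.ext
      exact h2 l l.2
  rintro _ ⟨a, ha, rfl⟩ hcomm
  have h1 : (⟨h, hh⟩ : ↥L) * a * (⟨h, hh⟩ : ↥L)⁻¹ * a⁻¹ ∈
      (largestPReducedOf p M).subgroupOf L ⊓ center ↥L := by
    rw [hiff]
    exact hcomm
  exact (hiff a).mp (key a ha h1)

end Cfsg.Agent.Lib.Helper26.FrakLFpf
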