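import Mathlib
import Cfsg.Prelude.Def_LocalStructure
import Cfsg.Agent.Lib.Helper26.FrakLQuotF

/-!
# S2861: `Y_M A / A` is the unique nontrivial elementary abelian normal `p`-subgroup of `N_L(Y_M)/A`
(helper26)
-/

set_option autoImplicit false
set_option linter.unusedSectionVars false
set_option linter.style.haveILetI false

namespace Cfsg.Agent.Lib.Helper26.FrakLQuot

open Subgroup Cfsg

variable {G : Type*} [Group G] [Finite G] {p : ℕ} [Fact p.Prime]

theorem frakL_quot_main (M L : Subgroup G) (hL : IsInFrakL p M L) (NL : Subgroup G)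
    (hNL : NL = L ⊓ normalizer (((largestPReducedOf p M) : Subgroup G) : Set G))
    [hn : ((pCoreOf p L).subgroupOf NL).Normal] :
    let Ybar : Subgroup (↥NL ⧸ (pCoreOf p L).subgroupOf NL) :=
      ((largestPReducedOf p M).subgroupOf NL).map (QuotientGroup.mk' ((pCoreOf p L).subgroupOf NL))
    Ybar ≠ ⊥ ∧ Ybar.Normal ∧ IsElementaryAbelian p Ybar ∧
      ∀ V : Subgroup (↥NL ⧸ (pCoreOf p L).subgroupOf NL), V.Normal → IsElementaryAbelian p V →
        V ≠ ⊥ → V = Ybar := by
  intro Ybar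
  obtain ⟨hYL₀, hYbne, hnorm, hU⟩ := frakL_uniq M L hL
  have hYL : largestPReducedOf p M ≤ L := hL.1
  have hYe : IsElementaryAbelian p (largestPReducedOf p M) :=
    (Cfsg.Agent.Lib.Helper16.largestPReducedOf_spec' (p := p) M).2.1.2.1
  set Y := largestPReducedOf p M with hYdef
  set A := pCoreOf p L with hAdef
  have hNLL : NL ≤ L := by rw [hNL]; exact inf_le_left
  have hYNL : Y ≤ NL := by rw [hNL]; exact le_inf hYL le_normalizer
  set π := QuotientGroup.mk' (pCore p ↥L) with hπ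
  set ψ : ↥NL →* ↥L ⧸ pCore p ↥L := π.comp (Subgroup.inclusion hNLL) with hψ
  have hker : ∀ x : ↥NL, ψ x = 1 ↔ x ∈ A.subgroupOf NL := by
    intro x
    rw [hψ, MonoidHom.comp_apply, hπ, QuotientGroup.mk'_apply, QuotientGroup.eq_one_iff,
      mem_subgroupOf, hAdef]
    unfold pCoreOf
    constructor
    · intro h
      exact ⟨_, h, rfl⟩
    · rintro ⟨y, hy, hyx⟩
      have : y = Subgroup.inclusion hNLL x := Subtype.ext hyx
      rw [← this]; exact hy
  set ψb : ↥NL ⧸ A.subgroupOf NL →* ↥L ⧸ pCore p ↥L :=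
    QuotientGroup.lift (A.subgroupOf NL) ψ (fun x hx => (hker x).mpr hx) with hψb
  have hψb_mk : ∀ x : ↥NL, ψb (QuotientGroup.mk' (A.subgroupOf NL) x) = ψ x := fun x => rfl
  have hinj : Function.Injective ψb := by
    rw [injective_iff_map_eq_one]
    intro q hq
    obtain ⟨x, rfl⟩ := QuotientGroup.mk'_surjective (A.subgroupOf NL) q
    rw [hψb_mk, hker] at hq
    rw [QuotientGroup.mk'_apply, QuotientGroup.eq_one_iff]
    exact hq
  have hmap : Ybar.map ψb = (Y.subgroupOf L).map π := by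
    apply le_antisymm
    · rintro _ ⟨_, ⟨y, hy, rfl⟩, rfl⟩
      rw [hψb_mk]
      exact ⟨Subgroup.inclusion hNLL y, hy, rfl⟩
    · rintro _ ⟨y, hy, rfl⟩
      replace hy : (y : G) ∈ Y := mem_subgroupOf.mp hy
      refine ⟨QuotientGroup.mk' (A.subgroupOf NL) ⟨(y : G), hYNL hy⟩, ⟨⟨(y : G), hYNL hy⟩, hy, rfl⟩, ?_⟩
      rw [hψb_mk]
      rfl
  have hrange : ψb.range = normalizer ((((Y.subgroupOf L).map π : Subgroup (↥L ⧸ pCore p ↥L))) :
      Set (↥L ⧸ pCore p ↥L)) := by
    rw [hnorm]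
    apply le_antisymm
    · rintro _ ⟨q, rfl⟩
      obtain ⟨x, rfl⟩ := QuotientGroup.mk'_surjective (A.subgroupOf NL) q
      rw [hψb_mk]
      refine ⟨Subgroup.inclusion hNLL x, ?_, rfl⟩
      apply mem_subgroupOf.mpr
      rw [← hNL]
      exact x.2
    · rintro _ ⟨y, hy, rfl⟩
      replace hy : (y : G) ∈ L ⊓ normalizer (Y : Set G) := mem_subgroupOf.mp hy
      rw [← hNL] at hy
      refine ⟨QuotientGroup.mk' (A.subgroupOf NL) ⟨(y : G), hy⟩, ?_⟩
      rw [hψb_mk]
      rfl
  have hYbar_ne : Ybar ≠ ⊥ := by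
    intro h0
    apply hYbne
    rw [← hmap, h0, Subgroup.map_bot]
  have hYn : (Y.subgroupOf NL).Normal := by
    rw [normal_subgroupOf_iff_le_normalizer hYNL, hNL]
    exact inf_le_right
  have hYbar_n : Ybar.Normal :=
    hYn.map _ (QuotientGroup.mk'_surjective (A.subgroupOf NL))
  have hYbar_e : IsElementaryAbelian p Ybar := by
    constructor
    · refine ⟨⟨?_⟩⟩
      rintro ⟨_, ⟨a, ha, rfl⟩⟩ ⟨_, ⟨b, hb, rfl⟩⟩
      apply Subtype.ext
      change QuotientGroup.mk' (A.subgroupOf NL) a * QuotientGroup.mk' (A.subgroupOf NL) b =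
        QuotientGroup.mk' (A.subgroupOf NL) b * QuotientGroup.mk' (A.subgroupOf NL) a
      rw [← map_mul, ← map_mul]
      congr 1
      apply Subtype.ext
      exact Cfsg.Agent.Lib.Helper16.comm_of_isElementaryAbelian hYe _ ha _ hb
    · rintro _ ⟨a, ha, rfl⟩
      rw [← map_pow]
      have : a ^ p = 1 := by
        apply Subtype.ext
        rw [SubgroupClass.coe_pow]
        exact hYe.2 _ ha
      rw [this, map_one]
  refine ⟨hYbar_ne, hYbar_n, hYbar_e, ?_⟩
  intro V hVn hVe hVne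
  exact uniq_pullback ψb hinj _ Ybar hmap hrange hU V hVn hVe.2 hVne

end Cfsg.Agent.Lib.Helper26.FrakLQuot
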