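import Mathlib
import Cfsg.Agent.Lib.Helper17.PrimeAct2
import Cfsg.Agent.Lib.Helper12.Cores
import Cfsg.Agent.Lib.Helper1.PGroup
import Cfsg.Agent.Lib.Helper1.Fitting

/-!
The action of a group `X` on the Frattini quotient `Q / Φ(Q)` of a normal `p`-subgroup `Q`.
If `C_X(Q) ≤ Q = O_p(X)` the kernel of this action is exactly `Q`, so `X / Q` embeds in
`Aut(Q / Φ(Q))`.
-/

set_option autoImplicit false
set_option linter.unusedSectionVars false

namespace Cfsg.Agent.Lib.Helper26.FratAct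

open scoped commutatorElement

/-- The automorphism of `Q ⧸ Φ(Q)` induced by an automorphism of `Q`. -/
noncomputable def fratQuot (Q : Type*) [Group Q] : MulAut Q →* MulAut (Q ⧸ frattini Q) where
  toFun φ := QuotientGroup.congr (frattini Q) (frattini Q) φ
    (Subgroup.characteristic_iff_map_eq.mp inferInstance φ)
  map_one' := by
    ext x
    induction x using QuotientGroup.induction_on
    rfl
  map_mul' φ ψ := by
    ext x
    induction x using QuotientGroup.induction_on
    rfl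

@[simp] theorem fratQuot_mk (Q : Type*) [Group Q] (φ : MulAut Q) (q : Q) :
    fratQuot Q φ (QuotientGroup.mk q) = QuotientGroup.mk (φ q) := rfl

variable {X : Type*} [Group X]

/-- The action of `X` on the Frattini quotient of a normal subgroup `Q`. -/
noncomputable def rho (Q : Subgroup X) [Q.Normal] : X →* MulAut (↥Q ⧸ frattini ↥Q) :=
  (fratQuot ↥Q).comp MulAut.conjNormal

theorem rho_mk (Q : Subgroup X) [Q.Normal] (x : X) (q : Q) :
    rho Q x (QuotientGroup.mk q) = QuotientGroup.mk (MulAut.conjNormal x q) := rfl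

theorem comm_mem_frat_of_mem_ker (Q : Subgroup X) [Q.Normal] (x : X) (hx : x ∈ (rho Q).ker)
    (v : X) (hv : v ∈ Q) : ⁅v, x⁆ ∈ Cfsg.Agent.Lib.Helper17.PrimeAct.frat Q := by
  rw [MonoidHom.mem_ker] at hx
  have h1 : rho Q x (QuotientGroup.mk (⟨v⁻¹, Q.inv_mem hv⟩ : Q)) = QuotientGroup.mk (⟨v⁻¹, Q.inv_mem hv⟩ : Q) := by
    rw [hx]; rfl
  rw [rho_mk, QuotientGroup.eq] at h1
  refine ⟨_, inv_mem h1, ?_⟩
  simp only [Subgroup.coe_subtype, Subgroup.coe_mul, Subgroup.coe_inv, MulAut.conjNormal_apply]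
  rw [commutatorElement_def]
  group

theorem le_ker_rho [Finite X] {p : ℕ} [Fact p.Prime] (Q : Subgroup X) [Q.Normal] (hQ : IsPGroup p Q) :
    Q ≤ (rho Q).ker := by
  intro x hx
  rw [MonoidHom.mem_ker]
  ext a
  induction a using QuotientGroup.induction_on with
  | H q =>
    rw [rho_mk]
    show (QuotientGroup.mk (MulAut.conjNormal x q) : ↥Q ⧸ frattini ↥Q) = QuotientGroup.mk q
    rw [QuotientGroup.eq]
    apply Cfsg.Agent.Lib.Helper1.IsPGroup.commutator_le_frattini hQ
    have : (MulAut.conjNormal x q)⁻¹ * q = ⁅(⟨x, hx⟩ : Q), q⁻¹⁆ := by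
      apply Subtype.ext
      simp only [Subgroup.coe_mul, Subgroup.coe_inv, MulAut.conjNormal_apply, commutatorElement_def]
      group
    rw [this]
    exact Subgroup.commutator_mem_commutator (Subgroup.mem_top _) (Subgroup.mem_top _)

/-- If `C_X(Q) ≤ Q` for the normal `p`-subgroup `Q`, the kernel of the action on `Q / Φ(Q)` is a `p`-group. -/
theorem isPGroup_ker_rho [Finite X] {p : ℕ} [Fact p.Prime] (Q : Subgroup X) [Q.Normal] (hQ : IsPGroup p Q)
    (hC : Subgroup.centralizer (Q : Set X) ≤ Q) : IsPGroup p (rho Q).ker := by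
  have hp : p.Prime := Fact.out
  intro g
  -- order of g = p^a * m, m coprime to p
  obtain ⟨a, m, hm, hgm⟩ := Nat.exists_eq_pow_mul_and_not_dvd (orderOf_pos (g : X)).ne' p hp.ne_one
  set h : X := (g : X) ^ (p ^ a) with hh
  have hord : orderOf h = m := by
    rw [hh, orderOf_pow' _ (pow_ne_zero a hp.ne_zero), hgm]
    rw [Nat.gcd_eq_right (Dvd.intro _ rfl)]
    exact Nat.mul_div_cancel_left m (pow_pos hp.pos a)
  have hcop : (orderOf h).Coprime p := by
    rw [hord]
    exact ((Nat.Prime.coprime_iff_not_dvd hp).mpr hm).symm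
  have hhK : h ∈ (rho Q).ker := Subgroup.pow_mem _ g.2 _
  have hhN : h ∈ Subgroup.normalizer (Q : Set X) := by
    rw [Subgroup.normalizer_eq_top]; exact Subgroup.mem_top _
  have hhC : h ∈ Subgroup.centralizer (Q : Set X) :=
    Cfsg.Agent.Lib.Helper17.PrimeAct.mem_centralizer_of_frat Q hQ h hhN hcop
      (fun v hv => comm_mem_frat_of_mem_ker Q h hhK v hv)
  have hhQ : h ∈ Q := hC hhC
  obtain ⟨k, hk⟩ := hQ ⟨h, hhQ⟩
  have hk' : h ^ p ^ k = 1 := congrArg Subtype.val hk
  have hdvd : orderOf h ∣ p ^ k := orderOf_dvd_of_pow_eq_one hk'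
  have h1 : orderOf h = 1 := by
    have := Nat.Coprime.eq_one_of_dvd (Nat.Coprime.pow_right k hcop) hdvd
    exact this
  refine ⟨a, ?_⟩
  apply Subtype.ext
  show (g : X) ^ p ^ a = 1
  exact orderOf_eq_one_iff.mp h1

/-- If `Q = O_p(X)` and `C_X(Q) ≤ Q`, then `X / Q` embeds in `Aut(Q / Φ(Q))`. -/
theorem exists_embed [Finite X] {p : ℕ} [Fact p.Prime]
    (hC : Subgroup.centralizer ((Cfsg.pCore p X : Subgroup X) : Set X) ≤ Cfsg.pCore p X) :
    ∃ f : X ⧸ Cfsg.pCore p X →* MulAut (↥(Cfsg.pCore p X) ⧸ frattini ↥(Cfsg.pCore p X)),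
      Function.Injective f := by
  have hQ : IsPGroup p (Cfsg.pCore p X) := Cfsg.Agent.Lib.Helper1.pCore_isPGroup p X
  have hle : Cfsg.pCore p X ≤ (rho (Cfsg.pCore p X)).ker := le_ker_rho _ hQ
  have hker : (rho (Cfsg.pCore p X)).ker ≤ Cfsg.pCore p X :=
    Cfsg.Agent.Lib.Helper1.le_pCore inferInstance (isPGroup_ker_rho _ hQ hC)
  refine ⟨QuotientGroup.lift (Cfsg.pCore p X) (rho (Cfsg.pCore p X)) hle, ?_⟩
  rw [injective_iff_map_eq_one]
  intro a ha
  induction a using QuotientGroup.induction_on with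
  | H x =>
    rw [QuotientGroup.lift_mk] at ha
    rw [QuotientGroup.eq_one_iff]
    exact hker ha

end Cfsg.Agent.Lib.Helper26.FratAct
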