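import Cfsg.Agent.Lib.Helper26.FSFrobenius
import Cfsg.Agent.Lib.Helper26.FSFactor
import Cfsg.Agent.Lib.Helper26.FSDirectProdB
import Cfsg.Agent.Lib.Helper26.FSNormalCrit
import Cfsg.Agent.Lib.Helper27.FMFactor4

/-!
helper26: towards the strengthened Frobenius criterion (S5195).  Part A: if `Q` is normal in `F`, `Aut_F(Q)` is a
`p`-group and the factor system `F/Q` is inner, then every `Aut_F(P)` is a `p`-group.
-/

set_option autoImplicit false
set_option linter.unusedSectionVars false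
set_option linter.unusedVariables false

namespace Cfsg.Agent.Lib.Helper26.FrobChar

open Cfsg Cfsg.FusionSystem Cfsg.Agent.Lib.Helper26

variable {Ω : Type*} [Group Ω] {S : Subgroup Ω} {Ω' : Type*} [Group Ω']

/-- stability group: an automorphism of `R` trivial on `Q` and on `R/Q` has order dividing `|Q|` -/
theorem pow_card_eq_one_of_stab {R Q : Subgroup Ω} [Finite Q] (a : MulAut R)
    (hfix : ∀ x : R, (x : Ω) ∈ Q → a x = x)
    (hmod : ∀ x : R, ((a x : R) : Ω) * (x : Ω)⁻¹ ∈ Q) : a ^ Nat.card Q = 1 := by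
  have key : ∀ (n : ℕ) (x : R), (a ^ n) x = (a x * x⁻¹) ^ n * x := by
    intro n
    induction n with
    | zero => intro x; simp
    | succ n ih =>
      intro x
      have hc : a (a x * x⁻¹) = a x * x⁻¹ := hfix _ (hmod x)
      rw [pow_succ', MulAut.mul_apply, ih, map_mul, map_pow, hc, pow_succ, mul_assoc, inv_mul_cancel_right]
  ext x
  rw [key, MulAut.one_apply]
  have h1 : ((a x * x⁻¹ : R) : Ω) ^ Nat.card Q = 1 := by
    have h2 : (⟨((a x * x⁻¹ : R) : Ω), hmod x⟩ : Q) ^ Nat.card Q = 1 := pow_card_eq_one'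
    exact congrArg Subtype.val h2
  have h3 : (a x * x⁻¹ : R) ^ Nat.card Q = 1 := by
    apply Subtype.ext
    rw [Subgroup.coe_pow]
    exact h1
  rw [h3, one_mul]

theorem isPGroup_autGroup_of_factor_inner [Finite S] {p : ℕ} [Fact p.Prime] (hS : IsPGroup p S)
    (F : FusionSystem S) (hF : F.IsSaturated p) {Q : Subgroup Ω} (hQ : F.IsNormal Q)
    (hQp : IsPGroup p (F.autGroup Q)) {S' : Subgroup Ω'} (θ : S →* Ω') (E : FusionSystem S')
    (hE : F.IsFactorSystem Q θ E)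
    (hin : ∀ P' : Subgroup Ω', E.Hom P' ⊆ (innerFusionSystem S').Hom P') :
    ∀ P : Subgroup Ω, P ≤ S → IsPGroup p (F.autGroup P) := by
  intro P hP α
  have hQS := hQ.1
  have hsc := stronglyClosed_of_isNormal F hQ
  have hθ := factorSystem_isSurjectiveMorphism hS F hF Q hsc θ E hE
  obtain ⟨-, hker, hrange, -⟩ := hE
  haveI hfinS' : Finite ↥S' := Cfsg.Agent.Lib.Helper27.FM.finite_of_range_eq θ hrange
  have hpS' : IsPGroup p ↥S' := by
    have : IsPGroup p ↥θ.range := hS.of_surjective θ.rangeRestrict θ.rangeRestrict_surjective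
    rwa [hrange] at this
  haveI hfinQ : Finite ↥Q := finite_of_le hQS
  have hφ := (mem_autGroup_iff F hP (α : MulAut P)).mp α.2
  obtain ⟨ψ, hψ, hψφ, hψQ⟩ := hQ.2 P _ hφ
  have hRS : P ⊔ Q ≤ S := sup_le hP hQS
  have hval : ∀ y : ↥(P ⊔ Q), ψ y ∈ P ⊔ Q := by
    intro y
    have h1 := ext_apply_mem_sup _ ψ hψφ hψQ y
    have h2 : (P.subtype.comp (α : MulAut P).toMonoidHom).range ≤ P := by
      rintro _ ⟨x, rfl⟩
      exact ((α : MulAut P) x).2
    exact (sup_le_sup_right h2 Q) h1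
  obtain ⟨a, ha, hay⟩ := exists_aut_of_hom F hψ hval
  -- the action modulo `Q` is a conjugation
  obtain ⟨φ', hφ', hP', hψS, hP'', hind⟩ := hθ.1.2 _ ψ hψ
  obtain ⟨-, g', hg'S', hg'⟩ := hin _ hφ'
  have hτ : ∀ x : ↥(P ⊔ Q), θ ⟨(a x : ↥(P ⊔ Q)), hRS (a x).2⟩ = g' * θ ⟨x, hRS x.2⟩ * g'⁻¹ := by
    intro x
    have h1 := hind x
    rw [hg'] at h1
    have h2 : (⟨((a x : ↥(P ⊔ Q)) : Ω), hRS (a x).2⟩ : S) = ⟨ψ x, hψS x⟩ := Subtype.ext (hay x)
    rw [h2, ← h1]
  have hτn : ∀ (n : ℕ) (x : ↥(P ⊔ Q)),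
      θ ⟨((a ^ n) x : ↥(P ⊔ Q)), hRS ((a ^ n) x).2⟩ = g' ^ n * θ ⟨x, hRS x.2⟩ * (g' ^ n)⁻¹ := by
    intro n
    induction n with
    | zero => intro x; simp
    | succ n ih =>
      intro x
      have h1 : (a ^ (n + 1)) x = a ((a ^ n) x) := by rw [pow_succ', MulAut.mul_apply]
      have h2 : (⟨(((a ^ (n + 1)) x : ↥(P ⊔ Q)) : Ω), hRS ((a ^ (n + 1)) x).2⟩ : S) =
          ⟨((a ((a ^ n) x) : ↥(P ⊔ Q)) : Ω), hRS (a ((a ^ n) x)).2⟩ := Subtype.ext (by rw [h1])
      rw [h2, hτ, ih, pow_succ']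
      group
  -- the restriction to `Q`
  have hψQ' := inclusion_comp_mem F (le_sup_right : Q ≤ P ⊔ Q) hψ
  have hvalQ : ∀ q : ↥Q, (ψ.comp (Subgroup.inclusion (le_sup_right : Q ≤ P ⊔ Q))) q ∈ Q := by
    intro q
    exact ((map_subgroupOf_eq_iff ψ).mp hψQ).1 _ q.2
  obtain ⟨b, hb, hbq⟩ := exists_aut_of_hom F hψQ' hvalQ
  have hbn : ∀ (n : ℕ) (q : ↥Q), (((b ^ n) q : ↥Q) : Ω) =
      (((a ^ n) (Subgroup.inclusion (le_sup_right : Q ≤ P ⊔ Q) q) : ↥(P ⊔ Q)) : Ω) := by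
    intro n
    induction n with
    | zero => intro q; rfl
    | succ n ih =>
      intro q
      rw [pow_succ', pow_succ', MulAut.mul_apply, MulAut.mul_apply, hbq, hay]
      show ψ _ = ψ _
      congr 1
      exact Subtype.ext (ih q)
  have hαn : ∀ (n : ℕ) (x : ↥P), ((((α : MulAut P) ^ n) x : ↥P) : Ω) =
      (((a ^ n) (Subgroup.inclusion (le_sup_left : P ≤ P ⊔ Q) x) : ↥(P ⊔ Q)) : Ω) := by
    intro n
    induction n with
    | zero => intro x; rfl
    | succ n ih =>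
      intro x
      rw [pow_succ', pow_succ', MulAut.mul_apply, MulAut.mul_apply, hay]
      have h1 := hψφ (((α : MulAut P) ^ n) x)
      have h2 : (P.subtype.comp (α : MulAut P).toMonoidHom) (((α : MulAut P) ^ n) x) =
          (((α : MulAut P) (((α : MulAut P) ^ n) x) : ↥P) : Ω) := rfl
      rw [← h2, ← h1]
      congr 1
      exact Subtype.ext (ih x)
  -- exponents
  obtain ⟨m, hm⟩ := IsPGroup.exists_card_eq hpS'
  obtain ⟨k, hk⟩ := hQp ⟨b, hb⟩
  obtain ⟨l, hl⟩ := IsPGroup.exists_card_eq (hS.to_le hQS)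
  have hbk : b ^ (p ^ k) = 1 := by
    have := congrArg Subtype.val hk
    rwa [Subgroup.coe_pow] at this
  have hg'm : g' ^ (p ^ m) = 1 := by
    have h1 : (⟨g', hg'S'⟩ : ↥S') ^ Nat.card ↥S' = 1 := pow_card_eq_one'
    rw [hm] at h1
    have := congrArg Subtype.val h1
    rwa [Subgroup.coe_pow] at this
  have hbN : b ^ (p ^ k * p ^ m) = 1 := by rw [pow_mul, hbk, one_pow]
  have hgN : g' ^ (p ^ k * p ^ m) = 1 := by rw [mul_comm, pow_mul, hg'm, one_pow]
  have hstab : (a ^ (p ^ k * p ^ m)) ^ Nat.card ↥Q = 1 := by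
    apply pow_card_eq_one_of_stab
    · intro x hx
      apply Subtype.ext
      have h1 := hbn (p ^ k * p ^ m) ⟨x, hx⟩
      rw [hbN] at h1
      have h2 : Subgroup.inclusion (le_sup_right : Q ≤ P ⊔ Q) ⟨(x : Ω), hx⟩ = x := Subtype.ext rfl
      rw [h2] at h1
      exact h1.symm
    · intro x
      have h1 := hτn (p ^ k * p ^ m) x
      rw [hgN, one_mul, inv_one, mul_one] at h1
      have h2 : θ ((⟨_, hRS ((a ^ (p ^ k * p ^ m)) x).2⟩ : S) * (⟨x, hRS x.2⟩ : S)⁻¹) = 1 := by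
        rw [map_mul, map_inv, h1, mul_inv_cancel]
      exact (hker _).mp h2
  rw [hl, ← pow_mul] at hstab
  refine ⟨k + m + l, ?_⟩
  apply Subtype.ext
  rw [Subgroup.coe_pow, Subgroup.coe_one]
  ext x
  rw [MulAut.one_apply]
  have h1 := hαn (p ^ (k + m + l)) x
  have h2 : p ^ (k + m + l) = p ^ k * p ^ m * p ^ l := by rw [pow_add, pow_add]
  rw [h2, hstab] at h1
  rw [h2]
  exact h1

end Cfsg.Agent.Lib.Helper26.FrobChar
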