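import Cfsg.Agent.Lib.Helper26.FrobCharA
import Cfsg.Agent.Lib.Helper27.FMFactor5
import Cfsg.Agent.Lib.Helper27.SectionLift
import Cfsg.Prelude.Def_FusionReduction

/-!
helper26: towards the strengthened Frobenius criterion (S5195).  Part B: transport of the hypotheses to a factor system:
characteristic subgroups pull back, automorphism groups of the factor system are quotients, `H`-freeness passes to factor
systems; casting a fusion system along an equality of subgroups.
-/

set_option autoImplicit false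
set_option linter.unusedSectionVars false
set_option linter.unusedVariables false

namespace Cfsg.Agent.Lib.Helper26.FrobChar

open Cfsg Cfsg.FusionSystem Cfsg.Agent.Lib.Helper26

section Cast

variable {Ω : Type*} [Group Ω]

/-- transport of a fusion system along an equality of the underlying subgroups -/
def castSys {T S : Subgroup Ω} (h : T = S) (N : FusionSystem T) : FusionSystem S := h ▸ N

theorem castSys_hom {T S : Subgroup Ω} (h : T = S) (N : FusionSystem T) (P : Subgroup Ω) :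
    (castSys h N).Hom P = N.Hom P := by subst h; rfl

theorem castSys_saturated {T S : Subgroup Ω} (h : T = S) (N : FusionSystem T) {p : ℕ} (hN : N.IsSaturated p) :
    (castSys h N).IsSaturated p := by subst h; exact hN

theorem castSys_isNormal {T S : Subgroup Ω} (h : T = S) (N : FusionSystem T) {Q : Subgroup Ω} (hN : N.IsNormal Q) :
    (castSys h N).IsNormal Q := by subst h; exact hN

theorem inner_hom_congr {T S : Subgroup Ω} (h : T = S) (P : Subgroup Ω) :
    (innerFusionSystem T).Hom P = (innerFusionSystem S).Hom P := by subst h; rfl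

end Cast

section CastFree

universe u v
variable {Ω : Type u} [Group Ω]

theorem castSys_sectionFree {T S : Subgroup Ω} (h : T = S) (N : FusionSystem T) {p : ℕ} (H : Type v) [Group H]
    (hN : N.IsSectionFree p H) : (castSys h N).IsSectionFree p H := by subst h; exact hN

end CastFree

section Transfer

variable {Ω : Type*} [Group Ω] {S : Subgroup Ω} {Ω' : Type*} [Group Ω']

/-- the full preimage of a characteristic subgroup of the quotient by a characteristic subgroup is characteristic -/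
theorem preimage_characteristic (θ : S →* Ω') {S' : Subgroup Ω'} (hrange : θ.range = S') {Q : Subgroup Ω}
    (hker : ∀ s : S, θ s = 1 ↔ (s : Ω) ∈ Q) (hQc : (Q.subgroupOf S).Characteristic)
    {Q' : Subgroup Ω'} (hQ'c : (Q'.subgroupOf S').Characteristic) :
    ((preimageAlong θ Q').subgroupOf S).Characteristic := by
  have hθS' : ∀ s : S, θ s ∈ S' := fun s => hrange ▸ ⟨s, rfl⟩
  let θ₀ : S →* ↥S' := θ.codRestrict S' hθS'
  have hsurj : Function.Surjective θ₀ := by
    rintro ⟨y, hy⟩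
    rw [← hrange] at hy
    obtain ⟨s, rfl⟩ := hy
    exact ⟨s, rfl⟩
  have hkerθ₀ : θ₀.ker = Q.subgroupOf S := by
    ext s
    rw [MonoidHom.mem_ker, Subgroup.mem_subgroupOf, ← hker]
    constructor
    · intro h
      exact congrArg Subtype.val h
    · intro h
      exact Subtype.ext h
  rw [Subgroup.characteristic_iff_le_comap]
  intro σ x hx
  rw [Subgroup.mem_comap, Subgroup.mem_subgroupOf, mem_preimageAlong_iff]
  rw [Subgroup.mem_subgroupOf, mem_preimageAlong_iff] at hx
  obtain ⟨hxS, hx⟩ := hx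
  refine ⟨(σ x).2, ?_⟩
  -- the induced automorphism of `S'`
  have he : θ₀.ker.map σ.toMonoidHom = θ₀.ker := by
    rw [hkerθ₀]
    exact Subgroup.characteristic_iff_map_eq.mp hQc σ
  let e : S ⧸ θ₀.ker ≃* ↥S' := QuotientGroup.quotientKerEquivOfSurjective θ₀ hsurj
  let σb : S ⧸ θ₀.ker ≃* S ⧸ θ₀.ker := QuotientGroup.congr θ₀.ker θ₀.ker σ he
  let σ' : ↥S' ≃* ↥S' := e.symm.trans (σb.trans e)
  have hσ' : ∀ s : S, σ' (θ₀ s) = θ₀ (σ s) := by
    intro s
    have h1 : e (QuotientGroup.mk s) = θ₀ s := rfl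
    have h2 : e.symm (θ₀ s) = QuotientGroup.mk s := by
      rw [← h1, MulEquiv.symm_apply_apply]
    show e (σb (e.symm (θ₀ s))) = θ₀ (σ s)
    rw [h2]
    rfl
  have h3 := (Subgroup.characteristic_iff_le_comap.mp hQ'c σ' : Q'.subgroupOf S' ≤ _)
  have h4 : θ₀ x ∈ Q'.subgroupOf S' := by
    rw [Subgroup.mem_subgroupOf]
    exact hx
  have h5 := h3 h4
  rw [Subgroup.mem_comap] at h5
  have h6 : σ' (θ₀ x) ∈ Q'.subgroupOf S' := h5
  rw [hσ', Subgroup.mem_subgroupOf] at h6
  exact h6

/-- the automorphism groups of a factor system are `p`-groups when those of the preimages are -/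
theorem isPGroup_autGroup_factor [Finite S] (F : FusionSystem S) {Q : Subgroup Ω} {S' : Subgroup Ω'}
    (θ : S →* Ω') (E : FusionSystem S') (hE : F.IsFactorSystem Q θ E) {p : ℕ} {Q' : Subgroup Ω'} (hQ'S' : Q' ≤ S')
    (hR : IsPGroup p (F.autGroup (preimageAlong θ Q'))) : IsPGroup p (E.autGroup Q') := by
  intro α'
  obtain ⟨-, hker, hrange, hhom⟩ := hE
  have hφ' := (mem_autGroup_iff E hQ'S' (α' : MulAut Q')).mp α'.2
  obtain ⟨-, φ, hφ, hPS, hφS, hP', hind⟩ := (hhom Q' _).mp hφ'
  have hval : ∀ x : ↥(preimageAlong θ Q'), φ x ∈ preimageAlong θ Q' := by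
    intro x
    rw [mem_preimageAlong_iff]
    refine ⟨hφS x, ?_⟩
    rw [← hind x]
    exact ((α' : MulAut Q') _).2
  obtain ⟨a, ha, hax⟩ := exists_aut_of_hom F hφ hval
  obtain ⟨k, hk⟩ := hR ⟨a, ha⟩
  have hak : a ^ (p ^ k) = 1 := by
    have := congrArg Subtype.val hk
    rwa [Subgroup.coe_pow] at this
  have hn : ∀ (n : ℕ) (x : ↥(preimageAlong θ Q')),
      ((((α' : MulAut Q') ^ n) ⟨θ ⟨x, hPS x.2⟩, hP' x⟩ : ↥Q') : Ω') =
        θ ⟨((a ^ n) x : ↥(preimageAlong θ Q')), hPS ((a ^ n) x).2⟩ := by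
    intro n
    induction n with
    | zero => intro x; rfl
    | succ n ih =>
      intro x
      have h1 := hind ((a ^ n) x)
      have h2 : (((α' : MulAut Q') ^ n) ⟨θ ⟨x, hPS x.2⟩, hP' x⟩ : ↥Q') =
          ⟨θ ⟨((a ^ n) x : ↥(preimageAlong θ Q')), hPS ((a ^ n) x).2⟩, hP' ((a ^ n) x)⟩ := Subtype.ext (ih x)
      rw [pow_succ', MulAut.mul_apply, h2]
      have h3 : (Q'.subtype.comp (α' : MulAut Q').toMonoidHom)
          ⟨θ ⟨((a ^ n) x : ↥(preimageAlong θ Q')), hPS ((a ^ n) x).2⟩, hP' ((a ^ n) x)⟩ =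
          (((α' : MulAut Q') ⟨θ ⟨((a ^ n) x : ↥(preimageAlong θ Q')), hPS ((a ^ n) x).2⟩, hP' ((a ^ n) x)⟩ : ↥Q') : Ω') :=
        rfl
      rw [← h3, h1]
      congr 1
      apply Subtype.ext
      show φ ((a ^ n) x) = (((a ^ (n + 1)) x : ↥(preimageAlong θ Q')) : Ω)
      rw [pow_succ', MulAut.mul_apply, hax]
  refine ⟨k, ?_⟩
  apply Subtype.ext
  rw [Subgroup.coe_pow, Subgroup.coe_one]
  ext y
  rw [MulAut.one_apply]
  have hyS' : (y : Ω') ∈ θ.range := by rw [hrange]; exact hQ'S' y.2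
  obtain ⟨s, hs⟩ := hyS'
  have hsR : (s : Ω) ∈ preimageAlong θ Q' := by
    rw [mem_preimageAlong_iff]
    refine ⟨s.2, ?_⟩
    have : (⟨(s : Ω), s.2⟩ : S) = s := Subtype.ext rfl
    rw [this, hs]
    exact y.2
  have h1 := hn (p ^ k) ⟨s, hsR⟩
  rw [hak] at h1
  have h2 : (⟨θ ⟨((⟨(s : Ω), hsR⟩ : ↥(preimageAlong θ Q')) : Ω), hPS hsR⟩, hP' ⟨s, hsR⟩⟩ : ↥Q') = y := by
    apply Subtype.ext
    show θ ⟨(s : Ω), _⟩ = y
    have : (⟨(s : Ω), hPS hsR⟩ : S) = s := Subtype.ext rfl
    rw [this, hs]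
  rw [h2] at h1
  rw [h1]
  show θ ⟨(s : Ω), _⟩ = y
  have : (⟨(s : Ω), hPS hsR⟩ : S) = s := Subtype.ext rfl
  rw [this, hs]

end Transfer

section Free

universe u u' v

variable {Ω : Type u} [Group Ω] {S : Subgroup Ω} {Ω' : Type u} [Group Ω'] {S' : Subgroup Ω'}

/-- `H`-freeness passes to factor systems by normal subgroups (as in S5241, for any `H`). -/
theorem sectionFree_factor [Finite S] {p : ℕ} [Fact p.Prime] (hS : IsPGroup p S) (F : FusionSystem S)
    (hF : F.IsSaturated p) {Q : Subgroup Ω} (hQ : F.IsNormal Q) (H : Type v) [Group H]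
    (hfree : F.IsSectionFree p H) (θ : ↥S →* Ω') (E : FusionSystem S') (hE : F.IsFactorSystem Q θ E) :
    E.IsSectionFree p H := by
  have hsc := stronglyClosed_of_isNormal F hQ
  have hθ : F.IsSurjectiveMorphism E θ := factorSystem_isSurjectiveMorphism hS F hF Q hsc θ E hE
  obtain ⟨-, hker, -, -⟩ := hE
  intro V hVfn hVc Nb hNb L' _ ι' hM' hinv
  obtain ⟨hUfn, hUc, N, hN, L, instL, ι, hM, f, hf⟩ :=
    Cfsg.Agent.Lib.Helper27.FM.exists_surjective_of_factor_model hS F hF hQ θ E hθ hker hVfn hVc Nb hNb ι' hM'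
  exact hfree _ hUfn hUc N hN L ι hM
    (Cfsg.Agent.Lib.Helper27.SectionLift.involves_of_surjective f hf hinv)

end Free

end Cfsg.Agent.Lib.Helper26.FrobChar
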