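import Cfsg.Agent.Lib.Helper26.FrobCharB
import Cfsg.Agent.S5194
import Cfsg.Agent.Lib.Helper26.FSKNormSat
import Cfsg.Agent.Lib.Helper26.FSNormalizerConstrained
import Cfsg.Agent.Lib.Helper26.FSSurjImage
import Cfsg.Agent.Lib.Helper26.FSFactorExists
import Cfsg.Agent.Lib.Helper1.GlaubF1

/-!
helper26: the strengthened Frobenius criterion (S5195): if `p` is odd or `F` is `S₄`-free and `Aut_F(Q)` is a `p`-group
for every nontrivial characteristic subgroup `Q` of `S`, then `F` is inner.  Induction on `|S|` through `N_F(Q)/Q` for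
`Q = Z(S), J(S)`, and Thompson's theorem for fusion systems (helper1's S5194).
-/

set_option autoImplicit false
set_option linter.unusedSectionVars false
set_option linter.unusedVariables false

namespace Cfsg.Agent.Lib.Helper26.FrobChar

open Cfsg Cfsg.FusionSystem Cfsg.Agent.Lib.Helper26

universe u

/-- the statement for groups of order less than `n` -/
def IH (p n : ℕ) : Prop :=
  ∀ {Ω' : Type u} [Group Ω'] {S' : Subgroup Ω'} [Finite S'], Nat.card S' < n → IsPGroup p S' →
    ∀ E : FusionSystem S', E.IsSaturated p → (p ≠ 2 ∨ E.IsSectionFree p (Equiv.Perm (Fin 4))) →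
    (∀ Q' : Subgroup Ω', Q' ≤ S' → Q' ≠ ⊥ → (Q'.subgroupOf S').Characteristic → IsPGroup p (E.autGroup Q')) →
    ∀ P' : Subgroup Ω', E.Hom P' = (innerFusionSystem S').Hom P'

variable {Ω : Type u} [Group Ω] {S : Subgroup Ω}

theorem le_normalizer_of_char {Q : Subgroup Ω} (hQS : Q ≤ S) (hQc : (Q.subgroupOf S).Characteristic) :
    S ≤ Subgroup.normalizer (Q : Set Ω) := by
  have : (Q.subgroupOf S).Normal := inferInstance
  exact (Subgroup.normal_subgroupOf_iff_le_normalizer hQS).mp this

theorem fullyNormalized_of_char [Finite S] (F : FusionSystem S) {Q : Subgroup Ω} (hQS : Q ≤ S)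
    (hQc : (Q.subgroupOf S).Characteristic) : F.IsFullyNormalized Q := by
  refine ⟨hQS, fun Q' _ => ?_⟩
  rw [normalizerIn_eq_of_le_normalizer (le_normalizer_of_char hQS hQc)]
  exact Nat.card_le_card_of_injective (Subgroup.inclusion (normalizerIn_le S Q'))
    (Subgroup.inclusion_injective _)

/-- The normalizer system of a nontrivial characteristic subgroup is inner (given the induction hypothesis). -/
theorem normalizer_inner (p : ℕ) [Fact p.Prime] [Finite S] (hS : IsPGroup p S) (F : FusionSystem S)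
    (hF : F.IsSaturated p) (hp : p ≠ 2 ∨ F.IsSectionFree p (Equiv.Perm (Fin 4)))
    (h : ∀ Q : Subgroup Ω, Q ≤ S → Q ≠ ⊥ → (Q.subgroupOf S).Characteristic → IsPGroup p (F.autGroup Q))
    (hIH : IH.{u} p (Nat.card S)) {Q : Subgroup Ω} (hQS : Q ≤ S) (hQ1 : Q ≠ ⊥)
    (hQc : (Q.subgroupOf S).Characteristic) :
    ∀ P : Subgroup Ω, F.normalizerHom Q P = (innerFusionSystem S).Hom P := by
  have hT : normalizerIn S Q = S := normalizerIn_eq_of_le_normalizer (le_normalizer_of_char hQS hQc)
  have hfn := fullyNormalized_of_char F hQS hQc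
  have hN := normalizerSystem_isNormalizerSystem F Q hQS
  have hNsat := normalizerSystem_saturated hS F hF hfn _ hN
  have hNnorm := isNormal_of_isNormalizerSystem F hQS _ hN
  obtain ⟨N', hN'def⟩ : ∃ N' : FusionSystem S, N' = castSys hT (normalizerSystem F Q hQS) := ⟨_, rfl⟩
  have hN'hom : ∀ P, N'.Hom P = F.normalizerHom Q P := fun P => by
    rw [hN'def, castSys_hom, hN P]
  have hN'sat : N'.IsSaturated p := hN'def ▸ castSys_saturated hT _ hNsat
  have hN'norm : N'.IsNormal Q := hN'def ▸ castSys_isNormal hT _ hNnorm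
  have hN'p : p ≠ 2 ∨ N'.IsSectionFree p (Equiv.Perm (Fin 4)) := by
    rcases hp with hp | hfree
    · exact Or.inl hp
    · right
      rw [hN'def]
      exact castSys_sectionFree hT _ _
        (Cfsg.Agent.Lib.Helper1.GlaubF.sectionFree_normalizer _ p hS F hF hfree Q hfn _ hN)
  have hN'aut : ∀ R : Subgroup Ω, N'.autGroup R ≤ F.autGroup R := by
    intro R
    apply Subgroup.closure_mono
    intro α hα
    have h1 : R.subtype.comp α.toMonoidHom ∈ N'.Hom R := hα
    rw [hN'hom] at h1
    exact h1.1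
  have hN'h : ∀ R : Subgroup Ω, R ≤ S → R ≠ ⊥ → (R.subgroupOf S).Characteristic →
      IsPGroup p (N'.autGroup R) := fun R hRS hR1 hRc => by
    have h1 := h R hRS hR1 hRc
    intro α
    obtain ⟨k, hk⟩ := h1 ⟨α.1, hN'aut R α.2⟩
    refine ⟨k, ?_⟩
    apply Subtype.ext
    have := congrArg Subtype.val hk
    rw [Subgroup.coe_pow] at this ⊢
    exact this
  have hsc := stronglyClosed_of_isNormal N' hN'norm
  haveI : (Q.subgroupOf S).Normal := inferInstance
  obtain ⟨E, hE⟩ := exists_factorSystem_quotient N' Q hsc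
  have hθ := factorSystem_isSurjectiveMorphism hS N' hN'sat Q hsc _ E hE
  have hEsat := surj_saturated p hS N' hN'sat E _ hθ
  haveI : Finite ↥(⊤ : Subgroup (↥S ⧸ Q.subgroupOf S)) := inferInstance
  have hpS' : IsPGroup p ↥(⊤ : Subgroup (↥S ⧸ Q.subgroupOf S)) :=
    (hS.to_quotient (Q.subgroupOf S)).to_subgroup _
  have hcard : Nat.card ↥(⊤ : Subgroup (↥S ⧸ Q.subgroupOf S)) < Nat.card ↥S := by
    rw [Subgroup.card_top, ← Subgroup.index_eq_card, ← Subgroup.card_mul_index (Q.subgroupOf S)]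
    have h1 : 1 < Nat.card ↥(Q.subgroupOf S) := by
      rw [Subgroup.one_lt_card_iff_ne_bot]
      intro hbot
      apply hQ1
      rw [eq_bot_iff]
      intro x hx
      have h2 : (⟨x, hQS hx⟩ : ↥S) ∈ Q.subgroupOf S := Subgroup.mem_subgroupOf.mpr hx
      rw [hbot, Subgroup.mem_bot] at h2
      rw [Subgroup.mem_bot]
      exact congrArg Subtype.val h2
    have h3 : 0 < (Q.subgroupOf S).index := Nat.pos_of_ne_zero Subgroup.index_ne_zero_of_finite
    nlinarith
  have hEp : p ≠ 2 ∨ E.IsSectionFree p (Equiv.Perm (Fin 4)) := by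
    rcases hN'p with hp | hfree
    · exact Or.inl hp
    · exact Or.inr (sectionFree_factor hS N' hN'sat hN'norm _ hfree _ E hE)
  have hEh : ∀ Q' : Subgroup (↥S ⧸ Q.subgroupOf S), Q' ≤ ⊤ → Q' ≠ ⊥ →
      (Q'.subgroupOf (⊤ : Subgroup (↥S ⧸ Q.subgroupOf S))).Characteristic → IsPGroup p (E.autGroup Q') := by
    intro Q' hQ'S' _ hQ'c
    apply isPGroup_autGroup_factor N' _ E hE hQ'S'
    apply hN'h _ (preimageAlong_le _ Q')
    · intro hbot
      apply hQ1
      rw [eq_bot_iff, ← hbot]
      intro y hy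
      rw [mem_preimageAlong_iff]
      refine ⟨hQS hy, ?_⟩
      rw [(hE.2.1 ⟨y, hQS hy⟩).mpr hy]
      exact Subgroup.one_mem _
    · exact preimage_characteristic _ hE.2.2.1 hE.2.1 hQc hQ'c
  have hEinner := hIH hcard hpS' E hEsat hEp hEh
  have hall := isPGroup_autGroup_of_factor_inner hS N' hN'sat hN'norm (hN'h Q hQS hQ1 hQc) _ E hE
    (fun P' => (hEinner P').subset)
  have hN'inner := eq_inner_of_forall_isPGroup hS N' hN'sat hall
  intro P
  rw [← hN'hom P, hN'inner]

end Cfsg.Agent.Lib.Helper26.FrobChar
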