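import Cfsg.Agent.Lib.Helper26.FrobCharC

/-!
helper26: the strengthened Frobenius criterion (S5195), final induction.
-/

set_option autoImplicit false
set_option linter.unusedSectionVars false
set_option linter.unusedVariables false

namespace Cfsg.Agent.Lib.Helper26.FrobChar

open Cfsg Cfsg.FusionSystem Cfsg.Agent.Lib.Helper26 Cfsg.Agent.Lib.Helper27.KL

universe u

variable {Ω : Type u} [Group Ω] {S : Subgroup Ω}

theorem zS_subgroupOf : (S ⊓ Subgroup.centralizer (S : Set Ω)).subgroupOf S = Subgroup.center ↥S := by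
  ext x
  rw [Subgroup.mem_subgroupOf, Subgroup.mem_center_iff]
  constructor
  · rintro ⟨-, hx⟩ g
    apply Subtype.ext
    exact Subgroup.mem_centralizer_iff.mp hx g g.2
  · intro hx
    refine ⟨x.2, ?_⟩
    show (x : Ω) ∈ Subgroup.centralizer (S : Set Ω)
    rw [Subgroup.mem_centralizer_iff]
    intro g hg
    exact congrArg Subtype.val (hx ⟨g, hg⟩)

theorem step (p : ℕ) [Fact p.Prime] [Finite S] (hS : IsPGroup p S) (F : FusionSystem S)
    (hF : F.IsSaturated p) (hp : p ≠ 2 ∨ F.IsSectionFree p (Equiv.Perm (Fin 4)))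
    (h : ∀ Q : Subgroup Ω, Q ≤ S → Q ≠ ⊥ → (Q.subgroupOf S).Characteristic → IsPGroup p (F.autGroup Q))
    (hIH : IH.{u} p (Nat.card S)) :
    ∀ P : Subgroup Ω, F.Hom P = (innerFusionSystem S).Hom P := by
  by_cases hS1 : S = ⊥
  · have hall : ∀ P : Subgroup Ω, P ≤ S → IsPGroup p (F.autGroup P) := by
      intro P hP α
      refine ⟨0, ?_⟩
      rw [pow_zero, pow_one]
      apply Subtype.ext
      rw [Subgroup.coe_one]
      ext x
      have h1 : ∀ y : ↥P, (y : Ω) = 1 := fun y => by
        have := hP y.2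
        rw [hS1, Subgroup.mem_bot] at this
        exact this
      rw [MulAut.one_apply, h1, h1]
    have := eq_inner_of_forall_isPGroup hS F hF hall
    intro P
    rw [this]
  · -- the two characteristic subgroups
    have hZS : S ⊓ Subgroup.centralizer (S : Set Ω) ≤ S := inf_le_left
    have hJS : Cfsg.thompsonSubgroupAOf S ≤ S := Subgroup.map_subtype_le _
    haveI : Nontrivial ↥S := (Subgroup.nontrivial_iff_ne_bot S).mpr hS1
    have hZc : ((S ⊓ Subgroup.centralizer (S : Set Ω)).subgroupOf S).Characteristic := by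
      rw [zS_subgroupOf]
      infer_instance
    have hZ1 : S ⊓ Subgroup.centralizer (S : Set Ω) ≠ ⊥ := by
      intro hbot
      have h1 : Nontrivial (Subgroup.center ↥S) := hS.center_nontrivial
      rw [← zS_subgroupOf, hbot] at h1
      rw [Subgroup.bot_subgroupOf] at h1
      exact not_nontrivial _ h1
    have hJsub : (Cfsg.thompsonSubgroupAOf S).subgroupOf S = Cfsg.thompsonSubgroupA ↥S :=
      Subgroup.comap_map_eq_self_of_injective S.subtype_injective _
    have hJc : ((Cfsg.thompsonSubgroupAOf S).subgroupOf S).Characteristic := by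
      rw [hJsub, Subgroup.characteristic_iff_map_eq]
      intro φ
      exact (Cfsg.Agent.Lib.Helper1.GlaubF.posChar_JA p).map_eq ↥S ↥S hS φ
    have hJ1 : Cfsg.thompsonSubgroupAOf S ≠ ⊥ :=
      (Cfsg.Agent.Lib.Helper1.GlaubF.posChar_JA p).WS_ne_bot hS hS1
    have hZin := normalizer_inner p hS F hF hp h hIH hZS hZ1 hZc
    have hJin := normalizer_inner p hS F hF hp h hIH hJS hJ1 hJc
    apply Cfsg.Agent.S5194.result p hS F hF hp
    · intro C hC P
      rw [hC P]
      ext φ
      constructor
      · rintro ⟨hφ, hPC, hφC, ψ, hψ, hψφ, hψfix⟩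
        have hφN : φ ∈ F.normalizerHom (S ⊓ Subgroup.centralizer (S : Set Ω)) P :=
          ⟨hφ, hPC.trans (centralizerIn_le_normalizerIn S _),
            fun x => centralizerIn_le_normalizerIn S _ (hφC x), ψ, hψ, hψφ, map_subgroupOf_eq_of_fix ψ hψfix⟩
        rw [hZin P] at hφN
        obtain ⟨hPS, g, hg, hgφ⟩ := hφN
        refine ⟨hPC, g, ?_, hgφ⟩
        rw [mem_centralizerIn_iff]
        refine ⟨hg, fun z hz => ?_⟩
        exact (Subgroup.mem_centralizer_iff.mp hz.2 g hg).symm
      · rintro ⟨hPC, g, hg, hgφ⟩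
        have hgS : g ∈ S := centralizerIn_le S _ hg
        have hPS : P ≤ S := hPC.trans (centralizerIn_le S _)
        have hφ : φ = conjHom P g := by
          ext x
          exact hgφ x
        have hcS : centralizerIn S (S ⊓ Subgroup.centralizer (S : Set Ω)) = S := by
          apply le_antisymm (centralizerIn_le S _)
          intro s hs
          rw [mem_centralizerIn_iff]
          refine ⟨hs, fun z hz => ?_⟩
          exact (Subgroup.mem_centralizer_iff.mp hz.2 s hs).symm
        refine ⟨hφ ▸ F.conj_mem hPS hgS, hPC, fun x => ?_,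
          conjHom (P ⊔ (S ⊓ Subgroup.centralizer (S : Set Ω))) g, F.conj_mem (sup_le hPS hZS) hgS, ?_, ?_⟩
        · rw [hcS, hgφ]
          exact S.mul_mem (S.mul_mem hgS (hPS x.2)) (S.inv_mem hgS)
        · intro x
          rw [hgφ]
          rfl
        · intro x
          have hx := (mem_centralizerIn_iff.mp hg).2 x x.2
          show g * (x : Ω) * g⁻¹ = x
          rw [← hx, mul_inv_cancel_right]
    · intro N hN P
      have hT : normalizerIn S (Cfsg.thompsonSubgroupAOf S) = S :=
        normalizerIn_eq_of_le_normalizer (le_normalizer_of_char hJS hJc)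
      rw [hN P, hJin P, inner_hom_congr hT]

/-- **Strengthened Frobenius criterion.** -/
theorem frob_char (p : ℕ) [Fact p.Prime] : ∀ n : ℕ, IH.{u} p n := by
  intro n
  induction n with
  | zero =>
    intro Ω' _ S' _ hlt
    exact absurd hlt (Nat.not_lt_zero _)
  | succ n ih =>
    intro Ω' _ S' _ hlt hS' E hE hp h
    apply step p hS' E hE hp h
    intro Ω'' _ S'' _ hlt'
    exact ih (lt_of_lt_of_le hlt' (Nat.lt_succ_iff.mp hlt))

end Cfsg.Agent.Lib.Helper26.FrobChar
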