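import Mathlib

/-!
Generalized extraspecial groups (part A): complements in elementary abelian groups, central direct factors
meeting the commutator subgroup trivially, internal direct products.
-/

set_option autoImplicit false
set_option linter.unusedSectionVars false
set_option linter.style.haveILetI false
universe u

namespace Cfsg.Agent.Lib.Helper26.GEx

section Compl

variable {V : Type u} [Group V] [Finite V] {p : ℕ} [Fact p.Prime]

/-- In a cyclic group `⟨v⟩` with `v ^ p = 1`, every nontrivial element generates `v`. -/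
theorem mem_zpowers_of_mem_zpowers_ne_one {X : Type u} [Group X] {v c : X} (hv : v ^ p = 1) (hc : c ∈ Subgroup.zpowers v)
    (hc1 : c ≠ 1) : v ∈ Subgroup.zpowers c := by
  have hpp : p.Prime := Fact.out
  have hv1 : v ≠ 1 := by
    rintro rfl
    rw [Subgroup.zpowers_one_eq_bot, Subgroup.mem_bot] at hc
    exact hc1 hc
  have hcard : Nat.card (Subgroup.zpowers v) = p := by
    rw [Nat.card_zpowers, orderOf_eq_prime hv hv1]
  have hne : (⟨c, hc⟩ : Subgroup.zpowers v) ≠ 1 := fun h => hc1 (congrArg Subtype.val h)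
  have h3 := mem_zpowers_of_prime_card (G := Subgroup.zpowers v) hcard hne (g' := ⟨v, Subgroup.mem_zpowers v⟩)
  obtain ⟨k, hk⟩ := Subgroup.mem_zpowers_iff.mp h3
  rw [Subgroup.mem_zpowers_iff]
  refine ⟨k, ?_⟩
  have := congrArg Subtype.val hk
  rwa [Subgroup.coe_zpow] at this

/-- Every subgroup of a finite elementary abelian group has a complement. -/
theorem exists_compl (hab : ∀ a b : V, a * b = b * a) (hexp : ∀ v : V, v ^ p = 1) (K : Subgroup V) :
    ∃ A : Subgroup V, A ⊓ K = ⊥ ∧ A ⊔ K = ⊤ := by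
  letI : CommGroup V := { ‹Group V› with mul_comm := hab }
  have hmem : (⊥ : Subgroup V) ∈ {A : Subgroup V | A ⊓ K = ⊥} := bot_inf_eq K
  obtain ⟨A, -, hA⟩ := (Set.toFinite {A : Subgroup V | A ⊓ K = ⊥}).exists_le_maximal hmem
  have hAK : A ⊓ K = ⊥ := hA.prop
  refine ⟨A, hAK, ?_⟩
  by_contra hne
  obtain ⟨v, hv⟩ : ∃ v : V, v ∉ A ⊔ K := by
    by_contra h
    push Not at h
    exact hne (eq_top_iff.mpr fun x _ => h x)
  have hA' : (A ⊔ Subgroup.zpowers v) ⊓ K = ⊥ := by
    rw [eq_bot_iff]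
    intro g hg
    rw [Subgroup.mem_inf] at hg
    obtain ⟨hg1, hgK⟩ := hg
    obtain ⟨a, ha, c, hc, rfl⟩ := Subgroup.mem_sup.mp hg1
    by_cases hc1 : c = 1
    · rw [hc1, mul_one] at hgK ⊢
      rw [← hAK]
      exact ⟨ha, hgK⟩
    · exfalso
      apply hv
      have h1 := mem_zpowers_of_mem_zpowers_ne_one (p := p) (hexp v) hc hc1
      have h2 : c ∈ A ⊔ K := by
        have : c = a⁻¹ * (a * c) := by group
        rw [this]
        exact Subgroup.mul_mem _ (Subgroup.mem_sup_left (A.inv_mem ha)) (Subgroup.mem_sup_right hgK)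
      exact (Subgroup.zpowers_le.mpr h2) h1
  have hle : A ⊔ Subgroup.zpowers v ≤ A := hA.le_of_ge hA' le_sup_left
  apply hv
  exact Subgroup.mem_sup_left (hle (Subgroup.mem_sup_right (Subgroup.mem_zpowers v)))

/-- Complements inside an elementary abelian subgroup. -/
theorem exists_compl_in {G : Type u} [Group G] [Finite G] (Z K : Subgroup G) (hKZ : K ≤ Z)
    (hab : ∀ a ∈ Z, ∀ b ∈ Z, a * b = b * a) (hexp : ∀ a ∈ Z, a ^ p = 1) :
    ∃ A : Subgroup G, A ≤ Z ∧ A ⊓ K = ⊥ ∧ A ⊔ K = Z := by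
  obtain ⟨A', h1, h2⟩ := exists_compl (V := ↥Z) (p := p)
    (fun a b => Subtype.ext (hab a a.2 b b.2))
    (fun a => Subtype.ext (by rw [Subgroup.coe_pow]; exact hexp a a.2)) (K.subgroupOf Z)
  have hKmap : (K.subgroupOf Z).map Z.subtype = K := by
    rw [Subgroup.subgroupOf_map_subtype, inf_eq_left]
    exact hKZ
  refine ⟨A'.map Z.subtype, Subgroup.map_subtype_le A', ?_, ?_⟩
  · rw [eq_bot_iff]
    intro g hg
    rw [Subgroup.mem_inf] at hg
    obtain ⟨⟨a, ha, rfl⟩, hgK⟩ := hg
    have h3 : a ∈ A' ⊓ K.subgroupOf Z := ⟨ha, Subgroup.mem_subgroupOf.mpr hgK⟩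
    rw [h1, Subgroup.mem_bot] at h3
    rw [h3, map_one]
    exact Subgroup.one_mem _
  · conv_lhs => rw [← hKmap]
    rw [← Subgroup.map_sup, h2, ← MonoidHom.range_eq_map, Subgroup.range_subtype]

end Compl

section Factor

variable {G : Type u} [Group G]

/-- A subgroup meeting the commutator subgroup trivially, in a finite group whose abelianization has exponent `p`,
has a normal complement. -/
theorem exists_direct_factor [Finite G] {p : ℕ} [Fact p.Prime] (hexpQ : ∀ g : G, g ^ p ∈ commutator G)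
    (A₀ : Subgroup G) (hA₀ : A₀ ⊓ commutator G = ⊥) :
    ∃ E : Subgroup G, commutator G ≤ E ∧ E ⊓ A₀ = ⊥ ∧ E ⊔ A₀ = ⊤ := by
  have hker : ∀ g : G, Abelianization.of g = 1 ↔ g ∈ commutator G := by
    intro g
    rw [← MonoidHom.mem_ker, Abelianization.ker_of]
  have hexp : ∀ v : Abelianization G, v ^ p = 1 := by
    intro v
    obtain ⟨g, rfl⟩ := QuotientGroup.mk_surjective (s := commutator G) v
    show (Abelianization.of g) ^ p = 1
    rw [← map_pow, hker]
    exact hexpQ g
  obtain ⟨W, hW1, hW2⟩ := exists_compl (p := p) (fun a b => mul_comm a b) hexp (A₀.map Abelianization.of)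
  refine ⟨W.comap Abelianization.of, ?_, ?_, ?_⟩
  · intro g hg
    rw [Subgroup.mem_comap, (hker g).mpr hg]
    exact W.one_mem
  · rw [eq_bot_iff]
    intro g hg
    rw [Subgroup.mem_inf, Subgroup.mem_comap] at hg
    have h1 : Abelianization.of g ∈ W ⊓ A₀.map Abelianization.of :=
      ⟨hg.1, Subgroup.mem_map_of_mem _ hg.2⟩
    rw [hW1, Subgroup.mem_bot, hker] at h1
    rw [← hA₀]
    exact ⟨hg.2, h1⟩
  · rw [eq_top_iff]
    intro g _
    have h1 : Abelianization.of g ∈ W ⊔ A₀.map Abelianization.of := hW2 ▸ Subgroup.mem_top _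
    obtain ⟨w, hw, a', ha', hwa⟩ := Subgroup.mem_sup.mp h1
    obtain ⟨a, ha, rfl⟩ := ha'
    have h2 : g * a⁻¹ ∈ W.comap Abelianization.of := by
      rw [Subgroup.mem_comap, map_mul, map_inv, ← hwa, mul_inv_cancel_right]
      exact hw
    have h3 : g = (g * a⁻¹) * a := by group
    rw [h3]
    exact Subgroup.mul_mem _ (Subgroup.mem_sup_left h2) (Subgroup.mem_sup_right ha)

/-- Factorization of elements when `E ⊔ A₀ = ⊤` with `A₀` central. -/
theorem exists_mul_eq (E A₀ : Subgroup G) (hA₀ : A₀ ≤ Subgroup.center G) (hsup : E ⊔ A₀ = ⊤) (g : G) :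
    ∃ e ∈ E, ∃ a ∈ A₀, g = e * a := by
  have hcomm : ∀ (m : E) (n : A₀), Commute (E.subtype m) (A₀.subtype n) := by
    intro m n
    exact Subgroup.mem_center_iff.mp (hA₀ n.2) m
  have hrange : (MonoidHom.noncommCoprod E.subtype A₀.subtype hcomm).range = ⊤ := by
    rw [MonoidHom.noncommCoprod_range, Subgroup.range_subtype, Subgroup.range_subtype]
    exact hsup
  obtain ⟨⟨e, a⟩, h⟩ := MonoidHom.range_eq_top.mp hrange g
  rw [MonoidHom.noncommCoprod_apply] at h
  exact ⟨e, e.2, a, a.2, h.symm⟩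

/-- Internal direct product with a central factor. -/
theorem nonempty_mulEquiv_prod (E A₀ : Subgroup G) (hA₀ : A₀ ≤ Subgroup.center G) (hinf : E ⊓ A₀ = ⊥)
    (hsup : E ⊔ A₀ = ⊤) : Nonempty (G ≃* ↥E × ↥A₀) := by
  have hcomm : ∀ (m : E) (n : A₀), Commute (E.subtype m) (A₀.subtype n) := by
    intro m n
    exact Subgroup.mem_center_iff.mp (hA₀ n.2) m
  have hrange : (MonoidHom.noncommCoprod E.subtype A₀.subtype hcomm).range = ⊤ := by
    rw [MonoidHom.noncommCoprod_range, Subgroup.range_subtype, Subgroup.range_subtype]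
    exact hsup
  have hsurj : Function.Surjective (MonoidHom.noncommCoprod E.subtype A₀.subtype hcomm) :=
    MonoidHom.range_eq_top.mp hrange
  have hinj : Function.Injective (MonoidHom.noncommCoprod E.subtype A₀.subtype hcomm) := by
    rw [injective_iff_map_eq_one]
    rintro ⟨e, a⟩ h
    rw [MonoidHom.noncommCoprod_apply] at h
    have h1 : (e : G) = (a : G)⁻¹ := eq_inv_of_mul_eq_one_left h
    have h2 : (e : G) ∈ E ⊓ A₀ := ⟨e.2, h1 ▸ A₀.inv_mem a.2⟩
    rw [hinf, Subgroup.mem_bot] at h2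
    have h3 : (a : G) = 1 := by
      rw [h2] at h1
      exact inv_eq_one.mp h1.symm
    exact Prod.ext (Subtype.ext h2) (Subtype.ext h3)
  exact ⟨(MulEquiv.ofBijective _ ⟨hinj, hsurj⟩).symm⟩

end Factor

end Cfsg.Agent.Lib.Helper26.GEx
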