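import Cfsg.Agent.Lib.Helper26.OrderPCubeB
import Cfsg.Agent.Lib.Helper26.EssTransvB

/-!
Groups of order `p⁴` carrying `EssData`: part A (generic tools: chains of length four, cardinalities of subgroups,
commutator homomorphisms).
-/

set_option autoImplicit false
universe u

namespace Cfsg.Agent.Lib.Helper26

open Cfsg
open scoped commutatorElement

section Tools

variable {H : Type u} [Group H]

/-- The chain `⊥ ≤ T₁ ≤ T₂ ≤ T₃ ≤ ⊤`. -/
def chain5 (T1 T2 T3 : Subgroup H) : ℕ → Subgroup H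
  | 0 => ⊥
  | 1 => T1
  | 2 => T2
  | 3 => T3
  | _ => ⊤

theorem chain5_mono {T1 T2 T3 : Subgroup H} (h12 : T1 ≤ T2) (h23 : T2 ≤ T3) : Monotone (chain5 T1 T2 T3) := by
  apply monotone_nat_of_le_succ
  intro n
  match n with
  | 0 => exact bot_le
  | 1 => exact h12
  | 2 => exact h23
  | 3 => exact le_top
  | (n + 4) => exact le_rfl

/-- Invariance under all automorphisms from forward invariance. -/
theorem inv_of_map_mem {T : Subgroup H} (h : ∀ γ : MulAut H, ∀ x ∈ T, γ x ∈ T) (γ : MulAut H) (x : H) :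
    x ∈ T ↔ γ x ∈ T := by
  constructor
  · exact h γ x
  · intro hx
    have := h γ⁻¹ _ hx
    rwa [MulAut.inv_apply_self] at this

/-- The commutator homomorphism `g ↦ ⁅g, w⁆` when all these commutators are central. -/
def commHom (w : H) (hw : ∀ g : H, ⁅g, w⁆ ∈ Subgroup.center H) : H →* H :=
  MonoidHom.mk' (fun g : H => ⁅g, w⁆) (by
    intro a b
    have hb := Subgroup.mem_center_iff.mp (hw b)
    show ⁅a * b, w⁆ = ⁅a, w⁆ * ⁅b, w⁆
    have h1 : ⁅a * b, w⁆ = a * (⁅b, w⁆ * w) * a⁻¹ * w⁻¹ := by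
      simp only [commutatorElement_def]
      group
    rw [h1, ← mul_assoc, hb a, hb ⁅a, w⁆, commutatorElement_def a w]
    simp only [mul_assoc])

@[simp]
theorem commHom_apply (w : H) (hw : ∀ g : H, ⁅g, w⁆ ∈ Subgroup.center H) (g : H) : commHom w hw g = ⁅g, w⁆ := rfl

theorem mem_commHom_ker (w : H) (hw : ∀ g : H, ⁅g, w⁆ ∈ Subgroup.center H) (g : H) :
    g ∈ (commHom w hw).ker ↔ g * w = w * g := by
  rw [MonoidHom.mem_ker, commHom_apply, commutatorElement_eq_one_iff_mul_comm]

theorem mem_centralizer_singleton_iff {w g : H} : g ∈ Subgroup.centralizer {w} ↔ g * w = w * g := by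
  rw [Subgroup.mem_centralizer_iff]
  constructor
  · intro h
    exact (h w rfl).symm
  · intro h x hx
    rw [Set.mem_singleton_iff] at hx
    rw [hx]
    exact h.symm

theorem commHom_ker (w : H) (hw : ∀ g : H, ⁅g, w⁆ ∈ Subgroup.center H) :
    (commHom w hw).ker = Subgroup.centralizer {w} := by
  ext g
  rw [mem_commHom_ker, mem_centralizer_singleton_iff]

theorem commHom_range_le (w : H) (hw : ∀ g : H, ⁅g, w⁆ ∈ Subgroup.center H) :
    (commHom w hw).range ≤ Subgroup.center H := by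
  rintro _ ⟨g, rfl⟩
  exact hw g

theorem card_ker_mul_card_range {H' : Type*} [Group H'] (f : H →* H') :
    Nat.card f.ker * Nat.card f.range = Nat.card H := by
  rw [← Subgroup.index_ker, Subgroup.card_mul_index]

variable [Finite H] {p : ℕ} [Fact p.Prime]

/-- Subgroups of a group of order `pⁿ` have order `pᵃ` with `a ≤ n`. -/
theorem card_subgroup_of_card_pow {n : ℕ} (hcard : Nat.card H = p ^ n) (L : Subgroup H) :
    ∃ a ≤ n, Nat.card L = p ^ a := by
  have hpp : p.Prime := Fact.out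
  have h1 : Nat.card L ∣ p ^ n := hcard ▸ Subgroup.card_subgroup_dvd_card L
  obtain ⟨a, ha, ha2⟩ := (Nat.dvd_prime_pow hpp).mp h1
  exact ⟨a, ha, ha2⟩

theorem pow_lt_pow_iff_of_prime {a b : ℕ} : p ^ a < p ^ b ↔ a < b :=
  Nat.pow_lt_pow_iff_right (Fact.out : p.Prime).one_lt

theorem pow_le_pow_iff_of_prime {a b : ℕ} : p ^ a ≤ p ^ b ↔ a ≤ b :=
  Nat.pow_le_pow_iff_right (Fact.out : p.Prime).one_lt

theorem pow_inj_of_prime {a b : ℕ} (h : p ^ a = p ^ b) : a = b :=
  Nat.pow_right_injective (Fact.out : p.Prime).two_le h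

/-- Relative maximality of subgroups of index `p`. -/
theorem eq_of_le_of_card_mul {K L M : Subgroup H} (hidx : Nat.card M = p * Nat.card K) (hKL : K ≤ L)
    (hLM : L ≤ M) (hne : K ≠ L) : L = M := by
  have hpp : p.Prime := Fact.out
  have h1 : Nat.card K ∣ Nat.card L := Subgroup.card_dvd_of_le hKL
  obtain ⟨m, hm⟩ := h1
  have h2 : Nat.card L ∣ Nat.card M := Subgroup.card_dvd_of_le hLM
  rw [hidx, hm, mul_comm p] at h2
  have hpos : 0 < Nat.card K := Nat.card_pos
  have h3 : m ∣ p := Nat.dvd_of_mul_dvd_mul_left hpos h2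
  rcases (Nat.dvd_prime hpp).mp h3 with h | h
  · exfalso
    apply hne
    apply Subgroup.eq_of_le_of_card_ge hKL
    rw [hm, h, mul_one]
  · apply Subgroup.eq_of_le_of_card_ge hLM
    rw [hm, h, hidx, mul_comm]

/-- No invariant chain `⊥ < T₁ < T₂ < T₃ < ⊤` with orders `1, p, p², p³, p⁴`. -/
theorem EssData.no_chain5 {A : Subgroup (MulAut H)} (hd : EssData p H A) (hcard : Nat.card H = p ^ 4)
    (T1 T2 T3 : Subgroup H) (h12 : T1 ≤ T2) (h23 : T2 ≤ T3) (hc1 : Nat.card T1 = p) (hc2 : Nat.card T2 = p ^ 2)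
    (hc3 : Nat.card T3 = p ^ 3)
    (hinv1 : ∀ γ ∈ A, ∀ x, x ∈ T1 ↔ γ x ∈ T1) (hinv2 : ∀ γ ∈ A, ∀ x, x ∈ T2 ↔ γ x ∈ T2)
    (hinv3 : ∀ γ ∈ A, ∀ x, x ∈ T3 ↔ γ x ∈ T3) : False := by
  apply hd.no_chain (IsPGroup.of_card hcard) (chain5 T1 T2 T3) (chain5_mono h12 h23) rfl 4 rfl
  · intro γ hγ i x
    match i with
    | 0 =>
      show x ∈ (⊥ : Subgroup H) ↔ γ x ∈ (⊥ : Subgroup H)
      rw [Subgroup.mem_bot, Subgroup.mem_bot, map_eq_one_iff γ γ.injective]
    | 1 => exact hinv1 γ hγ x
    | 2 => exact hinv2 γ hγ x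
    | 3 => exact hinv3 γ hγ x
    | (n + 4) => exact ⟨fun _ => Subgroup.mem_top _, fun _ => Subgroup.mem_top _⟩
  · intro i
    match i with
    | 0 =>
      left
      show Nat.card T1 = p * Nat.card (⊥ : Subgroup H)
      rw [hc1, Subgroup.card_bot, mul_one]
    | 1 =>
      left
      show Nat.card T2 = p * Nat.card T1
      rw [hc1, hc2, pow_two]
    | 2 =>
      left
      show Nat.card T3 = p * Nat.card T2
      rw [hc2, hc3, pow_succ, mul_comm]
    | 3 =>
      left
      show Nat.card (⊤ : Subgroup H) = p * Nat.card T3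
      rw [Subgroup.card_top, hcard, hc3, pow_succ, mul_comm]
    | (n + 4) =>
      right
      rfl

/-- The centre of a nonabelian group of order `p⁴` has order `p` or `p²`. -/
theorem card_center_of_p4 (hcard : Nat.card H = p ^ 4) (hna : ¬ ∀ a b : H, a * b = b * a) :
    Nat.card (Subgroup.center H) = p ∨ Nat.card (Subgroup.center H) = p ^ 2 := by
  have hpp : p.Prime := Fact.out
  have hH : IsPGroup p H := IsPGroup.of_card hcard
  have : Nontrivial H := by
    by_contra h
    rw [not_nontrivial_iff_subsingleton] at h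
    exact hna (fun a b => Subsingleton.elim _ _)
  have hnt : Nontrivial (Subgroup.center H) := hH.center_nontrivial
  obtain ⟨a, ha4, ha⟩ := card_subgroup_of_card_pow hcard (Subgroup.center H)
  have h1 := Subgroup.card_mul_index (Subgroup.center H)
  rw [ha, hcard] at h1
  have ha0 : a ≠ 0 := by
    rintro rfl
    rw [pow_zero] at ha
    have := (Subgroup.card_eq_one.mp ha)
    rw [this] at hnt
    exact not_nontrivial _ hnt
  have ha4' : a ≠ 4 := by
    rintro rfl
    have htop : Subgroup.center H = ⊤ := by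
      apply Subgroup.eq_top_of_card_eq
      rw [ha, hcard]
    apply hna
    intro x y
    have hy : y ∈ Subgroup.center H := htop ▸ Subgroup.mem_top y
    exact Subgroup.mem_center_iff.mp hy x
  have ha3 : a ≠ 3 := by
    rintro rfl
    have hidx : (Subgroup.center H).index = p := by
      have h3 : p ^ 4 = p ^ 3 * p := by rw [pow_succ]
      rw [h3] at h1
      exact Nat.eq_of_mul_eq_mul_left (pow_pos hpp.pos 3) h1
    have hq : Nat.card (H ⧸ Subgroup.center H) = p := hidx
    have : IsCyclic (H ⧸ Subgroup.center H) := isCyclic_of_prime_card hq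
    apply hna
    exact isMulCommutative_iff.mp (MonoidHom.isMulCommutative_of_isCyclic_of_ker_le_center
      (QuotientGroup.mk' (Subgroup.center H)) (by rw [QuotientGroup.ker_mk']))
  have : a = 1 ∨ a = 2 := by omega
  rcases this with rfl | rfl
  · left
    rw [ha, pow_one]
  · right
    exact ha

end Tools

end Cfsg.Agent.Lib.Helper26
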