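import Cfsg.Agent.Lib.Helper26.GExA
import Cfsg.Agent.Lib.Helper26.OrderP4A
import Cfsg.Agent.Lib.Helper20.PGroupBasics
import Cfsg.Agent.Lib.Helper4.Basic
import Cfsg.Agent.Lib.Helper1.PGroup

/-!
Generalized extraspecial groups (part B): a group `G` with `Φ(G) = G'` of order `p` having an element `w` with
elementary abelian centralizer: cardinalities and the decomposition `G = E × A₀` with `|E| = p³`.
-/

set_option autoImplicit false
set_option linter.unusedSectionVars false
universe u

namespace Cfsg.Agent.Lib.Helper26.GEx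

open Cfsg
open scoped commutatorElement

/-- A generalized extraspecial group with an element `w` whose centralizer is elementary abelian. -/
structure GData (p : ℕ) (G : Type u) [Group G] (w : G) : Prop where
  pgroup : IsPGroup p G
  fr : frattini G = commutator G
  card : Nat.card (commutator G) = p
  cab : ∀ a b : G, a * w = w * a → b * w = w * b → a * b = b * a
  cexp : ∀ a : G, a * w = w * a → a ^ p = 1

namespace GData

variable {G : Type u} [Group G] [Finite G] {p : ℕ} [Fact p.Prime] {w : G}

theorem comm_le_center (D : GData p G w) : commutator G ≤ Subgroup.center G :=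
  Cfsg.Agent.Lib.Helper20.le_center_of_normal_of_card_eq_prime D.pgroup (commutator G) D.card

theorem pow_mem (D : GData p G w) (g : G) : g ^ p ∈ commutator G :=
  D.fr ▸ Cfsg.Agent.Lib.Helper1.IsPGroup.pow_mem_frattini D.pgroup g

theorem commElt_mem (a b : G) : ⁅a, b⁆ ∈ commutator G :=
  Subgroup.commutator_mem_commutator (Subgroup.mem_top a) (Subgroup.mem_top b)

theorem commElt_center (D : GData p G w) (a b : G) : ⁅a, b⁆ ∈ Subgroup.center G :=
  D.comm_le_center (commElt_mem a b)

theorem center_comm {z : G} (hz : z ∈ Subgroup.center G) : z * w = w * z :=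
  (Subgroup.mem_center_iff.mp hz w).symm

theorem comm_comm (D : GData p G w) {c : G} (hc : c ∈ commutator G) : c * w = w * c :=
  center_comm (D.comm_le_center hc)

theorem card_range_eq (D : GData p G w) {X : Type u} [Group X] (f : X →* G) (hf : ∀ x, f x ∈ commutator G) {x₀ : X}
    (hx₀ : f x₀ ≠ 1) : Nat.card f.range = p := by
  have hpp : p.Prime := Fact.out
  have hle : f.range ≤ commutator G := by
    rintro _ ⟨x, rfl⟩
    exact hf x
  have h1 : Nat.card f.range ∣ p := D.card ▸ Subgroup.card_dvd_of_le hle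
  rcases (Nat.dvd_prime hpp).mp h1 with h | h
  · exfalso
    rw [Subgroup.card_eq_one] at h
    have : f x₀ ∈ f.range := ⟨x₀, rfl⟩
    rw [h, Subgroup.mem_bot] at this
    exact hx₀ this
  · exact h

theorem card_eq_mul_centralizer (D : GData p G w) {y : G} (hy : y * w ≠ w * y) :
    Nat.card G = p * Nat.card (Subgroup.centralizer {w}) := by
  have h1 := card_ker_mul_card_range (commHom w (fun g => D.commElt_center g w))
  rw [commHom_ker, D.card_range_eq _ (fun g => commElt_mem g w) (x₀ := y)
    (by rw [commHom_apply, Ne, commutatorElement_eq_one_iff_mul_comm]; exact hy), mul_comm] at h1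
  exact h1.symm

theorem centralizer_normal (D : GData p G w) : (Subgroup.centralizer {w}).Normal := by
  rw [← commHom_ker w (fun g => D.commElt_center g w)]
  infer_instance

/-- Every element is a product of an element of the centralizer of `w` and a power of `y`. -/
theorem exists_pow_mul (D : GData p G w) {y : G} (hy : y * w ≠ w * y) (h : G) :
    ∃ (i : ℕ) (c : G), c * w = w * c ∧ h = c * y ^ i := by
  have := D.centralizer_normal
  rcases mem_or_exists_pow_mem (D.card_eq_mul_centralizer hy) y h with h1 | ⟨i, hi⟩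
  · exact absurd (mem_centralizer_singleton_iff.mp h1) hy
  · refine ⟨i, h * (y ^ i)⁻¹, mem_centralizer_singleton_iff.mp hi, ?_⟩
    group

theorem mem_center_of_comm (D : GData p G w) {y : G} (hy : y * w ≠ w * y) {c : G} (hcw : c * w = w * c)
    (hcy : c * y = y * c) : c ∈ Subgroup.center G := by
  rw [Subgroup.mem_center_iff]
  intro h
  obtain ⟨i, c', hc', rfl⟩ := D.exists_pow_mul hy h
  have h1 : c' * c = c * c' := D.cab c' c hc' hcw
  have h2 : y ^ i * c = c * y ^ i := ((Commute.pow_right (show Commute c y from hcy) i).eq).symm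
  rw [mul_assoc, h2, ← mul_assoc, h1, mul_assoc]

theorem center_le_centralizer : Subgroup.center G ≤ Subgroup.centralizer {w} :=
  fun _ hz => mem_centralizer_singleton_iff.mpr (center_comm hz)

theorem card_centralizer_eq_mul_center (D : GData p G w) {y : G} (hy : y * w ≠ w * y) :
    Nat.card (Subgroup.centralizer {w}) = p * Nat.card (Subgroup.center G) := by
  obtain ⟨f, hf⟩ : ∃ f : ↥(Subgroup.centralizer {w}) →* G,
      f = (commHom y (fun g => D.commElt_center g y)).comp (Subgroup.centralizer {w}).subtype := ⟨_, rfl⟩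
  have hfa : ∀ c, f c = ⁅(c : G), y⁆ := by
    intro c
    rw [hf]
    rfl
  have h1 := card_ker_mul_card_range f
  have hww : w ∈ Subgroup.centralizer {w} := mem_centralizer_singleton_iff.mpr rfl
  have hr : Nat.card f.range = p := by
    apply D.card_range_eq f (fun c => by rw [hfa]; exact commElt_mem _ _) (x₀ := ⟨w, hww⟩)
    rw [hfa, Ne, commutatorElement_eq_one_iff_mul_comm]
    exact fun h => hy h.symm
  have hker : f.ker = (Subgroup.center G).subgroupOf (Subgroup.centralizer {w}) := by
    ext c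
    rw [MonoidHom.mem_ker, hfa, commutatorElement_eq_one_iff_mul_comm, Subgroup.mem_subgroupOf]
    constructor
    · intro h
      exact D.mem_center_of_comm hy (mem_centralizer_singleton_iff.mp c.2) h
    · intro h
      exact (Subgroup.mem_center_iff.mp h y).symm
  rw [hr, hker, Nat.card_congr (Subgroup.subgroupOfEquivOfLe (center_le_centralizer (w := w))).toEquiv,
    mul_comm] at h1
  exact h1.symm

theorem not_mem_center {y : G} (hy : y * w ≠ w * y) : w ∉ Subgroup.center G :=
  fun h => hy (Subgroup.mem_center_iff.mp h y)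

/-- The decomposition `G = E × A₀`. -/
theorem exists_decomp (D : GData p G w) {y : G} (hy : y * w ≠ w * y) :
    ∃ E A₀ : Subgroup G, A₀ ≤ Subgroup.center G ∧ commutator G ≤ E ∧ E ⊓ A₀ = ⊥ ∧ E ⊔ A₀ = ⊤ ∧
      Nat.card E = p ^ 3 ∧ ¬ (∀ a b : E, a * b = b * a) := by
  have hpp : p.Prime := Fact.out
  obtain ⟨A₀, hA₀Z, hA₀1, hA₀2⟩ := exists_compl_in (p := p) (Subgroup.center G) (commutator G) D.comm_le_center
    (fun a ha b _ => (Subgroup.mem_center_iff.mp ha b).symm) (fun a ha => D.cexp a (center_comm ha))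
  obtain ⟨E, hGE, hE1, hE2⟩ := exists_direct_factor (p := p) D.pow_mem A₀ hA₀1
  refine ⟨E, A₀, hA₀Z, hGE, hE1, hE2, ?_, ?_⟩
  · obtain ⟨φ⟩ := nonempty_mulEquiv_prod E A₀ hA₀Z hE1 hE2
    have h1 : Nat.card G = Nat.card E * Nat.card A₀ := by
      rw [Nat.card_congr φ.toEquiv, Nat.card_prod]
    have h2 := Cfsg.Agent.Lib.Helper4.card_sup_mul_card_inf A₀ (commutator G)
      (by rw [Subgroup.normalizer_eq_top]; exact le_top)
    rw [hA₀1, hA₀2, Subgroup.card_bot, mul_one, D.card] at h2
    rw [D.card_eq_mul_centralizer hy, D.card_centralizer_eq_mul_center hy, h2] at h1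
    have hpos : 0 < Nat.card A₀ := Nat.card_pos
    have h3 : p ^ 3 * Nat.card A₀ = Nat.card E * Nat.card A₀ := by
      rw [← h1]
      ring
    exact (Nat.eq_of_mul_eq_mul_right hpos h3).symm
  · intro hab
    apply hy
    obtain ⟨e₁, he₁, a₁, ha₁, rfl⟩ := exists_mul_eq E A₀ hA₀Z hE2 y
    obtain ⟨e₂, he₂, a₂, ha₂, rfl⟩ := exists_mul_eq E A₀ hA₀Z hE2 w
    have h1 : e₁ * e₂ = e₂ * e₁ := congrArg Subtype.val (hab ⟨e₁, he₁⟩ ⟨e₂, he₂⟩)
    have h2 := Subgroup.mem_center_iff.mp (hA₀Z ha₁)
    have h3 := Subgroup.mem_center_iff.mp (hA₀Z ha₂)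
    calc e₁ * a₁ * (e₂ * a₂) = e₁ * (a₁ * e₂) * a₂ := by group
      _ = e₁ * (e₂ * a₁) * a₂ := by rw [h2 e₂]
      _ = (e₁ * e₂) * (a₁ * a₂) := by group
      _ = (e₂ * e₁) * (a₂ * a₁) := by rw [h1, h2 a₂]
      _ = e₂ * (e₁ * a₂) * a₁ := by group
      _ = e₂ * (a₂ * e₁) * a₁ := by rw [h3 e₁]
      _ = e₂ * a₂ * (e₁ * a₁) := by group

end GData

end Cfsg.Agent.Lib.Helper26.GEx
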