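import Cfsg.Agent.Lib.Helper26.GExB
import Cfsg.Agent.Lib.Helper26.OrderPCubeA
import Cfsg.Agent.Lib.Helper4.D8Rec
import Cfsg.Agent.Lib.Helper18.PowerMap

/-!
Generalized extraspecial groups (part C): the isomorphism types `D₈ × A` and `p₊^{1+2} × A`, and the `p`-power map.
-/

set_option autoImplicit false
set_option linter.unusedSectionVars false
universe u

namespace Cfsg.Agent.Lib.Helper26.GEx

open Cfsg
open scoped commutatorElement

namespace GData

variable {G : Type u} [Group G] [Finite G] {p : ℕ} [Fact p.Prime] {w : G}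

/-- The isomorphism from the shrunk copy of a subgroup. -/
noncomputable def sh (A₀ : Subgroup G) : Shrink.{0} ↥A₀ ≃* ↥A₀ := Shrink.mulEquiv

/-- The commutative group structure on a (shrunk) central subgroup. -/
@[instance_reducible]
noncomputable def shrinkCommGroup (A₀ : Subgroup G) (hA₀ : A₀ ≤ Subgroup.center G) : CommGroup (Shrink.{0} ↥A₀) :=
  { (inferInstance : Group (Shrink.{0} ↥A₀)) with
    mul_comm := by
      intro a b
      apply (sh A₀).injective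
      rw [map_mul, map_mul]
      apply Subtype.ext
      exact (Subgroup.mem_center_iff.mp (hA₀ (sh A₀ a).2) _).symm }

theorem shrink_pow (A₀ : Subgroup G) {n : ℕ} (h : ∀ a ∈ A₀, a ^ n = 1) (a : Shrink.{0} ↥A₀) : a ^ n = 1 := by
  apply (sh A₀).injective
  rw [map_pow, map_one]
  apply Subtype.ext
  rw [Subgroup.coe_pow]
  exact h _ (sh A₀ a).2

/-- `p = 2`: the group is `D₈ × A`. -/
theorem exists_iso_two (D : GData 2 G w) {y : G} (hy : y * w ≠ w * y) :
    ∃ (A : Type) (_ : CommGroup A), (∀ a : A, a ^ 2 = 1) ∧ Nonempty (G ≃* DihedralGroup 4 × A) := by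
  obtain ⟨E, A₀, hA₀Z, hGE, hE1, hE2, hcE, hnab⟩ := D.exists_decomp hy
  obtain ⟨s, hsdef⟩ : ∃ s, s = ⁅y, w⁆ := ⟨_, rfl⟩
  have hsG : s ∈ commutator G := hsdef ▸ commElt_mem y w
  have hsZ : s ∈ Subgroup.center G := D.comm_le_center hsG
  have hs1 : s ≠ 1 := by
    rw [hsdef, Ne, commutatorElement_eq_one_iff_mul_comm]
    exact hy
  have hs2 : s ^ 2 = 1 := D.cexp s (D.comm_comm hsG)
  obtain ⟨e, he, a, ha, hw⟩ := exists_mul_eq E A₀ hA₀Z hE2 w
  have haZ : a ∈ Subgroup.center G := hA₀Z ha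
  have ha2 : a ^ 2 = 1 := D.cexp a (center_comm haZ)
  have hw2 : w ^ 2 = 1 := D.cexp w rfl
  have he2 : e ^ 2 = 1 := by
    have h1 : e = w * a⁻¹ := by rw [hw]; group
    have h2 : Commute w a⁻¹ := (Subgroup.mem_center_iff.mp (Subgroup.inv_mem _ haZ) w)
    rw [h1, h2.mul_pow, hw2, inv_pow, ha2, inv_one, one_mul]
  have he1 : e ≠ 1 := by
    intro h
    rw [h, one_mul] at hw
    exact not_mem_center hy (hw ▸ haZ)
  have hes : s ≠ e := by
    intro h
    rw [← h] at hw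
    exact not_mem_center hy (hw ▸ Subgroup.mul_mem _ hsZ haZ)
  have hcE8 : Nat.card E = 8 := by rw [hcE]; norm_num
  have hnc : ¬ IsMulCommutative ↥E := fun h => hnab (fun a b => h.is_comm.comm a b)
  have ho1 : orderOf (⟨s, hGE hsG⟩ : E) = 2 :=
    orderOf_eq_prime (Subtype.ext (by rw [Subgroup.coe_pow]; exact hs2)) (fun h => hs1 (congrArg Subtype.val h))
  have ho2 : orderOf (⟨e, he⟩ : E) = 2 :=
    orderOf_eq_prime (Subtype.ext (by rw [Subgroup.coe_pow]; exact he2)) (fun h => he1 (congrArg Subtype.val h))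
  have : Finite ↥E := inferInstance
  obtain ⟨ψ⟩ := Cfsg.Agent.Lib.Helper4.nonempty_mulEquiv_dihedral_four hcE8 hnc ⟨s, hGE hsG⟩ ⟨e, he⟩ ho1 ho2
    (fun h => hes (congrArg Subtype.val h))
  obtain ⟨φ⟩ := nonempty_mulEquiv_prod E A₀ hA₀Z hE1 hE2
  refine ⟨Shrink.{0} ↥A₀, shrinkCommGroup A₀ hA₀Z, ?_, ?_⟩
  · exact shrink_pow A₀ (fun a ha => D.cexp a (center_comm (hA₀Z ha)))
  · exact ⟨φ.trans (MulEquiv.prodCongr ψ (sh A₀).symm)⟩

/-- `p` odd: the `p`-power map is multiplicative. -/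
theorem mul_pow_p (D : GData p G w) (hp2 : p ≠ 2) (a b : G) : (a * b) ^ p = a ^ p * b ^ p := by
  have hpp : p.Prime := Fact.out
  have hc : b * a * b⁻¹ * a⁻¹ = ⁅b, a⁆ := rfl
  have hZ := Subgroup.mem_center_iff.mp (D.commElt_center b a)
  apply Cfsg.Agent.Lib.Helper18.mul_pow_prime_of_central hpp hp2
  · rw [hc]
    exact (hZ a).symm
  · rw [hc]
    exact (hZ b).symm
  · rw [hc]
    exact D.cexp _ (D.comm_comm (commElt_mem b a))

theorem pow_eq_one_of (D : GData p G w) (hp2 : p ≠ 2) {y : G} (hy : y * w ≠ w * y) (hyp : y ^ p = 1) (g : G) :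
    g ^ p = 1 := by
  obtain ⟨i, c, hc, rfl⟩ := D.exists_pow_mul hy g
  rw [D.mul_pow_p hp2, D.cexp c hc, one_mul, ← pow_mul, mul_comm, pow_mul, hyp, one_pow]

/-- `p` odd, exponent `p`: the group is `p₊^{1+2} × A`. -/
theorem exists_iso_odd (D : GData p G w) (hp2 : p ≠ 2) {y : G} (hy : y * w ≠ w * y) (hyp : y ^ p = 1) :
    ∃ (E : Type) (_ : Group E) (A : Type) (_ : CommGroup A), IsExtraspecial p E ∧ Nat.card E = p ^ 3 ∧
      Monoid.exponent E = p ∧ (∀ a : A, a ^ p = 1) ∧ Nonempty (G ≃* E × A) := by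
  have hpp : p.Prime := Fact.out
  obtain ⟨E, A₀, hA₀Z, hGE, hE1, hE2, hcE, hnab⟩ := D.exists_decomp hy
  have hexp := D.pow_eq_one_of hp2 hy hyp
  have hcardE : Nat.card (Shrink.{0} ↥E) = p ^ 3 := by rw [Nat.card_congr (sh E).toEquiv, hcE]
  have hfinE : Finite (Shrink.{0} ↥E) := Finite.of_equiv _ (sh E).symm.toEquiv
  have hnaE : ¬ ∀ a b : Shrink.{0} ↥E, a * b = b * a := by
    intro h
    apply hnab
    intro a b
    have := h ((sh E).symm a) ((sh E).symm b)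
    rw [← map_mul, ← map_mul] at this
    exact (sh E).symm.injective this
  have hpowE : ∀ x : Shrink.{0} ↥E, x ^ p = 1 := shrink_pow E (fun a _ => hexp a)
  obtain ⟨φ⟩ := nonempty_mulEquiv_prod E A₀ hA₀Z hE1 hE2
  refine ⟨Shrink.{0} ↥E, inferInstance, Shrink.{0} ↥A₀, shrinkCommGroup A₀ hA₀Z,
    (cube_structure hcardE hnaE).2.2, hcardE, ?_, ?_, ?_⟩
  · have h1 : Monoid.exponent (Shrink.{0} ↥E) ∣ p := Monoid.exponent_dvd_of_forall_pow_eq_one hpowE
    rcases (Nat.dvd_prime hpp).mp h1 with h | h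
    · exfalso
      rw [Monoid.exp_eq_one_iff] at h
      have : Nat.card (Shrink.{0} ↥E) = 1 := Nat.card_unique
      rw [hcardE] at this
      have h3 : 1 < p ^ 3 := Nat.one_lt_pow (by norm_num) hpp.one_lt
      omega
    · exact h
  · exact shrink_pow A₀ (fun a _ => hexp a)
  · exact ⟨φ.trans (MulEquiv.prodCongr (sh E).symm (sh A₀).symm)⟩

/-- The consequence of the hypotheses excluding `D₈ × A` and `p₊^{1+2} × A`. -/
theorem main (D : GData p G w) (hne : ∃ y : G, y * w ≠ w * y)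
    (h2 : p = 2 → ¬ ∃ (A : Type) (_ : CommGroup A), (∀ a : A, a ^ 2 = 1) ∧ Nonempty (G ≃* DihedralGroup 4 × A))
    (hodd : p ≠ 2 → ¬ ∃ (E : Type) (_ : Group E) (A : Type) (_ : CommGroup A), IsExtraspecial p E ∧
      Nat.card E = p ^ 3 ∧ Monoid.exponent E = p ∧ (∀ a : A, a ^ p = 1) ∧ Nonempty (G ≃* E × A)) :
    p ≠ 2 ∧ ∀ y : G, y * w ≠ w * y → y ^ p ≠ 1 := by
  have hp2 : p ≠ 2 := by
    intro hp
    obtain ⟨y, hy⟩ := hne
    subst hp
    exact h2 rfl (D.exists_iso_two hy)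
  refine ⟨hp2, fun y hy hyp => ?_⟩
  exact hodd hp2 (D.exists_iso_odd hp2 hy hyp)

end GData

end Cfsg.Agent.Lib.Helper26.GEx
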