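import Cfsg.Agent.Lib.Helper26.SCMetaD
import Cfsg.Agent.Lib.Helper26.FSSatEquiv
import Cfsg.Agent.Lib.Helper26.FSSatCrit

/-!
Generalized extraspecial groups (part D): fusion-theoretic tools.  Extending an automorphism of a receptive
subgroup over an element of a strongly closed subgroup; the centralizer in a strongly closed subgroup `P` of an
element conjugate into a central subgroup `Z₀ ≥ Φ(P)` of order `p` (but not in `Z₀`) is elementary abelian.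
-/

set_option autoImplicit false
set_option linter.unusedSectionVars false
set_option maxHeartbeats 800000
universe u

namespace Cfsg.Agent.Lib.Helper26.GEx

open Cfsg Cfsg.FusionSystem
open scoped commutatorElement

section Fus

variable {Ω : Type u} [Group Ω] {S : Subgroup Ω}

theorem exists_pow_eq_of_card_prime {p : ℕ} [Fact p.Prime] {K : Subgroup Ω} (hK : Nat.card K = p) {e g : Ω}
    (he : e ∈ K) (he1 : e ≠ 1) (hg : g ∈ K) : ∃ i : ℕ, e ^ i = g := by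
  have hpp : p.Prime := Fact.out
  have hfin : Finite K := Nat.finite_of_card_ne_zero (by rw [hK]; exact hpp.ne_zero)
  have hne : (⟨e, he⟩ : K) ≠ 1 := fun h => he1 (congrArg Subtype.val h)
  have h3 := mem_zpowers_of_prime_card (G := K) hK hne (g' := ⟨g, hg⟩)
  rw [← mem_powers_iff_mem_zpowers, Submonoid.mem_powers_iff] at h3
  obtain ⟨k, hk⟩ := h3
  refine ⟨k, ?_⟩
  have := congrArg Subtype.val hk
  rwa [Subgroup.coe_pow] at this

theorem eq_of_le_of_card_prime {p : ℕ} [Fact p.Prime] {K Z₀ : Subgroup Ω} (hle : K ≤ Z₀) (hcard : Nat.card Z₀ = p)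
    {k : Ω} (hk : k ∈ K) (hk1 : k ≠ 1) : K = Z₀ := by
  have hpp : p.Prime := Fact.out
  have hfin : Finite Z₀ := Nat.finite_of_card_ne_zero (by rw [hcard]; exact hpp.ne_zero)
  ext g
  constructor
  · exact fun h => hle h
  · intro hg
    obtain ⟨i, rfl⟩ := exists_pow_eq_of_card_prime hcard (hle hk) hk1 hg
    exact K.pow_mem hk i

/-- Extending an automorphism of a receptive subgroup over an element of a strongly closed subgroup. -/
theorem exists_ext_over (F : FusionSystem S) {Q : Subgroup Ω} (hrec : F.IsReceptive Q) {P : Subgroup Ω}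
    (hP : F.StronglyClosed P) {β : MulAut Q} (hβ : β ∈ F.autGroup Q) {x : Ω} (hxP : x ∈ P)
    (hxN : x ∈ Subgroup.normalizer (Q : Set Ω))
    (hconj : β * Q.normalizerMonoidHom ⟨x, hxN⟩ * β⁻¹ ∈ autInducedBy S Q) :
    ∃ x' ∈ P, ∃ hx'N : x' ∈ Subgroup.normalizer (Q : Set Ω),
      Q.normalizerMonoidHom ⟨x', hx'N⟩ = β * Q.normalizerMonoidHom ⟨x, hxN⟩ * β⁻¹ ∧
      ∀ (k : ℕ) (hk : x ^ k ∈ Q), x' ^ k = ((β ⟨x ^ k, hk⟩ : Q) : Ω) := by
  have hQS : Q ≤ S := hrec.1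
  have hxS : x ∈ S := hP.1 hxP
  have hxE := mem_extender_of_conj_mem β hxS hxN hconj
  obtain ⟨φ, hφdef⟩ : ∃ φ : Q →* Ω, φ = Q.subtype.comp (β : Q ≃* Q).toMonoidHom := ⟨_, rfl⟩
  rw [← hφdef] at hxE
  have hφF : φ ∈ F.Hom Q := by
    rw [hφdef]
    exact (mem_autGroup_iff F hQS β).mp hβ
  have hφr : φ.range = Q := by
    rw [hφdef]
    ext z
    constructor
    · rintro ⟨y, rfl⟩
      exact (β y).2
    · intro hz
      refine ⟨β⁻¹ ⟨z, hz⟩, ?_⟩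
      show ((β (β⁻¹ ⟨z, hz⟩) : Q) : Ω) = z
      rw [MulAut.apply_inv_self]
  obtain ⟨ψ, hψF, hψ⟩ := hrec.2 Q φ hφF hφr
  have hQE : Q ≤ extender S Q φ := le_extender hQS φ (F.le_of_mem hφF).2
  obtain ⟨x', hx'def⟩ : ∃ x', x' = ψ ⟨x, hxE⟩ := ⟨_, rfl⟩
  have hx'P : x' ∈ P := by
    have hzE : Subgroup.zpowers x ≤ extender S Q φ := (Subgroup.zpowers_le).mpr hxE
    have hres := inclusion_comp_mem F hzE hψF
    have := hP.2 (Subgroup.zpowers x) ((Subgroup.zpowers_le).mpr hxP) _ hres ⟨x, Subgroup.mem_zpowers x⟩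
    rw [hx'def]
    exact this
  have hψQ : ∀ y : Q, ψ ⟨y, hQE y.2⟩ = ((β y : Q) : Ω) := by
    intro y
    rw [hψ y.1 y.2 (hQE y.2), hφdef]
    rfl
  have hx'conj : ∀ y : Q, (((β * Q.normalizerMonoidHom ⟨x, hxN⟩ * β⁻¹) y : Q) : Ω) = x' * y * x'⁻¹ := by
    intro y
    obtain ⟨y₀, hy₀⟩ : ∃ y₀, y₀ = β⁻¹ y := ⟨_, rfl⟩
    have hy : y = β y₀ := by rw [hy₀, MulAut.apply_inv_self]
    show ((β (Q.normalizerMonoidHom ⟨x, hxN⟩ (β⁻¹ y)) : Q) : Ω) = _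
    rw [← hy₀, ← hψQ (Q.normalizerMonoidHom ⟨x, hxN⟩ y₀)]
    have h1 : (⟨((Q.normalizerMonoidHom ⟨x, hxN⟩ y₀ : Q) : Ω), hQE (Q.normalizerMonoidHom ⟨x, hxN⟩ y₀).2⟩ :
        extender S Q φ) = ⟨x, hxE⟩ * ⟨y₀, hQE y₀.2⟩ * ⟨x, hxE⟩⁻¹ := by
      apply Subtype.ext
      rfl
    rw [h1, map_mul, map_mul, map_inv, ← hx'def, hψQ y₀, ← hy]
  have hx'N : x' ∈ Subgroup.normalizer (Q : Set Ω) := mem_normalizer_of_aut _ x' hx'conj
  refine ⟨x', hx'P, hx'N, ?_, ?_⟩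
  · ext y
    rw [hx'conj]
    rfl
  · intro k hk
    rw [← hψQ ⟨x ^ k, hk⟩, hx'def, ← map_pow]
    rfl

/-- The centralizer in `P` of an element conjugate into `Z₀` but outside `Z₀` is elementary abelian. -/
theorem centralizer_elemAb [Finite S] {p : ℕ} [Fact p.Prime] (hS : IsPGroup p S) (F : FusionSystem S)
    (hF : F.IsSaturated p) {P : Subgroup Ω} (hP : F.StronglyClosed P) {Z₀ : Subgroup Ω} (hZ₀P : Z₀ ≤ P)
    (hZ₀card : Nat.card Z₀ = p) (hZ₀c : ∀ c ∈ Z₀, ∀ s ∈ S, s * c = c * s)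
    (hcomm : ∀ a ∈ P, ∀ b ∈ P, ⁅a, b⁆ ∈ Z₀) (hpow : ∀ a ∈ P, a ^ p ∈ Z₀)
    {Q : Subgroup Ω} (hQS : Q ≤ S) {α : MulAut Q} (hα : α ∈ F.autGroup Q) {z : Q} (hz : (z : Ω) ∈ Z₀)
    (hz' : ((α z : Q) : Ω) ∉ Z₀) :
    (∀ u ∈ P, ∀ v ∈ P, u * ((α z : Q) : Ω) = ((α z : Q) : Ω) * u → v * ((α z : Q) : Ω) = ((α z : Q) : Ω) * v →
      u * v = v * u) ∧
    (∀ u ∈ P, u * ((α z : Q) : Ω) = ((α z : Q) : Ω) * u → u ^ p = 1) := by
  have hpp : p.Prime := Fact.out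
  have hPS : P ≤ S := hP.1
  have hZ₀S : Z₀ ≤ S := hZ₀P.trans hPS
  obtain ⟨z', hz'def⟩ : ∃ z' : Ω, z' = ((α z : Q) : Ω) := ⟨_, rfl⟩
  rw [← hz'def] at hz' ⊢
  have hz'Q : z' ∈ Q := hz'def ▸ (α z).2
  have hz1 : (z : Ω) ≠ 1 := by
    intro h
    apply hz'
    have : z = 1 := Subtype.ext h
    rw [hz'def, this, map_one]
    exact Z₀.one_mem
  obtain ⟨T, hTdef⟩ : ∃ T, T = Subgroup.zpowers z' := ⟨_, rfl⟩
  have hTQ : T ≤ Q := hTdef ▸ Subgroup.zpowers_le.mpr hz'Q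
  have hz'T : z' ∈ T := hTdef ▸ Subgroup.mem_zpowers z'
  -- the map `φ`
  obtain ⟨φ₀, hφ₀def⟩ : ∃ φ₀ : Q →* Ω, φ₀ = Q.subtype.comp ((α⁻¹ : MulAut Q) : Q ≃* Q).toMonoidHom := ⟨_, rfl⟩
  have hφ₀F : φ₀ ∈ F.Hom Q := by
    rw [hφ₀def]
    exact (mem_autGroup_iff F hQS α⁻¹).mp (Subgroup.inv_mem _ hα)
  obtain ⟨φ, hφdef⟩ : ∃ φ : T →* Ω, φ = φ₀.comp (Subgroup.inclusion hTQ) := ⟨_, rfl⟩
  have hφF : φ ∈ F.Hom T := hφdef ▸ inclusion_comp_mem F hTQ hφ₀F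
  have hφz' : φ ⟨z', hz'T⟩ = (z : Ω) := by
    rw [hφdef, hφ₀def]
    show ((α⁻¹ ⟨z', hz'Q⟩ : Q) : Ω) = z
    have : (⟨z', hz'Q⟩ : Q) = α z := Subtype.ext hz'def
    rw [this, MulAut.inv_apply_self]
  have hφr : φ.range = Z₀ := by
    have hle : φ.range ≤ Z₀ := by
      rintro _ ⟨⟨t, ht⟩, rfl⟩
      have ht' := ht
      rw [hTdef] at ht'
      obtain ⟨k, hk⟩ := Subgroup.mem_zpowers_iff.mp ht'
      have h1 : (⟨t, ht⟩ : T) = ⟨z', hz'T⟩ ^ k := Subtype.ext (by rw [Subgroup.coe_zpow]; exact hk.symm)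
      rw [h1, map_zpow, hφz']
      exact Z₀.zpow_mem hz k
    exact eq_of_le_of_card_prime hle hZ₀card ⟨⟨z', hz'T⟩, hφz'⟩ hz1
  -- `Z₀` is fully centralized, hence receptive
  have hfc : F.IsFullyCentralized Z₀ := by
    refine ⟨hZ₀S, fun R _ => ?_⟩
    have h1 : centralizerIn S Z₀ = S := by
      apply le_antisymm (centralizerIn_le S Z₀)
      intro s hs
      rw [mem_centralizerIn_iff]
      exact ⟨hs, fun c hc => (hZ₀c c hc s hs).symm⟩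
    rw [h1]
    exact Subgroup.card_le_of_le (centralizerIn_le S R)
  have hrec : F.IsReceptive Z₀ := saturated_fc hS F hF hfc
  obtain ⟨N, hNdef⟩ : ∃ N, N = extender S T φ := ⟨_, rfl⟩
  have hex := hrec.2 T φ hφF hφr
  rw [← hNdef] at hex
  obtain ⟨ψ, hψF, hψ⟩ := hex
  have hψinj : Function.Injective ψ := F.injective_of_mem hψF
  have hCN : centralizerIn S T ≤ N := hNdef ▸ centralizerIn_le_extender T φ
  have hTN : T ≤ N := hNdef ▸ le_extender (F.le_of_mem hφF).1 φ (F.le_of_mem hφF).2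
  have hcen : ∀ u ∈ S, u * z' = z' * u → u ∈ N := by
    intro u huS hu
    apply hCN
    rw [mem_centralizerIn_iff]
    refine ⟨huS, fun t ht => ?_⟩
    rw [hTdef] at ht
    obtain ⟨k, rfl⟩ := Subgroup.mem_zpowers_iff.mp ht
    exact ((Commute.zpow_left (show Commute z' u from hu.symm) k).eq)
  have hZ₀N : Z₀ ≤ N := fun c hc => hcen c (hZ₀S hc) (hZ₀c c hc z' (hQS hz'Q)).symm
  have hψz' : ψ ⟨z', hTN hz'T⟩ = (z : Ω) := by
    rw [hψ z' hz'T (hTN hz'T), hφz']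
  -- values on `P`
  have hψP : ∀ u (hu : u ∈ N), u ∈ P → ψ ⟨u, hu⟩ ∈ P := by
    intro u hu huP
    have hres := inclusion_comp_mem F (inf_le_right : P ⊓ N ≤ N) hψF
    exact hP.2 (P ⊓ N) inf_le_left _ hres ⟨u, huP, hu⟩
  -- the key lemma
  have key : ∀ c (hc : c ∈ Z₀), ψ ⟨c, hZ₀N hc⟩ ∈ Z₀ → c = 1 := by
    intro c hc hψc
    by_contra hc1
    have hψc1 : ψ ⟨c, hZ₀N hc⟩ ≠ 1 := by
      intro h
      have := hψinj (h.trans (map_one ψ).symm)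
      exact hc1 (congrArg Subtype.val this)
    obtain ⟨k, hk⟩ := exists_pow_eq_of_card_prime hZ₀card hψc hψc1 hz
    rw [← map_pow, ← hψz'] at hk
    have h1 := congrArg Subtype.val (hψinj hk)
    apply hz'
    have h2 : c ^ k = z' := by
      rw [Subgroup.coe_pow] at h1
      exact h1
    rw [← h2]
    exact Z₀.pow_mem hc k
  constructor
  · intro u huP v hvP hu hv
    have huN := hcen u (hPS huP) hu
    have hvN := hcen v (hPS hvP) hv
    have hc := hcomm u huP v hvP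
    have h1 : ψ ⟨⁅u, v⁆, hZ₀N hc⟩ = ⁅ψ ⟨u, huN⟩, ψ ⟨v, hvN⟩⁆ := by
      rw [← map_commutatorElement]
      rfl
    have h2 := key _ hc (h1 ▸ hcomm _ (hψP u huN huP) _ (hψP v hvN hvP))
    exact commutatorElement_eq_one_iff_mul_comm.mp h2
  · intro u huP hu
    have huN := hcen u (hPS huP) hu
    have hc := hpow u huP
    have h1 : ψ ⟨u ^ p, hZ₀N hc⟩ = (ψ ⟨u, huN⟩) ^ p := by
      rw [← map_pow]
      rfl
    exact key _ hc (h1 ▸ hpow _ (hψP u huN huP))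

end Fus

end Cfsg.Agent.Lib.Helper26.GEx
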