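import Cfsg.Agent.Lib.Helper26.SCMetaB
import Cfsg.Agent.Lib.Helper26.TateNormA

/-!
Strongly closed metacyclic subgroups (part C): the automizer `A` of an essential subgroup `H` (abstractly: `EssData`)
acting on the Frattini quotient of an invariant subgroup `M` with `|M / Φ(M)| ∣ p ^ 2`, when some `p`-element of `A`
outside `Inn H` centralizes `H / M`.
-/

set_option autoImplicit false
set_option linter.unusedSectionVars false
universe u

namespace Cfsg.Agent.Lib.Helper26.SCM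

open Cfsg

section HLevel

variable {H : Type u} [Group H]

/-- Restriction of `A` to an invariant subgroup `M`. -/
noncomputable def resM (A : Subgroup (MulAut H)) (M : Subgroup H) (hM : ∀ γ ∈ A, ∀ x, x ∈ M ↔ γ x ∈ M) :
    ↥A →* MulAut ↥M :=
  restrictAct A.subtype M (fun g y hy => (hM g.1 g.2 y).mp hy)

theorem resM_apply (A : Subgroup (MulAut H)) (M : Subgroup H) (hM : ∀ γ ∈ A, ∀ x, x ∈ M ↔ γ x ∈ M)
    (α : ↥A) (m : ↥M) : ((resM A M hM α m : ↥M) : H) = α.1 m.1 := rfl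

/-- The action of `A` on the Frattini quotient of `M`. -/
noncomputable def rhoV (A : Subgroup (MulAut H)) (M : Subgroup H) (hM : ∀ γ ∈ A, ∀ x, x ∈ M ↔ γ x ∈ M) :
    ↥A →* MulAut (↥M ⧸ frattini ↥M) :=
  fqHom.comp (resM A M hM)

theorem rhoV_mk (A : Subgroup (MulAut H)) (M : Subgroup H) (hM : ∀ γ ∈ A, ∀ x, x ∈ M ↔ γ x ∈ M)
    (α : ↥A) (m : ↥M) :
    rhoV A M hM α (QuotientGroup.mk m) = QuotientGroup.mk (resM A M hM α m) := rfl

/-- The subgroup of `A` centralizing `H / M`. -/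
def cenQ (A : Subgroup (MulAut H)) (M : Subgroup H) : Subgroup ↥A where
  carrier := {α | ∀ x : H, x⁻¹ * α.1 x ∈ M}
  one_mem' := fun x => by
    show x⁻¹ * x ∈ M
    rw [inv_mul_cancel]
    exact M.one_mem
  mul_mem' := by
    intro α β hα hβ x
    show x⁻¹ * α.1 (β.1 x) ∈ M
    have : x⁻¹ * α.1 (β.1 x) = (x⁻¹ * β.1 x) * ((β.1 x)⁻¹ * α.1 (β.1 x)) := by group
    rw [this]
    exact M.mul_mem (hβ x) (hα _)
  inv_mem' := by
    intro α hα x
    show x⁻¹ * (α.1)⁻¹ x ∈ M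
    have h := hα ((α.1)⁻¹ x)
    rw [MulAut.apply_inv_self] at h
    have := M.inv_mem h
    rwa [mul_inv_rev, inv_inv] at this

theorem mem_cenQ (A : Subgroup (MulAut H)) (M : Subgroup H) (α : ↥A) :
    α ∈ cenQ A M ↔ ∀ x : H, x⁻¹ * α.1 x ∈ M := Iff.rfl

theorem cenQ_normal (A : Subgroup (MulAut H)) (M : Subgroup H) (hM : ∀ γ ∈ A, ∀ x, x ∈ M ↔ γ x ∈ M) :
    (cenQ A M).Normal := by
  constructor
  intro α hα γ x
  show x⁻¹ * γ.1 (α.1 ((γ.1)⁻¹ x)) ∈ M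
  have h1 := (hM γ.1 γ.2 _).mp (hα ((γ.1)⁻¹ x))
  rw [map_mul, map_inv, MulAut.apply_inv_self] at h1
  exact h1

variable [Finite H] {p : ℕ} [Fact p.Prime]

/-- Elements of `A` centralizing `H / M` and `M / Φ(M)` have `p`-power order. -/
theorem exists_pow_of_rhoV_eq_one (hH : IsPGroup p H) (A : Subgroup (MulAut H)) (M : Subgroup H)
    (hM : ∀ γ ∈ A, ∀ x, x ∈ M ↔ γ x ∈ M) (α : ↥A) (hα : α ∈ cenQ A M) (hα1 : rhoV A M hM α = 1) :
    ∃ k : ℕ, α ^ (p ^ k) = 1 := by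
  have hMp : IsPGroup p ↥M := hH.to_subgroup M
  have h1 : ∀ m : ↥M, m⁻¹ * resM A M hM α m ∈ frattini ↥M := by
    intro m
    have := rhoV_mk A M hM α m
    rw [hα1, MulAut.one_apply] at this
    exact QuotientGroup.eq.mp this
  obtain ⟨k, hk⟩ := exists_pow_eq_one_of_frattini hMp (resM A M hM α) h1
  have hfix : ∀ x ∈ M, (α.1 ^ (p ^ k)) x = x := by
    intro x hx
    have h2 : (resM A M hM (α ^ (p ^ k))) ⟨x, hx⟩ = ⟨x, hx⟩ := by
      rw [map_pow, hk]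
      rfl
    have h3 := congrArg Subtype.val h2
    rw [resM_apply] at h3
    exact h3
  have h4 := stab_step (α := α.1) (N := M) (M := ⊤) le_top (fun x _ => hα x) (p ^ k) hfix
  obtain ⟨i, hi⟩ := hMp.exists_card_eq
  refine ⟨k + i, ?_⟩
  apply Subtype.ext
  show α.1 ^ (p ^ (k + i)) = 1
  ext x
  have := h4 x (Subgroup.mem_top x)
  rw [hi, ← pow_add] at this
  exact this

theorem main_H (hH : IsPGroup p H) {A : Subgroup (MulAut H)} (hd : EssData p H A) (M : Subgroup H)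
    (hM : ∀ γ ∈ A, ∀ x, x ∈ M ↔ γ x ∈ M) (hcard : Nat.card (↥M ⧸ frattini ↥M) ∣ p ^ 2)
    (a : ↥A) (ha : a ∈ cenQ A M) (haI : a.1 ∉ Inn H) {j : ℕ} (haj : a ^ (p ^ j) = 1) :
    (∀ α ∈ cenQ A M, rhoV A M hM α = 1 → α.1 ∈ Inn H) ∧
    Nat.card (↥M ⧸ frattini ↥M) = p ^ 2 ∧
    (∀ v, rhoV A M hM a (v⁻¹ * rhoV A M hM a v) = v⁻¹ * rhoV A M hM a v) ∧
    ∃ h ∈ cenQ A M, ∀ v, rhoV A M hM h v = v⁻¹ := by
  have hMp : IsPGroup p ↥M := hH.to_subgroup M
  have hCn : (cenQ A M).Normal := cenQ_normal A M hM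
  -- normal subgroups of `A` inside `cenQ` acting as `p`-groups lie in `Inn H`
  have hcoreX : ∀ X : Subgroup ↥A, X.Normal → X ≤ cenQ A M →
      (∀ x ∈ X, ∃ k : ℕ, (rhoV A M hM x) ^ (p ^ k) = 1) → ∀ x ∈ X, x.1 ∈ Inn H := by
    intro X hXn hXC hXp x hx
    refine hd.core X hXn ?_ x hx
    rintro ⟨y, hy⟩
    obtain ⟨k, hk⟩ := hXp y hy
    have hyk : y ^ (p ^ k) ∈ cenQ A M := (cenQ A M).pow_mem (hXC hy) _
    obtain ⟨i, hi⟩ := exists_pow_of_rhoV_eq_one hH A M hM (y ^ (p ^ k)) hyk (by rw [map_pow, hk])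
    refine ⟨k + i, Subtype.ext ?_⟩
    show y ^ (p ^ (k + i)) = 1
    rw [pow_add, pow_mul]
    exact hi
  refine ⟨?_, ?_⟩
  · intro α hα hα1
    have hn : (cenQ A M ⊓ (rhoV A M hM).ker).Normal := inferInstance
    refine hcoreX _ hn inf_le_left ?_ α ⟨hα, hα1⟩
    rintro x ⟨-, hx⟩
    exact ⟨0, by rw [MonoidHom.mem_ker.mp hx, one_pow]⟩
  · exact exists_inverting (fq_comm hMp) hcard (rhoV A M hM) (cenQ A M) a ha haj
      (fun X hXn hXC hXp haX => haI (hcoreX X hXn hXC hXp a haX))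

end HLevel

end Cfsg.Agent.Lib.Helper26.SCM
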