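import Cfsg.Agent.Lib.Helper26.GExA
import Cfsg.Agent.Lib.Helper26.GExD
import Cfsg.Agent.Lib.Helper26.SCMetaC
import Cfsg.Agent.Lib.Helper26.OrderP4A
import Cfsg.Agent.Lib.Helper4.Basic

/-!
Generalized extraspecial groups (part E): two conjugate transvection-like automorphisms with different centres
generate an element inverting the span of the centres.
-/

set_option autoImplicit false
set_option linter.unusedSectionVars false
set_option maxHeartbeats 1600000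
universe u

namespace Cfsg.Agent.Lib.Helper26.GEx

open Cfsg

section HLevel

variable {H : Type u} [Group H]

/-- The chain `N ≤ M ≤ ⊤` (no commutativity assumption). -/
def chainW3 (N M : Subgroup H) : ℕ → Subgroup H
  | 0 => N
  | 1 => M
  | _ => ⊤

theorem chainW3_mono {N M : Subgroup H} (h : N ≤ M) : Monotone (chainW3 N M) := by
  apply monotone_nat_of_le_succ
  intro n
  match n with
  | 0 => exact h
  | 1 => exact le_top
  | (n + 2) => exact le_rfl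

variable [Finite H]

/-- A subgroup `K` with `[K, u] ≤ K` is `u`-invariant. -/
theorem mem_iff_of_comm_mem {K : Subgroup H} {u : MulAut H} (h : ∀ x ∈ K, x⁻¹ * u x ∈ K) (x : H) :
    x ∈ K ↔ u x ∈ K := by
  have hfwd : ∀ (j : ℕ) (y : H), y ∈ K → (u ^ j) y ∈ K := by
    intro j y hy
    have h1 := stab_pow_mem (α := u) (N := K) (M := K) le_rfl h j y hy
    have h2 : (u ^ j) y = y * (y⁻¹ * (u ^ j) y) := by group
    rw [h2]
    exact K.mul_mem hy h1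
  constructor
  · intro hx
    have := hfwd 1 x hx
    rwa [pow_one] at this
  · intro hx
    have hfin : Finite (MulAut H) := Finite.of_injective (fun f : MulAut H => (f : H → H))
      (fun f g hfg => MulEquiv.ext (congrFun hfg))
    obtain ⟨n, hn0, hn⟩ := isOfFinOrder_iff_pow_eq_one.mp (isOfFinOrder_of_finite u)
    have h1 := hfwd (n - 1) (u x) hx
    have h2 : (u ^ (n - 1)) (u x) = x := by
      rw [← MulAut.mul_apply, ← pow_succ, Nat.sub_add_cancel hn0, hn]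
      rfl
    rwa [h2] at h1

theorem mem_chainStab_chainW3 {N M : Subgroup H} (hNM : N ≤ M) {u : MulAut H} (h1 : ∀ x ∈ M, x⁻¹ * u x ∈ N)
    (h2 : ∀ x, x⁻¹ * u x ∈ M) : u ∈ chainStab (chainW3 N M) (chainW3_mono hNM) := by
  refine ⟨fun i x => ?_, fun i x hx => ?_⟩
  · match i with
    | 0 => exact mem_iff_of_comm_mem (fun y hy => h1 y (hNM hy)) x
    | 1 => exact mem_iff_of_comm_mem (fun y _ => h2 y) x
    | (n + 2) => exact ⟨fun _ => Subgroup.mem_top _, fun _ => Subgroup.mem_top _⟩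
  · match i with
    | 0 => exact h1 x hx
    | 1 => exact h2 x
    | (n + 2) => exact Subgroup.mem_top _

theorem mem_chainStab_chain5 {T1 T2 T3 : Subgroup H} (h12 : T1 ≤ T2) (h23 : T2 ≤ T3) {u : MulAut H}
    (h1 : ∀ x ∈ T1, u x = x) (h2 : ∀ x ∈ T2, x⁻¹ * u x ∈ T1) (h3 : ∀ x ∈ T3, x⁻¹ * u x ∈ T2)
    (h4 : ∀ x, x⁻¹ * u x ∈ T3) : u ∈ chainStab (chain5 T1 T2 T3) (chain5_mono h12 h23) := by
  refine ⟨fun i x => ?_, fun i x hx => ?_⟩
  · match i with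
    | 0 =>
      show x ∈ (⊥ : Subgroup H) ↔ u x ∈ (⊥ : Subgroup H)
      rw [Subgroup.mem_bot, Subgroup.mem_bot, map_eq_one_iff u u.injective]
    | 1 => exact mem_iff_of_comm_mem (fun y hy => by rw [h1 y hy, inv_mul_cancel]; exact T1.one_mem) x
    | 2 => exact mem_iff_of_comm_mem (fun y hy => h12 (h2 y hy)) x
    | 3 => exact mem_iff_of_comm_mem (fun y hy => h23 (h3 y hy)) x
    | (n + 4) => exact ⟨fun _ => Subgroup.mem_top _, fun _ => Subgroup.mem_top _⟩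
  · match i with
    | 0 =>
      show x⁻¹ * u x ∈ (⊥ : Subgroup H)
      rw [Subgroup.mem_bot, h1 x hx, inv_mul_cancel]
    | 1 => exact h2 x hx
    | 2 => exact h3 x hx
    | 3 => exact h4 x
    | (n + 4) => exact Subgroup.mem_top _

variable {p : ℕ} [Fact p.Prime]

/-- The inverting element. -/
theorem exists_inverter (hH : IsPGroup p H) (A : Subgroup (MulAut H)) (M Z : Subgroup H) (hZM : Z ≤ M)
    (hMinv : ∀ γ ∈ A, ∀ x, x ∈ M ↔ γ x ∈ M) (hMab : ∀ a ∈ M, ∀ b ∈ M, a * b = b * a)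
    (hMexp : ∀ a ∈ M, a ^ p = 1) (hZcard : Nat.card Z = p)
    {a : MulAut H} (haA : a ∈ A) {j : ℕ} (haj : a ^ (p ^ j) = 1) (ha1 : ∀ x, x⁻¹ * a x ∈ M)
    (ha2 : ∀ m ∈ M, m⁻¹ * a m ∈ Z) (ha3 : ∀ c ∈ Z, a c = c)
    {α : MulAut H} (hαA : α ∈ A) {z : H} (hz : z ∈ Z) (hz' : α z ∉ Z) (hm1 : a (α z) ≠ α z)
    (hm2 : a (α⁻¹ z) ≠ α⁻¹ z) :
    ∃ h ∈ A, ∃ Y : Subgroup (MulAut H), Y ≤ A ∧ IsPGroup p Y ∧ a ∈ Y ∧ h * a * h⁻¹ * a⁻¹ ∈ Y ∧
      (∀ c ∈ Z, h c = c⁻¹) ∧ (∀ c ∈ Z, (h * a * h⁻¹ * a⁻¹) c = c) ∧ (h * a * h⁻¹ * a⁻¹) (α z) = α z := by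
  have hpp : p.Prime := Fact.out
  have hz1 : z ≠ 1 := by
    rintro rfl
    apply hz'
    rw [map_one]
    exact Z.one_mem
  obtain ⟨z', hz'def⟩ : ∃ z', z' = α z := ⟨_, rfl⟩
  rw [← hz'def] at hz' hm1 ⊢
  have hz'M : z' ∈ M := hz'def ▸ (hMinv α hαA z).mp (hZM hz)
  have hz'1 : z' ≠ 1 := fun h => hz' (h ▸ Z.one_mem)
  have hz'p : z' ^ p = 1 := hMexp z' hz'M
  have hZpow : ∀ c ∈ Z, ∃ i : ℕ, z ^ i = c := fun c hc => exists_pow_eq_of_card_prime hZcard hz hz1 hc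
  -- the subgroup `W₂`
  obtain ⟨W₂, hW₂def⟩ : ∃ W₂, W₂ = Z ⊔ Subgroup.zpowers z' := ⟨_, rfl⟩
  have hZW₂ : Z ≤ W₂ := hW₂def ▸ le_sup_left
  have hz'W₂ : z' ∈ W₂ := hW₂def ▸ Subgroup.mem_sup_right (Subgroup.mem_zpowers z')
  have hW₂M : W₂ ≤ M := hW₂def ▸ sup_le hZM (Subgroup.zpowers_le.mpr hz'M)
  have hαZ : ∀ c ∈ Z, α c ∈ Subgroup.zpowers z' := by
    intro c hc
    obtain ⟨i, rfl⟩ := hZpow c hc
    rw [map_pow, ← hz'def]
    exact Subgroup.pow_mem _ (Subgroup.mem_zpowers z') i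
  have hcardW₂ : Nat.card W₂ = p ^ 2 := by
    have hLE : Z ≤ Subgroup.normalizer ((Subgroup.zpowers z' : Subgroup H) : Set H) := by
      refine le_trans ?_ (Subgroup.centralizer_le_normalizer _)
      intro c hc
      rw [Subgroup.mem_centralizer_iff]
      intro t ht
      exact hMab t (Subgroup.zpowers_le.mpr hz'M ht) c (hZM hc)
    have h1 := Cfsg.Agent.Lib.Helper4.card_sup_mul_card_inf Z (Subgroup.zpowers z') hLE
    have hinf : Z ⊓ Subgroup.zpowers z' = ⊥ := by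
      rw [eq_bot_iff]
      intro g hg
      rw [Subgroup.mem_inf] at hg
      rw [Subgroup.mem_bot]
      by_contra hg1
      apply hz'
      have := mem_zpowers_of_mem_zpowers_ne_one (p := p) hz'p hg.2 hg1
      exact (Subgroup.zpowers_le.mpr hg.1) this
    rw [hinf, Subgroup.card_bot, mul_one, hZcard, Nat.card_zpowers, orderOf_eq_prime hz'p hz'1, ← hW₂def] at h1
    rw [h1, sq]
  -- the second transvection
  obtain ⟨a₂, ha₂def⟩ : ∃ a₂, a₂ = α * a * α⁻¹ := ⟨_, rfl⟩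
  have ha₂A : a₂ ∈ A := ha₂def ▸ A.mul_mem (A.mul_mem hαA haA) (A.inv_mem hαA)
  have ha₂_apply : ∀ x, x⁻¹ * a₂ x = α ((α⁻¹ x)⁻¹ * a (α⁻¹ x)) := by
    intro x
    rw [ha₂def, map_mul, map_inv, MulAut.apply_inv_self]
    rfl
  have hαinvM : ∀ x ∈ M, α⁻¹ x ∈ M := fun x hx => (hMinv α⁻¹ (A.inv_mem hαA) x).mp hx
  have haB : a ∈ chainStab (chainW3 W₂ M) (chainW3_mono hW₂M) :=
    mem_chainStab_chainW3 hW₂M (fun x hx => hZW₂ (ha2 x hx)) ha1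
  have ha₂B : a₂ ∈ chainStab (chainW3 W₂ M) (chainW3_mono hW₂M) := by
    apply mem_chainStab_chainW3 hW₂M
    · intro x hx
      rw [ha₂_apply, hW₂def]
      exact Subgroup.mem_sup_right (hαZ _ (ha2 _ (hαinvM x hx)))
    · intro x
      rw [ha₂_apply]
      exact (hMinv α hαA _).mp (ha1 _)
  obtain ⟨B, hBdef⟩ : ∃ B, B = chainStab (chainW3 W₂ M) (chainW3_mono hW₂M) := ⟨_, rfl⟩
  rw [← hBdef] at haB ha₂B
  have hBW₂ : ∀ g : ↥B, ∀ y ∈ W₂, B.subtype g y ∈ W₂ := by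
    intro g y hy
    have hg : g.1 ∈ chainStab (chainW3 W₂ M) (chainW3_mono hW₂M) := hBdef ▸ g.2
    exact (hg.1 0 y).mp hy
  have hBstep : ∀ g : ↥B, (∀ x ∈ M, x⁻¹ * g.1 x ∈ W₂) ∧ ∀ x, x⁻¹ * g.1 x ∈ M := by
    intro g
    have hg : g.1 ∈ chainStab (chainW3 W₂ M) (chainW3_mono hW₂M) := hBdef ▸ g.2
    exact ⟨fun x hx => hg.2 0 x hx, fun x => hg.2 1 x (Subgroup.mem_top x)⟩
  obtain ⟨ρ, hρdef⟩ : ∃ ρ : ↥B →* MulAut ↥W₂, ρ = restrictAct B.subtype W₂ hBW₂ := ⟨_, rfl⟩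
  have hρ_apply : ∀ (g : ↥B) (y : ↥W₂), ((ρ g y : ↥W₂) : H) = g.1 y := by
    intro g y
    rw [hρdef]
    rfl
  obtain ⟨aB, haBdef⟩ : ∃ aB : ↥B, aB = ⟨a, haB⟩ := ⟨_, rfl⟩
  obtain ⟨a₂B, ha₂Bdef⟩ : ∃ a₂B : ↥B, a₂B = ⟨a₂, ha₂B⟩ := ⟨_, rfl⟩
  have haB1 : aB.1 = a := by rw [haBdef]
  have ha₂B1 : a₂B.1 = a₂ := by rw [ha₂Bdef]
  have habW : ∀ u v : ↥W₂, u * v = v * u := fun u v => Subtype.ext (hMab u (hW₂M u.2) v (hW₂M v.2))
  have htj : (ρ aB) ^ (p ^ j) = 1 := by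
    rw [← map_pow]
    have : aB ^ (p ^ j) = 1 := Subtype.ext (by rw [Subgroup.coe_pow, haB1, haj]; rfl)
    rw [this, map_one]
  have ht'j : (ρ a₂B) ^ (p ^ j) = 1 := by
    rw [← map_pow]
    have : a₂B ^ (p ^ j) = 1 := by
      apply Subtype.ext
      rw [Subgroup.coe_pow, ha₂B1, ha₂def, conj_pow, haj, mul_one, mul_inv_cancel]
      rfl
    rw [this, map_one]
  have ha₂z' : a₂ z' = z' := by
    rw [ha₂def, hz'def]
    show α (a (α⁻¹ (α z))) = α z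
    rw [MulAut.inv_apply_self, ha3 z hz]
  have ha₂z : a₂ z ≠ z := by
    rw [ha₂def]
    show α (a (α⁻¹ z)) ≠ z
    intro h
    apply hm2
    have := congrArg (α⁻¹ : MulAut H) h
    rwa [MulAut.inv_apply_self] at this
  have ht'1 : ρ a₂B ≠ 1 := by
    intro h
    apply ha₂z
    have h1 := hρ_apply a₂B ⟨z, hZW₂ hz⟩
    rw [h, ha₂B1] at h1
    exact h1.symm
  have h0' : ρ a₂B ⟨z', hz'W₂⟩ = ⟨z', hz'W₂⟩ := by
    apply Subtype.ext
    rw [hρ_apply, ha₂B1]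
    exact ha₂z'
  have h0 : ρ aB ⟨z', hz'W₂⟩ ≠ ⟨z', hz'W₂⟩ := by
    intro h
    apply hm1
    have := congrArg Subtype.val h
    rwa [hρ_apply, haB1] at this
  have hfinW : Finite ↥W₂ := inferInstance
  obtain ⟨k, hk⟩ := SCM.exists_pow_inverting habW hcardW₂ (ρ aB) (ρ a₂B) htj ht'j ht'1 ⟨z', hz'W₂⟩ h0' h0
  obtain ⟨hB, hhBdef⟩ : ∃ hB : ↥B, hB = (aB * a₂B ^ k * aB) ^ 2 := ⟨_, rfl⟩
  have hρh : ∀ v : ↥W₂, ρ hB v = v⁻¹ := by
    intro v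
    rw [hhBdef, map_pow, map_mul, map_mul, map_pow]
    exact hk v
  have hBA : ∀ g : ↥B, g = aB ∨ g = a₂B → g.1 ∈ A := by
    rintro g (rfl | rfl)
    · rw [haB1]; exact haA
    · rw [ha₂B1]; exact ha₂A
  have hhA : hB.1 ∈ A := by
    rw [hhBdef]
    show (aB.1 * a₂B.1 ^ k * aB.1) ^ 2 ∈ A
    rw [haB1, ha₂B1]
    exact A.pow_mem (A.mul_mem (A.mul_mem haA (A.pow_mem ha₂A k)) haA) 2
  obtain ⟨ηB, hηBdef⟩ : ∃ ηB : ↥B, ηB = hB * aB * hB⁻¹ * aB⁻¹ := ⟨_, rfl⟩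
  have hη1 : ηB.1 = hB.1 * a * hB.1⁻¹ * a⁻¹ := by
    rw [hηBdef, ← haB1]
    rfl
  have hρη : ρ ηB = 1 := by
    have hcomm : ρ hB * ρ aB = ρ aB * ρ hB := by
      ext v
      rw [MulAut.mul_apply, MulAut.mul_apply, hρh, hρh, map_inv]
    rw [hηBdef, map_mul, map_mul, map_mul, map_inv, map_inv, hcomm, mul_inv_cancel_right, mul_inv_cancel]
  have hηfix : ∀ v ∈ W₂, ηB.1 v = v := by
    intro v hv
    have := hρ_apply ηB ⟨v, hv⟩
    rw [hρη] at this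
    exact this.symm
  have hηA : ηB.1 ∈ A := by
    rw [hη1]
    exact A.mul_mem (A.mul_mem (A.mul_mem hhA haA) (A.inv_mem hhA)) (A.inv_mem haA)
  -- the `p`-group `Y`
  obtain ⟨Y, hYdef⟩ : ∃ Y, Y = chainStab (chain5 Z W₂ M) (chain5_mono hZW₂ hW₂M) ⊓ A := ⟨_, rfl⟩
  have hYp : IsPGroup p Y := by
    rw [hYdef]
    apply isPGroup_of_chainStab (chain5 Z W₂ M) (chain5_mono hZW₂ hW₂M) (fun i => inferInstance)
      (fun i => (hH.to_subgroup _).exists_card_eq) 4 rfl _ inf_le_left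
    intro β _
    refine ⟨0, fun x hx => ?_⟩
    have hx' : x ∈ (⊥ : Subgroup H) := hx
    rw [Subgroup.mem_bot] at hx'
    rw [hx', map_one]
  have haY : a ∈ Y := by
    rw [hYdef]
    refine ⟨mem_chainStab_chain5 hZW₂ hW₂M ha3 (fun x hx => ha2 x (hW₂M hx))
      (fun x hx => hZW₂ (ha2 x hx)) ha1, haA⟩
  have hηY : ηB.1 ∈ Y := by
    rw [hYdef]
    refine ⟨mem_chainStab_chain5 hZW₂ hW₂M (fun x hx => hηfix x (hZW₂ hx)) (fun x hx => ?_)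
      (hBstep ηB).1 (hBstep ηB).2, hηA⟩
    rw [hηfix x hx, inv_mul_cancel]
    exact Z.one_mem
  refine ⟨hB.1, hhA, Y, hYdef ▸ inf_le_right, hYp, haY, hη1 ▸ hηY, ?_, ?_, ?_⟩
  · intro c hc
    have h1 := hρ_apply hB ⟨c, hZW₂ hc⟩
    rw [hρh] at h1
    exact h1.symm
  · intro c hc
    rw [← hη1]
    exact hηfix c (hZW₂ hc)
  · rw [← hη1]
    exact hηfix z' hz'W₂

end HLevel

end Cfsg.Agent.Lib.Helper26.GEx
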