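import Cfsg.Agent.Lib.Helper26.GExC
import Cfsg.Agent.Lib.Helper26.GExE
import Cfsg.Agent.Lib.Helper26.EssTransvA
import Cfsg.Agent.Lib.Helper26.FSSylow
import Cfsg.Agent.Lib.Helper26.FSNormalCrit

/-!
Generalized extraspecial groups (part F): a strongly closed generalized extraspecial subgroup of a saturated fusion
system, not of the form `D₈ × A` or `p₊^{1+2} × A`, lies in every essential subgroup; hence it is normal.
-/

set_option autoImplicit false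
set_option linter.unusedSectionVars false
set_option maxHeartbeats 3200000
universe u

namespace Cfsg.Agent.Lib.Helper26.GEx

open Cfsg Cfsg.FusionSystem
open scoped commutatorElement

section Fus

variable {Ω : Type u} [Group Ω] {S : Subgroup Ω}

/-- Basic properties of `Z₀ = P'` for a strongly closed generalized extraspecial subgroup `P`. -/
theorem z0_props [Finite S] {p : ℕ} [Fact p.Prime] (hS : IsPGroup p S) (F : FusionSystem S) {P : Subgroup Ω}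
    (hP : F.StronglyClosed P)
    (hge : frattini ↥P = commutator ↥P ∧ Nat.card ↥(commutator ↥P) = p) :
    ∃ Z₀ : Subgroup Ω, Z₀ ≤ P ∧ Nat.card Z₀ = p ∧ (∀ c ∈ Z₀, ∀ s ∈ S, s * c = c * s) ∧
      (∀ a ∈ P, ∀ b ∈ P, ⁅a, b⁆ ∈ Z₀) ∧ (∀ a ∈ P, a ^ p ∈ Z₀) := by
  have hPS : P ≤ S := hP.1
  have hfinP : Finite P := finite_of_le hPS
  have hPp : IsPGroup p P := hS.to_le hPS
  have hPn : S ≤ Subgroup.normalizer (P : Set Ω) := le_normalizer_of_stronglyClosed F hP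
  obtain ⟨Z₀, hZ₀def⟩ : ∃ Z₀, Z₀ = (commutator ↥P).map P.subtype := ⟨_, rfl⟩
  have hZ₀P : Z₀ ≤ P := hZ₀def ▸ Subgroup.map_subtype_le _
  have hZ₀S : Z₀ ≤ S := hZ₀P.trans hPS
  have hZ₀card : Nat.card Z₀ = p := by
    rw [hZ₀def, Subgroup.card_map_of_injective P.subtype_injective, hge.2]
  have hnorm : ∀ s ∈ S, ∀ c ∈ Z₀, s * c * s⁻¹ ∈ Z₀ := by
    intro s hs c hc
    rw [hZ₀def] at hc ⊢
    obtain ⟨c', hc', rfl⟩ := hc
    have hchar : (commutator ↥P).Characteristic := inferInstance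
    have h1 := Subgroup.characteristic_iff_map_le.mp hchar (P.normalizerMonoidHom ⟨s, hPn hs⟩)
    exact ⟨_, h1 (Subgroup.mem_map_of_mem _ hc'), rfl⟩
  refine ⟨Z₀, hZ₀P, hZ₀card, ?_, ?_, ?_⟩
  · have hN : (Z₀.subgroupOf S).Normal := by
      constructor
      intro n hn g
      rw [Subgroup.mem_subgroupOf] at hn ⊢
      exact hnorm g g.2 n hn
    have hcardN : Nat.card (Z₀.subgroupOf S) = p := by
      rw [Nat.card_congr (Subgroup.subgroupOfEquivOfLe hZ₀S).toEquiv, hZ₀card]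
    have hle := Cfsg.Agent.Lib.Helper20.le_center_of_normal_of_card_eq_prime hS (Z₀.subgroupOf S) hcardN
    intro c hc s hs
    have h1 : (⟨c, hZ₀S hc⟩ : S) ∈ Z₀.subgroupOf S := Subgroup.mem_subgroupOf.mpr hc
    have h2 := Subgroup.mem_center_iff.mp (hle h1) ⟨s, hs⟩
    exact congrArg Subtype.val h2
  · intro a ha b hb
    rw [hZ₀def]
    exact ⟨⁅(⟨a, ha⟩ : P), ⟨b, hb⟩⁆, GData.commElt_mem _ _, rfl⟩
  · intro a ha
    rw [hZ₀def]
    refine ⟨(⟨a, ha⟩ : P) ^ p, ?_, rfl⟩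
    rw [← hge.1]
    exact Cfsg.Agent.Lib.Helper1.IsPGroup.pow_mem_frattini hPp _

/-- A strongly closed generalized extraspecial subgroup, not of the excluded types, lies in every essential
subgroup. -/
theorem le_of_essential [Finite S] {p : ℕ} [Fact p.Prime] (hS : IsPGroup p S) (F : FusionSystem S)
    (hF : F.IsSaturated p) {P : Subgroup Ω} (hP : F.StronglyClosed P)
    (hge : frattini ↥P = commutator ↥P ∧ Nat.card ↥(commutator ↥P) = p)
    (h2 : p = 2 → ¬ ∃ (A : Type) (_ : CommGroup A), (∀ a : A, a ^ 2 = 1) ∧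
      Nonempty (↥P ≃* DihedralGroup 4 × A))
    (hodd : p ≠ 2 → ¬ ∃ (E : Type) (_ : Group E) (A : Type) (_ : CommGroup A), Cfsg.IsExtraspecial p E ∧
      Nat.card E = p ^ 3 ∧ Monoid.exponent E = p ∧ (∀ a : A, a ^ p = 1) ∧ Nonempty (↥P ≃* E × A))
    {Q : Subgroup Ω} (hQ : F.IsEssential p Q) : P ≤ Q := by
  by_contra hPQ
  have hpp : p.Prime := Fact.out
  have hPS : P ≤ S := hP.1
  have hc : F.IsCentric Q := hQ.1
  have hfn : F.IsFullyNormalized Q := hQ.2.1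
  have hQS : Q ≤ S := hc.1
  have hfinQ : Finite Q := finite_of_le hQS
  have hfinP : Finite P := finite_of_le hPS
  have hrec : F.IsReceptive Q := saturated_fn_receptive hS F hF hfn
  have hfa : F.IsFullyAutomized p Q := (saturated_fn hS F hF hfn).2
  have hQp : IsPGroup p Q := hS.to_le hQS
  have hPp : IsPGroup p P := hS.to_le hPS
  have hPn : S ≤ Subgroup.normalizer (P : Set Ω) := le_normalizer_of_stronglyClosed F hP
  obtain ⟨Z₀, hZ₀P, hZ₀card, hZ₀c, hcomm, hpow⟩ := z0_props hS F hP hge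
  have hZ₀S : Z₀ ≤ S := hZ₀P.trans hPS
  have hZ₀Q : Z₀ ≤ Q := by
    intro c hc'
    apply hc.2 Q (isConj_refl F hQS)
    rw [mem_centralizerIn_iff]
    exact ⟨hZ₀S hc', fun q hq => hZ₀c c hc' q (hQS hq)⟩
  -- Step 1: the element `x`
  obtain ⟨x, hxP, hxN, hxQ⟩ : ∃ x ∈ P, x ∈ Subgroup.normalizer (Q : Set Ω) ∧ x ∉ Q := by
    have hTS : Q ⊔ P ≤ S := sup_le hQS hPS
    have hfinQP : Finite ↥(Q ⊔ P) := finite_of_le hTS
    have hne : Q ≠ Q ⊔ P := by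
      intro h
      apply hPQ
      rw [h]
      exact le_sup_right
    obtain ⟨g, hgN, hgQ⟩ := exists_mem_normalizerIn_not_mem (hS.to_le hTS) (le_sup_left : Q ≤ Q ⊔ P) hne
    have hLE : Q ≤ Subgroup.normalizer (P : Set Ω) := hQS.trans hPn
    have hg : g ∈ ((Q ⊔ P : Subgroup Ω) : Set Ω) := hgN.1
    rw [Subgroup.coe_mul_of_left_le_normalizer_right Q P hLE] at hg
    obtain ⟨q, hq, x, hx, rfl⟩ := Set.mem_mul.mp hg
    refine ⟨x, hx, ?_, fun h => hgQ (Q.mul_mem hq h)⟩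
    have h1 : x = q⁻¹ * (q * x) := by group
    rw [h1]
    exact Subgroup.mul_mem _ (Subgroup.inv_mem _ (Subgroup.le_normalizer hq)) hgN.2
  have hxS : x ∈ S := hPS hxP
  -- Step 2: the abstract data
  have hd : EssData p ↥Q (F.autGroup Q) := essData_of_essential hS F hQ
  have hM := SCM.mem_subgroupOf_iff_of_sc F hP hQS
  have hconjA : ∀ y (_ : y ∈ S) (hyN : y ∈ Subgroup.normalizer (Q : Set Ω)),
      Q.normalizerMonoidHom ⟨y, hyN⟩ ∈ F.autGroup Q := fun y hyS hyN =>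
    autInducedBy_le_autGroup F hQS (normalizerMonoidHom_mem_autInducedBy hyS hyN)
  obtain ⟨a, hadef⟩ : ∃ a : MulAut ↥Q, a = Q.normalizerMonoidHom ⟨x, hxN⟩ := ⟨_, rfl⟩
  have haA : a ∈ F.autGroup Q := hadef ▸ hconjA x hxS hxN
  have ha_apply : ∀ y : Q, ((a y : Q) : Ω) = x * y * x⁻¹ := by
    intro y
    rw [hadef]
    rfl
  have haC : ∀ y : Q, y⁻¹ * a y ∈ P.subgroupOf Q := by
    intro y
    rw [Subgroup.mem_subgroupOf]
    show ((y⁻¹ * a y : Q) : Ω) ∈ P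
    rw [Subgroup.coe_mul, ha_apply, Subgroup.coe_inv]
    have hyS : (y : Ω)⁻¹ ∈ S := S.inv_mem (hQS y.2)
    have h1 := (Subgroup.mem_normalizer_iff.mp (hPn hyS) x).mp hxP
    have : (y : Ω)⁻¹ * (x * y * x⁻¹) = ((y : Ω)⁻¹ * x * (y : Ω)⁻¹⁻¹) * x⁻¹ := by group
    rw [this]
    exact P.mul_mem h1 (P.inv_mem hxP)
  have haI : a ∉ Inn ↥Q := by
    intro h
    apply hxQ
    rw [hadef] at h
    exact mem_of_normalizerMonoidHom_mem_inn F hc hxS hxN h
  obtain ⟨j, haj⟩ : ∃ j : ℕ, a ^ (p ^ j) = 1 := by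
    obtain ⟨j, hj⟩ := autInducedBy_isPGroup hS Q
      ⟨a, hadef ▸ normalizerMonoidHom_mem_autInducedBy hxS hxN⟩
    exact ⟨j, congrArg Subtype.val hj⟩
  obtain ⟨M, hMdef⟩ : ∃ M, M = P.subgroupOf Q := ⟨_, rfl⟩
  obtain ⟨ZQ, hZQdef⟩ : ∃ ZQ, ZQ = Z₀.subgroupOf Q := ⟨_, rfl⟩
  rw [← hMdef] at hM haC
  have hmemM : ∀ y : Q, y ∈ M ↔ (y : Ω) ∈ P := fun y => by rw [hMdef, Subgroup.mem_subgroupOf]
  have hmemZ : ∀ y : Q, y ∈ ZQ ↔ (y : Ω) ∈ Z₀ := fun y => by rw [hZQdef, Subgroup.mem_subgroupOf]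
  have hZM : ZQ ≤ M := fun y hy => (hmemM y).mpr (hZ₀P ((hmemZ y).mp hy))
  have hZQcard : Nat.card ZQ = p := by
    rw [hZQdef, Nat.card_congr (Subgroup.subgroupOfEquivOfLe hZ₀Q).toEquiv, hZ₀card]
  have ha2 : ∀ m ∈ M, m⁻¹ * a m ∈ ZQ := by
    intro m hm
    rw [hmemZ]
    show ((m⁻¹ * a m : Q) : Ω) ∈ Z₀
    rw [Subgroup.coe_mul, ha_apply, Subgroup.coe_inv]
    have h1 := hcomm (m : Ω)⁻¹ (P.inv_mem ((hmemM m).mp hm)) x hxP
    have h2 : ⁅(m : Ω)⁻¹, x⁆ = (m : Ω)⁻¹ * (x * m * x⁻¹) := by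
      rw [commutatorElement_def]
      group
    rw [← h2]
    exact h1
  have ha3 : ∀ c ∈ ZQ, a c = c := by
    intro c hc'
    apply Subtype.ext
    rw [ha_apply, hZ₀c c ((hmemZ c).mp hc') x hxS, mul_inv_cancel_right]
  -- Step 3: some automorphism moves `Z₀`
  obtain ⟨α, hαA, z, hzZ, hαz⟩ : ∃ α ∈ F.autGroup Q, ∃ z ∈ ZQ, α z ∉ ZQ := by
    by_contra hcon
    push Not at hcon
    have hZinv : ∀ γ ∈ F.autGroup Q, ∀ y, y ∈ ZQ ↔ γ y ∈ ZQ := by
      intro γ hγ y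
      constructor
      · exact hcon γ hγ y
      · intro hy
        have := hcon γ⁻¹ (Subgroup.inv_mem _ hγ) _ hy
        rwa [MulAut.inv_apply_self] at this
    apply haI
    apply hd.mem_inn_of_chainStab hQp (chain5 ZQ M M) (chain5_mono hZM le_rfl) rfl 4 rfl _ haA
      (mem_chainStab_chain5 hZM le_rfl ha3 ha2 (fun y hy => hZM (ha2 y hy)) haC)
    intro γ hγ i y
    match i with
    | 0 =>
      show y ∈ (⊥ : Subgroup ↥Q) ↔ γ y ∈ (⊥ : Subgroup ↥Q)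
      rw [Subgroup.mem_bot, Subgroup.mem_bot, map_eq_one_iff γ γ.injective]
    | 1 => exact hZinv γ hγ y
    | 2 => exact hM γ hγ y
    | 3 => exact hM γ hγ y
    | (n + 4) => exact ⟨fun _ => Subgroup.mem_top _, fun _ => Subgroup.mem_top _⟩
  -- Step 4: the centralizer of `z' = α z` in `P` is elementary abelian; the structure of `P`
  have hzZ₀ : (z : Ω) ∈ Z₀ := (hmemZ z).mp hzZ
  have hαzZ₀ : ((α z : Q) : Ω) ∉ Z₀ := fun h => hαz ((hmemZ _).mpr h)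
  obtain ⟨hab₁, hexp₁⟩ := centralizer_elemAb hS F hF hP hZ₀P hZ₀card hZ₀c hcomm hpow hQS hαA hzZ₀ hαzZ₀
  obtain ⟨z', hz'def⟩ : ∃ z' : Q, z' = α z := ⟨_, rfl⟩
  rw [← hz'def] at hαz hαzZ₀ hab₁ hexp₁
  have hz'M : z' ∈ M := hz'def ▸ (hM α hαA z).mp (hZM hzZ)
  have hz'P : (z' : Ω) ∈ P := (hmemM z').mp hz'M
  have hz1 : z ≠ 1 := by
    rintro rfl
    apply hαz
    rw [hz'def, map_one]
    exact ZQ.one_mem
  have hz1' : (z : Ω) ≠ 1 := fun h => hz1 (Subtype.ext h)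
  obtain ⟨w, hwdef⟩ : ∃ w : ↥P, w = ⟨(z' : Ω), hz'P⟩ := ⟨_, rfl⟩
  have hw1 : (w : Ω) = (z' : Ω) := by rw [hwdef]
  have D : GData p ↥P w := by
    refine ⟨hPp, hge.1, hge.2, ?_, ?_⟩
    · intro u v hu hv
      have hu' : (u : Ω) * (z' : Ω) = (z' : Ω) * (u : Ω) := by
        have := congrArg Subtype.val hu
        rwa [Subgroup.coe_mul, Subgroup.coe_mul, hw1] at this
      have hv' : (v : Ω) * (z' : Ω) = (z' : Ω) * (v : Ω) := by
        have := congrArg Subtype.val hv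
        rwa [Subgroup.coe_mul, Subgroup.coe_mul, hw1] at this
      exact Subtype.ext (hab₁ u u.2 v v.2 hu' hv')
    · intro u hu
      have hu' : (u : Ω) * (z' : Ω) = (z' : Ω) * (u : Ω) := by
        have := congrArg Subtype.val hu
        rwa [Subgroup.coe_mul, Subgroup.coe_mul, hw1] at this
      apply Subtype.ext
      rw [Subgroup.coe_pow]
      exact hexp₁ u u.2 hu'
  have hne : ∃ y : ↥P, y * w ≠ w * y := by
    by_contra hcon
    push Not at hcon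
    have hbot : commutator ↥P = ⊥ := by
      rw [eq_bot_iff, commutator_def, Subgroup.commutator_le]
      intro g₁ _ g₂ _
      rw [Subgroup.mem_bot, commutatorElement_eq_one_iff_mul_comm]
      exact D.cab g₁ g₂ (hcon g₁) (hcon g₂)
    have h1 := hge.2
    rw [hbot, Subgroup.card_bot] at h1
    exact hpp.one_lt.ne h1
  obtain ⟨hp2, hmain⟩ := D.main hne h2 hodd
  have hmain' : ∀ u ∈ P, u ^ p = 1 → u * (z' : Ω) = (z' : Ω) * u := by
    intro u hu hup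
    by_contra hcon
    apply hmain ⟨u, hu⟩
    · intro h
      apply hcon
      have := congrArg Subtype.val h
      rwa [Subgroup.coe_mul, Subgroup.coe_mul, hw1] at this
    · exact Subtype.ext (by rw [Subgroup.coe_pow]; exact hup)
  have hmulpow : ∀ u ∈ P, ∀ v ∈ P, (u * v) ^ p = u ^ p * v ^ p := by
    intro u hu v hv
    have := congrArg Subtype.val (D.mul_pow_p hp2 ⟨u, hu⟩ ⟨v, hv⟩)
    simpa using this
  -- Step 5: `M` centralizes `z'`, `x` does not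
  have hMcen : ∀ m ∈ M, (m : Ω) * (z' : Ω) = (z' : Ω) * (m : Ω) := by
    intro m hm
    by_contra hcon
    have hmP : (m : Ω) ∈ P := (hmemM m).mp hm
    have hmp1 : (m : Ω) ^ p ≠ 1 := fun h => hcon (hmain' m hmP h)
    obtain ⟨i, hi⟩ := exists_pow_eq_of_card_prime hZ₀card (hpow m hmP) hmp1 hzZ₀
    have hzi : z = (m ^ p) ^ i := Subtype.ext (by rw [Subgroup.coe_pow, Subgroup.coe_pow]; exact hi.symm)
    apply hαzZ₀
    rw [hz'def, hzi, map_pow, map_pow, Subgroup.coe_pow, Subgroup.coe_pow]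
    exact Z₀.pow_mem (hpow _ ((hmemM _).mp ((hM α hαA m).mp hm))) i
  have hMab : ∀ u ∈ M, ∀ v ∈ M, u * v = v * u := by
    intro u hu v hv
    exact Subtype.ext (hab₁ u ((hmemM u).mp hu) v ((hmemM v).mp hv) (hMcen u hu) (hMcen v hv))
  have hMexp : ∀ u ∈ M, u ^ p = 1 := by
    intro u hu
    apply Subtype.ext
    rw [Subgroup.coe_pow]
    exact hexp₁ u ((hmemM u).mp hu) (hMcen u hu)
  have hxz' : x * (z' : Ω) ≠ (z' : Ω) * x := by
    intro hcon
    apply haI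
    apply hd.mem_inn_of_stab hQp hM haA _ haC
    intro m hm
    apply Subtype.ext
    rw [ha_apply, hab₁ x hxP m ((hmemM m).mp hm) hcon (hMcen m hm), mul_inv_cancel_right]
  have hxp1 : x ^ p ≠ 1 := fun h => hxz' (hmain' x hxP h)
  have hm1 : a z' ≠ z' := by
    intro h
    apply hxz'
    have := congrArg Subtype.val h
    rw [ha_apply] at this
    exact mul_inv_eq_iff_eq_mul.mp this
  -- the element `α⁻¹ z`
  have hα'z : ((α⁻¹ z : Q) : Ω) ∉ Z₀ := by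
    intro h
    have hc1 : ((α⁻¹ z : Q) : Ω) ≠ 1 := by
      intro h1
      apply hz1
      have : α⁻¹ z = 1 := Subtype.ext h1
      have h2 := congrArg α this
      rwa [MulAut.apply_inv_self, map_one] at h2
    obtain ⟨i, hi⟩ := exists_pow_eq_of_card_prime hZ₀card h hc1 hzZ₀
    have hzi : z = (α⁻¹ z) ^ i := Subtype.ext (by rw [Subgroup.coe_pow]; exact hi.symm)
    apply hαz
    rw [hz'def, hzi, map_pow, MulAut.apply_inv_self]
    exact ZQ.pow_mem hzZ i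
  obtain ⟨-, hexp₂⟩ := centralizer_elemAb hS F hF hP hZ₀P hZ₀card hZ₀c hcomm hpow hQS
    (Subgroup.inv_mem _ hαA) hzZ₀ hα'z
  have hm2 : a (α⁻¹ z) ≠ α⁻¹ z := by
    intro h
    apply hxp1
    apply hexp₂ x hxP
    have := congrArg Subtype.val h
    rw [ha_apply] at this
    exact mul_inv_eq_iff_eq_mul.mp this
  -- Step 6: the inverting element
  obtain ⟨h, hhA, Y, hYA, hYp, haY, hηY, hhinv, hηZ, hηz'⟩ := exists_inverter hQp (F.autGroup Q) M ZQ hZM hM hMab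
    hMexp hZQcard haA haj haC ha2 ha3 hαA hzZ (hz'def ▸ hαz) (hz'def ▸ hm1) hm2
  rw [← hz'def] at hηz'
  obtain ⟨η, hηdef⟩ : ∃ η, η = h * a * h⁻¹ * a⁻¹ := ⟨_, rfl⟩
  rw [← hηdef] at hηY hηZ hηz'
  -- Step 7: conjugating into `Aut_S(Q)` and extending
  obtain ⟨g, hgA, hgY⟩ := exists_conj_mem_autInducedBy F hfa Y hYA hYp
  have hconj1 : g * Q.normalizerMonoidHom ⟨x, hxN⟩ * g⁻¹ ∈ autInducedBy S Q := hadef ▸ hgY a haY
  obtain ⟨s₁, hs₁P, hs₁N, hs₁c, hs₁pow⟩ := exists_ext_over F hrec hP hgA hxP hxN hconj1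
  rw [← hadef] at hs₁c
  obtain ⟨β, hβdef⟩ : ∃ β, β = g * h * g⁻¹ := ⟨_, rfl⟩
  have hβA : β ∈ F.autGroup Q := hβdef ▸ Subgroup.mul_mem _ (Subgroup.mul_mem _ hgA hhA) (Subgroup.inv_mem _ hgA)
  have hconj2 : β * Q.normalizerMonoidHom ⟨s₁, hs₁N⟩ * β⁻¹ ∈ autInducedBy S Q := by
    have h1 : β * Q.normalizerMonoidHom ⟨s₁, hs₁N⟩ * β⁻¹ = (g * η * g⁻¹) * (g * a * g⁻¹) := by
      rw [hs₁c, hβdef, hηdef]
      group
    rw [h1]
    exact Subgroup.mul_mem _ (hgY η hηY) (hgY a haY)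
  obtain ⟨s₂, hs₂P, hs₂N, hs₂c, hs₂pow⟩ := exists_ext_over F hrec hP hβA hs₁P hs₁N hconj2
  -- `p`-th powers
  have hxpZ : x ^ p ∈ Z₀ := hpow x hxP
  have hxpQ : x ^ p ∈ Q := hZ₀Q hxpZ
  have hs₁p : s₁ ^ p = ((g ⟨x ^ p, hxpQ⟩ : Q) : Ω) := hs₁pow p hxpQ
  have hs₁pQ : s₁ ^ p ∈ Q := hs₁p ▸ (g ⟨x ^ p, hxpQ⟩).2
  have hs₂p : s₂ ^ p = (s₁ ^ p)⁻¹ := by
    rw [hs₂pow p hs₁pQ]
    have h1 : (⟨s₁ ^ p, hs₁pQ⟩ : Q) = g ⟨x ^ p, hxpQ⟩ := Subtype.ext hs₁p
    rw [h1, hβdef]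
    show ((g (h (g⁻¹ (g ⟨x ^ p, hxpQ⟩))) : Q) : Ω) = _
    rw [MulAut.inv_apply_self, hhinv ⟨x ^ p, hxpQ⟩ ((hmemZ _).mpr hxpZ), map_inv, Subgroup.coe_inv, hs₁p]
  obtain ⟨u, hudef⟩ : ∃ u, u = s₂ * s₁ := ⟨_, rfl⟩
  have huP : u ∈ P := hudef ▸ P.mul_mem hs₂P hs₁P
  have hup : u ^ p = 1 := by
    rw [hudef, hmulpow s₂ hs₂P s₁ hs₁P, hs₂p, inv_mul_cancel]
  have huz' : u * (z' : Ω) = (z' : Ω) * u := hmain' u huP hup
  -- `u` centralizes `M`
  obtain ⟨v, hvdef⟩ : ∃ v : Q, v = g z' := ⟨_, rfl⟩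
  have hvM : v ∈ M := hvdef ▸ (hM g hgA z').mp hz'M
  have huv : u * (v : Ω) = (v : Ω) * u := hab₁ u huP v ((hmemM v).mp hvM) huz' (hMcen v hvM)
  have huN : u ∈ Subgroup.normalizer (Q : Set Ω) := hudef ▸ Subgroup.mul_mem _ hs₂N hs₁N
  have hcu : Q.normalizerMonoidHom ⟨u, huN⟩ = g * (η * a * a) * g⁻¹ := by
    have h1 : (⟨u, huN⟩ : Subgroup.normalizer (Q : Set Ω)) = ⟨s₂, hs₂N⟩ * ⟨s₁, hs₁N⟩ := Subtype.ext hudef
    rw [h1, map_mul, hs₂c, hs₁c, hβdef, hηdef]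
    group
  have hfix : (η * a * a) z' = z' := by
    have h1 : Q.normalizerMonoidHom ⟨u, huN⟩ v = v := by
      apply Subtype.ext
      show u * (v : Ω) * u⁻¹ = v
      rw [huv, mul_inv_cancel_right]
    rw [hcu, hvdef] at h1
    have h2 : (g * (η * a * a) * g⁻¹) (g z') = g ((η * a * a) z') := by
      show g ((η * a * a) (g⁻¹ (g z'))) = _
      rw [MulAut.inv_apply_self]
    rw [h2] at h1
    exact g.injective h1
  -- the final computation
  obtain ⟨c, hcdef⟩ : ∃ c, c = z'⁻¹ * a z' := ⟨_, rfl⟩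
  have hcZ : c ∈ ZQ := hcdef ▸ ha2 z' hz'M
  have haz' : a z' = z' * c := by rw [hcdef, mul_inv_cancel_left]
  have hcc : c * c = 1 := by
    have h1 : (η * a * a) z' = z' * c * c := by
      show η (a (a z')) = _
      rw [haz', map_mul, haz', ha3 c hcZ, map_mul, map_mul, hηz', hηZ c hcZ]
    rw [hfix] at h1
    have h2 : z' * 1 = z' * (c * c) := by rw [mul_one, ← mul_assoc]; exact h1
    exact (mul_left_cancel h2).symm
  have hcp : c ^ p = 1 := hMexp c (hZM hcZ)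
  have hc1 : c = 1 := by
    have h4 : c ^ 2 = 1 := by rw [sq]; exact hcc
    have h6 : c ^ (Nat.gcd 2 p) = 1 := pow_gcd_eq_one.mpr ⟨h4, hcp⟩
    have h7 : Nat.gcd 2 p = 1 := (Nat.coprime_primes Nat.prime_two hpp).mpr (Ne.symm hp2)
    rwa [h7, pow_one] at h6
  apply hm1
  rw [haz', hc1, mul_one]

/-- A strongly closed generalized extraspecial subgroup of a saturated fusion system, not of the excluded types, is
normal in the system. -/
theorem isNormal_of_stronglyClosed_genExtraspecial [Finite S] {p : ℕ} [Fact p.Prime] (hS : IsPGroup p S)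
    (F : FusionSystem S) (hF : F.IsSaturated p) {P : Subgroup Ω} (hP : F.StronglyClosed P)
    (hge : frattini ↥P = commutator ↥P ∧ Nat.card ↥(commutator ↥P) = p)
    (h2 : p = 2 → ¬ ∃ (A : Type) (_ : CommGroup A), (∀ a : A, a ^ 2 = 1) ∧
      Nonempty (↥P ≃* DihedralGroup 4 × A))
    (hodd : p ≠ 2 → ¬ ∃ (E : Type) (_ : Group E) (A : Type) (_ : CommGroup A), Cfsg.IsExtraspecial p E ∧
      Nat.card E = p ^ 3 ∧ Monoid.exponent E = p ∧ (∀ a : A, a ^ p = 1) ∧ Nonempty (↥P ≃* E × A)) :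
    F.IsNormal P := by
  apply isNormal_of_forall_aut hS F hF P
  intro R hR
  have hRS : R ≤ S := by
    rcases hR with rfl | hR
    · exact le_rfl
    · exact hR.1.1
  refine ⟨?_, fun α hα => map_aut_eq_of_stronglyClosed F hP hRS hα⟩
  rcases hR with rfl | hR
  · exact hP.1
  · exact le_of_essential hS F hF hP hge h2 hodd hR

end Fus

end Cfsg.Agent.Lib.Helper26.GEx
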