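import Mathlib
import Cfsg.Agent.Lib.Helper26.GLAUB2IDX1

/-!
# S4385 (market "GLAUB2"): leaf IDX2 (`relIndex_centralizer_eight`)
-/

set_option autoImplicit false

namespace Cfsg.Agent.Lib.Helper26.GLAUB2IDX2

open Cfsg.Agent.Lib.Helper26.GLAUB2IDX1

variable {G : Type*} [Group G]

/-- the order of `H / C_H(K)` is even and at least `3` (as in IDX1) -/
theorem range_even_three_le [Finite G] (H K : Subgroup G)
    (hN : H ≤ Subgroup.normalizer (K : Set G))
    (a b k1 k2 : G) (haH : a ∈ H) (hbH : b ∈ H) (ha : a * a = 1) (hk1 : k1 ∈ K) (hk2 : k2 ∈ K)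
    (hak2 : a * k2 ≠ k2 * a) (hak1 : a * k1 = k1 * a) (hbk1 : b * k1 ≠ k1 * b) :
    2 ∣ Nat.card ↥(conjPerm H K hN).range ∧ 3 ≤ Nat.card ↥(conjPerm H K hN).range := by
  classical
  set ψ := conjPerm H K hN with hψ
  have hψa : ψ ⟨a, haH⟩ ≠ 1 := conjPerm_ne_one H K hN a k2 haH hk2 hak2
  have hψb : ψ ⟨b, hbH⟩ ≠ 1 := conjPerm_ne_one H K hN b k1 hbH hk1 hbk1
  have hψab : ψ ⟨a, haH⟩ ≠ ψ ⟨b, hbH⟩ := by
    intro h
    apply hbk1
    have h1 := congrArg (fun f : Equiv.Perm ↥K => ((f ⟨k1, hk1⟩ : ↥K) : G)) h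
    simp only [hψ, conjPerm_apply_coe] at h1
    have h2 : a * k1 * a⁻¹ = k1 := by rw [hak1]; group
    rw [h2] at h1
    calc b * k1 = (b * k1 * b⁻¹) * b := by group
      _ = k1 * b := by rw [← h1]
  refine ⟨?_, ?_⟩
  · have hsq : (ψ ⟨a, haH⟩) ^ 2 = 1 := by
      rw [← map_pow]
      have : (⟨a, haH⟩ : ↥H) ^ 2 = 1 := by
        apply Subtype.ext
        rw [Subgroup.coe_pow, pow_two]
        exact ha
      rw [this, map_one]
    have ho : orderOf (ψ ⟨a, haH⟩) = 2 := orderOf_eq_prime hsq hψa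
    have ho' : orderOf (⟨ψ ⟨a, haH⟩, ⟨_, rfl⟩⟩ : ↥ψ.range) = 2 := by
      rw [← ho]
      exact Subgroup.orderOf_mk _ _
    rw [← ho']
    exact orderOf_dvd_natCard _
  · let f : Fin 3 → ↥ψ.range := ![⟨1, ψ.range.one_mem⟩, ⟨ψ ⟨a, haH⟩, ⟨_, rfl⟩⟩, ⟨ψ ⟨b, hbH⟩, ⟨_, rfl⟩⟩]
    have hf : Function.Injective f := by
      intro i j hij
      fin_cases i <;> fin_cases j <;> simp [f, Subtype.ext_iff] at hij ⊢
      · exact absurd hij.symm hψa
      · exact absurd hij.symm hψb
      · exact absurd hij hψa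
      · exact absurd hij hψab
      · exact absurd hij hψb
      · exact absurd hij.symm hψab
    have := Nat.card_le_card_of_injective f hf
    simpa using this

/-- the centralizer of a normal subgroup of order `4` has index dividing `6` -/
theorem index_centralizer_dvd_six {Q : Type*} [Group Q] [Finite Q] (L : Subgroup Q) [hL : L.Normal]
    (h4 : Nat.card ↥L = 4) : (Subgroup.centralizer (L : Set Q)).index ∣ 6 := by
  have hN : (⊤ : Subgroup Q) ≤ Subgroup.normalizer (L : Set Q) := by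
    rw [Subgroup.normalizer_eq_top]
  have h1 := relIndex_eq_card_range ⊤ L hN
  rw [inf_top_eq, Subgroup.relIndex_top_right] at h1
  rw [h1]
  have h2 := Subgroup.card_dvd_of_le (range_le_stabilizer ⊤ L hN)
  rw [card_stabilizer_perm26, h4] at h2
  exact h2

/-- elements of the group generated by an involution -/
theorem mem_zpowers_invol {z x : G} (hz2 : z * z = 1) (hx : x ∈ Subgroup.zpowers z) :
    x = 1 ∨ x = z := by
  obtain ⟨i, rfl⟩ := Subgroup.mem_zpowers_iff.mp hx
  have hjj : ∀ j : ℤ, z ^ j * z ^ j = 1 := fun j => by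
    rw [← (Commute.refl z).mul_zpow j, hz2, one_zpow]
  rcases Int.even_or_odd i with ⟨j, rfl⟩ | ⟨j, rfl⟩
  · left
    rw [zpow_add, hjj]
  · right
    rw [zpow_add, zpow_one, two_mul, zpow_add, hjj, one_mul]

/-- the arithmetic at the end of IDX2 -/
theorem arith_idx2 (r n j d c : ℕ) (hn : Odd n) (h2 : 2 ∣ r) (h3 : 3 ≤ r) (hr : r ∣ 2 * n)
    (hd : d ∣ 6) (hmul : c * d = r) (hc : c = 2 ^ j) : r = 6 := by
  obtain ⟨m, rfl⟩ := h2
  have hmn : m ∣ n := Nat.dvd_of_mul_dvd_mul_left (by norm_num) hr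
  have hmodd : Odd m := Odd.of_dvd_nat hn hmn
  have h6 : 2 * m ∣ 2 * (3 * 2 ^ j) := by
    rw [← hmul, hc]
    obtain ⟨e, he⟩ := hd
    refine ⟨e, ?_⟩
    have : 2 * (3 * 2 ^ j) = 2 ^ j * 6 := by ring
    rw [this, he]; ring
  have h7 : m ∣ 3 * 2 ^ j := Nat.dvd_of_mul_dvd_mul_left (by norm_num) h6
  have hcop : Nat.Coprime m (2 ^ j) :=
    Nat.Coprime.pow_right j
      ((Nat.Prime.coprime_iff_not_dvd Nat.prime_two).mpr hmodd.not_two_dvd_nat).symm
  have h8 : m ∣ 3 := hcop.dvd_of_dvd_mul_right h7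
  have h9 : m ≤ 3 := Nat.le_of_dvd (by norm_num) h8
  interval_cases m <;> omega

/-- LEAF IDX2 (index of the centralizer of a normal abelian subgroup of order 8 containing a
central involution). -/
theorem relIndex_centralizer_eight [Finite G] (H K : Subgroup G) (hKH : K ≤ H)
    (hN : H ≤ Subgroup.normalizer (K : Set G)) (hK : Nat.card ↥K = 8)
    (hKc : ∀ u ∈ K, ∀ v ∈ K, u * v = v * u)
    (n : ℕ) (hn : Odd n) (hcard : Nat.card ↥H = 16 * n)
    (z : G) (hzK : z ∈ K) (hz1 : z ≠ 1) (hz2 : z * z = 1) (hzc : ∀ h ∈ H, h * z = z * h)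
    (a b k1 k2 : G) (haH : a ∈ H) (hbH : b ∈ H) (ha : a * a = 1) (hk1 : k1 ∈ K) (hk2 : k2 ∈ K)
    (hak2 : a * k2 ≠ k2 * a) (hak1 : a * k1 = k1 * a) (hbk1 : b * k1 ≠ k1 * b) :
    (Subgroup.centralizer (K : Set G) ⊓ H).relIndex H = 6 := by
  classical
  obtain ⟨h2dvd, h3le⟩ := range_even_three_le H K hN a b k1 k2 haH hbH ha hk1 hk2 hak2 hak1 hbk1
  have hrel := relIndex_eq_card_range H K hN
  set ψ := conjPerm H K hN with hψ
  set C' : Subgroup ↥H := (Subgroup.centralizer (K : Set G) ⊓ H).subgroupOf H with hC'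
  have hker : ψ.ker = C' := conjPerm_ker H K hN
  have hr : (Subgroup.centralizer (K : Set G) ⊓ H).relIndex H = C'.index := rfl
  have hnpos : 0 < n := hn.pos
  -- `K` inside `H`
  set K' : Subgroup ↥H := K.subgroupOf H with hK'
  have hK'card : Nat.card ↥K' = 8 := by
    rw [hK', Nat.card_congr (Subgroup.subgroupOfEquivOfLe hKH).toEquiv, hK]
  have hK'C' : K' ≤ C' := by
    intro x hx
    rw [hC', Subgroup.mem_subgroupOf, Subgroup.mem_inf]
    refine ⟨?_, x.2⟩
    rw [Subgroup.mem_centralizer_iff]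
    intro k hk
    exact hKc k hk x hx
  have hK'idx : K'.index = 2 * n := by
    have h2 := Subgroup.card_mul_index K'
    rw [hK'card, hcard] at h2
    omega
  have hr2n : C'.index ∣ 2 * n := by
    have h1 := Subgroup.index_dvd_of_le hK'C'
    rwa [hK'idx] at h1
  have hK'n : K'.Normal := (Subgroup.normal_subgroupOf_iff_le_normalizer hKH).mpr hN
  -- the central involution
  set z' : ↥H := ⟨z, hKH hzK⟩ with hz'
  have hz'2 : z' * z' = 1 := Subtype.ext hz2
  have hz'1 : z' ≠ 1 := fun h => hz1 (congrArg Subtype.val h)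
  have hz'c : ∀ y : ↥H, y * z' = z' * y := fun y => Subtype.ext (hzc y y.2)
  set Z' : Subgroup ↥H := Subgroup.zpowers z' with hZ'
  have hZn : Z'.Normal := ⟨fun x hx g => by
    obtain ⟨i, rfl⟩ := Subgroup.mem_zpowers_iff.mp hx
    have hcm : Commute g z' := hz'c g
    have hc : g * z' ^ i * g⁻¹ = z' ^ i := by
      rw [(hcm.zpow_right i).eq, mul_inv_cancel_right]
    rw [hc]; exact hx⟩
  have hZcard : Nat.card ↥Z' = 2 := by
    rw [hZ', Nat.card_zpowers]
    exact orderOf_eq_prime (by rw [pow_two]; exact hz'2) hz'1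
  have hZK' : Z' ≤ K' := by
    rw [hZ', Subgroup.zpowers_le]
    exact hzK
  -- the quotient
  have hsurj : Function.Surjective (QuotientGroup.mk' Z') := QuotientGroup.mk'_surjective Z'
  have hQcard : Nat.card (↥H ⧸ Z') = 8 * n := by
    have h1 := Subgroup.card_mul_index Z'
    rw [hZcard, hcard, Subgroup.index_eq_card] at h1
    omega
  set Kb : Subgroup (↥H ⧸ Z') := K'.map (QuotientGroup.mk' Z') with hKb
  have hKbn : Kb.Normal := hK'n.map (QuotientGroup.mk' Z') hsurj
  have hKbidx : Kb.index = 2 * n := by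
    rw [hKb, Subgroup.index_map_eq K' hsurj (by rw [QuotientGroup.ker_mk']; exact hZK'), hK'idx]
  have hKbcard : Nat.card ↥Kb = 4 := by
    have h1 := Subgroup.card_mul_index Kb
    rw [hKbidx, hQcard] at h1
    have : Nat.card ↥Kb * (2 * n) = 4 * (2 * n) := by rw [h1]; ring
    exact Nat.eq_of_mul_eq_mul_right (by omega) this
  have hidx6 := index_centralizer_dvd_six Kb hKbcard
  set C1 : Subgroup ↥H := (Subgroup.centralizer (Kb : Set (↥H ⧸ Z'))).comap (QuotientGroup.mk' Z')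
    with hC1
  have hC1idx : C1.index = (Subgroup.centralizer (Kb : Set (↥H ⧸ Z'))).index :=
    Subgroup.index_comap_of_surjective _ hsurj
  have hC'C1 : C' ≤ C1 := by
    intro x hx
    rw [hC1, Subgroup.mem_comap, Subgroup.mem_centralizer_iff]
    rintro _ ⟨k, hk, rfl⟩
    rw [hC', Subgroup.mem_subgroupOf, Subgroup.mem_inf] at hx
    have h1 := Subgroup.mem_centralizer_iff.mp hx.1 (k : G) hk
    have h2 : k * x = x * k := Subtype.ext h1
    rw [← map_mul, ← map_mul, h2]
  have hsq : ∀ x ∈ C1, x * x ∈ C' := by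
    intro x hx
    rw [hC1, Subgroup.mem_comap, Subgroup.mem_centralizer_iff] at hx
    rw [hC', Subgroup.mem_subgroupOf, Subgroup.mem_inf]
    refine ⟨?_, (x * x).2⟩
    rw [Subgroup.mem_centralizer_iff]
    intro k hk
    set k' : ↥H := ⟨k, hKH hk⟩ with hk'
    have hk'K : k' ∈ K' := hk
    have h1 := hx _ (Subgroup.mem_map_of_mem (QuotientGroup.mk' Z') hk'K)
    rw [← map_mul, ← map_mul] at h1
    have h2 : (k' * x)⁻¹ * (x * k') ∈ Z' := QuotientGroup.eq.mp h1
    have hw : x * k' = k' * x * ((k' * x)⁻¹ * (x * k')) := by group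
    have hgoal : k' * (x * x) = x * x * k' := by
      rcases mem_zpowers_invol hz'2 h2 with h3 | h3
      · rw [h3, mul_one] at hw
        calc k' * (x * x) = (k' * x) * x := (mul_assoc _ _ _).symm
          _ = (x * k') * x := by rw [hw]
          _ = x * (k' * x) := mul_assoc _ _ _
          _ = x * (x * k') := by rw [hw]
          _ = x * x * k' := (mul_assoc _ _ _).symm
      · rw [h3] at hw
        symm
        calc x * x * k' = x * (x * k') := mul_assoc _ _ _
          _ = x * (k' * x * z') := by rw [hw]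
          _ = (x * k') * x * z' := by simp only [mul_assoc]
          _ = (k' * x * z') * x * z' := by rw [hw]
          _ = k' * x * (z' * x) * z' := by simp only [mul_assoc]
          _ = k' * x * (x * z') * z' := by rw [← hz'c x]
          _ = k' * (x * x) * (z' * z') := by simp only [mul_assoc]
          _ = k' * (x * x) := by rw [hz'2, mul_one]
    exact congrArg Subtype.val hgoal
  -- `C1 / C'` is a 2-group
  have : Fact (Nat.Prime 2) := ⟨Nat.prime_two⟩
  have hQ1 : IsPGroup 2 ↥(C1.map ψ) := by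
    rintro ⟨_, x, hx, rfl⟩
    refine ⟨1, Subtype.ext ?_⟩
    rw [pow_one, Subgroup.coe_pow, Subgroup.coe_one, pow_two, ← map_mul]
    have := hsq x hx
    rw [← hker] at this
    exact this
  obtain ⟨j, hj⟩ := IsPGroup.iff_card.mp hQ1
  have hrk : C'.relIndex C1 = Nat.card ↥(C1.map ψ) := by
    rw [← hker]; exact Subgroup.relIndex_ker C1 ψ
  have hmul : C'.relIndex C1 * C1.index = C'.index := Subgroup.relIndex_mul_index hC'C1
  rw [hr]
  rw [hr] at hrel
  rw [← hrel] at h2dvd h3le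
  rw [hC1idx] at hmul
  exact arith_idx2 C'.index n j _ _ hn h2dvd h3le hr2n hidx6 hmul (hrk.trans hj)

end Cfsg.Agent.Lib.Helper26.GLAUB2IDX2
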