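import Cfsg.Agent.Lib.Helper26.FSFrobenius
import Cfsg.Agent.Lib.Helper26.FSKNormSat
import Cfsg.Agent.Lib.Helper26.FSMinimalNonInner
import Cfsg.Agent.Lib.Helper26.FSNormalizer
import Cfsg.Agent.Lib.Helper26.FSIso
import Cfsg.Agent.Lib.Helper26.FSSatEquiv
import Cfsg.Agent.Lib.Helper26.FSSylow
import Cfsg.Agent.Lib.Helper26.FSFactorHyp

/-!
Glauberman–Thompson for fusion systems, part 1: "bad" subgroups (subgroups whose normalizer system has a
nontrivial `p'`-automorphism).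
-/

set_option autoImplicit false
set_option linter.unusedSectionVars false
set_option linter.unusedVariables false

namespace Cfsg.Agent.Lib.Helper26.GT

open Cfsg Cfsg.FusionSystem Cfsg.Agent.Lib.Helper26

variable {Ω : Type*} [Group Ω] {S : Subgroup Ω}

/-- `U` is bad: some `Y` with `U ≤ Y ≤ N_S(U)` has a nontrivial automorphism in the system of order prime to `p`
normalizing `U`. -/
def Bad (F : FusionSystem S) (p : ℕ) (U : Subgroup Ω) : Prop :=
  ∃ (Y : Subgroup Ω) (α : MulAut ↥Y), U ≤ Y ∧ Y ≤ normalizerIn S U ∧ α ∈ F.autGroup Y ∧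
    (∀ y : ↥Y, (y : Ω) ∈ U → ((α y : ↥Y) : Ω) ∈ U) ∧ α ≠ 1 ∧ (orderOf α).Coprime p

theorem pow_apply_mem {Y U : Subgroup Ω} (α : MulAut ↥Y)
    (h : ∀ y : ↥Y, (y : Ω) ∈ U → ((α y : ↥Y) : Ω) ∈ U) (n : ℕ) :
    ∀ y : ↥Y, (y : Ω) ∈ U → (((α ^ n) y : ↥Y) : Ω) ∈ U := by
  induction n with
  | zero => intro y hy; simpa using hy
  | succ n ih =>
    intro y hy
    rw [pow_succ, MulAut.mul_apply]
    exact ih _ (h y hy)

theorem inv_apply_mem {Y U : Subgroup Ω} [Finite ↥Y] (α : MulAut ↥Y)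
    (h : ∀ y : ↥Y, (y : Ω) ∈ U → ((α y : ↥Y) : Ω) ∈ U) :
    ∀ y : ↥Y, (y : Ω) ∈ U → ((α⁻¹ y : ↥Y) : Ω) ∈ U := by
  have hpos : 0 < orderOf α := orderOf_pos α
  have e : α⁻¹ = α ^ (orderOf α - 1) := by
    rw [eq_comm, ← mul_eq_one_iff_eq_inv, ← pow_succ, Nat.sub_add_cancel hpos, pow_orderOf_eq_one]
  rw [e]
  exact pow_apply_mem α h _

/-- A bad subgroup has a non-inner normalizer system. -/
theorem not_inner_of_bad [Finite ↥S] {p : ℕ} [Fact p.Prime] (hS : IsPGroup p S) (F : FusionSystem S)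
    {U : Subgroup Ω} (hbad : Bad F p U) (N : FusionSystem (normalizerIn S U))
    (hN : F.IsNormalizerSystem U N) :
    ¬ ∀ P : Subgroup Ω, N.Hom P = (innerFusionSystem (normalizerIn S U)).Hom P := by
  intro hinner
  obtain ⟨Y, α, hUY, hYN, hαF, hαU, hα1, hαp⟩ := hbad
  have hYS : Y ≤ S := hYN.trans (normalizerIn_le S U)
  have hfinY : Finite ↥Y := finite_of_le hYS
  have hφF : equivHom (α : ↥Y ≃* ↥Y) ∈ F.Hom Y := (mem_autGroup_iff F hYS α).mp hαF
  have hle : Y ⊔ U ≤ Y := sup_le le_rfl hUY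
  have hφN : equivHom (α : ↥Y ≃* ↥Y) ∈ F.normalizerHom U Y := by
    refine ⟨hφF, hYN, fun x => hYN (α x).2, (equivHom (α : ↥Y ≃* ↥Y)).comp (Subgroup.inclusion hle),
      inclusion_comp_mem F hle hφF, fun x => rfl, ?_⟩
    rw [map_subgroupOf_eq_iff]
    constructor
    · intro y hy
      exact hαU ⟨y, hle y.2⟩ hy
    · intro z hz
      have hzY : z ∈ Y := hUY hz
      have h1 := inv_apply_mem α hαU ⟨z, hzY⟩ hz
      refine ⟨⟨(α⁻¹ ⟨z, hzY⟩ : ↥Y), (le_sup_left : Y ≤ Y ⊔ U) (α⁻¹ ⟨z, hzY⟩).2⟩, h1, ?_⟩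
      show ((α (α⁻¹ ⟨z, hzY⟩) : ↥Y) : Ω) = z
      rw [MulAut.apply_inv_self]
  rw [← hN Y, hinner Y] at hφN
  obtain ⟨-, g, hg, hgα⟩ := hφN
  have hgS : g ∈ S := normalizerIn_le S U hg
  obtain ⟨k, hk⟩ := hS ⟨g, hgS⟩
  have hgk : g ^ p ^ k = 1 := by
    have := congrArg (fun s : ↥S => (s : Ω)) hk
    simpa using this
  have hαk : α ^ p ^ k = 1 := by
    ext x
    have := aut_pow_apply_of_conj α g (fun x => hgα x) (p ^ k) x
    rw [this, hgk]
    simp
  have hdvd : orderOf α ∣ p ^ k := orderOf_dvd_of_pow_eq_one hαk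
  have h1 : orderOf α = 1 := by
    have := Nat.Coprime.eq_one_of_dvd (Nat.Coprime.pow_right k hαp) hdvd
    exact this
  exact hα1 (orderOf_eq_one_iff.mp h1)

/-- If the (saturated) normalizer system of a fully normalized subgroup is not inner, the subgroup is bad. -/
theorem bad_of_not_inner [Finite ↥S] {p : ℕ} [Fact p.Prime] (hS : IsPGroup p S) (F : FusionSystem S)
    (hF : F.IsSaturated p) {U : Subgroup Ω} (hU : F.IsFullyNormalized U)
    (N : FusionSystem (normalizerIn S U)) (hN : F.IsNormalizerSystem U N)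
    (hne : ¬ ∀ P : Subgroup Ω, N.Hom P = (innerFusionSystem (normalizerIn S U)).Hom P) : Bad F p U := by
  have hp : p.Prime := Fact.out
  have hNsat := normalizerSystem_saturated hS F hF hU N hN
  have hpN : IsPGroup p (normalizerIn S U) := hS.to_le (normalizerIn_le S U)
  have hfinN : Finite ↥(normalizerIn S U) := finite_of_le (normalizerIn_le S U)
  by_contra hnb
  apply hne
  have hall : ∀ P : Subgroup Ω, P ≤ normalizerIn S U → IsPGroup p (N.autGroup P) := by
    intro P hPN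
    by_contra hnp
    apply hnb
    have hPS : P ≤ S := hPN.trans (normalizerIn_le S U)
    have hfinP : Finite ↥P := finite_of_le hPS
    obtain ⟨q, β, hq, hqp, hβ⟩ := exists_prime_order_ne hnp
    set b : MulAut ↥P := (β : MulAut ↥P) with hb
    have hbo : orderOf b = q := by rw [hb, ← hβ, Subgroup.orderOf_coe]
    have hbN : equivHom (b : ↥P ≃* ↥P) ∈ N.Hom P := (mem_autGroup_iff N hPN b).mp β.2
    rw [hN P] at hbN
    obtain ⟨hφF, -, -, ψ, hψ, hψφ, hψU⟩ := hbN
    have hYS : P ⊔ U ≤ S := sup_le hPS hU.1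
    have hfinY : Finite ↥(P ⊔ U) := finite_of_le hYS
    have hr : ψ.range = P ⊔ U := by
      apply range_eq_of_le ψ (F.injective_of_mem hψ)
      intro x
      have := ext_apply_mem_sup (equivHom (b : ↥P ≃* ↥P)) ψ hψφ hψU x
      rwa [equivHom_range] at this
    set α₀ : MulAut ↥(P ⊔ U) := homEquiv F hψ hr with hα₀
    have hα₀F : α₀ ∈ F.autGroup (P ⊔ U) :=
      (mem_autGroup_iff_isFIso F hYS α₀).mpr (homEquiv_isFIso F hψ hr)
    have hα₀P : ∀ x : ↥P, ((α₀ (Subgroup.inclusion le_sup_left x) : ↥(P ⊔ U)) : Ω) = ((b x : ↥P) : Ω) := by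
      intro x
      show ψ (Subgroup.inclusion le_sup_left x) = _
      rw [hψφ x]
      rfl
    have hα₀pow : ∀ n : ℕ, ∀ x : ↥P,
        (((α₀ ^ n) (Subgroup.inclusion le_sup_left x) : ↥(P ⊔ U)) : Ω) = (((b ^ n) x : ↥P) : Ω) := by
      intro n
      induction n with
      | zero => intro x; simp
      | succ n ih =>
        intro x
        rw [pow_succ, pow_succ, MulAut.mul_apply, MulAut.mul_apply]
        have e : α₀ (Subgroup.inclusion le_sup_left x) = Subgroup.inclusion le_sup_left (b x) :=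
          Subtype.ext (hα₀P x)
        rw [e, ih]
    have hα₀U : ∀ y : ↥(P ⊔ U), (y : Ω) ∈ U → ((α₀ y : ↥(P ⊔ U)) : Ω) ∈ U :=
      fun y hy => ((map_subgroupOf_eq_iff ψ).mp hψU).1 y hy
    obtain ⟨a, m', hm', hn⟩ := Nat.exists_eq_pow_mul_and_not_dvd (orderOf_pos α₀).ne' p hp.ne_one
    have hdvd : p ^ a ∣ orderOf α₀ := ⟨m', hn⟩
    refine ⟨P ⊔ U, α₀ ^ (p ^ a), le_sup_right, sup_le hPN (le_normalizerIn hU.1),
      Subgroup.pow_mem _ hα₀F _, pow_apply_mem α₀ hα₀U _, ?_, ?_⟩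
    · intro h1
      have hb1 : b ^ (p ^ a) = 1 := by
        ext x
        rw [← hα₀pow, h1]
        rfl
      have h2 : q ∣ p ^ a := hbo ▸ orderOf_dvd_of_pow_eq_one hb1
      have h3 : q ∣ p := hq.dvd_of_dvd_pow h2
      exact hqp ((Nat.prime_dvd_prime_iff_eq hq hp).mp h3)
    · rw [orderOf_pow_of_dvd (pow_ne_zero _ hp.ne_zero) hdvd, hn, Nat.mul_div_cancel_left _ (pow_pos hp.pos _)]
      exact ((Nat.Prime.coprime_iff_not_dvd hp).mpr hm').symm
  have := eq_inner_of_forall_isPGroup hpN N hNsat hall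
  intro P
  rw [this]

/-- Badness passes from a subsystem to the ambient system. -/
theorem Bad.of_subsystem {T : Subgroup Ω} {E : FusionSystem T} {F : FusionSystem S} {p : ℕ}
    (hTS : T ≤ S) (hEF : E.IsSubsystemOf F) {W : Subgroup Ω} (h : Bad E p W) : Bad F p W := by
  obtain ⟨Y, α, hWY, hYN, hαE, hαW, hα1, hαp⟩ := h
  have hYT : Y ≤ T := hYN.trans (normalizerIn_le T W)
  refine ⟨Y, α, hWY, ?_, ?_, hαW, hα1, hαp⟩
  · intro y hy
    have := hYN hy
    exact ⟨hTS this.1, this.2⟩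
  · rw [mem_autGroup_iff F (hYT.trans hTS)]
    exact hEF Y ((mem_autGroup_iff E hYT α).mp hαE)

/-- Transport of badness along a map of the system defined on `N_S(W)`. -/
theorem Bad.transport [Finite ↥S] (F : FusionSystem S) {p : ℕ} {W U' : Subgroup Ω}
    (χ : ↥(normalizerIn S W) →* Ω) (hχ : χ ∈ F.Hom (normalizerIn S W))
    (hmap : (W.subgroupOf (normalizerIn S W)).map χ = U') (h : Bad F p W) : Bad F p U' := by
  obtain ⟨Y, α, hWY, hYN, hαF, hαW, hα1, hαp⟩ := h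
  have hχinj := F.injective_of_mem hχ
  have hχY : χ.comp (Subgroup.inclusion hYN) ∈ F.Hom Y := inclusion_comp_mem F hYN hχ
  set Y' : Subgroup Ω := (Y.subgroupOf (normalizerIn S W)).map χ with hY'
  have hr : (χ.comp (Subgroup.inclusion hYN)).range = Y' := by
    ext z
    constructor
    · rintro ⟨y, rfl⟩
      exact ⟨Subgroup.inclusion hYN y, y.2, rfl⟩
    · rintro ⟨y, hy, rfl⟩
      exact ⟨⟨y, hy⟩, rfl⟩
  set e : ↥Y ≃* ↥Y' := homEquiv F hχY hr with he
  have heF : IsFIso F e := homEquiv_isFIso F hχY hr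
  have he_apply : ∀ y : ↥Y, ((e y : ↥Y') : Ω) = χ (Subgroup.inclusion hYN y) := fun y => rfl
  have hU'S : U' ≤ S := by
    rw [← hmap]
    rintro _ ⟨w, -, rfl⟩
    exact hom_apply_mem F hχ w
  have hfinU' : Finite ↥U' := finite_of_le hU'S
  have hmemU' : ∀ w : ↥(normalizerIn S W), (w : Ω) ∈ W → χ w ∈ U' := by
    intro w hw
    rw [← hmap]
    exact ⟨w, hw, rfl⟩
  have hmemU'' : ∀ w : ↥(normalizerIn S W), χ w ∈ U' → (w : Ω) ∈ W := by
    intro w hw
    rw [← hmap] at hw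
    obtain ⟨w', hw', hww'⟩ := hw
    have := hχinj hww'
    rw [← this]
    exact hw'
  refine ⟨Y', MulAut.congr e α, ?_, ?_, congr_mem_autGroup F heF hαF, ?_, ?_, ?_⟩
  · intro z hz
    rw [← hmap] at hz
    obtain ⟨w, hw, rfl⟩ := hz
    exact ⟨w, hWY hw, rfl⟩
  · rintro _ ⟨y, hy, rfl⟩
    refine ⟨hom_apply_mem F hχ y, ?_⟩
    apply mem_normalizer_of_conj_mem_finite
    intro u hu
    rw [← hmap] at hu
    obtain ⟨w, hw, rfl⟩ := hu
    rw [← map_inv, ← map_mul, ← map_mul]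
    apply hmemU'
    have hyN : (y : Ω) ∈ Subgroup.normalizer (W : Set Ω) := y.2.2
    exact (Subgroup.mem_normalizer_iff.mp hyN _).mp hw
  · intro y' hy'
    set y : ↥Y := e.symm y' with hy
    have hey : e y = y' := e.apply_symm_apply y'
    have h1 : χ (Subgroup.inclusion hYN y) ∈ U' := by
      rw [← he_apply, hey]
      exact hy'
    have h2 : (y : Ω) ∈ W := hmemU'' _ h1
    have h3 := hαW y h2
    show ((e (α (e.symm y')) : ↥Y') : Ω) ∈ U'
    rw [he_apply]
    exact hmemU' _ h3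
  · intro h1
    apply hα1
    exact (MulEquiv.map_eq_one_iff (MulAut.congr e)).mp h1
  · rw [MulEquiv.orderOf_eq]
    exact hαp

/-- A bad subgroup has a fully normalized bad conjugate. -/
theorem exists_bad_fullyNormalized [Finite ↥S] {p : ℕ} [Fact p.Prime] (hS : IsPGroup p S) (F : FusionSystem S)
    (hF : F.IsSaturated p) {W : Subgroup Ω} (hWS : W ≤ S) (h : Bad F p W) :
    ∃ U' : Subgroup Ω, F.IsFullyNormalized U' ∧ Bad F p U' ∧
      Nat.card (normalizerIn S W) ≤ Nat.card (normalizerIn S U') ∧ (W ≠ ⊥ → U' ≠ ⊥) := by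
  obtain ⟨U', hconj, hfn⟩ := exists_fullyNormalized_conj F hWS
  have hfa := (saturated_fn hS F hF hfn).2
  have hrec := saturated_fn_receptive hS F hF hfn
  obtain ⟨χ, hχ, -, hmap⟩ := exists_normalizer_hom hS F hfa hrec hconj
  refine ⟨U', hfn, Bad.transport F χ hχ hmap h, hfn.2 W (isConj_symm F hconj), ?_⟩
  intro hW hU'
  apply hW
  rw [eq_bot_iff]
  intro w hw
  have hwN : w ∈ normalizerIn S W := le_normalizerIn hWS hw
  have h1 : χ ⟨w, hwN⟩ ∈ U' := by
    rw [← hmap]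
    exact ⟨⟨w, hwN⟩, hw, rfl⟩
  rw [hU', Subgroup.mem_bot] at h1
  have h2 : (⟨w, hwN⟩ : ↥(normalizerIn S W)) = 1 := by
    apply F.injective_of_mem hχ
    rw [h1, map_one]
  rw [Subgroup.mem_bot]
  exact congrArg (fun t : ↥(normalizerIn S W) => (t : Ω)) h2

/-- A saturated system that is not inner has a nontrivial fully normalized bad subgroup. -/
theorem exists_bad_of_not_inner [Finite ↥S] {p : ℕ} [Fact p.Prime] (hS : IsPGroup p S) (F : FusionSystem S)
    (hF : F.IsSaturated p) (hne : ¬ ∀ P : Subgroup Ω, F.Hom P = (innerFusionSystem S).Hom P) :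
    ∃ U : Subgroup Ω, U ≠ ⊥ ∧ F.IsFullyNormalized U ∧ Bad F p U := by
  have hp : p.Prime := Fact.out
  have hex : ∃ P : Subgroup Ω, P ≤ S ∧ ¬ IsPGroup p (F.autGroup P) := by
    by_contra hcon
    push Not at hcon
    apply hne
    have := eq_inner_of_forall_isPGroup hS F hF hcon
    intro P
    rw [← this]
  obtain ⟨P, hPS, hnp⟩ := hex
  have hfinP : Finite ↥P := finite_of_le hPS
  obtain ⟨q, β, hq, hqp, hβ⟩ := exists_prime_order_ne hnp
  have hbo : orderOf (β : MulAut ↥P) = q := by rw [← hβ, Subgroup.orderOf_coe]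
  have hb1 : (β : MulAut ↥P) ≠ 1 := by
    intro h1
    rw [h1, orderOf_one] at hbo
    exact hq.one_lt.ne hbo
  have hbad : Bad F p P := by
    refine ⟨P, (β : MulAut ↥P), le_rfl, le_normalizerIn hPS, β.2, fun y _ => (((β : MulAut ↥P) y)).2, hb1, ?_⟩
    rw [hbo]
    exact (Nat.coprime_primes hq hp).mpr hqp
  have hPne : P ≠ ⊥ := by
    rintro rfl
    apply hb1
    ext x
    have hx : x = 1 := Subtype.ext (Subgroup.mem_bot.mp x.2)
    rw [hx, map_one]
    rfl
  obtain ⟨U', hfn, hbad', -, hne'⟩ := exists_bad_fullyNormalized hS F hF hPS hbad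
  exact ⟨U', hne' hPne, hfn, hbad'⟩

end Cfsg.Agent.Lib.Helper26.GT
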