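import Cfsg.Agent.Lib.Helper27.ZJ7
import Cfsg.Agent.Lib.Helper27.QdFusion

/-!
Glauberman–Thompson for fusion systems, part 2: facts on `Z(J(R))` for subgroups of a possibly infinite group.
-/

set_option autoImplicit false
set_option linter.unusedSectionVars false
set_option linter.unusedVariables false

namespace Cfsg.Agent.Lib.Helper26.GT

open Cfsg

universe u

variable {Ω : Type u} [Group Ω]

theorem zj_le (R : Subgroup Ω) : centerThompsonAOf R ≤ R := by
  unfold centerThompsonAOf thompsonSubgroupAOf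
  intro x hx
  obtain ⟨y, -, rfl⟩ := hx.1
  exact y.2

theorem zj_normalizer_le (R : Subgroup Ω) :
    Subgroup.normalizer (R : Set Ω) ≤ Subgroup.normalizer (centerThompsonAOf R : Set Ω) := by
  intro g hg
  have h1 : R.map (MulAut.conj g).toMonoidHom = R := by
    ext x
    constructor
    · rintro ⟨y, hy, rfl⟩
      exact (Subgroup.mem_normalizer_iff.mp hg y).mp hy
    · intro hx
      refine ⟨g⁻¹ * x * g, ?_, ?_⟩
      · have := (Subgroup.mem_normalizer_iff.mp (Subgroup.inv_mem _ hg) x).mp hx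
        simpa using this
      · simp [MulAut.conj_apply, mul_assoc]
  have h2 := Cfsg.Agent.Lib.Helper27.QdFusion.centerThompsonAOf_map_equiv (MulAut.conj g) R
  rw [h1] at h2
  rw [Subgroup.mem_normalizer_iff]
  intro x
  constructor
  · intro hx
    rw [h2]
    exact ⟨x, hx, rfl⟩
  · intro hx
    rw [h2] at hx
    obtain ⟨y, hy, hyx⟩ := hx
    have : y = x := by
      have h3 : g * y * g⁻¹ = g * x * g⁻¹ := hyx
      exact mul_left_cancel (mul_right_cancel h3)
    rw [← this]
    exact hy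

/-- `Z(J(R))` computed inside `R`. -/
theorem zj_eq_map_subtype {p : ℕ} [Fact p.Prime] (R : Subgroup Ω) [Finite ↥R] (hR : IsPGroup p R) :
    centerThompsonAOf R = (centerThompsonAOf (⊤ : Subgroup ↥R)).map R.subtype := by
  have h := Cfsg.Agent.Lib.Helper27.centerThompsonAOf_map_of_injOn (p := p) R.subtype (⊤ : Subgroup ↥R)
    (hR.to_subgroup ⊤) (fun x _ hx => R.subtype_injective (by rw [hx, map_one]))
  rw [← h]
  congr 1
  ext x
  constructor
  · intro hx
    exact ⟨⟨x, hx⟩, Subgroup.mem_top _, rfl⟩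
  · rintro ⟨y, -, rfl⟩
    exact y.2

theorem zj_ne_bot {p : ℕ} [Fact p.Prime] (R : Subgroup Ω) [Finite ↥R] (hR : IsPGroup p R) (hne : R ≠ ⊥) :
    centerThompsonAOf R ≠ ⊥ := by
  rw [zj_eq_map_subtype R hR]
  intro h
  have h1 := (Subgroup.map_eq_bot_iff_of_injective _ R.subtype_injective).mp h
  have htop : (⊤ : Subgroup ↥R) ≠ ⊥ := by
    intro ht
    apply hne
    rw [eq_bot_iff]
    intro x hx
    have : (⟨x, hx⟩ : ↥R) ∈ (⊤ : Subgroup ↥R) := Subgroup.mem_top _
    rw [ht, Subgroup.mem_bot] at this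
    rw [Subgroup.mem_bot]
    exact congrArg (fun t : ↥R => (t : Ω)) this
  exact Cfsg.Agent.Lib.Helper27.centerThompsonAOf_ne_bot (p := p) (⊤ : Subgroup ↥R) (hR.to_subgroup ⊤) htop h1

/-- `Z(J)` of the image of an injective homomorphism. -/
theorem zj_range {p : ℕ} [Fact p.Prime] (S : Subgroup Ω) [Finite ↥S] (hS : IsPGroup p S) {L : Type u} [Group L]
    (ι : ↥S →* L) (hι : Function.Injective ι) :
    centerThompsonAOf ι.range = ((centerThompsonAOf S).subgroupOf S).map ι := by
  have h := Cfsg.Agent.Lib.Helper27.centerThompsonAOf_map_of_injOn (p := p) ι (⊤ : Subgroup ↥S)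
    (hS.to_subgroup ⊤) (fun x _ hx => hι (by rw [hx, map_one]))
  have e1 : (⊤ : Subgroup ↥S).map ι = ι.range := by
    rw [MonoidHom.range_eq_map]
  rw [e1] at h
  rw [h, zj_eq_map_subtype S hS]
  congr 1
  ext x
  constructor
  · intro hx
    rw [Subgroup.mem_subgroupOf]
    exact ⟨x, hx, rfl⟩
  · intro hx
    rw [Subgroup.mem_subgroupOf] at hx
    obtain ⟨y, hy, hyx⟩ := hx
    have : y = x := Subtype.ext hyx
    rw [← this]
    exact hy

end Cfsg.Agent.Lib.Helper26.GT
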