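import Cfsg.Agent.Lib.Helper26.GT1
import Cfsg.Agent.Lib.Helper26.GT2
import Cfsg.Agent.Lib.Helper26.FSAlperin
import Cfsg.Agent.Lib.Helper26.FSNormalizerConstrained

/-!
Glauberman–Thompson for fusion systems, part 3: the induction hypothesis and the case of trivial core.
-/

set_option autoImplicit false
set_option linter.unusedSectionVars false
set_option linter.unusedVariables false

namespace Cfsg.Agent.Lib.Helper26.GT

open Cfsg Cfsg.FusionSystem Cfsg.Agent.Lib.Helper26

universe u

/-- The induction hypothesis: the theorem for all systems of smaller measure `2|S| - |O_p(F)|`. -/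
def IHyp (p m : ℕ) : Prop :=
  ∀ (Ω : Type u) [Group Ω] (S : Subgroup Ω) [Finite ↥S], IsPGroup p S → ∀ F : FusionSystem S, F.IsSaturated p →
    2 * Nat.card S - Nat.card F.core < m →
    (¬ ∀ P : Subgroup Ω, F.Hom P = (innerFusionSystem S).Hom P) → Bad F p (centerThompsonAOf S)

variable {Ω : Type u} [Group Ω] {S : Subgroup Ω}

theorem le_core_normalizerSystem (F : FusionSystem S) {U : Subgroup Ω} (hU : U ≤ S) :
    U ≤ (normalizerSystem F U hU).core :=
  le_sSup (isNormal_of_isNormalizerSystem F hU _ (normalizerSystem_isNormalizerSystem F U hU))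

theorem normalizerSystem_isSubsystemOf (F : FusionSystem S) {U : Subgroup Ω} (hU : U ≤ S) :
    (normalizerSystem F U hU).IsSubsystemOf F := fun P φ hφ => hφ.1

theorem core_le [Finite ↥S] (F : FusionSystem S) : F.core ≤ S := (core_isNormal F).1

/-- K1: if the theorem holds for `N_F(U)`, then `Z(J(N_S(U)))` is bad in `F`. -/
theorem bad_zj_normalizer [Finite ↥S] {p m : ℕ} [Fact p.Prime] (hIH : IHyp.{u} p m) (hS : IsPGroup p S)
    (F : FusionSystem S) (hF : F.IsSaturated p) {U : Subgroup Ω} (hU : F.IsFullyNormalized U)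
    (hbad : Bad F p U)
    (hm : 2 * Nat.card (normalizerIn S U) - Nat.card (normalizerSystem F U hU.1).core < m) :
    Bad F p (centerThompsonAOf (normalizerIn S U)) := by
  have hfinR : Finite ↥(normalizerIn S U) := finite_of_le (normalizerIn_le S U)
  have hpR : IsPGroup p (normalizerIn S U) := hS.to_le (normalizerIn_le S U)
  have hN := normalizerSystem_isNormalizerSystem F U hU.1
  have hsat := normalizerSystem_saturated hS F hF hU _ hN
  have hne := not_inner_of_bad hS F hbad _ hN
  have := hIH Ω (normalizerIn S U) hpR _ hsat hm hne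
  exact this.of_subsystem (normalizerIn_le S U) (normalizerSystem_isSubsystemOf F hU.1)

theorem normalizerIn_mono_zj (R : Subgroup Ω) : normalizerIn S R ≤ normalizerIn S (centerThompsonAOf R) :=
  fun x hx => ⟨hx.1, zj_normalizer_le R hx.2⟩

/-- K2: if `Z(J(R))` is bad then either `R = S` or some nontrivial fully normalized bad subgroup has a larger
normalizer than `R`. -/
theorem exists_bad_larger [Finite ↥S] {p : ℕ} [Fact p.Prime] (hS : IsPGroup p S) (F : FusionSystem S)
    (hF : F.IsSaturated p) {R : Subgroup Ω} (hRS : R ≤ S) (hR : R ≠ ⊥) (hRne : R ≠ S)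
    (hbad : Bad F p (centerThompsonAOf R)) :
    ∃ U' : Subgroup Ω, U' ≠ ⊥ ∧ F.IsFullyNormalized U' ∧ Bad F p U' ∧
      Nat.card R < Nat.card (normalizerIn S U') := by
  have hfinR : Finite ↥R := finite_of_le hRS
  have hpR : IsPGroup p R := hS.to_le hRS
  have hW : centerThompsonAOf R ≠ ⊥ := zj_ne_bot R hpR hR
  have hWS : centerThompsonAOf R ≤ S := (zj_le R).trans hRS
  obtain ⟨U', hfn, hbad', hcard, hne⟩ := exists_bad_fullyNormalized hS F hF hWS hbad
  refine ⟨U', hne hW, hfn, hbad', ?_⟩
  have hfinNW : Finite ↥(normalizerIn S (centerThompsonAOf R)) := finite_of_le (normalizerIn_le S _)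
  have h1 : Nat.card (normalizerIn S R) ≤ Nat.card (normalizerIn S (centerThompsonAOf R)) :=
    Subgroup.card_le_of_le (normalizerIn_mono_zj R)
  have h2 : Nat.card R < Nat.card (normalizerIn S R) := by
    obtain ⟨g, hgN, hgR⟩ := exists_mem_normalizerIn_not_mem hS hRS hRne
    have hle : R ≤ normalizerIn S R := le_normalizerIn hRS
    have hfinN : Finite ↥(normalizerIn S R) := finite_of_le (normalizerIn_le S R)
    rcases (Subgroup.card_le_of_le hle).lt_or_eq with h | h
    · exact h
    · exfalso
      apply hgR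
      have := Subgroup.eq_of_le_of_card_ge hle h.ge
      rw [this]
      exact hgN
  omega

/-- Existence of a nontrivial fully normalized bad subgroup with normalizer of maximal order. -/
theorem exists_bad_max [Finite ↥S] {p : ℕ} (F : FusionSystem S) {U₀ : Subgroup Ω} (h0 : U₀ ≠ ⊥)
    (hfn0 : F.IsFullyNormalized U₀) (hbad0 : Bad F p U₀) :
    ∃ U : Subgroup Ω, U ≠ ⊥ ∧ F.IsFullyNormalized U ∧ Bad F p U ∧
      ∀ U' : Subgroup Ω, U' ≠ ⊥ → F.IsFullyNormalized U' → Bad F p U' →
        Nat.card (normalizerIn S U') ≤ Nat.card (normalizerIn S U) := by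
  have key : ∀ d : ℕ, ∀ U : Subgroup Ω, U ≠ ⊥ → F.IsFullyNormalized U → Bad F p U →
      Nat.card S - Nat.card (normalizerIn S U) = d →
      ∃ U : Subgroup Ω, U ≠ ⊥ ∧ F.IsFullyNormalized U ∧ Bad F p U ∧
        ∀ U' : Subgroup Ω, U' ≠ ⊥ → F.IsFullyNormalized U' → Bad F p U' →
          Nat.card (normalizerIn S U') ≤ Nat.card (normalizerIn S U) := by
    intro d
    induction d using Nat.strong_induction_on with
    | _ d ih =>
      intro U h1 h2 h3 hd
      by_cases hmax : ∀ U' : Subgroup Ω, U' ≠ ⊥ → F.IsFullyNormalized U' → Bad F p U' →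
          Nat.card (normalizerIn S U') ≤ Nat.card (normalizerIn S U)
      · exact ⟨U, h1, h2, h3, hmax⟩
      · push Not at hmax
        obtain ⟨U', h1', h2', h3', hlt⟩ := hmax
        have hle : Nat.card (normalizerIn S U') ≤ Nat.card S := Subgroup.card_le_of_le (normalizerIn_le S U')
        exact ih (Nat.card S - Nat.card (normalizerIn S U')) (by omega) U' h1' h2' h3' rfl
  exact key _ U₀ h0 hfn0 hbad0 rfl

/-- The case of trivial core. -/
theorem bad_zj_of_core_eq_bot [Finite ↥S] {p m : ℕ} [Fact p.Prime] (hIH : IHyp.{u} p m) (hS : IsPGroup p S)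
    (F : FusionSystem S) (hF : F.IsSaturated p) (hm : 2 * Nat.card S - Nat.card F.core = m)
    (hcore : F.core = ⊥)
    (hne : ¬ ∀ P : Subgroup Ω, F.Hom P = (innerFusionSystem S).Hom P) :
    Bad F p (centerThompsonAOf S) := by
  obtain ⟨U₀, h0, hfn0, hbad0⟩ := exists_bad_of_not_inner hS F hF hne
  obtain ⟨U, hU1, hUfn, hUbad, hmax⟩ := exists_bad_max F h0 hfn0 hbad0
  set R := normalizerIn S U with hR
  have hRS : R ≤ S := normalizerIn_le S U
  have hUR : U ≤ R := le_normalizerIn hUfn.1
  have hfinR : Finite ↥R := finite_of_le hRS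
  have hfinU : Finite ↥U := finite_of_le hUfn.1
  have hRne : R ≠ ⊥ := by
    intro h
    apply hU1
    rw [eq_bot_iff, ← h]
    exact hUR
  have hm' : 2 * Nat.card R - Nat.card (normalizerSystem F U hUfn.1).core < m := by
    have h1 : Nat.card R ≤ Nat.card S := Subgroup.card_le_of_le hRS
    have h2 : Nat.card U ≤ Nat.card (normalizerSystem F U hUfn.1).core := by
      have hfinc : Finite ↥(normalizerSystem F U hUfn.1).core := finite_of_le (core_le _)
      exact Subgroup.card_le_of_le (le_core_normalizerSystem F hUfn.1)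
    have h3 : 1 < Nat.card U := (Subgroup.one_lt_card_iff_ne_bot U).mpr hU1
    have h4 : Nat.card F.core = 1 := by rw [hcore, Subgroup.card_bot]
    have h5 : 0 < Nat.card S := Nat.card_pos
    omega
  have hbadR := bad_zj_normalizer hIH hS F hF hUfn hUbad hm'
  by_cases hRS' : R = S
  · have e : centerThompsonAOf (normalizerIn S U) = centerThompsonAOf S := congrArg centerThompsonAOf hRS'
    rw [← e]
    exact hbadR
  · exfalso
    obtain ⟨U', hU'1, hU'fn, hU'bad, hlt⟩ := exists_bad_larger hS F hF hRS hRne hRS' hbadR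
    have := hmax U' hU'1 hU'fn hU'bad
    omega

end Cfsg.Agent.Lib.Helper26.GT
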