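import Cfsg.Agent.Lib.Helper26.GT3
import Cfsg.Agent.Lib.Helper26.FSSurjImage
import Cfsg.Agent.Lib.Helper26.FSFactorExists
import Cfsg.Agent.Lib.Helper26.FSSolvable
import Cfsg.Agent.Lib.Helper26.FSNormalCrit

/-!
Glauberman–Thompson for fusion systems, part 4: passing to the quotient by the core.
-/

set_option autoImplicit false
set_option linter.unusedSectionVars false
set_option linter.unusedVariables false

namespace Cfsg.Agent.Lib.Helper26.GT

open Cfsg Cfsg.FusionSystem Cfsg.Agent.Lib.Helper26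

universe u

section Lift

variable {Ω : Type*} [Group Ω] {S : Subgroup Ω} {Ω' : Type*} [Group Ω'] {S' : Subgroup Ω'}

theorem preimageAlong_mono (θ : S →* Ω') {A B : Subgroup Ω'} (h : A ≤ B) : preimageAlong θ A ≤ preimageAlong θ B := by
  intro y hy
  obtain ⟨hyS, hy'⟩ := (mem_preimageAlong_iff θ A y).mp hy
  exact (mem_preimageAlong_iff θ B y).mpr ⟨hyS, h hy'⟩

/-- L1: a bad subgroup of the image lifts to a bad subgroup. -/
theorem Bad.lift [Finite ↥S] {p : ℕ} [Fact p.Prime] (F : FusionSystem S) (F' : FusionSystem S') (θ : S →* Ω')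
    (hθ : F.IsSurjectiveMorphism F' θ) {X' : Subgroup Ω'} (hbad : Bad F' p X') :
    Bad F p (preimageAlong θ X') := by
  obtain ⟨Y', α', hXY, hYN, hαF, hαX, hα1, hαp⟩ := hbad
  have hY'S' : Y' ≤ S' := hYN.trans (normalizerIn_le S' X')
  obtain ⟨a, ha, hind⟩ := exists_lift_aut F F' θ hθ hY'S' α' hαF
  have hYS : preimageAlong θ Y' ≤ S := preimageAlong_le θ Y'
  have hfinY : Finite ↥(preimageAlong θ Y') := finite_of_le hYS
  have hp : p.Prime := Fact.out
  obtain ⟨k, m, hm, hkm⟩ := Nat.exists_eq_pow_mul_and_not_dvd (orderOf_pos a).ne' p hp.ne_one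
  have hπ := projHom_surjective θ hθ.2.1 hY'S'
  have hindk := ind_pow (projHom θ Y') hind (p ^ k)
  refine ⟨preimageAlong θ Y', a ^ (p ^ k), preimageAlong_mono θ hXY, ?_, Subgroup.pow_mem _ ha _, ?_, ?_, ?_⟩
  · intro y hy
    obtain ⟨hyS, hy'⟩ := (mem_preimageAlong_iff θ Y' y).mp hy
    exact ⟨hyS, mem_normalizer_preimageAlong θ hyS (hYN hy').2⟩
  · intro y hy
    obtain ⟨hyS, hy'⟩ := (mem_preimageAlong_iff θ X' y).mp hy
    rw [mem_preimageAlong_iff]
    refine ⟨hYS (SetLike.coe_mem _), ?_⟩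
    have h1 := hindk y
    have h2 : ((projHom θ Y' ((a ^ p ^ k) y) : ↥Y') : Ω') = θ ⟨_, hYS (SetLike.coe_mem ((a ^ p ^ k) y))⟩ :=
      projHom_coe θ Y' _
    rw [← h2, h1]
    apply pow_apply_mem α' hαX
    rw [projHom_coe]
    exact hy'
  · intro h1
    apply hα1
    have h2 : α' ^ p ^ k = 1 := by
      apply ind_unique (projHom θ Y') hπ hindk
      intro y
      rw [h1]
      rfl
    have h3 : orderOf α' ∣ p ^ k := orderOf_dvd_of_pow_eq_one h2
    have h4 : (orderOf α').Coprime (p ^ k) := hαp.pow_right k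
    have h5 : orderOf α' = 1 := Nat.Coprime.eq_one_of_dvd h4 h3
    exact orderOf_eq_one_iff.mp h5
  · have h1 : (a ^ p ^ k) ^ m = 1 := by
      rw [← pow_mul, ← hkm, pow_orderOf_eq_one]
    have h2 : orderOf (a ^ p ^ k) ∣ m := orderOf_dvd_of_pow_eq_one h1
    have h3 : m.Coprime p := ((Nat.Prime.coprime_iff_not_dvd hp).mpr hm).symm
    exact h3.coprime_dvd_left h2

end Lift

section StepB

variable {Ω : Type u} [Group Ω] {S : Subgroup Ω}

theorem isFullyNormalized_of_normalizerIn_eq [Finite ↥S] (F : FusionSystem S) {X : Subgroup Ω} (hXS : X ≤ S)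
    (hX : normalizerIn S X = S) : F.IsFullyNormalized X := by
  refine ⟨hXS, fun Q _ => ?_⟩
  have e : Nat.card (normalizerIn S X) = Nat.card S := congrArg (fun T : Subgroup Ω => Nat.card T) hX
  rw [e]
  exact Subgroup.card_le_of_le (normalizerIn_le S Q)

/-- Step B: if the quotient by the core is not inner, then `Z(J(S))` is bad. -/
theorem bad_zj_of_factor_not_inner [Finite ↥S] {p m : ℕ} [Fact p.Prime] (hIH : IHyp.{u} p m) (hS : IsPGroup p S)
    (F : FusionSystem S) (hF : F.IsSaturated p) (hm : 2 * Nat.card S - Nat.card F.core = m)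
    (hcore : F.core ≠ ⊥) (hcoreS : F.core ≠ S) [hn : (F.core.subgroupOf S).Normal]
    (E : FusionSystem (⊤ : Subgroup (↥S ⧸ F.core.subgroupOf S)))
    (hfac : F.IsFactorSystem F.core (QuotientGroup.mk' (F.core.subgroupOf S)) E)
    (hE : ¬ ∀ P, E.Hom P = (innerFusionSystem (⊤ : Subgroup (↥S ⧸ F.core.subgroupOf S))).Hom P) :
    Bad F p (centerThompsonAOf S) := by
  have hQn := core_isNormal F
  have hQS : F.core ≤ S := hQn.1
  have hQsc := stronglyClosed_of_isNormal F hQn
  have hfinQ : Finite ↥F.core := finite_of_le hQS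
  set θ := QuotientGroup.mk' (F.core.subgroupOf S) with hθdef
  have hθ := factorSystem_isSurjectiveMorphism hS F hF F.core hQsc θ E hfac
  have hEsat := surj_saturated p hS F hF E θ hθ
  have hpT : IsPGroup p (⊤ : Subgroup (↥S ⧸ F.core.subgroupOf S)) :=
    (hS.to_quotient (F.core.subgroupOf S)).to_subgroup ⊤
  -- cardinalities
  have hc1 : Nat.card S = Nat.card (↥S ⧸ F.core.subgroupOf S) * Nat.card (F.core.subgroupOf S) :=
    Subgroup.card_eq_card_quotient_mul_card_subgroup _
  have hc2 : Nat.card (F.core.subgroupOf S) = Nat.card F.core :=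
    Nat.card_congr (Subgroup.subgroupOfEquivOfLe hQS).toEquiv
  have hc3 : Nat.card (⊤ : Subgroup (↥S ⧸ F.core.subgroupOf S)) = Nat.card (↥S ⧸ F.core.subgroupOf S) :=
    Subgroup.card_top
  have hc4 : 1 < Nat.card F.core := (Subgroup.one_lt_card_iff_ne_bot _).mpr hcore
  have hc5 : Nat.card F.core ≤ Nat.card S := Subgroup.card_le_of_le hQS
  have hfinEc : Finite ↥E.core := finite_of_le (core_le E)
  have hc6 : 0 < Nat.card E.core := Nat.card_pos
  have hmE : 2 * Nat.card (⊤ : Subgroup (↥S ⧸ F.core.subgroupOf S)) - Nat.card E.core < m := by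
    rw [hc3]
    rw [hc2] at hc1
    have h1 : 2 * Nat.card (↥S ⧸ F.core.subgroupOf S) ≤ Nat.card S := by
      rw [hc1]
      calc 2 * Nat.card (↥S ⧸ F.core.subgroupOf S) = Nat.card (↥S ⧸ F.core.subgroupOf S) * 2 := by ring
        _ ≤ Nat.card (↥S ⧸ F.core.subgroupOf S) * Nat.card F.core := Nat.mul_le_mul_left _ hc4
    omega
  have hbadE := hIH (↥S ⧸ F.core.subgroupOf S) ⊤ hpT E hEsat hmE hE
  have hbadX := Bad.lift F E θ hθ hbadE
  set X := preimageAlong θ (centerThompsonAOf (⊤ : Subgroup (↥S ⧸ F.core.subgroupOf S))) with hXdef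
  have hXS : X ≤ S := preimageAlong_le θ _
  have hXN : normalizerIn S X = S := by
    apply normalizerIn_eq_of_le_normalizer
    intro g hg
    apply mem_normalizer_preimageAlong θ hg
    apply zj_normalizer_le
    apply Subgroup.mem_normalizer_iff.mpr
    intro h
    simp
  have hXfn := isFullyNormalized_of_normalizerIn_eq F hXS hXN
  have hQX : F.core ≤ X := by
    intro y hy
    rw [hXdef, mem_preimageAlong_iff]
    refine ⟨hQS hy, ?_⟩
    rw [(hfac.2.1 ⟨y, hQS hy⟩).mpr hy]
    exact Subgroup.one_mem _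
  have hQX' : Nat.card F.core < Nat.card X := by
    have hfinX : Finite ↥X := finite_of_le hXS
    rcases (Subgroup.card_le_of_le hQX).lt_or_eq with h | h
    · exact h
    · exfalso
      have hXQ : X = F.core := (Subgroup.eq_of_le_of_card_ge hQX h.ge).symm
      have htop : (⊤ : Subgroup (↥S ⧸ F.core.subgroupOf S)) ≠ ⊥ := by
        intro h1
        apply hcoreS
        apply le_antisymm hQS
        intro s hs
        have h2 : θ ⟨s, hs⟩ ∈ (⊤ : Subgroup (↥S ⧸ F.core.subgroupOf S)) := Subgroup.mem_top _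
        rw [h1, Subgroup.mem_bot] at h2
        exact (hfac.2.1 ⟨s, hs⟩).mp h2
      have hzj := zj_ne_bot (⊤ : Subgroup (↥S ⧸ F.core.subgroupOf S)) hpT htop
      apply hzj
      rw [eq_bot_iff]
      intro z hz
      obtain ⟨s, rfl⟩ := QuotientGroup.mk'_surjective (F.core.subgroupOf S) z
      have h3 : (s : Ω) ∈ X := by
        rw [hXdef, mem_preimageAlong_iff]
        exact ⟨s.2, hz⟩
      rw [hXQ] at h3
      rw [Subgroup.mem_bot]
      exact (hfac.2.1 s).mpr h3
  have hm' : 2 * Nat.card (normalizerIn S X) - Nat.card (normalizerSystem F X hXfn.1).core < m := by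
    have e : Nat.card (normalizerIn S X) = Nat.card S := congrArg (fun T : Subgroup Ω => Nat.card T) hXN
    have hfinN : Finite ↥(normalizerIn S X) := finite_of_le (normalizerIn_le S X)
    have hfinc : Finite ↥(normalizerSystem F X hXS).core := finite_of_le ((core_le _).trans (normalizerIn_le S X))
    have h2 : Nat.card X ≤ Nat.card (normalizerSystem F X hXS).core :=
      Subgroup.card_le_of_le (le_core_normalizerSystem F hXS)
    show 2 * Nat.card (normalizerIn S X) - Nat.card (normalizerSystem F X hXS).core < m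
    omega
  have hres := bad_zj_normalizer hIH hS F hF hXfn hbadX hm'
  have e : centerThompsonAOf (normalizerIn S X) = centerThompsonAOf S := congrArg centerThompsonAOf hXN
  rw [← e]
  exact hres

end StepB

end Cfsg.Agent.Lib.Helper26.GT
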