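import Cfsg.Agent.Lib.Helper26.GT5
import Cfsg.Agent.Lib.Helper26.FSModel
import Cfsg.Agent.Lib.Helper12.PNilpotent
import Cfsg.Agent.Lib.Helper29.Frobenius
import Cfsg.Agent.Lib.Helper8.GlauThomp

/-!
Glauberman–Thompson for fusion systems, part 6: the constrained case, through the model.
-/

set_option autoImplicit false
set_option linter.unusedSectionVars false
set_option linter.unusedVariables false

namespace Cfsg.Agent.Lib.Helper26.GT

open Cfsg Cfsg.FusionSystem Cfsg.Agent.Lib.Helper26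

universe u

section StepD

variable {Ω : Type u} [Group Ω] {S : Subgroup Ω} {L : Type u} [Group L]

/-- The isomorphism from the preimage of a subgroup of the image of `ι` onto that subgroup. -/
noncomputable def pullEquiv (ι : S →* L) (hι : Function.Injective ι) {Y : Subgroup L} (hY : Y ≤ ι.range) :
    ↥(pullSub ι Y) ≃* ↥Y :=
  MulEquiv.ofBijective
    (MonoidHom.codRestrict (ι.comp (Subgroup.inclusion (pullSub_le ι Y))) Y
      (fun y => (mem_pullSub ι Y ⟨y, pullSub_le ι Y y.2⟩).mp y.2))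
    ⟨fun a b hab => by
      have h1 := congrArg Subtype.val hab
      have h2 := hι h1
      exact Subgroup.inclusion_injective _ h2,
    fun z => by
      obtain ⟨s, hs⟩ := hY z.2
      refine ⟨⟨s, (mem_pullSub ι Y s).mpr (hs ▸ z.2)⟩, Subtype.ext ?_⟩
      exact hs⟩

theorem pullEquiv_coe (ι : S →* L) (hι : Function.Injective ι) {Y : Subgroup L} (hY : Y ≤ ι.range)
    (y : ↥(pullSub ι Y)) : ((pullEquiv ι hι hY y : ↥Y) : L) = ι ⟨y, pullSub_le ι Y y.2⟩ := rfl

/-- An element normalizing a subgroup of the image induces an automorphism in the system. -/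
theorem exists_aut_of_normalizer (F : FusionSystem S) (ι : S →* L) (hreal : F.IsRealizedBy ι) {Y : Subgroup L}
    (hY : Y ≤ ι.range) {g : L} (hg : g ∈ Subgroup.normalizer (Y : Set L)) :
    ∃ α ∈ F.autGroup (pullSub ι Y),
      (∀ y : ↥(pullSub ι Y), ι ⟨((α y : ↥(pullSub ι Y)) : Ω), pullSub_le ι Y (α y).2⟩ =
        g * ι ⟨y, pullSub_le ι Y y.2⟩ * g⁻¹) ∧ orderOf α ∣ orderOf g := by
  have hι := hreal.1
  set e := pullEquiv ι hι hY with he
  set f : MulAut ↥Y := Y.normalizerMonoidHom ⟨g, hg⟩ with hf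
  set α : MulAut ↥(pullSub ι Y) := MulAut.congr e.symm f with hα
  have hαy : ∀ y, ι ⟨((α y : ↥(pullSub ι Y)) : Ω), pullSub_le ι Y (α y).2⟩ = g * ι ⟨y, pullSub_le ι Y y.2⟩ * g⁻¹ := by
    intro y
    rw [← pullEquiv_coe ι hι hY (α y), ← pullEquiv_coe ι hι hY y]
    have h1 : e (α y) = f (e y) := by
      rw [hα]
      simp [MulAut.congr]
    rw [← he, h1]
    rfl
  refine ⟨α, ?_, hαy, ?_⟩
  · rw [mem_autGroup_iff F (pullSub_le ι Y)]
    rw [hreal.2 (pullSub ι Y) (pullSub_le ι Y) _ (fun x => pullSub_le ι Y (α x).2)]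
    exact ⟨g, hαy⟩
  · have h1 : orderOf α = orderOf f := by
      rw [hα]
      exact MulEquiv.orderOf_eq (MulAut.congr e.symm) f
    rw [h1, hf]
    have h2 : orderOf (⟨g, hg⟩ : ↥(Subgroup.normalizer (Y : Set L))) = orderOf g := by
      rw [← Subgroup.orderOf_coe]
    rw [← h2]
    exact orderOf_map_dvd _ _

/-- In a realized system where `Z(J(S))` is not bad, `p'`-elements normalizing a subgroup `Q` of the image of `S` and the
image of `Z(J(S))` centralize `Q`. -/
theorem centralizes_of_not_bad [Finite ↥S] {p : ℕ} [Fact p.Prime] (F : FusionSystem S)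
    (ι : S →* L) (hreal : F.IsRealizedBy ι) (hnb : ¬ Bad F p (centerThompsonAOf S))
    (hNS : normalizerIn S (centerThompsonAOf S) = S)
    (Z : Subgroup L) (hZ : Z = ((centerThompsonAOf S).subgroupOf S).map ι)
    {Q : Subgroup L} (hQ : Q ≤ ι.range) {g : L} (hgQ : g ∈ Subgroup.normalizer (Q : Set L))
    (hgZ : g ∈ Subgroup.normalizer (Z : Set L)) (hcop : (orderOf g).Coprime p) :
    ∀ x ∈ Q, x * g = g * x := by
  subst hZ
  have hι := hreal.1
  have hUS : centerThompsonAOf S ≤ S := zj_le S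
  have hZr : ((centerThompsonAOf S).subgroupOf S).map ι ≤ ι.range := by
    rintro _ ⟨s, -, rfl⟩
    exact ⟨s, rfl⟩
  have hY : Q ⊔ ((centerThompsonAOf S).subgroupOf S).map ι ≤ ι.range := sup_le hQ hZr
  have hgY : g ∈ Subgroup.normalizer ((Q ⊔ ((centerThompsonAOf S).subgroupOf S).map ι : Subgroup L) : Set L) :=
    Subgroup.normalizer_inf_normalizer_le_normalizer_sup _ _ ⟨hgQ, hgZ⟩
  obtain ⟨α, hαF, hαy, hαo⟩ := exists_aut_of_normalizer F ι hreal hY hgY
  have hαcop : (orderOf α).Coprime p := hcop.coprime_dvd_left hαo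
  have hα1 : α = 1 := by
    by_contra hne
    apply hnb
    refine ⟨pullSub ι (Q ⊔ ((centerThompsonAOf S).subgroupOf S).map ι), α, ?_, ?_, hαF, ?_, hne, hαcop⟩
    · intro u hu
      have h1 : ι ⟨u, hUS hu⟩ ∈ ((centerThompsonAOf S).subgroupOf S).map ι :=
        Subgroup.mem_map_of_mem _ (Subgroup.mem_subgroupOf.mpr hu)
      exact (mem_pullSub ι _ ⟨u, hUS hu⟩).mpr (Subgroup.mem_sup_right h1)
    · rw [hNS]
      exact pullSub_le ι _
    · intro y hy
      have hyS := pullSub_le ι _ y.2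
      have h1 : ι ⟨y, hyS⟩ ∈ ((centerThompsonAOf S).subgroupOf S).map ι :=
        Subgroup.mem_map_of_mem _ (Subgroup.mem_subgroupOf.mpr hy)
      have h2 : g * ι ⟨y, hyS⟩ * g⁻¹ ∈ ((centerThompsonAOf S).subgroupOf S).map ι :=
        (Subgroup.mem_normalizer_iff.mp hgZ _).mp h1
      rw [← hαy y] at h2
      obtain ⟨s, hs, hs'⟩ := h2
      have h3 := hι hs'
      have h4 : (s : Ω) = ((α y : ↥(pullSub ι _)) : Ω) := congrArg Subtype.val h3
      rw [← h4]
      exact Subgroup.mem_subgroupOf.mp hs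
  intro x hx
  have hxY : x ∈ Q ⊔ ((centerThompsonAOf S).subgroupOf S).map ι := Subgroup.mem_sup_left hx
  obtain ⟨s, hs⟩ := hY hxY
  have hsY : (s : Ω) ∈ pullSub ι (Q ⊔ ((centerThompsonAOf S).subgroupOf S).map ι) :=
    (mem_pullSub ι _ s).mpr (hs ▸ hxY)
  have h1 := hαy ⟨s, hsY⟩
  rw [hα1] at h1
  have h2 : ι s = g * ι s * g⁻¹ := h1
  rw [hs] at h2
  calc x * g = (g * x * g⁻¹) * g := by rw [← h2]
    _ = g * x := by group

/-- Step D: a system with a model in which `Z(J(S))` is not bad is inner (`p` odd). -/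
theorem inner_of_model [Finite ↥S] {p : ℕ} [Fact p.Prime] (hp2 : p ≠ 2) (hS : IsPGroup p S) (F : FusionSystem S)
    (ι : S →* L) (hM : F.IsModel p L ι) (hnb : ¬ Bad F p (centerThompsonAOf S)) :
    ∀ P : Subgroup Ω, F.Hom P = (innerFusionSystem S).Hom P := by
  obtain ⟨hfinL, hreal, ⟨T, hT⟩, hC⟩ := hM
  have hι := hreal.1
  have hZ : centerThompsonAOf (T : Subgroup L) = ((centerThompsonAOf S).subgroupOf S).map ι := by
    rw [hT]; exact zj_range S hS ι hι
  have hNS : normalizerIn S (centerThompsonAOf S) = S :=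
    normalizerIn_eq_of_le_normalizer (Subgroup.le_normalizer.trans (zj_normalizer_le S))
  -- Step 1: the normalizer of `Z(J(T))` has a normal `p`-complement
  have hTN : (T : Subgroup L) ≤ Subgroup.normalizer (centerThompsonAOf (T : Subgroup L) : Set L) :=
    Subgroup.le_normalizer.trans (zj_normalizer_le _)
  have hN : HasNormalPComplement p ↥(Subgroup.normalizer (centerThompsonAOf (T : Subgroup L) : Set L)) := by
    rw [Cfsg.Agent.Lib.Helper12.hasNormalPComplement_iff_frobCond]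
    apply Cfsg.Agent.Lib.Helper29.frobCond_of_sylow (T.subtype hTN)
    intro Q' hQ' g hg hcop
    have hQ''r : Q'.map (Subgroup.subtype _) ≤ ι.range := by
      rw [← hT]
      rintro _ ⟨x, hx, rfl⟩
      exact Subgroup.mem_subgroupOf.mp (hQ' hx)
    have hg1 : (g : L) ∈ Subgroup.normalizer ((Q'.map (Subgroup.subtype _) : Subgroup L) : Set L) :=
      Subgroup.le_normalizer_map (Subgroup.subtype _) ⟨g, hg, rfl⟩
    have hcop' : (orderOf (g : L)).Coprime p := by rw [Subgroup.orderOf_coe]; exact hcop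
    have key := centralizes_of_not_bad F ι hreal hnb hNS _ hZ hQ''r hg1 g.2 hcop'
    rw [Subgroup.mem_centralizer_iff]
    intro x hx
    apply Subtype.ext
    exact key x ⟨x, hx, rfl⟩
  -- Step 2: `L` has a normal `p`-complement
  have hL : HasNormalPComplement p L := Cfsg.Agent.Lib.Helper8.GT.glauberman_thompson hp2 T hN
  -- Step 3: `L` is a `p`-group
  have hLtop : IsPGroup p ↥(⊤ : Subgroup L) :=
    Cfsg.Agent.Lib.Helper12.isPGroup_of_hasNormalPComplement_of_centralizer_le (pCore p L)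
      Cfsg.Agent.Lib.Helper16.pCore_isPGroup hC ⊤ le_top
      (Cfsg.Agent.Lib.Helper12.hasNormalPComplement_subgroup hL ⊤)
  have hTtop : (⊤ : Subgroup L) = T := T.is_maximal' hLtop le_top
  -- Step 4: `F` is inner
  intro P
  apply Set.Subset.antisymm
  · intro φ hφ
    have hP : P ≤ S := hom_le F hφ
    have hφS : ∀ x : ↥P, φ x ∈ S := fun x => hom_apply_mem F hφ x
    obtain ⟨g, hg⟩ := (hreal.2 P hP φ hφS).mp hφ
    have hgr : g ∈ ι.range := by rw [← hT, ← hTtop]; exact Subgroup.mem_top g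
    obtain ⟨s, rfl⟩ := hgr
    refine ⟨hP, s, s.2, fun x => ?_⟩
    have h1 := hg x
    rw [← map_inv, ← map_mul, ← map_mul] at h1
    exact congrArg Subtype.val (hι h1)
  · exact inner_hom_subset F P

end StepD

end Cfsg.Agent.Lib.Helper26.GT
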