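import Cfsg.Agent.Lib.Helper26.ModelD
import Cfsg.Agent.Lib.Helper26.FSNormal
import Cfsg.Agent.Lib.Helper26.FSNormalRestrict

/-!
Model theorem, existence: the induced extension is a model.
-/

set_option autoImplicit false
set_option linter.unusedSectionVars false
set_option linter.unusedVariables false

namespace Cfsg.Agent.Lib.Helper26.ModelThm

open Cfsg Cfsg.FusionSystem Cfsg.Agent.Lib.Helper26 IndExt
open scoped IsMulCommutative

variable {Ω : Type*} [Group Ω] {S : Subgroup Ω} {p : ℕ} {F : FusionSystem S} {Q : Subgroup Ω}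

section Properties

variable [Finite ↥S] [Finite ↥Q] [Fact p.Prime] (h : Setup p F Q)

theorem mRho_mIota (s : ↥S) : mRho h (mIota h s) = piHom h s := rfl

theorem mRho_surjective : Function.Surjective (mRho h) := rho_surjective (modData h) (sec_mk h)

theorem mIota_injective : Function.Injective (mIota h) :=
  iota_injective (modData h) (coc h) (coc_compatM h) (card_coprime h)

theorem exists_zeta_of_mRho_eq_one (g : Mdl h) (hg : mRho h g = 1) :
    ∃ z : ZQ Q, g = mIota h (zetaHom h z) :=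
  exists_zeta_of_rho_eq_one (modData h) (coc h) (coc_compatM h) (card_coprime h) g hg

theorem mIota_range : (mIota h).range = (piHom h).range.comap (mRho h) :=
  iota_range (modData h) (coc h) (coc_compatM h) (card_coprime h)

theorem finite_Mdl : Finite (Mdl h) := by
  have : Finite (W (piHom h)) := Finite.of_equiv _ SemidirectProduct.equivProd.symm
  infer_instance

theorem zeta_conj (z : ZQ Q) {x : ↥S} (hx : (x : Ω) ∈ Q) : zetaHom h z * x * (zetaHom h z)⁻¹ = x := by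
  apply Subtype.ext
  have hz := Subgroup.mem_center_iff.mp z.2 ⟨x, hx⟩
  have hz' : (x : Ω) * ((z : ↥Q) : Ω) = ((z : ↥Q) : Ω) * x := congrArg (fun y : ↥Q => (y : Ω)) hz
  show ((z : ↥Q) : Ω) * x * ((z : ↥Q) : Ω)⁻¹ = x
  rw [← hz']
  group

/-- Conjugation in the model acts on `ι(Q)` through `ρ`. -/
theorem conj_mIota (g : Mdl h) {x : ↥S} (hx : (x : Ω) ∈ Q) :
    g * mIota h x * g⁻¹ = mIota h (applyQ h (mRho h g) hx) := by
  set a := mRho h g with ha
  obtain ⟨θ, hθ, hθQ⟩ := exists_extension h a (Q.subgroupOf S) (fun s hs => piHom_conj_mem_range h a hs)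
  have hθQ' : ∀ (x : ↥S) (hx : (x : Ω) ∈ Q), θ x = applyQ h a hx := fun x hx => hθQ x hx hx
  obtain ⟨g', hg'a, hg'⟩ := exists_lift h a (Q.subgroupOf S) (fun x hx => hx) θ hθ hθQ'
  have h1 : mRho h (g'⁻¹ * g) = 1 := by
    rw [map_mul, map_inv, hg'a, ← ha]
    exact inv_mul_cancel a
  obtain ⟨z, hz⟩ := exists_zeta_of_mRho_eq_one h _ h1
  calc g * mIota h x * g⁻¹ = g' * ((g'⁻¹ * g) * mIota h x * (g'⁻¹ * g)⁻¹) * g'⁻¹ := by group
    _ = g' * mIota h (zetaHom h z * x * (zetaHom h z)⁻¹) * g'⁻¹ := by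
        rw [hz, map_mul, map_mul, map_inv]
    _ = g' * mIota h x * g'⁻¹ := by rw [zeta_conj h z hx]
    _ = mIota h (θ x) := hg' x hx
    _ = mIota h (applyQ h a hx) := by rw [hθQ' x hx]

/-- The image of `Q` in the model. -/
noncomputable def QG : Subgroup (Mdl h) := (Q.subgroupOf S).map (mIota h)

theorem QG_normal : (QG h).Normal := by
  constructor
  rintro _ ⟨x, hx, rfl⟩ g
  have hx' : (x : Ω) ∈ Q := hx
  rw [conj_mIota h g hx']
  exact ⟨_, applyQ_mem h _ hx', rfl⟩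

theorem QG_isPGroup : IsPGroup p (QG h) :=
  (h.pS.to_subgroup (Q.subgroupOf S)).map (mIota h)

theorem QG_le_pCore : QG h ≤ pCore p (Mdl h) :=
  le_sSup ⟨QG_normal h, QG_isPGroup h⟩

theorem centralizer_QG_le : Subgroup.centralizer (QG h : Set (Mdl h)) ≤ QG h := by
  intro g hg
  have h1 : mRho h g = 1 := by
    apply Subtype.ext
    ext x
    have hx : (((⟨x, h.le x.2⟩ : ↥S) : ↥S) : Ω) ∈ Q := x.2
    have e1 := conj_mIota h g hx
    have hmem : mIota h ⟨x, h.le x.2⟩ ∈ (QG h : Set (Mdl h)) := ⟨_, hx, rfl⟩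
    have e2 : g * mIota h ⟨x, h.le x.2⟩ * g⁻¹ = mIota h ⟨x, h.le x.2⟩ := by
      rw [← Subgroup.mem_centralizer_iff.mp hg _ hmem]
      group
    rw [e2] at e1
    have e3 := mIota_injective h e1
    exact (congrArg (fun s : ↥S => (s : Ω)) e3).symm
  obtain ⟨z, rfl⟩ := exists_zeta_of_mRho_eq_one h g h1
  exact ⟨_, (z : ↥Q).2, rfl⟩

theorem centralizer_pCore_le :
    Subgroup.centralizer ((pCore p (Mdl h) : Subgroup (Mdl h)) : Set (Mdl h)) ≤ pCore p (Mdl h) :=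
  (Subgroup.centralizer_le (QG_le_pCore h)).trans ((centralizer_QG_le h).trans (QG_le_pCore h))

theorem exists_sylow : ∃ T : Sylow p (Mdl h), (T : Subgroup (Mdl h)) = (mIota h).range := by
  have hP : IsPGroup p ↥(mIota h).range :=
    h.pS.of_surjective (mIota h).rangeRestrict (mIota h).rangeRestrict_surjective
  have hidx : ¬ p ∣ (mIota h).range.index := by
    rw [mIota_range, Subgroup.index_comap_of_surjective _ (mRho_surjective h), Subgroup.index_eq_card]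
    exact not_dvd_card_idx h
  exact ⟨hP.toSylow hidx, rfl⟩


theorem realized_mp (P : Subgroup Ω) (hP : P ≤ S) (φ : P →* Ω) (hφS : ∀ x : P, φ x ∈ S)
    (hφ : φ ∈ F.Hom P) :
    ∃ g : Mdl h, ∀ x : P, mIota h ⟨φ x, hφS x⟩ = g * mIota h ⟨x, hP x.2⟩ * g⁻¹ := by
  obtain ⟨ψ, hψ, hψP, hψQ⟩ := h.normal.2 P φ hφ
  obtain ⟨θ, hθ, hθψ⟩ := isFMap_of_hom F hψ
  set α : MulAut ↥Q := restrictAut ψ (F.injective_of_mem hψ) le_sup_right hψQ with hα
  have hαF : α ∈ F.autGroup Q := by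
    rw [mem_autGroup_iff F h.le]
    exact inclusion_comp_mem F le_sup_right hψ
  set a : ↥(F.autGroup Q) := ⟨α, hαF⟩ with ha
  have hQN : ∀ x : ↥S, (x : Ω) ∈ Q → x ∈ (P ⊔ Q).subgroupOf S := by
    intro x hx
    rw [Subgroup.mem_subgroupOf]
    exact (le_sup_right : Q ≤ P ⊔ Q) hx
  have hθQ : ∀ (x : ↥S) (hx : (x : Ω) ∈ Q), θ x = applyQ h a hx := by
    intro x hx
    apply Subtype.ext
    rw [hθψ x ((le_sup_right : Q ≤ P ⊔ Q) hx)]
    rfl
  obtain ⟨g, -, hg⟩ := exists_lift h a _ hQN θ hθ hθQ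
  refine ⟨g, fun x => ?_⟩
  have hxN : (⟨x, hP x.2⟩ : ↥S) ∈ (P ⊔ Q).subgroupOf S := by
    rw [Subgroup.mem_subgroupOf]
    exact (le_sup_left : P ≤ P ⊔ Q) x.2
  rw [hg _ hxN]
  congr 1
  apply Subtype.ext
  rw [hθψ _ ((le_sup_left : P ≤ P ⊔ Q) x.2)]
  show φ x = _
  rw [← hψP x]
  rfl

theorem realized_mpr (P : Subgroup Ω) (hP : P ≤ S) (φ : P →* Ω) (hφS : ∀ x : P, φ x ∈ S)
    (g : Mdl h) (hg : ∀ x : P, mIota h ⟨φ x, hφS x⟩ = g * mIota h ⟨x, hP x.2⟩ * g⁻¹) :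
    φ ∈ F.Hom P := by
  set a := mRho h g with ha
  set Pp : Subgroup ↥S := P.subgroupOf S with hPp
  set Qs : Subgroup ↥S := Q.subgroupOf S with hQs
  set N : Subgroup ↥S := Pp ⊔ Qs with hN
  have hQN : ∀ x : ↥S, (x : Ω) ∈ Q → x ∈ N := fun x hx => (le_sup_right : Qs ≤ N) hx
  have hPN : ∀ x : ↥S, (x : Ω) ∈ P → x ∈ N := fun x hx => (le_sup_left : Pp ≤ N) hx
  have hNr : ∀ s ∈ N, a * piHom h s * a⁻¹ ∈ (piHom h).range := by
    have hle : N ≤ (piHom h).range.comap ((MulAut.conj a).toMonoidHom.comp (piHom h)) := by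
      apply sup_le
      · intro s hs
        have hs' : (s : Ω) ∈ P := hs
        have e := congrArg (mRho h) (hg ⟨s, hs'⟩)
        rw [map_mul, map_mul, map_inv, mRho_mIota, mRho_mIota] at e
        exact ⟨_, e⟩
      · intro s hs
        exact piHom_conj_mem_range h a hs
    intro s hs
    exact hle hs
  obtain ⟨θ, hθ, hθQ⟩ := exists_extension h a N hNr
  have hθQ' : ∀ (x : ↥S) (hx : (x : Ω) ∈ Q), θ x = applyQ h a hx := fun x hx => hθQ x hx (hQN x hx)
  obtain ⟨g', hg'a, hg'⟩ := exists_lift h a N hQN θ hθ hθQ'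
  have h1 : mRho h (g'⁻¹ * g) = 1 := by
    rw [map_mul, map_inv, hg'a, ← ha]
    exact inv_mul_cancel a
  obtain ⟨z, hz⟩ := exists_zeta_of_mRho_eq_one h _ h1
  set ζz := zetaHom h z with hζz
  have hζN : ζz ∈ N := hQN ζz (z : ↥Q).2
  have key : ∀ x : P, (⟨φ x, hφS x⟩ : ↥S) = θ (ζz * ⟨x, hP x.2⟩ * ζz⁻¹) := by
    intro x
    apply mIota_injective h
    have hxN : (⟨x, hP x.2⟩ : ↥S) ∈ N := hPN _ x.2
    have hcN : ζz * ⟨x, hP x.2⟩ * ζz⁻¹ ∈ N := N.mul_mem (N.mul_mem hζN hxN) (N.inv_mem hζN)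
    rw [hg x, ← hg' _ hcN, map_mul, map_mul, map_inv, ← hz]
    group
  have hmaps : ∀ x ∈ Pp, ζz * x * ζz⁻¹ ∈ N := by
    intro x hx
    exact N.mul_mem (N.mul_mem hζN (hPN x hx)) (N.inv_mem hζN)
  have hcomp : IsFMap F Pp (fun x => θ (ζz * x * ζz⁻¹)) := (isFMap_conj F Pp ζz).comp hθ hmaps
  exact hcomp.hom_mem hP φ (fun x => congrArg (fun s : ↥S => (s : Ω)) (key x))

theorem realized : F.IsRealizedBy (mIota h) :=
  ⟨mIota_injective h, fun P hP φ hφS =>
    ⟨fun hφ => realized_mp h P hP φ hφS hφ, fun ⟨g, hg⟩ => realized_mpr h P hP φ hφS g hg⟩⟩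

theorem isModel : F.IsModel p (Mdl h) (mIota h) :=
  ⟨finite_Mdl h, realized h, exists_sylow h, centralizer_pCore_le h⟩

end Properties

/-- Model theorem, existence. -/
theorem exists_model {Ω : Type*} [Group Ω] {S : Subgroup Ω} [Finite ↥S] {p : ℕ} [Fact p.Prime]
    (hS : IsPGroup p S) (F : FusionSystem S) (hF : F.IsConstrained p) :
    ∃ (Q : Subgroup Ω) (_ : Finite ↥Q) (h : Setup p F Q), F.IsModel p (Mdl h) (mIota h) := by
  obtain ⟨hsat, Q, hQn, hQc⟩ := hF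
  have h : Setup p F Q := ⟨hS, hsat, hQn, hQc⟩
  have hfin : Finite ↥Q := finite_of_le h.le
  exact ⟨Q, hfin, h, isModel h⟩

end Cfsg.Agent.Lib.Helper26.ModelThm
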