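import Cfsg.Agent.Lib.Helper26.GT6
import Cfsg.Agent.Lib.Helper26.ModelE

/-!
Glauberman–Thompson for fusion systems, part 7: the main induction.
-/

set_option autoImplicit false
set_option linter.unusedSectionVars false
set_option linter.unusedVariables false

namespace Cfsg.Agent.Lib.Helper26.GT

open Cfsg Cfsg.FusionSystem Cfsg.Agent.Lib.Helper26

universe u

section Main

variable {Ω : Type u} [Group Ω] {S : Subgroup Ω}

/-- The inductive step. -/
theorem main_step [Finite ↥S] {p m : ℕ} [Fact p.Prime] (hp2 : p ≠ 2) (hIH : IHyp.{u} p m) (hS : IsPGroup p S)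
    (F : FusionSystem S) (hF : F.IsSaturated p) (hm : 2 * Nat.card S - Nat.card F.core = m)
    (hne : ¬ ∀ P : Subgroup Ω, F.Hom P = (innerFusionSystem S).Hom P) :
    Bad F p (centerThompsonAOf S) := by
  by_cases hcore : F.core = ⊥
  · exact bad_zj_of_core_eq_bot hIH hS F hF hm hcore hne
  by_contra hnb
  have hQn := core_isNormal F
  have hQsc := stronglyClosed_of_isNormal F hQn
  have hcentric : F.IsCentric F.core := by
    by_cases hcoreS : F.core = S
    · apply isCentric_of_isNormal_of_centralizerIn_le F hQn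
      intro x hx
      rw [hcoreS]
      exact centralizerIn_le S _ hx
    · have hn : (F.core.subgroupOf S).Normal := normal_subgroupOf_of_stronglyClosed F hQsc
      set θ := QuotientGroup.mk' (F.core.subgroupOf S) with hθdef
      set E := factorSystem F hQsc θ (quot_ker F.core) (quot_range F.core) with hEdef
      have hfac : F.IsFactorSystem F.core θ E := factorSystem_isFactorSystem F hQsc θ (quot_ker F.core) (quot_range F.core)
      by_cases hE : ∀ P, E.Hom P = (innerFusionSystem (⊤ : Subgroup (↥S ⧸ F.core.subgroupOf S))).Hom P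
      · have hθ := factorSystem_isSurjectiveMorphism hS F hF F.core hQsc θ E hfac
        have hpT : IsPGroup p (⊤ : Subgroup (↥S ⧸ F.core.subgroupOf S)) :=
          (hS.to_quotient (F.core.subgroupOf S)).to_subgroup ⊤
        exact core_isCentric_of_factor_inner hS hpT F hF E θ hθ hE hfac.2.1
      · exfalso
        exact hnb (bad_zj_of_factor_not_inner hIH hS F hF hm hcore hcoreS E hfac hE)
  have hcons : F.IsConstrained p := ⟨hF, F.core, hQn, hcentric⟩
  obtain ⟨Q, hfinQ, h, hmodel⟩ := Cfsg.Agent.Lib.Helper26.ModelThm.exists_model hS F hcons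
  exact hne (inner_of_model hp2 hS F _ hmodel hnb)

theorem ihyp_all {p : ℕ} [Fact p.Prime] (hp2 : p ≠ 2) : ∀ m : ℕ, IHyp.{u} p m := by
  intro m
  induction m using Nat.strong_induction_on with
  | _ m ih =>
    intro Ω _ S _ hS F hF hm hne
    exact main_step hp2 (ih _ hm) hS F hF rfl hne

/-- Glauberman–Thompson for fusion systems, `p` odd: in a saturated system that is not inner, `Z(J(S))` is bad. -/
theorem bad_zj_of_not_inner [Finite ↥S] {p : ℕ} [Fact p.Prime] (hp2 : p ≠ 2) (hS : IsPGroup p S)
    (F : FusionSystem S) (hF : F.IsSaturated p)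
    (hne : ¬ ∀ P : Subgroup Ω, F.Hom P = (innerFusionSystem S).Hom P) :
    Bad F p (centerThompsonAOf S) :=
  main_step hp2 (ihyp_all hp2 _) hS F hF rfl hne

/-- S5204. -/
theorem inner_iff_normalizer_zj_inner [Finite ↥S] {p : ℕ} [Fact p.Prime] (hp2 : p ≠ 2) (hS : IsPGroup p S)
    (F : FusionSystem S) (hF : F.IsSaturated p) :
    (∀ P : Subgroup Ω, F.Hom P = (innerFusionSystem S).Hom P) ↔
      ∀ N : FusionSystem (normalizerIn S (centerThompsonAOf S)), F.IsNormalizerSystem (centerThompsonAOf S) N →
        ∀ P : Subgroup Ω, N.Hom P = (innerFusionSystem (normalizerIn S (centerThompsonAOf S))).Hom P := by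
  have hUS : centerThompsonAOf S ≤ S := zj_le S
  have hNS : normalizerIn S (centerThompsonAOf S) = S :=
    normalizerIn_eq_of_le_normalizer (Subgroup.le_normalizer.trans (zj_normalizer_le S))
  constructor
  · intro hinner N hN P
    apply Set.Subset.antisymm
    · intro φ hφ
      rw [hN P] at hφ
      obtain ⟨hφF, hPN, -, -⟩ := hφ
      rw [hinner P] at hφF
      obtain ⟨-, g, hg, hgφ⟩ := hφF
      exact ⟨hPN, g, hNS.symm ▸ hg, hgφ⟩
    · exact inner_hom_subset N P
  · intro h
    by_contra hne
    have hbad := bad_zj_of_not_inner hp2 hS F hF hne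
    exact not_inner_of_bad hS F hbad _ (normalizerSystem_isNormalizerSystem F _ hUS)
      (h _ (normalizerSystem_isNormalizerSystem F _ hUS))

end Main

end Cfsg.Agent.Lib.Helper26.GT
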