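import Mathlib
import Cfsg.Prelude.Def_PLocal
import Cfsg.Agent.Lib.Helper27.ZJ4

/-!
# Glauberman's ZJ-induction, abstract form

`W` is any subgroup normalized by a Sylow `p`-subgroup `S`.  If `W ⊓ B` is normal for the normal `p`-subgroups `B`
that are generated by the conjugates of `W ⊓ B` and have `[B, B] ≤ W`, then `W ⊓ B` is normal for every normal
`p`-subgroup `B`.
-/

set_option autoImplicit false
open scoped commutatorElement

namespace Cfsg.Agent.Lib.Helper26.RelZJ

open Cfsg.Agent.Lib.Helper27

variable {G : Type*} [Group G] [Finite G] {p : ℕ} [Fact p.Prime]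

/-- `N_G(S ∩ K) C_G(B) = G` for `K` the preimage of `O_p(G / C_G(B))`. -/
theorem normalizer_inf_kSub_sup_centralizer (S : Sylow p G) (B : Subgroup G) [hBn : B.Normal] :
    Subgroup.normalizer ((((S : Subgroup G) ⊓ kSub p B : Subgroup G)) : Set G) ⊔
      Subgroup.centralizer (B : Set G) = ⊤ := by
  have hF := frattini_inf S (kSub p B)
  rw [eq_top_iff, ← hF]
  apply sup_le le_sup_left
  refine (kSub_le_sup S B).trans (sup_le ?_ le_sup_right)
  exact Subgroup.le_normalizer.trans le_sup_left

/-- A subgroup `X ⊓ B` normalized by `N_G(S ∩ K)` is normal. -/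
theorem inf_normal_of_normalizer_le (S : Sylow p G) (B : Subgroup G) [hBn : B.Normal] (X : Subgroup G)
    (hX : Subgroup.normalizer ((((S : Subgroup G) ⊓ kSub p B : Subgroup G)) : Set G) ≤
      Subgroup.normalizer (X : Set G)) : (X ⊓ B).Normal := by
  rw [← Subgroup.normalizer_eq_top_iff]
  have hBN : Subgroup.normalizer (B : Set G) = ⊤ := Subgroup.normalizer_eq_top_iff.mpr hBn
  have h1 : Subgroup.normalizer ((((S : Subgroup G) ⊓ kSub p B : Subgroup G)) : Set G) ≤
      Subgroup.normalizer ((X ⊓ B : Subgroup G) : Set G) := by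
    intro n hn
    have hnW := hX hn
    have hnB : n ∈ Subgroup.normalizer (B : Set G) := by rw [hBN]; exact Subgroup.mem_top n
    rw [Subgroup.mem_normalizer_iff] at hnW hnB ⊢
    intro x
    rw [Subgroup.mem_inf, Subgroup.mem_inf, ← hnW x, ← hnB x]
  have h2 : Subgroup.centralizer (B : Set G) ≤ Subgroup.normalizer ((X ⊓ B : Subgroup G) : Set G) := by
    apply GlaubRepl.Hyp.le_normalizer_of_conj_mem
    intro c hc x hx
    have hcx := (Subgroup.mem_centralizer_iff.mp hc) x hx.2
    have : c * x * c⁻¹ = x := by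
      calc c * x * c⁻¹ = (x * c) * c⁻¹ := by rw [hcx]
        _ = x := by group
    rw [this]; exact hx
  rw [eq_top_iff, ← normalizer_inf_kSub_sup_centralizer S B]
  exact sup_le h1 h2

/-- The abstract induction. -/
theorem inf_normal_of_step (S : Sylow p G) (W : Subgroup G)
    (hSNW : (S : Subgroup G) ≤ Subgroup.normalizer (W : Set G))
    (hstep : ∀ (B : Subgroup G) [B.Normal], IsPGroup p B →
      Subgroup.normalClosure ((W ⊓ B : Subgroup G) : Set G) = B → ⁅B, B⁆ ≤ W → (W ⊓ B).Normal) :
    ∀ (n : ℕ) (B : Subgroup G) [B.Normal], IsPGroup p B → Nat.card B ≤ n → (W ⊓ B).Normal := by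
  classical
  intro n
  induction n with
  | zero =>
    intro B _ _ hcard
    have := Nat.card_pos (α := B)
    omega
  | succ n ih =>
    intro B hBn hB hcard
    have hBS : B ≤ (S : Subgroup G) := hB.le_sylow_of_normal S
    have hB₁le : Subgroup.normalClosure ((W ⊓ B : Subgroup G) : Set G) ≤ B :=
      Subgroup.normalClosure_le_normal (fun x hx => hx.2)
    have hXB₁ : W ⊓ B ≤ Subgroup.normalClosure ((W ⊓ B : Subgroup G) : Set G) :=
      Subgroup.subset_normalClosure
    by_cases hB₁ : Subgroup.normalClosure ((W ⊓ B : Subgroup G) : Set G) = B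
    swap
    · have hlt : Nat.card ↥(Subgroup.normalClosure ((W ⊓ B : Subgroup G) : Set G)) < Nat.card B := by
        by_contra hge
        push Not at hge
        exact hB₁ (Subgroup.eq_of_le_of_card_ge hB₁le hge)
      have hN := ih (Subgroup.normalClosure ((W ⊓ B : Subgroup G) : Set G))
        (hB.to_le hB₁le) (by omega)
      have heq : W ⊓ B = W ⊓ Subgroup.normalClosure ((W ⊓ B : Subgroup G) : Set G) :=
        le_antisymm (le_inf inf_le_left hXB₁) (inf_le_inf_left _ hB₁le)
      rw [heq]; exact hN
    · by_cases hBbot : B = ⊥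
      · rw [hBbot, inf_bot_eq]; infer_instance
      · have hB'lt : ⁅B, B⁆ < B := commutator_lt_of_isPGroup hB hBbot
        have hB'card : Nat.card ↥⁅B, B⁆ ≤ n := by
          have : Nat.card ↥⁅B, B⁆ < Nat.card B := by
            by_contra hge
            push Not at hge
            exact hB'lt.ne (Subgroup.eq_of_le_of_card_ge hB'lt.le hge)
          omega
        have hY : (W ⊓ ⁅B, B⁆).Normal := ih ⁅B, B⁆ (hB.to_le hB'lt.le) hB'card
        have hBBY : ⁅B, B⁆ ≤ W ⊓ ⁅B, B⁆ := by
          let H : Subgroup G :=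
            { carrier := {g | ∀ v ∈ B, ⁅g, v⁆ ∈ W ⊓ ⁅B, B⁆}
              one_mem' := by
                intro v _
                rw [commutatorElement_one_left]; exact Subgroup.one_mem _
              mul_mem' := by
                intro g k hg hk v hv
                have h1 : ⁅g * k, v⁆ = g * ⁅k, v⁆ * g⁻¹ * ⁅g, v⁆ := by
                  simp only [commutatorElement_def]; group
                rw [h1]
                exact Subgroup.mul_mem _ (hY.conj_mem _ (hk v hv) g) (hg v hv)
              inv_mem' := by
                intro g hg v hv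
                have h1 : ⁅g⁻¹, v⁆ = g⁻¹ * ⁅g, v⁆⁻¹ * g⁻¹⁻¹ := by
                  simp only [commutatorElement_def]; group
                rw [h1]
                exact hY.conj_mem _ (Subgroup.inv_mem _ (hg v hv)) g⁻¹ }
          have hHn : H.Normal := by
            refine ⟨fun g hg t v hv => ?_⟩
            have h1 : ⁅t * g * t⁻¹, v⁆ = t * ⁅g, t⁻¹ * v * t⁻¹⁻¹⁆ * t⁻¹ := by
              simp only [commutatorElement_def]; group
            rw [h1]
            exact hY.conj_mem _ (hg _ (hBn.conj_mem v hv t⁻¹)) t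
          have hXH : ((W ⊓ B : Subgroup G) : Set G) ⊆ H := by
            intro x hx v hv
            refine ⟨?_, Subgroup.commutator_mem_commutator hx.2 hv⟩
            have hvN := hSNW (hBS hv)
            have h1 : ⁅x, v⁆ = x * (v * x⁻¹ * v⁻¹) := by
              simp only [commutatorElement_def]; group
            rw [h1]
            exact Subgroup.mul_mem _ hx.1
              ((Subgroup.mem_normalizer_iff.mp hvN x⁻¹).mp (Subgroup.inv_mem _ hx.1))
          have hBH : B ≤ H := by
            rw [← hB₁]
            exact Subgroup.normalClosure_le_normal hXH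
          rw [Subgroup.commutator_le]
          intro g hg v hv
          exact hBH hg v hv
        exact hstep B hB hB₁ (hBBY.trans inf_le_left)

/-- The final step: an abelian `W ≤ S` normalized by `S` lies in `O_p(G)` when `C_G(O_p(G)) ≤ O_p(G)`, so normality of
`W ⊓ O_p(G)` gives normality of `W`. -/
theorem normal_of_inf_normal (S : Sylow p G) (W : Subgroup G) (hWS : W ≤ (S : Subgroup G)) (hWab : AbSub W)
    (hSNW : (S : Subgroup G) ≤ Subgroup.normalizer (W : Set G))
    (hc : Subgroup.centralizer (Cfsg.pCore p G : Set G) ≤ Cfsg.pCore p G)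
    (hq : QuadHyp p (S : Subgroup G))
    (hall : ∀ (B : Subgroup G) [B.Normal], IsPGroup p B → (W ⊓ B).Normal) : W.Normal := by
  haveI hOn : (Cfsg.pCore p G).Normal := pCore_normal p G
  have hO : IsPGroup p (Cfsg.pCore p G) := pCore_isPGroup p G
  have hOS : Cfsg.pCore p G ≤ (S : Subgroup G) := hO.le_sylow_of_normal S
  have h1 : W ≤ kSub p (Cfsg.pCore p G) := by
    apply hq (Cfsg.pCore p G) hO _ hWS hWab
    intro a ha b hb
    have h1 : ⁅b, a⁆ = (b * a * b⁻¹) * a⁻¹ := by simp only [commutatorElement_def]
    rw [h1]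
    exact Subgroup.mul_mem _ ((Subgroup.mem_normalizer_iff.mp (hSNW (hOS hb)) a).mp ha)
      (Subgroup.inv_mem _ ha)
  have h2 : kSub p (Cfsg.pCore p G) ≤ Cfsg.pCore p G :=
    le_pCore (kSub_normal p _) (isPGroup_kSub _ (hO.to_le hc))
  have h3 := hall (Cfsg.pCore p G) hO
  rwa [inf_eq_left.mpr (h1.trans h2)] at h3

end Cfsg.Agent.Lib.Helper26.RelZJ
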