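import Mathlib
import Cfsg.Prelude.Def_PLocal
import Cfsg.Agent.Lib.Helper26.RelZJ1

/-!
# Glauberman's ZJ-theorem for an axiomatic family of abelian subgroups

`𝒜` is a nonempty family of abelian subgroups of the Sylow `p`-subgroup `S`, `I(Q)` the intersection of the members of
`𝒜` inside `Q`.  Under invariance (`N_G(Q)` normalizes `I(Q)` when `Q` contains a member) and replacement, `I(S)` is
normal in `G` when `C_G(O_p(G)) ≤ O_p(G)` and the quadratic hypothesis holds.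
-/

set_option autoImplicit false
set_option linter.unusedSectionVars false
set_option linter.unusedVariables false
open scoped commutatorElement

namespace Cfsg.Agent.Lib.Helper26.RelZJ

open Cfsg.Agent.Lib.Helper27

variable {G : Type*} [Group G]

/-- The intersection of the members of `𝒜` contained in `Q`. -/
def iSub (𝒜 : Set (Subgroup G)) (Q : Subgroup G) : Subgroup G :=
  ⨅ A ∈ {A : Subgroup G | A ∈ 𝒜 ∧ A ≤ Q}, A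

theorem iSub_le_of_mem {𝒜 : Set (Subgroup G)} {Q A : Subgroup G} (hA : A ∈ 𝒜) (hAQ : A ≤ Q) : iSub 𝒜 Q ≤ A :=
  iInf₂_le A ⟨hA, hAQ⟩

theorem iInf_le_iSub (𝒜 : Set (Subgroup G)) (Q : Subgroup G) : (⨅ A ∈ 𝒜, A) ≤ iSub 𝒜 Q :=
  le_iInf₂ fun A hA => iInf₂_le A hA.1

theorem iSub_eq_iInf {𝒜 : Set (Subgroup G)} {S : Subgroup G} (h : ∀ A ∈ 𝒜, A ≤ S) : iSub 𝒜 S = ⨅ A ∈ 𝒜, A :=
  le_antisymm (le_iInf₂ fun A hA => iInf₂_le A ⟨hA, h A hA⟩) (iInf_le_iSub 𝒜 S)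

variable [Finite G] {p : ℕ} [Fact p.Prime]

theorem iInf_step (S : Sylow p G) (𝒜 : Set (Subgroup G)) (h𝒜 : ∀ A ∈ 𝒜, A ≤ (S : Subgroup G) ∧ AbSub A)
    (hne : 𝒜.Nonempty)
    (hinv : ∀ Q : Subgroup G, Q ≤ (S : Subgroup G) → (∃ A ∈ 𝒜, A ≤ Q) →
      Subgroup.normalizer (Q : Set G) ≤ Subgroup.normalizer (iSub 𝒜 Q : Set G))
    (hrep : ∀ B : Subgroup G, B ≤ (S : Subgroup G) → ⁅⁅B, B⁆, B⁆ = ⊥ → (∃ A ∈ 𝒜, ⁅B, B⁆ ≤ A ∧ ¬ B ≤ A) →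
      ∃ A ∈ 𝒜, ⁅B, B⁆ ≤ A ∧ ¬ B ≤ A ∧ B ≤ Subgroup.normalizer (A : Set G))
    (hq : QuadHyp p (S : Subgroup G))
    (B : Subgroup G) [hBn : B.Normal] (hB : IsPGroup p B)
    (hB₁ : Subgroup.normalClosure (((⨅ A ∈ 𝒜, A) ⊓ B : Subgroup G) : Set G) = B)
    (hBBW : ⁅B, B⁆ ≤ ⨅ A ∈ 𝒜, A) : ((⨅ A ∈ 𝒜, A) ⊓ B).Normal := by
  classical
  have hBS : B ≤ (S : Subgroup G) := hB.le_sylow_of_normal S
  obtain ⟨A₀, hA₀⟩ := hne
  have hWA : ∀ A ∈ 𝒜, (⨅ A ∈ 𝒜, A) ≤ A := fun A hA => iInf₂_le A hA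
  have hWab : AbSub (⨅ A ∈ 𝒜, A) := fun x hx y hy => (h𝒜 A₀ hA₀).2 x (hWA A₀ hA₀ hx) y (hWA A₀ hA₀ hy)
  -- class two
  have hcl2 : ⁅⁅B, B⁆, B⁆ = ⊥ := by
    rw [Subgroup.commutator_eq_bot_iff_le_centralizer, Subgroup.le_centralizer_iff]
    have hBBn : (⁅B, B⁆).Normal := inferInstance
    have hCn : (Subgroup.centralizer ((⁅B, B⁆ : Subgroup G) : Set G)).Normal := inferInstance
    have h1 : Subgroup.normalClosure (((⨅ A ∈ 𝒜, A) ⊓ B : Subgroup G) : Set G) ≤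
        Subgroup.centralizer ((⁅B, B⁆ : Subgroup G) : Set G) := by
      apply Subgroup.normalClosure_le_normal
      intro x hx
      rw [SetLike.mem_coe, Subgroup.mem_centralizer_iff]
      intro y hy
      exact hWab y (hBBW hy) x hx.1
    rwa [hB₁] at h1
  by_cases hBW : B ≤ ⨅ A ∈ 𝒜, A
  · rw [inf_eq_right.mpr hBW]
    exact hBn
  · exfalso
    have hex : ∃ A ∈ 𝒜, ¬ B ≤ A := by
      by_contra hcon
      push Not at hcon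
      exact hBW (le_iInf₂ hcon)
    obtain ⟨A, hA, hBA⟩ := hex
    obtain ⟨A', hA', hBBA', hBA', hBN⟩ := hrep B hBS hcl2 ⟨A, hA, hBBW.trans (hWA A hA), hBA⟩
    have hA'K : A' ≤ kSub p B := by
      apply hq B hB A' (h𝒜 A' hA').1 (h𝒜 A' hA').2
      intro a ha b hb
      have h1 : ⁅b, a⁆ = (b * a * b⁻¹) * a⁻¹ := by simp only [commutatorElement_def]
      rw [h1]
      exact A'.mul_mem ((Subgroup.mem_normalizer_iff.mp (hBN hb) a).mp ha) (A'.inv_mem ha)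
    have hA'Q : A' ≤ (S : Subgroup G) ⊓ kSub p B := le_inf (h𝒜 A' hA').1 hA'K
    have hN := hinv ((S : Subgroup G) ⊓ kSub p B) inf_le_left ⟨A', hA', hA'Q⟩
    have hnorm : (iSub 𝒜 ((S : Subgroup G) ⊓ kSub p B) ⊓ B).Normal :=
      inf_normal_of_normalizer_le S B _ hN
    have h1 : Subgroup.normalClosure (((⨅ A ∈ 𝒜, A) ⊓ B : Subgroup G) : Set G) ≤
        iSub 𝒜 ((S : Subgroup G) ⊓ kSub p B) ⊓ B := by
      apply Subgroup.normalClosure_le_normal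
      intro x hx
      exact ⟨iInf_le_iSub 𝒜 _ hx.1, hx.2⟩
    rw [hB₁] at h1
    exact hBA' ((h1.trans inf_le_left).trans (iSub_le_of_mem hA' hA'Q))

/-- **Axiomatic ZJ-theorem**: the intersection of the family is normal in `G`. -/
theorem iInf_normal (S : Sylow p G) (𝒜 : Set (Subgroup G)) (h𝒜 : ∀ A ∈ 𝒜, A ≤ (S : Subgroup G) ∧ AbSub A)
    (hne : 𝒜.Nonempty)
    (hinv : ∀ Q : Subgroup G, Q ≤ (S : Subgroup G) → (∃ A ∈ 𝒜, A ≤ Q) →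
      Subgroup.normalizer (Q : Set G) ≤ Subgroup.normalizer (iSub 𝒜 Q : Set G))
    (hrep : ∀ B : Subgroup G, B ≤ (S : Subgroup G) → ⁅⁅B, B⁆, B⁆ = ⊥ → (∃ A ∈ 𝒜, ⁅B, B⁆ ≤ A ∧ ¬ B ≤ A) →
      ∃ A ∈ 𝒜, ⁅B, B⁆ ≤ A ∧ ¬ B ≤ A ∧ B ≤ Subgroup.normalizer (A : Set G))
    (hc : Subgroup.centralizer (Cfsg.pCore p G : Set G) ≤ Cfsg.pCore p G)
    (hq : QuadHyp p (S : Subgroup G)) : (⨅ A ∈ 𝒜, A).Normal := by
  obtain ⟨A₀, hA₀⟩ := hne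
  have hWA : ∀ A ∈ 𝒜, (⨅ A ∈ 𝒜, A) ≤ A := fun A hA => iInf₂_le A hA
  have hWab : AbSub (⨅ A ∈ 𝒜, A) := fun x hx y hy => (h𝒜 A₀ hA₀).2 x (hWA A₀ hA₀ hx) y (hWA A₀ hA₀ hy)
  have hWS : (⨅ A ∈ 𝒜, A) ≤ (S : Subgroup G) := (hWA A₀ hA₀).trans (h𝒜 A₀ hA₀).1
  have hSNW : (S : Subgroup G) ≤ Subgroup.normalizer ((⨅ A ∈ 𝒜, A : Subgroup G) : Set G) := by
    have h1 := hinv (S : Subgroup G) le_rfl ⟨A₀, hA₀, (h𝒜 A₀ hA₀).1⟩
    rw [iSub_eq_iInf (fun A hA => (h𝒜 A hA).1)] at h1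
    exact Subgroup.le_normalizer.trans h1
  apply normal_of_inf_normal S _ hWS hWab hSNW hc hq
  intro B hBn hB
  exact inf_normal_of_step S _ hSNW
    (fun B' _ hB' h1 h2 => iInf_step S 𝒜 h𝒜 ⟨A₀, hA₀⟩ hinv hrep hq B' hB' h1 h2) (Nat.card B) B hB le_rfl

end Cfsg.Agent.Lib.Helper26.RelZJ
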