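import Mathlib
import Cfsg.Prelude.Def_PLocal
import Cfsg.Agent.Lib.Helper26.RelZJ1
import Cfsg.Agent.Lib.Helper27.ZJ3

/-!
# Glauberman's ZJ-theorem relative to a strongly closed subgroup

`D ≤ S` strongly closed in the Sylow `p`-subgroup `S` with respect to `G`; then `W_𝔛(D)` is normal in `G` when
`C_G(O_p(G)) ≤ O_p(G)` and the quadratic hypothesis holds.
-/

set_option autoImplicit false
set_option linter.unusedSectionVars false
set_option linter.unusedVariables false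
open scoped commutatorElement

namespace Cfsg.Agent.Lib.Helper26.RelZJ

open Cfsg.Agent.Lib.Helper27

variable {G : Type*} [Group G] [Finite G] {p : ℕ} [Fact p.Prime] {𝔛 : Subgroup G → Prop}

/-- `D` is strongly closed in `S` with respect to `G`. -/
def SCl (S D : Subgroup G) : Prop :=
  D ≤ S ∧ ∀ x ∈ D, ∀ g : G, g * x * g⁻¹ ∈ S → g * x * g⁻¹ ∈ D

theorem SCl.le_normalizer {S D : Subgroup G} (h : SCl S D) : S ≤ Subgroup.normalizer (D : Set G) := by
  intro s hs
  apply Subgroup.mem_normalizer_fintype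
  intro x hx
  exact h.2 x hx s (S.mul_mem (S.mul_mem hs (h.1 hx)) (S.inv_mem hs))

theorem SCl.inf_normal {S D : Subgroup G} (h : SCl S D) (B : Subgroup G) [hBn : B.Normal] (hBS : B ≤ S) :
    (D ⊓ B).Normal := by
  refine ⟨fun x hx g => ⟨?_, hBn.conj_mem x hx.2 g⟩⟩
  exact h.2 x hx.1 g (hBS (hBn.conj_mem x hx.2 g))

/-- A subgroup of `S` normalizing ... : elements of `G` normalizing `S ⊓ K` (`K` normal) normalize `D ⊓ K`. -/
theorem SCl.normalizer_inf_le {S D : Subgroup G} (h : SCl S D) (K : Subgroup G) [hKn : K.Normal] :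
    Subgroup.normalizer (((S ⊓ K : Subgroup G)) : Set G) ≤ Subgroup.normalizer (((D ⊓ K : Subgroup G)) : Set G) := by
  intro g hg
  apply Subgroup.mem_normalizer_fintype
  intro x hx
  have hxSK : x ∈ S ⊓ K := ⟨h.1 hx.1, hx.2⟩
  have h1 : g * x * g⁻¹ ∈ S ⊓ K := (Subgroup.mem_normalizer_iff.mp hg x).mp hxSK
  exact ⟨h.2 x hx.1 g h1.1, h1.2⟩

theorem wSub_rel_step (h𝔛 : GoodClass 𝔛) (S : Sylow p G) (D : Subgroup G) (hD : SCl (S : Subgroup G) D)
    (GR : ReplHyp 𝔛 D) (hq : QuadHyp p (S : Subgroup G))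
    (B : Subgroup G) [hBn : B.Normal] (hB : IsPGroup p B)
    (hB₁ : Subgroup.normalClosure ((wSub 𝔛 D ⊓ B : Subgroup G) : Set G) = B) (hBBW : ⁅B, B⁆ ≤ wSub 𝔛 D) :
    (wSub 𝔛 D ⊓ B).Normal := by
  classical
  have hBS : B ≤ (S : Subgroup G) := hB.le_sylow_of_normal S
  have hDBn : (D ⊓ B).Normal := hD.inf_normal B hBS
  have hBD : B ≤ D := by
    have h1 : Subgroup.normalClosure ((wSub 𝔛 D ⊓ B : Subgroup G) : Set G) ≤ D ⊓ B := by
      apply Subgroup.normalClosure_le_normal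
      intro x hx
      exact ⟨wSub_le D hx.1, hx.2⟩
    rw [hB₁] at h1
    exact h1.trans inf_le_left
  have hDB : D ≤ Subgroup.normalizer (B : Set G) := by
    rw [Subgroup.normalizer_eq_top_iff.mpr hBn]; exact le_top
  -- the relative version of `wSub_inf_kSub_normal`
  have hNT : (wSub 𝔛 (D ⊓ kSub p B) ⊓ B).Normal := by
    apply inf_normal_of_normalizer_le S B
    exact (hD.normalizer_inf_le (kSub p B)).trans (normalizer_le_normalizer_wSub h𝔛 _)
  have hall : ∀ A ∈ maxIn 𝔛 D, A ≤ kSub p B := by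
    by_contra hcon
    push Not at hcon
    have hfin : {A : Subgroup G | A ∈ maxIn 𝔛 D ∧ ¬ A ≤ kSub p B}.Finite := Set.toFinite _
    obtain ⟨A₀, hA₀⟩ := hcon
    obtain ⟨A, hA, hmax⟩ := Set.exists_max_image _
      (fun A : Subgroup G => Nat.card ↥(A ⊓ B)) hfin ⟨A₀, hA₀⟩
    have hAab : AbSub A := h𝔛.ab A hA.1.2.1
    have hAS : A ≤ (S : Subgroup G) := hA.1.1.trans hD.1
    have hnotN : ¬ B ≤ Subgroup.normalizer (A : Set G) := by
      intro hle
      apply hA.2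
      apply hq B hB A hAS hAab
      intro a ha b hb
      have h1 : ⁅b, a⁆ = (b * a * b⁻¹) * a⁻¹ := by simp only [commutatorElement_def]
      rw [h1]
      exact A.mul_mem ((Subgroup.mem_normalizer_iff.mp (hle hb) a).mp ha) (A.inv_mem ha)
    obtain ⟨A', hA', hlt, hA'N⟩ := GR A hA.1 B hBD hDB
      (hBBW.trans (wSub_le_of_mem_maxIn h𝔛 hA.1)) hnotN
    have hA'K : A' ≤ kSub p B := by
      by_contra hnK
      have := hmax A' ⟨hA', hnK⟩
      exact hlt.ne (Subgroup.eq_of_le_of_card_ge hlt.le this)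
    have hA'T : A' ≤ D ⊓ kSub p B := le_inf hA'.1 hA'K
    have hWW : wSub 𝔛 D ≤ wSub 𝔛 (D ⊓ kSub p B) :=
      wSub_le_wSub_of_mem h𝔛 hA' hA'T inf_le_left
    have hBle : B ≤ wSub 𝔛 (D ⊓ kSub p B) ⊓ B := by
      have hcl : Subgroup.normalClosure ((wSub 𝔛 D ⊓ B : Subgroup G) : Set G) ≤
          wSub 𝔛 (D ⊓ kSub p B) ⊓ B := by
        apply Subgroup.normalClosure_le_normal
        intro x hx
        exact ⟨hWW hx.1, hx.2⟩
      exact (le_of_eq hB₁.symm).trans hcl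
    have hBA' : B ≤ A' :=
      (hBle.trans inf_le_left).trans
        (wSub_le_of_mem_maxIn h𝔛 (mem_maxIn_of_le hA' hA'T inf_le_left))
    apply hA.2
    apply hq B hB A hAS hAab
    intro a ha b hb
    have h1 : ⁅b, a⁆ = (b * a * b⁻¹) * a⁻¹ := by simp only [commutatorElement_def]
    rw [h1]
    exact A.mul_mem ((Subgroup.mem_normalizer_iff.mp (hA'N (hBA' hb)) a).mp ha) (A.inv_mem ha)
  have hWeq : wSub 𝔛 (D ⊓ kSub p B) = wSub 𝔛 D :=
    wSub_eq_of_forall_le h𝔛 (fun A hA => le_inf hA.1 (hall A hA)) inf_le_left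
  rw [← hWeq]
  exact hNT

/-- **Relative ZJ-theorem**: `W_𝔛(D)` is normal in `G` for `D` strongly closed. -/
theorem wSub_rel_normal (h𝔛 : GoodClass 𝔛) (S : Sylow p G) (D : Subgroup G) (hD : SCl (S : Subgroup G) D)
    (GR : ReplHyp 𝔛 D)
    (hc : Subgroup.centralizer (Cfsg.pCore p G : Set G) ≤ Cfsg.pCore p G)
    (hq : QuadHyp p (S : Subgroup G)) : (wSub 𝔛 D).Normal := by
  have hSNW : (S : Subgroup G) ≤ Subgroup.normalizer (wSub 𝔛 D : Set G) :=
    hD.le_normalizer.trans (normalizer_le_normalizer_wSub h𝔛 _)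
  apply normal_of_inf_normal S (wSub 𝔛 D) ((wSub_le D).trans hD.1) (abSub_wSub h𝔛 D) hSNW hc hq
  intro B hBn hB
  exact inf_normal_of_step S (wSub 𝔛 D) hSNW
    (fun B' _ hB' h1 h2 => wSub_rel_step h𝔛 S D hD GR hq B' hB' h1 h2) (Nat.card B) B hB le_rfl

/-- The version for `Z(J(D))`. -/
theorem centerThompsonAOf_rel_normal (hp : p ≠ 2) (S : Sylow p G) (D : Subgroup G) (hD : SCl (S : Subgroup G) D)
    (hc : Subgroup.centralizer (Cfsg.pCore p G : Set G) ≤ Cfsg.pCore p G)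
    (hq : QuadHyp p (S : Subgroup G)) : (Cfsg.centerThompsonAOf D).Normal := by
  rw [centerThompsonAOf_eq]
  exact wSub_rel_normal goodClass_abSub S D hD (replHyp_abSub hp D (S.isPGroup'.to_le hD.1)) hc hq

end Cfsg.Agent.Lib.Helper26.RelZJ
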