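import Mathlib
import Cfsg.Prelude.Def_PLocal
import Cfsg.Agent.Lib.Helper26.RelZJ1
import Cfsg.Agent.Lib.Helper27.ZJ7
import Cfsg.Agent.Lib.Helper8.GlauThomp
import Cfsg.Agent.Lib.Helper12.ItoGroup

/-!
# The quadratic hypothesis when a Sylow `p`-subgroup is a maximal subgroup (`p` odd)
-/

set_option autoImplicit false
set_option linter.unusedSectionVars false
set_option linter.unusedVariables false
open scoped commutatorElement

namespace Cfsg.Agent.Lib.Helper26.RelZJ

open Cfsg.Agent.Lib.Helper27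

universe u

variable {G : Type u} [Group G] [Finite G] {p : ℕ} [Fact p.Prime]

/-- If a Sylow `p`-subgroup (`p` odd) is a maximal subgroup, then `G / O_p(G)` has a normal `p`-complement. -/
theorem hasNormalPComplement_quot_of_coatom (hp : p ≠ 2) (T : Sylow p G) (hT : IsCoatom (T : Subgroup G)) :
    Cfsg.HasNormalPComplement p (G ⧸ Cfsg.pCore p G) := by
  have hp' : p.Prime := Fact.out
  have hsurj : Function.Surjective (QuotientGroup.mk' (Cfsg.pCore p G)) := QuotientGroup.mk'_surjective _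
  obtain ⟨Tb, hTb⟩ : ∃ Tb : Sylow p (G ⧸ Cfsg.pCore p G), Tb = T.mapSurjective hsurj := ⟨_, rfl⟩
  have hTbc : (Tb : Subgroup (G ⧸ Cfsg.pCore p G)) = (T : Subgroup G).map (QuotientGroup.mk' (Cfsg.pCore p G)) := by
    rw [hTb, Sylow.coe_mapSurjective]
  have hO : Cfsg.pCore p G ≤ (T : Subgroup G) := (pCore_isPGroup p G).le_sylow_of_normal T
  have hcomap : (Tb : Subgroup (G ⧸ Cfsg.pCore p G)).comap (QuotientGroup.mk' (Cfsg.pCore p G)) = (T : Subgroup G) := by
    rw [hTbc, Subgroup.comap_map_eq, QuotientGroup.ker_mk', sup_eq_left.mpr hO]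
  by_cases hbot : (Tb : Subgroup (G ⧸ Cfsg.pCore p G)) = ⊥
  · apply Cfsg.Agent.Lib.Helper12.hasNormalPComplement_of_coprime_card
    have h1 := Tb.not_dvd_index
    rw [hbot, Subgroup.index_bot] at h1
    exact ((Nat.Prime.coprime_iff_not_dvd hp').mpr h1).symm
  · apply Cfsg.Agent.Lib.Helper8.GT.glauberman_thompson hp Tb
    have hTN : (Tb : Subgroup (G ⧸ Cfsg.pCore p G)) ≤
        Subgroup.normalizer (Cfsg.centerThompsonAOf (Tb : Subgroup (G ⧸ Cfsg.pCore p G)) : Set (G ⧸ Cfsg.pCore p G)) :=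
      Subgroup.le_normalizer.trans (normalizer_le_normalizer_centerThompsonAOf _)
    have hne : Subgroup.normalizer (Cfsg.centerThompsonAOf (Tb : Subgroup (G ⧸ Cfsg.pCore p G)) :
        Set (G ⧸ Cfsg.pCore p G)) ≠ ⊤ := by
      intro htop
      have hn : (Cfsg.centerThompsonAOf (Tb : Subgroup (G ⧸ Cfsg.pCore p G))).Normal :=
        Subgroup.normalizer_eq_top_iff.mp htop
      have hpz : IsPGroup p (Cfsg.centerThompsonAOf (Tb : Subgroup (G ⧸ Cfsg.pCore p G))) :=
        Tb.isPGroup'.to_le (centerThompsonAOf_le _)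
      have h1 := le_pCore hn hpz
      rw [Cfsg.Agent.Lib.Helper12.ItoGroup.pCore_quot_pCore_eq_bot p] at h1
      exact centerThompsonAOf_ne_bot (p := p) _ Tb.isPGroup' hbot (le_bot_iff.mp h1)
    have hNeq : Subgroup.normalizer (Cfsg.centerThompsonAOf (Tb : Subgroup (G ⧸ Cfsg.pCore p G)) :
        Set (G ⧸ Cfsg.pCore p G)) = (Tb : Subgroup (G ⧸ Cfsg.pCore p G)) := by
      set N := Subgroup.normalizer (Cfsg.centerThompsonAOf (Tb : Subgroup (G ⧸ Cfsg.pCore p G)) :
        Set (G ⧸ Cfsg.pCore p G)) with hN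
      have h1 : (T : Subgroup G) ≤ N.comap (QuotientGroup.mk' (Cfsg.pCore p G)) := by
        rw [← hcomap]; exact Subgroup.comap_mono hTN
      have h2 : N.comap (QuotientGroup.mk' (Cfsg.pCore p G)) ≠ ⊤ := by
        intro h
        apply hne
        rw [← Subgroup.map_comap_eq_self_of_surjective hsurj N, h, ← MonoidHom.range_eq_map,
          MonoidHom.range_eq_top.mpr hsurj]
      have h3 : N.comap (QuotientGroup.mk' (Cfsg.pCore p G)) = (T : Subgroup G) := by
        by_contra hne'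
        exact h2 (hT.2 _ (lt_of_le_of_ne h1 (Ne.symm hne')))
      rw [← Subgroup.map_comap_eq_self_of_surjective hsurj N, h3, hTbc]
    rw [hNeq]
    exact Cfsg.Agent.Lib.Helper12.hasNormalPComplement_of_isPGroup Tb.isPGroup'

/-- The quadratic hypothesis when a Sylow `p`-subgroup (`p` odd) is a maximal subgroup. -/
theorem quadHyp_of_coatom (hp : p ≠ 2) (T : Sylow p G) (hT : IsCoatom (T : Subgroup G)) :
    QuadHyp p (T : Subgroup G) := by
  have hq := hasNormalPComplement_quot_of_coatom hp T hT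
  obtain ⟨q, hq', hpq, hsol, hdiv, hab⟩ :=
    Cfsg.Agent.Lib.Helper12.exists_prime_structure_of_coatom_sylow hq T hT
  have hqf : Fact q.Prime := ⟨hq'⟩
  have hD : Cfsg.Agent.Lib.Helper12.IsPQAb p q G := ⟨hsol, hdiv, hab⟩
  apply quadHyp_of_stable
  intro B hBn hB a hquad
  exact Cfsg.Agent.Lib.Helper12.mk_mem_pCore_of_quadratic hp hpq hD B hB
    (Subgroup.centralizer (B : Set G))
    (fun x hx => Subgroup.mem_centralizer_iff.mpr (fun u hu => hx u hu)) a hquad

end Cfsg.Agent.Lib.Helper26.RelZJ
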