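import Mathlib
import Cfsg.Prelude.Def_PLocal
import Cfsg.Agent.Lib.Helper26.RelZJ2
import Cfsg.Agent.Lib.Helper26.RelZJ4
import Cfsg.Agent.Lib.Helper12.PNilpotent

/-!
# A minimal subgroup without normal `p`-complement, and the relative Glauberman–Thompson theorem for groups with
`C_L(O_p(L)) ≤ O_p(L)`
-/

set_option autoImplicit false
set_option linter.unusedSectionVars false
set_option linter.unusedVariables false
open scoped commutatorElement

namespace Cfsg.Agent.Lib.Helper26.RelZJ

open Cfsg.Agent.Lib.Helper27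

universe u

variable {L : Type u} [Group L] [Finite L] {p : ℕ} [Fact p.Prime]

theorem isCoatom_subgroupOf {T M : Subgroup L} (hTM : T ≤ M) (hne : T ≠ M)
    (h : ∀ X : Subgroup L, T ≤ X → X ≤ M → X = T ∨ X = M) : IsCoatom (T.subgroupOf M) := by
  constructor
  · intro htop
    exact hne (le_antisymm hTM (Subgroup.subgroupOf_eq_top.mp htop))
  · intro Y hY
    have h1 : T ≤ Y.map M.subtype := by
      have := Subgroup.map_mono (f := M.subtype) hY.le
      rwa [Subgroup.map_subgroupOf_eq_of_le hTM] at this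
    have h2 : Y.map M.subtype ≤ M := Subgroup.map_subtype_le Y
    have hY' : Y = (Y.map M.subtype).subgroupOf M := by
      ext y
      rw [Subgroup.mem_subgroupOf]
      constructor
      · intro hy; exact ⟨y, hy, rfl⟩
      · rintro ⟨y', hy', hyy⟩
        have : y' = y := Subtype.ext hyy
        rwa [← this]
    rcases h _ h1 h2 with h3 | h3
    · exfalso
      rw [h3] at hY'
      exact hY.ne hY'.symm
    · rw [hY', h3]
      exact Subgroup.subgroupOf_self M

/-- In a group with `C_L(O_p(L)) ≤ O_p(L)` and no normal `p`-complement, some subgroup `M` containing the Sylow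
`p`-subgroup `T` has no normal `p`-complement, has `T` as a maximal subgroup, and satisfies `C_M(O_p(M)) ≤ O_p(M)`. -/
theorem exists_min_sub (T : Sylow p L)
    (hc : Subgroup.centralizer (Cfsg.pCore p L : Set L) ≤ Cfsg.pCore p L)
    (hL : ¬ Cfsg.HasNormalPComplement p L) :
    ∃ (M : Subgroup L) (hTM : (T : Subgroup L) ≤ M), ¬ Cfsg.HasNormalPComplement p ↥M ∧
      IsCoatom ((T.subtype hTM : Sylow p ↥M) : Subgroup ↥M) ∧
      Subgroup.centralizer (Cfsg.pCore p ↥M : Set ↥M) ≤ Cfsg.pCore p ↥M := by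
  classical
  haveI hOn : (Cfsg.pCore p L).Normal := pCore_normal p L
  have hO : IsPGroup p (Cfsg.pCore p L) := pCore_isPGroup p L
  have hOT : Cfsg.pCore p L ≤ (T : Subgroup L) := hO.le_sylow_of_normal T
  have hfin : {M : Subgroup L | (T : Subgroup L) ≤ M ∧ ¬ Cfsg.HasNormalPComplement p ↥M}.Finite := Set.toFinite _
  have hne : {M : Subgroup L | (T : Subgroup L) ≤ M ∧ ¬ Cfsg.HasNormalPComplement p ↥M}.Nonempty := by
    refine ⟨⊤, le_top, fun h => hL ?_⟩
    exact Cfsg.Agent.Lib.Helper12.hasNormalPComplement_of_surjective (⊤ : Subgroup L).subtype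
      (fun x => ⟨⟨x, Subgroup.mem_top x⟩, rfl⟩) h
  obtain ⟨M, ⟨hTM, hM⟩, hmin⟩ := Set.exists_min_image _ (fun M : Subgroup L => Nat.card M) hfin hne
  have hkey : ∀ X : Subgroup L, (T : Subgroup L) ≤ X → X ≤ M → X = (T : Subgroup L) ∨ X = M := by
    intro X hTX hXM
    by_cases hXM' : X = M
    · exact Or.inr hXM'
    · left
      have hlt : Nat.card X < Nat.card M := by
        by_contra hge
        push Not at hge
        exact hXM' (Subgroup.eq_of_le_of_card_ge hXM hge)
      have hX : Cfsg.HasNormalPComplement p ↥X := by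
        by_contra hX
        have := hmin X ⟨hTX, hX⟩
        omega
      have hXp : IsPGroup p ↥X :=
        Cfsg.Agent.Lib.Helper12.isPGroup_of_hasNormalPComplement_of_centralizer_le (Cfsg.pCore p L) hO hc X
          (hOT.trans hTX) hX
      exact T.is_maximal' hXp hTX
  have hTneM : (T : Subgroup L) ≠ M := by
    intro h
    apply hM
    apply Cfsg.Agent.Lib.Helper12.hasNormalPComplement_of_isPGroup
    rw [← h]
    exact T.isPGroup'
  refine ⟨M, hTM, hM, ?_, ?_⟩
  · rw [Sylow.coe_subtype]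
    exact isCoatom_subgroupOf hTM hTneM hkey
  · -- `C_M(O_p(M)) ≤ O_p(M)`
    have hQn : ((Cfsg.pCore p L).subgroupOf M).Normal := hOn.subgroupOf M
    have hQp : IsPGroup p ((Cfsg.pCore p L).subgroupOf M) :=
      hO.comap_of_injective _ (Subgroup.subtype_injective _)
    have hQle : (Cfsg.pCore p L).subgroupOf M ≤ Cfsg.pCore p ↥M := le_pCore hQn hQp
    intro x hx
    apply hQle
    rw [Subgroup.mem_subgroupOf]
    apply hc
    rw [Subgroup.mem_centralizer_iff]
    intro y hy
    have hyM : y ∈ M := hTM (hOT hy)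
    have h1 : (⟨y, hyM⟩ : ↥M) ∈ Cfsg.pCore p ↥M := hQle (Subgroup.mem_subgroupOf.mpr hy)
    have h2 := (Subgroup.mem_centralizer_iff.mp hx) ⟨y, hyM⟩ h1
    exact congrArg Subtype.val h2

/-- **Relative Glauberman–Thompson for groups with `C_L(O_p(L)) ≤ O_p(L)`**: `D` strongly closed in the Sylow
`p`-subgroup `T` (`p` odd); if `N_L(Z(J(D)))` has a normal `p`-complement, so does `L`. -/
theorem hasNormalPComplement_of_rel (hp : p ≠ 2) (T : Sylow p L)
    (hc : Subgroup.centralizer (Cfsg.pCore p L : Set L) ≤ Cfsg.pCore p L)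
    (D : Subgroup L) (hD : SCl (T : Subgroup L) D)
    (hN : Cfsg.HasNormalPComplement p ↥(Subgroup.normalizer (Cfsg.centerThompsonAOf D : Set L))) :
    Cfsg.HasNormalPComplement p L := by
  by_contra hL
  obtain ⟨M, hTM, hM, hcoatom, hcM⟩ := exists_min_sub T hc hL
  apply hM
  have hDM : D ≤ M := hD.1.trans hTM
  have hDscl : SCl ((T.subtype hTM : Sylow p ↥M) : Subgroup ↥M) (D.subgroupOf M) := by
    rw [Sylow.coe_subtype]
    refine ⟨fun x hx => Subgroup.mem_subgroupOf.mpr (hD.1 (Subgroup.mem_subgroupOf.mp hx)), ?_⟩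
    intro x hx g hg
    rw [Subgroup.mem_subgroupOf] at hx hg ⊢
    exact hD.2 _ hx (g : L) hg
  have hq := quadHyp_of_coatom hp (T.subtype hTM) hcoatom
  have hnorm := centerThompsonAOf_rel_normal hp (T.subtype hTM) (D.subgroupOf M) hDscl hcM hq
  have hDp : IsPGroup p (D.subgroupOf M) :=
    (T.isPGroup'.to_le hD.1).comap_of_injective _ (Subgroup.subtype_injective _)
  have hmap := centerThompsonAOf_map_of_injOn (p := p) M.subtype (D.subgroupOf M) hDp
    (fun x _ hx => M.subtype_injective (by rw [hx, map_one]))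
  rw [Subgroup.map_subgroupOf_eq_of_le hDM] at hmap
  have hle : M ≤ Subgroup.normalizer (Cfsg.centerThompsonAOf D : Set L) := by
    intro m hm
    apply Subgroup.mem_normalizer_fintype
    intro x hx
    rw [SetLike.mem_coe, hmap] at hx ⊢
    obtain ⟨x', hx', rfl⟩ := hx
    exact ⟨⟨m, hm⟩ * x' * ⟨m, hm⟩⁻¹, hnorm.conj_mem x' hx' ⟨m, hm⟩, rfl⟩
  exact Cfsg.Agent.Lib.Helper12.hasNormalPComplement_of_injective (Subgroup.inclusion hle)
    (Subgroup.inclusion_injective hle) hN

end Cfsg.Agent.Lib.Helper26.RelZJ
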