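import Mathlib
import Cfsg.Prelude.Def_PLocal
import Cfsg.Agent.Lib.Helper26.RelZJ3
import Cfsg.Agent.Lib.Helper26.RelZJ5

/-!
# The axiomatic Glauberman–Thompson theorem for groups with `C_L(O_p(L)) ≤ O_p(L)`
-/

set_option autoImplicit false
set_option linter.unusedSectionVars false
set_option linter.unusedVariables false
open scoped commutatorElement

namespace Cfsg.Agent.Lib.Helper26.RelZJ

open Cfsg.Agent.Lib.Helper27

universe u

variable {L : Type u} [Group L]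

/-- The family pulled back to a subgroup `M`. -/
def famSub (𝒜 : Set (Subgroup L)) (M : Subgroup L) : Set (Subgroup ↥M) :=
  {A' | A'.map M.subtype ∈ 𝒜}

theorem subgroupOf_mem_famSub {𝒜 : Set (Subgroup L)} {M A : Subgroup L} (hA : A ∈ 𝒜) (hAM : A ≤ M) :
    A.subgroupOf M ∈ famSub 𝒜 M := by
  show (A.subgroupOf M).map M.subtype ∈ 𝒜
  rw [Subgroup.map_subgroupOf_eq_of_le hAM]
  exact hA

theorem subgroupOf_map_subtype' (M : Subgroup L) (Y : Subgroup ↥M) : (Y.map M.subtype).subgroupOf M = Y := by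
  ext y
  rw [Subgroup.mem_subgroupOf]
  constructor
  · rintro ⟨y', hy', hyy⟩
    have : y' = y := Subtype.ext hyy
    rwa [← this]
  · intro hy; exact ⟨y, hy, rfl⟩

theorem le_subgroupOf_iff (M : Subgroup L) (Y : Subgroup ↥M) (X : Subgroup L) :
    Y ≤ X.subgroupOf M ↔ Y.map M.subtype ≤ X := by
  constructor
  · rintro h _ ⟨y, hy, rfl⟩
    exact Subgroup.mem_subgroupOf.mp (h hy)
  · intro h y hy
    exact Subgroup.mem_subgroupOf.mpr (h ⟨y, hy, rfl⟩)

/-- `I(Q')` for the pulled-back family. -/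
theorem iSub_famSub {𝒜 : Set (Subgroup L)} {M : Subgroup L} (h𝒜M : ∀ A ∈ 𝒜, A ≤ M) (Q' : Subgroup ↥M) :
    iSub (famSub 𝒜 M) Q' = (iSub 𝒜 (Q'.map M.subtype)).subgroupOf M := by
  ext x
  rw [Subgroup.mem_subgroupOf]
  unfold iSub
  simp only [Subgroup.mem_iInf, Set.mem_ofPred_eq]
  constructor
  · intro h A hA
    have hAM := h𝒜M A hA.1
    have h1 := h (A.subgroupOf M) ⟨subgroupOf_mem_famSub hA.1 hAM, by
      intro y hy
      obtain ⟨y', hy', hyy⟩ := hA.2 (Subgroup.mem_subgroupOf.mp hy)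
      have : y' = y := Subtype.ext hyy
      rwa [← this]⟩
    exact Subgroup.mem_subgroupOf.mp h1
  · intro h A' hA'
    have h1 := h (A'.map M.subtype) ⟨hA'.1, Subgroup.map_mono hA'.2⟩
    obtain ⟨y, hy, hyx⟩ := h1
    have : y = x := Subtype.ext hyx
    rwa [← this]

theorem iInf_famSub {𝒜 : Set (Subgroup L)} {M : Subgroup L} (h𝒜M : ∀ A ∈ 𝒜, A ≤ M) :
    (⨅ A' ∈ famSub 𝒜 M, A') = (⨅ A ∈ 𝒜, A).subgroupOf M := by
  ext x
  rw [Subgroup.mem_subgroupOf]
  simp only [Subgroup.mem_iInf]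
  constructor
  · intro h A hA
    have hAM := h𝒜M A hA
    exact Subgroup.mem_subgroupOf.mp (h (A.subgroupOf M) (subgroupOf_mem_famSub hA hAM))
  · intro h A' hA'
    obtain ⟨y, hy, hyx⟩ := h (A'.map M.subtype) hA'
    have : y = x := Subtype.ext hyx
    rwa [← this]

variable [Finite L] {p : ℕ} [Fact p.Prime]

/-- **Axiomatic Glauberman–Thompson for groups with `C_L(O_p(L)) ≤ O_p(L)`** (`p` odd). -/
theorem hasNormalPComplement_of_ax (hp : p ≠ 2) (T : Sylow p L)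
    (hc : Subgroup.centralizer (Cfsg.pCore p L : Set L) ≤ Cfsg.pCore p L)
    (𝒜 : Set (Subgroup L)) (h𝒜 : ∀ A ∈ 𝒜, A ≤ (T : Subgroup L) ∧ AbSub A) (hne : 𝒜.Nonempty)
    (hinv : ∀ Q : Subgroup L, Q ≤ (T : Subgroup L) → (∃ A ∈ 𝒜, A ≤ Q) →
      Subgroup.normalizer (Q : Set L) ≤ Subgroup.normalizer (iSub 𝒜 Q : Set L))
    (hrep : ∀ B : Subgroup L, B ≤ (T : Subgroup L) → ⁅⁅B, B⁆, B⁆ = ⊥ → (∃ A ∈ 𝒜, ⁅B, B⁆ ≤ A ∧ ¬ B ≤ A) →
      ∃ A ∈ 𝒜, ⁅B, B⁆ ≤ A ∧ ¬ B ≤ A ∧ B ≤ Subgroup.normalizer (A : Set L))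
    (hN : Cfsg.HasNormalPComplement p ↥(Subgroup.normalizer ((⨅ A ∈ 𝒜, A : Subgroup L) : Set L))) :
    Cfsg.HasNormalPComplement p L := by
  by_contra hL
  obtain ⟨M, hTM, hM, hcoatom, hcM⟩ := exists_min_sub T hc hL
  apply hM
  have h𝒜M : ∀ A ∈ 𝒜, A ≤ M := fun A hA => (h𝒜 A hA).1.trans hTM
  have hinj : Function.Injective M.subtype := M.subtype_injective
  have hq := quadHyp_of_coatom hp (T.subtype hTM) hcoatom
  have hnorm : (⨅ A' ∈ famSub 𝒜 M, A').Normal := by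
    apply iInf_normal (T.subtype hTM) (famSub 𝒜 M) ?_ ?_ ?_ ?_ hcM hq
    · -- members
      intro A' hA'
      have h1 := h𝒜 _ hA'
      rw [Sylow.coe_subtype]
      refine ⟨(le_subgroupOf_iff M A' _).mpr h1.1, ?_⟩
      intro x hx y hy
      apply Subtype.ext
      exact h1.2 x ⟨x, hx, rfl⟩ y ⟨y, hy, rfl⟩
    · obtain ⟨A₀, hA₀⟩ := hne
      exact ⟨_, subgroupOf_mem_famSub hA₀ (h𝒜M A₀ hA₀)⟩
    · -- invariance
      intro Q' hQ' hex
      rw [Sylow.coe_subtype, le_subgroupOf_iff] at hQ'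
      obtain ⟨A', hA', hA'Q⟩ := hex
      have h1 := hinv (Q'.map M.subtype) hQ' ⟨A'.map M.subtype, hA', Subgroup.map_mono hA'Q⟩
      intro g hg
      have hgL : (g : L) ∈ Subgroup.normalizer ((Q'.map M.subtype : Subgroup L) : Set L) :=
        Subgroup.le_normalizer_map M.subtype ⟨g, hg, rfl⟩
      have h2 := h1 hgL
      rw [iSub_famSub h𝒜M]
      rw [Subgroup.mem_normalizer_iff] at h2 ⊢
      intro x
      rw [Subgroup.mem_subgroupOf, Subgroup.mem_subgroupOf]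
      exact h2 (x : L)
    · -- replacement
      intro B' hB' hcl hex
      rw [Sylow.coe_subtype, le_subgroupOf_iff] at hB'
      obtain ⟨A', hA', hBBA', hBA'⟩ := hex
      have hcl' : ⁅⁅B'.map M.subtype, B'.map M.subtype⁆, B'.map M.subtype⁆ = ⊥ := by
        rw [← Subgroup.map_commutator, ← Subgroup.map_commutator, hcl, Subgroup.map_bot]
      have h1 : ⁅B'.map M.subtype, B'.map M.subtype⁆ ≤ A'.map M.subtype := by
        rw [← Subgroup.map_commutator]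
        exact Subgroup.map_mono hBBA'
      have h2 : ¬ B'.map M.subtype ≤ A'.map M.subtype := by
        rw [Subgroup.map_le_map_iff_of_injective hinj]
        exact hBA'
      obtain ⟨A₁, hA₁, hBBA₁, hBA₁, hBN⟩ := hrep _ hB' hcl' ⟨_, hA', h1, h2⟩
      have hA₁M := h𝒜M A₁ hA₁
      refine ⟨A₁.subgroupOf M, subgroupOf_mem_famSub hA₁ hA₁M, ?_, ?_, ?_⟩
      · rw [le_subgroupOf_iff, Subgroup.map_commutator]
        exact hBBA₁
      · rw [le_subgroupOf_iff]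
        exact hBA₁
      · intro g hg
        have hgL : (g : L) ∈ Subgroup.normalizer (A₁ : Set L) := hBN ⟨g, hg, rfl⟩
        rw [Subgroup.mem_normalizer_iff] at hgL ⊢
        intro x
        rw [Subgroup.mem_subgroupOf, Subgroup.mem_subgroupOf]
        exact hgL (x : L)
  rw [iInf_famSub h𝒜M] at hnorm
  obtain ⟨A₀, hA₀⟩ := hne
  have hle : M ≤ Subgroup.normalizer ((⨅ A ∈ 𝒜, A : Subgroup L) : Set L) := by
    intro m hm
    apply Subgroup.mem_normalizer_fintype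
    intro x hx
    have hWA₀ : (⨅ A ∈ 𝒜, A : Subgroup L) ≤ A₀ := iInf₂_le A₀ hA₀
    have hxM : x ∈ M := h𝒜M A₀ hA₀ (hWA₀ hx)
    have h1 : (⟨x, hxM⟩ : ↥M) ∈ (⨅ A ∈ 𝒜, A : Subgroup L).subgroupOf M := Subgroup.mem_subgroupOf.mpr hx
    have h2 := hnorm.conj_mem _ h1 ⟨m, hm⟩
    exact Subgroup.mem_subgroupOf.mp h2
  exact Cfsg.Agent.Lib.Helper12.hasNormalPComplement_of_injective (Subgroup.inclusion hle)
    (Subgroup.inclusion_injective hle) hN

end Cfsg.Agent.Lib.Helper26.RelZJ
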