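import Cfsg.Agent.Lib.Helper26.GTBridge
import Cfsg.Agent.Lib.Helper26.RelZJ6

/-!
S5272: the axiomatic Glauberman–Thompson nilpotency criterion (`p` odd).
-/

set_option autoImplicit false
set_option linter.unusedSectionVars false
set_option linter.unusedVariables false
open scoped commutatorElement

namespace Cfsg.Agent.Lib.Helper26.GT

open Cfsg Cfsg.FusionSystem Cfsg.Agent.Lib.Helper26 Cfsg.Agent.Lib.Helper27

universe u

section Push

variable {Ω : Type*} [Group Ω] {S : Subgroup Ω} {L : Type*} [Group L]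

/-- The image in `L` of (the part in `S` of) a subgroup of `Ω`. -/
def push (ι : S →* L) (A : Subgroup Ω) : Subgroup L := (A.subgroupOf S).map ι

theorem mem_push (ι : S →* L) (hι : Function.Injective ι) (A : Subgroup Ω) (s : S) :
    ι s ∈ push ι A ↔ (s : Ω) ∈ A := by
  constructor
  · rintro ⟨t, ht, hts⟩
    have := hι hts
    subst this
    exact Subgroup.mem_subgroupOf.mp ht
  · intro h
    exact ⟨s, Subgroup.mem_subgroupOf.mpr h, rfl⟩

theorem push_le_range (ι : S →* L) (A : Subgroup Ω) : push ι A ≤ ι.range := by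
  rintro _ ⟨s, -, rfl⟩
  exact ⟨s, rfl⟩

theorem push_mono (ι : S →* L) {A B : Subgroup Ω} (h : A ≤ B) : push ι A ≤ push ι B := by
  rintro _ ⟨s, hs, rfl⟩
  exact ⟨s, Subgroup.mem_subgroupOf.mpr (h (Subgroup.mem_subgroupOf.mp hs)), rfl⟩

theorem push_le_push_iff (ι : S →* L) (hι : Function.Injective ι) {A B : Subgroup Ω} (hA : A ≤ S) :
    push ι A ≤ push ι B ↔ A ≤ B := by
  constructor
  · intro h a ha
    have h1 : ι ⟨a, hA ha⟩ ∈ push ι A := (mem_push ι hι A _).mpr ha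
    exact (mem_push ι hι B _).mp (h h1)
  · exact push_mono ι

theorem subgroupOf_commutator_of_le {A B : Subgroup Ω} (hA : A ≤ S) (hB : B ≤ S) :
    (⁅A, B⁆).subgroupOf S = ⁅A.subgroupOf S, B.subgroupOf S⁆ := by
  have h1 : (⁅A.subgroupOf S, B.subgroupOf S⁆).map S.subtype = ⁅A, B⁆ := by
    rw [Subgroup.map_commutator, Subgroup.map_subgroupOf_eq_of_le hA, Subgroup.map_subgroupOf_eq_of_le hB]
  rw [← h1]
  exact Subgroup.comap_map_eq_self_of_injective S.subtype_injective _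

theorem push_commutator (ι : S →* L) {A B : Subgroup Ω} (hA : A ≤ S) (hB : B ≤ S) :
    push ι ⁅A, B⁆ = ⁅push ι A, push ι B⁆ := by
  unfold push
  rw [subgroupOf_commutator_of_le hA hB, Subgroup.map_commutator]

theorem push_pullSub (ι : S →* L) {B' : Subgroup L} (hB' : B' ≤ ι.range) : push ι (pullSub ι B') = B' := by
  unfold push pullSub
  have h1 : ((B'.comap ι).map S.subtype).subgroupOf S = B'.comap ι :=
    Subgroup.comap_map_eq_self_of_injective S.subtype_injective _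
  rw [h1, Subgroup.map_comap_eq, inf_eq_right.mpr hB']

theorem commutator_self_le (B : Subgroup Ω) : ⁅B, B⁆ ≤ B := by
  rw [Subgroup.commutator_le]
  intro a ha b hb
  exact B.mul_mem (B.mul_mem (B.mul_mem ha hb) (B.inv_mem ha)) (B.inv_mem hb)

end Push

section Ax

variable {Ω : Type u} [Group Ω] {S : Subgroup Ω} {L : Type u} [Group L]

/-- The family transported to `L`. -/
def famPush (ι : S →* L) (𝒜 : Set (Subgroup Ω)) : Set (Subgroup L) := {A' | ∃ A ∈ 𝒜, A' = push ι A}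

theorem iInf_famPush (ι : S →* L) (hι : Function.Injective ι) {𝒜 : Set (Subgroup Ω)} (h𝒜 : ∀ A ∈ 𝒜, A ≤ S)
    (hne : 𝒜.Nonempty) : (⨅ A' ∈ famPush ι 𝒜, A') = push ι (⨅ A ∈ 𝒜, A) := by
  obtain ⟨A₀, hA₀⟩ := hne
  ext y
  simp only [Subgroup.mem_iInf]
  constructor
  · intro h
    have h0 := h (push ι A₀) ⟨A₀, hA₀, rfl⟩
    obtain ⟨s, -, rfl⟩ := h0
    rw [mem_push ι hι]
    simp only [Subgroup.mem_iInf]
    intro A hA
    exact (mem_push ι hι A s).mp (h (push ι A) ⟨A, hA, rfl⟩)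
  · rintro ⟨s, hs, rfl⟩ A' ⟨A, hA, rfl⟩
    rw [mem_push ι hι]
    have : (⨅ A ∈ 𝒜, A : Subgroup Ω) ≤ A := iInf₂_le A hA
    exact this (Subgroup.mem_subgroupOf.mp hs)

/-- S5272. -/
theorem inner_iff_normalizer_ax_inner [Finite ↥S] {p : ℕ} [Fact p.Prime] (hp2 : p ≠ 2) (hS : IsPGroup p S)
    (F : FusionSystem S) (hF : F.IsSaturated p) (𝒜 : Set (Subgroup Ω))
    (h𝒜 : ∀ A ∈ 𝒜, A ≤ S ∧ IsMulCommutative ↥A) (hne : 𝒜.Nonempty)
    (hinv : ∀ Q : Subgroup Ω, Q ≤ S → (∃ A ∈ 𝒜, A ≤ Q) → ∀ α ∈ F.autGroup Q, ∀ x : ↥Q,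
      (x : Ω) ∈ (⨅ A ∈ {A : Subgroup Ω | A ∈ 𝒜 ∧ A ≤ Q}, A) →
      (((α : MulAut ↥Q) x : ↥Q) : Ω) ∈ (⨅ A ∈ {A : Subgroup Ω | A ∈ 𝒜 ∧ A ≤ Q}, A))
    (hrep : ∀ B : Subgroup Ω, B ≤ S → ⁅⁅B, B⁆, B⁆ = ⊥ → (∃ A ∈ 𝒜, ⁅B, B⁆ ≤ A ∧ ¬ B ≤ A) →
      ∃ A ∈ 𝒜, ⁅B, B⁆ ≤ A ∧ ¬ B ≤ A ∧ B ≤ Subgroup.normalizer (A : Set Ω)) :
    (∀ P : Subgroup Ω, F.Hom P = (innerFusionSystem S).Hom P) ↔
      ∀ N : FusionSystem (normalizerIn S (⨅ A ∈ 𝒜, A)), F.IsNormalizerSystem (⨅ A ∈ 𝒜, A) N →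
        ∀ P : Subgroup Ω, N.Hom P = (innerFusionSystem (normalizerIn S (⨅ A ∈ 𝒜, A))).Hom P := by
  obtain ⟨A₀, hA₀⟩ := hne
  have hUA : ∀ A ∈ 𝒜, (⨅ A ∈ 𝒜, A : Subgroup Ω) ≤ A := fun A hA => iInf₂_le A hA
  have hUS : (⨅ A ∈ 𝒜, A : Subgroup Ω) ≤ S := (hUA A₀ hA₀).trans (h𝒜 A₀ hA₀).1
  have hIS : (⨅ A ∈ {A : Subgroup Ω | A ∈ 𝒜 ∧ A ≤ S}, A) = ⨅ A ∈ 𝒜, A :=
    le_antisymm (le_iInf₂ fun A hA => iInf₂_le A ⟨hA, (h𝒜 A hA).1⟩) (le_iInf₂ fun A hA => iInf₂_le A hA.1)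
  have hNS : normalizerIn S (⨅ A ∈ 𝒜, A) = S := by
    apply normalizerIn_eq_of_le_normalizer
    intro s hs
    have hsN : s ∈ Subgroup.normalizer (S : Set Ω) := Subgroup.le_normalizer hs
    have hα : S.normalizerMonoidHom ⟨s, hsN⟩ ∈ F.autGroup S :=
      autInducedBy_le_autGroup F le_rfl (normalizerMonoidHom_mem_autInducedBy hs hsN)
    have hfinU : Finite ↥(⨅ A ∈ 𝒜, A : Subgroup Ω) := finite_of_le hUS
    apply Subgroup.mem_normalizer_fintype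
    intro x hx
    have := hinv S le_rfl ⟨A₀, hA₀, (h𝒜 A₀ hA₀).1⟩ _ hα ⟨x, hUS hx⟩ (by rw [hIS]; exact hx)
    rw [hIS] at this
    exact this
  constructor
  · intro hinner N hN P
    apply Set.Subset.antisymm
    · intro φ hφ
      rw [hN P] at hφ
      obtain ⟨hφF, hPN, -, -⟩ := hφ
      rw [hinner P] at hφF
      obtain ⟨-, g, hg, hgφ⟩ := hφF
      exact ⟨hPN, g, hNS.symm ▸ hg, hgφ⟩
    · exact inner_hom_subset N P
  · intro h
    by_contra hne'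
    have hnb : ¬ Bad F p (⨅ A ∈ 𝒜, A) := fun hbad =>
      not_inner_of_bad hS F hbad _ (normalizerSystem_isNormalizerSystem F _ hUS)
        (h _ (normalizerSystem_isNormalizerSystem F _ hUS))
    obtain ⟨L, _, _, ι, E, T, hEF, hreal, hT, hC, hL, hall⟩ := exists_model_of_not_inner hp2 hS F hF hne'
    have hι := hreal.1
    have hN := hall _ hUS hNS hnb
    have h𝒜S : ∀ A ∈ 𝒜, A ≤ S := fun A hA => (h𝒜 A hA).1
    change HasNormalPComplement p ↥(Subgroup.normalizer ((push ι (⨅ A ∈ 𝒜, A) : Subgroup L) : Set L)) at hN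
    rw [← iInf_famPush ι hι h𝒜S ⟨A₀, hA₀⟩] at hN
    apply hL
    apply RelZJ.hasNormalPComplement_of_ax hp2 T hC (famPush ι 𝒜) ?_ ⟨_, A₀, hA₀, rfl⟩ ?_ ?_ hN
    · -- members
      rintro A' ⟨A, hA, rfl⟩
      refine ⟨by rw [hT]; exact push_le_range ι A, ?_⟩
      rintro _ ⟨a, ha, rfl⟩ _ ⟨b, hb, rfl⟩
      have hc := (h𝒜 A hA).2
      have h1 : (⟨a, Subgroup.mem_subgroupOf.mp ha⟩ : ↥A) * ⟨b, Subgroup.mem_subgroupOf.mp hb⟩ =
          ⟨b, Subgroup.mem_subgroupOf.mp hb⟩ * ⟨a, Subgroup.mem_subgroupOf.mp ha⟩ := mul_comm' _ _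
      have h2 : (a : Ω) * b = b * a := congrArg Subtype.val h1
      have h3 : a * b = b * a := Subtype.ext h2
      rw [← map_mul, ← map_mul, h3]
    · -- invariance
      intro Q' hQ' hex g hg
      rw [hT] at hQ'
      obtain ⟨A', ⟨A₁, hA₁, rfl⟩, hA₁Q⟩ := hex
      obtain ⟨α, hαE, hαy, -⟩ := exists_aut_of_normalizer E ι hreal hQ' hg
      have hαF : α ∈ F.autGroup (pullSub ι Q') := autGroup_le_of_subsystem E F hEF (pullSub_le ι Q') hαE
      have hmemQ : ∀ A ∈ 𝒜, push ι A ≤ Q' → A ≤ pullSub ι Q' := by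
        intro A hA hAQ a ha
        have haS := h𝒜S A hA ha
        exact (mem_pullSub ι Q' ⟨a, haS⟩).mpr (hAQ ((mem_push ι hι A ⟨a, haS⟩).mpr ha))
      have hmemQ' : ∀ A ∈ 𝒜, A ≤ pullSub ι Q' → push ι A ≤ Q' := by
        rintro A hA hAQ _ ⟨a, ha, rfl⟩
        exact (mem_pullSub ι Q' a).mp (hAQ (Subgroup.mem_subgroupOf.mp ha))
      have hinvQ := hinv (pullSub ι Q') (pullSub_le ι Q') ⟨A₁, hA₁, hmemQ A₁ hA₁ hA₁Q⟩ α hαF
      apply Subgroup.mem_normalizer_fintype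
      intro y hy
      rw [SetLike.mem_coe] at hy ⊢
      unfold RelZJ.iSub at hy ⊢
      simp only [Subgroup.mem_iInf] at hy ⊢
      have hy1 := hy (push ι A₁) ⟨⟨A₁, hA₁, rfl⟩, hA₁Q⟩
      obtain ⟨s, hs, rfl⟩ := hy1
      have hsQ : (s : Ω) ∈ pullSub ι Q' := hmemQ A₁ hA₁ hA₁Q (Subgroup.mem_subgroupOf.mp hs)
      have hx : ((⟨s, hsQ⟩ : ↥(pullSub ι Q')) : Ω) ∈
          (⨅ A ∈ {A : Subgroup Ω | A ∈ 𝒜 ∧ A ≤ pullSub ι Q'}, A) := by
        simp only [Subgroup.mem_iInf]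
        intro A hA
        exact (mem_push ι hι A s).mp (hy (push ι A) ⟨⟨A, hA.1, rfl⟩, hmemQ' A hA.1 hA.2⟩)
      have h1 := hinvQ ⟨s, hsQ⟩ hx
      simp only [Subgroup.mem_iInf] at h1
      have h2 := hαy ⟨s, hsQ⟩
      rintro A'' ⟨⟨A, hA, rfl⟩, hAQ⟩
      have h3 : ι ⟨(s : Ω), pullSub_le ι Q' hsQ⟩ = ι s := rfl
      rw [h3] at h2
      rw [← h2, mem_push ι hι]
      exact h1 A ⟨hA, hmemQ A hA hAQ⟩
    · -- replacement
      intro B' hB' hcl hex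
      rw [hT] at hB'
      obtain ⟨A', ⟨A, hA, rfl⟩, hBBA, hBA⟩ := hex
      have hBS : pullSub ι B' ≤ S := pullSub_le ι B'
      have hBB' : push ι (pullSub ι B') = B' := push_pullSub ι hB'
      have hBBS : ⁅pullSub ι B', pullSub ι B'⁆ ≤ S := (commutator_self_le _).trans hBS
      have hcl' : ⁅⁅pullSub ι B', pullSub ι B'⁆, pullSub ι B'⁆ = ⊥ := by
        have h1 : push ι ⁅⁅pullSub ι B', pullSub ι B'⁆, pullSub ι B'⁆ = ⊥ := by
          rw [push_commutator ι hBBS hBS, push_commutator ι hBS hBS, hBB', hcl]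
        have h2 : push ι ⁅⁅pullSub ι B', pullSub ι B'⁆, pullSub ι B'⁆ ≤ push ι ⊥ := by
          rw [h1]; exact bot_le
        have hle : ⁅⁅pullSub ι B', pullSub ι B'⁆, pullSub ι B'⁆ ≤ S :=
          (Subgroup.commutator_le.mpr (fun a ha b hb =>
            S.mul_mem (S.mul_mem (S.mul_mem (hBBS ha) (hBS hb)) (S.inv_mem (hBBS ha))) (S.inv_mem (hBS hb))))
        exact le_bot_iff.mp ((push_le_push_iff ι hι hle).mp h2)
      have h1 : ⁅pullSub ι B', pullSub ι B'⁆ ≤ A := by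
        rw [← push_le_push_iff ι hι hBBS, push_commutator ι hBS hBS, hBB']
        exact hBBA
      have h2 : ¬ pullSub ι B' ≤ A := by
        rw [← push_le_push_iff ι hι hBS, hBB']
        exact hBA
      obtain ⟨A₁, hA₁, hBBA₁, hBA₁, hBN⟩ := hrep _ hBS hcl' ⟨A, hA, h1, h2⟩
      refine ⟨push ι A₁, ⟨A₁, hA₁, rfl⟩, ?_, ?_, ?_⟩
      · rw [← hBB', ← push_commutator ι hBS hBS]
        exact push_mono ι hBBA₁
      · rw [← hBB', push_le_push_iff ι hι hBS]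
        exact hBA₁
      · intro b' hb'
        rw [← hBB'] at hb'
        obtain ⟨b, hb, rfl⟩ := hb'
        apply Subgroup.mem_normalizer_fintype
        rintro _ ⟨a, ha, rfl⟩
        have hbN := hBN (Subgroup.mem_subgroupOf.mp hb)
        have h3 : (b : Ω) * a * (b : Ω)⁻¹ ∈ A₁ :=
          (Subgroup.mem_normalizer_iff.mp hbN _).mp (Subgroup.mem_subgroupOf.mp ha)
        rw [← map_inv, ← map_mul, ← map_mul]
        exact (mem_push ι hι A₁ _).mpr h3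

end Ax

end Cfsg.Agent.Lib.Helper26.GT
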