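import Cfsg.Agent.Lib.Helper26.GT8

/-!
Bridge from fusion systems to groups (`p` odd): a saturated system that is not inner contains a subsystem over `S`
realized by a finite group `L` with `C_L(O_p(L)) ≤ O_p(L)` and without normal `p`-complement; for every subgroup `U`
normal in `S` that is not bad, `N_L(U)` has a normal `p`-complement.
-/

set_option autoImplicit false
set_option linter.unusedSectionVars false
set_option linter.unusedVariables false

namespace Cfsg.Agent.Lib.Helper26.GT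

open Cfsg Cfsg.FusionSystem Cfsg.Agent.Lib.Helper26

universe u

section Bridge

variable {Ω : Type u} [Group Ω] {S : Subgroup Ω} {L : Type u} [Group L]

/-- In a realized system where `U` (normal in `S`) is not bad, `p'`-elements normalizing a subgroup `Q` of the image of `S`
and the image of `U` centralize `Q`. -/
theorem centralizes_of_not_bad' [Finite ↥S] {p : ℕ} [Fact p.Prime] (F : FusionSystem S)
    (ι : S →* L) (hreal : F.IsRealizedBy ι) {U : Subgroup Ω} (hUS : U ≤ S) (hnb : ¬ Bad F p U)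
    (hNS : normalizerIn S U = S)
    {Q : Subgroup L} (hQ : Q ≤ ι.range) {g : L} (hgQ : g ∈ Subgroup.normalizer (Q : Set L))
    (hgZ : g ∈ Subgroup.normalizer (((U.subgroupOf S).map ι : Subgroup L) : Set L)) (hcop : (orderOf g).Coprime p) :
    ∀ x ∈ Q, x * g = g * x := by
  have hι := hreal.1
  have hZr : (U.subgroupOf S).map ι ≤ ι.range := by
    rintro _ ⟨s, -, rfl⟩
    exact ⟨s, rfl⟩
  have hY : Q ⊔ (U.subgroupOf S).map ι ≤ ι.range := sup_le hQ hZr
  have hgY : g ∈ Subgroup.normalizer ((Q ⊔ (U.subgroupOf S).map ι : Subgroup L) : Set L) :=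
    Subgroup.normalizer_inf_normalizer_le_normalizer_sup _ _ ⟨hgQ, hgZ⟩
  obtain ⟨α, hαF, hαy, hαo⟩ := exists_aut_of_normalizer F ι hreal hY hgY
  have hαcop : (orderOf α).Coprime p := hcop.coprime_dvd_left hαo
  have hα1 : α = 1 := by
    by_contra hne
    apply hnb
    refine ⟨pullSub ι (Q ⊔ (U.subgroupOf S).map ι), α, ?_, ?_, hαF, ?_, hne, hαcop⟩
    · intro u hu
      have h1 : ι ⟨u, hUS hu⟩ ∈ (U.subgroupOf S).map ι :=
        Subgroup.mem_map_of_mem _ (Subgroup.mem_subgroupOf.mpr hu)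
      exact (mem_pullSub ι _ ⟨u, hUS hu⟩).mpr (Subgroup.mem_sup_right h1)
    · rw [hNS]
      exact pullSub_le ι _
    · intro y hy
      have hyS := pullSub_le ι _ y.2
      have h1 : ι ⟨y, hyS⟩ ∈ (U.subgroupOf S).map ι :=
        Subgroup.mem_map_of_mem _ (Subgroup.mem_subgroupOf.mpr hy)
      have h2 : g * ι ⟨y, hyS⟩ * g⁻¹ ∈ (U.subgroupOf S).map ι :=
        (Subgroup.mem_normalizer_iff.mp hgZ _).mp h1
      rw [← hαy y] at h2
      obtain ⟨s, hs, hs'⟩ := h2
      have h3 := hι hs'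
      have h4 : (s : Ω) = ((α y : ↥(pullSub ι _)) : Ω) := congrArg Subtype.val h3
      rw [← h4]
      exact Subgroup.mem_subgroupOf.mp hs
  intro x hx
  have hxY : x ∈ Q ⊔ (U.subgroupOf S).map ι := Subgroup.mem_sup_left hx
  obtain ⟨s, hs⟩ := hY hxY
  have hsY : (s : Ω) ∈ pullSub ι (Q ⊔ (U.subgroupOf S).map ι) :=
    (mem_pullSub ι _ s).mpr (hs ▸ hxY)
  have h1 := hαy ⟨s, hsY⟩
  rw [hα1] at h1
  have h2 : ι s = g * ι s * g⁻¹ := h1
  rw [hs] at h2
  calc x * g = (g * x * g⁻¹) * g := by rw [← h2]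
    _ = g * x := by group

/-- In a realized system (image of `S` a Sylow `p`-subgroup) where `U` (normal in `S`) is not bad, `N_L(U)` has a normal
`p`-complement. -/
theorem hasNormalPComplement_normalizer_of_not_bad [Finite ↥S] [Finite L] {p : ℕ} [Fact p.Prime] (F : FusionSystem S)
    (ι : S →* L) (hreal : F.IsRealizedBy ι) (T : Sylow p L) (hT : (T : Subgroup L) = ι.range)
    {U : Subgroup Ω} (hUS : U ≤ S) (hnb : ¬ Bad F p U) (hNS : normalizerIn S U = S) :
    HasNormalPComplement p ↥(Subgroup.normalizer (((U.subgroupOf S).map ι : Subgroup L) : Set L)) := by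
  have hι := hreal.1
  have hTN : (T : Subgroup L) ≤ Subgroup.normalizer (((U.subgroupOf S).map ι : Subgroup L) : Set L) := by
    rw [hT]
    rintro _ ⟨s, rfl⟩
    apply Subgroup.mem_normalizer_iff.mpr
    have key : ∀ t : ↥S, ∀ h, h ∈ (U.subgroupOf S).map ι → ι t * h * (ι t)⁻¹ ∈ (U.subgroupOf S).map ι := by
      rintro t _ ⟨u, hu, rfl⟩
      refine ⟨t * u * t⁻¹, ?_, by simp⟩
      rw [SetLike.mem_coe, Subgroup.mem_subgroupOf] at hu ⊢
      have htN : (t : Ω) ∈ normalizerIn S U := by rw [hNS]; exact t.2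
      exact (Subgroup.mem_normalizer_iff.mp htN.2 _).mp hu
    intro h
    constructor
    · exact key s h
    · intro hh
      have := key s⁻¹ _ hh
      simpa [mul_assoc] using this
  rw [Cfsg.Agent.Lib.Helper12.hasNormalPComplement_iff_frobCond]
  apply Cfsg.Agent.Lib.Helper29.frobCond_of_sylow (T.subtype hTN)
  intro Q' hQ' g hg hcop
  have hQ''r : Q'.map (Subgroup.subtype _) ≤ ι.range := by
    rw [← hT]
    rintro _ ⟨x, hx, rfl⟩
    exact Subgroup.mem_subgroupOf.mp (hQ' hx)
  have hg1 : (g : L) ∈ Subgroup.normalizer ((Q'.map (Subgroup.subtype _) : Subgroup L) : Set L) :=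
    Subgroup.le_normalizer_map (Subgroup.subtype _) ⟨g, hg, rfl⟩
  have hcop' : (orderOf (g : L)).Coprime p := by rw [Subgroup.orderOf_coe]; exact hcop
  have key := centralizes_of_not_bad' F ι hreal hUS hnb hNS hQ''r hg1 g.2 hcop'
  rw [Subgroup.mem_centralizer_iff]
  intro x hx
  apply Subtype.ext
  exact key x ⟨x, hx, rfl⟩

/-- A system with a model that has a normal `p`-complement is inner. -/
theorem inner_of_model_of_hasNormalPComplement [Finite ↥S] {p : ℕ} [Fact p.Prime] (hS : IsPGroup p S)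
    (F : FusionSystem S) (ι : S →* L) (hM : F.IsModel p L ι) (hL : HasNormalPComplement p L) :
    ∀ P : Subgroup Ω, F.Hom P = (innerFusionSystem S).Hom P := by
  obtain ⟨hfinL, hreal, ⟨T, hT⟩, hC⟩ := hM
  have hι := hreal.1
  have hLtop : IsPGroup p ↥(⊤ : Subgroup L) :=
    Cfsg.Agent.Lib.Helper12.isPGroup_of_hasNormalPComplement_of_centralizer_le (pCore p L)
      Cfsg.Agent.Lib.Helper16.pCore_isPGroup hC ⊤ le_top
      (Cfsg.Agent.Lib.Helper12.hasNormalPComplement_subgroup hL ⊤)
  have hTtop : (⊤ : Subgroup L) = T := T.is_maximal' hLtop le_top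
  intro P
  apply Set.Subset.antisymm
  · intro φ hφ
    have hP : P ≤ S := hom_le F hφ
    have hφS : ∀ x : ↥P, φ x ∈ S := fun x => hom_apply_mem F hφ x
    obtain ⟨g, hg⟩ := (hreal.2 P hP φ hφS).mp hφ
    have hgr : g ∈ ι.range := by rw [← hT, ← hTtop]; exact Subgroup.mem_top g
    obtain ⟨s, rfl⟩ := hgr
    refine ⟨hP, s, s.2, fun x => ?_⟩
    have h1 := hg x
    rw [← map_inv, ← map_mul, ← map_mul] at h1
    exact congrArg Subtype.val (hι h1)
  · exact inner_hom_subset F P

/-- **The bridge**. -/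
theorem exists_model_of_not_inner [Finite ↥S] {p : ℕ} [Fact p.Prime] (hp2 : p ≠ 2) (hS : IsPGroup p S)
    (F : FusionSystem S) (hF : F.IsSaturated p)
    (hne : ¬ ∀ P : Subgroup Ω, F.Hom P = (innerFusionSystem S).Hom P) :
    ∃ (L : Type u) (_ : Group L) (_ : Finite L) (ι : S →* L) (E : FusionSystem S) (T : Sylow p L),
      E ≤ F ∧ E.IsRealizedBy ι ∧ (T : Subgroup L) = ι.range ∧
      Subgroup.centralizer ((pCore p L : Subgroup L) : Set L) ≤ pCore p L ∧
      ¬ HasNormalPComplement p L ∧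
      ∀ U : Subgroup Ω, U ≤ S → normalizerIn S U = S → ¬ Bad F p U →
        HasNormalPComplement p ↥(Subgroup.normalizer (((U.subgroupOf S).map ι : Subgroup L) : Set L)) := by
  obtain ⟨E, hEF, hEc, hEne⟩ := exists_constrained_not_inner hp2 hS F hF hne
  obtain ⟨Q, hfinQ, h, hmodel⟩ := Cfsg.Agent.Lib.Helper26.ModelThm.exists_model hS E hEc
  have hmodel' := hmodel
  obtain ⟨hfinL, hreal, ⟨T, hT⟩, hC⟩ := hmodel
  refine ⟨_, _, hfinL, _, E, T, hEF, hreal, hT, hC, ?_, ?_⟩
  · intro hL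
    exact hEne (inner_of_model_of_hasNormalPComplement hS E _ hmodel' hL)
  · intro U hUS hNS hnb
    have hnbE : ¬ Bad E p U := fun hb => hnb (Bad.of_subsystem le_rfl hEF hb)
    exact hasNormalPComplement_normalizer_of_not_bad E _ hreal T hT hUS hnbE hNS

end Bridge

end Cfsg.Agent.Lib.Helper26.GT
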