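import Cfsg.Agent.Lib.Helper26.GTBridge
import Cfsg.Agent.Lib.Helper26.RelZJ5
import Cfsg.Agent.Lib.Helper27.FMConj

/-!
S5275: Glauberman–Thompson nilpotency relative to a strongly closed subgroup (`p` odd).
-/

set_option autoImplicit false
set_option linter.unusedSectionVars false
set_option linter.unusedVariables false

namespace Cfsg.Agent.Lib.Helper26.GT

open Cfsg Cfsg.FusionSystem Cfsg.Agent.Lib.Helper26 Cfsg.Agent.Lib.Helper27 Cfsg.Agent.Lib.Helper27.FM

universe u

section Rel

variable {Ω : Type u} [Group Ω] {S : Subgroup Ω} {L : Type u} [Group L]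

/-- A subgroup strongly closed in a realized system has strongly closed image. -/
theorem scl_of_stronglyClosed (E : FusionSystem S) (ι : S →* L) (hreal : E.IsRealizedBy ι) {T : Subgroup L}
    (hT : T = ι.range) {D : Subgroup Ω} (hD : E.StronglyClosed D) :
    RelZJ.SCl T ((D.subgroupOf S).map ι) := by
  have hι := hreal.1
  constructor
  · rw [hT]
    rintro _ ⟨s, -, rfl⟩
    exact ⟨s, rfl⟩
  · rintro _ ⟨d, hd, rfl⟩ g hg
    rw [hT] at hg
    rw [SetLike.mem_coe, Subgroup.mem_subgroupOf] at hd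
    have hdR : (d : Ω) ∈ D ⊓ conjRangeSub ι g := by
      refine ⟨hd, d.2, ?_⟩
      rw [ext1_coe]
      exact hg
    obtain ⟨ψ, ⟨φ, hφ, hφψ⟩, hspec⟩ := exists_isFM_of_conj hreal (R := D ⊓ conjRangeSub ι g) g inf_le_right
    obtain ⟨hψS, hψ⟩ := hspec _ hdR
    have h1 : φ ⟨d, hdR⟩ ∈ D := hD.2 _ inf_le_left φ hφ ⟨d, hdR⟩
    rw [hφψ] at h1
    rw [ext1_coe, ext1_apply ι hψS] at hψ
    rw [← hψ]
    exact Subgroup.mem_map_of_mem _ (Subgroup.mem_subgroupOf.mpr h1)

/-- `Z(J)` of the image of a subgroup of `S` under an injective homomorphism. -/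
theorem zj_map_subgroupOf [Finite ↥S] {p : ℕ} [Fact p.Prime] (hS : IsPGroup p S) (ι : ↥S →* L)
    (hι : Function.Injective ι) {D : Subgroup Ω} (hDS : D ≤ S) :
    centerThompsonAOf ((D.subgroupOf S).map ι) = ((centerThompsonAOf D).subgroupOf S).map ι := by
  have hDp : IsPGroup p (D.subgroupOf S) := (hS.to_le hDS).comap_of_injective _ (Subgroup.subtype_injective _)
  have h1 := centerThompsonAOf_map_of_injOn (p := p) ι (D.subgroupOf S) hDp
    (fun x _ hx => hι (by rw [hx, map_one]))
  have h2 := centerThompsonAOf_map_of_injOn (p := p) S.subtype (D.subgroupOf S) hDp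
    (fun x _ hx => S.subtype_injective (by rw [hx, map_one]))
  rw [Subgroup.map_subgroupOf_eq_of_le hDS] at h2
  rw [h1, h2]
  congr 1
  ext x
  rw [Subgroup.mem_subgroupOf]
  constructor
  · intro hx; exact ⟨x, hx, rfl⟩
  · rintro ⟨y, hy, hyx⟩
    have : y = x := Subtype.ext hyx
    rwa [← this]

/-- S5275. -/
theorem inner_iff_normalizer_zj_rel_inner [Finite ↥S] {p : ℕ} [Fact p.Prime] (hp2 : p ≠ 2) (hS : IsPGroup p S)
    (F : FusionSystem S) (hF : F.IsSaturated p) (D : Subgroup Ω) (hD : F.StronglyClosed D) :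
    (∀ P : Subgroup Ω, F.Hom P = (innerFusionSystem S).Hom P) ↔
      ∀ N : FusionSystem (normalizerIn S (centerThompsonAOf D)), F.IsNormalizerSystem (centerThompsonAOf D) N →
        ∀ P : Subgroup Ω, N.Hom P = (innerFusionSystem (normalizerIn S (centerThompsonAOf D))).Hom P := by
  have hDS : D ≤ S := hD.1
  have hUS : centerThompsonAOf D ≤ S := (zj_le D).trans hDS
  have hNS : normalizerIn S (centerThompsonAOf D) = S :=
    normalizerIn_eq_of_le_normalizer ((le_normalizer_of_stronglyClosed F hD).trans (zj_normalizer_le D))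
  constructor
  · intro hinner N hN P
    apply Set.Subset.antisymm
    · intro φ hφ
      rw [hN P] at hφ
      obtain ⟨hφF, hPN, -, -⟩ := hφ
      rw [hinner P] at hφF
      obtain ⟨-, g, hg, hgφ⟩ := hφF
      exact ⟨hPN, g, hNS.symm ▸ hg, hgφ⟩
    · exact inner_hom_subset N P
  · intro h
    by_contra hne
    have hnb : ¬ Bad F p (centerThompsonAOf D) := fun hbad =>
      not_inner_of_bad hS F hbad _ (normalizerSystem_isNormalizerSystem F _ hUS)
        (h _ (normalizerSystem_isNormalizerSystem F _ hUS))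
    obtain ⟨L, _, _, ι, E, T, hEF, hreal, hT, hC, hL, hall⟩ := exists_model_of_not_inner hp2 hS F hF hne
    have hN := hall _ hUS hNS hnb
    have hDE : E.StronglyClosed D := ⟨hDS, fun R hR φ hφ x => hD.2 R hR φ (hEF R hφ) x⟩
    have hscl := scl_of_stronglyClosed E ι hreal hT hDE
    rw [← zj_map_subgroupOf hS ι hreal.1 hDS] at hN
    exact hL (RelZJ.hasNormalPComplement_of_rel hp2 T hC _ hscl hN)

end Rel

end Cfsg.Agent.Lib.Helper26.GT
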