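import Mathlib
import Cfsg.Agent.Lib.Helper16.PCore

/-!
S5105 (group-theoretic core): an automorphism of a finite group `G` with `C_G(O_p(G)) ≤ O_p(G)` which is the identity
on a Sylow `p`-subgroup `T` is conjugation by an element of `Z(T)`.
-/

set_option autoImplicit false

namespace Cfsg.Agent.Lib.Helper26

open Cfsg
open scoped IsMulCommutative

section Cocycle

variable {G : Type*} [Group G]

/-- A `1`-cocycle with values in an abelian normal `p`-subgroup which vanishes on a Sylow `p`-subgroup is a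
coboundary. -/
theorem cocycle_coboundary [Finite G] {p : ℕ} [Fact p.Prime] (T : Sylow p G) (A : Subgroup G) [hAn : A.Normal]
    (hAcomm : ∀ a ∈ A, ∀ b ∈ A, a * b = b * a) (hAp : IsPGroup p A) (c : G → G) (hcA : ∀ g, c g ∈ A)
    (hcoc : ∀ g h, c (g * h) = h⁻¹ * c g * h * c h) (hcT : ∀ s ∈ (T : Subgroup G), c s = 1) :
    ∃ u ∈ A, ∀ h, c h = h⁻¹ * u⁻¹ * h * u := by
  have : IsMulCommutative ↥A := ⟨⟨fun a b => Subtype.ext (hAcomm a a.2 b b.2)⟩⟩
  have hfin : Fintype (G ⧸ (T : Subgroup G)) := Fintype.ofFinite _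
  -- the cocycle with values in `A`
  let c' : G → A := fun g => ⟨c g, hcA g⟩
  let conjA : G → (A →* A) := fun h =>
    { toFun := fun a => ⟨h⁻¹ * a * h, by
        have := hAn.conj_mem a a.2 h⁻¹
        rwa [inv_inv] at this⟩
      map_one' := by apply Subtype.ext; simp
      map_mul' := by intro a b; apply Subtype.ext; simp [mul_assoc] }
  have hconjA : ∀ h (a : A), ((conjA h a : A) : G) = h⁻¹ * a * h := fun h a => rfl
  have hcoc' : ∀ g h, c' (g * h) = conjA h (c' g) * c' h := by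
    intro g h
    apply Subtype.ext
    show c (g * h) = h⁻¹ * c g * h * c h
    exact hcoc g h
  have hc1 : c 1 = 1 := hcT 1 (Subgroup.one_mem _)
  have hcTleft : ∀ s ∈ (T : Subgroup G), ∀ g, c (s * g) = c g := by
    intro s hs g
    rw [hcoc, hcT s hs]
    group
  -- the function on cosets
  let d : G → A := fun g => c' g⁻¹
  have hd : ∀ g, ∀ s ∈ (T : Subgroup G), d (g * s) = d g := by
    intro g s hs
    apply Subtype.ext
    show c (g * s)⁻¹ = c g⁻¹
    rw [mul_inv_rev]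
    exact hcTleft s⁻¹ (Subgroup.inv_mem _ hs) g⁻¹
  let D : G ⧸ (T : Subgroup G) → A := fun q => d q.out
  have hD : ∀ g : G, D (QuotientGroup.mk g) = d g := by
    intro g
    obtain ⟨s, hs⟩ := QuotientGroup.mk_out_eq_mul (T : Subgroup G) g
    show d (Quotient.out (QuotientGroup.mk g : G ⧸ (T : Subgroup G))) = d g
    rw [hs]
    exact hd g s s.2
  set w : A := ∏ q : G ⧸ (T : Subgroup G), D q with hw
  set m := Fintype.card (G ⧸ (T : Subgroup G)) with hm
  have hkey : ∀ h : G, w = conjA h w * (c' h) ^ m := by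
    intro h
    have h1 : w = ∏ q : G ⧸ (T : Subgroup G), D (h⁻¹ • q) := by
      rw [hw]
      exact (Equiv.prod_comp (MulAction.toPerm h⁻¹ : Equiv.Perm (G ⧸ (T : Subgroup G))) D).symm
    have h2 : ∀ q : G ⧸ (T : Subgroup G), D (h⁻¹ • q) = conjA h (D q) * c' h := by
      intro q
      obtain ⟨g, rfl⟩ := QuotientGroup.mk_surjective q
      have e : h⁻¹ • (QuotientGroup.mk g : G ⧸ (T : Subgroup G)) = QuotientGroup.mk (h⁻¹ * g) := rfl
      rw [e, hD, hD]
      show c' (h⁻¹ * g)⁻¹ = conjA h (c' g⁻¹) * c' h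
      rw [mul_inv_rev, inv_inv]
      exact hcoc' g⁻¹ h
    calc w = ∏ q : G ⧸ (T : Subgroup G), D (h⁻¹ • q) := h1
      _ = ∏ q : G ⧸ (T : Subgroup G), (conjA h (D q) * c' h) := by simp only [h2]
      _ = conjA h w * (c' h) ^ m := by
        rw [Finset.prod_mul_distrib, ← map_prod, Finset.prod_const, Finset.card_univ]
  have hmp : ¬ p ∣ m := by
    have := T.not_dvd_index
    rw [Subgroup.index, Nat.card_eq_fintype_card] at this
    convert this
  -- the `m`-th root of `w`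
  let e := hAp.powEquiv' hmp
  have he : ∀ a : A, e a = a ^ m := fun a => rfl
  obtain ⟨u, hu⟩ := e.surjective w
  rw [he] at hu
  refine ⟨u, u.2, fun h => ?_⟩
  have h1 := hkey h
  rw [← hu, map_pow, ← mul_pow] at h1
  have h2 : u = conjA h u * c' h := e.injective (by rw [he, he]; exact h1)
  have h3 : (u : G) = h⁻¹ * u * h * c h := by
    have := congrArg Subtype.val h2
    exact this
  calc c h = (h⁻¹ * u * h)⁻¹ * (h⁻¹ * u * h * c h) := by group
    _ = (h⁻¹ * u * h)⁻¹ * u := by rw [← h3]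
    _ = h⁻¹ * (u : G)⁻¹ * h * u := by group

end Cocycle

section Main

variable {G : Type*} [Group G]

theorem aut_eq_conj_of_fix_sylow [Finite G] (p : ℕ) [Fact p.Prime] (T : Sylow p G)
    (hG : Subgroup.centralizer ((pCore p G : Subgroup G) : Set G) ≤ pCore p G) (ψ : G ≃* G)
    (hψ : ∀ x ∈ (T : Subgroup G), ψ x = x) :
    ∃ z ∈ (T : Subgroup G), (∀ x ∈ (T : Subgroup G), z * x = x * z) ∧ ∀ g : G, ψ g = z * g * z⁻¹ := by
  have hQT : pCore p G ≤ T := Cfsg.Agent.Lib.Helper16.pCore_le_sylow T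
  have hQn : (pCore p G).Normal := inferInstance
  have hQp : IsPGroup p (pCore p G) := Cfsg.Agent.Lib.Helper16.pCore_isPGroup
  -- `A = Z(Q)`
  let A : Subgroup G := Subgroup.centralizer ((pCore p G : Subgroup G) : Set G) ⊓ pCore p G
  have hAn : A.Normal := by
    constructor
    intro a ha g
    refine ⟨?_, hQn.conj_mem a ha.2 g⟩
    show g * a * g⁻¹ ∈ Subgroup.centralizer ((pCore p G : Subgroup G) : Set G)
    rw [Subgroup.mem_centralizer_iff]
    intro q hq
    have h1 := (Subgroup.mem_centralizer_iff.mp ha.1) (g⁻¹ * q * g) (by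
      have := hQn.conj_mem q hq g⁻¹
      rwa [inv_inv] at this)
    calc q * (g * a * g⁻¹) = g * ((g⁻¹ * q * g) * a) * g⁻¹ := by group
      _ = g * (a * (g⁻¹ * q * g)) * g⁻¹ := by rw [h1]
      _ = g * a * g⁻¹ * q := by group
  have hAcomm : ∀ a ∈ A, ∀ b ∈ A, a * b = b * a := by
    intro a ha b hb
    exact ((Subgroup.mem_centralizer_iff.mp ha.1) b hb.2).symm
  have hAp : IsPGroup p A := hQp.to_le inf_le_right
  let c : G → G := fun g => g⁻¹ * ψ g
  have hcA : ∀ g, c g ∈ A := by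
    intro g
    have hcent : g⁻¹ * ψ g ∈ Subgroup.centralizer ((pCore p G : Subgroup G) : Set G) := by
      rw [Subgroup.mem_centralizer_iff]
      intro q hq
      have h1 : g * q * g⁻¹ ∈ pCore p G := hQn.conj_mem q hq g
      have h2 : ψ (g * q * g⁻¹) = g * q * g⁻¹ := hψ _ (hQT h1)
      have h3 : ψ q = q := hψ _ (hQT hq)
      rw [map_mul, map_mul, map_inv, h3] at h2
      calc q * (g⁻¹ * ψ g) = g⁻¹ * (g * q * g⁻¹) * ψ g := by group
        _ = g⁻¹ * (ψ g * q * (ψ g)⁻¹) * ψ g := by rw [h2]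
        _ = g⁻¹ * ψ g * q := by group
    exact ⟨hcent, hG hcent⟩
  have hcoc : ∀ g h, c (g * h) = h⁻¹ * c g * h * c h := by
    intro g h
    show (g * h)⁻¹ * ψ (g * h) = h⁻¹ * (g⁻¹ * ψ g) * h * (h⁻¹ * ψ h)
    rw [map_mul]
    group
  have hcT : ∀ s ∈ (T : Subgroup G), c s = 1 := by
    intro s hs
    show s⁻¹ * ψ s = 1
    rw [hψ s hs]
    group
  obtain ⟨u, hu, hcu⟩ := cocycle_coboundary T A hAcomm hAp c hcA hcoc hcT
  have hψu : ∀ g, ψ g = u⁻¹ * g * u⁻¹⁻¹ := by
    intro g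
    have := hcu g
    calc ψ g = g * (g⁻¹ * ψ g) := by group
      _ = g * (g⁻¹ * u⁻¹ * g * u) := by rw [show g⁻¹ * ψ g = c g from rfl, this]
      _ = u⁻¹ * g * u⁻¹⁻¹ := by group
  refine ⟨u⁻¹, Subgroup.inv_mem _ (hQT hu.2), fun x hx => ?_, hψu⟩
  have h1 := hψu x
  rw [hψ x hx] at h1
  calc u⁻¹ * x = (u⁻¹ * x * u⁻¹⁻¹) * u⁻¹ := by group
    _ = x * u⁻¹ := by rw [← h1]

end Main

end Cfsg.Agent.Lib.Helper26
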