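import Mathlib
import Cfsg.Agent.Lib.Helper26.HTDefs

set_option autoImplicit false

namespace Cfsg.Agent.Lib.Helper26.HTCOORDA

open Cfsg.Agent.Lib.Helper26.HT Subgroup

variable {q : ℕ} [Fact q.Prime] {V : Type*} [AddCommGroup V] [Module (ZMod q) V]
  {G : Type*} [Group G]

/-- a line: a submodule with `q` elements is spanned by any nonzero element -/
theorem exists_smul_of_card_eq [Finite V] (U : Submodule (ZMod q) V) (hU : Nat.card U = q)
    (e : V) (he : e ∈ U) (hne : e ≠ 0) : ∀ w ∈ U, ∃ a : ZMod q, w = a • e := by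
  classical
  have hq := (Fact.out : q.Prime)
  have : NeZero q := ⟨hq.ne_zero⟩
  let φ : ZMod q → U := fun a => ⟨a • e, U.smul_mem a he⟩
  have hinj : Function.Injective φ := by
    intro a b hab
    have h1 : a • e = b • e := congrArg Subtype.val hab
    have h2 : (a - b) • e = 0 := by rw [sub_smul, h1, sub_self]
    rcases smul_eq_zero.mp h2 with h3 | h3
    · exact sub_eq_zero.mp h3
    · exact absurd h3 hne
  have hbij : Function.Bijective φ := by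
    let _ := Fintype.ofFinite U
    rw [Fintype.bijective_iff_injective_and_card]
    refine ⟨hinj, ?_⟩
    rw [ZMod.card, ← Nat.card_eq_fintype_card, hU]
  intro w hw
  obtain ⟨a, ha⟩ := hbij.2 ⟨w, hw⟩
  exact ⟨a, (congrArg Subtype.val ha).symm⟩

theorem smul_cancel_right' {e : V} (hne : e ≠ 0) {a b : ZMod q} (h : a • e = b • e) : a = b := by
  have h2 : (a - b) • e = 0 := by rw [sub_smul, h, sub_self]
  rcases smul_eq_zero.mp h2 with h3 | h3
  · exact sub_eq_zero.mp h3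
  · exact absurd h3 hne

theorem card_le_two_of_inf_eq_bot [Finite G] (H K : Subgroup G) (hH : H.index = 2)
    (hinf : H ⊓ K = ⊥) : Nat.card K ∣ 2 := by
  have : H.Normal := Subgroup.normal_of_index_eq_two hH
  have h1 : Nat.card K = (⊥ : Subgroup G).relIndex K := (Subgroup.relIndex_bot_left K).symm
  rw [h1, ← hinf, Subgroup.inf_relIndex_right, ← hH]
  exact Subgroup.relIndex_dvd_index_of_normal H K

/-- **HT-COORDA** the structure of `G` in the case `|W 0| = q`. -/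
theorem coords_struct [Finite V] [Finite G] (hq2 : q ≠ 2)
    (ρ : G →* (V ≃ₗ[ZMod q] V)) (hρ : Function.Injective ρ) (hT : HalfT ρ) (hns : ¬ Semireg ρ)
    (H : Subgroup G) (W : Fin 2 → Submodule (ZMod q) V) (h : Imp2 ρ H W)
    (hmix : ∀ w0 ∈ W 0, ∀ w1 ∈ W 1, w0 ≠ 0 → w1 ≠ 0 →
      ∃ g : G, g ∉ H ∧ ρ g (w0 + w1) = w0 + w1)
    (hW0 : Nat.card (W 0) = q) :
    ∃ e0 e1 : V, e0 ∈ W 0 ∧ e1 ∈ W 1 ∧ e0 ≠ 0 ∧ e1 ≠ 0 ∧
      (∀ g : G, ∃ a s : ZMod q, a ≠ 0 ∧ (s = 1 ∨ s = -1) ∧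
        ((ρ g e0 = a • e0 ∧ ρ g e1 = (s * a⁻¹) • e1) ∨
         (ρ g e0 = a • e1 ∧ ρ g e1 = (s * a⁻¹) • e0))) ∧
      (∀ a s : ZMod q, a ≠ 0 → (s = 1 ∨ s = -1) →
        (∃ g : G, ρ g e0 = a • e0 ∧ ρ g e1 = (s * a⁻¹) • e1) ∧
        (∃ g : G, ρ g e0 = a • e1 ∧ ρ g e1 = (s * a⁻¹) • e0)) := by
  classical
  have hq := (Fact.out : q.Prime)
  -- Step 0: e0
  have hnt : Nontrivial (W 0) := by
    rw [← Finite.one_lt_card_iff_nontrivial, hW0]
    exact hq.one_lt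
  obtain ⟨⟨e0, he0⟩, hne0'⟩ := exists_ne (0 : W 0)
  have hne0 : e0 ≠ 0 := fun h0 => hne0' (Subtype.ext h0)
  have hline0 := exists_smul_of_card_eq (W 0) hW0 e0 he0 hne0
  -- Step 2: t, e1
  obtain ⟨t, ht⟩ := h.exists_not_mem
  have hti : t⁻¹ ∉ H := Imp2.inv_not_mem ht
  set e1 : V := ρ t e0 with he1def
  have he1 : e1 ∈ W 1 := (h.map_mem ht).1 e0 he0
  have hne1 : e1 ≠ 0 := by
    intro h0
    exact hne0 ((ρ t).map_eq_zero_iff.mp h0)
  have hline1 : ∀ w ∈ W 1, ∃ a : ZMod q, w = a • e1 := by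
    intro w hw
    obtain ⟨a, ha⟩ := hline0 _ ((h.map_mem hti).2 w hw)
    refine ⟨a, ?_⟩
    have := congrArg (ρ t) ha
    rw [apply_inv_apply, map_smul] at this
    exact this
  -- Step 4: faithfulness on the basis
  have hfix : ∀ g : G, ρ g e0 = e0 → ρ g e1 = e1 → g = 1 := by
    intro g h0 h1
    apply hρ
    rw [map_one]
    ext v
    obtain ⟨w0, hw0, w1, hw1, rfl⟩ := h.decomp v
    obtain ⟨a, rfl⟩ := hline0 w0 hw0
    obtain ⟨b, rfl⟩ := hline1 w1 hw1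
    rw [map_add, map_smul, map_smul, h0, h1]
    rfl
  -- Step 5: all stabilizers have order 2
  have hv01 : e0 + e1 ≠ 0 := by
    intro h0
    have : e0 = -e1 := eq_neg_of_add_eq_zero_left h0
    exact hne0 (h.disj he0 (this ▸ (W 1).neg_mem he1))
  have hle2 : Nat.card (stab ρ (e0 + e1)) ∣ 2 := by
    apply card_le_two_of_inf_eq_bot H _ h.index
    rw [eq_bot_iff]
    rintro g ⟨hgH, hgs⟩
    have hgs' : ρ g (e0 + e1) = e0 + e1 := hgs
    rw [map_add] at hgs'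
    obtain ⟨h0, h1⟩ := h.uniq (h.inv g hgH 0 e0 he0) (h.inv g hgH 1 e1 he1) he0 he1 hgs'
    rw [Subgroup.mem_bot]
    exact hfix g h0 h1
  have hcard2 : ∀ w : V, w ≠ 0 → Nat.card (stab ρ w) = 2 := by
    have hge : 2 ≤ Nat.card (stab ρ (e0 + e1)) := by
      unfold Semireg at hns
      push Not at hns
      obtain ⟨v0, hv0, g0, hg0, hg01⟩ := hns
      rw [hT (e0 + e1) v0 hv01 hv0]
      have hne : stab ρ v0 ≠ ⊥ := by
        intro hb
        have : g0 ∈ stab ρ v0 := hg0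
        rw [hb, Subgroup.mem_bot] at this
        exact hg01 this
      have := (Subgroup.one_lt_card_iff_ne_bot (stab ρ v0)).mpr hne
      omega
    have h2 : Nat.card (stab ρ (e0 + e1)) = 2 :=
      le_antisymm (Nat.le_of_dvd (by norm_num) hle2) hge
    intro w hw
    rw [hT w (e0 + e1) hw hv01, h2]
  -- (L): elements fixing e0 act by ±1 on e1
  have hL : ∀ (x : G) (c : ZMod q), ρ x e0 = e0 → ρ x e1 = c • e1 → c = 1 ∨ c = -1 := by
    intro x c hx0 hx1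
    have hxs : x ∈ stab ρ e0 := hx0
    have hx2 : x ^ 2 = 1 := by
      have := pow_card_eq_one' (G := stab ρ e0) (x := ⟨x, hxs⟩)
      rw [hcard2 e0 hne0] at this
      exact congrArg Subtype.val this
    have h1 : ρ (x ^ 2) e1 = (c * c) • e1 := by
      rw [pow_two, mul_apply', hx1, map_smul, hx1, smul_smul]
    rw [hx2, one_apply'] at h1
    have h2 : (1 : ZMod q) • e1 = (c * c) • e1 := by rw [one_smul]; exact h1
    have h3 : c * c = 1 := (smul_cancel_right' hne1 h2).symm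
    exact mul_self_eq_one_iff.mp h3
  -- Step 7: k
  obtain ⟨k, hkH, hk1, hk0⟩ := h.ker 0
  have hke0 : ρ k e0 = e0 := hk0 e0 he0
  obtain ⟨β, hβ⟩ := hline1 _ (h.inv k hkH 1 e1 he1)
  have hβ1 : β = -1 := by
    rcases hL k β hke0 hβ with h1 | h1
    · exfalso
      apply hk1
      apply hfix k hke0
      rw [hβ, h1, one_smul]
    · exact h1
  have hke1 : ρ k e1 = -e1 := by rw [hβ, hβ1, neg_one_smul]
  -- Step 8: τ_c
  have hτ : ∀ c : ZMod q, c ≠ 0 → ∃ g : G, ρ g e0 = c • e1 ∧ ρ g e1 = c⁻¹ • e0 := by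
    intro c hc
    obtain ⟨g, hgH, hg⟩ := hmix e0 he0 (c • e1) ((W 1).smul_mem c he1) hne0
      (smul_ne_zero hc hne1)
    obtain ⟨γ, hγ⟩ := hline1 _ ((h.map_mem hgH).1 e0 he0)
    obtain ⟨δ, hδ⟩ := hline0 _ ((h.map_mem hgH).2 e1 he1)
    rw [map_add, map_smul, hγ, hδ, smul_smul, add_comm] at hg
    obtain ⟨h0, h1⟩ := h.uniq ((W 0).smul_mem (c * δ) he0) ((W 1).smul_mem γ he1) he0
      ((W 1).smul_mem c he1) hg
    have hγc : γ = c := smul_cancel_right' hne1 h1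
    have hcδ : c * δ = 1 := by
      have : (c * δ) • e0 = (1 : ZMod q) • e0 := by rw [one_smul]; exact h0
      exact smul_cancel_right' hne0 this
    have hδc : δ = c⁻¹ := eq_inv_of_mul_eq_one_right hcδ
    exact ⟨g, by rw [hγ, hγc], by rw [hδ, hδc]⟩
  -- Step 9: hall
  have hall : ∀ a s : ZMod q, a ≠ 0 → (s = 1 ∨ s = -1) →
        (∃ g : G, ρ g e0 = a • e0 ∧ ρ g e1 = (s * a⁻¹) • e1) ∧
        (∃ g : G, ρ g e0 = a • e1 ∧ ρ g e1 = (s * a⁻¹) • e0) := by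
    intro a s ha hs
    obtain ⟨g1, hg10, hg11⟩ := hτ a⁻¹ (inv_ne_zero ha)
    obtain ⟨g2, hg20, hg21⟩ := hτ 1 one_ne_zero
    obtain ⟨g3, hg30, hg31⟩ := hτ a ha
    rw [inv_inv] at hg11
    rw [one_smul] at hg20
    rw [inv_one, one_smul] at hg21
    have hD0 : ρ (g1 * g2) e0 = a • e0 := by rw [mul_apply', hg20, hg11]
    have hD1 : ρ (g1 * g2) e1 = a⁻¹ • e1 := by rw [mul_apply', hg21, hg10]
    rcases hs with rfl | rfl
    · refine ⟨⟨g1 * g2, hD0, by rw [one_mul]; exact hD1⟩, ⟨g3, hg30, by rw [one_mul]; exact hg31⟩⟩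
    · refine ⟨⟨g1 * g2 * k, ?_, ?_⟩, ⟨g3 * k, ?_, ?_⟩⟩
      · rw [mul_apply', hke0, hD0]
      · rw [mul_apply', hke1, map_neg, hD1, neg_one_mul, neg_smul]
      · rw [mul_apply', hke0, hg30]
      · rw [mul_apply', hke1, map_neg, hg31, neg_one_mul, neg_smul]
  -- (L'): diagonal elements
  have hL' : ∀ (x : G) (α β : ZMod q), ρ x e0 = α • e0 → ρ x e1 = β • e1 →
      α ≠ 0 ∧ (α * β = 1 ∨ α * β = -1) := by
    intro x α β hx0 hx1
    have hα : α ≠ 0 := by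
      rintro rfl
      rw [zero_smul] at hx0
      exact hne0 ((ρ x).map_eq_zero_iff.mp hx0)
    refine ⟨hα, ?_⟩
    obtain ⟨⟨D, hD0, hD1⟩, -⟩ := hall α⁻¹ 1 (inv_ne_zero hα) (Or.inl rfl)
    rw [inv_inv, one_mul] at hD1
    apply hL (x * D) (α * β)
    · rw [mul_apply', hD0, map_smul, hx0, smul_smul, inv_mul_cancel₀ hα, one_smul]
    · rw [mul_apply', hD1, map_smul, hx1, smul_smul]
  -- Step 10: hform
  refine ⟨e0, e1, he0, he1, hne0, hne1, ?_, hall⟩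
  intro g
  by_cases hgH : g ∈ H
  · obtain ⟨α, hα⟩ := hline0 _ (h.inv g hgH 0 e0 he0)
    obtain ⟨β, hβ'⟩ := hline1 _ (h.inv g hgH 1 e1 he1)
    obtain ⟨hα0, hαβ⟩ := hL' g α β hα hβ'
    refine ⟨α, α * β, hα0, hαβ, Or.inl ⟨hα, ?_⟩⟩
    rw [hβ', mul_comm α β, mul_assoc, mul_inv_cancel₀ hα0, mul_one]
  · obtain ⟨γ, hγ⟩ := hline1 _ ((h.map_mem hgH).1 e0 he0)
    obtain ⟨δ, hδ⟩ := hline0 _ ((h.map_mem hgH).2 e1 he1)
    obtain ⟨g2, hg20, hg21⟩ := hτ 1 one_ne_zero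
    rw [one_smul] at hg20
    rw [inv_one, one_smul] at hg21
    have hx0 : ρ (g * g2) e0 = δ • e0 := by rw [mul_apply', hg20, hδ]
    have hx1 : ρ (g * g2) e1 = γ • e1 := by rw [mul_apply', hg21, hγ]
    obtain ⟨hδ0, hδγ⟩ := hL' (g * g2) δ γ hx0 hx1
    have hγ0 : γ ≠ 0 := by
      rintro rfl
      rw [zero_smul] at hγ
      exact hne0 ((ρ g).map_eq_zero_iff.mp hγ)
    refine ⟨γ, δ * γ, hγ0, hδγ, Or.inr ⟨hγ, ?_⟩⟩
    rw [hδ, mul_assoc, mul_inv_cancel₀ hγ0, mul_one]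

end Cfsg.Agent.Lib.Helper26.HTCOORDA
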