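import Mathlib
import Cfsg.Agent.Lib.Helper26.HTDefs

set_option autoImplicit false

namespace Cfsg.Agent.Lib.Helper26.HTCOORDB

open Cfsg.Agent.Lib.Helper26.HT Subgroup

variable {q : ℕ} [Fact q.Prime] {V : Type*} [AddCommGroup V] [Module (ZMod q) V]
  {G : Type*} [Group G]

/-- **HT-COORDB** coordinates: from the structure to the statement's third alternative. -/
theorem coords_iff [Finite V] (ρ : G →* (V ≃ₗ[ZMod q] V))
    (W : Fin 2 → Submodule (ZMod q) V) (hV : Nat.card V = q ^ 2)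
    (hdisj : ∀ w : V, w ∈ W 0 → w ∈ W 1 → w = 0)
    (e0 e1 : V) (he0 : e0 ∈ W 0) (he1 : e1 ∈ W 1) (hne0 : e0 ≠ 0) (hne1 : e1 ≠ 0)
    (hform : ∀ g : G, ∃ a s : ZMod q, a ≠ 0 ∧ (s = 1 ∨ s = -1) ∧
        ((ρ g e0 = a • e0 ∧ ρ g e1 = (s * a⁻¹) • e1) ∨
         (ρ g e0 = a • e1 ∧ ρ g e1 = (s * a⁻¹) • e0)))
    (hall : ∀ a s : ZMod q, a ≠ 0 → (s = 1 ∨ s = -1) →
        (∃ g : G, ρ g e0 = a • e0 ∧ ρ g e1 = (s * a⁻¹) • e1) ∧
        (∃ g : G, ρ g e0 = a • e1 ∧ ρ g e1 = (s * a⁻¹) • e0)) :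
    ∃ e : V ≃ₗ[ZMod q] (Fin 2 → ZMod q),
      ∀ f : (Fin 2 → ZMod q) ≃ₗ[ZMod q] (Fin 2 → ZMod q),
        (∃ g : G, f = e.symm.trans ((ρ g).trans e)) ↔
        ∃ a s : ZMod q, a ≠ 0 ∧ (s = 1 ∨ s = -1) ∧
          ((∀ v, f v = ![a * v 0, s * a⁻¹ * v 1]) ∨ (∀ v, f v = ![s * a⁻¹ * v 1, a * v 0])) := by
  classical
  have hq := (Fact.out : q.Prime)
  have : NeZero q := ⟨hq.ne_zero⟩
  -- linear independence
  have hli : LinearIndependent (ZMod q) ![e0, e1] := by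
    rw [LinearIndependent.pair_iff]
    intro a b hab
    have h1 : a • e0 = -(b • e1) := eq_neg_of_add_eq_zero_left hab
    have h2 : a • e0 = 0 :=
      hdisj _ ((W 0).smul_mem a he0) (h1 ▸ (W 1).neg_mem ((W 1).smul_mem b he1))
    have h3 : b • e1 = 0 := by rw [h2, zero_add] at hab; exact hab
    exact ⟨(smul_eq_zero.mp h2).resolve_right hne0, (smul_eq_zero.mp h3).resolve_right hne1⟩
  have hfr : Module.finrank (ZMod q) V = 2 := by
    have h1 := Module.natCard_eq_pow_finrank (K := ZMod q) (V := V)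
    rw [hV, Nat.card_zmod] at h1
    exact (Nat.pow_right_injective hq.two_le h1).symm
  let b : Module.Basis (Fin 2) (ZMod q) V :=
    basisOfLinearIndependentOfCardEqFinrank hli (by rw [hfr]; rfl)
  have hb : ⇑b = ![e0, e1] := coe_basisOfLinearIndependentOfCardEqFinrank hli _
  let e : V ≃ₗ[ZMod q] (Fin 2 → ZMod q) := b.equivFun
  have hsymm : ∀ x : Fin 2 → ZMod q, e.symm x = x 0 • e0 + x 1 • e1 := by
    intro x
    show b.equivFun.symm x = _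
    rw [Module.Basis.equivFun_symm_apply, Fin.sum_univ_two, hb]
    rfl
  have hE : ∀ a c : ZMod q, e (a • e0 + c • e1) = ![a, c] := by
    intro a c
    have := hsymm ![a, c]
    simp only [Matrix.cons_val_zero, Matrix.cons_val_one] at this
    rw [← this, LinearEquiv.apply_symm_apply]
  have hcomp : ∀ (g : G) (v : Fin 2 → ZMod q),
      (e.symm.trans ((ρ g).trans e)) v = e (v 0 • ρ g e0 + v 1 • ρ g e1) := by
    intro g v
    show e (ρ g (e.symm v)) = _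
    rw [hsymm, map_add, map_smul, map_smul]
  have hc1 : ∀ (g : G) (a s : ZMod q), ρ g e0 = a • e0 → ρ g e1 = (s * a⁻¹) • e1 →
      ∀ v, (e.symm.trans ((ρ g).trans e)) v = ![a * v 0, s * a⁻¹ * v 1] := by
    intro g a s h0 h1 v
    rw [hcomp, h0, h1, smul_smul, smul_smul, hE, mul_comm (v 0), mul_comm (v 1)]
  have hc2 : ∀ (g : G) (a s : ZMod q), ρ g e0 = a • e1 → ρ g e1 = (s * a⁻¹) • e0 →
      ∀ v, (e.symm.trans ((ρ g).trans e)) v = ![s * a⁻¹ * v 1, a * v 0] := by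
    intro g a s h0 h1 v
    rw [hcomp, h0, h1, smul_smul, smul_smul, add_comm, hE, mul_comm (v 0), mul_comm (v 1)]
  refine ⟨e, fun f => ⟨?_, ?_⟩⟩
  · rintro ⟨g, rfl⟩
    obtain ⟨a, s, ha, hs, hcases⟩ := hform g
    refine ⟨a, s, ha, hs, ?_⟩
    rcases hcases with ⟨h0, h1⟩ | ⟨h0, h1⟩
    · exact Or.inl (hc1 g a s h0 h1)
    · exact Or.inr (hc2 g a s h0 h1)
  · rintro ⟨a, s, ha, hs, hf | hf⟩
    · obtain ⟨⟨g, h0, h1⟩, -⟩ := hall a s ha hs
      refine ⟨g, LinearEquiv.ext fun v => ?_⟩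
      rw [hf v, hc1 g a s h0 h1 v]
    · obtain ⟨-, ⟨g, h0, h1⟩⟩ := hall a s ha hs
      refine ⟨g, LinearEquiv.ext fun v => ?_⟩
      rw [hf v, hc2 g a s h0 h1 v]

end Cfsg.Agent.Lib.Helper26.HTCOORDB
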