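import Mathlib
import Cfsg.Prelude.Def_CaseTheorems
import Cfsg.Agent.Lib.Helper26.HTDefs
import Cfsg.Agent.S3370
import Cfsg.Agent.S3380
import Cfsg.Agent.S3381
import Cfsg.Agent.Lib.Helper8.HalfTransitive
import Cfsg.Agent.Lib.Helper18.QuasiDihedral
import Cfsg.Agent.Lib.Helper18.UniqueInvolution
import Cfsg.Agent.Lib.Helper19.PTransLin
import Cfsg.Agent.Lib.Helper20.HTCINV
import Cfsg.Agent.Lib.Helper20.HTDCOUNT
import Cfsg.Agent.Lib.Helper20.HTDIDX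
import Cfsg.Agent.Lib.Helper20.HTQUAT
import Cfsg.Agent.Lib.Helper20.HTTRC
import Cfsg.Agent.Lib.Helper20.HTTRI
import Cfsg.Agent.Lib.Helper16.HTS3370
import Cfsg.Agent.Lib.Helper16.HTSTAB2
import Cfsg.Agent.Lib.Helper16.HTSUBSEMI
import Cfsg.Agent.Lib.Helper23.HTQDCOUNT
import Cfsg.Agent.Lib.Helper23.HTQDIDX
import Cfsg.Agent.Lib.Helper26.HTCOORDA
import Cfsg.Agent.Lib.Helper26.HTCOORDB
import Cfsg.Agent.Lib.Helper5.HTCARDV
import Cfsg.Agent.Lib.Helper5.HTIRR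
import Cfsg.Agent.Lib.Helper5.HTMIX
import Cfsg.Agent.Lib.Helper5.HTTRANS
import Cfsg.Agent.Lib.Helper6.HTFPF
import Cfsg.Agent.Lib.Helper6.HTODD
import Cfsg.Agent.Lib.Helper6.HTORB
import Cfsg.Agent.Lib.Helper6.HTSEMI2

set_option autoImplicit false

namespace Cfsg.Agent.Lib.Helper26.HTMain

open Cfsg.Agent.Lib.Helper26.HT

open Subgroup

variable {q : ℕ} [Fact q.Prime] {V : Type*} [AddCommGroup V] [Module (ZMod q) V]
  {G : Type*} [Group G]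

/-! ## Leaves -/

/-- **HT-ORB** orbit form ⇒ stabilizer form (orbit–stabilizer). -/
theorem halfT_of_orbits [Finite V] [Finite G] (ρ : G →* (V ≃ₗ[ZMod q] V))
    (hhalf : ∀ v w : V, v ≠ 0 → w ≠ 0 →
      Nat.card {u : V | ∃ g : G, ρ g v = u} = Nat.card {u : V | ∃ g : G, ρ g w = u}) :
    HalfT ρ := by
  exact Cfsg.Agent.Lib.Helper6.HTORB.halfT_of_orbits ρ hhalf

/-- **HT-ODD** bridge to `Helper8.halfTransitive_main` / `subsingleton_of_halfTransitive_same_prime`. -/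
theorem cyclic_semireg_of_odd_or_same [Finite V] [Finite G] (p : ℕ) [Fact p.Prime]
    (hG : IsPGroup p G) (ρ : G →* (V ≃ₗ[ZMod q] V)) (hρ : Function.Injective ρ) (hT : HalfT ρ)
    (h : p ≠ 2 ∨ p = q) : IsCyclic G ∧ Semireg ρ := by
  exact Cfsg.Agent.Lib.Helper6.HTODD.cyclic_semireg_of_odd_or_same p hG ρ hρ hT h

/-- **HT-FPF** bridge to `Helper8.fpf_of_central` (`p = 2`). -/
theorem central_fpf [Finite G] (ρ : G →* (V ≃ₗ[ZMod q] V)) (hρ : Function.Injective ρ)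
    (hT : HalfT ρ) (hq2 : q ≠ 2) (z : G) (hzc : z ∈ center G) (hz : orderOf z = 2)
    (v : V) (hv : ρ z v = v) : v = 0 := by
  exact Cfsg.Agent.Lib.Helper6.HTFPF.central_fpf ρ hρ hT hq2 z hzc hz v hv

/-- **HT-SEMI2** semiregular 2-group: every involution is `-1`, hence unique. -/
theorem cyclic_or_quaternion_of_semireg [Finite G] (hG : IsPGroup 2 G)
    (ρ : G →* (V ≃ₗ[ZMod q] V)) (hρ : Function.Injective ρ) (hs : Semireg ρ) :
    IsCyclic G ∨ ∃ n : ℕ, Nonempty (G ≃* QuaternionGroup n) := by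
  exact Cfsg.Agent.Lib.Helper6.HTSEMI2.cyclic_or_quaternion_of_semireg hG ρ hρ hs

/-- **HT-SUBSEMI** a subgroup all of whose involutions are central in `G` acts semiregularly
(given that central involutions fix no nonzero vector, cf. HT-FPF). -/
theorem eq_one_of_mem_of_fix [Finite G] (hG : IsPGroup 2 G)
    (ρ : G →* (V ≃ₗ[ZMod q] V))
    (hfpf : ∀ z : G, z ∈ center G → orderOf z = 2 → ∀ v : V, ρ z v = v → v = 0)
    (C : Subgroup G) (hC : ∀ t ∈ C, orderOf t = 2 → t ∈ center G)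
    (v : V) (hv : v ≠ 0) (g : G) (hg : g ∈ C) (hgv : ρ g v = v) : g = 1 := by
  exact Cfsg.Agent.Lib.Helper16.HTSUBSEMI.eq_one_of_mem_of_fix hG ρ hfpf C hC v hv g hg hgv

/-- **HT-STAB2** if a subgroup `C` of index 2 acts semiregularly and `G` does not, then all
stabilizers of nonzero vectors have order 2. -/
theorem card_stab_eq_two [Finite G] (ρ : G →* (V ≃ₗ[ZMod q] V)) (hT : HalfT ρ)
    (hns : ¬ Semireg ρ) (C : Subgroup G) (hCi : C.index = 2)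
    (hsub : ∀ v : V, v ≠ 0 → ∀ g ∈ C, ρ g v = v → g = 1) :
    ∀ v : V, v ≠ 0 → Nat.card {g : G // ρ g v = v} = 2 := by
  exact Cfsg.Agent.Lib.Helper16.HTSTAB2.card_stab_eq_two ρ hT hns C hCi hsub

/-- **HT-CINV** a nontrivial finite 2-group has a central involution. -/
theorem exists_central_invol [Finite G] [Nontrivial G] (hG : IsPGroup 2 G) :
    ∃ z : G, orderOf z = 2 ∧ z ∈ center G := by
  exact Cfsg.Agent.Lib.Helper20.HTCINV.exists_central_invol hG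

/-- **HT-QUAT** involutions of a generalized quaternion group are central. -/
theorem quaternion_invol_central [Finite G] (n : ℕ) (e : G ≃* QuaternionGroup n) :
    ∀ t : G, orderOf t = 2 → t ∈ center G := by
  exact Cfsg.Agent.Lib.Helper20.HTQUAT.quaternion_invol_central n e

/-- **HT-DCOUNT** `D_{2n}`, `n ≥ 3`, has exactly `n` non-central involutions. -/
theorem dihedral_count (n : ℕ) (hn : 3 ≤ n) :
    Nat.card {g : DihedralGroup n // orderOf g = 2 ∧ g ∉ center (DihedralGroup n)} = n := by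
  exact Cfsg.Agent.Lib.Helper20.HTDCOUNT.dihedral_count n hn

/-- **HT-DIDX** the rotation subgroup of `D_{2n}`. -/
theorem dihedral_index_two (n : ℕ) (hn : 3 ≤ n) :
    ∃ C : Subgroup (DihedralGroup n), C.index = 2 ∧
      ∀ t ∈ C, orderOf t = 2 → t ∈ center (DihedralGroup n) := by
  exact Cfsg.Agent.Lib.Helper20.HTDIDX.dihedral_index_two n hn

/-- **HT-TRC** transport of the count of non-central involutions. -/
theorem card_noncentral_invol_congr {G' : Type*} [Group G'] (e : G ≃* G') :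
    Nat.card {g : G // orderOf g = 2 ∧ g ∉ center G} =
      Nat.card {g : G' // orderOf g = 2 ∧ g ∉ center G'} := by
  exact Cfsg.Agent.Lib.Helper20.HTTRC.card_noncentral_invol_congr e

/-- **HT-TRI** transport of the index-two data. -/
theorem index_two_data_congr {G' : Type*} [Group G'] (e : G ≃* G')
    (h : ∃ C : Subgroup G', C.index = 2 ∧ ∀ t ∈ C, orderOf t = 2 → t ∈ center G') :
    ∃ C : Subgroup G, C.index = 2 ∧ ∀ t ∈ C, orderOf t = 2 → t ∈ center G := by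
  exact Cfsg.Agent.Lib.Helper20.HTTRI.index_two_data_congr e h

/-- **HT-QDCOUNT** a quasidihedral group of order `2^(m+4)` has `2^(m+2)` non-central involutions. -/
theorem qd_count {S : Type*} [Group S] {m : ℕ} {x y : S} (h : Helper18.IsQD S m x y) :
    Nat.card {g : S // orderOf g = 2 ∧ g ∉ center S} = 2 ^ (m + 2) := by
  exact Cfsg.Agent.Lib.Helper23.HTQDCOUNT.qd_count h

/-- **HT-QDIDX** the cyclic maximal subgroup of a quasidihedral group. -/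
theorem qd_index_two {S : Type*} [Group S] {m : ℕ} {x y : S} (h : Helper18.IsQD S m x y) :
    ∃ C : Subgroup S, C.index = 2 ∧ ∀ t ∈ C, orderOf t = 2 → t ∈ center S := by
  exact Cfsg.Agent.Lib.Helper23.HTQDIDX.qd_index_two h

/-- **HT-IRR** Maschke: a half-transitive, not semiregular `p`-group (`p ≠ q`) is irreducible. -/
theorem irreducible_of_not_semireg [Finite V] [Finite G] (p : ℕ) [Fact p.Prime] (hpq : p ≠ q)
    (hG : IsPGroup p G) (ρ : G →* (V ≃ₗ[ZMod q] V)) (hρ : Function.Injective ρ)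
    (hT : HalfT ρ) (hns : ¬ Semireg ρ) :
    ∀ W : Submodule (ZMod q) V, (∀ g : G, ∀ w ∈ W, ρ g w ∈ W) → W = ⊥ ∨ W = ⊤ := by
  exact Cfsg.Agent.Lib.Helper5.HTIRR.irreducible_of_not_semireg p hpq hG ρ hρ hT hns

/-- **HT-MIX** every "mixed" vector is fixed by some element outside `H`. -/
theorem mixed_fixed [Finite V] [Finite G] (ρ : G →* (V ≃ₗ[ZMod q] V))
    (hρ : Function.Injective ρ) (hT : HalfT ρ)
    (hirr : ∀ W : Submodule (ZMod q) V, (∀ g : G, ∀ w ∈ W, ρ g w ∈ W) → W = ⊥ ∨ W = ⊤)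
    (H : Subgroup G) (W : Fin 2 → Submodule (ZMod q) V) (h : Imp2 ρ H W) :
    ∀ w0 ∈ W 0, ∀ w1 ∈ W 1, w0 ≠ 0 → w1 ≠ 0 →
      ∃ g : G, g ∉ H ∧ ρ g (w0 + w1) = w0 + w1 := by
  exact Cfsg.Agent.Lib.Helper5.HTMIX.mixed_fixed ρ hρ hT hirr H W h

/-- **HT-TRANS** `H` is transitive on the nonzero vectors of `W 0`. -/
theorem trans_W0 (ρ : G →* (V ≃ₗ[ZMod q] V))
    (H : Subgroup G) (W : Fin 2 → Submodule (ZMod q) V) (h : Imp2 ρ H W)
    (hmix : ∀ w0 ∈ W 0, ∀ w1 ∈ W 1, w0 ≠ 0 → w1 ≠ 0 →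
      ∃ g : G, g ∉ H ∧ ρ g (w0 + w1) = w0 + w1) :
    ∀ w ∈ W 0, ∀ w' ∈ W 0, w ≠ 0 → w' ≠ 0 → ∃ g ∈ H, ρ g w = w' := by
  exact Cfsg.Agent.Lib.Helper5.HTTRANS.trans_W0 ρ H W h hmix

/-- **HT-S3370** apply S3370 to the image of `H` in `GL(W 0)`. -/
theorem card_W0 [Finite V] [Nontrivial V] [Finite G] (hG : IsPGroup 2 G) (hq2 : q ≠ 2)
    (ρ : G →* (V ≃ₗ[ZMod q] V))
    (H : Subgroup G) (W : Fin 2 → Submodule (ZMod q) V) (h : Imp2 ρ H W)
    (htr : ∀ w ∈ W 0, ∀ w' ∈ W 0, w ≠ 0 → w' ≠ 0 → ∃ g ∈ H, ρ g w = w') :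
    (q = 3 ∧ Nat.card (W 0) = 9) ∨ (Nat.card (W 0) = q ∧ ∃ m : ℕ, q = 2 ^ m + 1) := by
  exact Cfsg.Agent.Lib.Helper16.HTS3370.card_W0 hG hq2 ρ H W h htr

/-- **HT-CARDV** `|V| = |W 0|^2`. -/
theorem card_V_eq [Finite V] (ρ : G →* (V ≃ₗ[ZMod q] V))
    (H : Subgroup G) (W : Fin 2 → Submodule (ZMod q) V) (h : Imp2 ρ H W) :
    Nat.card V = Nat.card (W 0) ^ 2 := by
  exact Cfsg.Agent.Lib.Helper5.HTCARDV.card_V_eq ρ H W h

/-- **HT-COORDA** the structure of `G` in the case `|W 0| = q`. -/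
theorem coords_struct [Finite V] [Finite G] (hq2 : q ≠ 2)
    (ρ : G →* (V ≃ₗ[ZMod q] V)) (hρ : Function.Injective ρ) (hT : HalfT ρ) (hns : ¬ Semireg ρ)
    (H : Subgroup G) (W : Fin 2 → Submodule (ZMod q) V) (h : Imp2 ρ H W)
    (hmix : ∀ w0 ∈ W 0, ∀ w1 ∈ W 1, w0 ≠ 0 → w1 ≠ 0 →
      ∃ g : G, g ∉ H ∧ ρ g (w0 + w1) = w0 + w1)
    (hW0 : Nat.card (W 0) = q) :
    ∃ e0 e1 : V, e0 ∈ W 0 ∧ e1 ∈ W 1 ∧ e0 ≠ 0 ∧ e1 ≠ 0 ∧
      (∀ g : G, ∃ a s : ZMod q, a ≠ 0 ∧ (s = 1 ∨ s = -1) ∧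
        ((ρ g e0 = a • e0 ∧ ρ g e1 = (s * a⁻¹) • e1) ∨
         (ρ g e0 = a • e1 ∧ ρ g e1 = (s * a⁻¹) • e0))) ∧
      (∀ a s : ZMod q, a ≠ 0 → (s = 1 ∨ s = -1) →
        (∃ g : G, ρ g e0 = a • e0 ∧ ρ g e1 = (s * a⁻¹) • e1) ∧
        (∃ g : G, ρ g e0 = a • e1 ∧ ρ g e1 = (s * a⁻¹) • e0)) := by
  exact Cfsg.Agent.Lib.Helper26.HTCOORDA.coords_struct hq2 ρ hρ hT hns H W h hmix hW0

/-- **HT-COORDB** coordinates: from the structure to the statement's third alternative. -/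
theorem coords_iff [Finite V] (ρ : G →* (V ≃ₗ[ZMod q] V))
    (W : Fin 2 → Submodule (ZMod q) V) (hV : Nat.card V = q ^ 2)
    (hdisj : ∀ w : V, w ∈ W 0 → w ∈ W 1 → w = 0)
    (e0 e1 : V) (he0 : e0 ∈ W 0) (he1 : e1 ∈ W 1) (hne0 : e0 ≠ 0) (hne1 : e1 ≠ 0)
    (hform : ∀ g : G, ∃ a s : ZMod q, a ≠ 0 ∧ (s = 1 ∨ s = -1) ∧
        ((ρ g e0 = a • e0 ∧ ρ g e1 = (s * a⁻¹) • e1) ∨
         (ρ g e0 = a • e1 ∧ ρ g e1 = (s * a⁻¹) • e0)))
    (hall : ∀ a s : ZMod q, a ≠ 0 → (s = 1 ∨ s = -1) →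
        (∃ g : G, ρ g e0 = a • e0 ∧ ρ g e1 = (s * a⁻¹) • e1) ∧
        (∃ g : G, ρ g e0 = a • e1 ∧ ρ g e1 = (s * a⁻¹) • e0)) :
    ∃ e : V ≃ₗ[ZMod q] (Fin 2 → ZMod q),
      ∀ f : (Fin 2 → ZMod q) ≃ₗ[ZMod q] (Fin 2 → ZMod q),
        (∃ g : G, f = e.symm.trans ((ρ g).trans e)) ↔
        ∃ a s : ZMod q, a ≠ 0 ∧ (s = 1 ∨ s = -1) ∧
          ((∀ v, f v = ![a * v 0, s * a⁻¹ * v 1]) ∨ (∀ v, f v = ![s * a⁻¹ * v 1, a * v 0])) := by
  exact Cfsg.Agent.Lib.Helper26.HTCOORDB.coords_iff ρ W hV hdisj e0 e1 he0 he1 hne0 hne1 hform hall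

/-! ## Assembly -/

/-- generic dihedral/quasidihedral step -/
theorem card_V_of_index_two [Finite V] [Nontrivial V] [Finite G] (hG : IsPGroup 2 G)
    (hq2 : q ≠ 2) (ρ : G →* (V ≃ₗ[ZMod q] V)) (hρ : Function.Injective ρ) (hT : HalfT ρ)
    (hns : ¬ Semireg ρ) (C : Subgroup G) (hCi : C.index = 2)
    (hC : ∀ t ∈ C, orderOf t = 2 → t ∈ center G) (k : ℕ)
    (hk : Nat.card {g : G // orderOf g = 2 ∧ g ∉ center G} = 2 ^ k) :
    Nat.card V = q ^ 2 ∧ q = 2 ^ k - 1 := by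
  have hfpf : ∀ z : G, z ∈ center G → orderOf z = 2 → ∀ v : V, ρ z v = v → v = 0 :=
    fun z hzc hz v hv => central_fpf ρ hρ hT hq2 z hzc hz v hv
  have hstab := card_stab_eq_two ρ hT hns C hCi
    (fun v hv g hg hgv => eq_one_of_mem_of_fix hG ρ hfpf C hC v hv g hg hgv)
  have : Nontrivial G := by
    by_contra hnt
    rw [not_nontrivial_iff_subsingleton] at hnt
    exact hns (fun v _ g _ => Subsingleton.elim g 1)
  obtain ⟨z, hz, hzc⟩ := exists_central_invol hG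
  obtain ⟨r, hr, hcount⟩ := Cfsg.Agent.S3381.result q ρ hρ hstab z hz hzc
  rw [hk] at hcount
  have hr0 : r ≠ 0 := by
    rintro rfl
    rw [Nat.mul_zero, pow_zero] at hr
    have : 1 < Nat.card V := Finite.one_lt_card
    omega
  have hq := (Fact.out : q.Prime)
  have hr1 : r = 1 := Cfsg.Agent.Lib.Helper19.PTransLin.nt1 hq.two_le hr0 hcount
  subst hr1
  rw [pow_one] at hcount
  refine ⟨by simpa using hr, by omega⟩

/-- **dihedral case** -/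
theorem dihedral_case [Finite V] [Nontrivial V] [Finite G] (hG : IsPGroup 2 G)
    (hq2 : q ≠ 2) (ρ : G →* (V ≃ₗ[ZMod q] V)) (hρ : Function.Injective ρ) (hT : HalfT ρ)
    (hns : ¬ Semireg ρ) (n : ℕ) (e : G ≃* DihedralGroup n) :
    Nat.card V = q ^ 2 ∧ ∃ m : ℕ, q = 2 ^ m - 1 ∧
      (Nonempty (G ≃* DihedralGroup (2 ^ m)) ∨
        (Cfsg.IsQuasiDihedral G ∧ Nat.card G = 2 ^ (m + 2))) := by
  have hcard : Nat.card G = 2 * n := by
    rw [Nat.card_congr e.toEquiv, DihedralGroup.nat_card]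
  have hn0 : n ≠ 0 := by
    rintro rfl
    have : 0 < Nat.card G := Nat.card_pos
    omega
  by_cases hn3 : 3 ≤ n
  · obtain ⟨C, hCi, hC⟩ := index_two_data_congr e (dihedral_index_two n hn3)
    obtain ⟨j, hj⟩ := IsPGroup.iff_card.mp hG
    have hj0 : j ≠ 0 := by
      rintro rfl
      rw [pow_zero] at hj
      omega
    obtain ⟨k, rfl⟩ : ∃ k, j = k + 1 := ⟨j - 1, by omega⟩
    have hnk : n = 2 ^ k := by
      rw [hcard, pow_succ] at hj
      omega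
    have hcount : Nat.card {g : G // orderOf g = 2 ∧ g ∉ center G} = 2 ^ k := by
      rw [card_noncentral_invol_congr e, dihedral_count n hn3, hnk]
    obtain ⟨hV, hqk⟩ := card_V_of_index_two hG hq2 ρ hρ hT hns C hCi hC k hcount
    exact ⟨hV, k, hqk, Or.inl ⟨hnk ▸ e⟩⟩
  · exfalso
    apply hns
    have hcomm : ∀ a b : DihedralGroup n, a * b = b * a := by
      have h12 : n = 1 ∨ n = 2 := by omega
      rcases h12 with rfl | rfl <;> decide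
    have hcen : ∀ t ∈ (⊤ : Subgroup G), orderOf t = 2 → t ∈ center G := by
      intro t _ _
      rw [Subgroup.mem_center_iff]
      intro g
      apply e.injective
      rw [map_mul, map_mul]
      exact hcomm _ _
    intro v hv g hg
    exact eq_one_of_mem_of_fix hG ρ
      (fun z hzc hz v hv => central_fpf ρ hρ hT hq2 z hzc hz v hv) ⊤ hcen v hv g
      (Subgroup.mem_top g) hg

/-- **quasidihedral case** -/
theorem qd_case [Finite V] [Nontrivial V] [Finite G] (hG : IsPGroup 2 G)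
    (hq2 : q ≠ 2) (ρ : G →* (V ≃ₗ[ZMod q] V)) (hρ : Function.Injective ρ) (hT : HalfT ρ)
    (hns : ¬ Semireg ρ) (hqd : Cfsg.IsQuasiDihedral G) :
    Nat.card V = q ^ 2 ∧ ∃ m : ℕ, q = 2 ^ m - 1 ∧
      (Nonempty (G ≃* DihedralGroup (2 ^ m)) ∨
        (Cfsg.IsQuasiDihedral G ∧ Nat.card G = 2 ^ (m + 2))) := by
  obtain ⟨m, x, y, h⟩ := Helper18.exists_isQD hqd
  obtain ⟨C, hCi, hC⟩ := qd_index_two h
  obtain ⟨hV, hqk⟩ := card_V_of_index_two hG hq2 ρ hρ hT hns C hCi hC (m + 2) (qd_count h)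
  exact ⟨hV, m + 2, hqk, Or.inr ⟨hqd, by rw [h.card]⟩⟩

/-- **imprimitive case** (`p = 2`) -/
theorem imprimitive_two [Finite V] [Nontrivial V] [Finite G] (hG : IsPGroup 2 G)
    (hq2 : q ≠ 2) (ρ : G →* (V ≃ₗ[ZMod q] V)) (hρ : Function.Injective ρ) (hT : HalfT ρ)
    (hns : ¬ Semireg ρ)
    (hirr : ∀ W : Submodule (ZMod q) V, (∀ g : G, ∀ w ∈ W, ρ g w ∈ W) → W = ⊥ ∨ W = ⊤)
    (H : Subgroup G) (W : Fin 2 → Submodule (ZMod q) V) (h : Imp2 ρ H W) :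
    (Nat.card V = q ^ 2 ∧ (∃ m : ℕ, q = 2 ^ m + 1) ∧
      ∃ e : V ≃ₗ[ZMod q] (Fin 2 → ZMod q),
        ∀ f : (Fin 2 → ZMod q) ≃ₗ[ZMod q] (Fin 2 → ZMod q),
        (∃ g : G, f = e.symm.trans ((ρ g).trans e)) ↔
        ∃ a s : ZMod q, a ≠ 0 ∧ (s = 1 ∨ s = -1) ∧
          ((∀ v, f v = ![a * v 0, s * a⁻¹ * v 1]) ∨ (∀ v, f v = ![s * a⁻¹ * v 1, a * v 0]))) ∨
    (Nat.card V = 81 ∧ q = 3) := by
  have hmix := mixed_fixed ρ hρ hT hirr H W h
  have htr := trans_W0 ρ H W h hmix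
  have hV := card_V_eq ρ H W h
  rcases card_W0 hG hq2 ρ H W h htr with ⟨hq3, h9⟩ | ⟨hWq, hm⟩
  · right
    rw [h9] at hV
    exact ⟨by rw [hV]; norm_num, hq3⟩
  · left
    rw [hWq] at hV
    refine ⟨hV, hm, ?_⟩
    obtain ⟨e0, e1, he0, he1, hne0, hne1, hform, hall⟩ :=
      coords_struct hq2 ρ hρ hT hns H W h hmix hWq
    exact coords_iff ρ W hV (fun w h0 h1 => h.disj h0 h1) e0 e1 he0 he1 hne0 hne1 hform hall

/-- **S3371** -/
theorem main (q : ℕ) [Fact q.Prime] {V : Type*} [AddCommGroup V] [Module (ZMod q) V] [Finite V] [Nontrivial V]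
    {G : Type*} [Group G] [Finite G] (p : ℕ) [Fact p.Prime] (hG : IsPGroup p G)
    (ρ : G →* (V ≃ₗ[ZMod q] V)) (hρ : Function.Injective ρ)
    (hhalf : ∀ v w : V, v ≠ 0 → w ≠ 0 → Nat.card {u : V | ∃ g : G, ρ g v = u} = Nat.card {u : V | ∃ g : G, ρ g w = u}) :
    ((IsCyclic G ∨ ∃ n : ℕ, Nonempty (G ≃* QuaternionGroup n)) ∧ ∀ v : V, v ≠ 0 → ∀ g : G, ρ g v = v → g = 1) ∨
    (Nat.card V = q ^ 2 ∧ ∃ m : ℕ, q = 2 ^ m - 1 ∧
      (Nonempty (G ≃* DihedralGroup (2 ^ m)) ∨ (Cfsg.IsQuasiDihedral G ∧ Nat.card G = 2 ^ (m + 2)))) ∨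
    (Nat.card V = q ^ 2 ∧ (∃ m : ℕ, q = 2 ^ m + 1) ∧
      ∃ e : V ≃ₗ[ZMod q] (Fin 2 → ZMod q), ∀ f : (Fin 2 → ZMod q) ≃ₗ[ZMod q] (Fin 2 → ZMod q),
        (∃ g : G, f = e.symm.trans ((ρ g).trans e)) ↔
        ∃ a s : ZMod q, a ≠ 0 ∧ (s = 1 ∨ s = -1) ∧
          ((∀ v, f v = ![a * v 0, s * a⁻¹ * v 1]) ∨ (∀ v, f v = ![s * a⁻¹ * v 1, a * v 0]))) ∨
    (Nat.card V = 81 ∧ q = 3 ∧ p = 2) := by
  have hT : HalfT ρ := halfT_of_orbits ρ hhalf
  by_cases hodd : p ≠ 2 ∨ p = q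
  · obtain ⟨hc, hs⟩ := cyclic_semireg_of_odd_or_same p hG ρ hρ hT hodd
    exact Or.inl ⟨Or.inl hc, hs⟩
  push Not at hodd
  obtain ⟨hp2, hpq⟩ := hodd
  subst hp2
  have hq2 : q ≠ 2 := fun h => hpq h.symm
  by_cases hs : Semireg ρ
  · exact Or.inl ⟨cyclic_or_quaternion_of_semireg hG ρ hρ hs, hs⟩
  have hall_central : (∀ t : G, orderOf t = 2 → t ∈ center G) → False := by
    intro hc
    apply hs
    intro v hv g hg
    exact eq_one_of_mem_of_fix hG ρ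
      (fun z hzc hz v hv => central_fpf ρ hρ hT hq2 z hzc hz v hv) ⊤ (fun t _ => hc t) v hv g
      (Subgroup.mem_top g) hg
  have hnc : ¬ IsCyclic G := by
    intro hcyc
    apply hall_central
    intro t _
    rw [Subgroup.mem_center_iff]
    intro g
    have := hcyc
    exact (IsCyclic.commGroup (α := G)).mul_comm g t
  have hnq : ∀ n : ℕ, ¬ Nonempty (G ≃* QuaternionGroup n) := by
    rintro n ⟨e⟩
    exact hall_central (quaternion_invol_central n e)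
  by_cases hd : ∃ n : ℕ, Nonempty (G ≃* DihedralGroup n)
  · obtain ⟨n, ⟨e⟩⟩ := hd
    exact Or.inr (Or.inl (dihedral_case hG hq2 ρ hρ hT hs n e))
  by_cases hqd : Cfsg.IsQuasiDihedral G
  · exact Or.inr (Or.inl (qd_case hG hq2 ρ hρ hT hs hqd))
  have hnd : ∀ n : ℕ, ¬ Nonempty (G ≃* DihedralGroup n) := fun n hn => hd ⟨n, hn⟩
  have hirr := irreducible_of_not_semireg 2 hpq hG ρ hρ hT hs
  obtain ⟨H, W, hidx, hsup, hind, hinv, hker, hswap⟩ :=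
    Cfsg.Agent.S3380.result q 2 hG ρ hρ hirr hnc hnq hnd hqd
  have h : Imp2 ρ H W := ⟨hidx, hsup, hind, hinv, hker, hswap⟩
  rcases imprimitive_two hG hq2 ρ hρ hT hs hirr H W h with h3 | ⟨h81, hq3⟩
  · exact Or.inr (Or.inr (Or.inl h3))
  · exact Or.inr (Or.inr (Or.inr ⟨h81, hq3, rfl⟩))

end Cfsg.Agent.Lib.Helper26.HTMain
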