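/-
helper26: S4715 leaf BS (`bessel_le_one`): Bessel inequality for pairwise orthogonal projections.
Planner helper6, notes/S4715_leaves.lean.
-/
import Mathlib

set_option autoImplicit false

namespace Cfsg.Agent.Lib.Helper26.HtBoundBS

open scoped ComplexConjugate

/-- (BS) Bessel -/
theorem bessel_le_one {X : Type*} [Fintype X] {ι : Type*} (R : Finset ι) (f : X → ℂ)
    (Θ : ι → X → ℂ) (κ : ι → ℝ) (N : ℝ) (hN : 0 < N)
    (hf : ∑ x, f x * conj (f x) = (N : ℂ))
    (h1 : ∀ i ∈ R, ∑ x, f x * conj (Θ i x) = (N : ℂ) * (κ i : ℂ))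
    (h2 : ∀ i ∈ R, ∑ x, Θ i x * conj (Θ i x) = (N : ℂ) * (κ i : ℂ))
    (h3 : ∀ i ∈ R, ∀ j ∈ R, i ≠ j → ∑ x, Θ i x * conj (Θ j x) = 0) :
    ∑ i ∈ R, κ i ≤ 1 := by
  classical
  set T : X → ℂ := fun x => ∑ i ∈ R, Θ i x with hT
  -- the four pieces
  have e1 : ∑ x, f x * conj (T x) = (N : ℂ) * ((∑ i ∈ R, κ i : ℝ) : ℂ) := by
    simp only [hT, map_sum, Finset.mul_sum]
    rw [Finset.sum_comm]
    rw [Complex.ofReal_sum, Finset.mul_sum]
    exact Finset.sum_congr rfl (fun i hi => h1 i hi)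
  have e2 : ∑ x, T x * conj (f x) = (N : ℂ) * ((∑ i ∈ R, κ i : ℝ) : ℂ) := by
    have : ∑ x, T x * conj (f x) = conj (∑ x, f x * conj (T x)) := by
      rw [map_sum]
      apply Finset.sum_congr rfl
      intro x _
      rw [map_mul, Complex.conj_conj, mul_comm]
    rw [this, e1, map_mul, Complex.conj_ofReal, Complex.conj_ofReal]
  have e3 : ∑ x, T x * conj (T x) = (N : ℂ) * ((∑ i ∈ R, κ i : ℝ) : ℂ) := by
    simp only [hT, map_sum, Finset.sum_mul, Finset.mul_sum]
    rw [Finset.sum_comm]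
    rw [Complex.ofReal_sum, Finset.mul_sum]
    apply Finset.sum_congr rfl
    intro i hi
    rw [Finset.sum_comm]
    rw [Finset.sum_eq_single i]
    · exact h2 i hi
    · intro j hj hji
      exact h3 j hj i hi hji
    · intro h; exact absurd hi h
  have hexp : ∑ x, (f x - T x) * conj (f x - T x) =
      (N : ℂ) * ((1 - ∑ i ∈ R, κ i : ℝ) : ℂ) := by
    have : ∀ x, (f x - T x) * conj (f x - T x) =
        f x * conj (f x) - f x * conj (T x) - T x * conj (f x) + T x * conj (T x) := by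
      intro x
      rw [map_sub]
      ring
    simp only [this, Finset.sum_add_distrib, Finset.sum_sub_distrib]
    rw [hf, e1, e2, e3]
    push_cast
    ring
  have hnn : 0 ≤ N * (1 - ∑ i ∈ R, κ i) := by
    have hre : (∑ x, (f x - T x) * conj (f x - T x)) =
        ((∑ x, Complex.normSq (f x - T x) : ℝ) : ℂ) := by
      rw [Complex.ofReal_sum]
      apply Finset.sum_congr rfl
      intro x _
      rw [Complex.mul_conj]
    rw [hre] at hexp
    have h' : (∑ x, Complex.normSq (f x - T x) : ℝ) = N * (1 - ∑ i ∈ R, κ i) := by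
      have := hexp
      rw [← Complex.ofReal_mul] at this
      exact Complex.ofReal_injective this
    rw [← h']
    exact Finset.sum_nonneg (fun x _ => Complex.normSq_nonneg _)
  have : 0 ≤ 1 - ∑ i ∈ R, κ i := by
    by_contra hneg
    push Not at hneg
    have := mul_neg_of_pos_of_neg hN hneg
    linarith
  linarith

end Cfsg.Agent.Lib.Helper26.HtBoundBS
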