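/-
helper26: S4715 leaf RP (`exists_reps`): representatives of maximal weight of the classes of a setoid.
Planner helper6, notes/S4715_leaves.lean.
-/
import Mathlib

set_option autoImplicit false

namespace Cfsg.Agent.Lib.Helper26.HtBoundRP

/-- (RP) representatives of maximal weight -/
theorem exists_reps {ι : Type*} [Fintype ι] (s : Setoid ι) (e : ℕ)
    (hcls : ∀ i : ι, Nat.card {j : ι // s.r i j} ≤ e) (κ : ι → ℝ) (hκ : ∀ i, 0 ≤ κ i) :
    ∃ R : Finset ι, (∀ i ∈ R, ∀ j ∈ R, s.r i j → i = j) ∧
      ∑ i, κ i ≤ (e : ℝ) * ∑ i ∈ R, κ i := by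
  classical
  let _ : Fintype (Quotient s) := Fintype.ofFinite _
  have hrep : ∀ q : Quotient s, ∃ r : ι, Quotient.mk s r = q ∧
      ∀ j, Quotient.mk s j = q → κ j ≤ κ r := by
    intro q
    have hne : (Finset.univ.filter (fun j : ι => Quotient.mk s j = q)).Nonempty := by
      obtain ⟨j, hj⟩ := Quotient.exists_rep q
      exact ⟨j, by simp [hj]⟩
    obtain ⟨r, hr, hmax⟩ := Finset.exists_max_image _ κ hne
    refine ⟨r, (Finset.mem_filter.mp hr).2, ?_⟩
    intro j hj
    exact hmax j (by simp [hj])
  choose rep hrepq hrepmax using hrep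
  have hinj : Function.Injective rep := by
    intro q q' h
    rw [← hrepq q, ← hrepq q', h]
  refine ⟨Finset.univ.image rep, ?_, ?_⟩
  · intro i hi j hj hij
    obtain ⟨q, -, rfl⟩ := Finset.mem_image.mp hi
    obtain ⟨q', -, rfl⟩ := Finset.mem_image.mp hj
    have : Quotient.mk s (rep q) = Quotient.mk s (rep q') := Quotient.sound hij
    rw [hrepq, hrepq] at this
    rw [this]
  · rw [Finset.sum_image (fun a _ b _ h => hinj h)]
    rw [← Finset.sum_fiberwise Finset.univ (fun j : ι => Quotient.mk s j) κ]
    rw [Finset.mul_sum]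
    apply Finset.sum_le_sum
    intro q _
    have hcard : ((Finset.univ.filter (fun j : ι => Quotient.mk s j = q)).card : ℝ) ≤ e := by
      have h1 := hcls (rep q)
      have h2 : Nat.card {j : ι // s.r (rep q) j} =
          (Finset.univ.filter (fun j : ι => Quotient.mk s j = q)).card := by
        rw [Nat.card_eq_fintype_card, Fintype.card_subtype]
        congr 1
        ext j
        simp only [Finset.mem_filter, Finset.mem_univ, true_and]
        constructor
        · intro h
          rw [← hrepq q]
          exact (Quotient.sound h).symm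
        · intro h
          have : Quotient.mk s (rep q) = Quotient.mk s j := by rw [hrepq, h]
          exact Quotient.exact this
      rw [h2] at h1
      exact_mod_cast h1
    calc ∑ j ∈ Finset.univ.filter (fun j : ι => Quotient.mk s j = q), κ j
        ≤ ∑ _j ∈ Finset.univ.filter (fun j : ι => Quotient.mk s j = q), κ (rep q) := by
          apply Finset.sum_le_sum
          intro j hj
          exact hrepmax q j (Finset.mem_filter.mp hj).2
      _ = ((Finset.univ.filter (fun j : ι => Quotient.mk s j = q)).card : ℝ) * κ (rep q) := by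
          rw [Finset.sum_const, nsmul_eq_mul]
      _ ≤ (e : ℝ) * κ (rep q) := mul_le_mul_of_nonneg_right hcard (hκ _)

end Cfsg.Agent.Lib.Helper26.HtBoundRP
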