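import Mathlib
import Cfsg.Agent.Lib.Helper22.FFAbF
import Cfsg.Agent.Lib.Helper27.Thompson
import Cfsg.Agent.Lib.Helper17.BGFitA
import Cfsg.Agent.S2941
import Cfsg.Agent.Lib.Helper17.WStable3
import Cfsg.Prelude.Def_JComponents
import Cfsg.Agent.Lib.Helper18.JSubDefs

/-! S2942 market "JSUB": leaf D1 (`sylow_inf_centralizer_Wm_le`). -/

set_option autoImplicit false
set_option linter.unusedSectionVars false
set_option linter.style.haveILetI false

namespace Cfsg.Agent.Lib.Helper26.JSubLeaf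

open Subgroup
open scoped commutatorElement
open Cfsg.Agent.Lib.Helper8.Bridge Cfsg.Agent.Lib.Helper8.FFOff Cfsg.Agent.Lib.Helper22.FFAb
open Cfsg.Agent.Lib.Helper18.JSub

section X
universe u
variable {X : Type u} [Group X] [Finite X] [Group.IsSolvable X]
  (hF : Cfsg.fittingSubgroup X = Cfsg.pCore 2 X) (T : Sylow 2 X)

/-- `C_X(W) ≤ N_X(T)` -/
theorem centralizer_Wm_le_normalizer26
    (hZX : centralizer ((ZT T : Subgroup X) : Set X) ≤ normalizer ((T : Subgroup X) : Set X)) :
    centralizer ((Wm hF T : Subgroup X) : Set X) ≤ normalizer ((T : Subgroup X) : Set X) := by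
  rw [centralizer_Wm hF T]
  exact (normalCore_le _).trans hZX

/-- LEAF D1 -/
theorem sylow_inf_centralizer_Wm_le
    (hZX : centralizer ((ZT T : Subgroup X) : Set X) ≤ normalizer ((T : Subgroup X) : Set X)) :
    (T : Subgroup X) ⊓ centralizer ((Wm hF T : Subgroup X) : Set X) ≤ Cfsg.pCore 2 X := by
  have hCN := centralizer_Wm_le_normalizer26 hF T hZX
  have hCn : (centralizer ((Wm hF T : Subgroup X) : Set X)).Normal := normal_centralizer
  set C := centralizer ((Wm hF T : Subgroup X) : Set X) with hC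
  have hp : IsPGroup 2 ((T : Subgroup X) ⊓ C : Subgroup X) := T.isPGroup'.to_le inf_le_left
  apply Cfsg.Agent.Lib.Helper1.le_pCore _ hp
  constructor
  intro n hn g
  have hnT : n ∈ (T : Subgroup X) := (mem_inf.mp hn).1
  have hnC : n ∈ C := (mem_inf.mp hn).2
  have hyC : g * n * g⁻¹ ∈ C := hCn.conj_mem n hnC g
  refine mem_inf.mpr ⟨?_, hyC⟩
  -- the 2-group generated by the conjugate normalizes `T`
  have hz : IsPGroup 2 (zpowers (g * n * g⁻¹)) := by
    have h1 : IsPGroup 2 (zpowers n) := T.isPGroup'.to_le (zpowers_le.mpr hnT)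
    have h2 : zpowers (g * n * g⁻¹) = (zpowers n).map (MulAut.conj g).toMonoidHom := by
      rw [MonoidHom.map_zpowers]
      rfl
    rw [h2]
    exact h1.map _
  have h3 := hz.inf_normalizer_sylow T
  have h4 : g * n * g⁻¹ ∈ zpowers (g * n * g⁻¹) ⊓ normalizer ((T : Subgroup X) : Set X) :=
    mem_inf.mpr ⟨mem_zpowers _, hCN hyC⟩
  have h5 := h3.le h4
  exact (mem_inf.mp h5).2

end X

end Cfsg.Agent.Lib.Helper26.JSubLeaf
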