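import Mathlib
import Cfsg.Agent.Lib.Helper22.FFAbF
import Cfsg.Agent.Lib.Helper27.Thompson
import Cfsg.Agent.Lib.Helper17.BGFitA
import Cfsg.Agent.S2941
import Cfsg.Agent.Lib.Helper17.WStable3
import Cfsg.Prelude.Def_JComponents
import Cfsg.Agent.Lib.Helper18.JSubDefs
import Cfsg.Agent.Lib.Helper26.JSubD1

/-! S2942 market "JSUB": leaf D2 (`comm_mem_pCore`). -/

set_option autoImplicit false
set_option linter.unusedSectionVars false
set_option linter.style.haveILetI false

namespace Cfsg.Agent.Lib.Helper26.JSubLeaf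

open Subgroup
open scoped commutatorElement
open Cfsg.Agent.Lib.Helper8.Bridge Cfsg.Agent.Lib.Helper8.FFOff Cfsg.Agent.Lib.Helper22.FFAb
open Cfsg.Agent.Lib.Helper18.JSub

section X
universe u
variable {X : Type u} [Group X] [Finite X] [Group.IsSolvable X]
  (hF : Cfsg.fittingSubgroup X = Cfsg.pCore 2 X) (T : Sylow 2 X)

/-- LEAF D2 -/
theorem comm_mem_pCore
    (hZX : centralizer ((ZT T : Subgroup X) : Set X) ≤ normalizer ((T : Subgroup X) : Set X))
    (hD1 : (T : Subgroup X) ⊓ centralizer ((Wm hF T : Subgroup X) : Set X) ≤ Cfsg.pCore 2 X)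
    {c x : X} (hc : c ∈ centralizer ((Wm hF T : Subgroup X) : Set X))
    (hx : x ∈ normalClosure (((T : Subgroup X) : Subgroup X) : Set X)) :
    ⁅c, x⁆ ∈ Cfsg.pCore 2 X := by
  have hCN := centralizer_Wm_le_normalizer26 hF T hZX
  have hCn : (centralizer ((Wm hF T : Subgroup X) : Set X)).Normal := normal_centralizer
  have hQn : (Cfsg.pCore 2 X).Normal := Cfsg.Agent.Lib.Helper1.pCore_normal 2 X
  set C := centralizer ((Wm hF T : Subgroup X) : Set X) with hC
  set Q := Cfsg.pCore 2 X with hQ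
  -- the subgroup of all `x` with `[C, x] ≤ Q`, as the preimage of a centralizer in `X ⧸ Q`
  let M : Subgroup X := (centralizer ((C.map (QuotientGroup.mk' Q) : Subgroup (X ⧸ Q)) : Set (X ⧸ Q))).comap
    (QuotientGroup.mk' Q)
  have hCmn : (C.map (QuotientGroup.mk' Q)).Normal :=
    hCn.map _ (QuotientGroup.mk'_surjective Q)
  have hMn : M.Normal := by
    have : (centralizer ((C.map (QuotientGroup.mk' Q) : Subgroup (X ⧸ Q)) : Set (X ⧸ Q))).Normal :=
      normal_centralizer
    exact this.comap _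
  have hTM : (T : Subgroup X) ≤ M := by
    intro t ht
    show QuotientGroup.mk' Q t ∈ centralizer ((C.map (QuotientGroup.mk' Q) : Subgroup (X ⧸ Q)) : Set (X ⧸ Q))
    rw [mem_centralizer_iff]
    rintro _ ⟨c', hc', rfl⟩
    -- `[c', t] ∈ T ∩ C ≤ Q`
    have h1 : c' * t * c'⁻¹ ∈ (T : Subgroup X) := by
      have := hCN hc'
      rw [mem_normalizer_iff] at this
      exact (this t).mp ht
    have h2 : c' * t * c'⁻¹ * t⁻¹ ∈ (T : Subgroup X) := mul_mem h1 (inv_mem ht)
    have h3 : c' * t * c'⁻¹ * t⁻¹ ∈ C := by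
      have h4 : t * c'⁻¹ * t⁻¹ ∈ C := hCn.conj_mem _ (inv_mem hc') t
      have : c' * t * c'⁻¹ * t⁻¹ = c' * (t * c'⁻¹ * t⁻¹) := by group
      rw [this]
      exact mul_mem hc' h4
    have h5 : c' * t * c'⁻¹ * t⁻¹ ∈ Q := hD1 (mem_inf.mpr ⟨h2, h3⟩)
    have h6 : QuotientGroup.mk' Q (c' * t * c'⁻¹ * t⁻¹) = 1 := by
      rw [← MonoidHom.mem_ker, QuotientGroup.ker_mk']
      exact h5
    rw [map_mul, map_mul, map_mul, map_inv, map_inv] at h6
    have : (QuotientGroup.mk' Q) c' * (QuotientGroup.mk' Q) t =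
        (QuotientGroup.mk' Q) t * (QuotientGroup.mk' Q) c' := by
      have := mul_inv_eq_one.mp h6
      rw [mul_inv_eq_iff_eq_mul] at this
      exact this
    exact this
  have hLM : normalClosure (((T : Subgroup X) : Subgroup X) : Set X) ≤ M :=
    normalClosure_le_normal hTM
  have hxM := hLM hx
  have hxM' : QuotientGroup.mk' Q x ∈ centralizer ((C.map (QuotientGroup.mk' Q) : Subgroup (X ⧸ Q)) : Set (X ⧸ Q)) :=
    hxM
  rw [mem_centralizer_iff] at hxM'
  have h7 := hxM' (QuotientGroup.mk' Q c) ⟨c, hc, rfl⟩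
  -- translate back
  have h8 : QuotientGroup.mk' Q ⁅c, x⁆ = 1 := by
    rw [commutatorElement_def, map_mul, map_mul, map_mul, map_inv, map_inv, h7]
    group
  rw [← MonoidHom.mem_ker, QuotientGroup.ker_mk'] at h8
  exact h8

end X

end Cfsg.Agent.Lib.Helper26.JSubLeaf
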