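import Cfsg.Agent.Lib.Helper26.LLemA

/-! L-Lemma (S2834), part B: relative `p`-minimal structures, the conclusion `Good`, its conjugation
invariance, the reduction to `O_p(K) ≤ A`, and the case of a unique conjugate of `M` (helper26). -/

set_option autoImplicit false
set_option linter.unusedSectionVars false
set_option linter.style.haveILetI false
open Cfsg

namespace Cfsg.Agent.Lib.Helper26.LLem

open Cfsg.Agent.Lib.Helper16

variable {G : Type*} [Group G] {p : ℕ}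

/-- `K` is `p`-minimal over its maximal `p`-subgroup `T`, with unique maximal subgroup `M ≥ T`. -/
structure PMin (p : ℕ) (K T M : Subgroup G) : Prop where
  maxP : IsMaxP p K T
  hTM : T ≤ M
  hMK : M < K
  huniq : ∀ X : Subgroup G, T ≤ X → X < K → X ≤ M
  hnn : ∀ k ∈ K, cj k M = M → k ∈ M

/-- the conclusion of the L-Lemma for `A` in `K` (relative to `M`). -/
structure Good (p : ℕ) (K M A L L₀ : Subgroup G) (g : G) : Prop where
  hLK : L ≤ K
  hg : g ∈ K
  hAQ : A ⊔ pCoreOf p K ≤ L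
  hB : A ⊔ pCoreOf p L ≤ L₀
  hlt : L₀ < L
  hmax : ∀ X : Subgroup G, A ⊔ pCoreOf p L ≤ X → X < L → X ≤ L₀
  heq : L₀ = L ⊓ cj g M
  hgen : ∀ x ∈ L, x ∉ L₀ → A ⊔ cj x A ⊔ pCoreOf p L = L

theorem PMin.cj_mem {K T M : Subgroup G} (h : PMin p K T M) {k : G} (hk : k ∈ K) :
    PMin p K (cj k T) (cj k M) := by
  have hK : cj k K = K := cj_eq_self_of_mem hk
  have hK' : cj k⁻¹ K = K := cj_eq_self_of_mem (K.inv_mem hk)
  refine ⟨?_, cj_mono k h.hTM, ?_, ?_, ?_⟩
  · have := h.maxP.cj k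
    rwa [hK] at this
  · have := (cj_lt_cj_iff k).mpr h.hMK
    rwa [hK] at this
  · intro X hTX hXK
    rw [le_cj_iff]
    apply h.huniq
    · rwa [← cj_le_iff]
    · have := (cj_lt_cj_iff k⁻¹).mpr hXK
      rwa [hK'] at this
  · intro k' hk' hk'M
    rw [mem_cj_iff]
    apply h.hnn _ (K.mul_mem (K.mul_mem (K.inv_mem hk) hk') hk)
    rw [cj_cj] at hk'M
    have := congrArg (LLem.cj k⁻¹) hk'M
    rwa [cj_cj, cj_inv_cj, ← mul_assoc] at this

theorem good_cj [Finite G] [Fact p.Prime] {K M A L L₀ : Subgroup G} {g : G}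
    (h : Good p K M A L L₀ g) {n : G} (hn : n ∈ K) :
    Good p K M (cj n A) (cj n L) (cj n L₀) (n * g) := by
  obtain ⟨h1, h2, h3, h4, h5, h6, h7, h8⟩ := h
  have hQ : cj n (pCoreOf p K) = pCoreOf p K := cj_pCoreOf_of_mem hn
  refine ⟨cj_le_of_mem hn h1, K.mul_mem hn h2, ?_, ?_, (cj_lt_cj_iff n).mpr h5, ?_, ?_, ?_⟩
  · rw [← hQ, ← cj_sup]
    exact cj_mono n h3
  · rw [pCoreOf_cj, ← cj_sup]
    exact cj_mono n h4
  · intro X hX hXL
    rw [pCoreOf_cj, ← cj_sup, cj_le_iff] at hX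
    rw [le_cj_iff]
    apply h6 _ hX
    have := (cj_lt_cj_iff n⁻¹).mpr hXL
    rwa [cj_inv_cj] at this
  · rw [h7, cj_inf, cj_cj]
  · intro x hx hx0
    rw [mem_cj_iff] at hx hx0
    have := h8 _ hx hx0
    have h9 := congrArg (LLem.cj n) this
    rw [cj_sup, cj_sup, cj_cj] at h9
    have e : n * (n⁻¹ * x * n) = x * n := by group
    rw [e] at h9
    rw [cj_cj, pCoreOf_cj]
    exact h9

theorem pCoreOf_le_pCoreOf_of_le [Finite G] [Fact p.Prime] {K L : Subgroup G} (hLK : L ≤ K)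
    (hQL : pCoreOf p K ≤ L) : pCoreOf p K ≤ pCoreOf p L :=
  le_pCoreOf hQL (hLK.trans (le_normalizer_pCoreOf K)) (pCoreOf_isPGroup K)

/-- Step 0: it suffices to treat `A ⊔ O_p(K)`. -/
theorem good_of_sup [Finite G] [Fact p.Prime] {K M A L L₀ : Subgroup G} {g : G}
    (h : Good p K M (A ⊔ pCoreOf p K) L L₀ g) : Good p K M A L L₀ g := by
  obtain ⟨h1, h2, h3, h4, h5, h6, h7, h8⟩ := h
  have hQL : pCoreOf p K ≤ L := le_trans le_sup_right h3
  have hQ : pCoreOf p K ≤ pCoreOf p L := pCoreOf_le_pCoreOf_of_le h1 hQL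
  have hAL : A ≤ L := le_trans (le_trans le_sup_left le_sup_left) h3
  have h3' : A ⊔ pCoreOf p K ≤ L := sup_le hAL hQL
  have h4' : A ⊔ pCoreOf p L ≤ L₀ :=
    sup_le (le_trans (le_trans le_sup_left le_sup_left) h4) (le_trans le_sup_right h4)
  refine ⟨h1, h2, h3', h4', h5, ?_, h7, ?_⟩
  · intro X hX hXL
    apply h6 X _ hXL
    exact sup_le (sup_le (le_trans le_sup_left hX) (le_trans hQ (le_trans le_sup_right hX)))
      (le_trans le_sup_right hX)
  · intro x hx hx0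
    have := h8 x hx hx0
    apply le_antisymm
    · exact sup_le (sup_le hAL (cj_le_of_mem hx hAL)) (pCoreOf_le L)
    · have hxQ : LLem.cj x (pCoreOf p K) = pCoreOf p K := cj_pCoreOf_of_mem (h1 hx)
      set R : Subgroup G := A ⊔ LLem.cj x A ⊔ pCoreOf p L with hR
      have e1 : A ≤ R := le_trans le_sup_left le_sup_left
      have e2 : LLem.cj x A ≤ R := le_trans le_sup_right le_sup_left
      have e3 : pCoreOf p L ≤ R := le_sup_right
      have e4 : pCoreOf p K ≤ R := hQ.trans e3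
      have e5 : LLem.cj x (A ⊔ pCoreOf p K) ≤ R := by
        rw [cj_sup, hxQ]
        exact sup_le e2 e4
      rw [← this]
      exact sup_le (sup_le (sup_le e1 e4) e5) e3

theorem isPGroup_sup_pCoreOf [Finite G] [Fact p.Prime] {A L : Subgroup G} (hA : IsPGroup p A)
    (hAL : A ≤ L) : IsPGroup p ↥(A ⊔ pCoreOf p L) :=
  IsPGroup.to_sup_of_normal_right' hA (pCoreOf_isPGroup L) (hAL.trans (le_normalizer_pCoreOf L))

/-- Step 1: `A` lies in no other conjugate of `M`. -/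
theorem step1 [Finite G] [Fact p.Prime] {K T M A : Subgroup G} (h : PMin p K T M) (hAT : A ≤ T)
    (hQA : pCoreOf p K ≤ A) (huA : ∀ k ∈ K, A ≤ cj k M → cj k M = M) :
    ∃ L L₀ g, Good p K M A L L₀ g := by
  classical
  have hAp : IsPGroup p A := h.maxP.2.1.to_le hAT
  have hAK : A ≤ K := hAT.trans h.maxP.1
  let 𝒮 : Set (Subgroup G) := {L | L ≤ K ∧ A ≤ L ∧ ¬ L ≤ M}
  have hne : 𝒮.Nonempty := ⟨K, le_rfl, hAK, fun hKM => (lt_irrefl _ (lt_of_lt_of_le h.hMK hKM))⟩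
  obtain ⟨L, hL, hLmin⟩ := (wellFounded_lt (α := Subgroup G)).has_min 𝒮 hne
  obtain ⟨hLK, hAL, hLM⟩ := hL
  have hmin : ∀ X : Subgroup G, A ≤ X → X < L → X ≤ M := by
    intro X hAX hXL
    by_contra hXM
    exact hLmin X ⟨hXL.le.trans hLK, hAX, hXM⟩ hXL
  have hLnp : ¬ IsPGroup p L := by
    intro hLp
    obtain ⟨k, hk, hLk⟩ := exists_cj_le h.maxP hLK hLp
    have h1 : L ≤ LLem.cj k M := hLk.trans (cj_mono k h.hTM)
    have h2 := huA k hk (hAL.trans h1)
    rw [h2] at h1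
    exact hLM h1
  have hB : A ⊔ pCoreOf p L < L := by
    refine lt_of_le_of_ne (sup_le hAL (pCoreOf_le L)) ?_
    intro hBL
    apply hLnp
    have := isPGroup_sup_pCoreOf hAp hAL
    rwa [hBL] at this
  refine ⟨L, L ⊓ M, 1, hLK, K.one_mem, sup_le hAL (hQA.trans hAL), ?_, ?_, ?_, ?_, ?_⟩
  · exact le_inf hB.le (hmin _ le_sup_left hB)
  · refine lt_of_le_of_ne inf_le_left ?_
    intro hLL
    apply hLM
    rw [← hLL]; exact inf_le_right
  · intro X hX hXL
    exact le_inf hXL.le (hmin X (le_trans le_sup_left hX) hXL)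
  · rw [cj_one]
  · intro x hx hx0
    by_contra hne'
    have hY : A ⊔ LLem.cj x A ⊔ pCoreOf p L < L :=
      lt_of_le_of_ne (sup_le (sup_le hAL (cj_le_of_mem hx hAL)) (pCoreOf_le L)) hne'
    have hYM := hmin _ (le_trans le_sup_left le_sup_left) hY
    have hxA : LLem.cj x A ≤ M := le_trans (le_trans le_sup_right le_sup_left) hYM
    rw [cj_le_iff] at hxA
    have h3 := huA x⁻¹ (K.inv_mem (hLK hx)) hxA
    have h4 := h.hnn x⁻¹ (K.inv_mem (hLK hx)) h3
    apply hx0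
    exact ⟨hx, by simpa using M.inv_mem h4⟩

end Cfsg.Agent.Lib.Helper26.LLem
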