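import Cfsg.Agent.Lib.Helper26.LLemB

/-! L-Lemma (S2834), part C: a good `L` is again `p`-minimal; lifting the conclusion from `L'` to `K`;
normalizer growth in `p`-groups (helper26). -/

set_option autoImplicit false
set_option linter.unusedSectionVars false
set_option linter.style.haveILetI false
open Cfsg

namespace Cfsg.Agent.Lib.Helper26.LLem

open Cfsg.Agent.Lib.Helper16

variable {G : Type*} [Group G] {p : ℕ}

theorem pCoreOf_eq_self_of_isPGroup [Finite G] [Fact p.Prime] {L : Subgroup G} (hL : IsPGroup p L) :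
    pCoreOf p L = L :=
  le_antisymm (pCoreOf_le L) (le_pCoreOf le_rfl Subgroup.le_normalizer hL)

/-- `O_p(K)` lies in every maximal `p`-subgroup of `K`. -/
theorem pCoreOf_le_of_isMaxP [Finite G] [Fact p.Prime] {K T : Subgroup G} (hT : IsMaxP p K T) :
    pCoreOf p K ≤ T := by
  have h1 : IsPGroup p ↥(T ⊔ pCoreOf p K) := isPGroup_sup_pCoreOf hT.2.1 hT.1
  have h2 := hT.2.2 _ (sup_le hT.1 (pCoreOf_le K)) h1 le_sup_left
  rw [← h2]; exact le_sup_right

/-- a good `L` is `p`-minimal over a maximal `p`-subgroup containing `A ⊔ O_p(L)`. -/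
theorem pmin_of_good [Finite G] [Fact p.Prime] {K M A L L₀ : Subgroup G} {g : G}
    (h : Good p K M A L L₀ g) (hA : IsPGroup p A) :
    ∃ S : Subgroup G, PMin p L S L₀ ∧ A ⊔ pCoreOf p L ≤ S := by
  classical
  have hAL : A ≤ L := le_trans le_sup_left h.hAQ
  have hBp : IsPGroup p ↥(A ⊔ pCoreOf p L) := isPGroup_sup_pCoreOf hA hAL
  have hLnp : ¬ IsPGroup p L := by
    intro hLp
    have h1 : pCoreOf p L = L := pCoreOf_eq_self_of_isPGroup hLp
    have h2 : L ≤ L₀ := by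
      calc L = pCoreOf p L := h1.symm
        _ ≤ A ⊔ pCoreOf p L := le_sup_right
        _ ≤ L₀ := h.hB
    exact lt_irrefl _ (lt_of_lt_of_le h.hlt h2)
  let 𝒮 : Set (Subgroup G) := {P | A ⊔ pCoreOf p L ≤ P ∧ P ≤ L₀ ∧ IsPGroup p P}
  have hne : 𝒮.Nonempty := ⟨A ⊔ pCoreOf p L, le_rfl, h.hB, hBp⟩
  obtain ⟨S, hS, hSmax⟩ := (wellFounded_gt (α := Subgroup G)).has_min 𝒮 hne
  obtain ⟨hBS, hSL₀, hSp⟩ := hS
  have hprop : ∀ P : Subgroup G, P ≤ L → IsPGroup p P → S ≤ P → P ≤ L₀ := by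
    intro P hPL hPp hSP
    have hPlt : P < L := lt_of_le_of_ne hPL (fun hPe => hLnp (hPe ▸ hPp))
    exact h.hmax P (hBS.trans hSP) hPlt
  refine ⟨S, ⟨⟨hSL₀.trans h.hlt.le, hSp, ?_⟩, hSL₀, h.hlt, ?_, ?_⟩, hBS⟩
  · intro P hPL hPp hSP
    by_contra hne'
    have hlt : S < P := lt_of_le_of_ne hSP (Ne.symm hne')
    exact hSmax P ⟨hBS.trans hSP, hprop P hPL hPp hSP, hPp⟩ hlt
  · intro X hSX hXL
    exact h.hmax X (hBS.trans hSX) hXL
  · intro k hk hkL₀
    by_contra hk0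
    have h1 := h.hgen k hk hk0
    have hA0 : A ≤ L₀ := le_trans le_sup_left h.hB
    have h2 : LLem.cj k A ≤ L₀ := by
      have := cj_mono k hA0
      rwa [hkL₀] at this
    have h3 : L ≤ L₀ := by
      rw [← h1]
      exact sup_le (sup_le hA0 h2) (le_trans le_sup_right h.hB)
    exact lt_irrefl _ (lt_of_lt_of_le h.hlt h3)

/-- lifting a good configuration from `L'` to `K`. -/
theorem good_lift [Finite G] [Fact p.Prime] {K M L' L'₀ A L L₀ : Subgroup G} {g' y : G}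
    (hL'K : L' ≤ K) (hg' : g' ∈ K) (heq' : L'₀ = L' ⊓ cj g' M)
    (hQ : pCoreOf p K ≤ pCoreOf p L') (h : Good p L' L'₀ A L L₀ y) :
    Good p K M A L L₀ (y * g') := by
  refine ⟨h.hLK.trans hL'K, K.mul_mem (hL'K h.hg) hg', ?_, h.hB, h.hlt, h.hmax, ?_, h.hgen⟩
  · exact sup_le (le_trans le_sup_left h.hAQ) (le_trans hQ (le_trans le_sup_right h.hAQ))
  · rw [h.heq, heq', cj_inf, cj_cj, cj_eq_self_of_mem h.hg, ← inf_assoc,
      inf_eq_left.mpr h.hLK]

/-- changing the reference subgroup `M` to a conjugate. -/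
theorem good_of_cj [Finite G] [Fact p.Prime] {K M A L L₀ : Subgroup G} {g k : G} (hk : k ∈ K)
    (h : Good p K (cj k M) A L L₀ g) : Good p K M A L L₀ (g * k) := by
  refine ⟨h.hLK, K.mul_mem h.hg hk, h.hAQ, h.hB, h.hlt, h.hmax, ?_, h.hgen⟩
  rw [h.heq, cj_cj]

/-- normalizer growth in a finite `p`-group, elementwise. -/
theorem exists_normalizing_not_mem [Finite G] [Fact p.Prime] {T D : Subgroup G} (hT : IsPGroup p T)
    (hDT : D < T) : ∃ t ∈ T, t ∉ D ∧ cj t D = D := by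
  haveI : Group.IsNilpotent ↥T := hT.isNilpotent
  have hlt : D.subgroupOf T < ⊤ := by
    rw [lt_top_iff_ne_top]
    intro htop
    rw [Subgroup.subgroupOf_eq_top] at htop
    exact lt_irrefl _ (lt_of_lt_of_le hDT htop)
  have hnc := Group.normalizerCondition_of_isNilpotent (G := ↥T) (D.subgroupOf T) hlt
  obtain ⟨t, htN, htD⟩ := SetLike.exists_of_lt hnc
  refine ⟨t, t.2, fun h => htD (Subgroup.mem_subgroupOf.mpr h), ?_⟩
  apply mem_normalizer_iff_cj.mp
  apply mem_normalizer_of_map_conj_le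
  rintro _ ⟨d, hd, rfl⟩
  have hdT : d ∈ T := hDT.le hd
  have h1 := (Subgroup.mem_normalizer_iff.mp htN ⟨d, hdT⟩).mp (Subgroup.mem_subgroupOf.mpr hd)
  rw [Subgroup.mem_subgroupOf] at h1
  simpa using h1

end Cfsg.Agent.Lib.Helper26.LLem
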