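import Cfsg.Agent.Lib.Helper26.LLemC

/-! L-Lemma (S2834), part D: the main induction (helper26). -/

set_option autoImplicit false
set_option linter.unusedSectionVars false
set_option linter.style.haveILetI false
open Cfsg

namespace Cfsg.Agent.Lib.Helper26.LLem

open Cfsg.Agent.Lib.Helper16

variable {G : Type*} [Group G] {p : ℕ}

theorem card_lt_of_lt' [Finite G] {A B : Subgroup G} (h : A < B) : Nat.card A < Nat.card B := by
  by_contra hc
  push Not at hc
  exact h.ne (Subgroup.eq_of_le_of_card_ge h.le hc)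

theorem sub_card_lt [Finite G] {K A B : Subgroup G} (hAB : A < B) (hBK : B ≤ K) :
    Nat.card K - Nat.card B < Nat.card K - Nat.card A := by
  have h1 := card_lt_of_lt' hAB
  have h2 : Nat.card B ≤ Nat.card K := Subgroup.card_le_of_le hBK
  omega

set_option maxHeartbeats 1000000 in
/-- the L-Lemma, relative form. -/
theorem main [Finite G] [Fact p.Prime] : ∀ (n : ℕ) (K : Subgroup G), Nat.card K = n →
    ∀ (m : ℕ) (T M A : Subgroup G), PMin p K T M → A ≤ T → ¬ A ≤ pCoreOf p K →
      Nat.card K - Nat.card A = m → ∃ L L₀ g, Good p K M A L L₀ g := by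
  intro n
  induction n using Nat.strong_induction_on with
  | _ n ihn =>
  intro K hKn m
  induction m using Nat.strong_induction_on with
  | _ m ihm =>
  intro T M A hP hAT hA hm
  have hTK : T ≤ K := hP.maxP.1
  have hAK : A ≤ K := hAT.trans hTK
  have hAp : IsPGroup p A := hP.maxP.2.1.to_le hAT
  by_cases hQA : pCoreOf p K ≤ A
  swap
  · have hQT := pCoreOf_le_of_isMaxP hP.maxP
    have hBT : A ⊔ pCoreOf p K ≤ T := sup_le hAT hQT
    have hBQ : ¬ A ⊔ pCoreOf p K ≤ pCoreOf p K := fun h => hA (le_trans le_sup_left h)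
    have hlt : A < A ⊔ pCoreOf p K := by
      refine lt_of_le_of_ne le_sup_left ?_
      intro h
      apply hQA
      calc pCoreOf p K ≤ A ⊔ pCoreOf p K := le_sup_right
        _ = A := h.symm
    have hc : Nat.card K - Nat.card ↥(A ⊔ pCoreOf p K) < m := by
      rw [← hm]; exact sub_card_lt hlt (hBT.trans hTK)
    obtain ⟨L, L₀, g, hG⟩ := ihm _ hc T M _ hP hBT hBQ rfl
    exact ⟨L, L₀, g, good_of_sup hG⟩
  by_cases huA : ∀ k ∈ K, A ≤ cj k M → cj k M = M
  · exact step1 hP hAT hQA huA
  push Not at huA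
  obtain ⟨h, hh, hAh, hhM⟩ := huA
  by_contra hno
  have claim : ∀ (T' : Subgroup G) (k : G), k ∈ K → PMin p K T' (cj k M) → A ≤ T' →
      ∀ X : Subgroup G, T' ⊓ Subgroup.normalizer (A : Set G) ≤ X → X < K → X ≤ cj k M := by
    intro T' k hk hP' hAT' X hDX hXK
    by_cases hn : T' ≤ Subgroup.normalizer (A : Set G)
    · exact hP'.huniq X (le_trans (le_inf le_rfl hn) hDX) hXK
    · have hD'T : T' ⊓ Subgroup.normalizer (A : Set G) < T' := by
        refine lt_of_le_of_ne inf_le_left ?_
        intro he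
        exact hn (inf_eq_left.mp he)
      obtain ⟨t, htT, htD, htcj⟩ := exists_normalizing_not_mem hP'.maxP.2.1 hD'T
      have hAD : A ≤ T' ⊓ Subgroup.normalizer (A : Set G) := le_inf hAT' Subgroup.le_normalizer
      have htA : cj t A ≤ T' ⊓ Subgroup.normalizer (A : Set G) := by
        have := cj_mono t hAD
        rwa [htcj] at this
      have htN : t ∉ Subgroup.normalizer (A : Set G) := fun hh' => htD (Subgroup.mem_inf.mpr ⟨htT, hh'⟩)
      have hA'D : A ⊔ cj t A ≤ T' ⊓ Subgroup.normalizer (A : Set G) := sup_le hAD htA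
      have hA'T : A ⊔ cj t A ≤ T' := hA'D.trans inf_le_left
      have hAA' : A < A ⊔ cj t A := by
        refine lt_of_le_of_ne le_sup_left ?_
        intro he
        apply htN
        apply mem_normalizer_of_map_conj_le
        calc cj t A ≤ A ⊔ cj t A := le_sup_right
          _ = A := he.symm
      have hA'Q : ¬ A ⊔ cj t A ≤ pCoreOf p K := fun hh' => hA (le_trans le_sup_left hh')
      have hT'K : T' ≤ K := hP'.maxP.1
      have hcard : Nat.card K - Nat.card ↥(A ⊔ cj t A) < m := by
        rw [← hm]; exact sub_card_lt hAA' (hA'T.trans hT'K)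
      obtain ⟨L', L'₀, g', hG'⟩ := ihm _ hcard T' (cj k M) _ hP' hA'T hA'Q rfl
      have hA'p : IsPGroup p ↥(A ⊔ cj t A) := hP'.maxP.2.1.to_le hA'T
      by_cases hL' : L' = K
      · have h1 : (A ⊔ cj t A) ⊔ pCoreOf p L' = A ⊔ cj t A := by
          rw [hL']; exact sup_eq_left.mpr (hQA.trans le_sup_left)
        have hXL : X ≤ L'₀ :=
          hG'.hmax X (by rw [h1]; exact hA'D.trans hDX) (by rw [hL']; exact hXK)
        have hT'L : T' ≤ L'₀ :=
          hG'.hmax T' (by rw [h1]; exact hA'T)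
            (by rw [hL']; exact lt_of_le_of_lt hP'.hTM hP'.hMK)
        have h2 : L'₀ ≤ cj g' (cj k M) := by rw [hG'.heq]; exact inf_le_right
        have h3 : cj g' (cj k M) < K := by
          have := (cj_lt_cj_iff g').mpr hP'.hMK
          rwa [cj_eq_self_of_mem hG'.hg] at this
        have h4 : cj g' (cj k M) ≤ cj k M := hP'.huniq _ (hT'L.trans h2) h3
        exact hXL.trans (h2.trans h4)
      · have hL'lt : L' < K := lt_of_le_of_ne hG'.hLK hL'
        have hcardL : Nat.card L' < n := by rw [← hKn]; exact card_lt_of_lt' hL'lt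
        obtain ⟨S', hPS', hBS'⟩ := pmin_of_good hG' hA'p
        have hA'S : A ⊔ cj t A ≤ S' := le_trans le_sup_left hBS'
        have hQL' : pCoreOf p K ≤ pCoreOf p L' :=
          pCoreOf_le_pCoreOf_of_le hG'.hLK (le_trans le_sup_right hG'.hAQ)
        exfalso
        by_cases hc1 : A ≤ pCoreOf p L'
        · by_cases hc2 : cj t A ≤ pCoreOf p L'
          · have hA'O : A ⊔ cj t A ≤ pCoreOf p L' := sup_le hc1 hc2
            obtain ⟨x, hxL, hx0⟩ := SetLike.exists_of_lt hG'.hlt
            have h1 := hG'.hgen x hxL hx0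
            have h2 : cj x (A ⊔ cj t A) ≤ pCoreOf p L' := by
              have := cj_mono x hA'O
              rwa [cj_pCoreOf_of_mem hxL] at this
            have hO0 : pCoreOf p L' ≤ L'₀ := le_trans le_sup_right hG'.hB
            have h3 : L' ≤ L'₀ := by
              calc L' = (A ⊔ cj t A) ⊔ cj x (A ⊔ cj t A) ⊔ pCoreOf p L' := h1.symm
                _ ≤ L'₀ := sup_le (sup_le (hA'O.trans hO0) (h2.trans hO0)) hO0
            exact lt_irrefl _ (lt_of_lt_of_le hG'.hlt h3)
          · obtain ⟨L, L₀, y, hG⟩ := ihn _ hcardL L' rfl _ S' L'₀ (cj t A) hPS'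
              (le_trans le_sup_right hA'S) hc2 rfl
            have hG2 := good_lift hG'.hLK hG'.hg hG'.heq hQL' hG
            have hG3 := good_of_cj hk hG2
            have htK : t ∈ K := hT'K htT
            have hG4 := good_cj hG3 (K.inv_mem htK)
            rw [cj_inv_cj] at hG4
            exact hno ⟨_, _, _, hG4⟩
        · obtain ⟨L, L₀, y, hG⟩ := ihn _ hcardL L' rfl _ S' L'₀ A hPS'
            (le_trans le_sup_left hA'S) hc1 rfl
          exact hno ⟨_, _, _, good_of_cj hk (good_lift hG'.hLK hG'.hg hG'.heq hQL' hG)⟩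
  -- Step 3
  have hNK : K ⊓ Subgroup.normalizer (A : Set G) < K := by
    refine lt_of_le_of_ne inf_le_left ?_
    intro he
    exact hA (le_pCoreOf hAK (inf_eq_left.mp he) hAp)
  have hP1 : PMin p K T (cj 1 M) := by rw [cj_one]; exact hP
  have c1 := claim T 1 K.one_mem hP1 hAT (K ⊓ Subgroup.normalizer (A : Set G))
    (inf_le_inf_right _ hTK) hNK
  have hTM' : IsMaxP p M T :=
    ⟨hP.hTM, hP.maxP.2.1, fun P hPM hPp hTP => hP.maxP.2.2 P (hPM.trans hP.hMK.le) hPp hTP⟩
  have hTM'' := hTM'.cj h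
  obtain ⟨m', hm', hAm'⟩ := exists_cj_le hTM'' hAh hAp
  rw [cj_cj] at hAm'
  have hhMK : cj h M ≤ K := cj_le_of_mem hh hP.hMK.le
  have hm'K : m' ∈ K := hhMK hm'
  have hkK : m' * h ∈ K := K.mul_mem hm'K hh
  have hM2 : cj (m' * h) M = cj h M := by rw [← cj_cj, cj_eq_self_of_mem hm']
  have hP2 := hP.cj_mem hkK
  have c2 := claim (cj (m' * h) T) (m' * h) hkK hP2 hAm' (K ⊓ Subgroup.normalizer (A : Set G))
    (inf_le_inf_right _ hP2.maxP.1) hNK
  rw [hM2] at c2
  have hlt2 : cj h M < K := by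
    have := (cj_lt_cj_iff h).mpr hP.hMK
    rwa [cj_eq_self_of_mem hh] at this
  have c3 := claim T 1 K.one_mem hP1 hAT (cj h M) (le_trans (inf_le_inf_right _ hTK) c2) hlt2
  rw [cj_one] at c3
  exact hhM (Subgroup.eq_of_le_of_card_ge c3 (card_cj h M).ge)

end Cfsg.Agent.Lib.Helper26.LLem
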