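/-
helper26: S4017 leaf MIX-NORMAL (`normal_isPGroup`), in `_of` form over NOPRIME and NONORMAL.
-/
import Mathlib
import Cfsg.Prelude.Def_Local
import Cfsg.Agent.Lib.Helper26.MixDefs

set_option autoImplicit false

namespace Cfsg.Agent.Lib.Helper26.MIXNORMAL

open Cfsg Cfsg.Agent.Lib.Helper26.Mix

universe u

variable {G : Type u} [Group G] [Finite G] {p a : ℕ} {Q : Subgroup G} {g : G}

/-- Frattini consequence: if `N` is normal, `P` a Sylow subgroup of `N`, then `|G : N|` divides
`|N_G(P)|`. -/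
theorem index_dvd_card_normalizer_sylow {s : ℕ} [Fact s.Prime] (N : Subgroup G) [N.Normal]
    (P : Sylow s N) :
    N.index ∣ Nat.card ↥(Subgroup.normalizer ((P.map N.subtype : Subgroup G) : Set G)) := by
  have h := Sylow.normalizer_sup_eq_top P
  have h1 : N.relIndex (Subgroup.normalizer ((P.map N.subtype : Subgroup G) : Set G) ⊔ N) =
      N.relIndex (Subgroup.normalizer ((P.map N.subtype : Subgroup G) : Set G)) :=
    Subgroup.relIndex_sup_right _ _
  rw [h, Subgroup.relIndex_top_right] at h1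
  rw [h1]
  exact Subgroup.relIndex_dvd_card _ _

/-- NORMAL in `_of` form. -/
theorem normal_isPGroup_of
    (hNOPRIME : ∀ (Q0 : Subgroup G), IsPGroup 2 Q0 → Q0 ≠ ⊥ → ∀ x : G,
      x ∈ Subgroup.normalizer (Q0 : Set G) → ∀ s : ℕ, s.Prime → s ≠ p → s ≠ 2 →
      orderOf x = s → False)
    (hNONORMAL : ∀ r : ℕ, r.Prime → r ≠ p → r ≠ 2 → ∀ N : Subgroup G, N.Normal →
      ¬ 2 ∣ Nat.card N → r ∣ Nat.card N → False)
    (c : Ctx G p a Q g) (hthird : Third G p 2) (N : Subgroup G) [N.Normal]
    (hN : N ≠ ⊤) : IsPGroup p ↥N := by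
  have : Fact (Nat.Prime 2) := ⟨Nat.prime_two⟩
  have : Fact p.Prime := ⟨c.hp⟩
  by_cases h2 : 2 ∣ Nat.card N
  · -- even order: contradiction
    exfalso
    obtain ⟨r, hr, hrG, hrp, hr2⟩ := hthird
    have hrN : ¬ r ∣ Nat.card N := by
      intro hrN
      rcases c.hstar N hN h2 r hr hrN with h | h
      · exact hr2 h
      · exact hrp h
    -- a Sylow 2-subgroup of N
    obtain ⟨P⟩ : Nonempty (Sylow 2 N) := inferInstance
    set Q0 : Subgroup G := (P.map N.subtype : Subgroup G) with hQ0def
    have hQ0p : IsPGroup 2 Q0 := by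
      rw [hQ0def]
      exact P.isPGroup'.map N.subtype
    have hQ0ne : Q0 ≠ ⊥ := by
      intro hbot
      have hPbot : (P : Subgroup N) = ⊥ := by
        rw [hQ0def] at hbot
        exact (Subgroup.map_eq_bot_iff_of_injective _ (Subgroup.subtype_injective N)).mp hbot
      have hcard : Nat.card (P : Subgroup N) = 1 := by rw [hPbot]; exact Subgroup.card_bot
      have hdvd : 2 ∣ Nat.card (P : Subgroup N) := P.dvd_card_of_dvd_card h2
      rw [hcard] at hdvd
      exact absurd hdvd (by norm_num)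
    have hidx : N.index ∣ Nat.card ↥(Subgroup.normalizer (Q0 : Set G)) :=
      index_dvd_card_normalizer_sylow N P
    have hrI : r ∣ N.index := by
      have hmul : Nat.card N * N.index = Nat.card G := N.card_mul_index
      rw [← hmul] at hrG
      rcases (Nat.Prime.dvd_mul hr).mp hrG with h | h
      · exact absurd h hrN
      · exact h
    have hrNQ : r ∣ Nat.card ↥(Subgroup.normalizer (Q0 : Set G)) := hrI.trans hidx
    have : Fact r.Prime := ⟨hr⟩
    obtain ⟨x, hx⟩ := exists_prime_orderOf_dvd_card' (G := ↥(Subgroup.normalizer (Q0 : Set G))) r hrNQ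
    have hox : orderOf (x : G) = r := by rw [Subgroup.orderOf_coe]; exact hx
    exact hNOPRIME Q0 hQ0p hQ0ne (x : G) x.2 r hr hrp hr2 hox
  · -- odd order: every prime divisor is p
    have hall : ∀ {d : ℕ}, d.Prime → d ∣ Nat.card N → d = p := by
      intro d hd hdN
      by_contra hdp
      have hd2 : d ≠ 2 := by
        rintro rfl
        exact h2 hdN
      exact hNONORMAL d hd hdp hd2 N inferInstance h2 hdN
    have hpos : Nat.card N ≠ 0 := Nat.card_pos.ne'
    exact IsPGroup.of_card (Nat.eq_prime_pow_of_unique_prime_dvd hpos hall)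

end Cfsg.Agent.Lib.Helper26.MIXNORMAL
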