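import Cfsg.Agent.Lib.Helper26.MaxClassZ2
import Cfsg.Agent.Lib.Helper26.FSAlperin
import Cfsg.Agent.Lib.Helper26.FSEssential
import Cfsg.Agent.Lib.Helper26.FSSatEquiv

/-!
Maximal class: a map of `F` on `Z₂(S)` moving `Z(S)` forces `C_S(Z₂(S))` to be essential.
-/

set_option autoImplicit false
set_option linter.unusedSectionVars false
universe u

namespace Cfsg.Agent.Lib.Helper26.MC

open Cfsg Cfsg.FusionSystem Cfsg.Agent.Lib.Helper26
open scoped commutatorElement

variable {Ω : Type*} [Group Ω] {S : Subgroup Ω}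

/-- The subsystem of the maps of `F` preserving (in both directions) a subgroup `Z` normalized by `S`. -/
def presSub (F : FusionSystem S) (Z : Subgroup Ω) (hZ : ∀ g ∈ S, ∀ x : Ω, x ∈ Z ↔ g * x * g⁻¹ ∈ Z) :
    FusionSystem S where
  Hom P := {φ | φ ∈ F.Hom P ∧ ∀ x : P, (x : Ω) ∈ Z ↔ φ x ∈ Z}
  le_of_mem h := F.le_of_mem h.1
  injective_of_mem h := F.injective_of_mem h.1
  conj_mem {P g} hP hg := ⟨F.conj_mem hP hg, fun x => hZ g hg x⟩
  comp_mem {P Q φ ψ} hφ hψ h := ⟨F.comp_mem hφ.1 hψ.1 h, fun x => (hφ.2 x).trans (hψ.2 ⟨φ x, h x⟩)⟩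
  inv_mem {P φ} hφ := by
    obtain ⟨ψ, hψ, hψx⟩ := F.inv_mem hφ.1
    refine ⟨ψ, ⟨hψ, ?_⟩, hψx⟩
    rintro ⟨_, x, rfl⟩
    rw [hψx]
    exact (hφ.2 x).symm

theorem mem_center_map_iff {z : Ω} :
    z ∈ (Subgroup.center ↥S).map S.subtype ↔ z ∈ S ∧ ∀ s ∈ S, s * z = z * s := by
  constructor
  · rintro ⟨z', hz', rfl⟩
    refine ⟨z'.2, fun s hs => ?_⟩
    have := Subgroup.mem_center_iff.mp hz' ⟨s, hs⟩
    exact congrArg Subtype.val this
  · rintro ⟨hzS, hz⟩
    refine ⟨⟨z, hzS⟩, ?_, rfl⟩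
    show (⟨z, hzS⟩ : S) ∈ Subgroup.center ↥S
    rw [Subgroup.mem_center_iff]
    intro s
    exact Subtype.ext (hz s s.2)

theorem mem_ucs2_map_iff {z : Ω} :
    z ∈ (Subgroup.upperCentralSeries ↥S 2).map S.subtype ↔
      z ∈ S ∧ ∀ s ∈ S, s * z * s⁻¹ * z⁻¹ ∈ (Subgroup.center ↥S).map S.subtype := by
  constructor
  · rintro ⟨z', hz', rfl⟩
    refine ⟨z'.2, fun s hs => ?_⟩
    have := mem_ucs2_iff.mp hz' ⟨s, hs⟩
    exact ⟨_, this, rfl⟩
  · rintro ⟨hzS, hz⟩
    refine ⟨⟨z, hzS⟩, ?_, rfl⟩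
    show (⟨z, hzS⟩ : S) ∈ Subgroup.upperCentralSeries ↥S 2
    rw [mem_ucs2_iff]
    intro g
    obtain ⟨c, hc, hc'⟩ := hz g g.2
    have : c = ⁅g, (⟨z, hzS⟩ : S)⁆ := Subtype.ext hc'
    rw [← this]
    exact hc

theorem essential_centralizer_ucs2 [Finite S] {p : ℕ} [Fact p.Prime] (hS : IsPGroup p ↥S) (n : ℕ)
    (hn : Nat.card S = p ^ n) (h4 : 4 ≤ n) (hmax : Subgroup.lowerCentralSeries S (n - 2) ≠ ⊥)
    (F : FusionSystem S) (hF : F.IsSaturated p) (Z2 : Subgroup Ω)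
    (hZ2 : Z2 = (Subgroup.upperCentralSeries ↥S 2).map S.subtype)
    (φ : ↥Z2 →* Ω) (hφ : φ ∈ F.Hom Z2) (hφZ : φ.range = Z2)
    (hmove : ∃ (z : Ω) (hz : z ∈ Z2),
      z ∈ ((Subgroup.center ↥S).map S.subtype) ∧ φ ⟨z, hz⟩ ∉ ((Subgroup.center ↥S).map S.subtype)) :
    F.IsEssential p (S ⊓ Subgroup.centralizer (Z2 : Set Ω)) := by
  have hpp : p.Prime := Fact.out
  have hcl : Group.nilpotencyClass ↥S = n - 1 := by
    apply nilpotencyClass_eq hn (by omega)
    intro h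
    apply hmax
    rw [← Subgroup.top_subtype_lowerCentralSeries, h, Subgroup.map_bot]
  have hZ2S : Z2 ≤ S := by rw [hZ2]; exact Subgroup.map_subtype_le _
  -- `Z2` is normal in `S`
  have hZ2n : ∀ g ∈ S, ∀ y ∈ Z2, g * y * g⁻¹ ∈ Z2 := by
    intro g hg y hy
    rw [hZ2] at hy ⊢
    obtain ⟨y', hy', rfl⟩ := hy
    have hnorm : (Subgroup.upperCentralSeries ↥S 2).Normal := inferInstance
    have h1 := hnorm.conj_mem y' hy' (⟨g, hg⟩ : S)
    rw [Subgroup.mem_map]
    exact ⟨_, h1, rfl⟩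
  -- `Z2` is abelian
  have hZ2c : ∀ x ∈ Z2, ∀ y ∈ Z2, x * y = y * x := by
    intro x hx y hy
    rw [hZ2] at hx hy
    obtain ⟨x', hx', rfl⟩ := hx
    obtain ⟨y', hy', rfl⟩ := hy
    have := ucs2_comm hn h4 hcl hy'
    rw [Subgroup.mem_centralizer_iff] at this
    exact congrArg Subtype.val (this x' hx')
  set R := centralizerIn S Z2 with hR
  have hRS : R ≤ S := centralizerIn_le S Z2
  have hZ2R : Z2 ≤ R := fun y hy => mem_centralizerIn_iff.mpr ⟨hZ2S hy, fun x hx => hZ2c x hx y hy⟩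
  have hfinR : Finite R := finite_of_le hRS
  -- the order of `R`
  have hRcard : Nat.card R * p = p ^ n := by
    have h1 := card_centralizer_ucs2 hn h4 hcl
    have h2 : R = (Subgroup.centralizer (Subgroup.upperCentralSeries ↥S 2 : Set ↥S)).map S.subtype := by
      ext x
      rw [hR, mem_centralizerIn_iff]
      constructor
      · rintro ⟨hxS, hx⟩
        refine ⟨⟨x, hxS⟩, ?_, rfl⟩
        show (⟨x, hxS⟩ : S) ∈ Subgroup.centralizer _
        rw [Subgroup.mem_centralizer_iff]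
        intro y hy
        exact Subtype.ext (hx y (by rw [hZ2]; exact ⟨y, hy, rfl⟩))
      · rintro ⟨x', hx', rfl⟩
        refine ⟨x'.2, fun y hy => ?_⟩
        rw [hZ2] at hy
        obtain ⟨y', hy', rfl⟩ := hy
        exact congrArg Subtype.val (Subgroup.mem_centralizer_iff.mp hx' y' hy')
    rw [h2, Subgroup.card_map_of_injective S.subtype_injective]
    exact h1
  have hRcard' : Nat.card R = p ^ (n - 1) := by
    have h1 : p ^ n = p ^ (n - 1) * p := by rw [← pow_succ]; congr 1; omega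
    rw [h1] at hRcard
    exact Nat.eq_of_mul_eq_mul_right hpp.pos hRcard
  have hRne : R ≠ S := by
    intro h
    have h1 : Nat.card R = Nat.card S := by rw [h]
    rw [hRcard', hn] at h1
    have := Nat.pow_right_injective hpp.two_le h1
    omega
  have hbig : ∀ R' : Subgroup Ω, R' ≤ S → Nat.card R < Nat.card R' → R' = S := by
    intro R' hR'S hlt
    have : Finite R' := finite_of_le hR'S
    obtain ⟨k, hk⟩ := IsPGroup.iff_card.mp (hS.to_le hR'S)
    have h1 : Nat.card R' ∣ Nat.card S := Subgroup.card_dvd_of_le hR'S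
    rw [hk, hn] at h1
    rw [hk, hRcard'] at hlt
    have h2 : k ≤ n := (Nat.pow_dvd_pow_iff_le_right hpp.one_lt).mp h1
    have h3 : n - 1 < k := (Nat.pow_lt_pow_iff_right hpp.one_lt).mp hlt
    have h4 : k = n := by omega
    apply Subgroup.eq_of_le_of_card_ge hR'S
    rw [hk, hn, h4]
  -- `S` normalizes `R`
  have hnormR : ∀ g ∈ S, g ∈ Subgroup.normalizer (R : Set Ω) := by
    intro g hg
    apply mem_normalizer_of_conj_mem_finite
    intro y hy
    obtain ⟨hyS, hyc⟩ := mem_centralizerIn_iff.mp hy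
    refine mem_centralizerIn_iff.mpr ⟨S.mul_mem (S.mul_mem hg hyS) (S.inv_mem hg), fun w hw => ?_⟩
    have hw' : g⁻¹ * w * g ∈ Z2 := by simpa using hZ2n g⁻¹ (S.inv_mem hg) w hw
    have := hyc _ hw'
    calc w * (g * y * g⁻¹) = g * ((g⁻¹ * w * g) * y) * g⁻¹ := by group
      _ = g * (y * (g⁻¹ * w * g)) * g⁻¹ := by rw [this]
      _ = g * y * g⁻¹ * w := by group
  have hnormZ2 : ∀ g ∈ S, g ∈ Subgroup.normalizer (Z2 : Set Ω) := by
    intro g hg
    have : Finite Z2 := finite_of_le hZ2S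
    exact mem_normalizer_of_conj_mem_finite (fun y hy => hZ2n g hg y hy)
  have hFN : F.IsFullyNormalized R := by
    refine ⟨hRS, fun Q _ => ?_⟩
    have h1 : normalizerIn S R = S :=
      le_antisymm (normalizerIn_le S R) (fun g hg => ⟨hg, hnormR g hg⟩)
    rw [h1]
    exact Subgroup.card_le_of_le (normalizerIn_le S Q)
  have hFN2 : F.IsFullyNormalized Z2 := by
    refine ⟨hZ2S, fun Q _ => ?_⟩
    have h1 : normalizerIn S Z2 = S :=
      le_antisymm (normalizerIn_le S Z2) (fun g hg => ⟨hg, hnormZ2 g hg⟩)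
    rw [h1]
    exact Subgroup.card_le_of_le (normalizerIn_le S Q)
  have hsat := saturated_fn hS F hF hFN
  have hcen : F.IsCentric R := by
    apply centric_of_fullyCentralized F R hsat.1
    intro g hg
    obtain ⟨hgS, hgc⟩ := mem_centralizerIn_iff.mp hg
    exact mem_centralizerIn_iff.mpr ⟨hgS, fun x hx => hgc x (hZ2R hx)⟩
  -- the centre is normalized by `S`
  have hZ1 : ∀ g ∈ S, ∀ x : Ω, x ∈ (Subgroup.center ↥S).map S.subtype ↔
      g * x * g⁻¹ ∈ (Subgroup.center ↥S).map S.subtype := by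
    intro g hg x
    constructor
    · intro hx
      have := (mem_center_map_iff.mp hx).2 g hg
      have h1 : g * x * g⁻¹ = x := by rw [this]; group
      rw [h1]; exact hx
    · intro hx
      have := (mem_center_map_iff.mp hx).2 g⁻¹ (S.inv_mem hg)
      have h1 : x = g * x * g⁻¹ := by
        calc x = g⁻¹ * (g * x * g⁻¹) * g := by group
          _ = g * x * g⁻¹ * g⁻¹ * g := by rw [this]
          _ = g * x * g⁻¹ := by group
      rw [h1]; exact hx
  have IH : ∀ R' : Subgroup Ω, R' ≤ S → Nat.card R < Nat.card R' →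
      F.Hom R' ⊆ (presSub F _ hZ1).Hom R' := by
    intro R' hR'S hlt
    obtain rfl := hbig R' hR'S hlt
    intro χ hχ
    have hsurj := surj_of_inj_of_card_le χ (F.injective_of_mem hχ) (hom_apply_mem F hχ) le_rfl
    refine ⟨hχ, fun x => ?_⟩
    constructor
    · intro hx
      obtain ⟨-, hxc⟩ := mem_center_map_iff.mp hx
      refine mem_center_map_iff.mpr ⟨hom_apply_mem F hχ x, fun s hs => ?_⟩
      obtain ⟨a, rfl⟩ := hsurj s hs
      rw [← map_mul, ← map_mul]
      congr 1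
      exact Subtype.ext (hxc a a.2)
    · intro hx
      obtain ⟨-, hxc⟩ := mem_center_map_iff.mp hx
      refine mem_center_map_iff.mpr ⟨x.2, fun s hs => ?_⟩
      have h1 := hxc (χ ⟨s, hs⟩) (hom_apply_mem F hχ _)
      rw [← map_mul, ← map_mul] at h1
      exact congrArg Subtype.val (F.injective_of_mem hχ h1)
  -- the extension of `φ` to `R`
  have hRec2 := saturated_fn_receptive hS F hF hFN2
  obtain ⟨ψ, hψ, hψφ⟩ := hRec2.2 Z2 φ hφ hφZ
  have hRext : R ≤ extender S Z2 φ := centralizerIn_le_extender Z2 φ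
  set ρ : R →* Ω := ψ.comp (Subgroup.inclusion hRext) with hρ
  have hρF : ρ ∈ F.Hom R := inclusion_comp_mem F hRext hψ
  have hρZ2 : ∀ (y : Ω) (hy : y ∈ Z2), ρ ⟨y, hZ2R hy⟩ = φ ⟨y, hy⟩ :=
    fun y hy => hψφ y hy (hRext (hZ2R hy))
  have hρR : ∀ r : R, ρ r ∈ R := by
    intro r
    refine mem_centralizerIn_iff.mpr ⟨hom_apply_mem F hρF r, fun y hy => ?_⟩
    have : y ∈ φ.range := by rw [hφZ]; exact hy
    obtain ⟨⟨x, hx⟩, rfl⟩ := this
    rw [← hρZ2 x hx, ← map_mul, ← map_mul]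
    congr 1
    apply Subtype.ext
    exact (mem_centralizerIn_iff.mp r.2).2 x hx
  have hρrange : ρ.range = R := by
    apply le_antisymm
    · rintro _ ⟨r, rfl⟩; exact hρR r
    · intro b hb
      obtain ⟨a, ha⟩ := surj_of_inj_of_card_le ρ (F.injective_of_mem hρF) hρR le_rfl b hb
      exact ⟨a, ha⟩
  set α : MulAut R := homEquiv F hρF hρrange with hα
  have hαF : α ∈ F.autGroup R := by
    rw [mem_autGroup_iff F hRS]
    have : R.subtype.comp α.toMonoidHom = ρ := by ext x; rfl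
    rw [this]; exact hρF
  by_contra hness
  have hle := autGroup_le_of_not_essential hS F hF (presSub F _ hZ1) hFN hcen hRne hness IH
  have hαE := hle hαF
  rw [mem_autGroup_iff _ hRS] at hαE
  obtain ⟨z, hz, hz1, hz2⟩ := hmove
  have := (hαE.2 ⟨z, hZ2R hz⟩).mp hz1
  apply hz2
  rw [← hρZ2 z hz]
  exact this

end Cfsg.Agent.Lib.Helper26.MC
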