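import Cfsg.Agent.Lib.Helper26.OrderP4A

/-!
Groups of order `p⁴` carrying `EssData`: part B (the centre cannot have order `p`).
-/

set_option autoImplicit false
universe u

namespace Cfsg.Agent.Lib.Helper26

open Cfsg
open scoped commutatorElement

section CenterP

variable {H : Type u} [Group H]

theorem mem_ucs2_iff {w : H} :
    w ∈ Subgroup.upperCentralSeries H 2 ↔ ∀ g : H, ⁅g, w⁆ ∈ Subgroup.center H := by
  show w ∈ Subgroup.upperCentralSeries H (1 + 1) ↔ _
  rw [Subgroup.mem_upperCentralSeries_succ_iff, Subgroup.upperCentralSeries_one]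
  constructor
  · intro h g
    rw [← commutatorElement_inv]
    exact inv_mem (h g)
  · intro h g
    rw [← commutatorElement_inv]
    exact inv_mem (h g)

theorem center_le_ucs2 : Subgroup.center H ≤ Subgroup.upperCentralSeries H 2 := by
  intro z hz
  rw [mem_ucs2_iff]
  intro g
  have : ⁅g, z⁆ = 1 := by
    rw [commutatorElement_eq_one_iff_mul_comm]
    exact Subgroup.mem_center_iff.mp hz g
  rw [this]
  exact one_mem _

theorem center_le_centralizer_singleton (w : H) : Subgroup.center H ≤ Subgroup.centralizer {w} := by
  intro z hz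
  rw [mem_centralizer_singleton_iff]
  exact (Subgroup.mem_center_iff.mp hz w).symm

theorem self_mem_centralizer_singleton (w : H) : w ∈ Subgroup.centralizer {w} := by
  rw [mem_centralizer_singleton_iff]

theorem centralizer_singleton_eq_top_iff {w : H} : Subgroup.centralizer {w} = ⊤ ↔ w ∈ Subgroup.center H := by
  constructor
  · intro h
    rw [Subgroup.mem_center_iff]
    intro g
    have : g ∈ Subgroup.centralizer {w} := h ▸ Subgroup.mem_top g
    exact mem_centralizer_singleton_iff.mp this
  · intro h
    rw [eq_top_iff]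
    intro g _
    rw [mem_centralizer_singleton_iff]
    exact Subgroup.mem_center_iff.mp h g

variable [Finite H] {p : ℕ} [Fact p.Prime]

/-- There is an element of the second centre outside the centre. -/
theorem exists_mem_ucs2_not_mem_center (hH : IsPGroup p H) (hne : Subgroup.center H ≠ ⊤) :
    ∃ w ∈ Subgroup.upperCentralSeries H 2, w ∉ Subgroup.center H := by
  have hnt : Nontrivial (H ⧸ Subgroup.center H) := by
    rw [← not_subsingleton_iff_nontrivial]
    intro hs
    apply hne
    rw [eq_top_iff]
    intro g _
    rw [← QuotientGroup.eq_one_iff]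
    exact Subsingleton.elim _ _
  have hQ : IsPGroup p (H ⧸ Subgroup.center H) := hH.to_quotient _
  have hnt2 : Nontrivial (Subgroup.center (H ⧸ Subgroup.center H)) := hQ.center_nontrivial
  obtain ⟨⟨q, hq⟩, hq1⟩ := exists_ne (1 : Subgroup.center (H ⧸ Subgroup.center H))
  obtain ⟨w, rfl⟩ := QuotientGroup.mk_surjective q
  refine ⟨w, ?_, ?_⟩
  · rw [mem_ucs2_iff]
    intro g
    rw [← QuotientGroup.eq_one_iff, commutatorElement_def]
    simp only [QuotientGroup.mk_mul, QuotientGroup.mk_inv]
    have := Subgroup.mem_center_iff.mp hq (g : H ⧸ Subgroup.center H)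
    rw [this]
    group
  · intro hw
    apply hq1
    apply Subtype.ext
    show (w : H ⧸ Subgroup.center H) = 1
    rw [QuotientGroup.eq_one_iff]
    exact hw

/-- Centralizers of non-central elements of the second centre have index `p` when the centre has order `p`. -/
theorem card_centralizer_of_comm_central (hcard : Nat.card H = p ^ 4) (hZ : Nat.card (Subgroup.center H) = p)
    {w : H} (hw : ∀ g : H, ⁅g, w⁆ ∈ Subgroup.center H) (hwZ : w ∉ Subgroup.center H) :
    Nat.card (Subgroup.centralizer {w}) = p ^ 3 := by
  have hpp : p.Prime := Fact.out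
  have h1 := card_ker_mul_card_range (commHom w hw)
  have h2 : Nat.card (commHom w hw).range ∣ p := hZ ▸ Subgroup.card_dvd_of_le (commHom_range_le w hw)
  rw [commHom_ker, hcard] at h1
  rcases (Nat.dvd_prime hpp).mp h2 with h | h
  · exfalso
    rw [h, mul_one] at h1
    apply hwZ
    rw [← centralizer_singleton_eq_top_iff]
    apply Subgroup.eq_top_of_card_eq
    rw [h1, hcard]
  · rw [h] at h1
    have h3 : p ^ 4 = p ^ 3 * p := by rw [pow_succ]
    rw [h3] at h1
    exact Nat.eq_of_mul_eq_mul_right hpp.pos h1

/-- A nonabelian group of order `p⁴` carrying `EssData` cannot have a centre of order `p`. -/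
theorem EssData.false_of_center_p {A : Subgroup (MulAut H)} (hd : EssData p H A) (hcard : Nat.card H = p ^ 4)
    (hZ : Nat.card (Subgroup.center H) = p) : False := by
  have hpp : p.Prime := Fact.out
  have hH : IsPGroup p H := IsPGroup.of_card hcard
  have hp1 : p < p ^ 4 := by
    calc p = p ^ 1 := (pow_one p).symm
      _ < p ^ 4 := pow_lt_pow_iff_of_prime.mpr (by norm_num)
  have hZtop : Subgroup.center H ≠ ⊤ := by
    intro h
    rw [h, Subgroup.card_top, hcard] at hZ
    omega
  obtain ⟨w, hw2, hwZ⟩ := exists_mem_ucs2_not_mem_center hH hZtop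
  have hw := mem_ucs2_iff.mp hw2
  have hCw := card_centralizer_of_comm_central hcard hZ hw hwZ
  obtain ⟨Z2, hZ2⟩ : ∃ Z2 : Subgroup H, Z2 = Subgroup.upperCentralSeries H 2 := ⟨_, rfl⟩
  have hZ2char : Z2.Characteristic := by rw [hZ2]; infer_instance
  have hZle : Subgroup.center H ≤ Z2 := hZ2 ▸ center_le_ucs2
  have hZne : Subgroup.center H ≠ Z2 := by
    intro h
    apply hwZ
    rw [h, hZ2]
    exact hw2
  have hwZ2 : w ∈ Z2 := hZ2 ▸ hw2
  obtain ⟨a, ha4, ha⟩ := card_subgroup_of_card_pow hcard Z2
  have ha1 : 1 < a := by
    have := card_lt_of_le_of_ne' hZle hZne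
    rw [hZ, ha] at this
    have h2 : p ^ 1 < p ^ a := by rwa [pow_one]
    exact pow_lt_pow_iff_of_prime.mp h2
  have hcases : a = 2 ∨ a = 3 ∨ a = 4 := by omega
  rcases hcases with rfl | rfl | rfl
  · -- the chain `1 < Z < Z₂ < C(Z₂)`
    have hZ2comm : IsMulCommutative ↥Z2 := IsPGroup.isMulCommutative_of_card_eq_prime_sq ha
    have hle : Z2 ≤ Subgroup.centralizer (Z2 : Set H) := Subgroup.le_centralizer_iff_isMulCommutative.mpr hZ2comm
    have hidx : Nat.card Z2 = p * Nat.card (Subgroup.center H) := by rw [ha, hZ, pow_two]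
    have hCeq : Subgroup.centralizer (Z2 : Set H) = Subgroup.centralizer {w} := by
      apply le_antisymm
      · apply Subgroup.centralizer_le
        intro x hx
        rw [Set.mem_singleton_iff] at hx
        rw [hx]
        exact hwZ2
      · intro g hg
        rw [mem_centralizer_singleton_iff] at hg
        have hL : Subgroup.centralizer {g} ⊓ Z2 = Z2 := by
          apply eq_of_le_of_card_mul hidx (le_inf (center_le_centralizer_singleton g) hZle) inf_le_right
          intro h
          apply hwZ
          rw [h]
          exact Subgroup.mem_inf.mpr ⟨mem_centralizer_singleton_iff.mpr hg.symm, hwZ2⟩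
        rw [Subgroup.mem_centralizer_iff]
        intro h hh
        have : h ∈ Subgroup.centralizer {g} ⊓ Z2 := by rw [hL]; exact hh
        exact mem_centralizer_singleton_iff.mp (Subgroup.mem_inf.mp this).1
    apply hd.no_chain5 hcard (Subgroup.center H) Z2 (Subgroup.centralizer (Z2 : Set H)) hZle hle hZ ha
      (by rw [hCeq]; exact hCw)
    · intro γ _ x
      exact char_inv (Subgroup.center H) γ x
    · intro γ _ x
      exact char_inv Z2 γ x
    · intro γ _ x
      exact char_inv (Subgroup.centralizer (Z2 : Set H)) γ x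
  · -- `|Z₂| = p³` is impossible
    have hidx : Nat.card H = p * Nat.card Z2 := by rw [hcard, ha, pow_succ, mul_comm]
    have hZ2top : Z2 ≠ ⊤ := by
      intro h
      rw [h, Subgroup.card_top, hcard] at ha
      have := pow_inj_of_prime ha
      omega
    obtain ⟨g, hg⟩ : ∃ g : H, g ∉ Z2 := by
      by_contra hall
      push Not at hall
      exact hZ2top (eq_top_iff.mpr fun x _ => hall x)
    apply hg
    rw [hZ2, mem_ucs2_iff]
    intro h
    have : Z2.Normal := Subgroup.normal_of_characteristic Z2
    rcases mem_or_exists_pow_mem hidx g h with h1 | ⟨i, hi⟩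
    · exact absurd h1 hg
    · obtain ⟨u, hu⟩ : ∃ u, u = h * (g ^ i)⁻¹ := ⟨_, rfl⟩
      rw [← hu] at hi
      have hu2 : ∀ g' : H, ⁅g', u⁆ ∈ Subgroup.center H := mem_ucs2_iff.mp (hZ2 ▸ hi)
      have hh : h = u * g ^ i := by rw [hu]; group
      have : ⁅h, g⁆ = (⁅g, u⁆)⁻¹ := by
        rw [commutatorElement_inv, hh, commutatorElement_def, commutatorElement_def]
        have h3 : u * g ^ i * g * (u * g ^ i)⁻¹ = u * (g ^ i * g * (g ^ i)⁻¹) * u⁻¹ := by group
        have h4 : g ^ i * g * (g ^ i)⁻¹ = g := by
          rw [← pow_succ, pow_succ', mul_inv_cancel_right]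
        rw [h3, h4]
      rw [this]
      exact inv_mem (hu2 g)
  · -- class two is impossible
    have hZ2top : Z2 = ⊤ := by
      apply Subgroup.eq_top_of_card_eq
      rw [ha, hcard]
    have hall : ∀ w g : H, ⁅g, w⁆ ∈ Subgroup.center H := by
      intro w g
      have : w ∈ Subgroup.upperCentralSeries H 2 := by rw [← hZ2, hZ2top]; exact Subgroup.mem_top w
      exact mem_ucs2_iff.mp this g
    obtain ⟨x, hx⟩ : ∃ x : H, x ∉ Subgroup.center H := by
      by_contra hall'
      push Not at hall'
      exact hZtop (eq_top_iff.mpr fun x _ => hall' x)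
    have hCx := card_centralizer_of_comm_central hcard hZ (hall x) hx
    have hCxtop : Subgroup.centralizer {x} ≠ ⊤ := by
      rw [Ne, centralizer_singleton_eq_top_iff]
      exact hx
    obtain ⟨y, hy⟩ : ∃ y : H, y ∉ Subgroup.centralizer {x} := by
      by_contra hall'
      push Not at hall'
      exact hCxtop (eq_top_iff.mpr fun x _ => hall' x)
    have hyZ : y ∉ Subgroup.center H := fun h => hy (center_le_centralizer_singleton x h)
    have hCy := card_centralizer_of_comm_central hcard hZ (hall y) hyZ
    have hxy : ¬ y * x = x * y := fun h => hy (mem_centralizer_singleton_iff.mpr h)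
    obtain ⟨W, hW⟩ : ∃ W : Subgroup H, W = Subgroup.centralizer {x} ⊓ Subgroup.centralizer {y} := ⟨_, rfl⟩
    have hWx : W ≤ Subgroup.centralizer {x} := hW ▸ inf_le_left
    have hWy : W ≤ Subgroup.centralizer {y} := hW ▸ inf_le_right
    have hxW : x ∉ W := by
      intro h
      have := mem_centralizer_singleton_iff.mp (hWy h)
      exact hxy this.symm
    have hWne : W ≠ Subgroup.centralizer {x} := by
      intro h
      apply hxW
      rw [h]
      exact self_mem_centralizer_singleton x
    have hidxC : ∀ v : H, Nat.card (Subgroup.centralizer {v}) = p ^ 3 → (Subgroup.centralizer {v}).index = p := by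
      intro v hv
      have h1 := Subgroup.card_mul_index (Subgroup.centralizer {v})
      rw [hv, hcard] at h1
      have h3 : p ^ 4 = p ^ 3 * p := by rw [pow_succ]
      rw [h3] at h1
      exact Nat.eq_of_mul_eq_mul_left (pow_pos hpp.pos 3) h1
    have hWidx : W.index ≤ p * p := by
      rw [hW]
      calc (Subgroup.centralizer {x} ⊓ Subgroup.centralizer {y}).index
          ≤ (Subgroup.centralizer {x}).index * (Subgroup.centralizer {y}).index := Subgroup.index_inf_le
        _ = p * p := by rw [hidxC x hCx, hidxC y hCy]
    obtain ⟨b, hb4, hb⟩ := card_subgroup_of_card_pow hcard W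
    have hb3 : b < 3 := by
      have := card_lt_of_le_of_ne' hWx hWne
      rw [hb, hCx] at this
      exact pow_lt_pow_iff_of_prime.mp this
    have hb2 : 2 ≤ b := by
      have h1 := Subgroup.card_mul_index W
      rw [hb, hcard] at h1
      by_contra hlt
      have hb1 : b ≤ 1 := by omega
      have h5 : p ^ b * W.index ≤ p ^ 1 * (p * p) := Nat.mul_le_mul (pow_le_pow_iff_of_prime.mpr hb1) hWidx
      rw [h1] at h5
      have h6 : p ^ 1 * (p * p) = p ^ 3 := by ring
      rw [h6] at h5
      have := pow_le_pow_iff_of_prime.mp h5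
      omega
    have hb' : b = 2 := by omega
    subst hb'
    have hWcomm : IsMulCommutative ↥W := IsPGroup.isMulCommutative_of_card_eq_prime_sq hb
    have hZW : Subgroup.center H ≤ W :=
      hW ▸ le_inf (center_le_centralizer_singleton x) (center_le_centralizer_singleton y)
    have hZWne : Subgroup.center H ≠ W := by
      intro h
      rw [h, hb] at hZ
      have h2 : p ^ 2 = p ^ 1 := by rw [hZ, pow_one]
      have := pow_inj_of_prime h2
      omega
    obtain ⟨u, huW, huZ⟩ := SetLike.exists_of_lt (lt_of_le_of_ne hZW hZWne)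
    have hidxW : Nat.card (Subgroup.centralizer {x}) = p * Nat.card W := by rw [hCx, hb, pow_succ, mul_comm]
    have hL : Subgroup.centralizer {u} ⊓ Subgroup.centralizer {x} = Subgroup.centralizer {x} := by
      apply eq_of_le_of_card_mul hidxW (le_inf ?_ hWx) inf_le_right
      · intro h
        apply hxW
        rw [h]
        exact Subgroup.mem_inf.mpr ⟨mem_centralizer_singleton_iff.mpr
          (mem_centralizer_singleton_iff.mp (hWx huW)).symm, self_mem_centralizer_singleton x⟩
      · intro v hv
        rw [mem_centralizer_singleton_iff]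
        have := isMulCommutative_iff.mp hWcomm ⟨v, hv⟩ ⟨u, huW⟩
        exact congrArg Subtype.val this
    have hxu : Subgroup.centralizer {x} ≤ Subgroup.centralizer {u} := by
      rw [← hL]
      exact inf_le_left
    have hidxH : Nat.card H = p * Nat.card (Subgroup.centralizer {x}) := by rw [hcard, hCx, pow_succ, mul_comm]
    have htop : Subgroup.centralizer {u} = ⊤ := by
      apply eq_top_of_lt_of_card_mul hidxH hxu
      intro h
      apply hy
      rw [h, mem_centralizer_singleton_iff]
      exact (mem_centralizer_singleton_iff.mp (hWy huW)).symm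
    exact huZ (centralizer_singleton_eq_top_iff.mp htop)

end CenterP

end Cfsg.Agent.Lib.Helper26
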