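import Mathlib
import Cfsg.Agent.Lib.Helper1.MaxClassTwo
import Cfsg.Agent.Lib.Helper12.Cores
import Cfsg.Agent.Lib.Helper26.OrderP4B

/-!
`p`-groups of maximal class of order `p ^ n`, `n ≥ 4`: the second centre has order `p²`, is abelian, and its
centralizer has index `p`.
-/

set_option autoImplicit false
set_option linter.unusedSectionVars false
universe u

namespace Cfsg.Agent.Lib.Helper26.MC

open Cfsg Subgroup
open scoped commutatorElement

variable {H : Type u} [Group H] [Finite H] {p : ℕ} [Fact p.Prime]

/-- nilpotency class from the non-vanishing of the lower central series -/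
theorem nilpotencyClass_eq {n : ℕ} (hcard : Nat.card H = p ^ n) (h3 : 3 ≤ n)
    (hmax : Subgroup.lowerCentralSeries (⊤ : Subgroup H) (n - 2) ≠ ⊥) :
    Group.nilpotencyClass H = n - 1 := by
  have hH : IsPGroup p H := IsPGroup.of_card hcard
  have hnil : Group.IsNilpotent H := hH.isNilpotent
  have h1 := Cfsg.Agent.Lib.Helper1.nilpotencyClass_le_of_card_pow (p := p) n H hcard
  have h2 : max 1 (n - 1) = n - 1 := max_eq_right (by omega)
  rw [h2] at h1
  have h3 : ¬ Group.nilpotencyClass H ≤ n - 2 := fun h =>
    hmax (Subgroup.lowerCentralSeries_eq_bot_iff_nilpotencyClass_le.mpr h)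
  omega

theorem card_center {n : ℕ} (hcard : Nat.card H = p ^ n) (h3 : 3 ≤ n)
    (hcl : Group.nilpotencyClass H = n - 1) : Nat.card (center H) = p :=
  Cfsg.Agent.Lib.Helper1.card_center_of_maximal_class n h3 hcard hcl

theorem card_ucs2 {n : ℕ} (hcard : Nat.card H = p ^ n) (h4 : 4 ≤ n)
    (hcl : Group.nilpotencyClass H = n - 1) : Nat.card (Subgroup.upperCentralSeries H 2) = p ^ 2 := by
  have hpp : p.Prime := Fact.out
  have hZ := card_center hcard (by omega) hcl
  have hmul := Subgroup.card_eq_card_quotient_mul_card_subgroup (center H)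
  rw [hcard, hZ] at hmul
  have hq : Nat.card (H ⧸ center H) = p ^ (n - 1) := by
    have h1 : p ^ n = p ^ (n - 1) * p := by rw [← pow_succ]; congr 1; omega
    rw [h1] at hmul
    exact (Nat.eq_of_mul_eq_mul_right hpp.pos hmul).symm
  have hclq : Group.nilpotencyClass (H ⧸ center H) = (n - 1) - 1 := by
    rw [Group.nilpotencyClass_quotient_center, hcl]
  have hZq := card_center (p := p) hq (by omega) hclq
  have h2 : Subgroup.upperCentralSeries H 2 = (center (H ⧸ center H)).comap (QuotientGroup.mk' (center H)) := by
    have := Subgroup.comap_upperCentralSeries_quotient_center (G := H) 1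
    rw [Subgroup.upperCentralSeries_one] at this
    exact this.symm
  rw [h2, Cfsg.Agent.Lib.Helper12.card_comap_mk', hZ, hZq, pow_two]

theorem ucs2_comm {n : ℕ} (hcard : Nat.card H = p ^ n) (h4 : 4 ≤ n)
    (hcl : Group.nilpotencyClass H = n - 1) :
    Subgroup.upperCentralSeries H 2 ≤ centralizer (Subgroup.upperCentralSeries H 2 : Set H) := by
  have h2 := card_ucs2 hcard h4 hcl
  have hc := (IsPGroup.isMulCommutative_of_card_eq_prime_sq (p := p) h2).is_comm.comm
  intro x hx
  rw [mem_centralizer_iff]
  intro y hy
  exact congrArg Subtype.val (hc ⟨y, hy⟩ ⟨x, hx⟩)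

theorem card_centralizer_ucs2 {n : ℕ} (hcard : Nat.card H = p ^ n) (h4 : 4 ≤ n)
    (hcl : Group.nilpotencyClass H = n - 1) :
    Nat.card (centralizer (Subgroup.upperCentralSeries H 2 : Set H)) * p = p ^ n := by
  have hpp : p.Prime := Fact.out
  have hH : IsPGroup p H := IsPGroup.of_card hcard
  have hZ := card_center hcard (by omega) hcl
  have hZ2 := card_ucs2 hcard h4 hcl
  have hne : center H ≠ ⊤ := by
    intro h
    have : Nat.card (center H) = Nat.card H := by rw [h, Subgroup.card_top]
    rw [hZ, hcard] at this
    have h1 : p ^ 1 = p ^ n := by rw [pow_one]; exact this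
    have := Nat.pow_right_injective hpp.two_le h1
    omega
  obtain ⟨w, hw2, hwZ⟩ := exists_mem_ucs2_not_mem_center hH hne
  have hw : ∀ g : H, ⁅g, w⁆ ∈ center H := mem_ucs2_iff.mp hw2
  -- centralizer of `Z₂` is the centralizer of `w`
  have hcw : centralizer (Subgroup.upperCentralSeries H 2 : Set H) = centralizer {w} := by
    apply le_antisymm
    · exact centralizer_le (by
        intro x hx
        rw [Set.mem_singleton_iff] at hx
        rw [hx]; exact hw2)
    · intro g hg
      rw [mem_centralizer_singleton_iff] at hg
      -- the subgroup generated by the centre and `w`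
      set K : Subgroup H := center H ⊔ zpowers w with hK
      have hKle : K ≤ Subgroup.upperCentralSeries H 2 :=
        sup_le center_le_ucs2 (by rw [zpowers_le]; exact hw2)
      have hKZ : center H < K := by
        refine lt_of_le_of_ne le_sup_left ?_
        intro h
        apply hwZ
        rw [h]
        exact (le_sup_right : zpowers w ≤ K) (mem_zpowers w)
      have hKcard : Nat.card K = p ^ 2 := by
        obtain ⟨k, hk⟩ := IsPGroup.iff_card.mp (hH.to_subgroup K)
        have h1 : Nat.card (center H) < Nat.card K := by
          have hle := Subgroup.card_le_of_le hKZ.le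
          rcases hle.lt_or_eq with h | h
          · exact h
          · exact absurd (Subgroup.eq_of_le_of_card_ge hKZ.le h.ge) hKZ.ne
        have h2 : Nat.card K ∣ Nat.card (Subgroup.upperCentralSeries H 2) := Subgroup.card_dvd_of_le hKle
        rw [hZ, hk] at h1
        rw [hZ2, hk] at h2
        have h3 : k ≤ 2 := (Nat.pow_dvd_pow_iff_le_right hpp.one_lt).mp h2
        have h4 : 1 < k := by
          by_contra h
          have : k ≤ 1 := by omega
          have := Nat.pow_le_pow_right hpp.pos this
          rw [pow_one] at this
          omega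
        have : k = 2 := by omega
        rw [hk, this]
      have hKeq : K = Subgroup.upperCentralSeries H 2 := by
        apply Subgroup.eq_of_le_of_card_ge hKle
        rw [hKcard, hZ2]
      rw [mem_centralizer_iff]
      intro y hy
      have hyK : y ∈ K := by rw [hKeq]; exact hy
      have hKc : K ≤ centralizer {g} := by
        rw [hK]
        refine sup_le ?_ ?_
        · exact center_le_centralizer_singleton g
        · rw [zpowers_le, mem_centralizer_singleton_iff]
          exact hg.symm
      have := hKc hyK
      rw [mem_centralizer_singleton_iff] at this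
      exact this
  rw [hcw]
  have h1 := card_ker_mul_card_range (commHom w hw)
  have h2 : Nat.card (commHom w hw).range ∣ p := hZ ▸ Subgroup.card_dvd_of_le (commHom_range_le w hw)
  rw [commHom_ker, hcard] at h1
  rcases (Nat.dvd_prime hpp).mp h2 with h | h
  · exfalso
    rw [h, mul_one] at h1
    apply hwZ
    rw [← centralizer_singleton_eq_top_iff]
    apply Subgroup.eq_top_of_card_eq
    rw [h1, hcard]
  · rw [h] at h1
    exact h1

end Cfsg.Agent.Lib.Helper26.MC
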