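import Mathlib
import Cfsg.Prelude.Def_Solvable
import Cfsg.Agent.Lib.Helper12.Cores
import Cfsg.Agent.Lib.Helper26.McLDefs
import Cfsg.Agent.Lib.Helper26.McLBasic
import Cfsg.Agent.Lib.Helper26.McLMore

/-!
# S5075 leaves B1–B4 (helper26): the components of the non-commuting graph
-/

set_option autoImplicit false
set_option linter.unusedSectionVars false
set_option linter.unusedVariables false

namespace Cfsg.Agent.Lib.Helper26.McLLeaf
open Module Cfsg.Agent.Lib.Helper26.McL

universe u
variable {p : ℕ} [Fact p.Prime] {V : Type u} [AddCommGroup V] [Module (ZMod p) V]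
variable {H : Subgroup (V ≃ₗ[ZMod p] V)}

theorem crel_symm {a b : V ≃ₗ[ZMod p] V} (h : CRel H a b) : CRel H b a := by
  unfold CRel at h ⊢
  induction h with
  | refl => exact Relation.ReflTransGen.refl
  | tail _ hbc ih =>
    exact Relation.ReflTransGen.head ⟨hbc.2.1, hbc.1, fun h => hbc.2.2 h.symm⟩ ih

theorem crel_trans {a b c : V ≃ₗ[ZMod p] V} (h1 : CRel H a b) (h2 : CRel H b c) : CRel H a c :=
  Relation.ReflTransGen.trans h1 h2

theorem inv_mem_TvSet {r : V ≃ₗ[ZMod p] V} (hr : r ∈ TvSet H) : r⁻¹ ∈ TvSet H := by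
  obtain ⟨hrH, φ, v, h1, h2, h3, rfl⟩ := hr
  refine ⟨H.inv_mem hrH, -φ, v, by simp [h1], neg_ne_zero.mpr h2, h3, tv_inv h1⟩

theorem conj_mem_TvSet {h s : V ≃ₗ[ZMod p] V} (hh : h ∈ H) (hs : s ∈ TvSet H) :
    h * s * h⁻¹ ∈ TvSet H := by
  obtain ⟨hsH, φ, v, h1, h2, h3, rfl⟩ := hs
  refine ⟨H.mul_mem (H.mul_mem hh hsH) (H.inv_mem hh), dconj h φ, h v, ?_, ?_, ?_, conj_tv' h φ v⟩
  · rw [dconj_apply_apply]; exact h1
  · intro h0
    apply h2
    have := congrArg (dconj h⁻¹) h0
    rw [dconj_inv_dconj] at this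
    rw [this]
    apply LinearMap.ext; intro x; simp
  · intro h0
    apply h3
    have := congrArg (h⁻¹ : V ≃ₗ[ZMod p] V) h0
    rwa [inv_apply_apply', map_zero] at this

/-- conjugation by a transvection of `H` preserves each class -/
theorem crel_conj_gen {t r s : V ≃ₗ[ZMod p] V} (hr : r ∈ TvSet H) (hs : s ∈ TvSet H)
    (hts : CRel H t s) : CRel H t (r * s * r⁻¹) := by
  by_cases hc : r * s = s * r
  · have : r * s * r⁻¹ = s := by rw [hc, mul_assoc, mul_inv_cancel, mul_one]
    rw [this]; exact hts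
  · have h1 : CRel H t r :=
      Relation.ReflTransGen.tail hts ⟨hs, hr, fun h => hc h.symm⟩
    have h2 : r * s * r⁻¹ ∈ TvSet H := conj_mem_TvSet hr.1 hs
    refine Relation.ReflTransGen.tail h1 ⟨hr, h2, ?_⟩
    intro h
    apply hc
    -- `r (r s r⁻¹) = (r s r⁻¹) r` gives `r s = s r`
    have h3 : r * (r * s * r⁻¹) = r * s := by
      rw [h]; group
    have h4 : r * s * r⁻¹ = s := mul_left_cancel h3
    calc r * s = r * s * r⁻¹ * r := by group
      _ = s * r := by rw [h4]

theorem crel_conj (hgen : H = Subgroup.closure (TvSet H)) {t : V ≃ₗ[ZMod p] V}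
    {h : V ≃ₗ[ZMod p] V} (hh : h ∈ H) :
    ∀ s, s ∈ TvSet H → CRel H t s → (h * s * h⁻¹ ∈ TvSet H ∧ CRel H t (h * s * h⁻¹)) := by
  have hh' := hh
  rw [hgen] at hh'
  induction hh' using Subgroup.closure_induction'' with
  | mem r hr =>
    intro s hs hts
    exact ⟨conj_mem_TvSet hr.1 hs, crel_conj_gen hr hs hts⟩
  | inv_mem r hr =>
    intro s hs hts
    have hr' := inv_mem_TvSet hr
    exact ⟨conj_mem_TvSet hr'.1 hs, crel_conj_gen hr' hs hts⟩
  | one =>
    intro s hs hts
    simpa using And.intro hs hts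
  | mul a b ha hb iha ihb =>
    intro s hs hts
    have haH : a ∈ H := by rw [hgen]; exact ha
    have hbH : b ∈ H := by rw [hgen]; exact hb
    obtain ⟨h1, h2⟩ := ihb hbH s hs hts
    obtain ⟨h3, h4⟩ := iha haH _ h1 h2
    have : a * b * s * (a * b)⁻¹ = a * (b * s * b⁻¹) * a⁻¹ := by group
    rw [this]
    exact ⟨h3, h4⟩

/-- **B1**. -/
theorem comp_basic (hgen : H = Subgroup.closure (TvSet H)) {t : V ≃ₗ[ZMod p] V} (ht : t ∈ TvSet H) :
    Comp H t ≤ H ∧ (∀ h ∈ H, ∀ g ∈ Comp H t, h * g * h⁻¹ ∈ Comp H t) ∧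
    (∀ t' ∈ TvSet H, ¬ CRel H t t' → ∀ a ∈ Comp H t, ∀ b ∈ Comp H t', a * b = b * a) ∧
    (∀ t' ∈ TvSet H, CRel H t t' → CRel H t' t) := by
  refine ⟨?_, ?_, ?_, fun t' _ h => crel_symm h⟩
  · unfold Comp
    rw [Subgroup.closure_le]
    intro s hs
    exact hs.1.1
  · intro h hh g hg
    unfold Comp at hg ⊢
    induction hg using Subgroup.closure_induction with
    | mem s hs =>
      obtain ⟨h1, h2⟩ := crel_conj hgen hh s hs.1 hs.2
      exact Subgroup.subset_closure ⟨h1, h2⟩
    | one => simp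
    | mul a b _ _ ha hb =>
      have : h * (a * b) * h⁻¹ = (h * a * h⁻¹) * (h * b * h⁻¹) := by group
      rw [this]
      exact Subgroup.mul_mem _ ha hb
    | inv a _ ha =>
      have : h * a⁻¹ * h⁻¹ = (h * a * h⁻¹)⁻¹ := by group
      rw [this]
      exact Subgroup.inv_mem _ ha
  · intro t' ht' hnr
    -- generators commute
    have hgen' : ∀ s, s ∈ TvSet H → CRel H t s → ∀ s', s' ∈ TvSet H → CRel H t' s' →
        Commute s s' := by
      intro s hs hts s' hs' hts'
      by_contra hc
      apply hnr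
      have h1 : CRel H t s' := Relation.ReflTransGen.tail hts ⟨hs, hs', hc⟩
      exact crel_trans h1 (crel_symm hts')
    have h1 : ∀ s, s ∈ TvSet H → CRel H t s → ∀ b ∈ Comp H t', Commute s b := by
      intro s hs hts b hb
      unfold Comp at hb
      induction hb using Subgroup.closure_induction with
      | mem s' hs' => exact hgen' s hs hts s' hs'.1 hs'.2
      | one => exact Commute.one_right s
      | mul a b _ _ ha hb => exact Commute.mul_right ha hb
      | inv a _ ha => exact Commute.inv_right ha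
    intro a ha b hb
    have : Commute a b := by
      unfold Comp at ha
      induction ha using Subgroup.closure_induction with
      | mem s hs => exact h1 s hs.1 hs.2 b hb
      | one => exact Commute.one_left b
      | mul a c _ _ ha hc => exact Commute.mul_left ha hc
      | inv a _ ha => exact Commute.inv_left ha
    exact this

theorem tv_pow_p {φ : Dual (ZMod p) V} {v : V} (h : φ v = 0) : (tv φ v) ^ p = 1 := by
  rw [tv_pow h]
  simp

/-- **B2**.  The transvections of `Comp H t` are exactly the class of `t`. -/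
theorem tvSet_comp (hgen : H = Subgroup.closure (TvSet H)) (hcore : Cfsg.pCore p ↥H = ⊥)
    {t : V ≃ₗ[ZMod p] V} (ht : t ∈ TvSet H) :
    TvSet (Comp H t) = {s | s ∈ TvSet H ∧ CRel H t s} := by
  obtain ⟨hle, _, hcomm, _⟩ := comp_basic hgen ht
  ext s
  constructor
  · intro hs
    have hsH : s ∈ TvSet H := ⟨hle hs.1, hs.2⟩
    refine ⟨hsH, ?_⟩
    by_contra hnr
    -- `s` commutes with every transvection of `H`
    have hall : ∀ r ∈ TvSet H, Commute s r := by
      intro r hr
      by_cases htr : CRel H t r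
      · -- `r ∈ Comp H t`, `s ∈ Comp H s`
        have h1 : r ∈ Comp H t := Subgroup.subset_closure ⟨hr, htr⟩
        have h2 : s ∈ Comp H s := Subgroup.subset_closure ⟨hsH, Relation.ReflTransGen.refl⟩
        exact (hcomm s hsH hnr r h1 s h2).symm
      · have h2 : r ∈ Comp H r := Subgroup.subset_closure ⟨hr, Relation.ReflTransGen.refl⟩
        exact hcomm r hr htr s hs.1 r h2
    have hcen : ∀ g ∈ H, Commute s g := by
      intro g hg
      rw [hgen] at hg
      induction hg using Subgroup.closure_induction with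
      | mem r hr => exact hall r hr
      | one => exact Commute.one_right s
      | mul a b _ _ ha hb => exact Commute.mul_right ha hb
      | inv a _ ha => exact Commute.inv_right ha
    -- `zpowers s` is a normal `p`-subgroup of `H`
    obtain ⟨φ, v, h1, h2, h3, rfl⟩ := hs.2
    set x : ↥H := ⟨tv φ v, hsH.1⟩ with hx
    have hxp : x ^ p = 1 := by
      apply Subtype.ext
      simp only [hx, Subgroup.coe_pow, Subgroup.coe_one]
      exact tv_pow_p h1
    have hN : (Subgroup.zpowers x).Normal := by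
      refine ⟨fun g hg h => ?_⟩
      obtain ⟨k, rfl⟩ := Subgroup.mem_zpowers_iff.mp hg
      have hc : Commute (x ^ k) h := by
        apply Commute.zpow_left
        show x * h = h * x
        apply Subtype.ext
        exact hcen h h.2
      have : h * x ^ k * h⁻¹ = x ^ k := by
        rw [← hc.eq, mul_assoc, mul_inv_cancel, mul_one]
      rw [this]
      exact Subgroup.zpow_mem_zpowers x k
    have hP : IsPGroup p ↥(Subgroup.zpowers x) := by
      intro g
      refine ⟨1, ?_⟩
      obtain ⟨k, hk⟩ := Subgroup.mem_zpowers_iff.mp g.2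
      apply Subtype.ext
      simp only [pow_one, Subgroup.coe_pow, Subgroup.coe_one]
      rw [← hk, ← zpow_natCast, ← zpow_mul, mul_comm, zpow_mul, zpow_natCast, hxp, one_zpow]
    have hle' := Cfsg.Agent.Lib.Helper12.le_pCore' p (Subgroup.zpowers x) hN hP
    rw [hcore] at hle'
    have hx1 : x = 1 := by
      have := hle' (Subgroup.mem_zpowers x)
      simpa using this
    have : tv φ v = 1 := by
      have := congrArg Subtype.val hx1
      simpa [hx] using this
    exact tv_ne_one h1 h2 h3 this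
  · rintro ⟨hs, hts⟩
    exact ⟨Subgroup.subset_closure ⟨hs, hts⟩, hs.2⟩

/-- **B3**.  `O_p (C) = 1` for a subgroup `C ≤ H` normalised by `H`. -/
theorem pCore_comp (hcore : Cfsg.pCore p ↥H = ⊥) {C : Subgroup (V ≃ₗ[ZMod p] V)} (hCH : C ≤ H)
    (hnorm : ∀ h ∈ H, ∀ g ∈ C, h * g * h⁻¹ ∈ C) : Cfsg.pCore p ↥C = ⊥ := by
  set P : Subgroup ↥C := Cfsg.pCore p ↥C with hP
  set ι : ↥C →* ↥H := Subgroup.inclusion hCH with hι
  -- conjugation by `h ∈ H` as an automorphism of `C`
  have haut : ∀ h : ↥H, ∃ α : ↥C ≃* ↥C, ∀ y : ↥C,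
      ((α y : ↥C) : V ≃ₗ[ZMod p] V) = (h : V ≃ₗ[ZMod p] V) * y * (h : V ≃ₗ[ZMod p] V)⁻¹ := by
    intro h
    refine ⟨{ toFun := fun y => ⟨(h : V ≃ₗ[ZMod p] V) * y * (h : V ≃ₗ[ZMod p] V)⁻¹,
                hnorm h h.2 y y.2⟩
              invFun := fun y => ⟨(h : V ≃ₗ[ZMod p] V)⁻¹ * y * (h : V ≃ₗ[ZMod p] V), by
                have := hnorm _ (H.inv_mem h.2) y y.2
                simpa using this⟩
              left_inv := fun y => by apply Subtype.ext; simp only; group
              right_inv := fun y => by apply Subtype.ext; simp only; group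
              map_mul' := fun y z => by
                apply Subtype.ext; simp only [Subgroup.coe_mul]; group }, fun y => rfl⟩
  have hchar : P.Characteristic := Cfsg.Agent.Lib.Helper12.pCore_characteristic' p
  have hN : (P.map ι).Normal := by
    refine ⟨fun x hx h => ?_⟩
    obtain ⟨y, hy, rfl⟩ := hx
    obtain ⟨α, hα⟩ := haut h
    refine ⟨α y, ?_, ?_⟩
    · have := hchar.fixed α
      have h2 : y ∈ P.comap α.toMonoidHom ↔ y ∈ P := by rw [this]
      exact h2.mpr hy
    · apply Subtype.ext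
      simp only [hι, Subgroup.coe_inclusion, Subgroup.coe_mul, Subgroup.coe_inv]
      exact hα y
  have hPg : IsPGroup p ↥(P.map ι) :=
    (Cfsg.Agent.Lib.Helper12.pCore_isPGroup' p).map ι
  have hle := Cfsg.Agent.Lib.Helper12.le_pCore' p (P.map ι) hN hPg
  rw [hcore, le_bot_iff] at hle
  exact (Subgroup.map_eq_bot_iff_of_injective P (Subgroup.inclusion_injective hCH)).mp hle

/-- **B4**.  `IsStar (Comp H t)` (glue of B1-B3). -/
theorem star_comp (hgen : H = Subgroup.closure (TvSet H)) (hcore : Cfsg.pCore p ↥H = ⊥)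
    {t : V ≃ₗ[ZMod p] V} (ht : t ∈ TvSet H)
    (hB2 : TvSet (Comp H t) = {s | s ∈ TvSet H ∧ CRel H t s})
    (hB3 : Cfsg.pCore p ↥(Comp H t) = ⊥) : IsStar (Comp H t) := by
  refine ⟨?_, ?_, hB3⟩
  · rw [hB2]; rfl
  · intro s hs s' hs'
    rw [hB2] at hs hs'
    have h1 : CRel H s s' := crel_trans (crel_symm hs.2) hs'.2
    -- lift the chain
    have key : ∀ x, CRel H s x →
        Relation.ReflTransGen (fun a b => a ∈ TvSet (Comp H t) ∧ b ∈ TvSet (Comp H t) ∧
          a * b ≠ b * a) s x := by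
      intro x hx
      unfold CRel at hx
      induction hx with
      | refl => exact Relation.ReflTransGen.refl
      | tail hab hbc ih =>
        rename_i b c
        have hb : CRel H t b := crel_trans hs.2 hab
        have hc : CRel H t c := Relation.ReflTransGen.tail hb hbc
        refine Relation.ReflTransGen.tail ih ⟨?_, ?_, hbc.2.2⟩
        · rw [hB2]; exact ⟨hbc.1, hb⟩
        · rw [hB2]; exact ⟨hbc.2.1, hc⟩
    exact key s' h1

end Cfsg.Agent.Lib.Helper26.McLLeaf
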