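import Mathlib
import Cfsg.Prelude.Def_Solvable
import Cfsg.Agent.Lib.Helper26.McLDefs
import Cfsg.Agent.Lib.Helper26.McLBasic
import Cfsg.Agent.Lib.Helper26.McLMore

/-!
# S5075 leaf F8a (helper26): no double lift in the case `d = 1`
-/

set_option autoImplicit false
set_option linter.unusedSectionVars false
set_option linter.unusedVariables false

namespace Cfsg.Agent.Lib.Helper26.McLLeaf
open Module Cfsg.Agent.Lib.Helper26.McL

universe u
variable {p : ℕ} [Fact p.Prime] {V : Type u} [AddCommGroup V] [Module (ZMod p) V]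
variable {K : Subgroup (V ≃ₗ[ZMod p] V)}

/-- in a one-dimensional `Phi K x`, every element is a multiple of a non-zero one -/
theorem exists_smul_of_one {x : V} (hd1 : finrank (ZMod p) (Phi K x) = 1)
    {α : Dual (ZMod p) V} (hα : α ∈ Phi K x) (hα0 : α ≠ 0) {φ : Dual (ZMod p) V}
    (hφ : φ ∈ Phi K x) : ∃ c : ZMod p, φ = c • α := by
  have h1 := (finrank_eq_one_iff_of_nonzero' (⟨α, hα⟩ : ↥(Phi K x))
    (fun h => hα0 (by simpa using congrArg Subtype.val h))).mp hd1 ⟨φ, hφ⟩
  obtain ⟨c, hc⟩ := h1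
  exact ⟨c, by simpa using (congrArg Subtype.val hc).symm⟩

theorem arr_iff_of_one {x : V} (hd1 : finrank (ZMod p) (Phi K x) = 1)
    {α : Dual (ZMod p) V} (hα : α ∈ Phi K x) (hα0 : α ≠ 0) (y : V) :
    Arr K x y ↔ α y ≠ 0 := by
  constructor
  · rintro ⟨φ, hφ, hφy⟩
    obtain ⟨c, rfl⟩ := exists_smul_of_one hd1 hα hα0 hφ
    intro h
    apply hφy
    rw [LinearMap.smul_apply, h, smul_zero]
  · intro h
    exact ⟨α, hα, h⟩

/-- (♠) for a double lift pair `(v, v+z)`: `α x = 0 ↔ β x = 0` for every centre `x` -/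
theorem spade [Finite V] (hG : Geo K)
    (hd : ∀ v, IsCtr K v → finrank (ZMod p) (Phi K v) = 1)
    {v z : V} (hv : IsCtr K v) (hz : z ∈ Wsp K) (hvz : IsCtr K (v + z))
    {α β : Dual (ZMod p) V} (hα : α ∈ Phi K v) (hα0 : α ≠ 0) (hβ : β ∈ Phi K (v + z))
    (hβ0 : β ≠ 0) {x : V} (hx : IsCtr K x) : α x = 0 ↔ β x = 0 := by
  have key : Arr K x v ↔ Arr K x (v + z) := by
    constructor
    · rintro ⟨ψ, hψ, h⟩
      exact ⟨ψ, hψ, by rwa [map_add, hz x hx.1 ψ hψ, add_zero]⟩
    · rintro ⟨ψ, hψ, h⟩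
      refine ⟨ψ, hψ, ?_⟩
      rwa [map_add, hz x hx.1 ψ hψ, add_zero] at h
  have h1 : α x ≠ 0 ↔ β x ≠ 0 := by
    rw [← arr_iff_of_one (hd v hv) hα hα0 x, ← arr_iff_of_one (hd _ hvz) hβ hβ0 x]
    constructor
    · intro h
      exact hG.symm x (v + z) hx hvz (key.mp (hG.symm v x hv hx h))
    · intro h
      exact hG.symm x v hx hv (key.mpr (hG.symm (v + z) x hvz hx h))
  constructor
  · intro h
    by_contra h2
    exact (h1.mpr h2) h
  · intro h
    by_contra h2
    exact (h1.mp h2) h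

/-- **F8a**.  (`d = 1`) a centre cannot be moved by a non-zero vector of `Wsp K` to a centre. -/
theorem no_double_lift [Finite V] (hG : Geo K) (hU : UProp K)
    (hcn : ∀ v w, IsCtr K v → IsCtr K w → ∃ u, IsCtr K u ∧ Arr K u v ∧ Arr K u w)
    (hd : ∀ v, IsCtr K v → finrank (ZMod p) (Phi K v) = 1)
    {v z : V} (hv : IsCtr K v) (hz : z ∈ Wsp K) (hz0 : z ≠ 0) : ¬ IsCtr K (v + z) := by
  intro hvz
  obtain ⟨hv0, α, hα, hα0⟩ := isCtr_iff.mp hv
  obtain ⟨hvz0, β, hβ, hβ0⟩ := isCtr_iff.mp hvz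
  have hαz : α z = 0 := hz v hv0 α hα
  have hβz : β z = 0 := hz (v + z) hvz0 β hβ
  have hβv : β v = 0 := by
    have := hβ.1
    rwa [map_add, hβz, add_zero] at this
  -- (3) the ratio `β / α` is the same at adjacent centres outside `ker α`
  have h3 : ∀ x w', IsCtr K x → IsCtr K w' → α x ≠ 0 → α w' ≠ 0 → Arr K w' x →
      α x * β w' = β x * α w' := by
    intro x w' hx hw' hαx hαw' harr
    obtain ⟨ψ, hψ, hψx⟩ := harr
    set l : ZMod p := α x / (α w' * ψ x) with hl
    have ha : l • ψ ∈ Phi K w' := (Phi K w').smul_mem _ hψ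
    have hψz : ψ z = 0 := hz w' hw'.1 ψ hψ
    -- the conjugated pair
    have htz : tv (l • ψ) w' z = z := by
      rw [tv_apply ha.1, LinearMap.smul_apply, hψz, smul_zero, zero_smul, add_zero]
    have hv1 : IsCtr K (tv (l • ψ) w' v) := (isCtr_conj ha.2).mpr hv
    have hvz1 : IsCtr K (tv (l • ψ) w' v + z) := by
      have := (isCtr_conj ha.2).mpr hvz
      rwa [map_add, htz] at this
    have hα1 : dconj (tv (l • ψ) w') α ∈ Phi K (tv (l • ψ) w' v) := dconj_mem_Phi ha.2 hα
    have hβ1 : dconj (tv (l • ψ) w') β ∈ Phi K (tv (l • ψ) w' v + z) := by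
      have := dconj_mem_Phi ha.2 hβ
      rwa [map_add, htz] at this
    have hne : ∀ γ : Dual (ZMod p) V, γ ≠ 0 → dconj (tv (l • ψ) w') γ ≠ 0 := by
      intro γ hγ h
      apply hγ
      have := congrArg (dconj (tv (l • ψ) w')⁻¹) h
      rw [dconj_inv_dconj] at this
      rw [this]
      apply LinearMap.ext; intro y; simp
    have hinv : ∀ y : V, ((tv (l • ψ) w')⁻¹ : V ≃ₗ[ZMod p] V) y = y - (l * ψ y) • w' := by
      intro y
      rw [tv_inv ha.1, tv_apply (by simp [ha.1])]
      simp only [LinearMap.neg_apply, LinearMap.smul_apply, smul_eq_mul, neg_smul]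
      abel
    have hsp := spade hG hd hv1 hz hvz1 hα1 (hne α hα0) hβ1 (hne β hβ0) hx
    have e1 : dconj (tv (l • ψ) w') α x = 0 := by
      rw [dconj_apply, hinv, map_sub, map_smul, smul_eq_mul, hl]
      field_simp
      ring
    have e2 := hsp.mp e1
    rw [dconj_apply, hinv, map_sub, map_smul, smul_eq_mul, sub_eq_zero, hl] at e2
    rw [e2]
    field_simp
  -- (4)+(5): `β = c α` on all centres
  obtain ⟨x₀, hx₀, hαx₀⟩ := hG.noN v hv0 α hα hα0
  set c : ZMod p := β x₀ / α x₀ with hc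
  have h5 : ∀ x, IsCtr K x → β x = c * α x := by
    intro x hx
    by_cases hαx : α x = 0
    · rw [hαx, mul_zero]
      exact (spade hG hd hv hz hvz hα hα0 hβ hβ0 hx).mp hαx
    · -- ratio at `x` equals ratio at `x₀`
      have hr : ∀ x y, IsCtr K x → IsCtr K y → α x ≠ 0 → α y ≠ 0 → α x * β y = β x * α y := by
        intro x y hx hy hαx hαy
        by_cases hxy : Arr K y x
        · exact h3 x y hx hy hαx hαy hxy
        · have hyx : ¬ Arr K x y := fun h => hxy (hG.symm x y hx hy h)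
          obtain ⟨u₁, hu₁, hu₁x, hu₁y⟩ := hcn x y hx hy
          -- a centre `m` outside `ker α` adjacent to both
          obtain ⟨m, hm, hαm, hmx, hmy⟩ : ∃ m, IsCtr K m ∧ α m ≠ 0 ∧ Arr K m x ∧ Arr K m y := by
            by_cases hαu : α u₁ = 0
            · have hm : IsCtr K (x + (1 : ZMod p) • u₁) := isCtr_add_smul hu₁x hx 1
              rw [one_smul] at hm
              refine ⟨x + u₁, hm, by rw [map_add, hαu, add_zero]; exact hαx, ?_, ?_⟩
              · obtain ⟨φx, hφx, hφxu⟩ := hG.symm u₁ x hu₁ hx hu₁x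
                apply hG.symm x (x + u₁) hx hm
                exact ⟨φx, hφx, by rw [map_add, hφx.1, zero_add]; exact hφxu⟩
              · obtain ⟨φy, hφy, hφyu⟩ := hG.symm u₁ y hu₁ hy hu₁y
                apply hG.symm y (x + u₁) hy hm
                refine ⟨φy, hφy, ?_⟩
                rw [map_add, not_arr_iff.mp hxy φy hφy, zero_add]; exact hφyu
            · exact ⟨u₁, hu₁, hαu, hu₁x, hu₁y⟩
          have e1 := h3 x m hx hm hαx hαm hmx
          have e2 := h3 y m hy hm hαy hαm hmy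
          -- `β x / α x = β m / α m = β y / α y`
          have : α x * β y * α m = β x * α y * α m := by
            calc α x * β y * α m = α x * (β y * α m) := by ring
              _ = α x * (α y * β m) := by rw [e2]
              _ = α y * (α x * β m) := by ring
              _ = α y * (β x * α m) := by rw [e1]
              _ = β x * α y * α m := by ring
          exact mul_right_cancel₀ hαm this
      have := hr x₀ x hx₀ hx hαx₀ hαx
      rw [hc, div_mul_eq_mul_div, eq_div_iff hαx₀, mul_comm (β x), this, mul_comm]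
  -- (5) `θ = β - c α` vanishes on `Nsp K`
  have hθ : ∀ y ∈ Nsp K, (β - c • α) y = 0 := by
    intro y hy
    apply eq_zero_on_Nsp _ hy
    intro w hw
    rw [LinearMap.sub_apply, LinearMap.smul_apply, smul_eq_mul, h5 w hw, sub_self]
  -- (6) the element `g`
  have hcα : (-c) • α ∈ Phi K v := (Phi K v).smul_mem _ hα
  have hgK : tv β (v + z) * tv ((-c) • α) v ∈ K := K.mul_mem hβ.2 hcα.2
  have hg : ∀ y : V, (tv β (v + z) * tv ((-c) • α) v) y = y + (β - c • α) y • v + β y • z := by
    intro y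
    rw [LinearEquiv.mul_apply, tv_apply hcα.1, tv_apply hβ.1]
    have e : β (y + ((-c) • α) y • v) = β y := by
      rw [map_add, map_smul, hβv, smul_zero, add_zero]
    rw [e]
    simp only [LinearMap.smul_apply, LinearMap.sub_apply, smul_eq_mul, smul_add, sub_smul,
      neg_mul, neg_smul]
    abel
  have hvN : v ∈ Nsp K := isCtr_mem_Nsp hv
  have hzN : z ∈ Nsp K := by
    have h1 : v + z ∈ Nsp K := isCtr_mem_Nsp hvz
    have : z = (v + z) - v := by abel
    rw [this]
    exact Submodule.sub_mem _ h1 hvN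
  have hg1 : tv β (v + z) * tv ((-c) • α) v = 1 := by
    refine hU (Nsp K ⊓ Wsp K) (Nsp K) inf_le_left ?_ ?_ _ hgK ?_ ?_ ?_
    · intro g hg x hx
      exact ⟨Nsp_invariant hg hx.1, Wsp_invariant hg hx.2⟩
    · intro g hg x hx
      exact Nsp_invariant hg hx
    · intro y
      rw [hg, add_assoc, add_sub_cancel_left]
      exact Submodule.add_mem _ (Submodule.smul_mem _ _ hvN) (Submodule.smul_mem _ _ hzN)
    · intro y hy
      rw [hg, add_assoc, add_sub_cancel_left, hθ y hy, zero_smul, zero_add]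
      exact ⟨Submodule.smul_mem _ _ hzN, Submodule.smul_mem _ _ hz⟩
    · intro y hy
      rw [hg, hθ y hy.1, hy.2 (v + z) hvz0 β hβ, zero_smul, zero_smul, add_zero, add_zero]
  -- conclusion: `β = 0`
  apply hβ0
  apply LinearMap.ext
  intro y
  have h1 := congrArg (fun f : V ≃ₗ[ZMod p] V => f y) hg1
  simp only [LinearEquiv.coe_one, id_eq] at h1
  rw [hg, add_assoc, add_eq_left] at h1
  -- `θ y • v + β y • z = 0` with `v ∉ Wsp K`, `z ∈ Wsp K`
  by_contra hβy
  have hβy' : β y ≠ 0 := hβy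
  by_cases hθy : (β - c • α) y = 0
  · rw [hθy, zero_smul, zero_add, smul_eq_zero] at h1
    rcases h1 with h1 | h1
    · exact hβy' h1
    · exact hz0 h1
  · apply hG.noW v hv
    have h2 : v = (-((β - c • α) y)⁻¹ * β y) • z := by
      have h3 : (β - c • α) y • v = -(β y • z) := by
        rw [eq_neg_iff_add_eq_zero]; exact h1
      have h4 := congrArg (fun t => ((β - c • α) y)⁻¹ • t) h3
      simp only [smul_smul, inv_mul_cancel₀ hθy, one_smul, smul_neg] at h4
      rw [h4, neg_mul, neg_smul]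
    rw [h2]
    exact Submodule.smul_mem _ _ hz

end Cfsg.Agent.Lib.Helper26.McLLeaf
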