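import Mathlib
import Cfsg.Prelude.Def_Solvable
import Cfsg.Agent.Lib.Helper26.McLDefs
import Cfsg.Agent.Lib.Helper26.McLBasic
import Cfsg.Agent.Lib.Helper26.McLMore

/-!
# S5075 leaves F1, F2, L0, L1 (helper26)
-/

set_option autoImplicit false
set_option linter.unusedSectionVars false
set_option linter.unusedVariables false

namespace Cfsg.Agent.Lib.Helper26.McLLeaf
open Module Cfsg.Agent.Lib.Helper26.McL

universe u
variable {p : ℕ} [Fact p.Prime] {V : Type u} [AddCommGroup V] [Module (ZMod p) V]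
variable {K : Subgroup (V ≃ₗ[ZMod p] V)}

/-- **F1**.  No centre lies in `Wsp K`. -/
theorem not_mem_Wsp_of_isCtr (hU : UProp K) {v : V} (hv : IsCtr K v) : v ∉ Wsp K := by
  intro hvW
  obtain ⟨hv0, φ, hφ, hφ0⟩ := isCtr_iff.mp hv
  have h1 : tv φ v = 1 := by
    refine hU ⊥ (Wsp K) bot_le ?_ ?_ (tv φ v) hφ.2 ?_ ?_ ?_
    · intro g hg x hx
      rw [Submodule.mem_bot] at hx ⊢
      rw [hx, map_zero]
    · intro g hg x hx
      exact Wsp_invariant hg hx
    · intro x
      rw [tv_apply hφ.1, add_sub_cancel_left]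
      exact Submodule.smul_mem _ _ hvW
    · intro x hx
      rw [tv_apply hφ.1, add_sub_cancel_left, hx v hv0 φ hφ, zero_smul]
      exact Submodule.zero_mem _
    · intro x hx
      rw [Submodule.mem_bot] at hx
      rw [hx, map_zero]
  exact tv_ne_one hφ.1 hφ0 hv0 h1

/-- **F2**.  No axis contains all centres. -/
theorem exists_isCtr_apply_ne_zero (hU : UProp K) {v : V} (hv : v ≠ 0) {φ : Dual (ZMod p) V}
    (hφ : φ ∈ Phi K v) (hφ0 : φ ≠ 0) : ∃ w, IsCtr K w ∧ φ w ≠ 0 := by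
  by_contra hcon
  push Not at hcon
  have hvc : IsCtr K v := isCtr_iff.mpr ⟨hv, φ, hφ, hφ0⟩
  have h1 : tv φ v = 1 := by
    refine hU ⊥ (Nsp K) bot_le ?_ ?_ (tv φ v) hφ.2 ?_ ?_ ?_
    · intro g hg x hx
      rw [Submodule.mem_bot] at hx ⊢
      rw [hx, map_zero]
    · intro g hg x hx
      exact Nsp_invariant hg hx
    · intro x
      rw [tv_apply hφ.1, add_sub_cancel_left]
      exact Submodule.smul_mem _ _ (isCtr_mem_Nsp hvc)
    · intro x hx
      rw [tv_apply hφ.1, add_sub_cancel_left, eq_zero_on_Nsp hcon hx, zero_smul]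
      exact Submodule.zero_mem _
    · intro x hx
      rw [Submodule.mem_bot] at hx
      rw [hx, map_zero]
  exact tv_ne_one hφ.1 hφ0 hv h1

/-- **L0**.  `v ⊥ y`, `u` a common neighbour: `φ v = 0 ↔ φ y = 0` on `Phi K u`. -/
theorem phi_zero_iff (hG : Geo K) {v y u : V} (hv : IsCtr K v) (hy : IsCtr K y) (hu : IsCtr K u)
    (hvy : ¬ Arr K v y) (huv : Arr K u v) (huy : Arr K u y) {φ : Dual (ZMod p) V}
    (hφ : φ ∈ Phi K u) : φ v = 0 ↔ φ y = 0 := by
  have hyv : ¬ Arr K y v := fun h => hvy (hG.symm y v hy hv h)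
  obtain ⟨ψ, hψ, hψu⟩ := hG.symm u v hu hv huv
  obtain ⟨ψ', hψ', hψ'u⟩ := hG.symm u y hu hy huy
  constructor
  · intro h
    have h1 : φ ∈ Phi K v := mem_Phi_of_arr hψ hψu hφ h
    exact not_arr_iff.mp hvy φ h1
  · intro h
    have h1 : φ ∈ Phi K y := mem_Phi_of_arr hψ' hψ'u hφ h
    exact not_arr_iff.mp hyv φ h1

/-- **L1**.  `w ⊥ v`, `u` a common neighbour, `φ' ∈ Phi K u` with `φ' (w + e v) ≠ 0`: then `w + e v`
is a centre. -/
theorem line_lemma (hG : Geo K) {v w u : V} (hv : IsCtr K v) (hw : IsCtr K w) (hu : IsCtr K u)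
    (hwv : ¬ Arr K w v) (huw : Arr K u w) (huv : Arr K u v) {φ' : Dual (ZMod p) V}
    (hφ' : φ' ∈ Phi K u) (e : ZMod p) (hne : φ' (w + e • v) ≠ 0) : IsCtr K (w + e • v) := by
  -- `v' = v + u` is a centre
  have hv' : IsCtr K (v + (1 : ZMod p) • u) := isCtr_add_smul huv hv 1
  rw [one_smul] at hv'
  -- `w → v'`
  obtain ⟨ψ, hψ, hψu⟩ := hG.symm u w hu hw huw
  have hψv : ψ v = 0 := not_arr_iff.mp hwv ψ hψ
  have hwv' : Arr K w (v + u) := ⟨ψ, hψ, by rw [map_add, hψv, zero_add]; exact hψu⟩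
  have hv'w : Arr K (v + u) w := hG.symm w (v + u) hw hv' hwv'
  -- `w + e v'` is a centre
  have h1 : IsCtr K (w + e • (v + u)) := isCtr_add_smul hv'w hw e
  -- move it back by a transvection with centre `u`
  set t : ZMod p := -e / φ' (w + e • v) with ht
  have ha : t • φ' ∈ Phi K u := (Phi K u).smul_mem _ hφ'
  have h2 : tv (t • φ') u (w + e • (v + u)) = w + e • v := by
    rw [tv_apply ha.1]
    have h3 : (t • φ') (w + e • (v + u)) = -e := by
      have h4 : φ' (w + e • (v + u)) = φ' (w + e • v) := by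
        rw [smul_add, ← add_assoc, map_add, map_smul _ e u, hφ'.1, smul_zero, add_zero]
      rw [LinearMap.smul_apply, h4, smul_eq_mul, ht, div_mul_cancel₀ _ hne]
    rw [h3, smul_add, neg_smul]
    abel
  rw [← h2]
  exact (isCtr_conj ha.2).mpr h1

end Cfsg.Agent.Lib.Helper26.McLLeaf
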