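import Mathlib
import Cfsg.Prelude.Def_Solvable
import Cfsg.Agent.Lib.Helper26.McLDefs
import Cfsg.Agent.Lib.Helper26.McLBasic
import Cfsg.Agent.Lib.Helper26.McLMore
import Cfsg.Agent.Lib.Helper26.McLGeoA
import Cfsg.Agent.Lib.Helper26.McLF8a
import Cfsg.Agent.Lib.Helper1.McLGSL
import Cfsg.Agent.Lib.Helper1.McLGSp
import Cfsg.Agent.Lib.Helper23.McLCN
import Cfsg.Agent.Lib.Helper23.McLF4
import Cfsg.Agent.Lib.Helper23.McLF5b
import Cfsg.Agent.Lib.Helper24.McLF7
import Cfsg.Agent.Lib.Helper24.McLF8b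
import Cfsg.Agent.Lib.Helper24.McLEXT
import Cfsg.Agent.Lib.Helper9.McLEXT
import Cfsg.Agent.Lib.Helper27.McLPolS
import Cfsg.Agent.Lib.Helper27.McLPolGlue
import Cfsg.Agent.Lib.Helper27.McLPolMain
import Cfsg.Agent.Lib.Helper28.McLU
import Cfsg.Agent.Lib.Helper28.McLD
import Cfsg.Agent.Lib.Helper28.McLRSL
import Cfsg.Agent.Lib.Helper28.McLRSP

/-!
# S5075: Theorem A (one component) — glue of the leaves (helper26)

`IsStar K`, `p ≠ 2` ⟹ `V = Nsp K ⊕ Wsp K` and `K` induces on `Nsp K` exactly `SL` or exactly `Sp(B)`.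
-/

set_option autoImplicit false
set_option linter.unusedSectionVars false
set_option linter.unusedVariables false
set_option linter.style.haveILetI false

namespace Cfsg.Agent.Lib.Helper26.McLGlue
open Module Cfsg.Agent.Lib.Helper26.McL Cfsg.Agent.Lib.Helper26.McLLeaf

universe u
variable {p : ℕ} [Fact p.Prime] {V : Type u} [AddCommGroup V] [Module (ZMod p) V]
variable {K : Subgroup (V ≃ₗ[ZMod p] V)}

theorem uprop_of_star (hK : IsStar K) : UProp K := by
  intro U₁ U₂ h12 hU₁ hU₂ g hg h3 h2 h1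
  exact Cfsg.Agent.Lib.Helper28.McLLeaf.eq_one_of_chain hK.core U₁ U₂ h12 hU₁ hU₂ hg h3 h2 h1

theorem geo_of_star [Finite V] (hK : IsStar K) : Geo K := by
  have hU := uprop_of_star hK
  obtain ⟨hs, hd⟩ := Cfsg.Agent.Lib.Helper23.McLLeaf.arr_symm_and_finrank hK.gen hK.conn hU
  exact ⟨hs, hd, fun v hv => not_mem_Wsp_of_isCtr hU hv,
    fun v hv φ hφ hφ0 => exists_isCtr_apply_ne_zero hU hv hφ hφ0,
    fun v w hv hw => Cfsg.Agent.Lib.Helper23.McLLeaf.ctr_connected hK.conn hs hv hw⟩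

/-- F9 -/
theorem isCtr_of_mem_Nsp [Finite V] (hp : p ≠ 2) (hK : IsStar K) {x : V} (hx : x ∈ Nsp K)
    (hx0 : x ≠ 0) : IsCtr K x := by
  have hG := geo_of_star hK
  have hU := uprop_of_star hK
  have hcn : ∀ v w, IsCtr K v → IsCtr K w → ∃ u, IsCtr K u ∧ Arr K u v ∧ Arr K u w :=
    fun v w hv hw => Cfsg.Agent.Lib.Helper23.McLLeaf.exists_common_nbr hG hv hw
  -- the set `S = {0} ∪ centres` is closed under addition
  have hadd : ∀ v w : V, IsCtr K v → IsCtr K w → v + w ≠ 0 → IsCtr K (v + w) := by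
    intro v w hv hw hvw
    by_cases hli : ∀ a b : ZMod p, a • v + b • w = 0 → a = 0 ∧ b = 0
    · by_cases harr : Arr K w v
      · have := isCtr_add_smul harr hv 1
        rwa [one_smul] at this
      · have harr' : ¬ Arr K v w := fun h => harr (hG.symm v w hv hw h)
        by_cases hd : 2 ≤ finrank (ZMod p) (Phi K v)
        · exfalso
          apply harr'
          apply Cfsg.Agent.Lib.Helper24.McLLeaf.arr_of_two_le hG hcn _ hv hw hli
          intro v' hv'
          rw [hG.dconst v' v hv' hv]; exact hd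
        · have hd1 : ∀ v', IsCtr K v' → finrank (ZMod p) (Phi K v') = 1 := by
            intro v' hv'
            rw [hG.dconst v' v hv' hv]
            have h1 : 0 < finrank (ZMod p) (Phi K v) := by
              rw [Module.finrank_pos_iff_exists_ne_zero]
              obtain ⟨_, φ, hφ, hφ0⟩ := isCtr_iff.mp hv
              exact ⟨⟨φ, hφ⟩, fun h => hφ0 (by simpa using congrArg Subtype.val h)⟩
            omega
          have hnd : ∀ v z, IsCtr K v → z ∈ Wsp K → z ≠ 0 → ¬ IsCtr K (v + z) :=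
            fun v z hv hz hz0 => no_double_lift hG hU hcn hd1 hv hz hz0
          have hline : ∀ v w u, IsCtr K v → IsCtr K w → IsCtr K u → ¬ Arr K w v → Arr K u w →
              Arr K u v → ∀ φ' ∈ Phi K u, ∀ e : ZMod p, φ' (w + e • v) ≠ 0 → IsCtr K (w + e • v) :=
            fun v w u hv hw hu h1 h2 h3 φ' hφ' e he => line_lemma hG hv hw hu h1 h2 h3 hφ' e he
          have := Cfsg.Agent.Lib.Helper24.McLLeaf.isCtr_line_of_one hp hG hcn hline hnd hd1 hv hw hli harr' 1 1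
            (by rwa [one_smul, one_smul])
          rwa [one_smul, one_smul] at this
    · push Not at hli
      obtain ⟨a, b, hab, hne⟩ := hli
      have hb : b ≠ 0 := by
        intro hb
        rw [hb, zero_smul, add_zero, smul_eq_zero] at hab
        rcases hab with h | h
        · exact hne h hb
        · exact hv.1 h
      have hw' : w = (-(a / b)) • v := by
        have h1 : b • w = -(a • v) := by
          rw [eq_neg_iff_add_eq_zero, add_comm]; exact hab
        have h2 := congrArg (fun t => b⁻¹ • t) h1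
        simp only [smul_smul, inv_mul_cancel₀ hb, one_smul, smul_neg] at h2
        rw [h2, neg_smul, div_eq_inv_mul]
      have h3 : v + w = (1 - a / b) • v := by
        rw [hw', sub_smul, one_smul, neg_smul, sub_eq_add_neg]
      rw [h3]
      apply (isCtr_smul _).mpr hv
      intro h0
      apply hvw
      rw [h3, h0, zero_smul]
  have key : ∀ y ∈ Nsp K, y = 0 ∨ IsCtr K y := by
    intro y hy
    unfold Nsp at hy
    induction hy using Submodule.span_induction with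
    | mem y hy => exact Or.inr hy
    | zero => exact Or.inl rfl
    | add y z _ _ hy hz =>
      rcases hy with rfl | hy
      · rw [zero_add]; exact hz
      · rcases hz with rfl | hz
        · rw [add_zero]; exact Or.inr hy
        · by_cases h : y + z = 0
          · exact Or.inl h
          · exact Or.inr (hadd y z hy hz h)
    | smul c y _ hy =>
      rcases hy with rfl | hy
      · rw [smul_zero]; exact Or.inl rfl
      · by_cases hc : c = 0
        · rw [hc, zero_smul]; exact Or.inl rfl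
        · exact Or.inr ((isCtr_smul hc).mpr hy)
  exact (key x hx).resolve_left hx0

theorem Nsp_inf_Wsp [Finite V] (hp : p ≠ 2) (hK : IsStar K) : Nsp K ⊓ Wsp K = ⊥ := by
  rw [eq_bot_iff]
  rintro x ⟨hxN, hxW⟩
  by_contra hx0
  have hx0' : x ≠ 0 := fun h => hx0 (by simpa using h)
  exact (geo_of_star hK).noW x (isCtr_of_mem_Nsp hp hK hxN hx0') hxW

theorem Nsp_sup_Wsp [Finite V] (hp : p ≠ 2) (hK : IsStar K) : Nsp K ⊔ Wsp K = ⊤ := by
  have hD0 : ∀ (φ : Dual (ZMod p) V) (Ξ : Dual (ZMod p) (Dual (ZMod p) V)),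
      Ξ ∈ Phi (K.map (dualGL (p := p) (V := V))) φ ↔
        ∃ x : V, Ξ = Dual.eval (ZMod p) V x ∧ φ x = 0 ∧ tv φ x ∈ K := fun φ Ξ => Cfsg.Agent.Lib.Helper28.McLLeaf.mem_Phi_dual
  haveI : Finite (Dual (ZMod p) V) := finite_dual
  exact Cfsg.Agent.Lib.Helper28.McLLeaf.Nsp_sup_Wsp_of_dual hD0 (Nsp_inf_Wsp hp (Cfsg.Agent.Lib.Helper28.McLLeaf.star_dual hK hD0))

/-- **Theorem A** -/
theorem thmA [Finite V] (hp : p ≠ 2) (hK : IsStar K) :
    IsCompl (Nsp K) (Wsp K) ∧
    (((resN K).range : Set (↥(Nsp K) ≃ₗ[ZMod p] ↥(Nsp K))) =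
        {f : ↥(Nsp K) ≃ₗ[ZMod p] ↥(Nsp K) |
          LinearMap.det (f : ↥(Nsp K) →ₗ[ZMod p] ↥(Nsp K)) = 1} ∨
      ∃ B : LinearMap.BilinForm (ZMod p) ↥(Nsp K), B.IsAlt ∧ B.Nondegenerate ∧
        ((resN K).range : Set (↥(Nsp K) ≃ₗ[ZMod p] ↥(Nsp K))) =
          {f : ↥(Nsp K) ≃ₗ[ZMod p] ↥(Nsp K) | ∀ x y, B (f x) (f y) = B x y}) := by
  refine ⟨⟨disjoint_iff.mpr (Nsp_inf_Wsp hp hK), codisjoint_iff.mpr (Nsp_sup_Wsp hp hK)⟩, ?_⟩
  have hG := geo_of_star hK
  have hU := uprop_of_star hK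
  have hall : ∀ x ∈ Nsp K, x ≠ 0 → IsCtr K x := fun x hx hx0 => isCtr_of_mem_Nsp hp hK hx hx0
  have hcn : ∀ v w, IsCtr K v → IsCtr K w → ∃ u, IsCtr K u ∧ Arr K u v ∧ Arr K u w :=
    fun v w hv hw => Cfsg.Agent.Lib.Helper23.McLLeaf.exists_common_nbr hG hv hw
  by_cases hd : ∀ v, IsCtr K v → 2 ≤ finrank (ZMod p) (Phi K v)
  · left
    apply Cfsg.Agent.Lib.Helper28.McLLeaf.range_resN_eq_SL hK.gen
    · intro v hv hv0 ψ hψ
      exact Cfsg.Agent.Lib.Helper24.McLLeaf.exists_ext hall (fun v y hv hy hli => Cfsg.Agent.Lib.Helper24.McLLeaf.arr_of_two_le hG hcn hd hv hy hli) hv hv0 ψ hψ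
    · intro f hf
      exact Cfsg.Agent.Lib.Helper1.McLLeaf.mem_closure_transvections f hf
  · right
    push Not at hd
    obtain ⟨v₀, hv₀, hlt⟩ := hd
    have hd1 : ∀ v', IsCtr K v' → finrank (ZMod p) (Phi K v') = 1 := by
      intro v' hv'
      rw [hG.dconst v' v₀ hv' hv₀]
      have h1 : 0 < finrank (ZMod p) (Phi K v₀) := by
        rw [Module.finrank_pos_iff_exists_ne_zero]
        obtain ⟨_, φ, hφ, hφ0⟩ := isCtr_iff.mp hv₀
        exact ⟨⟨φ, hφ⟩, fun h => hφ0 (by simpa using congrArg Subtype.val h)⟩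
      omega
    have hpol : ∀ (Φ : ↥(Nsp K) → Submodule (ZMod p) (Dual (ZMod p) ↥(Nsp K))),
        (∀ v, v ≠ 0 → finrank (ZMod p) (Φ v) = 1) → (∀ v, ∀ φ ∈ Φ v, φ v = 0) →
        (∀ v w, v ≠ 0 → w ≠ 0 → ∀ φ ∈ Φ v, ∀ ψ ∈ Φ w, ψ - ψ v • φ ∈ Φ (w + φ w • v)) →
        ∃ B : LinearMap.BilinForm (ZMod p) ↥(Nsp K), B.IsAlt ∧ B.Nondegenerate ∧
          ∀ v, v ≠ 0 → Φ v = Submodule.span (ZMod p) {B v} := by
      intro Φ h1 h0 h2
      exact Cfsg.Agent.Lib.Helper27.McLLeaf.exists_form_of_polarity (F := ZMod p)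
        (fun Φ h1 h0 h2 hs Na Nb hc Ba Bb hBa hBb hab hba hΦa hΦb =>
          Cfsg.Agent.Lib.Helper27.McLLeaf.polar_glue Φ h1 h0 h2 hs Na Nb hc Ba Bb hBa hBb hab hba hΦa hΦb)
        Φ h1 h0 h2
        (fun Φ h1 h0 h2 v w hv hw h => Cfsg.Agent.Lib.Helper27.McLLeaf.polar_symm Φ h1 h0 h2 hv hw h)
    obtain ⟨B, hA, hN, hB⟩ := Cfsg.Agent.Lib.Helper9.McLLeaf.exists_form hG hall hd1 hpol
    refine ⟨B, hA, hN, ?_⟩
    apply Cfsg.Agent.Lib.Helper28.McLLeaf.range_resN_eq_Sp hK.gen B hA hN hB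
    intro f hf
    exact Cfsg.Agent.Lib.Helper1.McLLeaf.mem_closure_sympTransvections B hA hN f hf

end Cfsg.Agent.Lib.Helper26.McLGlue
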