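import Mathlib
import Cfsg.Prelude.Def_Solvable
import Cfsg.Agent.Lib.Helper26.McLDefs
import Cfsg.Agent.Lib.Helper26.McLBasic
import Cfsg.Agent.Lib.Helper26.McLMore
import Cfsg.Agent.Lib.Helper26.McLComp
import Cfsg.Agent.Lib.Helper26.McLThmA
import Cfsg.Agent.Lib.Helper28.McLT
import Cfsg.Agent.Lib.Helper28.McLLA

/-!
# S5075: McLaughlin's theorem over `ZMod p`, `p` odd — the final assembly (helper26)
-/

set_option autoImplicit false
set_option linter.unusedSectionVars false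
set_option linter.unusedVariables false
set_option linter.style.haveILetI false

namespace Cfsg.Agent.Lib.Helper26.McLFinal
open Module Cfsg.Agent.Lib.Helper26.McL Cfsg.Agent.Lib.Helper26.McLLeaf Cfsg.Agent.Lib.Helper26.McLGlue

universe u
variable {p : ℕ} [Fact p.Prime] {V : Type u} [AddCommGroup V] [Module (ZMod p) V]

section normal
variable {K : Subgroup (V ≃ₗ[ZMod p] V)}

theorem isCtr_of_normalizes {h : V ≃ₗ[ZMod p] V} (hn : ∀ g ∈ K, h * g * h⁻¹ ∈ K) {v : V}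
    (hv : IsCtr K v) : IsCtr K (h v) := by
  obtain ⟨hv0, φ, hφ, hφ0⟩ := isCtr_iff.mp hv
  refine isCtr_iff.mpr ⟨?_, dconj h φ, ⟨?_, ?_⟩, ?_⟩
  · intro h0
    apply hv0
    have := congrArg (h⁻¹ : V ≃ₗ[ZMod p] V) h0
    rwa [inv_apply_apply', map_zero] at this
  · rw [dconj_apply_apply]; exact hφ.1
  · rw [← conj_tv']; exact hn _ hφ.2
  · intro h0
    apply hφ0
    have := congrArg (dconj h⁻¹) h0
    rw [dconj_inv_dconj] at this
    rw [this]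
    apply LinearMap.ext; intro x; simp

theorem dconj_mem_Phi_of_normalizes {h : V ≃ₗ[ZMod p] V} (hn : ∀ g ∈ K, h * g * h⁻¹ ∈ K) {v : V}
    {φ : Dual (ZMod p) V} (hφ : φ ∈ Phi K v) : dconj h φ ∈ Phi K (h v) := by
  refine ⟨?_, ?_⟩
  · rw [dconj_apply_apply]; exact hφ.1
  · rw [← conj_tv']; exact hn _ hφ.2

theorem Nsp_of_normalizes {h : V ≃ₗ[ZMod p] V} (hn : ∀ g ∈ K, h * g * h⁻¹ ∈ K) {x : V}
    (hx : x ∈ Nsp K) : h x ∈ Nsp K := by
  unfold Nsp at hx ⊢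
  induction hx using Submodule.span_induction with
  | mem x hx => exact Submodule.subset_span (isCtr_of_normalizes hn hx)
  | zero => simp
  | add x y _ _ hx hy => rw [map_add]; exact Submodule.add_mem _ hx hy
  | smul c x _ hx => rw [map_smul]; exact Submodule.smul_mem _ c hx

theorem Wsp_of_normalizes {h : V ≃ₗ[ZMod p] V} (hn : ∀ g ∈ K, h⁻¹ * g * h⁻¹⁻¹ ∈ K) {x : V}
    (hx : x ∈ Wsp K) : h x ∈ Wsp K := by
  intro v hv φ hφ
  have h1 := dconj_mem_Phi_of_normalizes hn hφ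
  have h2 : (h⁻¹ : V ≃ₗ[ZMod p] V) v ≠ 0 := by
    intro h0
    apply hv
    have := congrArg h h0
    rwa [apply_inv_apply', map_zero] at this
  have := hx _ h2 _ h1
  simpa using this

theorem map_eq_of_normalizes (U : Submodule (ZMod p) V) {h : V ≃ₗ[ZMod p] V}
    (h1 : ∀ x ∈ U, h x ∈ U) (h2 : ∀ x ∈ U, (h⁻¹ : V ≃ₗ[ZMod p] V) x ∈ U) :
    U.map (h : V →ₗ[ZMod p] V) = U := by
  apply le_antisymm
  · rintro _ ⟨x, hx, rfl⟩
    exact h1 x hx
  · intro x hx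
    exact ⟨(h⁻¹ : V ≃ₗ[ZMod p] V) x, h2 x hx, apply_inv_apply' h x⟩

end normal

section comps
variable {H : Subgroup (V ≃ₗ[ZMod p] V)}

theorem mem_comp_self {t : V ≃ₗ[ZMod p] V} (ht : t ∈ TvSet H) : t ∈ Comp H t :=
  Subgroup.subset_closure ⟨ht, Relation.ReflTransGen.refl⟩

theorem comp_eq_of_crel (hgen : H = Subgroup.closure (TvSet H)) {t t' : V ≃ₗ[ZMod p] V}
    (ht : t ∈ TvSet H) (ht' : t' ∈ TvSet H) (h : CRel H t t') : Comp H t = Comp H t' := by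
  have h' : CRel H t' t := (comp_basic hgen ht).2.2.2 t' ht' h
  unfold Comp
  congr 1
  ext s
  constructor
  · rintro ⟨hs, hts⟩
    exact ⟨hs, Relation.ReflTransGen.trans h' hts⟩
  · rintro ⟨hs, hts⟩
    exact ⟨hs, Relation.ReflTransGen.trans h hts⟩

/-- centres of one component lie in the `Wsp` of a commuting subgroup -/
theorem Nsp_le_Wsp_of_commute {K K' : Subgroup (V ≃ₗ[ZMod p] V)}
    (hcomm : ∀ a ∈ K, ∀ b ∈ K', a * b = b * a) : Nsp K ≤ Wsp K' := by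
  unfold Nsp
  rw [Submodule.span_le]
  intro x hx v hv ψ hψ
  obtain ⟨hx0, φ, hφ, hφ0⟩ := isCtr_iff.mp hx
  by_contra hne
  have := tv_not_commute hψ.1 hφ.1 hv hφ0 hne
  exact this (hcomm _ hφ.2 _ hψ.2).symm

end comps

/-- the last clause of S5075 for one factor -/
def RhoProp (K : Subgroup (V ≃ₗ[ZMod p] V)) (N : Submodule (ZMod p) V) : Prop :=
  ∃ ρ : ↥K →* (↥N ≃ₗ[ZMod p] ↥N),
    (∀ (h : ↥K) (v : ↥N), ((ρ h v : ↥N) : V) = (h : V ≃ₗ[ZMod p] V) (v : V)) ∧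
    ((ρ.range : Set (↥N ≃ₗ[ZMod p] ↥N)) =
        {f : ↥N ≃ₗ[ZMod p] ↥N | LinearMap.det (f : ↥N →ₗ[ZMod p] ↥N) = 1} ∨
      ∃ B : LinearMap.BilinForm (ZMod p) ↥N, B.IsAlt ∧ B.Nondegenerate ∧
        (ρ.range : Set (↥N ≃ₗ[ZMod p] ↥N)) = {f : ↥N ≃ₗ[ZMod p] ↥N | ∀ x y, B (f x) (f y) = B x y})

theorem rhoProp_of_eq {K : Subgroup (V ≃ₗ[ZMod p] V)} {N N' : Submodule (ZMod p) V} (h : N' = N)
    (hP : RhoProp K N) : RhoProp K N' := by
  subst h; exact hP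

theorem rhoProp_bot : RhoProp (⊥ : Subgroup (V ≃ₗ[ZMod p] V)) (⊥ : Submodule (ZMod p) V) := by
  refine ⟨1, ?_, Or.inl ?_⟩
  · intro h v
    have hv : (v : V) = 0 := (Submodule.mem_bot (ZMod p)).mp v.2
    have hh : (h : V ≃ₗ[ZMod p] V) = 1 := Subgroup.mem_bot.mp h.2
    rw [hh, hv]
    have : (((1 : ↥(⊥ : Subgroup (V ≃ₗ[ZMod p] V)) →* (↥(⊥ : Submodule (ZMod p) V) ≃ₗ[ZMod p]
      ↥(⊥ : Submodule (ZMod p) V))) h v : ↥(⊥ : Submodule (ZMod p) V)) : V) = 0 :=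
      (Submodule.mem_bot (ZMod p)).mp (Subtype.property _)
    rw [this]
    simp
  · ext f
    have hf : f = 1 := Subsingleton.elim _ _
    simp [hf]

/-- the trivial case `H = ⊥` -/
theorem main_bot [Finite V] :
    ∃ (n : ℕ) (W : Fin (n + 1) → Submodule (ZMod p) V) (K : Fin n → Subgroup (V ≃ₗ[ZMod p] V)),
      1 ≤ n ∧ DirectSum.IsInternal W ∧
      (∀ h ∈ (⊥ : Subgroup (V ≃ₗ[ZMod p] V)), ∀ i, (W i).map (h : V →ₗ[ZMod p] V) = W i) ∧
      (∀ j, K j ≤ (⊥ : Subgroup (V ≃ₗ[ZMod p] V)) ∧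
        ((K j).subgroupOf (⊥ : Subgroup (V ≃ₗ[ZMod p] V))).Normal) ∧
      ⨆ j, K j = (⊥ : Subgroup (V ≃ₗ[ZMod p] V)) ∧
      (∀ j, K j ⊓ (⨆ j' ∈ {j' : Fin n | j' ≠ j}, K j') = ⊥) ∧
      (∀ j j', j ≠ j' → ∀ a ∈ K j, ∀ b ∈ K j', a * b = b * a) ∧
      (∀ j, ∀ h ∈ K j, ∀ i : Fin (n + 1), i ≠ j.succ → ∀ v ∈ W i, h v = v) ∧
      (∀ j, ∃ ρ : ↥(K j) →* (↥(W j.succ) ≃ₗ[ZMod p] ↥(W j.succ)),
        (∀ (h : ↥(K j)) (v : ↥(W j.succ)), ((ρ h v : ↥(W j.succ)) : V) = (h : V ≃ₗ[ZMod p] V) (v : V)) ∧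
        ((ρ.range : Set (↥(W j.succ) ≃ₗ[ZMod p] ↥(W j.succ))) =
            {f : ↥(W j.succ) ≃ₗ[ZMod p] ↥(W j.succ) | LinearMap.det (f : ↥(W j.succ) →ₗ[ZMod p] ↥(W j.succ)) = 1} ∨
          ∃ B : LinearMap.BilinForm (ZMod p) ↥(W j.succ), B.IsAlt ∧ B.Nondegenerate ∧
            (ρ.range : Set (↥(W j.succ) ≃ₗ[ZMod p] ↥(W j.succ))) = {f : ↥(W j.succ) ≃ₗ[ZMod p] ↥(W j.succ) | ∀ x y, B (f x) (f y) = B x y})) := by
  refine ⟨1, Fin.cons (α := fun _ => Submodule (ZMod p) V)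
    (⨅ j : Fin 1, (fun _ => (⊤ : Submodule (ZMod p) V)) j)
    (fun _ : Fin 1 => (⊥ : Submodule (ZMod p) V)), fun _ => ⊥, le_refl 1, ?_, ?_, ?_, ?_, ?_, ?_, ?_, ?_⟩
  · exact Cfsg.Agent.Lib.Helper28.McLLeaf.isInternal_of_isCompl (fun _ => ⊥) (fun _ => ⊤) (fun _ => isCompl_bot_top)
      (fun i j hij => bot_le)
  · intro h hh i
    have : h = 1 := Subgroup.mem_bot.mp hh
    subst this
    exact Submodule.map_id _
  · intro j
    exact ⟨le_refl _, inferInstance⟩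
  · simp
  · intro j; simp
  · intro j j' hjj' a ha b hb
    rw [Subgroup.mem_bot.mp ha, Subgroup.mem_bot.mp hb]
  · intro j h hh i hi v hv
    rw [Subgroup.mem_bot.mp hh]; rfl
  · intro j
    exact rhoProp_of_eq (Fin.cons_succ _ _ _) rhoProp_bot

/-- **S5075** -/
theorem main (hp : Odd p) [Finite V]
    (H : Subgroup (V ≃ₗ[ZMod p] V)) (T : Set (V ≃ₗ[ZMod p] V)) (hHT : H = Subgroup.closure T)
    (hT : ∀ t ∈ T, orderOf t = p ∧
      Module.finrank (ZMod p) ↥(LinearMap.ker ((t : V →ₗ[ZMod p] V) - LinearMap.id)) + 1 =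
        Module.finrank (ZMod p) V)
    (hOp : Cfsg.pCore p ↥H = ⊥) :
    ∃ (n : ℕ) (W : Fin (n + 1) → Submodule (ZMod p) V) (K : Fin n → Subgroup (V ≃ₗ[ZMod p] V)),
      1 ≤ n ∧ DirectSum.IsInternal W ∧
      (∀ h ∈ H, ∀ i, (W i).map (h : V →ₗ[ZMod p] V) = W i) ∧
      (∀ j, K j ≤ H ∧ ((K j).subgroupOf H).Normal) ∧ ⨆ j, K j = H ∧
      (∀ j, K j ⊓ (⨆ j' ∈ {j' : Fin n | j' ≠ j}, K j') = ⊥) ∧
      (∀ j j', j ≠ j' → ∀ a ∈ K j, ∀ b ∈ K j', a * b = b * a) ∧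
      (∀ j, ∀ h ∈ K j, ∀ i : Fin (n + 1), i ≠ j.succ → ∀ v ∈ W i, h v = v) ∧
      (∀ j, ∃ ρ : ↥(K j) →* (↥(W j.succ) ≃ₗ[ZMod p] ↥(W j.succ)),
        (∀ (h : ↥(K j)) (v : ↥(W j.succ)), ((ρ h v : ↥(W j.succ)) : V) = (h : V ≃ₗ[ZMod p] V) (v : V)) ∧
        ((ρ.range : Set (↥(W j.succ) ≃ₗ[ZMod p] ↥(W j.succ))) =
            {f : ↥(W j.succ) ≃ₗ[ZMod p] ↥(W j.succ) | LinearMap.det (f : ↥(W j.succ) →ₗ[ZMod p] ↥(W j.succ)) = 1} ∨
          ∃ B : LinearMap.BilinForm (ZMod p) ↥(W j.succ), B.IsAlt ∧ B.Nondegenerate ∧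
            (ρ.range : Set (↥(W j.succ) ≃ₗ[ZMod p] ↥(W j.succ))) = {f : ↥(W j.succ) ≃ₗ[ZMod p] ↥(W j.succ) | ∀ x y, B (f x) (f y) = B x y})) := by
  have hp2 : p ≠ 2 := by
    rintro rfl
    exact absurd hp (by decide)
  -- the elements of `T` are transvections of `H`
  have hTv : T ⊆ TvSet H := by
    intro t ht
    obtain ⟨ho, hfix⟩ := hT t ht
    have htp : t ^ p = 1 := by
      have := pow_orderOf_eq_one t
      rwa [ho] at this
    obtain ⟨φ, v, h1, h2, h3, h4⟩ := Cfsg.Agent.Lib.Helper28.McLLeaf.exists_tv_of_pow_eq_one htp hfix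
    refine ⟨?_, φ, v, h1, h2, h3, h4⟩
    rw [hHT]; exact Subgroup.subset_closure ht
  have hgen : H = Subgroup.closure (TvSet H) := by
    apply le_antisymm
    · conv_lhs => rw [hHT]
      exact Subgroup.closure_mono hTv
    · rw [Subgroup.closure_le]
      exact TvSet_subset
  by_cases hemp : TvSet H = ∅
  · have hbot : H = ⊥ := by rw [hgen, hemp, Subgroup.closure_empty]
    rw [hbot]
    exact main_bot
  -- the non-trivial case
  have hne : (TvSet H).Nonempty := Set.nonempty_iff_ne_empty.mpr hemp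
  haveI : Finite (V ≃ₗ[ZMod p] V) := finite_gl
  let 𝒦 : Set (Subgroup (V ≃ₗ[ZMod p] V)) := {C | ∃ t ∈ TvSet H, C = Comp H t}
  haveI : Finite ↥𝒦 := Finite.of_injective (fun C : ↥𝒦 => (C : Subgroup (V ≃ₗ[ZMod p] V)))
    Subtype.val_injective
  have hcard : 1 ≤ Nat.card ↥𝒦 := by
    obtain ⟨t₀, ht₀⟩ := hne
    haveI : Nonempty ↥𝒦 := ⟨⟨Comp H t₀, t₀, ht₀, rfl⟩⟩
    exact Finite.card_pos
  obtain ⟨n, hn⟩ : ∃ n, n = Nat.card ↥𝒦 := ⟨_, rfl⟩
  have e : ↥𝒦 ≃ Fin n := by rw [hn]; exact Finite.equivFin _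
  let K : Fin n → Subgroup (V ≃ₗ[ZMod p] V) := fun j => ((e.symm j : ↥𝒦) : Subgroup (V ≃ₗ[ZMod p] V))
  have hKspec : ∀ j, ∃ t, t ∈ TvSet H ∧ K j = Comp H t := fun j => by
    obtain ⟨t, ht, h⟩ := (e.symm j).2
    exact ⟨t, ht, h⟩
  choose t ht hKt using hKspec
  have hKinj : ∀ j j', j ≠ j' → K j ≠ K j' := by
    intro j j' hjj' h
    apply hjj'
    exact e.symm.injective (Subtype.ext h)
  have hnrel : ∀ j j', j ≠ j' → ¬ CRel H (t j) (t j') := by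
    intro j j' hjj' h
    apply hKinj j j' hjj'
    rw [hKt j, hKt j']
    exact comp_eq_of_crel hgen (ht j) (ht j') h
  have hB1 := fun j => comp_basic hgen (ht j)
  have hstar : ∀ j, IsStar (K j) := by
    intro j
    rw [hKt j]
    exact star_comp hgen hOp (ht j) (tvSet_comp hgen hOp (ht j))
      (pCore_comp hOp (hB1 j).1 (hB1 j).2.1)
  have hA := fun j => thmA hp2 (hstar j)
  have hcomm : ∀ j j', j ≠ j' → ∀ a ∈ K j, ∀ b ∈ K j', a * b = b * a := by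
    intro j j' hjj' a ha b hb
    rw [hKt j] at ha
    rw [hKt j'] at hb
    exact (hB1 j).2.2.1 (t j') (ht j') (hnrel j j' hjj') a ha b hb
  have hNW : ∀ i j, i ≠ j → Nsp (K i) ≤ Wsp (K j) :=
    fun i j hij => Nsp_le_Wsp_of_commute (hcomm i j hij)
  have hKH : ∀ j, K j ≤ H := fun j => by rw [hKt j]; exact (hB1 j).1
  have hnorm : ∀ j, ∀ h ∈ H, ∀ g ∈ K j, h * g * h⁻¹ ∈ K j := fun j h hh g hg => by
    rw [hKt j] at hg ⊢
    exact (hB1 j).2.1 h hh g hg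
  refine ⟨n, Fin.cons (α := fun _ => Submodule (ZMod p) V) (⨅ j, Wsp (K j)) (fun j => Nsp (K j)),
    K, by rw [hn]; exact hcard, ?_, ?_, ?_, ?_, ?_, ?_, ?_, ?_⟩
  · exact Cfsg.Agent.Lib.Helper28.McLLeaf.isInternal_of_isCompl (fun j => Nsp (K j)) (fun j => Wsp (K j)) (fun j => (hA j).1) hNW
  · intro h hh i
    have hh' : h⁻¹ ∈ H := H.inv_mem hh
    have hh'' : h⁻¹⁻¹ ∈ H := H.inv_mem hh'
    refine Fin.cases ?_ ?_ i
    · rw [Fin.cons_zero]
      apply map_eq_of_normalizes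
      · intro x hx
        rw [Submodule.mem_iInf] at hx ⊢
        intro j
        exact Wsp_of_normalizes (hnorm j h⁻¹ hh') (hx j)
      · intro x hx
        rw [Submodule.mem_iInf] at hx ⊢
        intro j
        exact Wsp_of_normalizes (hnorm j h⁻¹⁻¹ hh'') (hx j)
    · intro j
      rw [Fin.cons_succ]
      apply map_eq_of_normalizes
      · intro x hx
        exact Nsp_of_normalizes (hnorm j h hh) hx
      · intro x hx
        exact Nsp_of_normalizes (hnorm j h⁻¹ hh') hx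
  · intro j
    refine ⟨hKH j, ⟨fun g hg h => ?_⟩⟩
    rw [Subgroup.mem_subgroupOf] at hg ⊢
    simpa using hnorm j h h.2 g hg
  · apply le_antisymm (iSup_le hKH)
    conv_lhs => rw [hgen]
    rw [Subgroup.closure_le]
    intro s hs
    have hj : K (e ⟨Comp H s, s, hs, rfl⟩) = Comp H s := by
      simp only [K, Equiv.symm_apply_apply]
    have hs' : s ∈ K (e ⟨Comp H s, s, hs, rfl⟩) := by
      rw [hj]; exact mem_comp_self hs
    exact Subgroup.mem_iSup_of_mem _ hs'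
  · intro j
    rw [eq_bot_iff]
    rintro g ⟨hgj, hg'⟩
    rw [Subgroup.mem_bot]
    have h1 : ∀ x ∈ Wsp (K j), g x = x :=
      fun x hx => apply_eq_of_mem_Wsp (hstar j).gen hgj hx
    let Fix : Subgroup (V ≃ₗ[ZMod p] V) :=
      { carrier := {g | ∀ x ∈ Nsp (K j), g x = x}
        mul_mem' := by
          intro a b ha hb x hx
          rw [LinearEquiv.mul_apply, hb x hx, ha x hx]
        one_mem' := by
          intro x hx; rfl
        inv_mem' := by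
          intro a ha x hx
          have := congrArg (a⁻¹ : V ≃ₗ[ZMod p] V) (ha x hx)
          rw [inv_apply_apply'] at this
          exact this.symm }
    have hle : (⨆ j' ∈ {j' : Fin n | j' ≠ j}, K j') ≤ Fix := by
      apply iSup₂_le
      intro j' hj' g hg x hx
      exact apply_eq_of_mem_Wsp (hstar j').gen hg (hNW j j' (Ne.symm hj') hx)
    have h2 : ∀ x ∈ Nsp (K j), g x = x := hle hg'
    apply LinearEquiv.ext
    intro x
    have hx : x ∈ Nsp (K j) ⊔ Wsp (K j) := by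
      rw [(hA j).1.sup_eq_top]; trivial
    obtain ⟨a, ha, b, hb, rfl⟩ := Submodule.mem_sup.mp hx
    rw [map_add, h1 b hb, h2 a ha]
    rfl
  · exact hcomm
  · intro j h hh i
    refine Fin.cases ?_ ?_ i
    · intro _ v hv
      rw [Fin.cons_zero] at hv
      exact apply_eq_of_mem_Wsp (hstar j).gen hh ((Submodule.mem_iInf _).mp hv j)
    · intro j' hj' v hv
      rw [Fin.cons_succ] at hv
      have hne' : j' ≠ j := fun h => hj' (by rw [h])
      exact apply_eq_of_mem_Wsp (hstar j).gen hh (hNW j' j hne' hv)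
  · intro j
    exact rhoProp_of_eq (Fin.cons_succ _ _ _) ⟨resN (K j), resN_apply (K j), (hA j).2⟩

end Cfsg.Agent.Lib.Helper26.McLFinal
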