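import Mathlib
import Cfsg.Prelude.Def_OddOrderLocal
import Cfsg.Agent.Lib.Helper1.MaxClassComm
import Cfsg.Agent.Lib.Helper1.MetacyclicTwoBasic
import Cfsg.Agent.Lib.Helper21.Metacyclic4

/-!
Metacyclic `2`-groups: every commutator-subgroup element is a square (in the noncyclic case), and a
consequence: an abelian subgroup `E` with `Ω₁(E) ≤ ℧¹(E)` on which an element `t` with `t² ∈ E` acts
nontrivially modulo squares cannot sit in a metacyclic `2`-group.
-/

set_option autoImplicit false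
universe u

namespace Cfsg.Agent.Lib.Helper26

section LemmaM

variable {G : Type u} [Group G] [Finite G]

/-- In a noncyclic metacyclic `2`-group every element of the commutator subgroup is a square. -/
theorem exists_sq_of_mem_commutator_of_isMetacyclic (hG : IsPGroup 2 G) (hm : Cfsg.IsMetacyclic G)
    (hnc : ¬ IsCyclic G) : ∀ x ∈ commutator G, ∃ h : G, h * h = x := by
  have : Fact (Nat.Prime 2) := ⟨Nat.prime_two⟩
  obtain ⟨N, hN, hNc, hQc⟩ := hm
  have hle : commutator G ≤ N := by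
    have hcomm : ∀ a b : G ⧸ N, a * b = b * a := by
      have := hQc
      exact fun a b => (IsCyclic.commGroup (α := G ⧸ N)).mul_comm a b
    rw [commutator_def, Subgroup.commutator_le]
    intro a _ b _
    rw [← QuotientGroup.eq_one_iff, commutatorElement_def]
    simp only [QuotientGroup.mk_mul, QuotientGroup.mk_inv]
    rw [hcomm (a : G ⧸ N) (b : G ⧸ N)]
    group
  obtain ⟨g, hg⟩ := hNc.exists_generator
  intro x hx
  have hxN : x ∈ N := hle hx
  have hx' : (⟨x, hxN⟩ : N) ∈ Subgroup.zpowers g := hg _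
  rw [← mem_powers_iff_mem_zpowers] at hx'
  obtain ⟨k, hk⟩ := hx'
  have hk' : (g : G) ^ k = x := by
    have := congrArg Subtype.val hk
    rwa [Subgroup.coe_pow] at this
  rcases Nat.even_or_odd k with ⟨j, hj⟩ | hodd
  · refine ⟨(g : G) ^ j, ?_⟩
    rw [← pow_add, ← hj, hk']
  · exfalso
    apply hnc
    -- `N ≤ commutator G`
    obtain ⟨m, hm⟩ := (IsPGroup.iff_orderOf.mp hG) (g : G)
    have hcop : (orderOf (g : G)).Coprime k := by
      rw [hm]
      exact Nat.Coprime.pow_left m (Nat.coprime_two_left.mpr hodd)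
    have hord : orderOf ((g : G) ^ k) = orderOf (g : G) := Nat.Coprime.orderOf_pow hcop
    have hzp : Subgroup.zpowers ((g : G) ^ k) = Subgroup.zpowers (g : G) := by
      apply Subgroup.eq_of_le_of_card_ge
      · exact Subgroup.zpowers_le.mpr (Subgroup.pow_mem _ (Subgroup.mem_zpowers _) k)
      · rw [Nat.card_zpowers, Nat.card_zpowers, hord]
    have hgc : (g : G) ∈ commutator G := by
      have h1 : (g : G) ∈ Subgroup.zpowers ((g : G) ^ k) := by
        rw [hzp]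
        exact Subgroup.mem_zpowers _
      rw [hk'] at h1
      exact (Subgroup.zpowers_le.mpr hx) h1
    have hNle : N ≤ commutator G := by
      intro y hy
      have h1 : (⟨y, hy⟩ : N) ∈ Subgroup.zpowers g := hg _
      obtain ⟨i, hi⟩ := Subgroup.mem_zpowers_iff.mp h1
      have h2 : (g : G) ^ i = y := by
        have := congrArg Subtype.val hi
        rwa [Subgroup.coe_zpow] at this
      rw [← h2]
      exact Subgroup.zpow_mem _ hgc i
    have hcyc : IsCyclic (G ⧸ commutator G) := by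
      have := hQc
      exact isCyclic_of_surjective (QuotientGroup.map N (commutator G) (MonoidHom.id G) hNle)
        (by
          intro q
          induction q using QuotientGroup.induction_on with
          | H z => exact ⟨QuotientGroup.mk z, rfl⟩)
    obtain ⟨n, hn⟩ := IsPGroup.iff_card.mp hG
    exact Cfsg.Agent.Lib.Helper1.isCyclic_of_isCyclic_commutator_quotient n G hn hcyc

end LemmaM

section Swap

variable {Ω : Type u} [Group Ω]

/-- The subgroup `E ∪ E t` for `t` normalizing `E` with `t² ∈ E`. -/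
def extByElt (E : Subgroup Ω) (t : Ω) (ht : t ∈ Subgroup.normalizer (E : Set Ω)) (ht2 : t * t ∈ E) :
    Subgroup Ω where
  carrier := {g | g ∈ E ∨ ∃ e ∈ E, g = e * t}
  one_mem' := Or.inl E.one_mem
  mul_mem' := by
    have hc : ∀ e ∈ E, t * e * t⁻¹ ∈ E := fun e he => (Subgroup.mem_normalizer_iff.mp ht e).mp he
    rintro g₁ g₂ (h1 | ⟨e₁, he₁, rfl⟩) (h2 | ⟨e₂, he₂, rfl⟩)
    · exact Or.inl (E.mul_mem h1 h2)
    · exact Or.inr ⟨g₁ * e₂, E.mul_mem h1 he₂, by group⟩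
    · exact Or.inr ⟨e₁ * (t * g₂ * t⁻¹), E.mul_mem he₁ (hc g₂ h2), by group⟩
    · left
      have : e₁ * t * (e₂ * t) = e₁ * (t * e₂ * t⁻¹) * (t * t) := by group
      rw [this]
      exact E.mul_mem (E.mul_mem he₁ (hc e₂ he₂)) ht2
  inv_mem' := by
    have hc : ∀ e ∈ E, t⁻¹ * e * t ∈ E := by
      intro e he
      have := (Subgroup.mem_normalizer_iff.mp (Subgroup.inv_mem _ ht) e).mp he
      rwa [inv_inv] at this
    rintro g (h1 | ⟨e, he, rfl⟩)
    · exact Or.inl (E.inv_mem h1)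
    · right
      refine ⟨t⁻¹ * (e⁻¹ * (t * t)⁻¹) * t, hc _ (E.mul_mem (E.inv_mem he) (E.inv_mem ht2)), by group⟩

theorem mem_extByElt {E : Subgroup Ω} {t : Ω} {ht : t ∈ Subgroup.normalizer (E : Set Ω)} {ht2 : t * t ∈ E}
    {g : Ω} : g ∈ extByElt E t ht ht2 ↔ g ∈ E ∨ ∃ e ∈ E, g = e * t := Iff.rfl

theorem le_extByElt (E : Subgroup Ω) (t : Ω) (ht : t ∈ Subgroup.normalizer (E : Set Ω)) (ht2 : t * t ∈ E) :
    E ≤ extByElt E t ht ht2 := fun _ hg => Or.inl hg

theorem self_mem_extByElt (E : Subgroup Ω) (t : Ω) (ht : t ∈ Subgroup.normalizer (E : Set Ω)) (ht2 : t * t ∈ E) :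
    t ∈ extByElt E t ht ht2 := Or.inr ⟨1, E.one_mem, (one_mul t).symm⟩

theorem extByElt_le {E K : Subgroup Ω} {t : Ω} (ht : t ∈ Subgroup.normalizer (E : Set Ω)) (ht2 : t * t ∈ E)
    (hEK : E ≤ K) (htK : t ∈ K) : extByElt E t ht ht2 ≤ K := by
  rintro g (h1 | ⟨e, he, rfl⟩)
  · exact hEK h1
  · exact K.mul_mem (hEK he) htK

/-- An abelian subgroup `E` with `Ω₁(E) ≤ ℧¹(E)`, extended by an element `t` with `t² ∈ E` that moves some
`a ∈ E` nontrivially modulo squares, is not metacyclic. -/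
theorem not_isMetacyclic_of_swap {G₁ E : Subgroup Ω} [Finite G₁] (hG : IsPGroup 2 G₁) (hEG : E ≤ G₁)
    (hab : ∀ a ∈ E, ∀ b ∈ E, a * b = b * a)
    (hΩ : ∀ e ∈ E, e * e = 1 → ∃ f ∈ E, f * f = e)
    {t : Ω} (htG : t ∈ G₁) (htE : ∀ e ∈ E, t * e * t⁻¹ ∈ E) (ht2 : t * t ∈ E)
    (hdec : ∀ g ∈ G₁, g ∈ E ∨ ∃ e ∈ E, g = e * t)
    {a : Ω} (ha : a ∈ E) (hna : ∀ f ∈ E, a⁻¹ * (t * a * t⁻¹) ≠ f * f) : ¬ Cfsg.IsMetacyclic ↥G₁ := by
  intro hm
  have hnc : ¬ IsCyclic ↥G₁ := by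
    intro hc
    have h1 : (⟨t, htG⟩ : G₁) * ⟨a, hEG ha⟩ = ⟨a, hEG ha⟩ * ⟨t, htG⟩ :=
      (IsCyclic.commGroup (α := ↥G₁)).mul_comm _ _
    have h2 : t * a = a * t := congrArg Subtype.val h1
    apply hna 1 E.one_mem
    rw [h2]
    group
  obtain ⟨a', ha'⟩ : ∃ a' : G₁, a' = ⟨a, hEG ha⟩ := ⟨_, rfl⟩
  obtain ⟨t', ht'⟩ : ∃ t' : G₁, t' = ⟨t, htG⟩ := ⟨_, rfl⟩
  have hc' : a'⁻¹ * (t' * a' * t'⁻¹) ∈ commutator ↥G₁ := by
    have h1 : a'⁻¹ * (t' * a' * t'⁻¹) = a'⁻¹ * t' * a'⁻¹⁻¹ * t'⁻¹ := by group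
    rw [h1, ← commutatorElement_def, commutator_def]
    exact Subgroup.commutator_mem_commutator (Subgroup.mem_top _) (Subgroup.mem_top _)
  obtain ⟨h, hh⟩ := exists_sq_of_mem_commutator_of_isMetacyclic hG hm hnc _ hc'
  have hh' : (h : Ω) * (h : Ω) = a⁻¹ * (t * a * t⁻¹) := by
    have := congrArg Subtype.val hh
    rw [ha', ht'] at this
    exact this
  rcases hdec h h.2 with hE | ⟨e, he, heq⟩
  · exact hna _ hE hh'.symm
  · obtain ⟨b, hb⟩ : ∃ b, b = t * a * t⁻¹ := ⟨_, rfl⟩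
    have hbE : b ∈ E := hb ▸ htE a ha
    rw [← hb] at hh'
    have hcE : a⁻¹ * b ∈ E := E.mul_mem (E.inv_mem ha) hbE
    -- `c` is fixed by `t`
    have hfix : t * (a⁻¹ * b) * t⁻¹ = a⁻¹ * b := by
      rw [← hh', heq]
      have h1 : t * (e * t * (e * t)) * t⁻¹ = (t * e * t⁻¹) * ((t * t) * e * (t * t)⁻¹) * (t * t) := by group
      have h2 : (t * t) * e * (t * t)⁻¹ = e := by
        rw [hab _ ht2 _ he]
        group
      have h3 : e * t * (e * t) = e * (t * e * t⁻¹) * (t * t) := by group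
      rw [h1, h2, h3, hab _ (htE e he) _ he]
    have h4 : t * (a⁻¹ * b) * t⁻¹ = b⁻¹ * a := by
      have h5 : t * (a⁻¹ * b) * t⁻¹ = (t * a * t⁻¹)⁻¹ * ((t * t) * a * (t * t)⁻¹) := by
        rw [hb]
        group
      have h6 : (t * t) * a * (t * t)⁻¹ = a := by
        rw [hab _ ht2 _ ha]
        group
      rw [h5, h6, hb]
    have h7 : (a⁻¹ * b) * (a⁻¹ * b) = 1 := by
      have h8 : b⁻¹ * a = a⁻¹ * b := by rw [← h4, hfix]
      calc (a⁻¹ * b) * (a⁻¹ * b) = (b⁻¹ * a) * (a⁻¹ * b) := by rw [h8]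
        _ = 1 := by group
    obtain ⟨f, hf, hff⟩ := hΩ _ hcE h7
    apply hna f hf
    rw [← hb]
    exact hff.symm

end Swap

end Cfsg.Agent.Lib.Helper26
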