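import Cfsg.Agent.Lib.Helper26.MetacyclicSwap
import Cfsg.Agent.Lib.Helper26.EssTransvA
import Cfsg.Agent.Lib.Helper26.FSFrobenius
import Cfsg.Agent.Lib.Helper27.FSPrimeToP
import Cfsg.Agent.Lib.Helper1.MaxClassClassify
import Cfsg.Agent.Lib.Helper1.MaxClassKlein
import Cfsg.Agent.Lib.Helper1.SuzukiMaxClass
import Cfsg.Agent.S1896

/-!
Saturated fusion systems on metacyclic `2`-groups: essential subgroups are impossible unless the group is of
maximal class.
-/

set_option autoImplicit false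
universe u

namespace Cfsg.Agent.Lib.Helper26

open Cfsg Cfsg.FusionSystem Cfsg.Agent.Lib.Helper27

section ModPowers

variable {H : Type u} [Group H] [Finite H] {p : ℕ} [Fact p.Prime]

/-- The `k`-th power map of a commutative group. -/
def powHomOfComm (hab : ∀ a b : H, a * b = b * a) (k : ℕ) : H →* H where
  toFun x := x ^ k
  map_one' := one_pow k
  map_mul' a b := (show Commute a b from hab a b).mul_pow k

/-- An automorphism in the automizer of an "essential" abelian `p`-group acting trivially modulo `p`-th powers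
is inner. -/
theorem EssData.mem_inn_of_trivial_mod_pow (hH : IsPGroup p H) (hab : ∀ a b : H, a * b = b * a)
    {A : Subgroup (MulAut H)} (hd : EssData p H A) {α : MulAut H} (hαA : α ∈ A)
    (hα : ∀ y : H, ∃ w : H, y⁻¹ * α y = w ^ p) : α ∈ Inn H := by
  have hpp : p.Prime := Fact.out
  obtain ⟨n, hn⟩ := IsPGroup.iff_card.mp hH
  obtain ⟨T, hT⟩ : ∃ T : ℕ → Subgroup H, T = fun i => (powHomOfComm hab (p ^ (n - i))).range := ⟨_, rfl⟩
  have hmem : ∀ i x, x ∈ T i ↔ ∃ y : H, y ^ (p ^ (n - i)) = x := by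
    intro i x
    rw [hT]
    exact MonoidHom.mem_range
  have hstep : ∀ i, T i ≤ T (i + 1) := by
    intro i x hx
    obtain ⟨y, rfl⟩ := (hmem i x).mp hx
    rw [hmem]
    by_cases hi : i < n
    · refine ⟨y ^ p, ?_⟩
      have : n - i = (n - (i + 1)) + 1 := by omega
      rw [this, pow_succ, ← pow_mul, mul_comm]
    · refine ⟨y, ?_⟩
      have h1 : n - i = 0 := by omega
      have h2 : n - (i + 1) = 0 := by omega
      rw [h1, h2]
  have hmono : Monotone T := monotone_nat_of_le_succ hstep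
  have h0 : T 0 = ⊥ := by
    rw [eq_bot_iff]
    intro x hx
    obtain ⟨y, rfl⟩ := (hmem 0 x).mp hx
    rw [Subgroup.mem_bot, Nat.sub_zero, ← hn]
    exact pow_card_eq_one'
  have hnT : T n = ⊤ := by
    rw [eq_top_iff]
    intro x _
    rw [hmem]
    exact ⟨x, by rw [Nat.sub_self, pow_zero, pow_one]⟩
  have hinv : ∀ γ : MulAut H, ∀ i x, x ∈ T i ↔ γ x ∈ T i := by
    intro γ i x
    rw [hmem, hmem]
    constructor
    · rintro ⟨y, rfl⟩
      exact ⟨γ y, (map_pow γ y _).symm⟩
    · rintro ⟨y, hy⟩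
      refine ⟨γ⁻¹ y, ?_⟩
      rw [← map_pow, hy, MulAut.inv_apply_self]
  apply hd.mem_inn_of_chainStab hH T hmono h0 n hnT (fun γ _ => hinv γ) hαA
  refine ⟨hinv α, fun i x hx => ?_⟩
  obtain ⟨y, rfl⟩ := (hmem (i + 1) x).mp hx
  obtain ⟨w, hw⟩ := hα y
  rw [hmem]
  have h1 : (y ^ p ^ (n - (i + 1)))⁻¹ * α (y ^ p ^ (n - (i + 1))) = (y⁻¹ * α y) ^ p ^ (n - (i + 1)) := by
    rw [map_pow, (show Commute y⁻¹ (α y) from hab _ _).mul_pow, inv_pow]
  rw [h1, hw]
  by_cases hi : i < n
  · refine ⟨w, ?_⟩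
    have : n - i = (n - (i + 1)) + 1 := by omega
    rw [this, pow_succ, ← pow_mul, mul_comm]
  · refine ⟨(w ^ p) ^ p ^ (n - (i + 1)), ?_⟩
    have h1 : n - i = 0 := by omega
    rw [h1, pow_zero, pow_one]

end ModPowers

section Fusion

variable {Ω : Type u} [Group Ω] {S : Subgroup Ω} [Finite S]

omit [Finite S] in
theorem isMetacyclic_of_le {K : Subgroup Ω} (hm : Cfsg.IsMetacyclic ↥S) (h : K ≤ S) : Cfsg.IsMetacyclic ↥K := by
  have h1 := Cfsg.Agent.Lib.Helper21.Metacyclic.isMetacyclic_subgroup hm (K.subgroupOf S)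
  exact Cfsg.Agent.Lib.Helper1.isMetacyclic_of_surjective (Subgroup.subgroupOfEquivOfLe h).toMonoidHom
    (Subgroup.subgroupOfEquivOfLe h).surjective h1

/-- An abelian subgroup with `Ω₁(E) ≤ ℧¹(E)` of a metacyclic `2`-group is never essential. -/
theorem not_essential_of_abelian_omega_le_agemo (hS : IsPGroup 2 S) (F : FusionSystem S) (hF : F.IsSaturated 2)
    (hm : Cfsg.IsMetacyclic ↥S) {E : Subgroup Ω} (hE : F.IsEssential 2 E)
    (hab : ∀ a ∈ E, ∀ b ∈ E, a * b = b * a) (hΩ : ∀ e ∈ E, e * e = 1 → ∃ f ∈ E, f * f = e) : False := by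
  have : Fact (Nat.Prime 2) := ⟨Nat.prime_two⟩
  have hES : E ≤ S := hE.1.1
  have hfinE : Finite E := finite_of_le hES
  have hne : E ≠ S := essential_ne_top hS F hF hE
  obtain ⟨g, hgN, hgE⟩ := exists_mem_normalizerIn_not_mem hS hES hne
  -- an element `t` of the normalizer outside `E` with `t² ∈ E`
  have hex : ∃ k : ℕ, g ^ 2 ^ k ∈ E := by
    obtain ⟨k, hk⟩ := (IsPGroup.iff_orderOf.mp hS) ⟨g, hgN.1⟩
    refine ⟨k, ?_⟩
    have h1 : (⟨g, hgN.1⟩ : S) ^ 2 ^ k = 1 := by
      rw [← hk]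
      exact pow_orderOf_eq_one _
    have h2 : g ^ 2 ^ k = 1 := by
      have := congrArg Subtype.val h1
      rwa [Subgroup.coe_pow] at this
    rw [h2]
    exact E.one_mem
  classical
  obtain ⟨k, hk⟩ : ∃ k, k = Nat.find hex := ⟨_, rfl⟩
  have hkE : g ^ 2 ^ k ∈ E := hk ▸ Nat.find_spec hex
  have hk0 : k ≠ 0 := by
    rintro rfl
    rw [pow_zero, pow_one] at hkE
    exact hgE hkE
  obtain ⟨t, ht⟩ : ∃ t, t = g ^ 2 ^ (k - 1) := ⟨_, rfl⟩
  have htE : t ∉ E := by
    rw [ht]
    have hlt : k - 1 < Nat.find hex := by omega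
    exact Nat.find_min hex hlt
  have ht2 : t * t ∈ E := by
    have : t * t = g ^ 2 ^ k := by
      rw [ht, ← pow_add, ← two_mul, ← pow_succ']
      congr 2
      omega
    rw [this]
    exact hkE
  have htNS : t ∈ normalizerIn S E := ht ▸ Subgroup.pow_mem _ hgN _
  have htS : t ∈ S := htNS.1
  have htN : t ∈ Subgroup.normalizer (E : Set Ω) := htNS.2
  have hd := essData_of_essential hS F hE
  have hEp : IsPGroup 2 E := hS.to_le hES
  have hctA : E.normalizerMonoidHom ⟨t, htN⟩ ∈ F.autGroup E :=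
    autInducedBy_le_autGroup F hES (normalizerMonoidHom_mem_autInducedBy htS htN)
  have hctI : E.normalizerMonoidHom ⟨t, htN⟩ ∉ Inn ↥E := fun hi =>
    htE (mem_of_normalizerMonoidHom_mem_inn F hE.1 htS htN hi)
  have hnot : ¬ ∀ y : ↥E, ∃ w : ↥E, y⁻¹ * E.normalizerMonoidHom ⟨t, htN⟩ y = w ^ 2 := fun hall =>
    hctI (hd.mem_inn_of_trivial_mod_pow hEp (fun a b => Subtype.ext (hab a a.2 b b.2)) hctA hall)
  push Not at hnot
  obtain ⟨y, hy⟩ := hnot
  have hG₁S : extByElt E t htN ht2 ≤ S := extByElt_le htN ht2 hES htS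
  have hfinG : Finite (extByElt E t htN ht2) := finite_of_le hG₁S
  refine not_isMetacyclic_of_swap (hS.to_le hG₁S) (le_extByElt E t htN ht2) hab hΩ
    (self_mem_extByElt E t htN ht2) (fun e he => (Subgroup.mem_normalizer_iff.mp htN e).mp he) ht2
    (fun g hg => mem_extByElt.mp hg) y.2 ?_ (isMetacyclic_of_le hm hG₁S)
  intro f hf heq
  apply hy ⟨f, hf⟩
  apply Subtype.ext
  rw [pow_two]
  exact heq

/-- A `2`-group with a self-centralizing proper subgroup of order four, or nonabelian of order eight, is dihedral,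
semidihedral or generalized quaternion. -/
theorem maxClass_of_centric_small (hS : IsPGroup 2 S) {E : Subgroup Ω} (hES : E ≤ S)
    (hcen : centralizerIn S E ≤ E) (hne : E ≠ S)
    (h : Nat.card E = 4 ∨ (Nat.card E = 8 ∧ ∃ a ∈ E, ∃ b ∈ E, a * b ≠ b * a)) :
    (∃ m : ℕ, Nonempty (↥S ≃* DihedralGroup m)) ∨ Cfsg.IsQuasiDihedral ↥S ∨
      (∃ m : ℕ, Nonempty (↥S ≃* QuaternionGroup m)) := by
  have : Fact (Nat.Prime 2) := ⟨Nat.prime_two⟩
  obtain ⟨m, hm⟩ := IsPGroup.iff_card.mp hS
  have hfinE : Finite E := finite_of_le hES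
  have hcardB : Nat.card (E.subgroupOf S) = Nat.card E :=
    Nat.card_congr (Subgroup.subgroupOfEquivOfLe hES).toEquiv
  have hcenB : Subgroup.centralizer ((E.subgroupOf S : Subgroup ↥S) : Set ↥S) ≤ E.subgroupOf S := by
    intro x hx
    rw [Subgroup.mem_subgroupOf]
    apply hcen
    rw [mem_centralizerIn_iff]
    refine ⟨x.2, fun e he => ?_⟩
    have h1 := Subgroup.mem_centralizer_iff.mp hx ⟨e, hES he⟩ (Subgroup.mem_subgroupOf.mpr he)
    exact congrArg Subtype.val h1
  have hlt : Nat.card E < Nat.card S := by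
    apply lt_of_le_of_ne (Subgroup.card_le_of_le hES)
    intro heq
    exact hne (Subgroup.eq_of_le_of_card_ge hES heq.ge)
  have hm3 : 3 ≤ m := by
    rw [hm] at hlt
    by_contra hlt3
    push Not at hlt3
    have h4 : (2 : ℕ) ^ m ≤ 2 ^ 2 := Nat.pow_le_pow_right (by norm_num) (by omega)
    rcases h with h | ⟨h, -⟩ <;> omega
  have hclass : Group.nilpotencyClass ↥S = m - 1 := by
    apply Cfsg.Agent.Lib.Helper1.nilpotencyClass_of_selfCentralizing (p := 2) m ↥S hm
    rcases h with h | ⟨h, a, ha, b, hb, hne'⟩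
    · left
      exact ⟨E.subgroupOf S, by rw [hcardB, h]; norm_num, hcenB⟩
    · right
      refine ⟨E.subgroupOf S, by rw [hcardB, h]; norm_num, ?_, hcenB⟩
      intro hcomm
      apply hne'
      have h1 := hcomm.is_comm.comm (⟨⟨a, hES ha⟩, Subgroup.mem_subgroupOf.mpr ha⟩ : E.subgroupOf S)
        ⟨⟨b, hES hb⟩, Subgroup.mem_subgroupOf.mpr hb⟩
      exact congrArg (fun z : E.subgroupOf S => ((z : S) : Ω)) h1
  have hidx := Cfsg.Agent.Lib.Helper1.index_commutator_of_maximal_class m hm3 ↥S hm hclass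
  rcases Cfsg.Agent.Lib.Helper1.classify_of_index_commutator m hm3 ↥S hm hidx with
    ⟨k, hk⟩ | ⟨k, hcard, a, b, ha, hb, hrel⟩ | ⟨k, hk⟩
  · exact Or.inl ⟨_, hk⟩
  · right; left
    exact ⟨k + 3, by omega, hcard, a, b, ha, hb, hrel⟩
  · exact Or.inr (Or.inr ⟨_, hk⟩)

/-- If `Aut_F(S)` is a `p`-group then it consists of inner automorphisms. -/
theorem autGroup_top_le_inner_of_isPGroup {p : ℕ} [Fact p.Prime] (hS : IsPGroup p S) (F : FusionSystem S)
    (hF : F.IsSaturated p) (h : IsPGroup p (F.autGroup S)) :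
    F.autGroup S ≤ (innerFusionSystem S).autGroup S := by
  obtain ⟨-, T, hT⟩ := (saturated_fn hS F hF (top_fullyNormalized F)).2
  have hTtop : (T : Subgroup (F.autGroup S)) = ⊤ := by
    have hpg : IsPGroup p (⊤ : Subgroup (F.autGroup S)) := h.to_subgroup _
    obtain ⟨T', hT'⟩ := hpg.exists_le_sylow
    have h1 : (T' : Subgroup (F.autGroup S)) = ⊤ := top_le_iff.mp hT'
    have hfin : Finite (MulAut S) := inferInstance
    obtain ⟨g, hg⟩ := MulAction.exists_smul_eq (F.autGroup S) T' T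
    rw [← hg, Sylow.coe_subgroup_smul, h1]
    simp
  intro α hα
  have : (⟨α, hα⟩ : F.autGroup S) ∈ (T : Subgroup (F.autGroup S)) := by rw [hTtop]; trivial
  rw [hT, Subgroup.mem_subgroupOf] at this
  exact autInducedBy_le_autGroup (innerFusionSystem S) le_rfl this

end Fusion

section Homocyclic

/-- In `ℤ/2ⁿ` with `n ≠ 1`, every element of order at most two is a double. -/
theorem exists_add_self_of_add_self_eq_zero {n : ℕ} (hn : n ≠ 1) (u : ZMod (2 ^ n)) (hu : u + u = 0) :
    ∃ v : ZMod (2 ^ n), v + v = u := by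
  rcases Nat.eq_zero_or_pos n with rfl | hpos
  · refine ⟨0, ?_⟩
    have hsub : Subsingleton (ZMod (2 ^ 0)) := by
      rw [pow_zero]
      infer_instance
    exact Subsingleton.elim _ _
  have hn2 : 2 ≤ n := by omega
  have : NeZero (2 ^ n) := ⟨by positivity⟩
  have h1 : ((u.val + u.val : ℕ) : ZMod (2 ^ n)) = 0 := by
    rw [Nat.cast_add, ZMod.natCast_zmod_val]
    exact hu
  rw [ZMod.natCast_eq_zero_iff] at h1
  have h2 : 2 ^ (n - 1) ∣ u.val := by
    have h3 : 2 ^ n = 2 * 2 ^ (n - 1) := by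
      rw [← pow_succ']
      congr 1
      omega
    have h5 : 2 * 2 ^ (n - 1) ∣ 2 * u.val := by
      rw [← h3, two_mul]
      exact h1
    exact Nat.dvd_of_mul_dvd_mul_left (by norm_num) h5
  obtain ⟨c, hc⟩ := h2
  refine ⟨((2 ^ (n - 2) * c : ℕ) : ZMod (2 ^ n)), ?_⟩
  rw [← Nat.cast_add, ← two_mul, ← mul_assoc, ← pow_succ']
  have h4 : n - 2 + 1 = n - 1 := by omega
  rw [h4, ← hc, ZMod.natCast_zmod_val]

/-- In a homocyclic group `C_{2ⁿ} × C_{2ⁿ}` with `n ≠ 1`, every element of order at most two is a square. -/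
theorem homocyclic_omega_le_agemo {n : ℕ} (hn : n ≠ 1)
    (x : Multiplicative (ZMod (2 ^ n)) × Multiplicative (ZMod (2 ^ n))) (hx : x * x = 1) :
    ∃ f : Multiplicative (ZMod (2 ^ n)) × Multiplicative (ZMod (2 ^ n)), f * f = x := by
  obtain ⟨x₁, x₂⟩ := x
  have h1 : Multiplicative.toAdd x₁ + Multiplicative.toAdd x₁ = 0 := by
    have := congrArg Prod.fst hx
    exact congrArg Multiplicative.toAdd this
  have h2 : Multiplicative.toAdd x₂ + Multiplicative.toAdd x₂ = 0 := by
    have := congrArg Prod.snd hx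
    exact congrArg Multiplicative.toAdd this
  obtain ⟨v₁, hv₁⟩ := exists_add_self_of_add_self_eq_zero hn _ h1
  obtain ⟨v₂, hv₂⟩ := exists_add_self_of_add_self_eq_zero hn _ h2
  refine ⟨(Multiplicative.ofAdd v₁, Multiplicative.ofAdd v₂), ?_⟩
  apply Prod.ext
  · show Multiplicative.ofAdd v₁ * Multiplicative.ofAdd v₁ = x₁
    rw [← ofAdd_add, hv₁]
    rfl
  · show Multiplicative.ofAdd v₂ * Multiplicative.ofAdd v₂ = x₂
    rw [← ofAdd_add, hv₂]
    rfl

/-- `C_m × C_m` as a group of functions on `Fin 2`. -/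
def prodEquivFinTwo (m : ℕ) :
    Multiplicative (ZMod m) × Multiplicative (ZMod m) ≃* Multiplicative (Fin 2 → ZMod m) :=
  (MulEquiv.prodMultiplicative (ZMod m) (ZMod m)).symm.trans
    (AddEquiv.toMultiplicative (LinearEquiv.finTwoArrow ℤ (ZMod m)).symm.toAddEquiv)

end Homocyclic

section Main

variable {Ω : Type u} [Group Ω] {S : Subgroup Ω} [Finite S]

/-- A saturated fusion system on a metacyclic `2`-group with `Aut(S)` a `2`-group, `S` not of maximal class,
is the inner fusion system. -/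
theorem eq_inner_of_isMetacyclic (hS : IsPGroup 2 S) (F : FusionSystem S) (hF : F.IsSaturated 2)
    (hm : Cfsg.IsMetacyclic ↥S) (hA : IsPGroup 2 (MulAut ↥S))
    (hmc : ¬ ((∃ m : ℕ, Nonempty (↥S ≃* DihedralGroup m)) ∨ Cfsg.IsQuasiDihedral ↥S ∨
      (∃ m : ℕ, Nonempty (↥S ≃* QuaternionGroup m)))) :
    ∀ P : Subgroup Ω, F.Hom P = (innerFusionSystem S).Hom P := by
  have : Fact (Nat.Prime 2) := ⟨Nat.prime_two⟩
  intro P
  apply Set.Subset.antisymm _ (inner_hom_subset F P)
  apply alperin hS F hF (innerFusionSystem S)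
  rintro E (rfl | hE)
  · exact autGroup_top_le_inner_of_isPGroup hS F hF (hA.to_subgroup _)
  · exfalso
    have hES : E ≤ S := hE.1.1
    have hfinE : Finite E := finite_of_le hES
    have hEp : IsPGroup 2 E := hS.to_le hES
    have hne : E ≠ S := essential_ne_top hS F hF hE
    have hcen : centralizerIn S E ≤ E := hE.1.2 E (isConj_refl F hES)
    have hAE : ¬ IsPGroup 2 (MulAut ↥E) := fun h =>
      not_essential_of_isPGroup F (h.to_subgroup (F.autGroup E)) hE
    rcases Cfsg.Agent.S1896.result hEp (isMetacyclic_of_le hm hES) hAE with ⟨⟨e⟩⟩ | ⟨n, ⟨e⟩⟩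
    · -- quaternion of order eight
      apply hmc
      apply maxClass_of_centric_small hS hES hcen hne
      right
      constructor
      · rw [Nat.card_congr e.toEquiv, Nat.card_eq_fintype_card, QuaternionGroup.card]
      · refine ⟨_, (e.symm (QuaternionGroup.a 1)).2, _, (e.symm (QuaternionGroup.xa 0)).2, fun hc => ?_⟩
        have h1 : e.symm (QuaternionGroup.a 1) * e.symm (QuaternionGroup.xa 0) =
            e.symm (QuaternionGroup.xa 0) * e.symm (QuaternionGroup.a 1) := Subtype.ext hc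
        rw [← map_mul, ← map_mul] at h1
        have h2 := e.symm.injective h1
        revert h2
        decide
    · by_cases hn : n = 1
      · subst hn
        apply hmc
        apply maxClass_of_centric_small hS hES hcen hne
        left
        rw [Nat.card_congr e.toEquiv, Nat.card_prod]
        have : Nat.card (Multiplicative (ZMod (2 ^ 1))) = 2 := by
          rw [Nat.card_congr Multiplicative.toAdd, Nat.card_zmod]
          norm_num
        rw [this]
      · apply not_essential_of_abelian_omega_le_agemo hS F hF hm hE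
        · intro a ha b hb
          have h1 : e ⟨a, ha⟩ * e ⟨b, hb⟩ = e ⟨b, hb⟩ * e ⟨a, ha⟩ := mul_comm _ _
          rw [← map_mul, ← map_mul] at h1
          exact congrArg Subtype.val (e.injective h1)
        · intro x hx hxx
          have h1 : e ⟨x, hx⟩ * e ⟨x, hx⟩ = 1 := by
            rw [← map_mul]
            have : (⟨x, hx⟩ : E) * ⟨x, hx⟩ = 1 := Subtype.ext hxx
            rw [this, map_one]
          obtain ⟨f, hf⟩ := homocyclic_omega_le_agemo hn _ h1
          refine ⟨e.symm f, (e.symm f).2, ?_⟩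
          have h2 : e.symm f * e.symm f = ⟨x, hx⟩ := by
            rw [← map_mul, hf, MulEquiv.symm_apply_apply]
          exact congrArg Subtype.val h2

end Main

end Cfsg.Agent.Lib.Helper26
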