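/-
helper26: S4017 - all leaves of notes/S4017_leaves.lean, restated verbatim and closed by the delivered modules.
-/
import Mathlib
import Cfsg.Prelude.Def_Local
import Cfsg.Agent.Lib.Helper26.MixDefs
import Cfsg.Agent.Lib.Helper8.AbInvA
import Cfsg.Agent.Lib.Helper12.MIXCENTRAL
import Cfsg.Agent.Lib.Helper12.MIXFIXED
import Cfsg.Agent.Lib.Helper12.MIXNC
import Cfsg.Agent.Lib.Helper12.MIXSOLV
import Cfsg.Agent.Lib.Helper17.MIXLEMA
import Cfsg.Agent.Lib.Helper17.MIXP0NE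
import Cfsg.Agent.Lib.Helper17.MIXQUOT
import Cfsg.Agent.Lib.Helper17.MIXSTAR
import Cfsg.Agent.Lib.Helper2.MIXCORECONJ
import Cfsg.Agent.Lib.Helper2.MIXCORELE
import Cfsg.Agent.Lib.Helper22.MIXODDX
import Cfsg.Agent.Lib.Helper22.MIXRANK3
import Cfsg.Agent.Lib.Helper23.MIXDIH
import Cfsg.Agent.Lib.Helper23.MIXGCENT
import Cfsg.Agent.Lib.Helper23.MIXINV
import Cfsg.Agent.Lib.Helper23.MIXTIOf
import Cfsg.Agent.Lib.Helper26.MIXNORMAL
import Cfsg.Agent.Lib.Helper29.MIXCARDSUP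
import Cfsg.Agent.Lib.Helper29.MIXFROB
import Cfsg.Agent.Lib.Helper29.MIXNONORMAL
import Cfsg.Agent.Lib.Helper29.MIXNOPRIME
import Cfsg.Agent.Lib.Helper29.MIXNOQ
import Cfsg.Agent.Lib.Helper5.MIXBSWOf
import Cfsg.Agent.Lib.Helper7.MIXELAB
import Cfsg.Agent.Lib.Helper7.MIXORBIT
import Cfsg.Agent.Lib.Helper8.MIXABHYP
import Cfsg.Agent.Lib.Helper8.MIXSL2
import Cfsg.Agent.Lib.Helper8.MIXSL2INV
import Cfsg.Agent.Lib.Helper9.MIXARITH
import Cfsg.Agent.Lib.Helper9.MIXCY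
import Cfsg.Agent.Lib.Helper9.MIXSTRUCT

set_option autoImplicit false

namespace Cfsg.Agent.Lib.Helper26.MixLeaves

open Cfsg Cfsg.Agent.Lib.Helper26.Mix

universe u

/-! ## GEN : general lemmas -/

section gen

variable {G : Type u} [Group G] [Finite G]

/-- CARDSUP : `|A<x>| = |A| s` for `x` of prime order `s ∤ |A|` normalizing `A`. -/
theorem card_sup_zpowers (A : Subgroup G) (x : G) (hx : x ∈ Subgroup.normalizer (A : Set G))
    (s : ℕ) (hs : s.Prime) (hox : orderOf x = s) (hA : ¬ s ∣ Nat.card A) :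
    Nat.card ↥(A ⊔ Subgroup.zpowers x) = Nat.card A * s := by
  exact Cfsg.Agent.Lib.Helper29.MIXCARDSUP.card_sup_zpowers A x hx s hs hox hA

/-- ORBIT : a `p`-element normalizing a subgroup of order `≤ p + 1` centralizes it or is transitive on its
non-identity elements.  (`<y>` acts on `Q0 \ 1`; orbits have `p`-power length.) -/
theorem orbit_dichotomy {p : ℕ} (hp : p.Prime) (Q0 : Subgroup G) (y : G)
    (hy : y ∈ Subgroup.normalizer (Q0 : Set G)) (hyp : ∃ k : ℕ, y ^ p ^ k = 1)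
    (hcard : Nat.card Q0 ≤ p + 1) :
    y ∈ Subgroup.centralizer (Q0 : Set G) ∨
      (Nat.card Q0 = p + 1 ∧
        ∀ u ∈ Q0, u ≠ 1 → ∀ v ∈ Q0, v ≠ 1 → ∃ i : ℕ, y ^ i * u * (y ^ i)⁻¹ = v) := by
  exact Cfsg.Agent.Lib.Helper7.MIXORBIT.orbit_dichotomy hp Q0 y hy hyp hcard

/-- ELAB : a `q`-group whose non-identity elements are permuted transitively by an element normalizing it is
elementary abelian.  (A central element of order `q` is conjugate to every non-identity element.) -/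
theorem elemAb_of_transitive {q : ℕ} (hq : q.Prime) (Q0 : Subgroup G) (hQ0 : IsPGroup q Q0) (y : G)
    (hy : y ∈ Subgroup.normalizer (Q0 : Set G))
    (htr : ∀ u ∈ Q0, u ≠ 1 → ∀ v ∈ Q0, v ≠ 1 → ∃ i : ℕ, y ^ i * u * (y ^ i)⁻¹ = v) :
    (∀ u ∈ Q0, ∀ v ∈ Q0, u * v = v * u) ∧ ∀ u ∈ Q0, u ^ q = 1 := by
  exact Cfsg.Agent.Lib.Helper7.MIXELAB.elemAb_of_transitive hq Q0 hQ0 y hy htr

/-- CORECONJ : `O(C_G(x t x⁻¹)) = x O(C_G(t)) x⁻¹`. -/
theorem core_conj (x t : G) :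
    centralizerPPrimeCore 2 (x * t * x⁻¹) =
      (centralizerPPrimeCore 2 t).map (MulAut.conj x).toMonoidHom := by
  exact Cfsg.Agent.Lib.Helper2.MIXCORECONJ.core_conj x t

/-- CORELE : `O(C_G(t)) ≤ C_G(t)`, normalized by `C_G(t)`, of odd order. -/
theorem core_basic (t : G) :
    centralizerPPrimeCore 2 t ≤ Subgroup.centralizer ({t} : Set G) ∧
    (∀ x ∈ Subgroup.centralizer ({t} : Set G), ∀ w ∈ centralizerPPrimeCore 2 t,
      x * w * x⁻¹ ∈ centralizerPPrimeCore 2 t) ∧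
    Odd (Nat.card ↥(centralizerPPrimeCore 2 t)) := by
  exact Cfsg.Agent.Lib.Helper2.MIXCORELE.core_basic t

/-- SL2INV : in `SL_2(F)`, `char F = 2`, every element that is not an involution is inverted by an involution.
(`y = !![a,b;c,d]`: if `c ≠ 0` take `s = !![1,k;0,1]`, `k = (a+d)/c` (`a + d ≠ 0` as `y² = (a+d) y + 1`);
if `b ≠ 0` transpose; if `b = c = 0` take `s = !![0,1;1,0]`.) -/
theorem sl2_inverted (F : Type) [Field F] [CharP F 2] (y : Matrix.SpecialLinearGroup (Fin 2) F)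
    (hy : y * y ≠ 1) :
    ∃ s : Matrix.SpecialLinearGroup (Fin 2) F, s ≠ 1 ∧ s * s = 1 ∧ s * y * s⁻¹ = y⁻¹ := by
  exact Cfsg.Agent.Lib.Helper8.MIXSL2INV.sl2_inverted F y hy

end gen

/-! ## MIX : consequences of `Viol` -/

section mix

variable {G : Type u} [Group G] [Finite G] {p q : ℕ}

/-- NOPRIME : no element of prime order `s ∉ {p, q}` normalizes a nontrivial `q`-subgroup. -/
theorem no_prime_normalizer (hp : p.Prime) (hq : q.Prime) (hpq : p ≠ q) (hviol : Viol G p q)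
    (Q0 : Subgroup G) (hQ0 : IsPGroup q Q0) (hne : Q0 ≠ ⊥) (x : G)
    (hx : x ∈ Subgroup.normalizer (Q0 : Set G)) (s : ℕ) (hs : s.Prime) (hsp : s ≠ p) (hsq : s ≠ q)
    (hox : orderOf x = s) : False := by
  exact Cfsg.Agent.Lib.Helper29.MIXNOPRIME.no_prime_normalizer hp hq hpq hviol Q0 hQ0 hne x hx s hs hsp hsq hox

/-- NOQ : no element of order `q` normalizes a nontrivial `r`-subgroup, `r ∉ {p, q}` prime. -/
theorem no_q_normalizer (hp : p.Prime) (hq : q.Prime) (hpq : p ≠ q) (hviol : Viol G p q)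
    (r : ℕ) (hr : r.Prime) (hrp : r ≠ p) (hrq : r ≠ q) (R : Subgroup G) (hR : IsPGroup r R)
    (hne : R ≠ ⊥) (z : G) (hz : z ∈ Subgroup.normalizer (R : Set G)) (hoz : orderOf z = q) :
    False := by
  exact Cfsg.Agent.Lib.Helper29.MIXNOQ.no_q_normalizer hp hq hpq hviol r hr hrp hrq R hR hne z hz hoz

/-- NONORMAL : no normal subgroup of order prime to `q` and divisible by a third prime `r`.
(Frattini `Sylow.normalizer_sup_eq_top` for `R ∈ Syl_r(N)`: `q ∣ |N_G(R)|`, Cauchy, NOQ.) -/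
theorem no_normal_qprime (hp : p.Prime) (hq : q.Prime) (hpq : p ≠ q) (hviol : Viol G p q)
    (hqG : q ∣ Nat.card G) (r : ℕ) (hr : r.Prime) (hrp : r ≠ p) (hrq : r ≠ q)
    (N : Subgroup G) [N.Normal] (hNq : ¬ q ∣ Nat.card N) (hrN : r ∣ Nat.card N) : False := by
  exact Cfsg.Agent.Lib.Helper29.MIXNONORMAL.no_normal_qprime hp hq hpq hviol hqG r hr hrp hrq N hNq hrN

/-- FROB : if every `p`-element normalizing a `q`-subgroup centralizes it, there is no third prime.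
(NOPRIME ⇒ `FrobCond q G`; helper29 `FrobCond.exists_normal_complement`; NONORMAL.) -/
theorem frob_false (hp : p.Prime) (hq : q.Prime) (hpq : p ≠ q) (hviol : Viol G p q)
    (hqG : q ∣ Nat.card G) (hthird : Third G p q)
    (hcent : ∀ Q0 : Subgroup G, IsPGroup q Q0 → ∀ y ∈ Subgroup.normalizer (Q0 : Set G),
      (∃ k : ℕ, y ^ p ^ k = 1) → y ∈ Subgroup.centralizer (Q0 : Set G)) : False := by
  exact Cfsg.Agent.Lib.Helper29.MIXFROB.frob_false hp hq hpq hviol hqG hthird hcent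

/-- STAR : by the induction hypothesis every proper subgroup of order divisible by `q` which is not a
`q`-group is a `{p,q}`-group.  (`Hyp ↥L p q`: hmix via `Subgroup.map L.subtype`; hlarge: `|L|_q ≤ |G|_q`.) -/
theorem star_of_ih (h : Hyp G p q) (ih : IH.{u} p q (Nat.card G)) (L : Subgroup G) (hL : L ≠ ⊤)
    (hqL : q ∣ Nat.card L) (hnq : ¬ IsPGroup q L) :
    ∀ s : ℕ, s.Prime → s ∣ Nat.card L → s = p ∨ s = q := by
  exact Cfsg.Agent.Lib.Helper17.MIXSTAR.star_of_ih h ih L hL hqL hnq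

end mix

/-! ## CTX : the critical configuration -/

section ctx

variable {G : Type u} [Group G] [Finite G] {p a : ℕ} {Q : Subgroup G} {g : G}

/-- NC : in `C_G(t)` the normalizer of `Q` centralizes `Q`.  (`C_G(t)` is proper, hence a `{2,p}`-group; a `p`-element
of it normalizing `Q` fixes `t` and acts on the other `p − 1` non-identity elements; the `2`-elements lie in `Q`.) -/
theorem normalizer_le_centralizer (c : Ctx G p a Q g) (t : G) (ht : t ∈ Q) (ht1 : t ≠ 1) (x : G)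
    (hxt : x ∈ Subgroup.centralizer ({t} : Set G)) (hxN : x ∈ Subgroup.normalizer (Q : Set G)) :
    x ∈ Subgroup.centralizer (Q : Set G) := by
  exact Cfsg.Agent.Lib.Helper12.MIXNC.normalizer_le_centralizer c t ht ht1 x hxt hxN

/-- STRUCT : `C_G(t) = θ(t) ⋊ Q` with `θ(t)` a `p`-group containing every element of odd order of `C_G(t)`.
(Burnside: NC + Mathlib `MonoidHom.transferSylow` in `↥C_G(t)`; the kernel is the normal 2-complement = `pPrimeCore 2`.) -/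
theorem cent_structure (c : Ctx G p a Q g) (t : G) (ht : t ∈ Q) (ht1 : t ≠ 1) :
    IsPGroup p ↥(centralizerPPrimeCore 2 t) ∧
    (∀ x ∈ Subgroup.centralizer ({t} : Set G),
      ∃ w ∈ centralizerPPrimeCore 2 t, ∃ u ∈ Q, x = w * u) ∧
    (∀ x ∈ Subgroup.centralizer ({t} : Set G), Odd (orderOf x) → x ∈ centralizerPPrimeCore 2 t) := by
  exact Cfsg.Agent.Lib.Helper9.MIXSTRUCT.cent_structure c t ht ht1

/-- NORMAL : every proper normal subgroup is a `p`-group.  (Even order: `N ∩ Q` is `g`-invariant so `Q ≤ N`; hstar: `r ∤ |N|`;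
Frattini: `r ∣ |N_G(Q)|`; NOPRIME.  Odd order: NONORMAL for every prime `≠ p` dividing `|N|`.) -/
theorem normal_isPGroup (c : Ctx G p a Q g) (hthird : Third G p 2) (N : Subgroup G) [N.Normal]
    (hN : N ≠ ⊤) : IsPGroup p ↥N := by
  have h2G : 2 ∣ Nat.card G := by
    have h1 : Nat.card Q ∣ Nat.card G := Subgroup.card_subgroup_dvd_card Q
    rw [c.hQcard] at h1
    exact (dvd_pow_self 2 (by have := c.ha; omega)).trans h1
  exact Cfsg.Agent.Lib.Helper26.MIXNORMAL.normal_isPGroup_of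
    (fun Q0 hQ0 hne x hx s hs hsp hs2 hox =>
      no_prime_normalizer c.hp Nat.prime_two c.hp2 c.hviol Q0 hQ0 hne x hx s hs hsp hs2 hox)
    (fun r hr hrp hr2 N' hN' h2 hrN => by
      have := hN'
      exact no_normal_qprime c.hp Nat.prime_two c.hp2 c.hviol h2G r hr hrp hr2 N' h2 hrN)
    c hthird N hN

/-- CENTRAL : every proper normal subgroup is central.  (`N` a normal `p`-group: `N<x>` is an abelian `p`-group for every
`p`-element `x`; `C_G(N)` is normal, so `⊤` or a `p`-group containing all `p`-elements, i.e. a normal Sylow `p`-subgroup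
`S ∋ g`; then `[g, Q] ≤ S ∩ Q = 1` against htrans.) -/
theorem normal_le_center (c : Ctx G p a Q g) (hthird : Third G p 2) (N : Subgroup G) [N.Normal]
    (hN : N ≠ ⊤) : N ≤ Subgroup.center G := by
  exact Cfsg.Agent.Lib.Helper12.MIXCENTRAL.normal_le_center_of c
    (fun N' _ hN' => normal_isPGroup c hthird N' hN') N hN

/-- QUOT : the quotient by a central normal `p`-subgroup inherits the hypotheses (and a third prime). -/
theorem hyp_quotient (c : Ctx G p a Q g) (hthird : Third G p 2) (N : Subgroup G) [N.Normal]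
    (hNp : IsPGroup p ↥N) (hNc : N ≤ Subgroup.center G) :
    Hyp (G ⧸ N) p 2 ∧ Third (G ⧸ N) p 2 := by
  exact Cfsg.Agent.Lib.Helper17.MIXQUOT.hyp_quotient c hthird N hNp hNc

/-- GCENT : `g` centralizes every subgroup of odd order normalized by `Q` and `g`.  (`W ≠ 1`: `N_G(W)` is proper of even order,
so a `{2,p}`-group; `W` is a `p`-group, `W<g>` is a `p`-group, abelian by hab.) -/
theorem g_centralizes (c : Ctx G p a Q g) (hsimple : Simple G) (W : Subgroup G)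
    (hW : Odd (Nat.card W)) (hWQ : Q ≤ Subgroup.normalizer (W : Set G))
    (hWg : g ∈ Subgroup.normalizer (W : Set G)) : ∀ w ∈ W, g * w = w * g := by
  exact Cfsg.Agent.Lib.Helper23.MIXGCENT.g_centralizes c hsimple W hW hWQ hWg

/-- FIXED : if `g` centralizes every `θ(t)` then `Q` does.  (`θ(t) = g^i θ(t) g^-i = θ(g^i t g^-i)`, CORECONJ, htrans;
`θ(v) ≤ C_G(v)`.) -/
theorem comm_of_fixed (c : Ctx G p a Q g)
    (hfix : ∀ t ∈ Q, t ≠ 1 → ∀ w ∈ centralizerPPrimeCore 2 t, g * w = w * g) : Comm G Q := by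
  exact Cfsg.Agent.Lib.Helper12.MIXFIXED.comm_of_fixed c hfix

/-- SOLV : `C_G(t)` is solvable.  (`{2,p}`-group: `Cfsg.Agent.S0144.result`, or STRUCT: `p`-group by `2`-group.) -/
theorem cent_solvable (c : Ctx G p a Q g) (t : G) (ht : t ∈ Q) (ht1 : t ≠ 1) :
    Group.IsSolvable ↥(Subgroup.centralizer ({t} : Set G)) := by
  exact Cfsg.Agent.Lib.Helper12.MIXSOLV.cent_solvable c t ht ht1

/-- ODDX : rank `≥ 3`: a subgroup of odd order contains all `θ(t)`.  (`Cfsg.Agent.S1279.result 2 Q ..` + STRUCT.1 +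
`Cfsg.Agent.S1285.result 2 Q .. p ..`: the `X` of `IsCompleteSignalizerFunctor`.) -/
theorem exists_odd_closure (c : Ctx G p a Q g) (ha3 : 3 ≤ a) :
    ∃ X : Subgroup G, Odd (Nat.card X) ∧
      ∀ t ∈ Q, t ≠ 1 → centralizerPPrimeCore 2 t ≤ X := by
  exact Cfsg.Agent.Lib.Helper22.MIXODDX.exists_odd_closure c ha3

/-- RANK3 : assembly.  (`W := ⨆ t : {t // t ∈ Q ∧ t ≠ 1}, θ t ≤ X`, normalized by `Q` (CORELE) and `g` (CORECONJ); GCENT; FIXED.) -/
theorem comm_of_rank3 (c : Ctx G p a Q g) (hsimple : Simple G) (ha3 : 3 ≤ a) : Comm G Q := by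
  exact Cfsg.Agent.Lib.Helper22.MIXRANK3.comm_of_rank3 c hsimple ha3

/-! ### rank 2 -/

/-- P0NE : rank 2, a non-identity element of some `θ(t)` centralized by `Q`  ⇒  `Comm`.
(`P0 := θ t ⊓ C_G(Q) = O(C_G(Q))` is normalized by `Q`, `g`, all `θ(u)`; `M := N_G(P0)` is proper: a `{2,3}`-group, solvable
(S0144); `T := O_3(M)`; `O_3(M/T) = 1` so `O_2(M/T) ≠ 1`, `g`-invariant inside `QT/T`, hence `= QT/T`: `QT ⊴ M`; for `w ∈ θ u`, `v ∈ Q`:
`[w,v] ∈ θ u ⊓ QT ≤ T`; `T<g>` abelian so `g` fixes `[w,v]`, which therefore lies in `θ u ⊓ θ(g u g⁻¹) ⊓ θ(g² u g⁻²) ≤ C(Q)`;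
then `v w v⁻¹ = w z`, `z` central of odd order, `v² = 1` ⇒ `z² = 1` ⇒ `z = 1`.) -/
theorem comm_of_P0_ne (c : Ctx G p a Q g) (hthird : Third G p 2) (hsimple : Simple G) (ha2 : a = 2)
    (t : G) (ht : t ∈ Q) (ht1 : t ≠ 1) (z : G) (hz : z ∈ centralizerPPrimeCore 2 t) (hz1 : z ≠ 1)
    (hzQ : ∀ u ∈ Q, z * u = u * z) : Comm G Q := by
  exact Cfsg.Agent.Lib.Helper17.MIXP0NE.comm_of_P0_ne c hthird hsimple ha2 t ht ht1 z hz hz1 hzQ

/-- the hypothesis `C_{θ t}(Q) = 1` for all `t ∈ Q \ 1` -/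
def P0Triv (G : Type u) [Group G] (Q : Subgroup G) : Prop :=
  ∀ t ∈ Q, t ≠ 1 → ∀ z ∈ centralizerPPrimeCore 2 t, (∀ u ∈ Q, z * u = u * z) → z = 1

/-- INV : if `C_{θ t}(Q) = 1` then every `s ∈ Q \ <t>` inverts `θ t`.  (`θ t` abelian; `w (s w s⁻¹)` is fixed by `s` and `t`,
and `Q = {1, t, s, ts}` when `a = 2`.) -/
theorem inverts_of_P0Triv (c : Ctx G p a Q g) (ha2 : a = 2) (h0 : P0Triv G Q) (t : G) (ht : t ∈ Q)
    (ht1 : t ≠ 1) (s : G) (hs : s ∈ Q) (hs1 : s ≠ 1) (hst : s ≠ t) :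
    ∀ w ∈ centralizerPPrimeCore 2 t, s * w * s⁻¹ = w⁻¹ := by
  exact Cfsg.Agent.Lib.Helper23.MIXINV.inverts_of_P0Triv c ha2 h0 t ht ht1 s hs hs1 hst

/-- LEMA : if `C_{θ t}(Q) = 1` and `θ t ≠ 1`, no non-identity element of `θ s` commutes with a non-identity element of `θ t`
(`s ≠ t`).  (`C_G(z) ⊇ θ t` (CY-type argument: `C_G(y) = R ⋊ <t>`, `R` an abelian `3`-group ∋ z, ⊇ θ t) and `⊇ θ s`, so
`[θ t, θ s] = 1`; conjugating by `g`: `θ t, θ s, θ(ts)` commute pairwise; `W = θ t θ s θ(ts)` is an abelian `3`-group normalized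
by `Q` and `g`; GCENT: `θ t = θ(g t g⁻¹)`, so `θ t ≤ C(Q)`, `θ t = 1`.) -/
theorem no_commuting_pair (c : Ctx G p a Q g) (hsimple : Simple G) (ha2 : a = 2) (h0 : P0Triv G Q)
    (t : G) (ht : t ∈ Q) (ht1 : t ≠ 1) (s : G) (hs : s ∈ Q) (hs1 : s ≠ 1) (hst : s ≠ t)
    (y : G) (hy : y ∈ centralizerPPrimeCore 2 t) (hy1 : y ≠ 1)
    (z : G) (hz : z ∈ centralizerPPrimeCore 2 s) (hz1 : z ≠ 1) (hyz : y * z = z * y) : False := by
  exact Cfsg.Agent.Lib.Helper17.MIXLEMA.no_commuting_pair c hsimple ha2 h0 t ht ht1 s hs hs1 hst y hy hy1 z hz hz1 hyz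

/-- CY : if `C_{θ t}(Q) = 1` then `C_G(y) = θ t × <t>` for `1 ≠ y ∈ θ t`.  (`C_G(y)` is proper of even order: a `{2,3}`-group;
`C_{C_G(y)}(t) = θ t <t>` (INV) contains a Sylow 2-subgroup of `C_G(y)`, so that has order 2 and `C_G(y) = R ⋊ <t>`, `R` an abelian
`3`-group normalized by `Q`; `R = C_R(t) C_R(s) C_R(ts)`, `C_R(t) = θ t`, and `C_R(s) ≤ θ s` is trivial by LEMA.) -/
theorem centralizer_of_mem_core (c : Ctx G p a Q g) (hsimple : Simple G) (ha2 : a = 2)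
    (h0 : P0Triv G Q) (t : G) (ht : t ∈ Q) (ht1 : t ≠ 1) (y : G)
    (hy : y ∈ centralizerPPrimeCore 2 t) (hy1 : y ≠ 1) (x : G) (hxy : x * y = y * x) :
    x ∈ centralizerPPrimeCore 2 t ⊔ Subgroup.zpowers t := by
  exact Cfsg.Agent.Lib.Helper9.MIXCY.centralizer_of_mem_core c hsimple ha2 h0 t ht ht1 y hy hy1 x hxy

/-- TI : `K = θ t <t>` meets its conjugates by elements outside `C_G(t)` trivially.  (An element of even order of `K ⊓ K^x` has
the power `t = x t x⁻¹`; an element `y ≠ 1` of odd order lies in `θ t ⊓ θ(x t x⁻¹)`, and `x t x⁻¹ ∈ C_G(y) = θ t <t>` (CY) is `t`.) -/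
theorem core_TI (c : Ctx G p a Q g) (hsimple : Simple G) (ha2 : a = 2) (h0 : P0Triv G Q)
    (t : G) (ht : t ∈ Q) (ht1 : t ≠ 1) (x : G) (hx : x ∉ Subgroup.centralizer ({t} : Set G)) :
    (centralizerPPrimeCore 2 t ⊔ Subgroup.zpowers t) ⊓
      (centralizerPPrimeCore 2 t ⊔ Subgroup.zpowers t).map (MulAut.conj x).toMonoidHom = ⊥ := by
  exact Cfsg.Agent.Lib.Helper23.MIXTIOf.core_TI_of t ht1 (c.hQexp t ht)
    (fun y hy hy1 x' hx' => centralizer_of_mem_core c hsimple ha2 h0 t ht ht1 y hy hy1 x' hx') x hx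

/-- BSW : the hypotheses of S3282 hold for `K = θ t <t>`, `s ∈ Q \ <t>`; its conclusion. -/
theorem bsw_data (c : Ctx G p a Q g) (hsimple : Simple G) (ha2 : a = 2) (h0 : P0Triv G Q)
    (t : G) (ht : t ∈ Q) (ht1 : t ≠ 1) (hne : centralizerPPrimeCore 2 t ≠ ⊥) :
    ∃ Q1 D : Subgroup G,
      2 * Nat.card G = Nat.card ↥Q1 * (Nat.card ↥Q1 + 1) * (Nat.card ↥Q1 - 1) ∧
      (∀ x ∈ Q1, x ≠ 1 → Subgroup.centralizer ({x} : Set G) = Q1) ∧
      IsMulCommutative ↥D ∧ 2 * Nat.card ↥D + 1 = Nat.card ↥Q1 ∧ Q1 ⊓ D = ⊥ ∧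
      Subgroup.normalizer (Q1 : Set G) = Q1 ⊔ D ∧
      ∀ X : Subgroup G, X ≤ D → X ≠ ⊥ →
        Subgroup.normalizer (X : Set G) = Subgroup.normalizer (D : Set G) ∧
        ∃ u : G, orderOf u = 2 ∧ u ∉ D ∧ (∀ d ∈ D, u * d * u⁻¹ = d⁻¹) ∧
          Subgroup.normalizer (D : Set G) = D ⊔ Subgroup.zpowers u := by
  exact Cfsg.Agent.Lib.Helper5.MIXBSWOf.bsw_data_core c ha2 t ht ht1 _ (core_basic t).1 (core_basic t).2.2
    (cent_structure c t ht ht1).1 (cent_structure c t ht ht1).2.1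
    (fun s hs hs1 hst => inverts_of_P0Triv c ha2 h0 t ht ht1 s hs hs1 hst)
    (fun x hx => core_TI c hsimple ha2 h0 t ht ht1 x hx)

/-- ARITH : the data of S3282 contradict the configuration.  (`d = |D|`, `|G| = 2d(2d+1)(d+1)`, `|G|_2 = 4`, `p = 3`.
`D = 1`: `|G| = 12`, no third prime.  `N_G(D) = D<u>` has order `2d`, proper, even: `2d ∈ {2,4}` (`d = 2`: `|Q1 D| = 10` violates hviol)
or `3 ∣ d`, `d = 2^x 3^y`; `d` even: `|Q1 D| = (2d+1)d` even, so `2d+1` is a power of 3, but `2d + 1 ≡ 1 (3)`;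
`d = 3^y` odd: `|G|_3 = 3^y`, `D` is a Sylow 3-subgroup, a conjugate of `θ t ≠ 1` lies in `D`, `N_G(θ t) = N_G(D)` has order
`2·3^y`, but `Q ≤ N_G(θ t)` has order 4.) -/
theorem bsw_false (c : Ctx G p a Q g) (hthird : Third G p 2) (ha2 : a = 2)
    (t : G) (ht : t ∈ Q) (ht1 : t ≠ 1) (hne : centralizerPPrimeCore 2 t ≠ ⊥)
    (Q1 D : Subgroup G)
    (h1 : 2 * Nat.card G = Nat.card ↥Q1 * (Nat.card ↥Q1 + 1) * (Nat.card ↥Q1 - 1))
    (h2 : ∀ x ∈ Q1, x ≠ 1 → Subgroup.centralizer ({x} : Set G) = Q1)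
    (h3 : IsMulCommutative ↥D) (h4 : 2 * Nat.card ↥D + 1 = Nat.card ↥Q1) (h5 : Q1 ⊓ D = ⊥)
    (h6 : Subgroup.normalizer (Q1 : Set G) = Q1 ⊔ D)
    (h7 : ∀ X : Subgroup G, X ≤ D → X ≠ ⊥ →
        Subgroup.normalizer (X : Set G) = Subgroup.normalizer (D : Set G) ∧
        ∃ u : G, orderOf u = 2 ∧ u ∉ D ∧ (∀ d ∈ D, u * d * u⁻¹ = d⁻¹) ∧
          Subgroup.normalizer (D : Set G) = D ⊔ Subgroup.zpowers u) : False := by
  exact Cfsg.Agent.Lib.Helper9.MIXARITH.bsw_false c hthird ha2 t ht ht1 hne Q1 D h1 h2 h3 h4 h5 h6 h7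

/-! ### the abelian case -/

/-- ABHYP : `Comm` ⇒ all involution centralizers are abelian.  (Every involution is conjugate into `Q` (Sylow);
STRUCT: `C_G(t) = θ(t) Q`, `θ(t)` abelian (hab), `Q` abelian, `Comm`.) -/
theorem abHyp_of_comm (c : Ctx G p a Q g) (hcomm : Comm G Q) :
    Cfsg.Agent.Lib.Helper8.AbInv.AbHyp G := by
  exact Cfsg.Agent.Lib.Helper8.MIXABHYP.abHyp_of_comm c hcomm

/-- SL2 : helper8 `AbInv.abInv_main` + simplicity (`A ≤ Z(G) = 1`, Sylow 2-subgroups neither cyclic nor normal). -/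
theorem exists_sl2 (c : Ctx G p a Q g) (hthird : Third G p 2) (hsimple : Simple G)
    (hab : Cfsg.Agent.Lib.Helper8.AbInv.AbHyp G) :
    ∃ (F : Type) (_ : Field F) (_ : Fintype F), CharP F 2 ∧
      Nonempty (G ≃* Matrix.SpecialLinearGroup (Fin 2) F) := by
  exact Cfsg.Agent.Lib.Helper8.MIXSL2.exists_sl2 c hthird hsimple hab

/-- DIH : an element of order `r` (third prime) inverted by an involution gives a subgroup of order `2r`, violating hviol. -/
theorem false_of_inverted (c : Ctx G p a Q g) (r : ℕ) (hr : r.Prime) (hr2 : r ≠ 2) (hrp : r ≠ p)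
    (x s : G) (hox : orderOf x = r) (hs1 : s ≠ 1) (hs2 : s * s = 1)
    (hinv : s * x * s⁻¹ = x⁻¹) : False := by
  exact Cfsg.Agent.Lib.Helper23.MIXDIH.false_of_inverted c r hr hr2 hrp x s hox hs1 hs2 hinv

end ctx

end Cfsg.Agent.Lib.Helper26.MixLeaves
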