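/-
helper26: S4017 spine (strong induction on the order; leaves in MixLeavesAll).
-/
import Mathlib
import Cfsg.Agent.Lib.Helper26.MixLeavesAll

set_option autoImplicit false

namespace Cfsg.Agent.Lib.Helper26.MixSpine

open Cfsg Cfsg.Agent.Lib.Helper26.Mix Cfsg.Agent.Lib.Helper26.MixLeaves

universe u

variable {G : Type u} [Group G] [Finite G]

theorem viol_of_hyp {p q : ℕ} (h : Hyp G p q) : Viol G p q := by
  intro H hqH hnq
  by_cases hH : H = ⊤
  · subst hH
    rw [Subgroup.card_top]
    exact h.hpG
  · exact h.hmix H hH hnq hqH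

theorem card_quotient_lt (N : Subgroup G) [N.Normal] (hN : N ≠ ⊥) :
    Nat.card (G ⧸ N) < Nat.card G := by
  have h1 : Nat.card G = Nat.card (G ⧸ N) * Nat.card N := Subgroup.card_eq_card_quotient_mul_card_subgroup N
  have h2 : 1 < Nat.card N := by
    rw [Subgroup.one_lt_card_iff_ne_bot]
    exact hN
  have h3 : 0 < Nat.card (G ⧸ N) := Nat.card_pos
  rw [h1]
  nlinarith

theorem simple_of_ih {p a : ℕ} {Q : Subgroup G} {g : G} (c : Ctx G p a Q g) (hthird : Third G p 2)
    (ih : IH.{u} p 2 (Nat.card G)) : Simple G := by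
  intro N hN
  by_contra hcon
  push_neg at hcon
  obtain ⟨hNbot, hNtop⟩ := hcon
  haveI := hN
  have hNp := normal_isPGroup c hthird N hNtop
  have hNc := normal_le_center c hthird N hNtop
  obtain ⟨hq, r, hr, hrG, hrp, hr2⟩ := hyp_quotient c hthird N hNp hNc
  have hlt : Nat.card (G ⧸ N) < Nat.card G := card_quotient_lt N hNbot
  rcases ih (G ⧸ N) hlt hq r hr hrG with h | h
  · exact hrp h
  · exact hr2 h

theorem false_of_comm {p a : ℕ} {Q : Subgroup G} {g : G} (c : Ctx G p a Q g) (hthird : Third G p 2)
    (hsimple : Simple G) (hcomm : Comm G Q) : False := by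
  have hab := abHyp_of_comm c hcomm
  obtain ⟨F, _, _, hchar, ⟨e⟩⟩ := exists_sl2 c hthird hsimple hab
  obtain ⟨r, hr, hrG, hrp, hr2⟩ := hthird
  haveI : Fact r.Prime := ⟨hr⟩
  obtain ⟨x, hx⟩ := exists_prime_orderOf_dvd_card' r hrG
  have hy : e x * e x ≠ 1 := by
    intro h1
    have h2 : x * x = 1 := by
      apply e.injective
      rw [map_mul, h1, map_one]
    have h3 : orderOf x ∣ 2 := orderOf_dvd_of_pow_eq_one (by rw [pow_two]; exact h2)
    rw [hx] at h3
    have := (Nat.prime_dvd_prime_iff_eq hr Nat.prime_two).mp h3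
    exact hr2 this
  obtain ⟨s, hs1, hs2, hinv⟩ := sl2_inverted F (e x) hy
  refine false_of_inverted c r hr hr2 hrp x (e.symm s) hx ?_ ?_ ?_
  · intro h1
    apply hs1
    have := congrArg e h1
    simpa using this
  · apply e.injective
    simp [hs2]
  · apply e.injective
    simp [hinv]

theorem comm_of_rank2 {p a : ℕ} {Q : Subgroup G} {g : G} (c : Ctx G p a Q g) (hthird : Third G p 2)
    (hsimple : Simple G) (ha2 : a = 2) : Comm G Q := by
  by_cases h0 : P0Triv G Q
  · by_cases hne : ∃ t ∈ Q, t ≠ 1 ∧ centralizerPPrimeCore 2 t ≠ ⊥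
    · obtain ⟨t, ht, ht1, hne⟩ := hne
      exfalso
      obtain ⟨Q1, D, h1, h2, h3, h4, h5, h6, h7⟩ := bsw_data c hsimple ha2 h0 t ht ht1 hne
      exact bsw_false c hthird ha2 t ht ht1 hne Q1 D h1 h2 h3 h4 h5 h6 h7
    · push_neg at hne
      intro t ht ht1 w hw u _
      have h1 := hne t ht ht1
      rw [h1, Subgroup.mem_bot] at hw
      rw [hw, one_mul, mul_one]
  · unfold P0Triv at h0
    push_neg at h0
    obtain ⟨t, ht, ht1, z, hz, hzQ, hz1⟩ := h0
    exact comm_of_P0_ne c hthird hsimple ha2 t ht ht1 z hz hz1 hzQ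

theorem ctx_false {p a : ℕ} {Q : Subgroup G} {g : G} (c : Ctx G p a Q g) (hthird : Third G p 2)
    (ih : IH.{u} p 2 (Nat.card G)) : False := by
  have hsimple := simple_of_ih c hthird ih
  have hcomm : Comm G Q := by
    rcases Nat.lt_or_ge a 3 with h | h
    · exact comm_of_rank2 c hthird hsimple (by have := c.ha; omega)
    · exact comm_of_rank3 c hsimple h
  exact false_of_comm c hthird hsimple hcomm

theorem card_le_of_isPGroup {q : ℕ} (hq : q.Prime) (Q0 : Subgroup G) (hQ0 : IsPGroup q Q0) :
    Nat.card Q0 ≤ q ^ (Nat.card G).factorization q := by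
  haveI : Fact q.Prime := ⟨hq⟩
  obtain ⟨k, hk⟩ := IsPGroup.iff_card.mp hQ0
  rw [hk]
  have hdvd : q ^ k ∣ Nat.card G := by
    rw [← hk]
    exact Subgroup.card_subgroup_dvd_card Q0
  have hpos : Nat.card G ≠ 0 := Nat.card_pos.ne'
  have hle : k ≤ (Nat.card G).factorization q :=
    (hq.pow_dvd_iff_le_factorization hpos).mp hdvd
  exact Nat.pow_le_pow_right hq.pos hle

theorem step {p q : ℕ} (h : Hyp G p q) (ih : IH.{u} p q (Nat.card G)) : Concl G p q := by
  intro r hr hrG
  by_contra hcon
  push_neg at hcon
  obtain ⟨hrp, hrq⟩ := hcon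
  have hthird : Third G p q := ⟨r, hr, hrG, hrp, hrq⟩
  have hviol := viol_of_hyp h
  by_cases hc : ∀ Q0 : Subgroup G, IsPGroup q Q0 → ∀ y ∈ Subgroup.normalizer (Q0 : Set G),
      (∃ k : ℕ, y ^ p ^ k = 1) → y ∈ Subgroup.centralizer (Q0 : Set G)
  · exact frob_false h.hp h.hq h.hpq hviol h.hqG hthird hc
  · push_neg at hc
    obtain ⟨Q0, hQ0, y, hyN, hyp, hyC⟩ := hc
    have hcardle := card_le_of_isPGroup h.hq Q0 hQ0
    have hqa1 : 1 ≤ q ^ (Nat.card G).factorization q := Nat.one_le_pow _ _ h.hq.pos
    rcases h.hlarge with h1 | ⟨h2, hab⟩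
    · rcases orbit_dichotomy h.hp Q0 y hyN hyp (by omega) with hcz | ⟨hcard, _⟩
      · exact hyC hcz
      · omega
    · rcases orbit_dichotomy h.hp Q0 y hyN hyp (by omega) with hcz | ⟨hcard, htr⟩
      · exact hyC hcz
      · have hpodd : Odd p := h.hp.odd_of_ne_two h.hp2
        have hqa : q ^ (Nat.card G).factorization q = p + 1 := by omega
        have hq2 : q = 2 := by
          have heven : Even (q ^ (Nat.card G).factorization q) := by
            rw [hqa]; exact hpodd.add_one
          have h2q : 2 ∣ q := by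
            have := (Nat.Prime.dvd_of_dvd_pow Nat.prime_two heven.two_dvd)
            exact this
          exact ((Nat.prime_dvd_prime_iff_eq Nat.prime_two h.hq).mp h2q).symm
        subst hq2
        obtain ⟨hQab, hQexp⟩ := elemAb_of_transitive Nat.prime_two Q0 hQ0 y hyN htr
        have hp3 : 3 ≤ p := by
          have := h.hp.two_le
          have := h.hp2
          omega
        have ha2 : 2 ≤ (Nat.card G).factorization 2 := by
          by_contra hlt
          push_neg at hlt
          have : 2 ^ (Nat.card G).factorization 2 ≤ 2 ^ 1 :=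
            Nat.pow_le_pow_right (by norm_num) (by omega)
          omega
        have c : Ctx G p ((Nat.card G).factorization 2) Q0 y :=
          { hp := h.hp
            hp2 := h.hp2
            ha := ha2
            hpa := hqa.symm
            hQcard := by rw [hcard, hqa]
            hQsyl := rfl
            hQab := hQab
            hQexp := fun u hu => by rw [← pow_two]; exact hQexp u hu
            hgN := hyN
            hgp := hyp
            htrans := htr
            hstar := by
              intro H hH h2H s hs hsH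
              by_cases hH2 : IsPGroup 2 H
              · left
                haveI : Fact (Nat.Prime 2) := ⟨Nat.prime_two⟩
                obtain ⟨k, hk⟩ := IsPGroup.iff_card.mp hH2
                rw [hk] at hsH
                exact (Nat.prime_dvd_prime_iff_eq hs Nat.prime_two).mp (hs.dvd_of_dvd_pow hsH)
              · exact (star_of_ih h ih H hH h2H hH2 s hs hsH).symm
            hviol := hviol
            hab := by
              intro S hS x hx z hz
              haveI : Fact p.Prime := ⟨h.hp⟩
              obtain ⟨P, hP⟩ := hS.exists_le_sylow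
              have := (hab P).is_comm.comm ⟨x, hP hx⟩ ⟨z, hP hz⟩
              exact congrArg Subtype.val this
            hpG := h.hpG }
        exact ctx_false c hthird ih

theorem main (p q : ℕ) : ∀ n : ℕ, ∀ (G : Type u) [Group G] [Finite G], Nat.card G = n →
    Hyp G p q → Concl G p q := by
  intro n
  induction n using Nat.strong_induction_on with
  | _ n ih =>
  intro G _ _ hn h
  apply step h
  intro G' _ _ hlt h'
  exact ih (Nat.card G') (by omega) G' rfl h'

end Cfsg.Agent.Lib.Helper26.MixSpine
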