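import Mathlib

/-!
Induced extensions (abstract part of the model theorem).

Given `π : S →* A` with kernel (the image of) a commutative group `Z` on which `A` acts compatibly, a section
`r` of `A → A ⧸ π.range`, and a "cocycle" `c : S → A ⧸ π.range → S`, we build a group `G` (a quotient of a
subgroup of the wreath product `S ≀ A`) with a surjection `ρ : G →* A` and `ι : S →* G` such that `ρ ∘ ι = π`,
`ker ρ = ι (Z)`, `ι` injective and `ι(S) = ρ⁻¹(π(S))`, provided `|A : π(S)|` is prime to `|Z|`.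
-/

set_option autoImplicit false
set_option linter.unusedSectionVars false
set_option linter.unusedVariables false

namespace Cfsg.Agent.Lib.Helper26.IndExt

variable {S A Z : Type*} [Group S] [Group A] [CommGroup Z]

/-- The index set: left cosets of the image of `π`. -/
abbrev Idx (π : S →* A) : Type _ := A ⧸ π.range

section Wreath

variable (π : S →* A)

/-- Shifting functions on the index set by an element of `A`. -/
def shift (a : A) : MulAut (Idx π → S) where
  toFun F j := F (a⁻¹ • j)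
  invFun F j := F (a • j)
  left_inv F := by funext j; simp
  right_inv F := by funext j; simp
  map_mul' F G := rfl

@[simp] theorem shift_apply (a : A) (F : Idx π → S) (j : Idx π) : shift π a F j = F (a⁻¹ • j) := rfl

/-- The shift action as a homomorphism. -/
def shiftHom : A →* MulAut (Idx π → S) where
  toFun := shift π
  map_one' := by
    ext F j
    simp
  map_mul' a b := by
    ext F j
    simp [mul_smul]

@[simp] theorem shiftHom_apply (a : A) (F : Idx π → S) (j : Idx π) : shiftHom π a F j = F (a⁻¹ • j) := rfl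

/-- The wreath product. -/
abbrev W : Type _ := (Idx π → S) ⋊[shiftHom π] A

variable (r : Idx π → A)

/-- The subgroup of the wreath product of elements compatible with `π`. -/
def Ehat : Subgroup (W π) where
  carrier := {w | ∀ j, π (w.left j) = (r j)⁻¹ * w.right * r (w.right⁻¹ • j)}
  one_mem' := by
    intro j
    simp
  mul_mem' := by
    intro w₁ w₂ h₁ h₂ j
    have e1 := h₁ j
    have e2 := h₂ (w₁.right⁻¹ • j)
    simp only [SemidirectProduct.mul_left, SemidirectProduct.mul_right, Pi.mul_apply, shiftHom_apply,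
      map_mul, e1, e2, mul_inv_rev, mul_smul]
    group
  inv_mem' := by
    intro w h j
    have e1 := h (w.right • j)
    rw [inv_smul_smul] at e1
    have e2 : (w⁻¹).left j = (w.left (w.right • j))⁻¹ := by
      rw [SemidirectProduct.inv_left, shiftHom_apply, inv_inv, Pi.inv_apply]
    rw [e2, SemidirectProduct.inv_right, inv_inv, map_inv, e1]
    group

theorem mem_Ehat (w : W π) :
    w ∈ Ehat π r ↔ ∀ j, π (w.left j) = (r j)⁻¹ * w.right * r (w.right⁻¹ • j) := Iff.rfl

/-- A cocycle for the action of `S` (through `π`) on the index set, with values in `S`, covering the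
canonical `π(S)`-valued cocycle attached to the section `r`. -/
structure Coc where
  c : S → Idx π → S
  mul : ∀ s s' i, c (s * s') i = c s (π s' • i) * c s' i
  pi : ∀ s i, π (c s i) = (r (π s • i))⁻¹ * π s * r i

variable {π r}

theorem Coc.one (C : Coc π r) (i : Idx π) : C.c 1 i = 1 := by
  have h := C.mul 1 1 i
  rw [mul_one, map_one, one_smul] at h
  exact (mul_eq_left (a := C.c 1 i) (b := C.c 1 i)).mp h.symm

/-- The embedding of `S` into the wreath product given by a cocycle. -/
def sigmaW (C : Coc π r) : S →* W π where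
  toFun s := ⟨fun j => C.c s ((π s)⁻¹ • j), π s⟩
  map_one' := by
    ext j
    · simp [C.one]
    · simp
  map_mul' s s' := by
    ext j
    · simp only [SemidirectProduct.mul_left, Pi.mul_apply, shiftHom_apply, map_mul, mul_inv_rev, mul_smul]
      rw [C.mul]
      simp
    · simp

@[simp] theorem sigmaW_left (C : Coc π r) (s : S) (j : Idx π) :
    (sigmaW C s).left j = C.c s ((π s)⁻¹ • j) := rfl

@[simp] theorem sigmaW_right (C : Coc π r) (s : S) : (sigmaW C s).right = π s := rfl

theorem sigmaW_mem (C : Coc π r) (s : S) : sigmaW C s ∈ Ehat π r := by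
  intro j
  rw [sigmaW_left, sigmaW_right, C.pi, smul_inv_smul]

/-- `σ` with values in `Ehat`. -/
def sigmaE (C : Coc π r) : S →* Ehat π r := (sigmaW C).codRestrict _ (sigmaW_mem C)

@[simp] theorem sigmaE_coe (C : Coc π r) (s : S) : ((sigmaE C s : Ehat π r) : W π) = sigmaW C s := rfl

end Wreath

section Module

/-- Module data: the kernel of `π` is the image of a commutative group `Z` on which `A` acts, the action of
`π s` being conjugation by `s`. -/
structure ModData {S A : Type*} [Group S] [Group A] (π : S →* A) (Z : Type*) [CommGroup Z] where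
  ζ : Z →* S
  inj : Function.Injective ζ
  range : ζ.range = π.ker
  act : A →* MulAut Z
  conj : ∀ s z, ζ (act (π s) z) = s * ζ z * s⁻¹

variable {π : S →* A}

theorem ModData.pi_zeta (D : ModData π Z) (z : Z) : π (D.ζ z) = 1 := by
  have h : D.ζ z ∈ D.ζ.range := ⟨z, rfl⟩
  rw [D.range] at h
  exact h

theorem ModData.exists_of_pi_eq_one (D : ModData π Z) {s : S} (h : π s = 1) : ∃ z, D.ζ z = s := by
  have h' : s ∈ π.ker := h
  rw [← D.range] at h'
  exact h'

open Classical in
/-- The inverse of `ζ`, extended by `1`. -/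
noncomputable def ModData.zOf (D : ModData π Z) (s : S) : Z :=
  if h : ∃ z, D.ζ z = s then Classical.choose h else 1

theorem ModData.zeta_zOf (D : ModData π Z) {s : S} (h : π s = 1) : D.ζ (D.zOf s) = s := by
  have h' := D.exists_of_pi_eq_one h
  unfold ModData.zOf
  rw [dif_pos h']
  exact Classical.choose_spec h'

theorem ModData.zOf_zeta (D : ModData π Z) (z : Z) : D.zOf (D.ζ z) = z :=
  D.inj (D.zeta_zOf (D.pi_zeta z))

theorem ModData.zOf_mul (D : ModData π Z) {s s' : S} (h : π s = 1) (h' : π s' = 1) :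
    D.zOf (s * s') = D.zOf s * D.zOf s' := by
  apply D.inj
  rw [map_mul, D.zeta_zOf h, D.zeta_zOf h', D.zeta_zOf (by rw [map_mul, h, h', one_mul])]

theorem ModData.zOf_one (D : ModData π Z) : D.zOf 1 = 1 := by
  have := D.zOf_zeta 1
  rwa [map_one] at this

theorem ModData.zOf_conj (D : ModData π Z) (s : S) {x : S} (h : π x = 1) :
    D.zOf (s * x * s⁻¹) = D.act (π s) (D.zOf x) := by
  apply D.inj
  rw [D.conj, D.zeta_zOf h, D.zeta_zOf]
  rw [map_mul, map_mul, h, mul_one, map_inv, mul_inv_cancel]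

end Module

section Quotient

variable {π : S →* A} {r : Idx π → A} [Finite A]

set_option linter.overlappingInstances false in
set_option warn.classDefReducibility false in
/-- A `Fintype` structure on the index set (local to this file). -/
noncomputable def fintypeIdx (π : S →* A) [Finite A] : Fintype (Idx π) := Fintype.ofFinite _

set_option warn.classDefReducibility false

attribute [local instance] fintypeIdx

variable (π r) in
/-- The elements of `Ehat` with trivial `A`-component. -/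
def kerE : Subgroup (Ehat π r) :=
  ((SemidirectProduct.rightHom (φ := shiftHom π)).comp (Ehat π r).subtype).ker

theorem mem_kerE (w : Ehat π r) : w ∈ kerE π r ↔ (w : W π).right = 1 := Iff.rfl

instance : (kerE π r).Normal := by
  unfold kerE
  infer_instance

theorem pi_left_of_mem_kerE {w : Ehat π r} (h : w ∈ kerE π r) (j : Idx π) : π ((w : W π).left j) = 1 := by
  have h1 := w.2 j
  rw [(mem_kerE w).mp h] at h1
  rw [h1]
  simp

theorem left_mul_of_mem_kerE (w₁ w₂ : Ehat π r) (h : w₁ ∈ kerE π r) (j : Idx π) :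
    ((w₁ * w₂ : Ehat π r) : W π).left j = (w₁ : W π).left j * (w₂ : W π).left j := by
  rw [Subgroup.coe_mul, SemidirectProduct.mul_left, Pi.mul_apply, shiftHom_apply, (mem_kerE w₁).mp h]
  simp

/-- The norm map on `kerE`. -/
noncomputable def nuHom (D : ModData π Z) (r : Idx π → A) : kerE π r →* Z where
  toFun w := ∏ j, D.act (r j) (D.zOf (((w : Ehat π r) : W π).left j))
  map_one' := by
    apply Finset.prod_eq_one
    intro j _
    simp [D.zOf_one]
  map_mul' w₁ w₂ := by
    rw [← Finset.prod_mul_distrib]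
    apply Finset.prod_congr rfl
    intro j _
    rw [← map_mul, ← D.zOf_mul (pi_left_of_mem_kerE w₁.2 j) (pi_left_of_mem_kerE w₂.2 j)]
    congr 2
    exact left_mul_of_mem_kerE _ _ w₁.2 j

theorem conj_left (g k : Ehat π r) (hk : k ∈ kerE π r) (j : Idx π) :
    ((g * k * g⁻¹ : Ehat π r) : W π).left j =
      (g : W π).left j * (k : W π).left ((g : W π).right⁻¹ • j) * ((g : W π).left j)⁻¹ := by
  have hk1 : (k : W π).right = 1 := (mem_kerE k).mp hk
  simp only [Subgroup.coe_mul, Subgroup.coe_inv, SemidirectProduct.mul_left, SemidirectProduct.mul_right,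
    SemidirectProduct.inv_left, Pi.mul_apply, shiftHom_apply, hk1, mul_one, inv_inv, Pi.inv_apply,
    smul_inv_smul]

theorem nuHom_conj (D : ModData π Z) (g : Ehat π r) (k : kerE π r)
    (hmem : g * (k : Ehat π r) * g⁻¹ ∈ kerE π r) :
    nuHom D r ⟨g * (k : Ehat π r) * g⁻¹, hmem⟩ = D.act ((g : W π).right) (nuHom D r k) := by
  show ∏ j, D.act (r j) (D.zOf (((g * (k : Ehat π r) * g⁻¹ : Ehat π r) : W π).left j)) =
    D.act ((g : W π).right) (∏ j, D.act (r j) (D.zOf (((k : Ehat π r) : W π).left j)))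
  rw [map_prod]
  set a := (g : W π).right with ha
  rw [← Equiv.prod_comp (MulAction.toPerm a⁻¹ : Idx π ≃ Idx π)
    (fun j => D.act a (D.act (r j) (D.zOf (((k : Ehat π r) : W π).left j))))]
  apply Finset.prod_congr rfl
  intro j _
  rw [conj_left g k k.2 j, D.zOf_conj _ (pi_left_of_mem_kerE k.2 _), g.2 j]
  simp only [MulAction.toPerm_apply, ← ha]
  rw [← MulAut.mul_apply, ← map_mul, ← MulAut.mul_apply, ← map_mul]
  congr 2
  group

variable (r) in
/-- The subgroup `K`: trivial `A`-component and trivial norm. -/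
noncomputable def Ksub (D : ModData π Z) : Subgroup (Ehat π r) := (nuHom D r).ker.map (kerE π r).subtype

theorem mem_Ksub (D : ModData π Z) (w : Ehat π r) :
    w ∈ Ksub r D ↔ ∃ h : w ∈ kerE π r, nuHom D r ⟨w, h⟩ = 1 := by
  constructor
  · rintro ⟨k, hk, rfl⟩
    exact ⟨k.2, hk⟩
  · rintro ⟨h, hk⟩
    exact ⟨⟨w, h⟩, hk, rfl⟩

instance Ksub_normal (D : ModData π Z) : (Ksub r D).Normal := by
  constructor
  intro k hk g
  obtain ⟨hk1, hk2⟩ := (mem_Ksub D k).mp hk
  have hmem : g * k * g⁻¹ ∈ kerE π r := (inferInstance : (kerE π r).Normal).conj_mem k hk1 g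
  refine (mem_Ksub D _).mpr ⟨hmem, ?_⟩
  have := nuHom_conj D g ⟨k, hk1⟩ hmem
  rw [this, hk2, map_one]

variable (r) in
/-- The induced extension. -/
abbrev GG (D : ModData π Z) : Type _ := Ehat π r ⧸ Ksub r D

theorem Ksub_le_kerE (D : ModData π Z) : Ksub r D ≤ kerE π r := by
  intro w hw
  exact ((mem_Ksub D w).mp hw).1

/-- The projection of the induced extension onto `A`. -/
noncomputable def rho (D : ModData π Z) : GG r D →* A :=
  QuotientGroup.lift (Ksub r D) ((SemidirectProduct.rightHom (φ := shiftHom π)).comp (Ehat π r).subtype)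
    (fun w hw => Ksub_le_kerE D hw)

@[simp] theorem rho_mk (D : ModData π Z) (w : Ehat π r) :
    rho D (QuotientGroup.mk w : GG r D) = (w : W π).right := rfl

/-- The embedding of `S` in the induced extension. -/
noncomputable def iota (D : ModData π Z) (C : Coc π r) : S →* GG r D :=
  (QuotientGroup.mk' (Ksub r D)).comp (sigmaE C)

theorem iota_apply (D : ModData π Z) (C : Coc π r) (s : S) :
    iota D C s = (QuotientGroup.mk (sigmaE C s) : GG r D) := rfl

@[simp] theorem rho_iota (D : ModData π Z) (C : Coc π r) (s : S) : rho D (iota D C s) = π s := rfl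

theorem rho_surjective (D : ModData π Z) (hr : ∀ i : Idx π, (QuotientGroup.mk (r i) : Idx π) = i) :
    Function.Surjective (rho (r := r) D) := by
  intro a
  have key : ∀ j : Idx π, ∃ s : S, π s = (r j)⁻¹ * a * r (a⁻¹ • j) := by
    intro j
    have h1 : (QuotientGroup.mk (a * r (a⁻¹ • j)) : Idx π) = QuotientGroup.mk (r j) := by
      rw [hr j]
      have : (QuotientGroup.mk (a * r (a⁻¹ • j)) : Idx π) = a • (QuotientGroup.mk (r (a⁻¹ • j)) : Idx π) := rfl
      rw [this, hr, smul_inv_smul]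
    have h2 := QuotientGroup.eq.mp h1.symm
    obtain ⟨s, hs⟩ := h2
    exact ⟨s, by rw [hs]; group⟩
  choose F hF using key
  refine ⟨QuotientGroup.mk ⟨⟨F, a⟩, ?_⟩, rfl⟩
  intro j
  exact hF j

/-- The cocycle on the kernel is given by the module action. -/
def CompatM (D : ModData π Z) (C : Coc π r) : Prop :=
  ∀ z i, C.c (D.ζ z) i = D.ζ (D.act (r i)⁻¹ z)

theorem sigmaE_zeta_mem_kerE (D : ModData π Z) (C : Coc π r) (z : Z) : sigmaE C (D.ζ z) ∈ kerE π r := by
  rw [mem_kerE, sigmaE_coe, sigmaW_right, D.pi_zeta]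

theorem nuHom_sigma_zeta (D : ModData π Z) (C : Coc π r) (hM : CompatM D C) (z : Z) :
    nuHom D r ⟨sigmaE C (D.ζ z), sigmaE_zeta_mem_kerE D C z⟩ = z ^ Nat.card (Idx π) := by
  show ∏ j, D.act (r j) (D.zOf ((sigmaW C (D.ζ z)).left j)) = _
  have : ∀ j ∈ (Finset.univ : Finset (Idx π)), D.act (r j) (D.zOf ((sigmaW C (D.ζ z)).left j)) = z := by
    intro j _
    rw [sigmaW_left, D.pi_zeta, inv_one, one_smul, hM, D.zOf_zeta, ← MulAut.mul_apply, ← map_mul,
      mul_inv_cancel, map_one, MulAut.one_apply]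
  rw [Finset.prod_congr rfl this, Finset.prod_const, Finset.card_univ, Nat.card_eq_fintype_card]

theorem exists_zeta_of_rho_eq_one [Finite Z] (D : ModData π Z) (C : Coc π r) (hM : CompatM D C)
    (hcop : (Nat.card (Idx π)).Coprime (Nat.card Z)) (g : GG r D) (hg : rho D g = 1) :
    ∃ z : Z, g = iota D C (D.ζ z) := by
  obtain ⟨w, rfl⟩ := QuotientGroup.mk_surjective g
  have hw : w ∈ kerE π r := hg
  set z₀ := nuHom D r ⟨w, hw⟩ with hz₀
  obtain ⟨z, hz⟩ := (powCoprime hcop.symm).surjective z₀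
  refine ⟨z, ?_⟩
  rw [iota_apply]
  refine (QuotientGroup.eq.mpr ?_)
  rw [mem_Ksub]
  have hmem : w⁻¹ * sigmaE C (D.ζ z) ∈ kerE π r :=
    (kerE π r).mul_mem ((kerE π r).inv_mem hw) (sigmaE_zeta_mem_kerE D C z)
  refine ⟨hmem, ?_⟩
  have e : (⟨w⁻¹ * sigmaE C (D.ζ z), hmem⟩ : kerE π r) =
      (⟨w, hw⟩ : kerE π r)⁻¹ * ⟨sigmaE C (D.ζ z), sigmaE_zeta_mem_kerE D C z⟩ := rfl
  rw [e, map_mul, map_inv, nuHom_sigma_zeta D C hM, ← hz₀, ← hz]
  simp [powCoprime]

theorem iota_injective [Finite Z] (D : ModData π Z) (C : Coc π r) (hM : CompatM D C)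
    (hcop : (Nat.card (Idx π)).Coprime (Nat.card Z)) : Function.Injective (iota D C) := by
  rw [injective_iff_map_eq_one]
  intro s hs
  have h1 : π s = 1 := by
    have := congrArg (rho D) hs
    rwa [rho_iota, map_one] at this
  obtain ⟨z, rfl⟩ := D.exists_of_pi_eq_one h1
  rw [iota_apply, QuotientGroup.eq_one_iff, mem_Ksub] at hs
  obtain ⟨h, hs⟩ := hs
  rw [nuHom_sigma_zeta D C hM] at hs
  have hz : z = 1 := by
    have := (powCoprime hcop.symm).injective (a₁ := z) (a₂ := 1)
    apply this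
    show z ^ Nat.card (Idx π) = 1 ^ Nat.card (Idx π)
    rw [hs, one_pow]
  rw [hz, map_one]

theorem iota_range [Finite Z] (D : ModData π Z) (C : Coc π r) (hM : CompatM D C)
    (hcop : (Nat.card (Idx π)).Coprime (Nat.card Z)) :
    (iota D C).range = π.range.comap (rho D) := by
  ext g
  constructor
  · rintro ⟨s, rfl⟩
    exact ⟨s, rfl⟩
  · rintro ⟨s, hs⟩
    have h1 : rho D (g * (iota D C s)⁻¹) = 1 := by
      rw [map_mul, map_inv, rho_iota, hs, mul_inv_cancel]
    obtain ⟨z, hz⟩ := exists_zeta_of_rho_eq_one D C hM hcop _ h1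
    refine ⟨D.ζ z * s, ?_⟩
    rw [map_mul, ← hz]
    group

end Quotient

section Orbits

variable (π : S →* A)

/-- The orbit relation of a subgroup `N` of `S` acting on the index set through `π`. -/
def orbSetoid (N : Subgroup S) : Setoid (Idx π) where
  r i i' := ∃ x ∈ N, π x • i = i'
  iseqv :=
    ⟨fun i => ⟨1, N.one_mem, by simp⟩,
     fun {i i'} h => by
      obtain ⟨x, hx, h⟩ := h
      exact ⟨x⁻¹, N.inv_mem hx, by rw [← h, map_inv, inv_smul_smul]⟩,
     fun {i i' i''} h h' => by
      obtain ⟨x, hx, h⟩ := h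
      obtain ⟨y, hy, h'⟩ := h'
      exact ⟨y * x, N.mul_mem hy hx, by rw [map_mul, mul_smul, h, h']⟩⟩

/-- Orbit representative. -/
noncomputable def orbRep (N : Subgroup S) (i : Idx π) : Idx π := (Quotient.mk (orbSetoid π N) i).out

theorem exists_orbRep (N : Subgroup S) (i : Idx π) : ∃ x ∈ N, π x • orbRep π N i = i :=
  Quotient.mk_out (s := orbSetoid π N) i

theorem orbRep_smul (N : Subgroup S) {x : S} (hx : x ∈ N) (i : Idx π) :
    orbRep π N (π x • i) = orbRep π N i := by
  unfold orbRep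
  congr 1
  apply Quotient.sound
  exact ⟨x⁻¹, N.inv_mem hx, by rw [map_inv, inv_smul_smul]⟩

/-- An element carrying the orbit representative to the given point. -/
noncomputable def orbElt (N : Subgroup S) (i : Idx π) : S := Classical.choose (exists_orbRep π N i)

theorem orbElt_mem (N : Subgroup S) (i : Idx π) : orbElt π N i ∈ N :=
  (Classical.choose_spec (exists_orbRep π N i)).1

theorem orbElt_smul (N : Subgroup S) (i : Idx π) : π (orbElt π N i) • orbRep π N i = i :=
  (Classical.choose_spec (exists_orbRep π N i)).2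

end Orbits

section Intertwiner

variable {π : S →* A} {r : Idx π → A}

theorem exists_intertwiner (C : Coc π r) (a : A) (N : Subgroup S) (θ : S → S)
    (hθN : ∀ x ∈ N, ∀ y ∈ N, θ (x * y) = θ x * θ y)
    (hθπ : ∀ x ∈ N, π (θ x) = a * π x * a⁻¹)
    (hloc : ∀ i : Idx π, ∃ y : S, π y = (r (a • i))⁻¹ * a * r i ∧
        ∀ x ∈ N, π x • i = i → y * C.c x i * y⁻¹ = C.c (θ x) (a • i)) :
    ∃ w : Ehat π r, (w : W π).right = a ∧ ∀ x ∈ N, w * sigmaE C x = sigmaE C (θ x) * w := by
  choose y hyπ hy using hloc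
  set b := orbRep π N with hb
  set xs := orbElt π N with hxs
  have hxsN : ∀ i : Idx π, xs i ∈ N := orbElt_mem π N
  have hxsb : ∀ i : Idx π, π (xs i) • b i = i := orbElt_smul π N
  have hbx : ∀ x ∈ N, ∀ i : Idx π, b (π x • i) = b i := fun x hx i => orbRep_smul π N hx i
  -- the function `f`
  set f : Idx π → S := fun i => C.c (θ (xs i)) (a • b i) * y (b i) * (C.c (xs i) (b i))⁻¹ with hf
  have haθ : ∀ x ∈ N, ∀ i : Idx π, π (θ x) • a • i = a • π x • i := by
    intro x hx i
    rw [hθπ x hx, ← mul_smul, ← mul_smul]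
    congr 1
    group
  -- `π (f i)`
  have hfπ : ∀ i : Idx π, π (f i) = (r (a • i))⁻¹ * a * r i := by
    intro i
    simp only [hf, map_mul, map_inv, C.pi, hyπ]
    rw [haθ _ (hxsN i), hxsb i, hθπ _ (hxsN i)]
    group
  -- key identity
  have key : ∀ x ∈ N, ∀ i : Idx π, f (π x • i) * C.c x i = C.c (θ x) (a • i) * f i := by
    intro x hx i
    set i₀ := b i with hi₀
    have hi₀' : b (π x • i) = i₀ := hbx x hx i
    set x₁ := xs i with hx₁
    set x' := xs (π x • i) with hx'
    have hx₁N : x₁ ∈ N := hxsN i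
    have hx'N : x' ∈ N := hxsN _
    have hx₁i : π x₁ • i₀ = i := hxsb i
    have hx'i : π x' • i₀ = π x • i := by
      have := hxsb (π x • i)
      rwa [hi₀'] at this
    set n := x'⁻¹ * x * x₁ with hn
    have hnN : n ∈ N := N.mul_mem (N.mul_mem (N.inv_mem hx'N) hx) hx₁N
    have hni : π n • i₀ = i₀ := by
      rw [hn, map_mul, map_mul, mul_smul, mul_smul, hx₁i, map_inv, ← hx'i, inv_smul_smul]
    have hxx : x * x₁ = x' * n := by rw [hn]; group
    -- (1),(2)
    have e1 : C.c (x * x₁) i₀ = C.c x i * C.c x₁ i₀ := by rw [C.mul, hx₁i]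
    have e2 : C.c (x * x₁) i₀ = C.c x' i₀ * C.c n i₀ := by rw [hxx, C.mul, hni]
    have e3 : y i₀ * C.c n i₀ = C.c (θ n) (a • i₀) * y i₀ := by
      have := hy i₀ n hnN hni
      rw [← this]; group
    have e4 : C.c (θ x * θ x₁) (a • i₀) = C.c (θ x) (a • i) * C.c (θ x₁) (a • i₀) := by
      rw [C.mul, haθ x₁ hx₁N, hx₁i]
    have e5 : C.c (θ x' * θ n) (a • i₀) = C.c (θ x') (a • i₀) * C.c (θ n) (a • i₀) := by
      rw [C.mul, haθ n hnN, hni]
    have e6 : θ x * θ x₁ = θ x' * θ n := by
      rw [← hθN x hx x₁ hx₁N, ← hθN x' hx'N n hnN, hxx]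
    have e7 : C.c (θ x) (a • i) * C.c (θ x₁) (a • i₀) = C.c (θ x') (a • i₀) * C.c (θ n) (a • i₀) := by
      rw [← e4, ← e5, e6]
    have e8 : (C.c x' i₀)⁻¹ * C.c x i = C.c n i₀ * (C.c x₁ i₀)⁻¹ := by
      have := e1.symm.trans e2
      rw [inv_mul_eq_iff_eq_mul, ← mul_assoc, eq_mul_inv_iff_mul_eq]
      exact this
    show C.c (θ (xs (π x • i))) (a • b (π x • i)) * y (b (π x • i)) * (C.c (xs (π x • i)) (b (π x • i)))⁻¹ *
        C.c x i = C.c (θ x) (a • i) * (C.c (θ (xs i)) (a • b i) * y (b i) * (C.c (xs i) (b i))⁻¹)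
    rw [hi₀', ← hx', ← hx₁, ← hi₀]
    calc C.c (θ x') (a • i₀) * y i₀ * (C.c x' i₀)⁻¹ * C.c x i
        = C.c (θ x') (a • i₀) * y i₀ * ((C.c x' i₀)⁻¹ * C.c x i) := by group
      _ = C.c (θ x') (a • i₀) * (y i₀ * C.c n i₀) * (C.c x₁ i₀)⁻¹ := by rw [e8]; group
      _ = (C.c (θ x') (a • i₀) * C.c (θ n) (a • i₀)) * y i₀ * (C.c x₁ i₀)⁻¹ := by rw [e3]; group
      _ = C.c (θ x) (a • i) * (C.c (θ x₁) (a • i₀) * y i₀ * (C.c x₁ i₀)⁻¹) := by rw [← e7]; group
  -- the element `w`
  have hw : (⟨fun j => f (a⁻¹ • j), a⟩ : W π) ∈ Ehat π r := by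
    intro j
    show π (f (a⁻¹ • j)) = (r j)⁻¹ * a * r (a⁻¹ • j)
    rw [hfπ, smul_inv_smul]
  refine ⟨⟨_, hw⟩, rfl, ?_⟩
  intro x hx
  apply Subtype.ext
  rw [Subgroup.coe_mul, Subgroup.coe_mul, sigmaE_coe, sigmaE_coe]
  ext j
  · simp only [SemidirectProduct.mul_left, Pi.mul_apply, shiftHom_apply, sigmaW_left, sigmaW_right]
    have h1 := key x hx ((π x)⁻¹ • a⁻¹ • j)
    rw [smul_inv_smul] at h1
    rw [h1]
    have h2 : a • (π x)⁻¹ • a⁻¹ • j = (π (θ x))⁻¹ • j := by
      rw [hθπ x hx, ← mul_smul, ← mul_smul]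
      congr 1
      group
    rw [h2]
    congr 2
    rw [← h2, inv_smul_smul]
  · simp only [SemidirectProduct.mul_right, sigmaW_right]
    rw [hθπ x hx]
    group

end Intertwiner

section CocycleConstruction

variable (π : S →* A) (r0 : Idx π → A) (Θ : Idx π → S → S)

/-- Representative of the `S`-orbit of a point of the index set. -/
noncomputable def bOf (i : Idx π) : Idx π := orbRep π ⊤ i

/-- An element of `S` carrying the orbit representative to the point. -/
noncomputable def uOf (i : Idx π) : S := orbElt π ⊤ i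

theorem uOf_smul (i : Idx π) : π (uOf π i) • bOf π i = i := orbElt_smul π ⊤ i

theorem bOf_smul (s : S) (i : Idx π) : bOf π (π s • i) = bOf π i := orbRep_smul π ⊤ (Subgroup.mem_top s) i

theorem uOf_inv_smul (i : Idx π) : (π (uOf π i))⁻¹ • i = bOf π i := by
  rw [inv_smul_eq_iff, uOf_smul]

/-- The section of `A → A ⧸ π(S)` adapted to the orbit data. -/
noncomputable def secOf (i : Idx π) : A := π (uOf π i) * r0 (bOf π i)

theorem secOf_mk (hr0 : ∀ i : Idx π, (QuotientGroup.mk (r0 i) : Idx π) = i) (i : Idx π) :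
    (QuotientGroup.mk (secOf π r0 i) : Idx π) = i := by
  have : (QuotientGroup.mk (secOf π r0 i) : Idx π) = π (uOf π i) • (QuotientGroup.mk (r0 (bOf π i)) : Idx π) := rfl
  rw [this, hr0, uOf_smul]

/-- The element of the stabilizer of the orbit representative attached to `s` and `i`. -/
noncomputable def dOf (s : S) (i : Idx π) : S := (uOf π (π s • i))⁻¹ * s * uOf π i

theorem dOf_smul (s : S) (i : Idx π) : π (dOf π s i) • bOf π i = bOf π i := by
  unfold dOf
  rw [map_mul, map_mul, mul_smul, mul_smul, uOf_smul, map_inv, uOf_inv_smul, bOf_smul]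

theorem dOf_mul (s s' : S) (i : Idx π) : dOf π (s * s') i = dOf π s (π s' • i) * dOf π s' i := by
  unfold dOf
  rw [map_mul, mul_smul]
  group

variable {π r0 Θ}

/-- The cocycle built from homomorphisms `Θ i` on the stabilizers of the orbit representatives. -/
noncomputable def cocOf
    (hΘmul : ∀ i : Idx π, ∀ d d' : S, π d • i = i → π d' • i = i → Θ i (d * d') = Θ i d * Θ i d')
    (hΘπ : ∀ (i : Idx π) (d : S), π d • i = i → π (Θ i d) = (r0 i)⁻¹ * π d * r0 i) :
    Coc π (secOf π r0) where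
  c s i := Θ (bOf π i) (dOf π s i)
  mul s s' i := by
    rw [dOf_mul, bOf_smul]
    apply hΘmul
    · have := dOf_smul π s (π s' • i)
      rwa [bOf_smul] at this
    · exact dOf_smul π s' i
  pi s i := by
    rw [hΘπ _ _ (dOf_smul π s i)]
    unfold secOf dOf
    rw [bOf_smul, map_mul, map_mul, map_inv]
    group

theorem cocOf_c
    (hΘmul : ∀ i : Idx π, ∀ d d' : S, π d • i = i → π d' • i = i → Θ i (d * d') = Θ i d * Θ i d')
    (hΘπ : ∀ (i : Idx π) (d : S), π d • i = i → π (Θ i d) = (r0 i)⁻¹ * π d * r0 i) (s : S) (i : Idx π) :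
    (cocOf hΘmul hΘπ).c s i = Θ (bOf π i) (dOf π s i) := rfl

theorem dOf_of_stab {s : S} {i : Idx π} (h : π s • i = i) : dOf π s i = (uOf π i)⁻¹ * s * uOf π i := by
  unfold dOf
  rw [h]

theorem cocOf_compatM (D : ModData π Z)
    (hΘmul : ∀ i : Idx π, ∀ d d' : S, π d • i = i → π d' • i = i → Θ i (d * d') = Θ i d * Θ i d')
    (hΘπ : ∀ (i : Idx π) (d : S), π d • i = i → π (Θ i d) = (r0 i)⁻¹ * π d * r0 i)
    (hΘζ : ∀ (i : Idx π) (z : Z), Θ i (D.ζ z) = D.ζ (D.act (r0 i)⁻¹ z)) :
    CompatM D (cocOf hΘmul hΘπ) := by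
  intro z i
  rw [cocOf_c]
  have h1 : π (D.ζ z) • i = i := by rw [D.pi_zeta, one_smul]
  rw [dOf_of_stab h1]
  have h2 : (uOf π i)⁻¹ * D.ζ z * uOf π i = D.ζ (D.act (π (uOf π i))⁻¹ z) := by
    have := D.conj (uOf π i)⁻¹ z
    rw [map_inv, inv_inv] at this
    exact this.symm
  rw [h2, hΘζ]
  congr 1
  unfold secOf
  rw [mul_inv_rev, map_mul, MulAut.mul_apply]

end CocycleConstruction

end Cfsg.Agent.Lib.Helper26.IndExt
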