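import Cfsg.Agent.Lib.Helper26.FSCentricExt
import Cfsg.Agent.Lib.Helper26.FSSatEquiv

/-!
Maps of a fusion system as partial self-maps of `↥S` (bookkeeping layer for the model theorem).
-/

set_option autoImplicit false
set_option linter.unusedSectionVars false
set_option linter.unusedVariables false

namespace Cfsg.Agent.Lib.Helper26.ModelThm

open Cfsg Cfsg.FusionSystem Cfsg.Agent.Lib.Helper26

variable {Ω : Type*} [Group Ω] {S : Subgroup Ω}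

/-- `θ` restricted to the subgroup `N` of `↥S` is a map of the system. -/
def IsFMap (F : FusionSystem S) (N : Subgroup ↥S) (θ : ↥S → ↥S) : Prop :=
  ∃ φ ∈ F.Hom (N.map S.subtype), ∀ (x : ↥S) (hx : x ∈ N),
    φ ⟨x, Subgroup.mem_map_of_mem S.subtype hx⟩ = (θ x : Ω)

theorem map_subtype_le (N : Subgroup ↥S) : N.map S.subtype ≤ S := by
  rintro _ ⟨x, _, rfl⟩
  exact x.2

theorem mem_map_subtype_iff (N : Subgroup ↥S) (x : ↥S) : (x : Ω) ∈ N.map S.subtype ↔ x ∈ N := by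
  constructor
  · rintro ⟨y, hy, hyx⟩
    have : y = x := Subtype.ext hyx
    exact this ▸ hy
  · intro hx
    exact Subgroup.mem_map_of_mem S.subtype hx

theorem IsFMap.mul {F : FusionSystem S} {N : Subgroup ↥S} {θ : ↥S → ↥S} (h : IsFMap F N θ) {x y : ↥S}
    (hx : x ∈ N) (hy : y ∈ N) : θ (x * y) = θ x * θ y := by
  obtain ⟨φ, -, hφ⟩ := h
  apply Subtype.ext
  rw [Subgroup.coe_mul, ← hφ x hx, ← hφ y hy, ← hφ _ (N.mul_mem hx hy), ← map_mul]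
  rfl

theorem IsFMap.one {F : FusionSystem S} {N : Subgroup ↥S} {θ : ↥S → ↥S} (h : IsFMap F N θ) : θ 1 = 1 := by
  have := h.mul N.one_mem N.one_mem
  rw [mul_one] at this
  exact (mul_eq_left (a := θ 1) (b := θ 1)).mp this.symm

theorem IsFMap.inv {F : FusionSystem S} {N : Subgroup ↥S} {θ : ↥S → ↥S} (h : IsFMap F N θ) {x : ↥S}
    (hx : x ∈ N) : θ x⁻¹ = (θ x)⁻¹ := by
  have := h.mul (N.inv_mem hx) hx
  rw [inv_mul_cancel, h.one] at this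
  exact eq_inv_of_mul_eq_one_left this.symm

theorem IsFMap.injOn {F : FusionSystem S} {N : Subgroup ↥S} {θ : ↥S → ↥S} (h : IsFMap F N θ) {x y : ↥S}
    (hx : x ∈ N) (hy : y ∈ N) (hxy : θ x = θ y) : x = y := by
  obtain ⟨φ, hφF, hφ⟩ := h
  have h1 : φ ⟨x, Subgroup.mem_map_of_mem S.subtype hx⟩ = φ ⟨y, Subgroup.mem_map_of_mem S.subtype hy⟩ := by
    rw [hφ x hx, hφ y hy, hxy]
  have h2 := F.injective_of_mem hφF h1
  exact Subtype.ext (congrArg (fun z : ↥(N.map S.subtype) => (z : Ω)) h2)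

theorem IsFMap.congr {F : FusionSystem S} {N : Subgroup ↥S} {θ θ' : ↥S → ↥S} (h : IsFMap F N θ)
    (he : ∀ x ∈ N, θ x = θ' x) : IsFMap F N θ' := by
  obtain ⟨φ, hφF, hφ⟩ := h
  exact ⟨φ, hφF, fun x hx => by rw [hφ x hx, he x hx]⟩

theorem IsFMap.mono {F : FusionSystem S} {N N₁ : Subgroup ↥S} {θ : ↥S → ↥S} (h : IsFMap F N θ)
    (hle : N₁ ≤ N) : IsFMap F N₁ θ := by
  obtain ⟨φ, hφF, hφ⟩ := h
  have hle' : N₁.map S.subtype ≤ N.map S.subtype := Subgroup.map_mono hle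
  exact ⟨φ.comp (Subgroup.inclusion hle'), inclusion_comp_mem F hle' hφF, fun x hx => hφ x (hle hx)⟩

theorem isFMap_conj (F : FusionSystem S) (N : Subgroup ↥S) (s : ↥S) :
    IsFMap F N (fun x => s * x * s⁻¹) :=
  ⟨conjHom (N.map S.subtype) (s : Ω), F.conj_mem (map_subtype_le N) s.2, fun x hx => rfl⟩

theorem isFMap_id (F : FusionSystem S) (N : Subgroup ↥S) : IsFMap F N (fun x => x) :=
  ⟨(N.map S.subtype).subtype, subtype_mem F (map_subtype_le N), fun x hx => rfl⟩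

theorem IsFMap.comp {F : FusionSystem S} {N N' : Subgroup ↥S} {θ θ' : ↥S → ↥S} (h : IsFMap F N θ)
    (h' : IsFMap F N' θ') (hNN' : ∀ x ∈ N, θ x ∈ N') : IsFMap F N (fun x => θ' (θ x)) := by
  obtain ⟨φ, hφF, hφ⟩ := h
  obtain ⟨φ', hφ'F, hφ'⟩ := h'
  have hval : ∀ x : ↥(N.map S.subtype), φ x ∈ N'.map S.subtype := by
    rintro ⟨_, x, hx, rfl⟩
    have := hφ x hx
    rw [show (⟨S.subtype x, ⟨x, hx, rfl⟩⟩ : ↥(N.map S.subtype)) = ⟨x, Subgroup.mem_map_of_mem S.subtype hx⟩ from rfl,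
      this]
    exact Subgroup.mem_map_of_mem S.subtype (hNN' x hx)
  refine ⟨φ'.comp (φ.codRestrict _ hval), F.comp_mem hφF hφ'F hval, fun x hx => ?_⟩
  have e1 : (φ.codRestrict _ hval) ⟨x, Subgroup.mem_map_of_mem S.subtype hx⟩ =
      ⟨θ x, Subgroup.mem_map_of_mem S.subtype (hNN' x hx)⟩ := by
    apply Subtype.ext
    exact hφ x hx
  rw [MonoidHom.comp_apply, e1]
  exact hφ' (θ x) (hNN' x hx)

/-- The image of `N` under an `F`-map, as a subgroup of `↥S`. -/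
theorem IsFMap.exists_image {F : FusionSystem S} {N : Subgroup ↥S} {θ : ↥S → ↥S} (h : IsFMap F N θ) :
    ∃ N' : Subgroup ↥S, (∀ y, y ∈ N' ↔ ∃ x ∈ N, θ x = y) := by
  refine ⟨{ carrier := {y | ∃ x ∈ N, θ x = y}
            one_mem' := ⟨1, N.one_mem, h.one⟩
            mul_mem' := ?_
            inv_mem' := ?_ }, fun y => Iff.rfl⟩
  · rintro _ _ ⟨x, hx, rfl⟩ ⟨y, hy, rfl⟩
    exact ⟨x * y, N.mul_mem hx hy, h.mul hx hy⟩
  · rintro _ ⟨x, hx, rfl⟩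
    exact ⟨x⁻¹, N.inv_mem hx, h.inv hx⟩

/-- The inverse of an `F`-map is an `F`-map. -/
theorem IsFMap.exists_inverse {F : FusionSystem S} {N : Subgroup ↥S} {θ : ↥S → ↥S} (h : IsFMap F N θ)
    (N' : Subgroup ↥S) (hN' : ∀ y, y ∈ N' ↔ ∃ x ∈ N, θ x = y) :
    ∃ θ' : ↥S → ↥S, IsFMap F N' θ' ∧ (∀ x ∈ N, θ' (θ x) = x) ∧ ∀ y ∈ N', θ' y ∈ N ∧ θ (θ' y) = y := by
  classical
  obtain ⟨φ, hφF, hφ⟩ := h
  obtain ⟨ψ, hψF, hψ⟩ := F.inv_mem hφF
  have hrange : φ.range = N'.map S.subtype := by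
    ext y
    constructor
    · rintro ⟨⟨_, x, hx, rfl⟩, rfl⟩
      have := hφ x hx
      rw [show (⟨S.subtype x, ⟨x, hx, rfl⟩⟩ : ↥(N.map S.subtype)) = ⟨x, Subgroup.mem_map_of_mem S.subtype hx⟩ from rfl,
        this]
      exact Subgroup.mem_map_of_mem S.subtype ((hN' _).mpr ⟨x, hx, rfl⟩)
    · rintro ⟨y, hy, rfl⟩
      obtain ⟨x, hx, rfl⟩ := (hN' y).mp hy
      exact ⟨⟨x, Subgroup.mem_map_of_mem S.subtype hx⟩, hφ x hx⟩
  have hψ' := hom_congr F hrange hψF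
  -- define θ'
  have hinv : ∀ y ∈ N', ∃ x ∈ N, θ x = y := fun y hy => (hN' y).mp hy
  let θ' : ↥S → ↥S := fun y => if hy : y ∈ N' then Classical.choose (hinv y hy) else 1
  have hθ'spec : ∀ y (hy : y ∈ N'), θ' y ∈ N ∧ θ (θ' y) = y := by
    intro y hy
    simp only [θ', dif_pos hy]
    exact Classical.choose_spec (hinv y hy)
  have hφinj : ∀ x ∈ N, ∀ x' ∈ N, θ x = θ x' → x = x' := by
    intro x hx x' hx' he
    exact IsFMap.injOn ⟨φ, hφF, hφ⟩ hx hx' he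
  refine ⟨θ', ⟨_, hψ', ?_⟩, ?_, hθ'spec⟩
  · intro y hy
    obtain ⟨hx, hxy⟩ := hθ'spec y hy
    rw [MonoidHom.comp_apply]
    have e : (Subgroup.inclusion hrange.ge ⟨(y : Ω), Subgroup.mem_map_of_mem S.subtype hy⟩ : ↥φ.range) =
        ⟨φ ⟨θ' y, Subgroup.mem_map_of_mem S.subtype hx⟩, ⟨_, rfl⟩⟩ := by
      apply Subtype.ext
      show (y : Ω) = φ ⟨θ' y, Subgroup.mem_map_of_mem S.subtype hx⟩
      rw [hφ _ hx, hxy]
    rw [e, hψ]
  · intro x hx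
    have hy : θ x ∈ N' := (hN' _).mpr ⟨x, hx, rfl⟩
    obtain ⟨hx', hxy⟩ := hθ'spec (θ x) hy
    exact hφinj _ hx' _ hx hxy

/-- From a map of the system to an `F`-map. -/
theorem isFMap_of_hom (F : FusionSystem S) {P : Subgroup Ω} {φ : P →* Ω} (hφ : φ ∈ F.Hom P) :
    ∃ θ : ↥S → ↥S, IsFMap F (P.subgroupOf S) θ ∧
      ∀ (x : ↥S) (hx : (x : Ω) ∈ P), (θ x : Ω) = φ ⟨x, hx⟩ := by
  classical
  have hPS : P ≤ S := hom_le F hφ
  have hmap : (P.subgroupOf S).map S.subtype = P := Subgroup.map_subgroupOf_eq_of_le hPS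
  let θ : ↥S → ↥S := fun x => if hx : (x : Ω) ∈ P then ⟨φ ⟨x, hx⟩, hom_apply_mem F hφ _⟩ else 1
  have hθ : ∀ (x : ↥S) (hx : (x : Ω) ∈ P), (θ x : Ω) = φ ⟨x, hx⟩ := by
    intro x hx
    simp only [θ, dif_pos hx]
  refine ⟨θ, ⟨_, hom_congr F hmap.symm hφ, fun x hx => ?_⟩, hθ⟩
  have hx' : (x : Ω) ∈ P := hx
  rw [hθ x hx']
  rfl

/-- From an `F`-map to a map of the system. -/
theorem IsFMap.hom_mem {F : FusionSystem S} {P : Subgroup Ω} (hPS : P ≤ S) {θ : ↥S → ↥S}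
    (h : IsFMap F (P.subgroupOf S) θ) (φ : P →* Ω) (hφ : ∀ x : P, φ x = (θ ⟨x, hPS x.2⟩ : Ω)) :
    φ ∈ F.Hom P := by
  obtain ⟨ψ, hψF, hψ⟩ := h
  have hmap : (P.subgroupOf S).map S.subtype = P := Subgroup.map_subgroupOf_eq_of_le hPS
  have := hom_congr F hmap hψF
  have e : ψ.comp (Subgroup.inclusion hmap.ge) = φ := by
    ext x
    rw [hφ x, ← hψ ⟨x, hPS x.2⟩ (Subgroup.mem_subgroupOf.mpr x.2)]
    rfl
  rwa [e] at this

end Cfsg.Agent.Lib.Helper26.ModelThm
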