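import Cfsg.Agent.Lib.Helper26.ModelA
import Cfsg.Agent.Lib.Helper26.ModelB
import Cfsg.Agent.Lib.Helper26.FSNormalCrit
import Cfsg.Agent.Lib.Helper26.FSChain
import Cfsg.Agent.Lib.Helper26.FSSat

/-!
Model theorem: the set-up (`π : S → Aut_F(Q)`, the module `Z(Q)`, extensions of automorphisms).
-/

set_option autoImplicit false
set_option linter.unusedSectionVars false
set_option linter.unusedVariables false

namespace Cfsg.Agent.Lib.Helper26.ModelThm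

open Cfsg Cfsg.FusionSystem Cfsg.Agent.Lib.Helper26
open scoped IsMulCommutative

variable {Ω : Type*} [Group Ω] {S : Subgroup Ω}

/-- The standing hypotheses: `F` saturated over the `p`-group `S`, `Q` normal and centric in `F`. -/
structure Setup (p : ℕ) (F : FusionSystem S) (Q : Subgroup Ω) : Prop where
  pS : IsPGroup p S
  sat : F.IsSaturated p
  normal : F.IsNormal Q
  centric : F.IsCentric Q

variable {p : ℕ} {F : FusionSystem S} {Q : Subgroup Ω}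

theorem Setup.le (h : Setup p F Q) : Q ≤ S := h.normal.1

theorem Setup.le_normalizer (h : Setup p F Q) : S ≤ Subgroup.normalizer (Q : Set Ω) :=
  le_normalizer_of_stronglyClosed F (stronglyClosed_of_isNormal F h.normal)

theorem Setup.conj_mem (h : Setup p F Q) {s x : Ω} (hs : s ∈ S) (hx : x ∈ Q) : s * x * s⁻¹ ∈ Q :=
  (Subgroup.mem_normalizer_iff.mp (h.le_normalizer hs) x).mp hx

/-- `π : S → Aut_F(Q)`, conjugation. -/
def piHom (h : Setup p F Q) : ↥S →* ↥(F.autGroup Q) :=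
  (Q.normalizerMonoidHom.comp (Subgroup.inclusion h.le_normalizer)).codRestrict (F.autGroup Q)
    (fun s => autInducedBy_le_autGroup F h.le (normalizerMonoidHom_mem_autInducedBy s.2 (h.le_normalizer s.2)))

theorem piHom_apply (h : Setup p F Q) (s : ↥S) (x : ↥Q) :
    ((((piHom h s : ↥(F.autGroup Q)) : MulAut ↥Q) x : ↥Q) : Ω) = s * x * (s : Ω)⁻¹ := rfl

theorem piHom_eq_iff (h : Setup p F Q) (s : ↥S) (a : ↥(F.autGroup Q)) :
    piHom h s = a ↔ ∀ x : ↥Q, (((a : MulAut ↥Q) x : ↥Q) : Ω) = s * x * (s : Ω)⁻¹ := by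
  constructor
  · rintro rfl x
    rfl
  · intro hx
    apply Subtype.ext
    ext x
    rw [hx x]
    rfl

/-- The module `Z(Q)`. -/
abbrev ZQ (Q : Subgroup Ω) : Type _ := ↥(Subgroup.center ↥Q)

/-- The inclusion `Z(Q) → S`. -/
def zetaHom (h : Setup p F Q) : ZQ Q →* ↥S := (Subgroup.inclusion h.le).comp (Subgroup.center ↥Q).subtype

theorem zetaHom_coe (h : Setup p F Q) (z : ZQ Q) : ((zetaHom h z : ↥S) : Ω) = ((z : ↥Q) : Ω) := rfl

/-- The action of `Aut_F(Q)` on `Z(Q)`. -/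
def actHom (F : FusionSystem S) (Q : Subgroup Ω) : ↥(F.autGroup Q) →* MulAut (ZQ Q) :=
  (MulAut.characteristic (Subgroup.center ↥Q)).comp (F.autGroup Q).subtype

theorem actHom_coe (a : ↥(F.autGroup Q)) (z : ZQ Q) :
    ((actHom F Q a z : ZQ Q) : ↥Q) = (a : MulAut ↥Q) (z : ↥Q) := rfl

theorem mem_center_of_piHom_eq_one (h : Setup p F Q) {s : ↥S} (hs : piHom h s = 1) :
    ∃ z : ZQ Q, zetaHom h z = s := by
  have hcomm : ∀ x : ↥Q, (s : Ω) * x * (s : Ω)⁻¹ = x := by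
    intro x
    have := (piHom_eq_iff h s 1).mp hs x
    simpa using this.symm
  have hcen : (s : Ω) ∈ centralizerIn S Q := by
    rw [mem_centralizerIn_iff]
    refine ⟨s.2, ?_⟩
    intro x hx
    have := hcomm ⟨x, hx⟩
    simp only at this
    calc x * (s : Ω) = ((s : Ω) * x * (s : Ω)⁻¹) * s := by rw [this]
      _ = (s : Ω) * x := by group
  have hsQ : (s : Ω) ∈ Q := h.centric.2 Q (isConj_refl F h.le) hcen
  refine ⟨⟨⟨s, hsQ⟩, ?_⟩, Subtype.ext rfl⟩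
  rw [Subgroup.mem_center_iff]
  intro x
  apply Subtype.ext
  have := hcomm x
  show (x : Ω) * s = s * x
  calc (x : Ω) * s = ((s : Ω) * x * (s : Ω)⁻¹) * s := by rw [this]
    _ = (s : Ω) * x := by group

/-- The module data attached to the set-up. -/
def modData (h : Setup p F Q) : IndExt.ModData (piHom h) (ZQ Q) where
  ζ := zetaHom h
  inj := by
    intro z z' hzz'
    apply Subtype.ext
    apply Subtype.ext
    exact congrArg (fun s : ↥S => (s : Ω)) hzz'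
  range := by
    ext s
    constructor
    · rintro ⟨z, rfl⟩
      rw [MonoidHom.mem_ker, piHom_eq_iff]
      intro x
      have hz := Subgroup.mem_center_iff.mp z.2 x
      have hz' : (x : Ω) * ((z : ↥Q) : Ω) = ((z : ↥Q) : Ω) * x := congrArg (fun y : ↥Q => (y : Ω)) hz
      rw [zetaHom_coe]
      show (x : Ω) = _
      calc (x : Ω) = (x : Ω) * ((z : ↥Q) : Ω) * ((z : ↥Q) : Ω)⁻¹ := by group
        _ = ((z : ↥Q) : Ω) * x * ((z : ↥Q) : Ω)⁻¹ := by rw [hz']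
    · intro hs
      obtain ⟨z, hz⟩ := mem_center_of_piHom_eq_one h hs
      exact ⟨z, hz⟩
  act := actHom F Q
  conj := by
    intro s z
    apply Subtype.ext
    rw [zetaHom_coe, actHom_coe]
    rfl

theorem Setup.fullyNormalized [Finite S] (h : Setup p F Q) : F.IsFullyNormalized Q := by
  refine ⟨h.le, fun Q' _ => ?_⟩
  rw [normalizerIn_eq_of_le_normalizer h.le_normalizer]
  exact Subgroup.card_le_of_le inf_le_left

theorem Setup.receptive [Finite S] [Fact p.Prime] (h : Setup p F Q) : F.IsReceptive Q :=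
  saturated_fn_receptive h.pS F h.sat h.fullyNormalized

theorem Setup.fullyAutomized [Finite S] [Fact p.Prime] (h : Setup p F Q) : F.IsFullyAutomized p Q :=
  (saturated_fn h.pS F h.sat h.fullyNormalized).2

/-- The element of `S` lying in `Q`, as an element of `Q`. -/
def toQ {x : ↥S} (hx : (x : Ω) ∈ Q) : ↥Q := ⟨x, hx⟩

/-- The element of `S` obtained by applying an automorphism of `Q`. -/
def applyQ (h : Setup p F Q) (a : ↥(F.autGroup Q)) {x : ↥S} (hx : (x : Ω) ∈ Q) : ↥S :=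
  ⟨((a : MulAut ↥Q) ⟨x, hx⟩ : ↥Q), h.le ((a : MulAut ↥Q) ⟨x, hx⟩).2⟩

theorem applyQ_mem (h : Setup p F Q) (a : ↥(F.autGroup Q)) {x : ↥S} (hx : (x : Ω) ∈ Q) :
    ((applyQ h a hx : ↥S) : Ω) ∈ Q := ((a : MulAut ↥Q) ⟨x, hx⟩).2

theorem conj_piHom_of_mem (h : Setup p F Q) (a : ↥(F.autGroup Q)) {x : ↥S} (hx : (x : Ω) ∈ Q) :
    a * piHom h x * a⁻¹ = piHom h (applyQ h a hx) := by
  symm
  rw [piHom_eq_iff]
  intro y
  show ((a : MulAut ↥Q) ((piHom h x : MulAut ↥Q) ((a : MulAut ↥Q)⁻¹ y)) : Ω) = _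
  have e1 : (piHom h x : MulAut ↥Q) ((a : MulAut ↥Q)⁻¹ y) =
      (⟨x, hx⟩ : ↥Q) * ((a : MulAut ↥Q)⁻¹ y) * (⟨x, hx⟩ : ↥Q)⁻¹ := by
    apply Subtype.ext
    rfl
  rw [e1, map_mul, map_mul, map_inv, MulAut.apply_inv_self]
  rfl

/-- Extension of an automorphism of `Q` in `F` to a subgroup of its extender. -/
theorem exists_extension [Finite S] [Fact p.Prime] (h : Setup p F Q) (α : ↥(F.autGroup Q)) (N : Subgroup ↥S)
    (hN : ∀ s ∈ N, α * piHom h s * α⁻¹ ∈ (piHom h).range) :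
    ∃ θ : ↥S → ↥S, IsFMap F N θ ∧
      ∀ (x : ↥S) (hx : (x : Ω) ∈ Q), x ∈ N → θ x = applyQ h α hx := by
  have hα : Q.subtype.comp (α : MulAut ↥Q).toMonoidHom ∈ F.Hom Q := (mem_autGroup_iff F h.le α).mp α.2
  set φ : ↥Q →* Ω := Q.subtype.comp (α : MulAut ↥Q).toMonoidHom with hφdef
  have hrange : φ.range = Q := by
    ext y
    constructor
    · rintro ⟨x, rfl⟩
      exact ((α : MulAut ↥Q) x).2
    · intro hy
      refine ⟨(α : MulAut ↥Q)⁻¹ ⟨y, hy⟩, ?_⟩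
      show (((α : MulAut ↥Q) ((α : MulAut ↥Q)⁻¹ ⟨y, hy⟩) : ↥Q) : Ω) = y
      rw [MulAut.apply_inv_self]
  obtain ⟨ψ, hψ, hψφ⟩ := h.receptive.2 Q φ hα hrange
  obtain ⟨θ, hθ, hθψ⟩ := isFMap_of_hom F hψ
  have hle : N ≤ (extender S Q φ).subgroupOf S := by
    intro s hs
    rw [Subgroup.mem_subgroupOf, mem_extender_iff]
    obtain ⟨t, ht⟩ := hN s hs
    refine ⟨s.2, h.le_normalizer s.2, t, t.2, fun x hx => ?_⟩
    have e1 := (piHom_eq_iff h t _).mp ht ((α : MulAut ↥Q) x)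
    show (((α : MulAut ↥Q) ⟨s * x * (s : Ω)⁻¹, hx⟩ : ↥Q) : Ω) = t * (((α : MulAut ↥Q) x : ↥Q) : Ω) * (t : Ω)⁻¹
    rw [← e1]
    show _ = (((α : MulAut ↥Q) ((piHom h s : MulAut ↥Q) ((α : MulAut ↥Q)⁻¹ ((α : MulAut ↥Q) x))) : ↥Q) : Ω)
    rw [MulAut.inv_apply_self]
    rfl
  refine ⟨θ, hθ.mono hle, fun x hx hxN => ?_⟩
  have hxe : (x : Ω) ∈ extender S Q φ := hle hxN
  apply Subtype.ext
  rw [hθψ x hxe, hψφ (x : Ω) hx hxe]
  rfl

/-- Two `F`-maps on a subgroup containing `Q` agreeing on `Q` differ by conjugation by an element of `Z(Q)`. -/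
theorem exists_center_conj' [Finite S] [Fact p.Prime] (h : Setup p F Q) (N : Subgroup ↥S)
    (hQN : ∀ x : ↥S, (x : Ω) ∈ Q → x ∈ N) (θ θ' : ↥S → ↥S) (hθ : IsFMap F N θ) (hθ' : IsFMap F N θ')
    (he : ∀ x : ↥S, (x : Ω) ∈ Q → θ x = θ' x) :
    ∃ z : ZQ Q, ∀ y ∈ N, θ' y = θ (zetaHom h z * y * (zetaHom h z)⁻¹) := by
  obtain ⟨φ, hφF, hφ⟩ := hθ
  obtain ⟨φ', hφ'F, hφ'⟩ := hθ'
  have hQP : Q ≤ N.map S.subtype := by
    intro x hx
    exact Subgroup.mem_map_of_mem S.subtype (hQN ⟨x, h.le hx⟩ hx)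
  have hagree : ∀ x : ↥(N.map S.subtype), (x : Ω) ∈ Q → φ x = φ' x := by
    rintro ⟨_, x, hx, rfl⟩ hxQ
    have h1 := hφ x hx
    have h2 := hφ' x hx
    rw [show (⟨S.subtype x, ⟨x, hx, rfl⟩⟩ : ↥(N.map S.subtype)) = ⟨x, Subgroup.mem_map_of_mem S.subtype hx⟩ from rfl,
      h1, h2, he x hxQ]
  obtain ⟨z, hzQ, hzc, hz⟩ := exists_center_conj h.pS F h.sat (N.map S.subtype) Q hQP h.centric φ φ' hφF hφ'F hagree
  have hzcen : (⟨z, hzQ⟩ : ↥Q) ∈ Subgroup.center ↥Q := by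
    rw [Subgroup.mem_center_iff]
    intro x
    apply Subtype.ext
    exact Subgroup.mem_centralizer_iff.mp hzc x x.2
  refine ⟨⟨⟨z, hzQ⟩, hzcen⟩, fun y hy => ?_⟩
  apply Subtype.ext
  have h1 := hz ⟨y, Subgroup.mem_map_of_mem S.subtype hy⟩
  rw [hφ' y hy] at h1
  rw [h1]
  have hmem : zetaHom h ⟨⟨z, hzQ⟩, hzcen⟩ * y * (zetaHom h ⟨⟨z, hzQ⟩, hzcen⟩)⁻¹ ∈ N := by
    have hzN : zetaHom h ⟨⟨z, hzQ⟩, hzcen⟩ ∈ N := hQN _ hzQ
    exact N.mul_mem (N.mul_mem hzN hy) (N.inv_mem hzN)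
  rw [← hφ _ hmem]
  rfl

end Cfsg.Agent.Lib.Helper26.ModelThm
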