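import Cfsg.Agent.Lib.Helper26.ModelC

/-!
Model theorem: the cocycle attached to a constrained fusion system, and the intertwining elements of the
induced extension.
-/

set_option autoImplicit false
set_option linter.unusedSectionVars false
set_option linter.unusedVariables false

namespace Cfsg.Agent.Lib.Helper26.ModelThm

open Cfsg Cfsg.FusionSystem Cfsg.Agent.Lib.Helper26 IndExt
open scoped IsMulCommutative

variable {Ω : Type*} [Group Ω] {S : Subgroup Ω} {p : ℕ} {F : FusionSystem S} {Q : Subgroup Ω}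

theorem applyQ_congr (h : Setup p F Q) (a : ↥(F.autGroup Q)) {x x' : ↥S} (hx : (x : Ω) ∈ Q) (e : x = x') :
    applyQ h a hx = applyQ h a (x := x') (e ▸ hx) := by
  subst e
  rfl

theorem applyQ_mul (h : Setup p F Q) (a b : ↥(F.autGroup Q)) {x : ↥S} (hx : (x : Ω) ∈ Q) :
    applyQ h (a * b) hx = applyQ h a (applyQ_mem h b hx) := rfl

theorem applyQ_one (h : Setup p F Q) {x : ↥S} (hx : (x : Ω) ∈ Q) : applyQ h 1 hx = x := rfl

theorem applyQ_piHom (h : Setup p F Q) (s : ↥S) {x : ↥S} (hx : (x : Ω) ∈ Q) :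
    applyQ h (piHom h s) hx = s * x * s⁻¹ := rfl

theorem applyQ_injective (h : Setup p F Q) (a : ↥(F.autGroup Q)) {x x' : ↥S} (hx : (x : Ω) ∈ Q)
    (hx' : (x' : Ω) ∈ Q) (e : applyQ h a hx = applyQ h a hx') : x = x' := by
  have e1 : ((a : MulAut ↥Q) ⟨x, hx⟩ : ↥Q) = (a : MulAut ↥Q) ⟨x', hx'⟩ := by
    apply Subtype.ext
    exact congrArg (fun s : ↥S => (s : Ω)) e
  have e2 := (a : MulAut ↥Q).injective e1
  apply Subtype.ext
  exact congrArg (fun s : ↥Q => (s : Ω)) e2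

theorem conj_mem_Q (h : Setup p F Q) (s : ↥S) {x : ↥S} (hx : (x : Ω) ∈ Q) : ((s * x * s⁻¹ : ↥S) : Ω) ∈ Q :=
  h.conj_mem s.2 hx

theorem piHom_conj_mem_range (h : Setup p F Q) (a : ↥(F.autGroup Q)) {x : ↥S} (hx : (x : Ω) ∈ Q) :
    a * piHom h x * a⁻¹ ∈ (piHom h).range :=
  ⟨applyQ h a hx, (conj_piHom_of_mem h a hx).symm⟩

/-- An `F`-map extending the automorphism `a` of `Q` conjugates `π` by `a`. -/
theorem piHom_isFMap (h : Setup p F Q) (N : Subgroup ↥S) (hQN : ∀ x : ↥S, (x : Ω) ∈ Q → x ∈ N)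
    (θ : ↥S → ↥S) (hθ : IsFMap F N θ) (a : ↥(F.autGroup Q))
    (hθQ : ∀ (x : ↥S) (hx : (x : Ω) ∈ Q), θ x = applyQ h a hx) :
    ∀ y ∈ N, piHom h (θ y) = a * piHom h y * a⁻¹ := by
  intro y hy
  rw [piHom_eq_iff]
  intro x
  set x' : ↥Q := (a : MulAut ↥Q)⁻¹ x with hx'
  set q' : ↥S := ⟨x', h.le x'.2⟩ with hq'
  have hq'Q : (q' : Ω) ∈ Q := x'.2
  have hq'N : q' ∈ N := hQN q' hq'Q
  have hc : ((y * q' * y⁻¹ : ↥S) : Ω) ∈ Q := conj_mem_Q h y hq'Q
  have e1 : θ (y * q' * y⁻¹) = θ y * θ q' * (θ y)⁻¹ := by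
    rw [hθ.mul (N.mul_mem hy hq'N) (N.inv_mem hy), hθ.mul hy hq'N, hθ.inv hy]
  have e2 : θ q' = applyQ h a hq'Q := hθQ q' hq'Q
  have e3 : ((applyQ h a hq'Q : ↥S) : Ω) = x := by
    show (((a : MulAut ↥Q) ⟨q', hq'Q⟩ : ↥Q) : Ω) = x
    have : (⟨q', hq'Q⟩ : ↥Q) = x' := Subtype.ext rfl
    rw [this, hx', MulAut.apply_inv_self]
  have e4 := hθQ _ hc
  have e5 : ((((a * piHom h y * a⁻¹ : ↥(F.autGroup Q)) : MulAut ↥Q) x : ↥Q) : Ω) =
      ((applyQ h a hc : ↥S) : Ω) := rfl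
  rw [e5, ← e4, e1, e2]
  show (θ y : Ω) * ((applyQ h a hq'Q : ↥S) : Ω) * ((θ y : ↥S) : Ω)⁻¹ = _
  rw [e3]

section Construction

variable [Finite ↥S] [Finite ↥Q] [Fact p.Prime] (h : Setup p F Q)

/-- A section of `A → A ⧸ π(S)`. -/
noncomputable def r0 : Idx (piHom h) → ↥(F.autGroup Q) := fun i => Quotient.out i

theorem r0_mk (i : Idx (piHom h)) : (QuotientGroup.mk (r0 h i) : Idx (piHom h)) = i :=
  QuotientGroup.out_eq' i

theorem smul_eq_iff (i : Idx (piHom h)) (a : ↥(F.autGroup Q)) :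
    a • i = i ↔ (r0 h i)⁻¹ * a * r0 h i ∈ (piHom h).range := by
  have e1 : a • i = (QuotientGroup.mk (a * r0 h i) : Idx (piHom h)) := by
    conv_lhs => rw [← r0_mk h i]
    rfl
  rw [e1]
  conv_lhs => rhs; rw [← r0_mk h i]
  rw [eq_comm, QuotientGroup.eq, mul_assoc]

/-- The stabilizer in `S` of a point of the index set. -/
def stabSub (i : Idx (piHom h)) : Subgroup ↥S := (MulAction.stabilizer ↥(F.autGroup Q) i).comap (piHom h)

theorem mem_stabSub (i : Idx (piHom h)) (d : ↥S) : d ∈ stabSub h i ↔ piHom h d • i = i := Iff.rfl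

theorem Q_smul (i : Idx (piHom h)) {x : ↥S} (hx : (x : Ω) ∈ Q) : piHom h x • i = i := by
  rw [smul_eq_iff]
  have := piHom_conj_mem_range h (r0 h i)⁻¹ hx
  rwa [inv_inv] at this

theorem exists_Theta (i : Idx (piHom h)) : ∃ θ : ↥S → ↥S, IsFMap F (stabSub h i) θ ∧
    ∀ (x : ↥S) (hx : (x : Ω) ∈ Q), θ x = applyQ h (r0 h i)⁻¹ hx := by
  have hN : ∀ s ∈ stabSub h i, (r0 h i)⁻¹ * piHom h s * ((r0 h i)⁻¹)⁻¹ ∈ (piHom h).range := by
    intro s hs
    rw [inv_inv]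
    exact (smul_eq_iff h i _).mp hs
  obtain ⟨θ, hθ, hθQ⟩ := exists_extension h (r0 h i)⁻¹ (stabSub h i) hN
  exact ⟨θ, hθ, fun x hx => hθQ x hx (Q_smul h i hx)⟩

/-- The chosen extensions of `(r0 i)⁻¹` to the stabilizers. -/
noncomputable def Theta (i : Idx (piHom h)) : ↥S → ↥S := Classical.choose (exists_Theta h i)

theorem Theta_isFMap (i : Idx (piHom h)) : IsFMap F (stabSub h i) (Theta h i) :=
  (Classical.choose_spec (exists_Theta h i)).1

theorem Theta_apply (i : Idx (piHom h)) {x : ↥S} (hx : (x : Ω) ∈ Q) :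
    Theta h i x = applyQ h (r0 h i)⁻¹ hx :=
  (Classical.choose_spec (exists_Theta h i)).2 x hx

theorem Theta_mul (i : Idx (piHom h)) (d d' : ↥S) (hd : piHom h d • i = i) (hd' : piHom h d' • i = i) :
    Theta h i (d * d') = Theta h i d * Theta h i d' :=
  (Theta_isFMap h i).mul hd hd'

theorem Theta_pi (i : Idx (piHom h)) (d : ↥S) (hd : piHom h d • i = i) :
    piHom h (Theta h i d) = (r0 h i)⁻¹ * piHom h d * r0 h i := by
  have := piHom_isFMap h (stabSub h i) (fun x hx => Q_smul h i hx) (Theta h i) (Theta_isFMap h i) (r0 h i)⁻¹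
    (fun x hx => Theta_apply h i hx) d hd
  rwa [inv_inv] at this

theorem Theta_zeta (i : Idx (piHom h)) (z : ZQ Q) :
    Theta h i ((modData h).ζ z) = (modData h).ζ ((modData h).act (r0 h i)⁻¹ z) := by
  have hx : (((modData h).ζ z : ↥S) : Ω) ∈ Q := (z : ↥Q).2
  rw [Theta_apply h i hx]
  apply Subtype.ext
  rfl

/-- The cocycle. -/
noncomputable def coc : Coc (piHom h) (secOf (piHom h) (r0 h)) := cocOf (Theta_mul h) (Theta_pi h)

theorem coc_compatM : CompatM (modData h) (coc h) := cocOf_compatM (modData h) _ _ (Theta_zeta h)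

theorem sec_mk (i : Idx (piHom h)) :
    (QuotientGroup.mk (secOf (piHom h) (r0 h) i) : Idx (piHom h)) = i := secOf_mk (piHom h) (r0 h) (r0_mk h) i


theorem piHom_range_eq : (piHom h).range = (autInducedBy S Q).subgroupOf (F.autGroup Q) := by
  ext a
  constructor
  · rintro ⟨s, rfl⟩
    rw [Subgroup.mem_subgroupOf]
    exact normalizerMonoidHom_mem_autInducedBy s.2 (h.le_normalizer s.2)
  · intro ha
    rw [Subgroup.mem_subgroupOf] at ha
    obtain ⟨g, hgS, hgN, hg⟩ := (mem_autInducedBy_iff' S Q _).mp ha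
    refine ⟨⟨g, hgS⟩, ?_⟩
    apply Subtype.ext
    rw [hg]
    rfl

theorem not_dvd_card_idx : ¬ p ∣ Nat.card (Idx (piHom h)) := by
  obtain ⟨-, R, hR⟩ := h.fullyAutomized
  rw [← piHom_range_eq h] at hR
  have := R.not_dvd_index
  rw [hR, Subgroup.index_eq_card] at this
  exact this

theorem card_coprime : (Nat.card (Idx (piHom h))).Coprime (Nat.card (ZQ Q)) := by
  have hp : p.Prime := Fact.out
  have hZ : IsPGroup p (ZQ Q) := by
    have hQ : IsPGroup p ↥Q := h.pS.to_le h.le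
    exact hQ.to_subgroup _
  obtain ⟨n, hn⟩ := hZ.exists_card_eq
  rw [hn]
  apply Nat.Coprime.pow_right
  exact ((Nat.Prime.coprime_iff_not_dvd hp).mpr (not_dvd_card_idx h)).symm

/-- The map `x ↦ c(x, i)` is an `F`-map on the stabilizer of `i`, extending `(r i)⁻¹`. -/
theorem coc_isFMap (i : Idx (piHom h)) : IsFMap F (stabSub h i) (fun x => (coc h).c x i) := by
  set u := uOf (piHom h) i with hu
  set b := bOf (piHom h) i with hb
  have h1 : IsFMap F (stabSub h i) (fun x => u⁻¹ * x * (u⁻¹)⁻¹) := isFMap_conj F _ u⁻¹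
  have hmaps : ∀ x ∈ stabSub h i, u⁻¹ * x * (u⁻¹)⁻¹ ∈ stabSub h b := by
    intro x hx
    have := dOf_smul (piHom h) x i
    rw [dOf_of_stab hx] at this
    rw [inv_inv]
    exact this
  have h2 := h1.comp (Theta_isFMap h b) hmaps
  refine h2.congr (fun x hx => ?_)
  show Theta h b (u⁻¹ * x * (u⁻¹)⁻¹) = Theta h (bOf (piHom h) i) (dOf (piHom h) x i)
  rw [dOf_of_stab hx, inv_inv]

theorem coc_apply (i : Idx (piHom h)) {x : ↥S} (hx : (x : Ω) ∈ Q) :
    (coc h).c x i = applyQ h (secOf (piHom h) (r0 h) i)⁻¹ hx := by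
  set u := uOf (piHom h) i with hu
  set b := bOf (piHom h) i with hb
  have hxi : piHom h x • i = i := Q_smul h i hx
  have e1 : (coc h).c x i = Theta h b (u⁻¹ * x * u) := by
    show Theta h (bOf (piHom h) i) (dOf (piHom h) x i) = _
    rw [dOf_of_stab hxi]
  have hc : ((u⁻¹ * x * u : ↥S) : Ω) ∈ Q := by
    have := conj_mem_Q h u⁻¹ hx
    rwa [inv_inv] at this
  rw [e1, Theta_apply h b hc]
  have e2 : (secOf (piHom h) (r0 h) i)⁻¹ = (r0 h b)⁻¹ * piHom h u⁻¹ := by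
    unfold secOf
    rw [mul_inv_rev, map_inv]
  rw [e2, applyQ_mul]
  apply applyQ_congr
  rw [applyQ_piHom, inv_inv]


/-- The local condition for the existence of intertwiners. -/
theorem exists_local (a : ↥(F.autGroup Q)) (N : Subgroup ↥S) (hQN : ∀ x : ↥S, (x : Ω) ∈ Q → x ∈ N)
    (θ : ↥S → ↥S) (hθ : IsFMap F N θ) (hθQ : ∀ (x : ↥S) (hx : (x : Ω) ∈ Q), θ x = applyQ h a hx)
    (i : Idx (piHom h)) :
    ∃ y : ↥S, piHom h y = (secOf (piHom h) (r0 h) (a • i))⁻¹ * a * secOf (piHom h) (r0 h) i ∧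
      ∀ x ∈ N, piHom h x • i = i → y * (coc h).c x i * y⁻¹ = (coc h).c (θ x) (a • i) := by
  set r := secOf (piHom h) (r0 h) with hr
  set i' := a • i with hi'
  have hy₀ : ∃ y₀ : ↥S, piHom h y₀ = (r i')⁻¹ * a * r i := by
    have e : (QuotientGroup.mk (r i') : Idx (piHom h)) = QuotientGroup.mk (a * r i) := by
      rw [hr, sec_mk]
      show i' = a • (QuotientGroup.mk (secOf (piHom h) (r0 h) i) : Idx (piHom h))
      rw [sec_mk]
    obtain ⟨y₀, hy₀⟩ := QuotientGroup.eq.mp e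
    exact ⟨y₀, by rw [hy₀, mul_assoc]⟩
  obtain ⟨y₀, hy₀⟩ := hy₀
  set Ni : Subgroup ↥S := N ⊓ stabSub h i with hNi
  have hQNi : ∀ x : ↥S, (x : Ω) ∈ Q → x ∈ Ni := fun x hx => ⟨hQN x hx, Q_smul h i hx⟩
  have hθπ := piHom_isFMap h N hQN θ hθ a hθQ
  have hci := coc_isFMap h i
  have h3 : IsFMap F Ni (fun x => y₀ * (coc h).c x i * y₀⁻¹) :=
    (hci.mono inf_le_right).comp (isFMap_conj F ⊤ y₀) (fun _ _ => Subgroup.mem_top _)
  have hmaps : ∀ x ∈ Ni, θ x ∈ stabSub h i' := by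
    intro x hx
    rw [mem_stabSub, hθπ x hx.1, hi', ← mul_smul, inv_mul_cancel_right, mul_smul, (mem_stabSub h i x).mp hx.2]
  have h2 : IsFMap F Ni (fun x => (coc h).c (θ x) i') := (hθ.mono inf_le_left).comp (coc_isFMap h i') hmaps
  have he : ∀ x : ↥S, (x : Ω) ∈ Q → y₀ * (coc h).c x i * y₀⁻¹ = (coc h).c (θ x) i' := by
    intro x hx
    rw [coc_apply h i hx, hθQ x hx, coc_apply h i' (applyQ_mem h a hx)]
    have e1 : y₀ * applyQ h (r i)⁻¹ hx * y₀⁻¹ = applyQ h (piHom h y₀ * (r i)⁻¹) hx := rfl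
    have e2 : applyQ h (r i')⁻¹ (applyQ_mem h a hx) = applyQ h ((r i')⁻¹ * a) hx := rfl
    rw [e1, e2, hy₀]
    congr 1
    group
  obtain ⟨z, hz⟩ := exists_center_conj' h Ni hQNi _ _ h3 h2 he
  set ζz := zetaHom h z with hζz
  have hζπ : piHom h ζz = 1 := (modData h).pi_zeta z
  have hζi : ζz ∈ stabSub h i := by
    rw [mem_stabSub, hζπ, one_smul]
  refine ⟨y₀ * (coc h).c ζz i, ?_, ?_⟩
  · rw [map_mul, (coc h).pi, hζπ, one_smul, hy₀, ← hr]
    group
  · intro x hxN hxi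
    have hxNi : x ∈ Ni := ⟨hxN, hxi⟩
    have e := hz x hxNi
    have e3 : (coc h).c (ζz * x * ζz⁻¹) i = (coc h).c ζz i * (coc h).c x i * ((coc h).c ζz i)⁻¹ := by
      have m1 := hci.mul (x := ζz * x) (y := ζz⁻¹) ((stabSub h i).mul_mem hζi hxi) ((stabSub h i).inv_mem hζi)
      have m2 := hci.mul (x := ζz) (y := x) hζi hxi
      have m3 := hci.inv (x := ζz) hζi
      rw [m1, m2, m3]
    show y₀ * (coc h).c ζz i * (coc h).c x i * (y₀ * (coc h).c ζz i)⁻¹ = (coc h).c (θ x) i'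
    have e' : (coc h).c (θ x) i' = y₀ * (coc h).c (ζz * x * ζz⁻¹) i * y₀⁻¹ := e
    rw [e', e3]
    group

/-- The model. -/
abbrev Mdl : Type _ := GG (secOf (piHom h) (r0 h)) (modData h)

/-- The embedding of `S` in the model. -/
noncomputable def mIota : ↥S →* Mdl h := iota (modData h) (coc h)

/-- The projection of the model onto `Aut_F(Q)`. -/
noncomputable def mRho : Mdl h →* ↥(F.autGroup Q) := rho (modData h)

/-- Claim R: every `F`-map on a subgroup containing `Q` is induced by an element of the model. -/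
theorem exists_lift (a : ↥(F.autGroup Q)) (N : Subgroup ↥S) (hQN : ∀ x : ↥S, (x : Ω) ∈ Q → x ∈ N)
    (θ : ↥S → ↥S) (hθ : IsFMap F N θ) (hθQ : ∀ (x : ↥S) (hx : (x : Ω) ∈ Q), θ x = applyQ h a hx) :
    ∃ g : Mdl h, mRho h g = a ∧ ∀ x ∈ N, g * mIota h x * g⁻¹ = mIota h (θ x) := by
  obtain ⟨w, hwa, hw⟩ := exists_intertwiner (coc h) a N θ (fun x hx y hy => hθ.mul hx hy)
    (piHom_isFMap h N hQN θ hθ a hθQ) (exists_local h a N hQN θ hθ hθQ)
  refine ⟨QuotientGroup.mk w, hwa, fun x hx => ?_⟩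
  rw [mul_inv_eq_iff_eq_mul]
  show (QuotientGroup.mk w : Mdl h) * QuotientGroup.mk (sigmaE (coc h) x) =
    QuotientGroup.mk (sigmaE (coc h) (θ x)) * QuotientGroup.mk w
  rw [← QuotientGroup.mk_mul, ← QuotientGroup.mk_mul, hw x hx]

end Construction

end Cfsg.Agent.Lib.Helper26.ModelThm
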