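import Cfsg.Agent.Lib.Helper26.ModelA

/-!
Induced extensions: the comparison homomorphism into any extension carrying compatible data.
-/

set_option autoImplicit false
set_option linter.unusedSectionVars false
set_option linter.unusedVariables false

namespace Cfsg.Agent.Lib.Helper26.IndExt

variable {S A Z : Type*} [Group S] [Group A] [CommGroup Z]

/-- A group `G` over `A` receiving `S`, with lifts `γ` of the section `r` compatible with the cocycle. -/
structure Target {π : S →* A} {r : Idx π → A} (D : ModData π Z) (C : Coc π r) (G : Type*) [Group G] where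
  ρ' : G →* A
  ι' : S →* G
  rho_iota : ∀ s, ρ' (ι' s) = π s
  ker : ∀ g, ρ' g = 1 → ∃ z, g = ι' (D.ζ z)
  conj : ∀ g z, g * ι' (D.ζ z) * g⁻¹ = ι' (D.ζ (D.act (ρ' g) z))
  γ : Idx π → G
  rho_gamma : ∀ i, ρ' (γ i) = r i
  gamma_coc : ∀ s i, (γ (π s • i))⁻¹ * ι' s * γ i = ι' (C.c s i)
  inj : Function.Injective ι'

section Comparison

variable {π : S →* A} {r : Idx π → A} {D : ModData π Z} {C : Coc π r} {G : Type*} [Group G]
  (T : Target D C G)

open Classical in
/-- The inverse of `ι' ∘ ζ`, extended by `1`. -/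
noncomputable def Target.zG (g : G) : Z :=
  if h : ∃ z, g = T.ι' (D.ζ z) then Classical.choose h else 1

theorem Target.iota_zG {g : G} (hg : T.ρ' g = 1) : T.ι' (D.ζ (T.zG g)) = g := by
  have h := T.ker g hg
  unfold Target.zG
  rw [dif_pos h]
  exact (Classical.choose_spec h).symm

theorem Target.rho_iota_zeta (z : Z) : T.ρ' (T.ι' (D.ζ z)) = 1 := by
  rw [T.rho_iota, D.pi_zeta]

theorem Target.zG_iota (z : Z) : T.zG (T.ι' (D.ζ z)) = z := by
  have := T.iota_zG (T.rho_iota_zeta z)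
  exact D.inj (T.inj this)

theorem Target.zG_one : T.zG 1 = 1 := by
  have := T.zG_iota 1
  rwa [map_one, map_one] at this

theorem Target.zG_mul {g g' : G} (hg : T.ρ' g = 1) (hg' : T.ρ' g' = 1) : T.zG (g * g') = T.zG g * T.zG g' := by
  apply D.inj
  apply T.inj
  rw [map_mul, map_mul, T.iota_zG hg, T.iota_zG hg', T.iota_zG (by rw [map_mul, hg, hg', one_mul])]

theorem Target.zG_inv {g : G} (hg : T.ρ' g = 1) : T.zG g⁻¹ = (T.zG g)⁻¹ := by
  have hg' : T.ρ' g⁻¹ = 1 := by rw [map_inv, hg, inv_one]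
  have := T.zG_mul hg' hg
  rw [inv_mul_cancel, T.zG_one] at this
  exact eq_inv_of_mul_eq_one_left this.symm

theorem Target.zG_conj (k : G) {g : G} (hg : T.ρ' g = 1) : T.zG (k * g * k⁻¹) = D.act (T.ρ' k) (T.zG g) := by
  apply D.inj
  apply T.inj
  rw [← T.conj, T.iota_zG hg, T.iota_zG]
  rw [map_mul, map_mul, hg, mul_one, map_inv, mul_inv_cancel]

/-- The elements `x_j(w)`. -/
def Target.xw (w : Ehat π r) (j : Idx π) : G :=
  T.γ j * T.ι' ((w : W π).left j) * (T.γ ((w : W π).right⁻¹ • j))⁻¹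

theorem Target.rho_xw (w : Ehat π r) (j : Idx π) : T.ρ' (T.xw w j) = (w : W π).right := by
  unfold Target.xw
  rw [map_mul, map_mul, map_inv, T.rho_gamma, T.rho_gamma, T.rho_iota, w.2 j]
  group

theorem Target.xw_mul (w w' : Ehat π r) (j : Idx π) :
    T.xw (w * w') j = T.xw w j * T.xw w' ((w : W π).right⁻¹ • j) := by
  unfold Target.xw
  simp only [Subgroup.coe_mul, SemidirectProduct.mul_left, SemidirectProduct.mul_right, Pi.mul_apply,
    shiftHom_apply, map_mul, mul_inv_rev, mul_smul]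
  group

end Comparison


section Dev

variable [Finite A] {π : S →* A} {r : Idx π → A} {D : ModData π Z} {C : Coc π r} {G : Type*} [Group G]
  (T : Target D C G)

set_option warn.classDefReducibility false

attribute [local instance] fintypeIdx

/-- The deviation of `g` from the average of the `x_j(w)`. -/
noncomputable def Target.dev (w : Ehat π r) (g : G) : Z := ∏ j, T.zG (T.xw w j * g⁻¹)

theorem Target.rho_xw_mul_inv (w : Ehat π r) (j : Idx π) {g : G} (hg : T.ρ' g = (w : W π).right) :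
    T.ρ' (T.xw w j * g⁻¹) = 1 := by
  rw [map_mul, map_inv, T.rho_xw, hg, mul_inv_cancel]

theorem Target.dev_mul (w w' : Ehat π r) (g g' : G) (hg : T.ρ' g = (w : W π).right)
    (hg' : T.ρ' g' = (w' : W π).right) :
    T.dev (w * w') (g * g') = T.dev w g * D.act (T.ρ' g) (T.dev w' g') := by
  unfold Target.dev
  rw [map_prod]
  set a := (w : W π).right with ha
  rw [← Equiv.prod_comp (MulAction.toPerm a⁻¹ : Idx π ≃ Idx π)
    (fun j => D.act (T.ρ' g) (T.zG (T.xw w' j * g'⁻¹)))]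
  rw [← Finset.prod_mul_distrib]
  apply Finset.prod_congr rfl
  intro j _
  simp only [MulAction.toPerm_apply]
  have e : T.xw (w * w') j * (g * g')⁻¹ =
      (T.xw w j * g⁻¹) * (g * (T.xw w' (a⁻¹ • j) * g'⁻¹) * g⁻¹) := by
    rw [T.xw_mul, ← ha]
    group
  rw [e, T.zG_mul (T.rho_xw_mul_inv w j hg), T.zG_conj g (T.rho_xw_mul_inv w' _ hg')]
  rw [map_mul, map_mul, map_inv, T.rho_xw_mul_inv w' _ hg', mul_one, mul_inv_cancel]

theorem Target.dev_zeta (w : Ehat π r) (g : G) (hg : T.ρ' g = (w : W π).right) (τ : Z) :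
    T.dev w (T.ι' (D.ζ τ) * g) = T.dev w g * (τ ^ Nat.card (Idx π))⁻¹ := by
  unfold Target.dev
  have : ∀ j ∈ (Finset.univ : Finset (Idx π)),
      T.zG (T.xw w j * (T.ι' (D.ζ τ) * g)⁻¹) = T.zG (T.xw w j * g⁻¹) * τ⁻¹ := by
    intro j _
    have e : T.xw w j * (T.ι' (D.ζ τ) * g)⁻¹ = (T.xw w j * g⁻¹) * (T.ι' (D.ζ τ))⁻¹ := by group
    rw [e, T.zG_mul (T.rho_xw_mul_inv w j hg), T.zG_inv (T.rho_iota_zeta τ), T.zG_iota]
    rw [map_inv, T.rho_iota_zeta, inv_one]
  rw [Finset.prod_congr rfl this, Finset.prod_mul_distrib, Finset.prod_const, Finset.card_univ,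
    Nat.card_eq_fintype_card, inv_pow]

theorem Target.exists_dev_eq_one [Finite Z] (hcop : (Nat.card (Idx π)).Coprime (Nat.card Z)) (w : Ehat π r) :
    ∃ g : G, T.ρ' g = (w : W π).right ∧ T.dev w g = 1 := by
  set g₀ := T.xw w (QuotientGroup.mk 1 : Idx π) with hg₀
  have hg₀ρ : T.ρ' g₀ = (w : W π).right := T.rho_xw w _
  obtain ⟨τ, hτ⟩ := (powCoprime hcop.symm).surjective (T.dev w g₀)
  refine ⟨T.ι' (D.ζ τ) * g₀, ?_, ?_⟩
  · rw [map_mul, T.rho_iota_zeta, one_mul, hg₀ρ]
  · rw [T.dev_zeta w g₀ hg₀ρ, ← hτ]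
    simp [powCoprime]

theorem Target.dev_unique [Finite Z] (hcop : (Nat.card (Idx π)).Coprime (Nat.card Z)) (w : Ehat π r)
    (g g' : G) (hg : T.ρ' g = (w : W π).right) (hg' : T.ρ' g' = (w : W π).right)
    (hd : T.dev w g = 1) (hd' : T.dev w g' = 1) : g = g' := by
  have h1 : T.ρ' (g' * g⁻¹) = 1 := by rw [map_mul, map_inv, hg, hg', mul_inv_cancel]
  obtain ⟨τ, hτ⟩ := T.ker _ h1
  have e : g' = T.ι' (D.ζ τ) * g := by rw [← hτ]; group
  rw [e, T.dev_zeta w g hg, hd, one_mul, inv_eq_one] at hd'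
  have hτ1 : τ = 1 := by
    apply (powCoprime hcop.symm).injective
    show τ ^ Nat.card (Idx π) = 1 ^ Nat.card (Idx π)
    rw [hd', one_pow]
  rw [e, hτ1, map_one, map_one, one_mul]

/-- The comparison map on `Ehat`. -/
noncomputable def Target.Phi0 [Finite Z] (hcop : (Nat.card (Idx π)).Coprime (Nat.card Z)) (w : Ehat π r) : G :=
  Classical.choose (T.exists_dev_eq_one hcop w)

theorem Target.rho_Phi0 [Finite Z] (hcop : (Nat.card (Idx π)).Coprime (Nat.card Z)) (w : Ehat π r) :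
    T.ρ' (T.Phi0 hcop w) = (w : W π).right :=
  (Classical.choose_spec (T.exists_dev_eq_one hcop w)).1

theorem Target.dev_Phi0 [Finite Z] (hcop : (Nat.card (Idx π)).Coprime (Nat.card Z)) (w : Ehat π r) :
    T.dev w (T.Phi0 hcop w) = 1 :=
  (Classical.choose_spec (T.exists_dev_eq_one hcop w)).2

theorem Target.Phi0_eq [Finite Z] (hcop : (Nat.card (Idx π)).Coprime (Nat.card Z)) (w : Ehat π r) (g : G)
    (hg : T.ρ' g = (w : W π).right) (hd : T.dev w g = 1) : T.Phi0 hcop w = g :=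
  T.dev_unique hcop w _ _ (T.rho_Phi0 hcop w) hg (T.dev_Phi0 hcop w) hd

theorem Target.Phi0_mul [Finite Z] (hcop : (Nat.card (Idx π)).Coprime (Nat.card Z)) (w w' : Ehat π r) :
    T.Phi0 hcop (w * w') = T.Phi0 hcop w * T.Phi0 hcop w' := by
  apply T.Phi0_eq hcop
  · rw [map_mul, T.rho_Phi0, T.rho_Phi0]
    rfl
  · rw [T.dev_mul w w' _ _ (T.rho_Phi0 hcop w) (T.rho_Phi0 hcop w'), T.dev_Phi0, T.dev_Phi0, map_one, mul_one]

/-- The comparison homomorphism on `Ehat`. -/
noncomputable def Target.PhiE [Finite Z] (hcop : (Nat.card (Idx π)).Coprime (Nat.card Z)) : Ehat π r →* G :=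
  MonoidHom.mk' (T.Phi0 hcop) (T.Phi0_mul hcop)

theorem Target.PhiE_apply [Finite Z] (hcop : (Nat.card (Idx π)).Coprime (Nat.card Z)) (w : Ehat π r) :
    T.PhiE hcop w = T.Phi0 hcop w := rfl

theorem Target.PhiE_sigma [Finite Z] (hcop : (Nat.card (Idx π)).Coprime (Nat.card Z)) (s : S) :
    T.PhiE hcop (sigmaE C s) = T.ι' s := by
  apply T.Phi0_eq hcop
  · rw [T.rho_iota]
    rfl
  · unfold Target.dev
    apply Finset.prod_eq_one
    intro j _
    have e : T.xw (sigmaE C s) j = T.ι' s := by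
      unfold Target.xw
      rw [sigmaE_coe, sigmaW_left, sigmaW_right]
      have := T.gamma_coc s ((π s)⁻¹ • j)
      rw [smul_inv_smul] at this
      rw [← this]
      group
    rw [e, mul_inv_cancel, T.zG_one]

theorem Target.PhiE_of_mem_Ksub [Finite Z] (hcop : (Nat.card (Idx π)).Coprime (Nat.card Z)) (w : Ehat π r)
    (hw : w ∈ Ksub r D) : T.PhiE hcop w = 1 := by
  obtain ⟨hk, hν⟩ := (mem_Ksub D w).mp hw
  have hw1 : (w : W π).right = 1 := (mem_kerE w).mp hk
  apply T.Phi0_eq hcop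
  · rw [map_one, hw1]
  · rw [← hν]
    show ∏ j, T.zG (T.xw w j * 1⁻¹) = ∏ j, D.act (r j) (D.zOf ((w : W π).left j))
    apply Finset.prod_congr rfl
    intro j _
    have hπ : π ((w : W π).left j) = 1 := pi_left_of_mem_kerE hk j
    have e : T.xw w j * 1⁻¹ = T.γ j * T.ι' (D.ζ (D.zOf ((w : W π).left j))) * (T.γ j)⁻¹ := by
      unfold Target.xw
      rw [hw1, inv_one, one_smul, inv_one, mul_one, D.zeta_zOf hπ]
    rw [e, T.conj, T.zG_iota, T.rho_gamma]


/-- The comparison homomorphism on the induced extension. -/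
noncomputable def Target.Phi [Finite Z] (hcop : (Nat.card (Idx π)).Coprime (Nat.card Z)) : GG r D →* G :=
  QuotientGroup.lift (Ksub r D) (T.PhiE hcop) (fun w hw => T.PhiE_of_mem_Ksub hcop w hw)

theorem Target.Phi_mk [Finite Z] (hcop : (Nat.card (Idx π)).Coprime (Nat.card Z)) (w : Ehat π r) :
    T.Phi hcop (QuotientGroup.mk w : GG r D) = T.PhiE hcop w := rfl

theorem Target.rho_Phi [Finite Z] (hcop : (Nat.card (Idx π)).Coprime (Nat.card Z)) (x : GG r D) :
    T.ρ' (T.Phi hcop x) = rho D x := by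
  obtain ⟨w, rfl⟩ := QuotientGroup.mk_surjective x
  rw [T.Phi_mk, T.PhiE_apply, T.rho_Phi0]
  rfl

theorem Target.Phi_iota [Finite Z] (hcop : (Nat.card (Idx π)).Coprime (Nat.card Z)) (s : S) :
    T.Phi hcop (iota D C s) = T.ι' s := by
  rw [iota_apply, T.Phi_mk, T.PhiE_sigma]

theorem Target.Phi_bijective [Finite Z] (hM : CompatM D C) (hcop : (Nat.card (Idx π)).Coprime (Nat.card Z))
    (hr : ∀ i : Idx π, (QuotientGroup.mk (r i) : Idx π) = i) : Function.Bijective (T.Phi hcop) := by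
  constructor
  · rw [injective_iff_map_eq_one]
    intro x hx
    have h1 : rho D x = 1 := by rw [← T.rho_Phi hcop, hx, map_one]
    obtain ⟨z, rfl⟩ := exists_zeta_of_rho_eq_one D C hM hcop x h1
    rw [T.Phi_iota] at hx
    have h2 : D.ζ z = 1 := by
      apply T.inj
      rw [hx, map_one]
    have h3 : z = 1 := by
      apply D.inj
      rw [h2, map_one]
    rw [h3, map_one, map_one]
  · intro g
    obtain ⟨x, hx⟩ := rho_surjective D hr (T.ρ' g)
    have h1 : T.ρ' (g * (T.Phi hcop x)⁻¹) = 1 := by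
      rw [map_mul, map_inv, T.rho_Phi, hx, mul_inv_cancel]
    obtain ⟨z, hz⟩ := T.ker _ h1
    refine ⟨iota D C (D.ζ z) * x, ?_⟩
    rw [map_mul, T.Phi_iota, ← hz]
    group

theorem Target.exists_iso [Finite Z] (hM : CompatM D C) (hcop : (Nat.card (Idx π)).Coprime (Nat.card Z))
    (hr : ∀ i : Idx π, (QuotientGroup.mk (r i) : Idx π) = i) :
    ∃ Φ : GG r D ≃* G, ∀ s, Φ (iota D C s) = T.ι' s :=
  ⟨MulEquiv.ofBijective (T.Phi hcop) (T.Phi_bijective hM hcop hr), fun s => T.Phi_iota hcop s⟩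

end Dev

end Cfsg.Agent.Lib.Helper26.IndExt
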