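import Cfsg.Agent.Lib.Helper26.ModelE
import Cfsg.Agent.Lib.Helper26.ModelF

/-!
Model theorem, uniqueness: a group realizing the system in which `ι(Q)` is normal and self-centralizing is
isomorphic to the constructed model.
-/

set_option autoImplicit false
set_option linter.unusedSectionVars false
set_option linter.unusedVariables false

namespace Cfsg.Agent.Lib.Helper26.ModelThm

open Cfsg Cfsg.FusionSystem Cfsg.Agent.Lib.Helper26 IndExt
open scoped IsMulCommutative

variable {Ω : Type*} [Group Ω] {S : Subgroup Ω} {p : ℕ} {F : FusionSystem S} {Q : Subgroup Ω}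
  {G : Type*} [Group G] {ι : ↥S →* G}

section Realized

theorem isFMap_of_conj (hreal : F.IsRealizedBy ι) (N : Subgroup ↥S) (θ : ↥S → ↥S) (g : G)
    (hθ : ∀ x ∈ N, ι (θ x) = g * ι x * g⁻¹) : IsFMap F N θ := by
  have hinj := hreal.1
  have hmul : ∀ x ∈ N, ∀ y ∈ N, θ (x * y) = θ x * θ y := by
    intro x hx y hy
    apply hinj
    rw [map_mul, hθ _ (N.mul_mem hx hy), hθ x hx, hθ y hy, map_mul]
    group
  have hone : θ 1 = 1 := by
    have := hmul 1 N.one_mem 1 N.one_mem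
    rw [mul_one] at this
    exact (mul_eq_left (a := θ 1) (b := θ 1)).mp this.symm
  have hmemN : ∀ x : ↥(N.map S.subtype), (⟨x, map_subtype_le N x.2⟩ : ↥S) ∈ N := fun x =>
    (mem_map_subtype_iff N _).mp x.2
  let φ : ↥(N.map S.subtype) →* Ω :=
    { toFun := fun x => (θ ⟨x, map_subtype_le N x.2⟩ : Ω)
      map_one' := by
        show ((θ 1 : ↥S) : Ω) = 1
        rw [hone]
        rfl
      map_mul' := by
        intro x y
        show ((θ (⟨x, map_subtype_le N x.2⟩ * ⟨y, map_subtype_le N y.2⟩) : ↥S) : Ω) = _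
        rw [hmul _ (hmemN x) _ (hmemN y)]
        rfl }
  have hφS : ∀ x : ↥(N.map S.subtype), φ x ∈ S := fun x => (θ ⟨x, map_subtype_le N x.2⟩).2
  have hφF : φ ∈ F.Hom (N.map S.subtype) :=
    (hreal.2 (N.map S.subtype) (map_subtype_le N) φ hφS).mpr ⟨g, fun x => hθ _ (hmemN x)⟩
  exact ⟨φ, hφF, fun x hx => rfl⟩

theorem exists_conj_of_isFMap (hreal : F.IsRealizedBy ι) {N : Subgroup ↥S} {θ : ↥S → ↥S}
    (hθ : IsFMap F N θ) : ∃ g : G, ∀ x ∈ N, ι (θ x) = g * ι x * g⁻¹ := by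
  obtain ⟨φ, hφF, hφ⟩ := hθ
  obtain ⟨g, hg⟩ := (hreal.2 _ (map_subtype_le N) φ (fun x => hom_apply_mem F hφF x)).mp hφF
  refine ⟨g, fun x hx => ?_⟩
  have := hg ⟨x, Subgroup.mem_map_of_mem S.subtype hx⟩
  rw [← this]
  congr 1
  apply Subtype.ext
  exact (hφ x hx).symm

end Realized

section RhoG

variable (h : Setup p F Q) (hreal : F.IsRealizedBy ι) (hN : ((Q.subgroupOf S).map ι).Normal)

/-- `Q ≃* ι(Q)`. -/
noncomputable def eQ : ↥Q ≃* ↥((Q.subgroupOf S).map ι) :=
  (Subgroup.subgroupOfEquivOfLe h.le).symm.trans ((Q.subgroupOf S).equivMapOfInjective ι hreal.1)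

theorem eQ_coe (x : ↥Q) : ((eQ h hreal x : ↥((Q.subgroupOf S).map ι)) : G) = ι ⟨x, h.le x.2⟩ := rfl

/-- The conjugation action of `G` on `Q`. -/
noncomputable def conjQ : G →* MulAut ↥Q :=
  (MulAut.congr (eQ h hreal).symm).toMonoidHom.comp (@MulAut.conjNormal G _ _ hN)

theorem conjQ_apply (g : G) (x : ↥Q) :
    ι ⟨(conjQ h hreal hN g x : ↥Q), h.le (conjQ h hreal hN g x).2⟩ = g * ι ⟨x, h.le x.2⟩ * g⁻¹ := by
  have e1 : conjQ h hreal hN g x = (eQ h hreal).symm (@MulAut.conjNormal G _ _ hN g (eQ h hreal x)) := rfl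
  have e2 : eQ h hreal (conjQ h hreal hN g x) = @MulAut.conjNormal G _ _ hN g (eQ h hreal x) := by
    rw [e1, MulEquiv.apply_symm_apply]
  have e3 : ((eQ h hreal (conjQ h hreal hN g x) : ↥((Q.subgroupOf S).map ι)) : G) =
      ((@MulAut.conjNormal G _ _ hN g (eQ h hreal x) : ↥((Q.subgroupOf S).map ι)) : G) := by rw [e2]
  rw [eQ_coe, @MulAut.conjNormal_apply G _ _ hN, eQ_coe] at e3
  exact e3

theorem conjQ_mem (g : G) : conjQ h hreal hN g ∈ F.autGroup Q := by
  rw [mem_autGroup_iff F h.le]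
  exact (hreal.2 Q h.le _ (fun x => h.le (conjQ h hreal hN g x).2)).mpr ⟨g, fun x => conjQ_apply h hreal hN g x⟩

/-- The projection of `G` onto `Aut_F(Q)`. -/
noncomputable def rhoG : G →* ↥(F.autGroup Q) :=
  (conjQ h hreal hN).codRestrict (F.autGroup Q) (conjQ_mem h hreal hN)

theorem rhoG_spec (g : G) {x : ↥S} (hx : (x : Ω) ∈ Q) :
    g * ι x * g⁻¹ = ι (applyQ h (rhoG h hreal hN g) hx) :=
  (conjQ_apply h hreal hN g ⟨x, hx⟩).symm

theorem aut_ext (a a' : ↥(F.autGroup Q))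
    (he : ∀ (x : ↥S) (hx : (x : Ω) ∈ Q), applyQ h a hx = applyQ h a' hx) : a = a' := by
  apply Subtype.ext
  ext x
  have := he ⟨x, h.le x.2⟩ x.2
  exact congrArg (fun s : ↥S => (s : Ω)) this

theorem rhoG_eq (g : G) (a : ↥(F.autGroup Q))
    (hg : ∀ (x : ↥S) (hx : (x : Ω) ∈ Q), g * ι x * g⁻¹ = ι (applyQ h a hx)) : rhoG h hreal hN g = a := by
  apply aut_ext h
  intro x hx
  apply hreal.1
  rw [← rhoG_spec h hreal hN g hx, hg x hx]

theorem rhoG_iota (s : ↥S) : rhoG h hreal hN (ι s) = piHom h s := by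
  apply rhoG_eq
  intro x hx
  rw [applyQ_piHom, map_mul, map_mul, map_inv]

end RhoG

section TargetSec

variable [Finite ↥S] [Finite ↥Q] [Fact p.Prime] (h : Setup p F Q) (hreal : F.IsRealizedBy ι)
  (hN : ((Q.subgroupOf S).map ι).Normal)

theorem rhoG_ker
    (hC : Subgroup.centralizer (((Q.subgroupOf S).map ι : Subgroup G) : Set G) ≤ (Q.subgroupOf S).map ι)
    (g : G) (hg : rhoG h hreal hN g = 1) : ∃ z : ZQ Q, g = ι ((modData h).ζ z) := by
  have hcomm : ∀ (x : ↥S) (hx : (x : Ω) ∈ Q), g * ι x * g⁻¹ = ι x := by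
    intro x hx
    rw [rhoG_spec h hreal hN g hx, hg, applyQ_one]
  have hgc : g ∈ Subgroup.centralizer (((Q.subgroupOf S).map ι : Subgroup G) : Set G) := by
    rw [Subgroup.mem_centralizer_iff]
    rintro _ ⟨x, hx, rfl⟩
    have := hcomm x hx
    calc ι x * g = (g * ι x * g⁻¹) * g := by rw [this]
      _ = g * ι x := by group
  obtain ⟨q, hq, rfl⟩ := hC hgc
  have hqQ : (q : Ω) ∈ Q := hq
  have hcen : (⟨q, hqQ⟩ : ↥Q) ∈ Subgroup.center ↥Q := by
    rw [Subgroup.mem_center_iff]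
    intro x
    have h1 := hcomm ⟨x, h.le x.2⟩ x.2
    rw [← map_inv, ← map_mul, ← map_mul] at h1
    have h2 := hreal.1 h1
    apply Subtype.ext
    have e : (q : Ω) * x * (q : Ω)⁻¹ = x := congrArg (fun s : ↥S => (s : Ω)) h2
    show (x : Ω) * q = q * x
    calc (x : Ω) * q = ((q : Ω) * x * (q : Ω)⁻¹) * q := by rw [e]
      _ = q * x := by group
  refine ⟨⟨⟨q, hqQ⟩, hcen⟩, ?_⟩
  congr 1

theorem rhoG_conj (g : G) (z : ZQ Q) :
    g * ι ((modData h).ζ z) * g⁻¹ = ι ((modData h).ζ ((modData h).act (rhoG h hreal hN g) z)) := by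
  have hx : (((modData h).ζ z : ↥S) : Ω) ∈ Q := (z : ↥Q).2
  rw [rhoG_spec h hreal hN g hx]
  congr 1

theorem exists_gam0 (i : Idx (piHom h)) :
    ∃ k : G, rhoG h hreal hN k = r0 h i ∧ ∀ d ∈ stabSub h i, k⁻¹ * ι d * k = ι (Theta h i d) := by
  obtain ⟨k, hk⟩ := exists_conj_of_isFMap hreal (Theta_isFMap h i)
  refine ⟨k⁻¹, ?_, fun d hd => by rw [inv_inv]; exact (hk d hd).symm⟩
  have : rhoG h hreal hN k = (r0 h i)⁻¹ := by
    apply rhoG_eq
    intro x hx
    rw [← hk x (Q_smul h i hx), Theta_apply h i hx]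
  rw [map_inv, this, inv_inv]

/-- Lifts of `r0` inducing the chosen extensions. -/
noncomputable def gam0 (i : Idx (piHom h)) : G := Classical.choose (exists_gam0 h hreal hN i)

theorem rhoG_gam0 (i : Idx (piHom h)) : rhoG h hreal hN (gam0 h hreal hN i) = r0 h i :=
  (Classical.choose_spec (exists_gam0 h hreal hN i)).1

theorem gam0_conj (i : Idx (piHom h)) (d : ↥S) (hd : d ∈ stabSub h i) :
    (gam0 h hreal hN i)⁻¹ * ι d * gam0 h hreal hN i = ι (Theta h i d) :=
  (Classical.choose_spec (exists_gam0 h hreal hN i)).2 d hd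

/-- Lifts of the section compatible with the cocycle. -/
noncomputable def gam (i : Idx (piHom h)) : G :=
  ι (uOf (piHom h) i) * gam0 h hreal hN (bOf (piHom h) i)

theorem rhoG_gam (i : Idx (piHom h)) : rhoG h hreal hN (gam h hreal hN i) = secOf (piHom h) (r0 h) i := by
  unfold gam secOf
  rw [map_mul, rhoG_iota, rhoG_gam0]

theorem gam_coc (s : ↥S) (i : Idx (piHom h)) :
    (gam h hreal hN (piHom h s • i))⁻¹ * ι s * gam h hreal hN i = ι ((coc h).c s i) := by
  unfold gam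
  rw [bOf_smul]
  have hd : dOf (piHom h) s i ∈ stabSub h (bOf (piHom h) i) := dOf_smul (piHom h) s i
  have e := gam0_conj h hreal hN (bOf (piHom h) i) _ hd
  have e2 : (coc h).c s i = Theta h (bOf (piHom h) i) (dOf (piHom h) s i) := rfl
  rw [e2, ← e]
  unfold dOf
  rw [map_mul, map_mul, map_inv]
  group

/-- The comparison data. -/
noncomputable def target
    (hC : Subgroup.centralizer (((Q.subgroupOf S).map ι : Subgroup G) : Set G) ≤ (Q.subgroupOf S).map ι) :
    Target (modData h) (coc h) G where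
  ρ' := rhoG h hreal hN
  ι' := ι
  rho_iota := rhoG_iota h hreal hN
  ker := rhoG_ker h hreal hN hC
  conj := rhoG_conj h hreal hN
  γ := gam h hreal hN
  rho_gamma := rhoG_gam h hreal hN
  gamma_coc := gam_coc h hreal hN
  inj := hreal.1

/-- A group realizing the system in which `ι(Q)` is normal and self-centralizing is the model. -/
theorem exists_iso_of_realized (hreal : F.IsRealizedBy ι) (hN : ((Q.subgroupOf S).map ι).Normal)
    (hC : Subgroup.centralizer (((Q.subgroupOf S).map ι : Subgroup G) : Set G) ≤ (Q.subgroupOf S).map ι) :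
    ∃ Φ : Mdl h ≃* G, ∀ s, Φ (mIota h s) = ι s :=
  (target h hreal hN hC).exists_iso (coc_compatM h) (card_coprime h) (sec_mk h)

end TargetSec

end Cfsg.Agent.Lib.Helper26.ModelThm
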