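import Cfsg.Agent.Lib.Helper26.ModelH
import Cfsg.Agent.Lib.Helper26.FSNormal
import Cfsg.Agent.Lib.Helper12.HallHigman
import Cfsg.Agent.Lib.Helper12.Cores
import Cfsg.Agent.Lib.Helper12.PPrimeP
import Cfsg.Agent.Lib.Helper24.PSolvable
import Cfsg.Agent.Lib.Helper25.PSolvableOfSolvable

/-!
S5292: a saturated fusion system is the fusion system of a `p`-solvable group iff it is constrained and
`Aut_F(O_p(F))` is `p`-solvable.
-/

set_option autoImplicit false
set_option linter.unusedSectionVars false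
set_option linter.unusedVariables false

namespace Cfsg.Agent.Lib.Helper26.ModelThm

open Cfsg Cfsg.FusionSystem Cfsg.Agent.Lib.Helper26 IndExt
open scoped IsMulCommutative Pointwise

section GroupLemma

variable {G : Type*} [Group G] [Finite G] {p : ℕ} [Fact p.Prime]

/-- A `p`-subgroup of `T K` (`T` Sylow, `K` normal) is conjugate into `T` by an element of `K`. -/
theorem exists_conj_into_sylow_mod (T : Sylow p G) (K : Subgroup G) [K.Normal] (P₁ : Subgroup G)
    (hP₁ : IsPGroup p P₁) (hle : P₁ ≤ (T : Subgroup G) ⊔ K) :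
    ∃ k ∈ K, ∀ x ∈ P₁, k * x * k⁻¹ ∈ (T : Subgroup G) := by
  set H : Subgroup G := (T : Subgroup G) ⊔ K with hH
  have hTH : (T : Subgroup G) ≤ H := le_sup_left
  let T' : Sylow p H := T.subtype hTH
  have hP₁' : IsPGroup p (P₁.subgroupOf H) := hP₁.comap_subtype
  obtain ⟨Q, hQ⟩ := hP₁'.exists_le_sylow
  obtain ⟨h, hh⟩ := MulAction.exists_smul_eq H Q T'
  have key : ∀ x ∈ P₁, (h : G) * x * (h : G)⁻¹ ∈ (T : Subgroup G) := by
    intro x hx
    have hxH : x ∈ H := hle hx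
    have h1 : (⟨x, hxH⟩ : H) ∈ (Q : Subgroup H) := hQ (Subgroup.mem_subgroupOf.mpr hx)
    have h2 : h * ⟨x, hxH⟩ * h⁻¹ ∈ ((h • Q : Sylow p H) : Subgroup H) := by
      rw [Sylow.coe_subgroup_smul]
      exact ⟨⟨x, hxH⟩, h1, rfl⟩
    rw [hh] at h2
    exact h2
  have hh' : (h : G) ∈ ((T : Subgroup G) ⊔ K : Subgroup G) := h.2
  rw [← SetLike.mem_coe, Subgroup.mul_normal, Set.mem_mul] at hh'
  obtain ⟨t, ht, k, hk, htk⟩ := hh'
  refine ⟨k, hk, fun x hx => ?_⟩
  have h1 := key x hx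
  rw [← htk] at h1
  have e : k * x * k⁻¹ = t⁻¹ * (t * k * x * (t * k)⁻¹) * t := by group
  rw [e]
  exact Subgroup.mul_mem _ (Subgroup.mul_mem _ (Subgroup.inv_mem _ ht) h1) ht

end GroupLemma

variable {Ω : Type*} [Group Ω] {S : Subgroup Ω} {p : ℕ} {F : FusionSystem S}

/-- Realization passes to the quotient by a normal subgroup meeting the Sylow subgroup trivially. -/
theorem realized_quotient [Fact p.Prime] {G : Type*} [Group G] [Finite G] (ι : ↥S →* G)
    (hreal : F.IsRealizedBy ι) (T : Sylow p G) (hT : (T : Subgroup G) = ι.range) (K : Subgroup G) [K.Normal]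
    (hK : ∀ a ∈ (T : Subgroup G), a ∈ K → a = 1) :
    F.IsRealizedBy ((QuotientGroup.mk' K).comp ι) := by
  obtain ⟨hinj, hreal⟩ := hreal
  constructor
  · rw [injective_iff_map_eq_one]
    intro s hs
    have h1 : ι s ∈ K := (QuotientGroup.eq_one_iff _).mp hs
    have h2 : ι s ∈ (T : Subgroup G) := by rw [hT]; exact ⟨s, rfl⟩
    have h3 := hK _ h2 h1
    exact (injective_iff_map_eq_one ι).mp hinj s h3
  · intro P hP φ hφS
    constructor
    · intro hφ
      obtain ⟨g, hg⟩ := (hreal P hP φ hφS).mp hφ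
      refine ⟨QuotientGroup.mk' K g, fun x => ?_⟩
      rw [MonoidHom.comp_apply, MonoidHom.comp_apply, hg x, map_mul, map_mul, map_inv]
    · rintro ⟨gb, hgb⟩
      obtain ⟨g, rfl⟩ := QuotientGroup.mk'_surjective K gb
      -- the subgroup g ι(P) g⁻¹
      set P₁ : Subgroup G := ((P.subgroupOf S).map ι).map (MulAut.conj g).toMonoidHom with hP₁def
      have hP₁p : IsPGroup p P₁ := by
        have h1 : IsPGroup p ((P.subgroupOf S).map ι) := by
          apply IsPGroup.to_le (T.isPGroup')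
          rw [hT]
          rintro _ ⟨x, -, rfl⟩
          exact ⟨x, rfl⟩
        exact h1.map _
      have hP₁le : P₁ ≤ (T : Subgroup G) ⊔ K := by
        rintro _ ⟨_, ⟨x, hx, rfl⟩, rfl⟩
        have hx' : (x : Ω) ∈ P := hx
        have e := hgb ⟨x, hx'⟩
        rw [MonoidHom.comp_apply, MonoidHom.comp_apply, ← map_inv, ← map_mul, ← map_mul] at e
        have e2 : (ι ⟨φ ⟨x, hx'⟩, hφS _⟩)⁻¹ * (g * ι x * g⁻¹) ∈ K := by
          have := QuotientGroup.eq.mp e
          exact this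
        have e3 : g * ι x * g⁻¹ = ι ⟨φ ⟨x, hx'⟩, hφS _⟩ * ((ι ⟨φ ⟨x, hx'⟩, hφS _⟩)⁻¹ * (g * ι x * g⁻¹)) := by
          group
        show g * ι x * g⁻¹ ∈ (T : Subgroup G) ⊔ K
        rw [e3]
        apply Subgroup.mul_mem_sup _ e2
        rw [hT]
        exact ⟨_, rfl⟩
      obtain ⟨k, hk, hkP⟩ := exists_conj_into_sylow_mod T K P₁ hP₁p hP₁le
      apply (hreal P hP φ hφS).mpr
      refine ⟨k * g, fun x => ?_⟩
      have hx' : (⟨x, hP x.2⟩ : ↥S) ∈ P.subgroupOf S := Subgroup.mem_subgroupOf.mpr x.2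
      have hmem : g * ι ⟨x, hP x.2⟩ * g⁻¹ ∈ P₁ := ⟨_, ⟨_, hx', rfl⟩, rfl⟩
      have h1 : k * (g * ι ⟨x, hP x.2⟩ * g⁻¹) * k⁻¹ ∈ (T : Subgroup G) := hkP _ hmem
      have e := hgb x
      rw [MonoidHom.comp_apply, MonoidHom.comp_apply, ← map_inv, ← map_mul, ← map_mul] at e
      have e2 : (ι ⟨φ x, hφS x⟩)⁻¹ * (g * ι ⟨x, hP x.2⟩ * g⁻¹) ∈ K := QuotientGroup.eq.mp e
      -- a := ι(φ x), b := k (g ι x g⁻¹) k⁻¹, a⁻¹ b ∈ T ∩ K
      set a := ι ⟨φ x, hφS x⟩ with ha
      set c := g * ι ⟨x, hP x.2⟩ * g⁻¹ with hc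
      have haT : a ∈ (T : Subgroup G) := by rw [hT]; exact ⟨_, rfl⟩
      have h3 : a⁻¹ * (k * c * k⁻¹) ∈ K := by
        have h4 : c⁻¹ * (k * c * k⁻¹) ∈ K := by
          have h5 : c⁻¹ * k * c ∈ K := by
            have := (inferInstance : K.Normal).conj_mem k hk c⁻¹
            rwa [inv_inv] at this
          have e5 : c⁻¹ * (k * c * k⁻¹) = (c⁻¹ * k * c) * k⁻¹ := by group
          rw [e5]
          exact K.mul_mem h5 (K.inv_mem hk)
        have e6 : a⁻¹ * (k * c * k⁻¹) = (a⁻¹ * c) * (c⁻¹ * (k * c * k⁻¹)) := by group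
        rw [e6]
        exact K.mul_mem e2 h4
      have h6 : a⁻¹ * (k * c * k⁻¹) ∈ (T : Subgroup G) := Subgroup.mul_mem _ (Subgroup.inv_mem _ haT) h1
      have h7 := hK _ h6 h3
      have h8 : a = k * c * k⁻¹ := by
        have := inv_mul_eq_one.mp h7
        exact this
      rw [h8, hc]
      group

/-- A saturated system realized by a `p`-solvable group is constrained with `p`-solvable `Aut_F(O_p(F))`. -/
theorem constrained_of_pSolvable [Finite ↥S] [Fact p.Prime] (hS : IsPGroup p S) {G : Type*} [Group G]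
    [Finite G] (ι : ↥S →* G) (hsol : IsPSolvable p G) (hreal : F.IsRealizedBy ι) (T : Sylow p G)
    (hT : (T : Subgroup G) = ι.range) :
    F.IsConstrained p ∧ IsPSolvable p ↥(F.autGroup F.core) := by
  have hKn : (pPrimeCore p G).Normal := Cfsg.Agent.Lib.Helper24.pPrimeCore_normal' p
  set K := pPrimeCore p G with hKdef
  have hKT : K ⊓ (T : Subgroup G) = ⊥ :=
    Cfsg.Agent.Lib.Helper12.inf_eq_bot_of_coprime_of_isPGroup
      (Cfsg.Agent.Lib.Helper12.pPrimeCore_coprime (X := G) p) T.isPGroup'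
  have hK : ∀ a ∈ (T : Subgroup G), a ∈ K → a = 1 := by
    intro a haT haK
    have : a ∈ K ⊓ (T : Subgroup G) := ⟨haK, haT⟩
    rw [hKT] at this
    exact Subgroup.mem_bot.mp this
  have hreal' := realized_quotient ι hreal T hT K hK
  set ιb : ↥S →* G ⧸ K := (QuotientGroup.mk' K).comp ι with hιb
  have hsurj : Function.Surjective (QuotientGroup.mk' K) := QuotientGroup.mk'_surjective K
  have hsol' : IsPSolvable p (G ⧸ K) := Cfsg.Agent.Lib.Helper24.isPSolvable_of_surjective p _ hsurj hsol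
  have hO : pPrimeCore p (G ⧸ K) = ⊥ := Cfsg.Agent.Lib.Helper24.pPrimeCore_quotient_eq_bot' p
  have hcent := Cfsg.Agent.Lib.Helper12.centralizer_pCore_le_pCore p hsol' hO
  have hT' : ((T.mapSurjective hsurj : Sylow p (G ⧸ K)) : Subgroup (G ⧸ K)) = ιb.range := by
    rw [Sylow.coe_mapSurjective, hT]
    ext y
    constructor
    · rintro ⟨_, ⟨s, rfl⟩, rfl⟩
      exact ⟨s, rfl⟩
    · rintro ⟨s, rfl⟩
      exact ⟨ι s, ⟨s, rfl⟩, rfl⟩
  have hM : F.IsModel p (G ⧸ K) ιb := ⟨inferInstance, hreal', ⟨_, hT'⟩, hcent⟩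
  have hcon : F.IsConstrained p := constrained_of_model p F ιb hM
  refine ⟨hcon, ?_⟩
  obtain ⟨hsat, Q₀, hQ₀n, hQ₀c⟩ := hcon
  have hcore : F.IsNormal F.core := core_isNormal F
  have hQ₀le : Q₀ ≤ F.core := le_sSup hQ₀n
  have hcorec : F.IsCentric F.core := centric_of_le F hQ₀c hQ₀le hcore.1
  have h : Setup p F F.core := ⟨hS, hsat, hcore, hcorec⟩
  have hfinQ : Finite ↥F.core := finite_of_le h.le
  have hN := map_normal_of_isNormal hM hcore
  have hρ : Function.Surjective (rhoG h hreal' hN) := by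
    intro a
    obtain ⟨θ, hθ, hθQ⟩ := exists_extension h a (F.core.subgroupOf S)
      (fun s hs => piHom_conj_mem_range h a hs)
    obtain ⟨g, hg⟩ := exists_conj_of_isFMap hreal' hθ
    refine ⟨g, rhoG_eq h hreal' hN g a (fun x hx => ?_)⟩
    rw [← hg x hx, hθQ x hx hx]
  exact Cfsg.Agent.Lib.Helper24.isPSolvable_of_surjective p _ hρ hsol'

/-- A constrained system with `p`-solvable `Aut_F(O_p(F))` is realized by a `p`-solvable group. -/
theorem exists_pSolvable_of_constrained {Ω : Type*} [Group Ω] {S : Subgroup Ω} {F : FusionSystem S}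
    [Finite ↥S] [Fact p.Prime] (hS : IsPGroup p S)
    (hF : F.IsConstrained p) (hA : IsPSolvable p ↥(F.autGroup F.core)) :
    ∃ (hfin : Finite ↥F.core) (h : Setup p F F.core), Finite (Mdl h) ∧ IsPSolvable p (Mdl h) ∧
      F.IsRealizedBy (mIota h) ∧ ∃ T : Sylow p (Mdl h), (T : Subgroup (Mdl h)) = (mIota h).range := by
  obtain ⟨hsat, Q₀, hQ₀n, hQ₀c⟩ := hF
  have hcore : F.IsNormal F.core := core_isNormal F
  have hQ₀le : Q₀ ≤ F.core := le_sSup hQ₀n
  have hcorec : F.IsCentric F.core := centric_of_le F hQ₀c hQ₀le hcore.1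
  have h : Setup p F F.core := ⟨hS, hsat, hcore, hcorec⟩
  have hfinQ : Finite ↥F.core := finite_of_le h.le
  refine ⟨hfinQ, h, finite_Mdl h, ?_, realized h, exists_sylow h⟩
  have := finite_Mdl h
  obtain ⟨T, hT⟩ := exists_sylow h
  set K := (mRho h).ker with hKdef
  have hKle : K ≤ (mIota h).range := by
    intro g hg
    obtain ⟨z, rfl⟩ := exists_zeta_of_mRho_eq_one h g hg
    exact ⟨_, rfl⟩
  have hKp : IsPGroup p K := by
    apply IsPGroup.to_le _ hKle
    rw [← hT]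
    exact T.isPGroup'
  obtain ⟨m, hm⟩ := hKp.exists_card_eq
  let e := QuotientGroup.quotientKerEquivOfSurjective (mRho h) (mRho_surjective h)
  have hq : IsPSolvable p (Mdl h ⧸ K) :=
    Cfsg.Agent.Lib.Helper24.isPSolvable_of_surjective p e.symm.toMonoidHom e.symm.surjective hA
  exact Cfsg.Agent.Lib.Helper25.isPSolvable_of_quotient p K (Or.inl ⟨m, hm⟩) hq

end Cfsg.Agent.Lib.Helper26.ModelThm
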