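import Cfsg.Agent.Lib.Helper26.FSGroup
import Cfsg.Agent.Lib.Helper26.FSInvariantFrattini
import Cfsg.Agent.Lib.Helper26.FSChain
set_option autoImplicit false

/-!
Normal subsystems of the fusion system of a group of characteristic `p` (Aschbacher): calculus of the
relation "conjugation by `g` on `P` is a map of `E`".
-/

namespace Cfsg.Agent.Lib.Helper26.NSub

open Cfsg Cfsg.FusionSystem Cfsg.Agent.Lib.Helper26

variable {G : Type*} [Group G] {T : Subgroup G}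

/-- the conjugate `g P g⁻¹` -/
abbrev cj (P : Subgroup G) (g : G) : Subgroup G := P.map (MulAut.conj g).toMonoidHom

/-- conjugation by `g` on `P` is a map of `E` -/
def EC (E : FusionSystem T) (P : Subgroup G) (g : G) : Prop := conjHom P g ∈ E.Hom P

theorem EC.le {E : FusionSystem T} {P : Subgroup G} {g : G} (h : EC E P g) : P ≤ T := hom_le E h

theorem EC.conj_mem {E : FusionSystem T} {P : Subgroup G} {g : G} (h : EC E P g) {x : G} (hx : x ∈ P) :
    g * x * g⁻¹ ∈ T := hom_apply_mem E h ⟨x, hx⟩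

theorem EC.cj_le {E : FusionSystem T} {P : Subgroup G} {g : G} (h : EC E P g) : cj P g ≤ T := by
  rintro _ ⟨x, hx, rfl⟩
  exact h.conj_mem hx

theorem ec_of_mem (E : FusionSystem T) {P : Subgroup G} (hP : P ≤ T) {t : G} (ht : t ∈ T) : EC E P t :=
  E.conj_mem hP ht

theorem ec_one (E : FusionSystem T) {P : Subgroup G} (hP : P ≤ T) : EC E P 1 := ec_of_mem E hP T.one_mem

theorem EC.mono {E : FusionSystem T} {P Q : Subgroup G} {g : G} (h : EC E P g) (hQP : Q ≤ P) : EC E Q g :=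
  inclusion_comp_mem E hQP h

theorem EC.mul {E : FusionSystem T} {P Q : Subgroup G} {g k : G} (hg : EC E P g)
    (hPQ : ∀ x ∈ P, g * x * g⁻¹ ∈ Q) (hk : EC E Q k) : EC E P (k * g) := by
  have h := E.comp_mem hg hk (fun x : P => hPQ x x.2)
  have e : (conjHom Q k).comp ((conjHom P g).codRestrict Q (fun x : P => hPQ x x.2)) = conjHom P (k * g) := by
    ext x
    show k * (g * (x : G) * g⁻¹) * k⁻¹ = k * g * x * (k * g)⁻¹
    simp only [mul_inv_rev, mul_assoc]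
  unfold EC
  rw [← e]
  exact h

theorem EC.inv {E : FusionSystem T} {P : Subgroup G} {g : G} (hg : EC E P g) : EC E (cj P g) g⁻¹ := by
  obtain ⟨ψ, hψ, hψx⟩ := E.inv_mem hg
  unfold EC cj
  rw [← conjHom_range]
  have e : ψ = conjHom (conjHom P g).range g⁻¹ := by
    ext ⟨y, x, rfl⟩
    rw [hψx x]
    show (x : G) = g⁻¹ * (g * (x : G) * g⁻¹) * g⁻¹⁻¹
    simp [mul_assoc]
  rw [← e]
  exact hψ

theorem exists_ec {S : Subgroup G} {E : FusionSystem T} (hEF : E.IsSubsystemOf (groupFusionSystem S))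
    {P : Subgroup G} {φ : P →* G} (hφ : φ ∈ E.Hom P) : ∃ g : G, φ = conjHom P g ∧ EC E P g := by
  obtain ⟨-, -, g, hg⟩ := hEF P hφ
  have e := eq_conjHom_of_forall hg
  refine ⟨g, e, ?_⟩
  unfold EC
  rw [← e]
  exact hφ

/-- strong invariance in terms of `EC` -/
theorem EC.conj {S : Subgroup G} {E : FusionSystem T} (hSI : StrongInv E (groupFusionSystem S))
    {P Q : Subgroup G} {k g : G} (hk : EC E P k) (hPQ : P ≤ Q) (hQT : Q ≤ T)
    (hkQ : ∀ x ∈ P, k * x * k⁻¹ ∈ Q) (hg : conjHom Q g ∈ (groupFusionSystem S).Hom Q) :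
    EC E (cj P g) (g * k * g⁻¹) := by
  obtain ⟨χ, hχ, hχx⟩ := hSI P Q hPQ hQT (conjHom P k) hk (fun x => hkQ x x.2) (conjHom Q g) hg
  have hsub : (P.subgroupOf Q).map (conjHom Q g) = cj P g := by
    ext y
    constructor
    · rintro ⟨x, hx, rfl⟩
      exact ⟨x, hx, rfl⟩
    · rintro ⟨x, hx, rfl⟩
      exact ⟨⟨x, hPQ hx⟩, hx, rfl⟩
  unfold EC
  rw [← hsub]
  have e : χ = conjHom ((P.subgroupOf Q).map (conjHom Q g)) (g * k * g⁻¹) := by
    ext ⟨y, x, hx, rfl⟩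
    have := hχx ⟨x, hx⟩ ⟨x, hx, rfl⟩
    have h2 : (⟨(conjHom Q g) x, ⟨x, hx, rfl⟩⟩ : ((P.subgroupOf Q).map (conjHom Q g))) =
        ⟨(conjHom Q g) (Subgroup.inclusion hPQ ⟨x, hx⟩), ⟨x, hx, rfl⟩⟩ := rfl
    rw [h2, this]
    show g * (k * (x : G) * k⁻¹) * g⁻¹ = g * k * g⁻¹ * (g * (x : G) * g⁻¹) * (g * k * g⁻¹)⁻¹
    simp only [mul_inv_rev, inv_inv, mul_assoc, inv_mul_cancel_left]
  rw [← e]
  exact hχ

end Cfsg.Agent.Lib.Helper26.NSub
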