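import Cfsg.Agent.Lib.Helper26.NSubA
import Cfsg.Agent.Lib.Helper26.FSSatEquiv
import Cfsg.Agent.Lib.Helper26.FSSylow
set_option autoImplicit false

/-!
Normal subsystems of the fusion system of a group of characteristic `p`: general group lemmas and the
consequences of saturation in terms of `EC`.
-/

namespace Cfsg.Agent.Lib.Helper26.NSub

open Cfsg Cfsg.FusionSystem Cfsg.Agent.Lib.Helper26
open scoped commutatorElement

variable {G : Type*} [Group G]

/-- if `h ∈ K`, `x` normalizes `K`, `x ^ q ∈ K` and the order of `h x` is prime to `q`, then `h x ∈ K` -/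
theorem mem_of_mul_coprime {K : Subgroup G} {h x : G} {q : ℕ} (hh : h ∈ K)
    (hx : ∀ k ∈ K, x * k * x⁻¹ ∈ K) (hxq : x ^ q ∈ K) (hcop : Nat.Coprime q (orderOf (h * x))) :
    h * x ∈ K := by
  have hxj : ∀ j : ℕ, ∀ k ∈ K, x ^ j * k * (x ^ j)⁻¹ ∈ K := by
    intro j
    induction j with
    | zero => intro k hk; simpa using hk
    | succ j ih =>
      intro k hk
      have := hx _ (ih k hk)
      have e : x ^ (j + 1) * k * (x ^ (j + 1))⁻¹ = x * (x ^ j * k * (x ^ j)⁻¹) * x⁻¹ := by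
        rw [pow_succ']; group
      rw [e]; exact this
  have hpow : ∀ j : ℕ, ∃ k ∈ K, (h * x) ^ j = k * x ^ j := by
    intro j
    induction j with
    | zero => exact ⟨1, K.one_mem, by simp⟩
    | succ j ih =>
      obtain ⟨k, hk, e⟩ := ih
      refine ⟨k * (x ^ j * h * (x ^ j)⁻¹), K.mul_mem hk (hxj j h hh), ?_⟩
      rw [pow_succ, e, pow_succ]; group
  obtain ⟨k, hk, e⟩ := hpow q
  have h1 : (h * x) ^ q ∈ K := by rw [e]; exact K.mul_mem hk hxq
  obtain ⟨m, hm⟩ := exists_pow_eq_self_of_coprime hcop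
  rw [← hm]
  exact K.pow_mem h1 m

/-- coprime action: if `w = [r, n]` is a `p`-element, `n` has order prime to `p` and `[w, n] ∈ K ⊴ G`, then `w ∈ K` -/
theorem comm_mem_of_coprime {p : ℕ} [Fact p.Prime] (K : Subgroup G) [K.Normal] {r n : G}
    (hw : ∃ a : ℕ, ⁅r, n⁆ ^ (p ^ a) = 1) (hn : Nat.Coprime (orderOf n) p)
    (hc : ⁅⁅r, n⁆, n⁆ ∈ K) : ⁅r, n⁆ ∈ K := by
  obtain ⟨a, ha⟩ := hw
  set π := QuotientGroup.mk' K with hπ
  set W := π ⁅r, n⁆ with hW
  have hcomm : Commute W (π n) := by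
    have h1 : π ⁅⁅r, n⁆, n⁆ = 1 := (QuotientGroup.eq_one_iff _).mpr hc
    rw [commutatorElement_def, map_mul, map_mul, map_mul, map_inv, map_inv] at h1
    show W * π n = π n * W
    have : W * π n * W⁻¹ * (π n)⁻¹ = 1 := h1
    calc W * π n = (W * π n * W⁻¹ * (π n)⁻¹) * (π n * W) := by group
      _ = π n * W := by rw [this, one_mul]
  have hconj : π r * π n * (π r)⁻¹ = W * π n := by
    rw [hW, commutatorElement_def, map_mul, map_mul, map_mul, map_inv, map_inv]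
    group
  have h2 : (W * π n) ^ orderOf n = 1 := by
    rw [← hconj, conj_pow, ← map_pow, pow_orderOf_eq_one, map_one]
    group
  rw [hcomm.mul_pow, ← map_pow π n, pow_orderOf_eq_one, map_one, mul_one] at h2
  have h3 : W ^ (p ^ a) = 1 := by rw [hW, ← map_pow, ha, map_one]
  have h4 : orderOf W ∣ Nat.gcd (orderOf n) (p ^ a) :=
    Nat.dvd_gcd (orderOf_dvd_of_pow_eq_one h2) (orderOf_dvd_of_pow_eq_one h3)
  have h5 : Nat.gcd (orderOf n) (p ^ a) = 1 := Nat.Coprime.pow_right a hn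
  rw [h5, Nat.dvd_one, orderOf_eq_one_iff] at h4
  exact (QuotientGroup.eq_one_iff _).mp h4

/-- an element centralizing `K` and acting trivially on `U` modulo `K` has a power (to the order of `K`) centralizing `U` -/
theorem pow_conj_of_chain {K : Subgroup G} {c u : G} (hcK : ∀ k ∈ K, c * k * c⁻¹ = k)
    (hu : u⁻¹ * (c * u * c⁻¹) ∈ K) (j : ℕ) :
    c ^ j * u * (c ^ j)⁻¹ = u * (u⁻¹ * (c * u * c⁻¹)) ^ j := by
  induction j with
  | zero => simp
  | succ j ih =>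
    have h1 : c ^ (j + 1) * u * (c ^ (j + 1))⁻¹ = c * (c ^ j * u * (c ^ j)⁻¹) * c⁻¹ := by
      rw [pow_succ']; group
    rw [h1, ih]
    have h2 := hcK _ (K.pow_mem hu j)
    have h3 : c * (u * (u⁻¹ * (c * u * c⁻¹)) ^ j) * c⁻¹ =
        (c * u * c⁻¹) * (c * (u⁻¹ * (c * u * c⁻¹)) ^ j * c⁻¹) := by group
    rw [h3, h2, pow_succ']
    generalize (u⁻¹ * (c * u * c⁻¹)) ^ j = y
    group

theorem pow_card_conj_of_chain {K : Subgroup G} [Finite K] {c u : G} (hcK : ∀ k ∈ K, c * k * c⁻¹ = k)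
    (hu : u⁻¹ * (c * u * c⁻¹) ∈ K) : c ^ Nat.card K * u * (c ^ Nat.card K)⁻¹ = u := by
  rw [pow_conj_of_chain hcK hu]
  have : (⟨u⁻¹ * (c * u * c⁻¹), hu⟩ : K) ^ Nat.card K = 1 := pow_card_eq_one'
  have h2 := congrArg Subtype.val this
  rw [Subgroup.coe_pow] at h2
  simp only [Subgroup.coe_one] at h2
  rw [h2, mul_one]

variable {T : Subgroup G}

/-- consequence of `U` being fully automized in `E` -/
theorem exists_mem_of_fullyAutomized {p : ℕ} [Fact p.Prime] {S : Subgroup G} (hSp : IsPGroup p S) (hTS : T ≤ S)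
    (E : FusionSystem T) {U : Subgroup G} (hU : E.IsFullyAutomized p U) {s : G} (hsS : s ∈ S)
    (hsN : s ∈ Subgroup.normalizer (U : Set G)) (hs : EC E U s) :
    ∃ t ∈ T, ∀ u ∈ U, t * u * t⁻¹ = s * u * s⁻¹ := by
  obtain ⟨hUT, Syl, hSyl⟩ := hU
  set σ : MulAut U := U.normalizerMonoidHom ⟨s, hsN⟩ with hσ
  have hσA : σ ∈ E.autGroup U := by
    rw [mem_autGroup_iff E hUT]
    exact hs
  set Q : Subgroup (E.autGroup U) := (autInducedBy S U ⊓ E.autGroup U).subgroupOf (E.autGroup U) with hQ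
  have hQp : IsPGroup p Q := by
    have h1 : IsPGroup p (autInducedBy S U ⊓ E.autGroup U : Subgroup (MulAut U)) :=
      (autInducedBy_isPGroup hSp U).to_le inf_le_left
    exact h1.comap_subtype
  have hmono : autInducedBy T U ≤ autInducedBy S U := by
    intro α hα
    obtain ⟨g, hg, hgα⟩ := (mem_autInducedBy_iff T U α).mp hα
    exact (mem_autInducedBy_iff S U α).mpr ⟨g, hTS hg, hgα⟩
  have hle : (Syl : Subgroup (E.autGroup U)) ≤ Q := by
    rw [hSyl]
    intro x hx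
    rw [Subgroup.mem_subgroupOf] at hx
    rw [hQ, Subgroup.mem_subgroupOf]
    exact ⟨hmono hx, x.2⟩
  have hmax := Syl.is_maximal' hQp hle
  have hσQ : (⟨σ, hσA⟩ : E.autGroup U) ∈ Q := by
    rw [hQ, Subgroup.mem_subgroupOf]
    exact ⟨normalizerMonoidHom_mem_autInducedBy hsS hsN, hσA⟩
  rw [hmax, hSyl, Subgroup.mem_subgroupOf] at hσQ
  obtain ⟨t, ht, htσ⟩ := (mem_autInducedBy_iff T U σ).mp hσQ
  refine ⟨t, ht, fun u hu => ?_⟩
  rw [← htσ ⟨u, hu⟩]
  rfl

/-- consequence of `U` being receptive in `E` -/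
theorem exists_ec_extension {S : Subgroup G} {E : FusionSystem T}
    (hEF : E.IsSubsystemOf (groupFusionSystem S)) {U P : Subgroup G} (hU : E.IsReceptive U) {h : G}
    (hh : EC E U h) (hhU : h ∈ Subgroup.normalizer (U : Set G)) (hUP : U ≤ P) (hPT : P ≤ T)
    (hPN : P ≤ Subgroup.normalizer (U : Set G)) (hhP : ∀ x ∈ P, h * x * h⁻¹ ∈ T) :
    ∃ g, EC E P g ∧ ∀ u ∈ U, g * u * g⁻¹ = h * u * h⁻¹ := by
  have hrange : (conjHom U h).range = U := by
    rw [conjHom_range]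
    exact map_conj_of_mem_normalizer hhU
  obtain ⟨ψ, hψ, hψx⟩ := hU.2 U (conjHom U h) hh hrange
  have hPext : P ≤ extender T U (conjHom U h) := by
    intro x hx
    rw [mem_extender_iff]
    refine ⟨hPT hx, hPN hx, h * x * h⁻¹, hhP x hx, fun u hu => ?_⟩
    show h * (x * (u : G) * x⁻¹) * h⁻¹ = h * x * h⁻¹ * (h * (u : G) * h⁻¹) * (h * x * h⁻¹)⁻¹
    simp only [mul_inv_rev, inv_inv, mul_assoc, inv_mul_cancel_left]
  have h1 := inclusion_comp_mem E hPext hψ
  obtain ⟨g, hg, hgE⟩ := exists_ec hEF h1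
  refine ⟨g, hgE, fun u hu => ?_⟩
  have h2 : (ψ.comp (Subgroup.inclusion hPext)) ⟨u, hUP hu⟩ = (conjHom P g) ⟨u, hUP hu⟩ := by rw [hg]
  have h3 := hψx u hu (hPext (hUP hu))
  calc g * u * g⁻¹ = (conjHom P g) ⟨u, hUP hu⟩ := rfl
    _ = (ψ.comp (Subgroup.inclusion hPext)) ⟨u, hUP hu⟩ := h2.symm
    _ = ψ ⟨u, hPext (hUP hu)⟩ := rfl
    _ = conjHom U h ⟨u, hu⟩ := h3
    _ = h * u * h⁻¹ := rfl

end Cfsg.Agent.Lib.Helper26.NSub
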