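import Cfsg.Agent.Lib.Helper26.ModelH
import Cfsg.Agent.Lib.Helper26.FSNormalCrit
import Cfsg.Agent.Lib.Helper17.CharP
set_option autoImplicit false

/-!
A saturated subsystem, over a strongly closed subgroup, of a constrained fusion system is constrained.
-/

namespace Cfsg.Agent.Lib.Helper26.SubCon

open Cfsg Cfsg.FusionSystem Cfsg.Agent.Lib.Helper26
open scoped commutatorElement

section Grp

variable {L : Type*} [Group L]

/-- the elements centralizing `K` and acting trivially on `O / K` -/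
def stabSub (O K : Subgroup L) : Subgroup L where
  carrier := {g | (∀ k ∈ K, g * k = k * g) ∧ ∀ h ∈ O, ⁅h, g⁆ ∈ K}
  one_mem' := ⟨fun k _ => by simp, fun h _ => by simp⟩
  mul_mem' := by
    rintro a b ⟨ha1, ha2⟩ ⟨hb1, hb2⟩
    refine ⟨fun k hk => by rw [mul_assoc, hb1 k hk, ← mul_assoc, ha1 k hk, mul_assoc], fun h hh => ?_⟩
    have e : ⁅h, a * b⁆ = ⁅h, a⁆ * (a * ⁅h, b⁆ * a⁻¹) := by
      simp only [commutatorElement_def]; group
    rw [e]
    have h1 : a * ⁅h, b⁆ * a⁻¹ = ⁅h, b⁆ := by rw [ha1 _ (hb2 h hh)]; group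
    rw [h1]
    exact K.mul_mem (ha2 h hh) (hb2 h hh)
  inv_mem' := by
    rintro a ⟨ha1, ha2⟩
    have hinv : ∀ k ∈ K, a⁻¹ * k = k * a⁻¹ := by
      intro k hk
      have := ha1 k hk
      calc a⁻¹ * k = a⁻¹ * (k * a) * a⁻¹ := by group
        _ = a⁻¹ * (a * k) * a⁻¹ := by rw [this]
        _ = k * a⁻¹ := by group
    refine ⟨hinv, fun h hh => ?_⟩
    have e : ⁅h, a⁻¹⁆ = a⁻¹ * (⁅h, a⁆)⁻¹ * a := by
      simp only [commutatorElement_def]; group
    rw [e, hinv _ (K.inv_mem (ha2 h hh))]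
    have : (⁅h, a⁆)⁻¹ * a⁻¹ * a = (⁅h, a⁆)⁻¹ := by group
    rw [this]
    exact K.inv_mem (ha2 h hh)

theorem mem_stabSub {O K : Subgroup L} {g : L} :
    g ∈ stabSub O K ↔ (∀ k ∈ K, g * k = k * g) ∧ ∀ h ∈ O, ⁅h, g⁆ ∈ K := Iff.rfl

theorem stabSub_normal (O K : Subgroup L) [hO : O.Normal] [hK : K.Normal] : (stabSub O K).Normal := by
  constructor
  rintro a ⟨ha1, ha2⟩ g
  refine ⟨fun k hk => ?_, fun h hh => ?_⟩
  · have hk' : g⁻¹ * k * g ∈ K := by
      have := hK.conj_mem k hk g⁻¹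
      rwa [inv_inv] at this
    have := ha1 _ hk'
    calc g * a * g⁻¹ * k = g * (a * (g⁻¹ * k * g)) * g⁻¹ := by group
      _ = g * ((g⁻¹ * k * g) * a) * g⁻¹ := by rw [this]
      _ = k * (g * a * g⁻¹) := by group
  · have hh' : g⁻¹ * h * g ∈ O := by
      have := hO.conj_mem h hh g⁻¹
      rwa [inv_inv] at this
    have e : ⁅h, g * a * g⁻¹⁆ = g * ⁅g⁻¹ * h * g, a⁆ * g⁻¹ := by
      simp only [commutatorElement_def]; group
    rw [e]
    exact hK.conj_mem _ (ha2 _ hh') g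

/-- in a group with `C(O_p) ≤ O_p`, the stabilizer of a chain `1 ≤ K ≤ O_p` (`K` normal) lies in `O_p` -/
theorem stabSub_le_pCore [Finite L] {p : ℕ} [Fact p.Prime]
    (hL : Subgroup.centralizer (Cfsg.pCore p L : Set L) ≤ Cfsg.pCore p L) (K : Subgroup L) [K.Normal]
    (hK : K ≤ Cfsg.pCore p L) : stabSub (Cfsg.pCore p L) K ≤ Cfsg.pCore p L := by
  haveI : (Cfsg.pCore p L).Normal := Cfsg.Agent.Lib.Helper17.pCore_normal p L
  apply Cfsg.Agent.Lib.Helper17.le_pCore _ (stabSub_normal _ K)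
  apply Cfsg.Agent.Lib.Helper17.isPGroup_of_pprime_trivial
  rintro a ⟨ha1, ha2⟩ hcop
  exact Cfsg.Agent.Lib.Helper17.eq_one_of_stabilizes_pCore hL a hcop K hK ha1 ha2

end Grp

end Cfsg.Agent.Lib.Helper26.SubCon
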