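import Cfsg.Agent.Lib.Helper26.NSubB
import Cfsg.Agent.Lib.Helper26.SubConA
import Cfsg.Agent.Lib.Helper26.FSNormalCrit
set_option autoImplicit false
set_option linter.unusedSectionVars false
set_option linter.style.haveILetI false

/-!
Normal subsystems of the fusion system of a group of characteristic `p`: the subgroup `Ĥ` of the elements acting
trivially on `O_p(G) / R₀` and inducing maps of `E` on `R₀ = O_p(G) ∩ T`.
-/

namespace Cfsg.Agent.Lib.Helper26.NSub

open Cfsg Cfsg.FusionSystem Cfsg.Agent.Lib.Helper26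
open scoped commutatorElement

variable {G : Type*} [Group G] [Finite G]

/-- the standing hypotheses -/
structure Setup (p : ℕ) [Fact p.Prime] (S : Sylow p G) (T : Subgroup G) (E : FusionSystem T) : Prop where
  hG : Subgroup.centralizer ((Cfsg.pCore p G : Subgroup G) : Set G) ≤ Cfsg.pCore p G
  hE : E.IsNormalIn (groupFusionSystem (S : Subgroup G)) p

/-- `R₀ = O_p(G) ∩ T` -/
def rz (p : ℕ) (T : Subgroup G) : Subgroup G := Cfsg.pCore p G ⊓ T

variable {p : ℕ} [Fact p.Prime] {S : Sylow p G} {T : Subgroup G} {E : FusionSystem T}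

namespace Setup

variable (h : Setup p S T E)
include h

theorem sat : E.IsSaturated p := h.hE.1.1
theorem satF : (groupFusionSystem (S : Subgroup G)).IsSaturated p := h.hE.1.2.1
theorem sub : E.IsSubsystemOf (groupFusionSystem (S : Subgroup G)) := h.hE.1.2.2.1
theorem sc : (groupFusionSystem (S : Subgroup G)).StronglyClosed T := h.hE.1.2.2.2.1
theorem TS : T ≤ S := h.sc.1
theorem SI : StrongInv E (groupFusionSystem (S : Subgroup G)) :=
  strongInv_of_invariant h.hE.1.2.2.2.2.1 h.hE.1.2.2.2.2.2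
theorem Sp : IsPGroup p (S : Subgroup G) := S.isPGroup'
theorem Tp : IsPGroup p T := h.Sp.to_le h.TS
theorem normT : (S : Subgroup G) ≤ Subgroup.normalizer (T : Set G) := le_normalizer_of_stronglyClosed _ h.sc
theorem RS : Cfsg.pCore p G ≤ S :=
  haveI := Cfsg.Agent.Lib.Helper17.pCore_normal p G
  (Cfsg.Agent.Lib.Helper17.pCore_isPGroup p G).le_sylow_of_normal S
theorem rz_le_T : rz p T ≤ T := inf_le_right
theorem rz_le_R : rz p T ≤ Cfsg.pCore p G := inf_le_left
theorem rz_le_S : rz p T ≤ S := h.rz_le_T.trans h.TS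

/-- strong closure, elementwise -/
theorem conj_mem_T {t x : G} (ht : t ∈ T) (hx : x * t * x⁻¹ ∈ (S : Subgroup G)) : x * t * x⁻¹ ∈ T := by
  have hP : Subgroup.zpowers t ≤ T := (Subgroup.zpowers_le).mpr ht
  have hφ : conjHom (Subgroup.zpowers t) x ∈ (groupFusionSystem (S : Subgroup G)).Hom (Subgroup.zpowers t) := by
    apply conjHom_mem_groupFS (hP.trans h.TS)
    rintro _ ⟨y, hy, rfl⟩
    obtain ⟨k, rfl⟩ := Subgroup.mem_zpowers_iff.mp hy
    show x * t ^ k * x⁻¹ ∈ (S : Subgroup G)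
    have : x * t ^ k * x⁻¹ = (x * t * x⁻¹) ^ k := by rw [conj_zpow]
    rw [this]
    exact Subgroup.zpow_mem _ hx k
  exact h.sc.2 _ hP _ hφ ⟨t, Subgroup.mem_zpowers t⟩

theorem rz_normal : (rz p T : Subgroup G).Normal := by
  haveI := Cfsg.Agent.Lib.Helper17.pCore_normal p G
  constructor
  rintro r ⟨hrR, hrT⟩ x
  have h1 : x * r * x⁻¹ ∈ Cfsg.pCore p G := Subgroup.Normal.conj_mem inferInstance r hrR x
  exact ⟨h1, h.conj_mem_T hrT (h.RS h1)⟩

theorem map_rz (x : G) : (rz p T).map (MulAut.conj x).toMonoidHom = rz p T := by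
  haveI := h.rz_normal
  apply map_conj_of_mem_normalizer
  rw [Subgroup.normalizer_eq_top]
  exact Subgroup.mem_top x

theorem cj_rz (x : G) : cj (rz p T) x = rz p T := h.map_rz x

/-- `Ĥ` -/
def hhat : Subgroup G where
  carrier := {g | (∀ r ∈ Cfsg.pCore p G, ⁅r, g⁆ ∈ rz p T) ∧ EC E (rz p T) g}
  one_mem' := ⟨fun r _ => by simp, ec_one E h.rz_le_T⟩
  mul_mem' := by
    haveI := h.rz_normal
    rintro a b ⟨ha1, ha2⟩ ⟨hb1, hb2⟩
    refine ⟨fun r hr => ?_, ?_⟩
    · have e : ⁅r, a * b⁆ = ⁅r, a⁆ * (a * ⁅r, b⁆ * a⁻¹) := by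
        simp only [commutatorElement_def]; group
      rw [e]
      exact Subgroup.mul_mem _ (ha1 r hr) (Subgroup.Normal.conj_mem inferInstance _ (hb1 r hr) a)
    · exact hb2.mul (fun x hx => Subgroup.Normal.conj_mem inferInstance x hx b) ha2
  inv_mem' := by
    haveI := h.rz_normal
    rintro a ⟨ha1, ha2⟩
    refine ⟨fun r hr => ?_, ?_⟩
    · have e : ⁅r, a⁻¹⁆ = a⁻¹ * (⁅r, a⁆)⁻¹ * a⁻¹⁻¹ := by
        simp only [commutatorElement_def]; group
      rw [e]
      exact Subgroup.Normal.conj_mem inferInstance _ (Subgroup.inv_mem _ (ha1 r hr)) a⁻¹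
    · have := ha2.inv
      rwa [h.cj_rz] at this

theorem mem_hhat {g : G} : g ∈ h.hhat ↔ (∀ r ∈ Cfsg.pCore p G, ⁅r, g⁆ ∈ rz p T) ∧ EC E (rz p T) g := Iff.rfl

theorem hhat_normal : h.hhat.Normal := by
  haveI := h.rz_normal
  haveI := Cfsg.Agent.Lib.Helper17.pCore_normal p G
  constructor
  rintro g ⟨hg1, hg2⟩ x
  refine ⟨fun r hr => ?_, ?_⟩
  · have hr' : x⁻¹ * r * x ∈ Cfsg.pCore p G := by
      have := Subgroup.Normal.conj_mem (inferInstance : (Cfsg.pCore p G).Normal) r hr x⁻¹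
      rwa [inv_inv] at this
    have e : ⁅r, x * g * x⁻¹⁆ = x * ⁅x⁻¹ * r * x, g⁆ * x⁻¹ := by
      simp only [commutatorElement_def]; group
    rw [e]
    exact Subgroup.Normal.conj_mem inferInstance _ (hg1 _ hr') x
  · have hx : conjHom (rz p T) x ∈ (groupFusionSystem (S : Subgroup G)).Hom (rz p T) := by
      apply conjHom_mem_groupFS h.rz_le_S
      rw [h.map_rz]
      exact h.rz_le_S
    have := hg2.conj h.SI le_rfl h.rz_le_T
      (fun y hy => Subgroup.Normal.conj_mem inferInstance y hy g) hx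
    rwa [h.cj_rz] at this

theorem T_le_hhat : T ≤ h.hhat := by
  haveI := Cfsg.Agent.Lib.Helper17.pCore_normal p G
  intro t ht
  refine ⟨fun r hr => ?_, ec_of_mem E h.rz_le_T ht⟩
  rw [commutatorElement_def]
  constructor
  · have : r * t * r⁻¹ * t⁻¹ = r * (t * r⁻¹ * t⁻¹) := by group
    rw [this]
    exact Subgroup.mul_mem _ hr
      (Subgroup.Normal.conj_mem inferInstance _ (Subgroup.inv_mem _ hr) t)
  · have hrN := h.normT (h.RS hr)
    have h1 : r * t * r⁻¹ ∈ T := (Subgroup.mem_normalizer_iff.mp hrN t).mp ht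
    exact T.mul_mem h1 (T.inv_mem ht)

/-- `X = C_{Ĥ}(R₀)` lies in `O_p(G)` -/
theorem mem_pCore_of_centralizes {g : G} (hg : g ∈ h.hhat) (hc : ∀ r ∈ rz p T, g * r = r * g) :
    g ∈ Cfsg.pCore p G := by
  haveI := h.rz_normal
  exact SubCon.stabSub_le_pCore h.hG (rz p T) h.rz_le_R ⟨hc, hg.1⟩

/-- `R₀` is fully normalized in `E` -/
theorem rz_fullyNormalized : E.IsFullyNormalized (rz p T) := by
  haveI := h.rz_normal
  refine ⟨h.rz_le_T, fun Q _ => ?_⟩
  have h1 : normalizerIn T (rz p T) = T := by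
    apply normalizerIn_eq_of_le_normalizer
    rw [Subgroup.normalizer_eq_top]
    exact le_top
  rw [h1]
  haveI : Finite ↥T := finite_of_le h.TS
  exact Subgroup.card_le_of_le inf_le_left

/-- elements of `S ∩ Ĥ` are in `T X` -/
theorem exists_mem_T_of_mem_S {s : G} (hsS : s ∈ (S : Subgroup G)) (hs : s ∈ h.hhat) :
    ∃ t ∈ T, t⁻¹ * s ∈ Cfsg.pCore p G ∧ t⁻¹ * s ∈ h.hhat ∧ ∀ r ∈ rz p T, t⁻¹ * s * r = r * (t⁻¹ * s) := by
  haveI := h.rz_normal
  haveI : Finite ↥T := finite_of_le h.TS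
  have hfa := (saturated_fn h.Tp E h.sat h.rz_fullyNormalized).2
  have hsN : s ∈ Subgroup.normalizer ((rz p T : Subgroup G) : Set G) := by
    rw [Subgroup.normalizer_eq_top]
    exact Subgroup.mem_top s
  obtain ⟨t, ht, hts⟩ := exists_mem_of_fullyAutomized h.Sp h.TS E hfa hsS hsN hs.2
  have hx : t⁻¹ * s ∈ h.hhat := h.hhat.mul_mem (h.hhat.inv_mem (h.T_le_hhat ht)) hs
  have hc : ∀ r ∈ rz p T, t⁻¹ * s * r = r * (t⁻¹ * s) := by
    intro r hr
    have := hts r hr
    calc t⁻¹ * s * r = t⁻¹ * (s * r * s⁻¹) * s := by group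
      _ = t⁻¹ * (t * r * t⁻¹) * s := by rw [this]
      _ = r * (t⁻¹ * s) := by group
  exact ⟨t, ht, h.mem_pCore_of_centralizes hx hc, hx, hc⟩

end Setup

end Cfsg.Agent.Lib.Helper26.NSub
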