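import Cfsg.Agent.Lib.Helper26.NSubC
import Cfsg.Agent.Lib.Helper26.FSHyperfocalGroup
import Cfsg.Agent.Lib.Helper26.FSSubsystem
set_option autoImplicit false
set_option linter.unusedSectionVars false
set_option linter.style.haveILetI false

/-!
Normal subsystems of the fusion system of a group of characteristic `p`: the subgroup `H = O^p(Ĥ) T`.
-/

namespace Cfsg.Agent.Lib.Helper26.NSub

open Cfsg Cfsg.FusionSystem Cfsg.Agent.Lib.Helper26
open scoped commutatorElement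

variable {G : Type*} [Group G] [Finite G]
variable {p : ℕ} [Fact p.Prime] {S : Sylow p G} {T : Subgroup G} {E : FusionSystem T}

namespace Setup

variable (h : Setup p S T E)
include h

/-- `N̂ = O^p(Ĥ)` -/
def nhat : Subgroup G := (pResidual p ↥h.hhat).map h.hhat.subtype

/-- `H = O^p(Ĥ) T` -/
def hh : Subgroup G := h.nhat ⊔ T

theorem nhat_le_hhat : h.nhat ≤ h.hhat := Subgroup.map_subtype_le _

theorem nhat_eq_closure :
    h.nhat = Subgroup.closure {g : G | g ∈ h.hhat ∧ Nat.Coprime (orderOf g) p} := by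
  unfold nhat pResidual
  rw [MonoidHom.map_closure]
  congr 1
  ext g
  constructor
  · rintro ⟨k, hk, rfl⟩
    refine ⟨k.2, ?_⟩
    have hk' : Nat.Coprime (orderOf k) p := hk
    rwa [← Subgroup.orderOf_coe] at hk'
  · rintro ⟨hg, hcop⟩
    refine ⟨⟨g, hg⟩, ?_, rfl⟩
    show Nat.Coprime (orderOf (⟨g, hg⟩ : h.hhat)) p
    rwa [← Subgroup.orderOf_coe]

theorem mem_nhat_of_coprime {g : G} (hg : g ∈ h.hhat) (hcop : Nat.Coprime (orderOf g) p) : g ∈ h.nhat := by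
  rw [h.nhat_eq_closure]
  exact Subgroup.subset_closure ⟨hg, hcop⟩

theorem nhat_normal : h.nhat.Normal := by
  haveI := h.hhat_normal
  rw [h.nhat_eq_closure]
  apply Cfsg.Agent.Lib.Helper8.closure_normal_of_conj_invariant
  rintro g s ⟨hs, hcop⟩
  refine ⟨Subgroup.Normal.conj_mem inferInstance s hs g, ?_⟩
  rw [Cfsg.Agent.Lib.Helper8.orderOf_conj']
  exact hcop

theorem T_le_hh : T ≤ h.hh := le_sup_right
theorem nhat_le_hh : h.nhat ≤ h.hh := le_sup_left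
theorem hh_le_hhat : h.hh ≤ h.hhat := sup_le h.nhat_le_hhat h.T_le_hhat

theorem mem_hh {g : G} : g ∈ h.hh ↔ ∃ y ∈ h.nhat, ∃ t ∈ T, y * t = g := by
  haveI := h.nhat_normal
  exact Subgroup.mem_sup_of_normal_left

/-- the Sylow subgroup `S ∩ Ĥ` of `Ĥ` -/
theorem exists_sylow_hhat :
    ∃ R : Sylow p h.hhat, (R : Subgroup h.hhat) = (S : Subgroup G).subgroupOf h.hhat := by
  haveI := h.hhat_normal
  exact exists_sylow_inf_normal S h.hhat

/-- `Ĥ = N̂ (S ∩ Ĥ)` -/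
theorem exists_mul_of_mem_hhat {k : G} (hk : k ∈ h.hhat) :
    ∃ y ∈ h.nhat, ∃ s ∈ (S : Subgroup G), s ∈ h.hhat ∧ y * s = k := by
  obtain ⟨SK, hSK⟩ := h.exists_sylow_hhat
  have htop := pResidual_sup_sylow p SK
  haveI : (pResidual p ↥h.hhat).Normal := Cfsg.Agent.Lib.Helper8.pResidual_normal p _
  have hmem : (⟨k, hk⟩ : h.hhat) ∈ pResidual p ↥h.hhat ⊔ (SK : Subgroup h.hhat) := by
    rw [htop]; exact Subgroup.mem_top _
  obtain ⟨y, hy, s, hs, hys⟩ := Subgroup.mem_sup_of_normal_left.mp hmem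
  rw [hSK, Subgroup.mem_subgroupOf] at hs
  refine ⟨y, ⟨y, hy, rfl⟩, s, hs, s.2, ?_⟩
  have := congrArg Subtype.val hys
  exact this

/-- the computation behind `S ∩ O^p(Ĥ) ≤ T` -/
theorem comm_mem_T {x n : G} (hxS : x ∈ (S : Subgroup G)) (hx : x ∈ h.hhat) (hn : n ∈ h.hhat)
    (hnx : n * x * n⁻¹ ∈ (S : Subgroup G)) : x⁻¹ * (n * x * n⁻¹) ∈ T := by
  haveI := Cfsg.Agent.Lib.Helper17.pCore_normal p G
  obtain ⟨t, ht, hyR, hyH, -⟩ := h.exists_mem_T_of_mem_S hxS hx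
  set y := t⁻¹ * x with hy
  have hxty : x = t * y := by rw [hy]; group
  have hnyR : n * y * n⁻¹ ∈ Cfsg.pCore p G := Subgroup.Normal.conj_mem inferInstance y hyR n
  have hntS : n * t * n⁻¹ ∈ (S : Subgroup G) := by
    have e : n * t * n⁻¹ = (n * x * n⁻¹) * (n * y * n⁻¹)⁻¹ := by rw [hxty]; group
    rw [e]
    exact Subgroup.mul_mem _ hnx (Subgroup.inv_mem _ (h.RS hnyR))
  have hntT : n * t * n⁻¹ ∈ T := h.conj_mem_T ht hntS
  have hyS : y ∈ (S : Subgroup G) := h.RS hyR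
  have h1 : y⁻¹ * (t⁻¹ * (n * t * n⁻¹)) * y⁻¹⁻¹ ∈ T := by
    have hyN := h.normT (Subgroup.inv_mem _ hyS)
    exact (Subgroup.mem_normalizer_iff.mp hyN _).mp (T.mul_mem (T.inv_mem ht) hntT)
  have h2 : ⁅y⁻¹, n⁆ ∈ rz p T := hn.1 _ (Subgroup.inv_mem _ hyR)
  have e : x⁻¹ * (n * x * n⁻¹) = (y⁻¹ * (t⁻¹ * (n * t * n⁻¹)) * y⁻¹⁻¹) * ⁅y⁻¹, n⁆ := by
    rw [hxty, commutatorElement_def]; group
  rw [e]
  exact T.mul_mem h1 (h.rz_le_T h2)

/-- `S ∩ O^p(Ĥ) ≤ T` (by the hyperfocal subgroup theorem) -/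
theorem S_inf_nhat_le : (S : Subgroup G) ⊓ h.nhat ≤ T := by
  obtain ⟨SK, hSK⟩ := h.exists_sylow_hhat
  have hyp := groupFS_hyperfocal_eq p SK
  have hle : (groupFusionSystem (SK : Subgroup h.hhat)).hyperfocalSubgroup p ≤ T.subgroupOf h.hhat := by
    unfold FusionSystem.hyperfocalSubgroup
    rw [Subgroup.closure_le]
    rintro y ⟨P, α, x, hPS, hα, rfl⟩
    refine pResidual_induction ((groupFusionSystem (SK : Subgroup h.hhat)).autGroup P) (T.subgroupOf h.hhat)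
      (fun g hg x => ?_) α hα x
    obtain ⟨n, -, hn⟩ := exists_pprime_conj p hPS g hg
    rw [hn x]
    rw [Subgroup.mem_subgroupOf]
    have hxS : ((x : h.hhat) : G) ∈ (S : Subgroup G) := by
      have := hPS x.2
      rw [hSK, Subgroup.mem_subgroupOf] at this
      exact this
    have hnxS : (n : G) * ((x : h.hhat) : G) * (n : G)⁻¹ ∈ (S : Subgroup G) := by
      have := hPS (((g : MulAut P) x : P)).2
      rw [hn x, hSK, Subgroup.mem_subgroupOf] at this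
      exact this
    exact h.comm_mem_T hxS (x : h.hhat).2 n.2 hnxS
  rintro z ⟨hzS, k, hk, rfl⟩
  have hkSK : k ∈ (SK : Subgroup h.hhat) := by
    rw [hSK, Subgroup.mem_subgroupOf]
    exact hzS
  have : k ∈ (groupFusionSystem (SK : Subgroup h.hhat)).hyperfocalSubgroup p := by
    rw [hyp]
    exact ⟨hkSK, hk⟩
  have := hle this
  rw [Subgroup.mem_subgroupOf] at this
  exact this

theorem S_inf_hh : (S : Subgroup G) ⊓ h.hh = T := by
  apply le_antisymm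
  · rintro z ⟨hzS, hzH⟩
    obtain ⟨y, hy, t, ht, rfl⟩ := h.mem_hh.mp hzH
    have hyS : y ∈ (S : Subgroup G) := by
      have : y = y * t * t⁻¹ := by group
      rw [this]
      exact Subgroup.mul_mem _ hzS (Subgroup.inv_mem _ (h.TS ht))
    exact T.mul_mem (h.S_inf_nhat_le ⟨hyS, hy⟩) ht
  · exact le_inf h.TS h.T_le_hh

/-- `Ĥ` normalizes `H` -/
theorem conj_mem_hh_of_mem_hhat {k v : G} (hk : k ∈ h.hhat) (hv : v ∈ h.hh) : k * v * k⁻¹ ∈ h.hh := by
  haveI := h.nhat_normal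
  obtain ⟨y, hy, t, ht, rfl⟩ := h.mem_hh.mp hv
  have h1 : k * y * k⁻¹ ∈ h.hh := h.nhat_le_hh (Subgroup.Normal.conj_mem inferInstance y hy k)
  have h2 : k * t * k⁻¹ ∈ h.hh := by
    obtain ⟨y', hy', s, hsS, -, rfl⟩ := h.exists_mul_of_mem_hhat hk
    have hsN := h.normT hsS
    have ht' : s * t * s⁻¹ ∈ T := (Subgroup.mem_normalizer_iff.mp hsN t).mp ht
    have e : y' * s * t * (y' * s)⁻¹ = (y' * ((s * t * s⁻¹) * y'⁻¹ * (s * t * s⁻¹)⁻¹)) * (s * t * s⁻¹) := by group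
    rw [e]
    refine h.hh.mul_mem (h.nhat_le_hh ?_) (h.T_le_hh ht')
    exact Subgroup.mul_mem _ hy' (Subgroup.Normal.conj_mem inferInstance _ (Subgroup.inv_mem _ hy') _)
  have e : k * (y * t) * k⁻¹ = (k * y * k⁻¹) * (k * t * k⁻¹) := by group
  rw [e]
  exact h.hh.mul_mem h1 h2

theorem hh_normal : h.hh.Normal := by
  haveI := h.hhat_normal
  haveI := h.nhat_normal
  obtain ⟨SK, hSK⟩ := h.exists_sylow_hhat
  have hfrat := Sylow.normalizer_sup_eq_top SK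
  have hmap : (SK : Subgroup h.hhat).map h.hhat.subtype = (S : Subgroup G) ⊓ h.hhat := by
    rw [hSK, Subgroup.subgroupOf_map_subtype]
  rw [hmap] at hfrat
  constructor
  intro v hv g
  have hg : g ∈ Subgroup.normalizer (((S : Subgroup G) ⊓ h.hhat : Subgroup G) : Set G) ⊔ h.hhat := by
    rw [hfrat]; exact Subgroup.mem_top g
  obtain ⟨n, hn, k, hk, rfl⟩ := Subgroup.mem_sup_of_normal_right.mp hg
  have h1 := h.conj_mem_hh_of_mem_hhat hk hv
  -- conjugation by `n`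
  obtain ⟨y, hy, t, ht, hyt⟩ := h.mem_hh.mp h1
  have hny : n * y * n⁻¹ ∈ h.nhat := Subgroup.Normal.conj_mem inferInstance y hy n
  have hnt : n * t * n⁻¹ ∈ T := by
    have htSH : t ∈ (S : Subgroup G) ⊓ h.hhat := ⟨h.TS ht, h.T_le_hhat ht⟩
    have := (Subgroup.mem_normalizer_iff.mp hn t).mp htSH
    exact h.conj_mem_T ht this.1
  have e : n * k * v * (n * k)⁻¹ = (n * y * n⁻¹) * (n * t * n⁻¹) := by
    have : k * v * k⁻¹ = y * t := hyt.symm
    calc n * k * v * (n * k)⁻¹ = n * (k * v * k⁻¹) * n⁻¹ := by group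
      _ = n * (y * t) * n⁻¹ := by rw [this]
      _ = (n * y * n⁻¹) * (n * t * n⁻¹) := by group
  rw [e]
  exact h.hh.mul_mem (h.nhat_le_hh hny) (h.T_le_hh hnt)

/-- `T` is a Sylow `p`-subgroup of `H` -/
theorem exists_sylow_hh : ∃ R : Sylow p h.hh, (R : Subgroup h.hh) = T.subgroupOf h.hh := by
  haveI := h.hh_normal
  obtain ⟨R, hR⟩ := exists_sylow_inf_normal S h.hh
  refine ⟨R, ?_⟩
  rw [hR]
  ext x
  rw [Subgroup.mem_subgroupOf, Subgroup.mem_subgroupOf]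
  constructor
  · intro hx
    have : (x : G) ∈ (S : Subgroup G) ⊓ h.hh := ⟨hx, x.2⟩
    rwa [h.S_inf_hh] at this
  · intro hx
    exact h.TS hx

/-- `C_H(R₀) ≤ R₀` -/
theorem mem_rz_of_centralizes {v : G} (hv : v ∈ h.hh) (hc : ∀ r ∈ rz p T, v * r = r * v) : v ∈ rz p T := by
  have hR := h.mem_pCore_of_centralizes (h.hh_le_hhat hv) hc
  have hT : v ∈ T := by
    rw [← h.S_inf_hh]
    exact ⟨h.RS hR, hv⟩
  exact ⟨hR, hT⟩

/-- `Ĥ = H X` -/
theorem exists_mul_hh_of_mem_hhat {k : G} (hk : k ∈ h.hhat) :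
    ∃ v ∈ h.hh, ∃ x ∈ h.hhat, (∀ r ∈ rz p T, x * r = r * x) ∧ v * x = k := by
  obtain ⟨y, hy, s, hsS, hsH, rfl⟩ := h.exists_mul_of_mem_hhat hk
  obtain ⟨t, ht, -, hxH, hxc⟩ := h.exists_mem_T_of_mem_S hsS hsH
  refine ⟨y * t, h.hh.mul_mem (h.nhat_le_hh hy) (h.T_le_hh ht), t⁻¹ * s, hxH, hxc, ?_⟩
  group

end Setup

end Cfsg.Agent.Lib.Helper26.NSub
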