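import Cfsg.Agent.Lib.Helper26.NSubD
import Cfsg.Agent.Lib.Helper26.FSPResidualGroup
set_option autoImplicit false
set_option linter.unusedSectionVars false
set_option linter.style.haveILetI false

/-!
Normal subsystems of the fusion system of a group of characteristic `p`: `Aut_E(R₀) = Aut_H(R₀)`.
-/

namespace Cfsg.Agent.Lib.Helper26.NSub

open Cfsg Cfsg.FusionSystem Cfsg.Agent.Lib.Helper26
open scoped commutatorElement

section N1

variable {G : Type*} [Group G]

theorem conj_mem_ZT {T : Subgroup G} {m z : G} (hm : m ∈ Subgroup.normalizer (T : Set G))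
    (hz : z ∈ T ⊓ Subgroup.centralizer (T : Set G)) : m * z * m⁻¹ ∈ T ⊓ Subgroup.centralizer (T : Set G) :=
  ⟨(Subgroup.mem_normalizer_iff.mp hm z).mp hz.1,
    (Subgroup.mem_normalizer_iff.mp (normalizer_le_normalizer_centralizer T hm) z).mp hz.2⟩

/-- elements of `N_G(T)` acting trivially on `C_S(T)` modulo `Z(T)` -/
def n1Sub (S T : Subgroup G) : Subgroup G where
  carrier := {m | m ∈ Subgroup.normalizer (T : Set G) ∧
    ∀ c ∈ centralizerIn S T, c⁻¹ * (m * c * m⁻¹) ∈ T ⊓ Subgroup.centralizer (T : Set G)}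
  one_mem' := ⟨Subgroup.one_mem _, fun c _ => by simp⟩
  mul_mem' := by
    rintro a b ⟨ha1, ha2⟩ ⟨hb1, hb2⟩
    refine ⟨Subgroup.mul_mem _ ha1 hb1, fun c hc => ?_⟩
    have e : c⁻¹ * (a * b * c * (a * b)⁻¹) = (c⁻¹ * (a * c * a⁻¹)) * (a * (c⁻¹ * (b * c * b⁻¹)) * a⁻¹) := by
      group
    rw [e]
    exact Subgroup.mul_mem _ (ha2 c hc) (conj_mem_ZT ha1 (hb2 c hc))
  inv_mem' := by
    rintro a ⟨ha1, ha2⟩
    refine ⟨Subgroup.inv_mem _ ha1, fun c hc => ?_⟩
    have e : c⁻¹ * (a⁻¹ * c * a⁻¹⁻¹) = a⁻¹ * (c⁻¹ * (a * c * a⁻¹))⁻¹ * a⁻¹⁻¹ := by group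
    rw [e]
    exact conj_mem_ZT (Subgroup.inv_mem _ ha1) (Subgroup.inv_mem _ (ha2 c hc))

theorem mem_n1Sub {S T : Subgroup G} {m : G} : m ∈ n1Sub S T ↔ m ∈ Subgroup.normalizer (T : Set G) ∧
    ∀ c ∈ centralizerIn S T, c⁻¹ * (m * c * m⁻¹) ∈ T ⊓ Subgroup.centralizer (T : Set G) := Iff.rfl

end N1

variable {G : Type*} [Group G] [Finite G]
variable {p : ℕ} [Fact p.Prime] {S : Sylow p G} {T : Subgroup G} {E : FusionSystem T}

namespace Setup

variable (h : Setup p S T E)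
include h

theorem mem_autGroup_of_ec {U : Subgroup G} {g : G} (hg : g ∈ Subgroup.normalizer (U : Set G)) (hE : EC E U g) :
    U.normalizerMonoidHom ⟨g, hg⟩ ∈ E.autGroup U := by
  rw [mem_autGroup_iff E hE.le]
  exact hE

theorem ec_of_mem_autGroup {U : Subgroup G} (hU : U ≤ T) {α : MulAut U} (hα : α ∈ E.autGroup U) {g : G}
    (hg : ∀ x : U, ((α x : U) : G) = g * x * g⁻¹) : EC E U g := by
  have h1 := (mem_autGroup_iff E hU α).mp hα
  have e : U.subtype.comp α.toMonoidHom = conjHom U g := eq_conjHom_of_forall hg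
  unfold EC
  rw [← e]
  exact h1

/-- the extension condition, in terms of elements -/
theorem exists_n1 {n₀ : G} (hn₀ : n₀ ∈ Subgroup.normalizer (T : Set G)) (hE : EC E T n₀) :
    ∃ m ∈ n1Sub (S : Subgroup G) T, ∀ x ∈ T, m * x * m⁻¹ = n₀ * x * n₀⁻¹ := by
  haveI : Finite ↥T := finite_of_le h.TS
  obtain ⟨β, hβ, hβT, hβc⟩ := h.hE.2 _ (h.mem_autGroup_of_ec hn₀ hE)
  have hD : T ⊔ centralizerIn (S : Subgroup G) T ≤ S := sup_le h.TS inf_le_left
  rw [groupFS_autGroup_eq hD] at hβ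
  obtain ⟨m, -, hm⟩ := (mem_autInducedBy_iff ⊤ _ β).mp hβ
  have hmT : ∀ x ∈ T, m * x * m⁻¹ = n₀ * x * n₀⁻¹ := by
    intro x hx
    have h1 := hβT ⟨x, hx⟩
    rw [hm] at h1
    exact h1
  have hmN : m ∈ Subgroup.normalizer (T : Set G) := by
    apply mem_normalizer_of_conj_mem_finite
    intro y hy
    rw [hmT y hy]
    exact (Subgroup.mem_normalizer_iff.mp hn₀ y).mp hy
  refine ⟨m, ⟨hmN, fun c hc => ?_⟩, hmT⟩
  have h1 := hβc ⟨c, Subgroup.mem_sup_right hc⟩ hc
  rw [hm] at h1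
  exact h1

theorem T_fullyAutomized : E.IsFullyAutomized p T :=
  haveI : Finite ↥T := finite_of_le h.TS
  (saturated_fn h.Tp E h.sat (top_fullyNormalized E)).2

/-- a `p'`-element in `n1Sub` inducing a map of `E` on `T` acts trivially on `O_p(G) / R₀` -/
theorem comm_mem_rz_of_n1 {n : G} (hn : n ∈ n1Sub (S : Subgroup G) T) (hcop : Nat.Coprime (orderOf n) p)
    (hE : EC E T n) : ∀ r ∈ Cfsg.pCore p G, ⁅r, n⁆ ∈ rz p T := by
  haveI := h.rz_normal
  haveI := Cfsg.Agent.Lib.Helper17.pCore_normal p G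
  intro r hr
  have hwR : ⁅r, n⁆ ∈ Cfsg.pCore p G := by
    rw [commutatorElement_def]
    have : r * n * r⁻¹ * n⁻¹ = r * (n * r⁻¹ * n⁻¹) := by group
    rw [this]
    exact Subgroup.mul_mem _ hr (Subgroup.Normal.conj_mem inferInstance _ (Subgroup.inv_mem _ hr) n)
  apply comm_mem_of_coprime (p := p) (rz p T) _ hcop
  · -- `[[r,n],n] ∈ R₀`
    set w := ⁅r, n⁆ with hw
    refine ⟨?_, ?_⟩
    · rw [commutatorElement_def]
      have : w * n * w⁻¹ * n⁻¹ = w * (n * w⁻¹ * n⁻¹) := by group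
      rw [this]
      exact Subgroup.mul_mem _ hwR (Subgroup.Normal.conj_mem inferInstance _ (Subgroup.inv_mem _ hwR) n)
    · -- `w` induces a map of `E` on `T`
      have hrS : r ∈ (S : Subgroup G) := h.RS hr
      have hrN : r ∈ Subgroup.normalizer (T : Set G) := h.normT hrS
      have hr_hom : conjHom T r ∈ (groupFusionSystem (S : Subgroup G)).Hom T :=
        (groupFusionSystem (S : Subgroup G)).conj_mem h.TS hrS
      have h1 : EC E T (r * n * r⁻¹) := by
        have := hE.conj h.SI le_rfl le_rfl (fun x hx => hE.conj_mem hx) hr_hom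
        rwa [cj, map_conj_of_mem_normalizer hrN] at this
      have h2 : EC E T n⁻¹ := by
        have := hE.inv
        rwa [cj, map_conj_of_mem_normalizer hn.1] at this
      have h3 : EC E T w := by
        have := h2.mul (fun x hx => h2.conj_mem hx) h1
        rw [hw, commutatorElement_def]
        exact this
      have hwS : w ∈ (S : Subgroup G) := h.RS hwR
      have hwN : w ∈ Subgroup.normalizer (T : Set G) := h.normT hwS
      obtain ⟨t, ht, htw⟩ := exists_mem_of_fullyAutomized h.Sp h.TS E h.T_fullyAutomized hwS hwN h3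
      set c := t⁻¹ * w with hc
      have hcS : c ∈ (S : Subgroup G) := Subgroup.mul_mem _ (Subgroup.inv_mem _ (h.TS ht)) hwS
      have hcc : ∀ x ∈ T, x * c = c * x := by
        intro x hx
        have := htw x hx
        calc x * c = t⁻¹ * (t * x * t⁻¹) * w := by rw [hc]; group
          _ = t⁻¹ * (w * x * w⁻¹) * w := by rw [this]
          _ = c * x := by rw [hc]; group
      have hcC : c ∈ centralizerIn (S : Subgroup G) T := mem_centralizerIn_iff.mpr ⟨hcS, hcc⟩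
      have hz := hn.2 c hcC
      set z := c⁻¹ * (n * c * n⁻¹) with hzdef
      have hwtc : w = t * c := by rw [hc]; group
      have e : ⁅w, n⁆ = t * (c * z⁻¹ * c⁻¹) * (n * t⁻¹ * n⁻¹) := by
        rw [hwtc, hzdef, commutatorElement_def]; group
      have e2 : c * z⁻¹ * c⁻¹ = z⁻¹ := by
        have := hcc z⁻¹ (T.inv_mem hz.1)
        rw [← this]; group
      rw [e, e2]
      have hnt : n * t⁻¹ * n⁻¹ ∈ T := (Subgroup.mem_normalizer_iff.mp hn.1 _).mp (T.inv_mem ht)
      exact T.mul_mem (T.mul_mem ht (T.inv_mem hz.1)) hnt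
  · obtain ⟨k, hk⟩ := (Cfsg.Agent.Lib.Helper17.pCore_isPGroup p G) ⟨⁅r, n⁆, hwR⟩
    refine ⟨k, ?_⟩
    have := congrArg Subtype.val hk
    simpa using this

/-- every element of `N_G(T)` inducing a map of `E` on `T` acts on `T` as an element of `Ĥ` -/
theorem exists_hhat_of_ec_T {g : G} (hg : g ∈ Subgroup.normalizer (T : Set G)) (hE : EC E T g) :
    ∃ k ∈ h.hhat, ∀ x ∈ T, k * x * k⁻¹ = g * x * g⁻¹ := by
  haveI : Finite ↥T := finite_of_le h.TS
  have hα := h.mem_autGroup_of_ec hg hE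
  -- the predicate
  have key : ∀ a : E.autGroup T, a ∈ pResidual p (E.autGroup T) →
      ∃ k ∈ h.hhat, ∀ x : T, (((a : MulAut T) x : T) : G) = k * x * k⁻¹ := by
    intro a ha
    unfold pResidual at ha
    induction ha using Subgroup.closure_induction with
    | mem b hb =>
      have hb' : Nat.Coprime (orderOf b) p := hb
      have hle := autGroup_le_of_subsystem E (groupFusionSystem (S : Subgroup G)) h.sub (le_refl T)
      have hord : orderOf (⟨(b : MulAut T), hle b.2⟩ : (groupFusionSystem (S : Subgroup G)).autGroup T) = orderOf b := by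
        rw [← Subgroup.orderOf_coe, ← Subgroup.orderOf_coe]
      obtain ⟨n₀, -, hn₀⟩ := exists_pprime_conj p h.TS
        (⟨(b : MulAut T), hle b.2⟩ : (groupFusionSystem (S : Subgroup G)).autGroup T) (by rw [hord]; exact hb')
      have hn₀N : n₀ ∈ Subgroup.normalizer (T : Set G) := mem_normalizer_of_aut (b : MulAut T) n₀ hn₀
      have hn₀E : EC E T n₀ := h.ec_of_mem_autGroup le_rfl b.2 hn₀
      obtain ⟨m, hm, hmT⟩ := h.exists_n1 hn₀N hn₀E
      have hbm : ∀ x : T, (((b : MulAut T) x : T) : G) = m * x * m⁻¹ := fun x => by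
        rw [hn₀ x, hmT x x.2]
      obtain ⟨k, hk1, hkcop⟩ := exists_pow_pprime p m (orderOf b) hb'
      have hbk : (b : MulAut T) ^ k = (b : MulAut T) := by
        have h1 : b ^ k = b := by
          have : b ^ k = b ^ 1 := (pow_eq_pow_iff_modEq).mpr hk1
          rw [this, pow_one]
        exact congrArg Subtype.val h1
      have hbmk : ∀ x : T, (((b : MulAut T) x : T) : G) = m ^ k * x * (m ^ k)⁻¹ := fun x => by
        have := aut_pow_apply_of_conj (b : MulAut T) m hbm k x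
        rw [hbk] at this
        exact this
      have hmkE : EC E T (m ^ k) := h.ec_of_mem_autGroup le_rfl b.2 hbmk
      have hmk1 : m ^ k ∈ n1Sub (S : Subgroup G) T := Subgroup.pow_mem _ hm k
      refine ⟨m ^ k, ⟨h.comm_mem_rz_of_n1 hmk1 hkcop hmkE, hmkE.mono h.rz_le_T⟩, hbmk⟩
    | one => exact ⟨1, h.hhat.one_mem, fun x => by simp⟩
    | mul a b _ _ iha ihb =>
      obtain ⟨ka, hka, hkax⟩ := iha
      obtain ⟨kb, hkb, hkbx⟩ := ihb
      refine ⟨ka * kb, h.hhat.mul_mem hka hkb, fun x => ?_⟩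
      show ((((a : MulAut T) ((b : MulAut T) x)) : T) : G) = _
      rw [hkax, hkbx]
      group
    | inv a _ iha =>
      obtain ⟨ka, hka, hkax⟩ := iha
      refine ⟨ka⁻¹, h.hhat.inv_mem hka, fun x => ?_⟩
      have h1 := hkax ((a : MulAut T)⁻¹ x)
      have h2 : (a : MulAut T) ((a : MulAut T)⁻¹ x) = x := by simp
      rw [h2] at h1
      show ((((a : MulAut T)⁻¹ x) : T) : G) = _
      rw [h1]
      group
  obtain ⟨β, hβ, s, hsT, hsN, hdec⟩ :=
    exists_mul_pResidual_autS h.Tp E h.sat (top_fullyNormalized E) ⟨_, hα⟩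
  obtain ⟨k, hk, hkx⟩ := key β hβ
  refine ⟨k * s, h.hhat.mul_mem hk (h.T_le_hhat hsT), fun x hx => ?_⟩
  have h1 : ((T.normalizerMonoidHom ⟨g, hg⟩ : MulAut T) ⟨x, hx⟩ : T) =
      ((β : MulAut T) * T.normalizerMonoidHom ⟨s, hsN⟩) ⟨x, hx⟩ := by
    have := hdec
    simp only at this
    rw [this]
  have h2 := congrArg Subtype.val h1
  rw [MulAut.mul_apply, hkx] at h2
  calc k * s * x * (k * s)⁻¹ = k * (s * x * s⁻¹) * k⁻¹ := by group
    _ = g * x * g⁻¹ := h2.symm

/-- every element inducing a map of `E` on `R₀` acts on `R₀` as an element of `Ĥ` -/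
theorem exists_hhat_of_ec_rz {g : G} (hE : EC E (rz p T) g) :
    ∃ k ∈ h.hhat, ∀ r ∈ rz p T, k * r * k⁻¹ = g * r * g⁻¹ := by
  haveI := h.hhat_normal
  haveI := h.rz_normal
  haveI : Finite ↥T := finite_of_le h.TS
  obtain ⟨SK, hSK⟩ := h.exists_sylow_hhat
  have hfrat := Sylow.normalizer_sup_eq_top SK
  have hmap : (SK : Subgroup h.hhat).map h.hhat.subtype = (S : Subgroup G) ⊓ h.hhat := by
    rw [hSK, Subgroup.subgroupOf_map_subtype]
  rw [hmap] at hfrat
  have hg : g ∈ Subgroup.normalizer (((S : Subgroup G) ⊓ h.hhat : Subgroup G) : Set G) ⊔ h.hhat := by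
    rw [hfrat]; exact Subgroup.mem_top g
  obtain ⟨n, hn, k₁, hk₁, rfl⟩ := Subgroup.mem_sup_of_normal_right.mp hg
  have hnorm : ∀ x : G, x ∈ Subgroup.normalizer ((rz p T : Subgroup G) : Set G) := fun x => by
    rw [Subgroup.normalizer_eq_top]; exact Subgroup.mem_top x
  have hrzconj : ∀ (x : G), ∀ r ∈ rz p T, x * r * x⁻¹ ∈ rz p T := fun x r hr =>
    Subgroup.Normal.conj_mem inferInstance r hr x
  -- `n` induces a map of `E` on `R₀`
  have hnE : EC E (rz p T) n := by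
    have h1 : EC E (rz p T) k₁⁻¹ := (h.hhat.inv_mem hk₁).2
    have h2 := h1.mul (hrzconj k₁⁻¹) hE
    have e : n * k₁ * k₁⁻¹ = n := by group
    rwa [e] at h2
  have hnT : ∀ t ∈ T, n * t * n⁻¹ ∈ T := by
    intro t ht
    have htSH : t ∈ (S : Subgroup G) ⊓ h.hhat := ⟨h.TS ht, h.T_le_hhat ht⟩
    have := (Subgroup.mem_normalizer_iff.mp hn t).mp htSH
    exact h.conj_mem_T ht this.1
  have hrec := saturated_fn_receptive h.Tp E h.sat h.rz_fullyNormalized
  obtain ⟨g', hg'E, hg'n⟩ := exists_ec_extension h.sub hrec hnE (hnorm n) h.rz_le_T le_rfl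
    (fun x _ => hnorm x) hnT
  have hg'N : g' ∈ Subgroup.normalizer (T : Set G) :=
    mem_normalizer_of_conj_mem_finite (fun y hy => hg'E.conj_mem hy)
  obtain ⟨k₂, hk₂, hk₂T⟩ := h.exists_hhat_of_ec_T hg'N hg'E
  refine ⟨k₂ * k₁, h.hhat.mul_mem hk₂ hk₁, fun r hr => ?_⟩
  have hr' : k₁ * r * k₁⁻¹ ∈ rz p T := hrzconj k₁ r hr
  calc k₂ * k₁ * r * (k₂ * k₁)⁻¹ = k₂ * (k₁ * r * k₁⁻¹) * k₂⁻¹ := by group
    _ = g' * (k₁ * r * k₁⁻¹) * g'⁻¹ := hk₂T _ (h.rz_le_T hr')
    _ = n * (k₁ * r * k₁⁻¹) * n⁻¹ := hg'n _ hr'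
    _ = n * k₁ * r * (n * k₁)⁻¹ := by group

/-- every element inducing a map of `E` on `R₀` acts on `R₀` as an element of `H` -/
theorem exists_hh_of_ec_rz {g : G} (hE : EC E (rz p T) g) :
    ∃ v ∈ h.hh, ∀ r ∈ rz p T, v * r * v⁻¹ = g * r * g⁻¹ := by
  obtain ⟨k, hk, hkr⟩ := h.exists_hhat_of_ec_rz hE
  obtain ⟨v, hv, x, -, hxc, rfl⟩ := h.exists_mul_hh_of_mem_hhat hk
  refine ⟨v, hv, fun r hr => ?_⟩
  rw [← hkr r hr]
  have := hxc r hr
  calc v * r * v⁻¹ = v * (r * x) * x⁻¹ * v⁻¹ := by group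
    _ = v * (x * r) * x⁻¹ * v⁻¹ := by rw [this]
    _ = v * x * r * (v * x)⁻¹ := by group

end Setup

end Cfsg.Agent.Lib.Helper26.NSub
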