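import Cfsg.Agent.Lib.Helper26.SubConA
import Cfsg.Agent.Lib.Helper26.ModelE
import Cfsg.Agent.Lib.Helper26.FSFactorHyp
set_option autoImplicit false

/-!
A saturated subsystem, over a strongly closed subgroup, of a constrained fusion system is constrained.
-/

namespace Cfsg.Agent.Lib.Helper26.SubCon

open Cfsg Cfsg.FusionSystem Cfsg.Agent.Lib.Helper26
open scoped commutatorElement

variable {Ω : Type*} [Group Ω] {S : Subgroup Ω}

/-- `Q ∩ T` lies in every centric radical subgroup of a subsystem over the strongly closed subgroup `T`, for `Q ⊴ F`. -/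
theorem inf_le_of_centric_radical [Finite S] {p : ℕ} [Fact p.Prime] (hS : IsPGroup p S) (F : FusionSystem S)
    {Q T : Subgroup Ω} (hQ : F.IsNormal Q) (hT : F.StronglyClosed T) (E : FusionSystem T)
    (hEF : E.IsSubsystemOf F) {D : Subgroup Ω} (hc : E.IsCentric D) (hr : E.IsRadical p D) : Q ⊓ T ≤ D := by
  by_contra hRD
  have hDT : D ≤ T := hc.1
  have hTS : T ≤ S := hT.1
  have hDS : D ≤ S := hDT.trans hTS
  set W : Subgroup Ω := (D ⊔ Q) ⊓ T with hW
  have hWT : W ≤ T := inf_le_right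
  have hWS : W ≤ S := hWT.trans hTS
  have hDW : D ≤ W := le_inf le_sup_left hDT
  have hRW : Q ⊓ T ≤ W := le_inf (inf_le_left.trans le_sup_right) inf_le_right
  have hfin : Finite ↥W := finite_of_le hWS
  have hpg : IsPGroup p ↥W := hS.to_le hWS
  have hne : D ≠ W := fun h => hRD (h ▸ hRW)
  obtain ⟨g, hgN, hgD⟩ := exists_mem_normalizerIn_not_mem hpg hDW hne
  have hgW : g ∈ W := normalizerIn_le _ _ hgN
  have hgN' : g ∈ Subgroup.normalizer (D : Set Ω) := hgN.2
  let B : Subgroup (MulAut D) := autInducedBy W D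
  have hBle : B ≤ E.autGroup D := by
    intro α hα
    obtain ⟨k, hk, hkα⟩ := (mem_autInducedBy_iff _ _ α).mp hα
    exact autInducedBy_le_autGroup E hDT ((mem_autInducedBy_iff _ _ α).mpr ⟨k, hWT hk, hkα⟩)
  have hBp : IsPGroup p B := autInducedBy_isPGroup hpg D
  have hBn : (B.subgroupOf (E.autGroup D)).Normal := by
    constructor
    intro β hβ α
    rw [Subgroup.mem_subgroupOf] at hβ ⊢
    obtain ⟨k, hk, hkN, hkβ⟩ := (mem_autInducedBy_iff' _ _ _).mp hβ
    have hαE := (mem_autGroup_iff E hDT (α : MulAut D)).mp α.2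
    have hαF := hEF D hαE
    obtain ⟨ψ, hψ, hψα, hψQ⟩ := hQ.2 D _ hαF
    have hkDQ : k ∈ D ⊔ Q := hk.1
    have hψk : ψ ⟨k, hkDQ⟩ ∈ W := by
      refine ⟨?_, ?_⟩
      · have := ext_apply_mem_sup _ ψ hψα hψQ ⟨k, hkDQ⟩
        have hrng : (D.subtype.comp (((α : MulAut D) : D ≃* D).toMonoidHom)).range = D :=
          equivHom_range _
        rw [hrng] at this
        exact this
      · have hWDQ : W ≤ D ⊔ Q := inf_le_left
        have h1 := inclusion_comp_mem F hWDQ hψ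
        exact hT.2 W hWT _ h1 ⟨k, hk⟩
    rw [mem_autInducedBy_iff]
    refine ⟨ψ ⟨k, hkDQ⟩, hψk, fun x => ?_⟩
    show (((α : MulAut D) ((β : MulAut D) ((α : MulAut D)⁻¹ x)) : D) : Ω) = _
    rw [hkβ]
    set y : D := (α : MulAut D)⁻¹ x with hy
    have hky : k * (y : Ω) * k⁻¹ ∈ D := (Subgroup.mem_normalizer_iff.mp hkN _).mp y.2
    have h1 : (D.normalizerMonoidHom ⟨k, hkN⟩) y = ⟨k * y * k⁻¹, hky⟩ := Subtype.ext rfl
    rw [h1]
    have h2 := hψα ⟨k * y * k⁻¹, hky⟩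
    have h3 : (Subgroup.inclusion (le_sup_left : D ≤ D ⊔ Q) ⟨k * y * k⁻¹, hky⟩) =
        ⟨k, hkDQ⟩ * Subgroup.inclusion le_sup_left y * ⟨k, hkDQ⟩⁻¹ := Subtype.ext rfl
    rw [h3, map_mul, map_mul, map_inv, hψα y] at h2
    have h4 : ((α : MulAut D) y : D) = x := by rw [hy]; simp
    have h5 : (D.subtype.comp (((α : MulAut D) : D ≃* D).toMonoidHom)) y = (x : Ω) := by
      show (((α : MulAut D) y : D) : Ω) = x
      rw [h4]
    rw [h5] at h2
    exact h2.symm
  have hBinn : B ≤ Inn D := by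
    have h1 : B.subgroupOf (E.autGroup D) ≤ pCore p (E.autGroup D) :=
      le_sSup ⟨hBn, hBp.comap_subtype⟩
    intro β hβ
    rw [← hr.2]
    exact ⟨⟨β, hBle hβ⟩, h1 hβ, rfl⟩
  have hβ : D.normalizerMonoidHom ⟨g, hgN'⟩ ∈ B := normalizerMonoidHom_mem_autInducedBy hgW hgN'
  exact hgD (mem_of_normalizerMonoidHom_mem_inn E hc (hWT hgW) hgN' (hBinn hβ))

/-- **A saturated subsystem, over a strongly closed subgroup, of a constrained system is constrained.** -/
theorem constrained_of_subsystem [Finite S] {p : ℕ} [Fact p.Prime] (hS : IsPGroup p S) (F : FusionSystem S)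
    (hF : F.IsConstrained p) {T : Subgroup Ω} (hT : F.StronglyClosed T) (E : FusionSystem T)
    (hE : E.IsSaturated p) (hEF : E.IsSubsystemOf F) : E.IsConstrained p := by
  obtain ⟨Q₀, hfinQ₀, h, hM⟩ := ModelThm.exists_model hS F hF
  have hM' := hM
  obtain ⟨hfin, hreal, ⟨Syl, hSyl⟩, hcent⟩ := hM
  have hOn : (pCore p (ModelThm.Mdl h)).Normal := Cfsg.Agent.Lib.Helper17.pCore_normal p _
  have hOT : pCore p (ModelThm.Mdl h) ≤ (ModelThm.mIota h).range :=
    hSyl ▸ Cfsg.Agent.Lib.Helper16.pCore_le_sylow Syl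
  set ι := ModelThm.mIota h with hι
  set O := pCore p (ModelThm.Mdl h) with hO
  set Q := pullSub ι O with hQdef
  have hQn : F.IsNormal Q := isNormal_pullSub_of_realized F ι hreal O hOT
  have hQS : Q ≤ S := hQn.1
  have hTS : T ≤ S := hT.1
  have hTfin : Finite ↥T := finite_of_le hTS
  have hTp : IsPGroup p ↥T := hS.to_le hTS
  set R := Q ⊓ T with hR
  have hRscF : F.StronglyClosed R :=
    ⟨inf_le_left.trans hQS, fun P hPR φ hφ x =>
      ⟨(stronglyClosed_of_isNormal F hQn).2 P (hPR.trans inf_le_left) φ hφ x,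
        hT.2 P (hPR.trans inf_le_right) φ hφ x⟩⟩
  have hRnF : F.IsNormal R :=
    (isNormal_iff_stronglyClosed_le_centric_radical hS F hF.1 R).mpr
      ⟨hRscF, fun P hc hr => inf_le_left.trans (le_of_isNormal_of_centric_radical hS F hQn hc hr)⟩
  have hRscE : E.StronglyClosed R :=
    ⟨inf_le_right, fun P hPR φ hφ x => hRscF.2 P hPR φ (hEF P hφ) x⟩
  have hRnE : E.IsNormal R :=
    (isNormal_iff_stronglyClosed_le_centric_radical hTp E hE R).mpr
      ⟨hRscE, fun D hc hr => inf_le_of_centric_radical hS F hQn hT E hEF hc hr⟩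
  refine ⟨hE, R, hRnE, inf_le_right, ?_⟩
  rintro R' ⟨φ, hφ, rfl⟩
  have hRfin : Finite ↥R := finite_of_le (inf_le_right.trans hTS)
  have hrange : φ.range = R :=
    range_eq_of_le φ (E.injective_of_mem hφ) (fun x => hRscE.2 R le_rfl φ hφ x)
  rw [hrange]
  intro c hc
  obtain ⟨hcT, hcR⟩ := mem_centralizerIn_iff.mp hc
  have hcS : c ∈ S := hTS hcT
  refine ⟨?_, hcT⟩
  -- `c ∈ Q`
  have hSQ : S ≤ Subgroup.normalizer (Q : Set Ω) :=
    le_normalizer_of_stronglyClosed F (stronglyClosed_of_isNormal F hQn)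
  have hST : S ≤ Subgroup.normalizer (T : Set Ω) := le_normalizer_of_stronglyClosed F hT
  haveI hRhatN : ((R.subgroupOf S).map ι).Normal := ModelThm.map_normal_of_isNormal hM' hRnF
  have hRhatO : (R.subgroupOf S).map ι ≤ O := by
    rintro _ ⟨x, hx, rfl⟩
    have hxR : (x : Ω) ∈ R := hx
    exact (mem_pullSub ι O x).mp hxR.1
  have hmem : ι ⟨c, hcS⟩ ∈ stabSub O ((R.subgroupOf S).map ι) := by
    rw [mem_stabSub]
    constructor
    · rintro _ ⟨x, hx, rfl⟩
      have hxR : (x : Ω) ∈ R := hx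
      have := hcR x hxR
      rw [← map_mul, ← map_mul]
      congr 1
      exact Subtype.ext this.symm
    · intro u hu
      obtain ⟨q, rfl⟩ := hOT hu
      have hqQ : (q : Ω) ∈ Q := (mem_pullSub ι O q).mpr hu
      have e : ⁅ι q, ι ⟨c, hcS⟩⁆ = ι ⁅q, ⟨c, hcS⟩⁆ := by
        simp only [commutatorElement_def, map_mul, map_inv]
      rw [e]
      refine ⟨⁅q, ⟨c, hcS⟩⁆, ?_, rfl⟩
      show ((⁅q, ⟨c, hcS⟩⁆ : ↥S) : Ω) ∈ R
      have e2 : ((⁅q, ⟨c, hcS⟩⁆ : ↥S) : Ω) = (q : Ω) * c * (q : Ω)⁻¹ * c⁻¹ := by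
        simp [commutatorElement_def]
      rw [e2]
      constructor
      · have h1 : c * (q : Ω)⁻¹ * c⁻¹ ∈ Q :=
          (Subgroup.mem_normalizer_iff.mp (hSQ hcS) _).mp (Q.inv_mem hqQ)
        have := Q.mul_mem hqQ h1
        have e3 : (q : Ω) * (c * (q : Ω)⁻¹ * c⁻¹) = (q : Ω) * c * (q : Ω)⁻¹ * c⁻¹ := by group
        rwa [e3] at this
      · have h1 : (q : Ω) * c * (q : Ω)⁻¹ ∈ T :=
          (Subgroup.mem_normalizer_iff.mp (hST q.2) _).mp hcT
        exact T.mul_mem h1 (T.inv_mem hcT)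
  have := stabSub_le_pCore hcent ((R.subgroupOf S).map ι) hRhatO hmem
  exact (mem_pullSub ι O ⟨c, hcS⟩).mpr this

end Cfsg.Agent.Lib.Helper26.SubCon
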