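import Cfsg.Agent.Lib.Helper26.NSubE
import Cfsg.Agent.Lib.Helper26.SubConB
set_option autoImplicit false
set_option linter.unusedSectionVars false
set_option linter.style.haveILetI false

/-!
Normal subsystems of the fusion system of a group of characteristic `p`: `E = F_T(H)`.
-/

namespace Cfsg.Agent.Lib.Helper26.NSub

open Cfsg Cfsg.FusionSystem Cfsg.Agent.Lib.Helper26
open scoped commutatorElement

variable {G : Type*} [Group G] [Finite G]
variable {p : ℕ} [Fact p.Prime] {S : Sylow p G} {T : Subgroup G} {E : FusionSystem T}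

namespace Setup

variable (h : Setup p S T E)
include h

/-- the subgroup of the elements of `N_G(U)` acting on `U` as elements of `H` -/
def actK (U : Subgroup G) : Subgroup G where
  carrier := {g | g ∈ Subgroup.normalizer (U : Set G) ∧ ∃ w ∈ h.hh, ∀ u ∈ U, w * u * w⁻¹ = g * u * g⁻¹}
  one_mem' := ⟨Subgroup.one_mem _, 1, h.hh.one_mem, fun u _ => rfl⟩
  mul_mem' := by
    rintro a b ⟨ha, wa, hwa, hwau⟩ ⟨hb, wb, hwb, hwbu⟩
    refine ⟨Subgroup.mul_mem _ ha hb, wa * wb, h.hh.mul_mem hwa hwb, fun u hu => ?_⟩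
    have hbu : b * u * b⁻¹ ∈ U := (Subgroup.mem_normalizer_iff.mp hb u).mp hu
    calc wa * wb * u * (wa * wb)⁻¹ = wa * (wb * u * wb⁻¹) * wa⁻¹ := by group
      _ = wa * (b * u * b⁻¹) * wa⁻¹ := by rw [hwbu u hu]
      _ = a * (b * u * b⁻¹) * a⁻¹ := hwau _ hbu
      _ = a * b * u * (a * b)⁻¹ := by group
  inv_mem' := by
    rintro a ⟨ha, wa, hwa, hwau⟩
    refine ⟨Subgroup.inv_mem _ ha, wa⁻¹, h.hh.inv_mem hwa, fun u hu => ?_⟩
    have hau : a⁻¹ * u * a⁻¹⁻¹ ∈ U :=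
      (Subgroup.mem_normalizer_iff.mp (Subgroup.inv_mem _ ha) u).mp hu
    have h1 := hwau _ hau
    have h2 : a * (a⁻¹ * u * a⁻¹⁻¹) * a⁻¹ = u := by group
    rw [h2] at h1
    calc wa⁻¹ * u * wa⁻¹⁻¹ = wa⁻¹ * (wa * (a⁻¹ * u * a⁻¹⁻¹) * wa⁻¹) * wa := by rw [h1]; group
      _ = a⁻¹ * u * a⁻¹⁻¹ := by group

/-- **Lemma P**: a `p'`-element normalizing `U ≥ R₀` and inducing a map of `E` on `R₀` acts on `U` as an element of `H` -/
theorem exists_hh_of_pprime {U : Subgroup G} (hRU : rz p T ≤ U) (hUT : U ≤ T) {n : G}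
    (hnN : n ∈ Subgroup.normalizer (U : Set G)) (hcop : Nat.Coprime (orderOf n) p) (hE : EC E (rz p T) n) :
    ∃ v ∈ h.hh, ∀ u ∈ U, v * u * v⁻¹ = n * u * n⁻¹ := by
  haveI := h.rz_normal
  haveI := h.hh_normal
  haveI : Finite ↥U := finite_of_le (hUT.trans h.TS)
  obtain ⟨v, hv, hvr⟩ := h.exists_hh_of_ec_rz hE
  set c := v⁻¹ * n with hc
  have hnvc : n = v * c := by rw [hc]; group
  have hcr : ∀ r ∈ rz p T, c * r * c⁻¹ = r := by
    intro r hr
    calc c * r * c⁻¹ = v⁻¹ * (n * r * n⁻¹) * v := by rw [hc]; group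
      _ = v⁻¹ * (v * r * v⁻¹) * v := by rw [hvr r hr]
      _ = r := by group
  have hcr' : ∀ r ∈ rz p T, c⁻¹ * r * c = r := by
    intro r hr
    have := hcr r hr
    calc c⁻¹ * r * c = c⁻¹ * (c * r * c⁻¹) * c := by rw [this]
      _ = r := by group
  have hz : ∀ u ∈ U, u⁻¹ * (c * u * c⁻¹) ∈ rz p T := by
    intro u hu
    have hnu : n * u * n⁻¹ ∈ U := (Subgroup.mem_normalizer_iff.mp hnN u).mp hu
    have h1 : c * u * c⁻¹ ∈ h.hh := by
      have e : c * u * c⁻¹ = v⁻¹ * (n * u * n⁻¹) * v := by rw [hc]; group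
      rw [e]
      exact h.hh.mul_mem (h.hh.mul_mem (h.hh.inv_mem hv) (h.T_le_hh (hUT hnu))) hv
    have h2 : u⁻¹ * (c * u * c⁻¹) ∈ h.hh := h.hh.mul_mem (h.hh.inv_mem (h.T_le_hh (hUT hu))) h1
    apply h.mem_rz_of_centralizes h2
    intro r hr
    have hr1 : u * r * u⁻¹ ∈ rz p T := Subgroup.Normal.conj_mem inferInstance r hr u
    have e1 := hcr' r hr
    have e2 := hcr _ hr1
    -- `z r z⁻¹ = r`
    have : u⁻¹ * (c * u * c⁻¹) * r * (u⁻¹ * (c * u * c⁻¹))⁻¹ = r := by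
      calc u⁻¹ * (c * u * c⁻¹) * r * (u⁻¹ * (c * u * c⁻¹))⁻¹
          = u⁻¹ * (c * (u * (c⁻¹ * r * c) * u⁻¹) * c⁻¹) * u := by group
        _ = u⁻¹ * (c * (u * r * u⁻¹) * c⁻¹) * u := by rw [e1]
        _ = u⁻¹ * (u * r * u⁻¹) * u := by rw [e2]
        _ = r := by group
    calc u⁻¹ * (c * u * c⁻¹) * r
        = (u⁻¹ * (c * u * c⁻¹) * r * (u⁻¹ * (c * u * c⁻¹))⁻¹) * (u⁻¹ * (c * u * c⁻¹)) := by group
      _ = r * (u⁻¹ * (c * u * c⁻¹)) := by rw [this]
  have hcN : c ∈ Subgroup.normalizer (U : Set G) := by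
    apply mem_normalizer_of_conj_mem_finite
    intro u hu
    have : c * u * c⁻¹ = u * (u⁻¹ * (c * u * c⁻¹)) := by group
    rw [this]
    exact U.mul_mem hu (hRU (hz u hu))
  have hvN : v ∈ Subgroup.normalizer (U : Set G) := by
    have : v = n * c⁻¹ := by rw [hc]; group
    rw [this]
    exact Subgroup.mul_mem _ hnN (Subgroup.inv_mem _ hcN)
  haveI : Finite ↥(rz p T) := finite_of_le h.rz_le_S
  have hmem : v * c ∈ h.actK U := by
    apply mem_of_mul_coprime (q := Nat.card ↥(rz p T))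
    · exact ⟨hvN, v, hv, fun u _ => rfl⟩
    · rintro k ⟨hkN, w, hw, hwu⟩
      refine ⟨Subgroup.mul_mem _ (Subgroup.mul_mem _ hcN hkN) (Subgroup.inv_mem _ hcN), c * w * c⁻¹,
        Subgroup.Normal.conj_mem inferInstance w hw c, fun u hu => ?_⟩
      have hcu : c⁻¹ * u * c⁻¹⁻¹ ∈ U := (Subgroup.mem_normalizer_iff.mp (Subgroup.inv_mem _ hcN) u).mp hu
      have := hwu _ hcu
      calc c * w * c⁻¹ * u * (c * w * c⁻¹)⁻¹ = c * (w * (c⁻¹ * u * c⁻¹⁻¹) * w⁻¹) * c⁻¹ := by group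
        _ = c * (k * (c⁻¹ * u * c⁻¹⁻¹) * k⁻¹) * c⁻¹ := by rw [this]
        _ = c * k * c⁻¹ * u * (c * k * c⁻¹)⁻¹ := by group
    · refine ⟨Subgroup.pow_mem _ hcN _, 1, h.hh.one_mem, fun u hu => ?_⟩
      rw [pow_card_conj_of_chain hcr (hz u hu)]
      group
    · rw [← hnvc]
      obtain ⟨a, ha⟩ := IsPGroup.iff_card.mp (h.Tp.to_le h.rz_le_T)
      rw [ha]
      exact Nat.Coprime.pow_left a hcop.symm
  rw [← hnvc] at hmem
  exact hmem.2

/-- reduction of a statement on `Aut_E(U)` (`U` fully normalized) to the `p'`-elements -/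
theorem forall_autGroup_of_pprime {U : Subgroup G} (hfn : E.IsFullyNormalized U) (K : Subgroup G) (hTK : T ≤ K)
    (hgen : ∀ n : G, n ∈ Subgroup.normalizer (U : Set G) → Nat.Coprime (orderOf n) p → EC E U n →
      ∃ k ∈ K, ∀ u ∈ U, k * u * k⁻¹ = n * u * n⁻¹) :
    ∀ α ∈ E.autGroup U, ∃ k ∈ K, ∀ x : U, ((α x : U) : G) = k * x * k⁻¹ := by
  haveI : Finite ↥T := finite_of_le h.TS
  have hUT : U ≤ T := hfn.1
  have key : ∀ a : E.autGroup U, a ∈ pResidual p (E.autGroup U) →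
      ∃ k ∈ K, ∀ x : U, (((a : MulAut U) x : U) : G) = k * x * k⁻¹ := by
    intro a ha
    unfold pResidual at ha
    induction ha using Subgroup.closure_induction with
    | mem b hb =>
      have hb' : Nat.Coprime (orderOf b) p := hb
      have hle := autGroup_le_of_subsystem E (groupFusionSystem (S : Subgroup G)) h.sub hUT
      have hord : orderOf (⟨(b : MulAut U), hle b.2⟩ : (groupFusionSystem (S : Subgroup G)).autGroup U) = orderOf b := by
        rw [← Subgroup.orderOf_coe, ← Subgroup.orderOf_coe]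
      obtain ⟨n₀, hn₀cop, hn₀⟩ := exists_pprime_conj p (hUT.trans h.TS)
        (⟨(b : MulAut U), hle b.2⟩ : (groupFusionSystem (S : Subgroup G)).autGroup U) (by rw [hord]; exact hb')
      have hn₀N : n₀ ∈ Subgroup.normalizer (U : Set G) := mem_normalizer_of_aut (b : MulAut U) n₀ hn₀
      have hn₀E : EC E U n₀ := h.ec_of_mem_autGroup hUT b.2 hn₀
      obtain ⟨k, hk, hku⟩ := hgen n₀ hn₀N hn₀cop hn₀E
      exact ⟨k, hk, fun x => by rw [hn₀ x, hku x x.2]⟩
    | one => exact ⟨1, K.one_mem, fun x => by simp⟩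
    | mul a b _ _ iha ihb =>
      obtain ⟨ka, hka, hkax⟩ := iha
      obtain ⟨kb, hkb, hkbx⟩ := ihb
      refine ⟨ka * kb, K.mul_mem hka hkb, fun x => ?_⟩
      show ((((a : MulAut U) ((b : MulAut U) x)) : U) : G) = _
      rw [hkax, hkbx]
      group
    | inv a _ iha =>
      obtain ⟨ka, hka, hkax⟩ := iha
      refine ⟨ka⁻¹, K.inv_mem hka, fun x => ?_⟩
      have h1 := hkax ((a : MulAut U)⁻¹ x)
      have h2 : (a : MulAut U) ((a : MulAut U)⁻¹ x) = x := by simp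
      rw [h2] at h1
      show ((((a : MulAut U)⁻¹ x) : U) : G) = _
      rw [h1]
      group
  intro α hα
  obtain ⟨β, hβ, s, hsT, hsN, hdec⟩ := exists_mul_pResidual_autS h.Tp E h.sat hfn ⟨α, hα⟩
  obtain ⟨k, hk, hkx⟩ := key β hβ
  refine ⟨k * s, K.mul_mem hk (hTK hsT), fun x => ?_⟩
  have h1 : (α x : U) = ((β : MulAut U) * U.normalizerMonoidHom ⟨s, hsN⟩) x := by
    have := hdec
    simp only at this
    rw [this]
  have h2 := congrArg Subtype.val h1
  rw [MulAut.mul_apply, hkx] at h2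
  rw [h2]
  show k * (s * x * s⁻¹) * k⁻¹ = _
  group

/-- `E ⊆ F_T(H)` -/
theorem hom_subset (P : Subgroup G) : E.Hom P ⊆ (fusionSystemOfSubgroup h.hh T h.T_le_hh).Hom P := by
  haveI : Finite ↥T := finite_of_le h.TS
  haveI := Cfsg.Agent.Lib.Helper17.pCore_normal p G
  have hRn : (groupFusionSystem (S : Subgroup G)).IsNormal (Cfsg.pCore p G) :=
    groupFS_isNormal_of_normal S _ (Cfsg.Agent.Lib.Helper17.pCore_isPGroup p G)
  apply alperin h.Tp E h.sat (fusionSystemOfSubgroup h.hh T h.T_le_hh)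
  intro U hU α hα
  have hfn : E.IsFullyNormalized U := by
    rcases hU with rfl | hU
    · exact top_fullyNormalized E
    · exact hU.2.1
  have hUT : U ≤ T := hfn.1
  have hRU : rz p T ≤ U := by
    rcases hU with rfl | hU
    · exact h.rz_le_T
    · exact SubCon.inf_le_of_centric_radical h.Sp _ hRn h.sc E h.sub hU.1 (radical_of_essential h.Tp E U hU)
  obtain ⟨k, hk, hkx⟩ := h.forall_autGroup_of_pprime hfn h.hh h.T_le_hh
    (fun n hnN hcop hnE => h.exists_hh_of_pprime hRU hUT hnN hcop (hnE.mono hRU)) α hα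
  rw [mem_autGroup_iff _ hUT]
  exact ⟨hUT, fun x => hUT (α x).2, k, hk, hkx⟩

/-- `F_T(H) ⊆ E` -/
theorem ec_of_mem_hh {P : Subgroup G} (hPT : P ≤ T) {v : G} (hv : v ∈ h.hh)
    (hvP : ∀ x ∈ P, v * x * v⁻¹ ∈ T) : EC E P v := by
  haveI := h.rz_normal
  haveI : Finite ↥T := finite_of_le h.TS
  have hnorm : ∀ x : G, x ∈ Subgroup.normalizer ((rz p T : Subgroup G) : Set G) := fun x => by
    rw [Subgroup.normalizer_eq_top]; exact Subgroup.mem_top x
  set P' := P ⊔ rz p T with hP'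
  have hP'T : P' ≤ T := sup_le hPT h.rz_le_T
  have hvP' : ∀ x ∈ P', v * x * v⁻¹ ∈ T := by
    have hle : P' ≤ T.comap (MulAut.conj v).toMonoidHom := by
      apply sup_le
      · intro x hx
        exact hvP x hx
      · intro x hx
        exact h.rz_le_T (Subgroup.Normal.conj_mem inferInstance x hx v)
    intro x hx
    exact hle hx
  have hvE : EC E (rz p T) v := (h.hh_le_hhat hv).2
  have hrec := saturated_fn_receptive h.Tp E h.sat h.rz_fullyNormalized
  obtain ⟨g, hgE, hgv⟩ := exists_ec_extension h.sub hrec hvE (hnorm v) le_sup_right hP'T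
    (fun x _ => hnorm x) hvP'
  obtain ⟨-, -, v', hv', hv'g⟩ := h.hom_subset P' hgE
  have hv'g' : ∀ x ∈ P', g * x * g⁻¹ = v' * x * v'⁻¹ := fun x hx => hv'g ⟨x, hx⟩
  set z := v'⁻¹ * v with hz
  have hzH : z ∈ h.hh := h.hh.mul_mem (h.hh.inv_mem hv') hv
  have hzR : z ∈ rz p T := by
    apply h.mem_rz_of_centralizes hzH
    intro r hr
    have h1 := hgv r hr
    have h2 := hv'g' r (le_sup_right (a := P) hr)
    calc z * r = v'⁻¹ * (v * r * v⁻¹) * v := by rw [hz]; group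
      _ = v'⁻¹ * (v' * r * v'⁻¹) * v := by rw [← h1, h2]
      _ = r * z := by rw [hz]; group
  have hv'E : EC E P' v' := by
    have e : conjHom P' v' = conjHom P' g := by
      ext x
      exact (hv'g x).symm
    unfold EC
    rw [e]
    exact hgE
  have hzE : EC E P' z := ec_of_mem E hP'T (h.rz_le_T hzR)
  have hzP' : ∀ x ∈ P', z * x * z⁻¹ ∈ P' := by
    intro x hx
    have hzP : z ∈ P' := le_sup_right (a := P) hzR
    exact P'.mul_mem (P'.mul_mem hzP hx) (P'.inv_mem hzP)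
  have := hzE.mul hzP' hv'E
  have e : v' * z = v := by rw [hz]; group
  rw [e] at this
  exact this.mono le_sup_left

/-- **`E = F_T(H)`** -/
theorem hom_eq (P : Subgroup G) : E.Hom P = (fusionSystemOfSubgroup h.hh T h.T_le_hh).Hom P := by
  apply Set.Subset.antisymm (h.hom_subset P)
  rintro φ ⟨hPT, hφT, v, hv, hφ⟩
  have e : φ = conjHom P v := eq_conjHom_of_forall hφ
  rw [e]
  apply h.ec_of_mem_hh hPT hv
  intro x hx
  have := hφT ⟨x, hx⟩
  rw [hφ] at this
  exact this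

end Setup

end Cfsg.Agent.Lib.Helper26.NSub
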