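import Cfsg.Agent.Lib.Helper26.PPI9
import Cfsg.Agent.Lib.Helper26.FSFocal
import Cfsg.Agent.Lib.Helper26.FSPResidualGroup
import Cfsg.Agent.Lib.Helper27.FSPPowerIndex

/-!
# Existence and uniqueness of the saturated subsystems of `p`-power index (helper26)

The index `p` step from the characteristic biset, then a chain of such steps.
-/

set_option autoImplicit false
set_option linter.unusedSectionVars false
set_option linter.unusedVariables false
set_option linter.style.haveILetI false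

namespace Cfsg.Agent.Lib.Helper26.PPI

open Cfsg Cfsg.FusionSystem Cfsg.Agent.Lib.Helper26 Cfsg.Agent.Lib.Helper27.FM
open Cfsg.Agent.Lib.Helper27.BS MulAction
open scoped commutatorElement

universe u

variable {Ω : Type u} [Group Ω] {S : Subgroup Ω}
variable {A : Type*} [CommGroup A]
variable {p : ℕ}

/-- a homomorphism to a commutative group whose kernel contains the hyperfocal subgroup is constant on classes -/
theorem pStable_of_hyp_le [Finite S] [Fact p.Prime] (hS : IsPGroup p S) (F : FusionSystem S) (hF : F.IsSaturated p)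
    (π : ↥S →* A) (h : F.hyperfocalSubgroup p ≤ kerSub π) : PStable F π := by
  have hcomm : ⁅S, S⁆ ≤ kerSub π := by
    rw [Subgroup.commutator_le]
    intro a ha b hb
    rw [mem_kerSub]
    refine ⟨S.mul_mem (S.mul_mem (S.mul_mem ha hb) (S.inv_mem ha)) (S.inv_mem hb), ?_⟩
    have h1 : (⟨⁅a, b⁆, S.mul_mem (S.mul_mem (S.mul_mem ha hb) (S.inv_mem ha)) (S.inv_mem hb)⟩ : ↥S) =
        ⟨a, ha⟩ * ⟨b, hb⟩ * ⟨a, ha⟩⁻¹ * ⟨b, hb⟩⁻¹ := rfl
    rw [h1, map_mul, map_mul, map_mul, map_inv, map_inv, mul_comm (π ⟨a, ha⟩), mul_inv_cancel_right,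
      mul_inv_cancel]
  have hfoc : F.focalSubgroup ≤ kerSub π := by
    rw [focal_eq hS F hF]
    exact sup_le h hcomm
  intro P θ hθ a a' ha ha'
  obtain ⟨φ, hφ, he⟩ := hθ
  have h1 : (a : Ω)⁻¹ * φ ⟨a, ha⟩ ∈ kerSub π := hfoc (mem_focal_of F hφ ⟨a, ha⟩)
  rw [he] at h1
  have h2 : (a : Ω)⁻¹ * θ a = ((a⁻¹ * a' : ↥S) : Ω) := by
    rw [Subgroup.coe_mul, Subgroup.coe_inv, ha']
  rw [h2, coe_mem_kerSub, map_mul, map_inv] at h1
  exact (inv_mul_eq_one.mp h1).symm

/-- the index `p` step -/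
theorem exists_ppi_of_hom [Finite S] [Fact p.Prime] (hS : IsPGroup p S) (F : FusionSystem S) (hF : F.IsSaturated p)
    (π : ↥S →* A) (hsurj : Function.Surjective π) (hcard : Nat.card A = p) (hπ : PStable F π) :
    ∃ E : FusionSystem (kerSub π), E.IsSaturated p ∧ E.IsSubsystemOf F ∧
      ∀ P : Subgroup Ω, P ≤ kerSub π →
        (pResidual p (F.autGroup P)).map (F.autGroup P).subtype ≤ E.autGroup P := by
  have hp : p.Prime := Fact.out
  obtain ⟨X, hX, hfin, hst, htw, n, hn, hpn⟩ := exists_char_biset hS F hF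
  letI := hX
  haveI := hfin
  letI : MulAction ↥S X := MulAction.compHom X rtHom
  have hcomp : ∀ (b : ↥S) (x : X), b • x = pair 1 b • x := fun _ _ => rfl
  have hfree : ∀ (b : ↥S) (x : X), b • x = x → b = 1 := rfree hcomp hst
  have hc := card_eq_card_orb_mul hfree
  have hSpos : 0 < Nat.card ↥S := Nat.card_pos
  have hn' : Nat.card (Orb ↥S X) = n := by
    rw [hn, mul_comm] at hc
    exact (Nat.eq_of_mul_eq_mul_right hSpos hc).symm
  have D : Dat p F X π :=
    { hcomp := hcomp
      hst := hst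
      htw := htw
      hπ := hπ
      hA := fun a => by rw [← hcard]; exact pow_card_eq_one'
      hn := by rw [hn']; exact hpn }
  exact ⟨ppiSystem D, D.ppi_saturated hS hF hsurj hcard, D.ppi_sub, fun P hP => D.ppi_pResidual_le hP⟩

theorem card_kerSub_lt [Finite S] (π : ↥S →* A) (c : ↥S) (hc : π c ≠ 1) :
    Nat.card ↥(kerSub π) < Nat.card ↥S := by
  by_contra hlt
  push Not at hlt
  have h1 : kerSub π = S := Subgroup.eq_of_le_of_card_ge (kerSub_le π) hlt
  have h2 : (c : Ω) ∈ kerSub π := by rw [h1]; exact c.2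
  exact hc (coe_mem_kerSub.mp h2)

/-- the hyperfocal subgroup of a subsystem containing the `O^p(Aut_F(P))` -/
theorem hyperfocal_le_of_subsystem {T : Subgroup Ω} (E : FusionSystem T) (F : FusionSystem S)
    (hEF : E.IsSubsystemOf F) : E.hyperfocalSubgroup p ≤ F.hyperfocalSubgroup p := by
  have hTS : T ≤ S := hom_le F (hEF T (subtype_mem E le_rfl))
  unfold hyperfocalSubgroup
  rw [Subgroup.closure_le]
  rintro _ ⟨P, α, x, hP, hα, rfl⟩
  have hle : E.autGroup P ≤ F.autGroup P := autGroup_le_of_subsystem E F hEF hP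
  have h1 : (α : MulAut P) ∈ (pResidual p (F.autGroup P)).map (F.autGroup P).subtype :=
    pResidual_autGroup_mono E F p P hle ⟨α, hα, rfl⟩
  obtain ⟨β, hβ, hβα⟩ := h1
  have h2 := mem_hyperfocal_of F p (hP.trans hTS) β hβ x
  have h3 : ((β : MulAut P)) = (α : MulAut P) := hβα
  rw [h3] at h2
  exact Subgroup.subset_closure ⟨P, ⟨α, hle α.2⟩, x, hP.trans hTS, by
    have : (⟨(α : MulAut P), hle α.2⟩ : F.autGroup P) = β := Subtype.ext hβα.symm
    rw [this]; exact hβ, rfl⟩

/-- the `p`-residual of an intermediate group -/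
theorem map_pResidual_le_of_le {M : Type*} [Group M] {K H : Subgroup M}
    (h : (pResidual p ↥H).map H.subtype ≤ K) :
    (pResidual p ↥H).map H.subtype ≤ (pResidual p ↥K).map K.subtype := by
  have h' := h
  unfold Cfsg.pResidual at h ⊢
  rw [MonoidHom.map_closure, Subgroup.closure_le]
  rintro _ ⟨a, ha, rfl⟩
  have haK : (a : M) ∈ K := h ⟨a, Subgroup.subset_closure ha, rfl⟩
  refine ⟨⟨a, haK⟩, Subgroup.subset_closure ?_, rfl⟩
  show Nat.Coprime (orderOf (⟨(a : M), haK⟩ : K)) p
  have ha' : Nat.Coprime (orderOf a) p := ha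
  rw [Subgroup.orderOf_mk, Subgroup.orderOf_coe]
  exact ha'

end Cfsg.Agent.Lib.Helper26.PPI
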