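import Cfsg.Agent.Lib.Helper26.NSubF
import Cfsg.Agent.Lib.Helper26.PPI10
set_option autoImplicit false
set_option linter.unusedSectionVars false
set_option linter.style.haveILetI false

/-!
Normal subsystems of the fusion system of a group of characteristic `p`: uniqueness of `H`, and the theorem
(Aschbacher): the normal subsystems of `F_S(G)`, `C_G(O_p(G)) ≤ O_p(G)`, are the `F_{S ∩ H}(H)`, `H ⊴ G`.
-/

namespace Cfsg.Agent.Lib.Helper26.NSub

open Cfsg Cfsg.FusionSystem Cfsg.Agent.Lib.Helper26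
open scoped commutatorElement

variable {G : Type*} [Group G] [Finite G]
variable {p : ℕ} [Fact p.Prime] {S : Sylow p G} {T : Subgroup G} {E : FusionSystem T}

namespace Setup

variable (h : Setup p S T E)
include h

theorem unique {H' : Subgroup G} (hTH' : T ≤ H') (hN : H'.Normal)
    (hSyl : ∃ R : Sylow p H', (R : Subgroup H') = T.subgroupOf H')
    (hHom : ∀ P : Subgroup G, E.Hom P = (fusionSystemOfSubgroup H' T hTH').Hom P) : H' = h.hh := by
  haveI := hN
  haveI := h.rz_normal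
  haveI := Cfsg.Agent.Lib.Helper17.pCore_normal p G
  obtain ⟨R', hR'⟩ := hSyl
  -- `O_p(G) ∩ H' ≤ T`
  have hRH' : ∀ w ∈ Cfsg.pCore p G, w ∈ H' → w ∈ T := by
    intro w hwR hwH
    have hp : IsPGroup p ((Cfsg.pCore p G).subgroupOf H') :=
      (Cfsg.Agent.Lib.Helper17.pCore_isPGroup p G).comap_subtype
    have hle := hp.le_sylow_of_normal R'
    have hmem : (⟨w, hwH⟩ : H') ∈ (Cfsg.pCore p G).subgroupOf H' := by
      rw [Subgroup.mem_subgroupOf]; exact hwR
    have h3 : (⟨w, hwH⟩ : H') ∈ (R' : Subgroup H') := hle hmem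
    rw [hR', Subgroup.mem_subgroupOf] at h3
    exact h3
  have hrzconj : ∀ (x : G), ∀ r ∈ rz p T, x * r * x⁻¹ ∈ rz p T := fun x r hr =>
    Subgroup.Normal.conj_mem inferInstance r hr x
  -- `H' ≤ Ĥ`
  have hle1 : H' ≤ h.hhat := by
    intro v hv
    refine ⟨fun r hr => ?_, ?_⟩
    · have h1 : ⁅r, v⁆ ∈ Cfsg.pCore p G := by
        rw [commutatorElement_def]
        have : r * v * r⁻¹ * v⁻¹ = r * (v * r⁻¹ * v⁻¹) := by group
        rw [this]
        exact Subgroup.mul_mem _ hr (Subgroup.Normal.conj_mem inferInstance _ (Subgroup.inv_mem _ hr) v)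
      have h2 : ⁅r, v⁆ ∈ H' := by
        rw [commutatorElement_def]
        exact H'.mul_mem (Subgroup.Normal.conj_mem inferInstance v hv r) (H'.inv_mem hv)
      exact ⟨h1, hRH' _ h1 h2⟩
    · unfold EC
      rw [hHom]
      exact ⟨h.rz_le_T, fun x => h.rz_le_T (hrzconj v x x.2), v, hv, fun x => rfl⟩
  apply le_antisymm
  · -- `H' ≤ H`
    intro v hv
    have htop := pResidual_sup_sylow p R'
    haveI : (pResidual p ↥H').Normal := Cfsg.Agent.Lib.Helper8.pResidual_normal p _
    have hmem : (⟨v, hv⟩ : H') ∈ pResidual p ↥H' ⊔ (R' : Subgroup H') := by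
      rw [htop]; exact Subgroup.mem_top _
    obtain ⟨y, hy, s, hs, hys⟩ := Subgroup.mem_sup_of_normal_left.mp hmem
    rw [hR', Subgroup.mem_subgroupOf] at hs
    have hres : (pResidual p ↥H').map H'.subtype ≤ h.nhat :=
      PPI.map_pResidual_le_of_le ((Subgroup.map_subtype_le _).trans hle1)
    have hyN : (y : G) ∈ h.nhat := hres ⟨y, hy, rfl⟩
    have e : v = (y : G) * (s : G) := by
      have := congrArg Subtype.val hys
      exact this.symm
    rw [e]
    exact h.hh.mul_mem (h.nhat_le_hh hyN) (h.T_le_hh hs)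
  · -- `H ≤ H'`
    apply sup_le _ hTH'
    rw [h.nhat_eq_closure, Subgroup.closure_le]
    rintro g ⟨hgH, hcop⟩
    have h1 : conjHom (rz p T) g ∈ (fusionSystemOfSubgroup H' T hTH').Hom (rz p T) := by
      rw [← hHom]; exact hgH.2
    obtain ⟨-, -, v, hv, hvg⟩ := h1
    set x := v⁻¹ * g with hx
    have hxH : x ∈ h.hhat := h.hhat.mul_mem (h.hhat.inv_mem (hle1 hv)) hgH
    have hxc : ∀ r ∈ rz p T, x * r = r * x := by
      intro r hr
      have := hvg ⟨r, hr⟩
      have h2 : g * r * g⁻¹ = v * r * v⁻¹ := this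
      calc x * r = v⁻¹ * (g * r * g⁻¹) * g := by rw [hx]; group
        _ = v⁻¹ * (v * r * v⁻¹) * g := by rw [h2]
        _ = r * x := by rw [hx]; group
    have hxR := h.mem_pCore_of_centralizes hxH hxc
    have hgvx : g = v * x := by rw [hx]; group
    show g ∈ H'
    rw [hgvx]
    apply mem_of_mul_coprime (q := Nat.card ↥(Cfsg.pCore p G)) hv
    · intro k hk
      exact Subgroup.Normal.conj_mem inferInstance k hk x
    · have : (⟨x, hxR⟩ : Cfsg.pCore p G) ^ Nat.card ↥(Cfsg.pCore p G) = 1 := pow_card_eq_one'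
      have h2 := congrArg Subtype.val this
      rw [Subgroup.coe_pow] at h2
      simp only [Subgroup.coe_one] at h2
      rw [h2]
      exact H'.one_mem
    · rw [← hgvx]
      obtain ⟨a, ha⟩ := IsPGroup.iff_card.mp (Cfsg.Agent.Lib.Helper17.pCore_isPGroup p G)
      rw [ha]
      exact Nat.Coprime.pow_left a hcop.symm

end Setup

/-- **Aschbacher's theorem on the normal subsystems of a constrained fusion system** (= S5121) -/
theorem normal_subsystems_of_constrained (p : ℕ) [Fact p.Prime] (S : Sylow p G)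
    (hG : Subgroup.centralizer ((Cfsg.pCore p G : Subgroup G) : Set G) ≤ Cfsg.pCore p G) (T : Subgroup G)
    (E : Cfsg.FusionSystem T) (hE : E.IsNormalIn (Cfsg.groupFusionSystem (S : Subgroup G)) p) :
    ∃ H : Subgroup G, (∃ hTH : T ≤ H, H.Normal ∧ (∃ R : Sylow p H, (R : Subgroup H) = T.subgroupOf H) ∧
      ∀ P : Subgroup G, E.Hom P = (Cfsg.fusionSystemOfSubgroup H T hTH).Hom P) ∧
      ∀ H' : Subgroup G, (∃ hTH' : T ≤ H', H'.Normal ∧
        (∃ R : Sylow p H', (R : Subgroup H') = T.subgroupOf H') ∧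
        ∀ P : Subgroup G, E.Hom P = (Cfsg.fusionSystemOfSubgroup H' T hTH').Hom P) → H' = H := by
  have h : Setup p S T E := ⟨hG, hE⟩
  refine ⟨h.hh, ⟨h.T_le_hh, h.hh_normal, h.exists_sylow_hh, h.hom_eq⟩, ?_⟩
  rintro H' ⟨hTH', hN, hSyl, hHom⟩
  exact h.unique hTH' hN hSyl hHom

end Cfsg.Agent.Lib.Helper26.NSub
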