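import Mathlib

/-!
# S2344 glue: a lower bound for the non-trivial modules of a finite group also bounds the
complement of the invariants (helper26)
-/

set_option autoImplicit false

namespace Cfsg.Agent.Lib.Helper26.OOInv

open Module

variable {G : Type*} [Group G] [Fintype G] {W : Type} [AddCommGroup W] [Module ℂ W]
  [FiniteDimensional ℂ W]

/-- if every non-trivial module has dimension at least `Nb` then a non-trivial module has dimension
at least `Nb` plus the dimension of its invariants -/
theorem add_finrank_invariants_le (σ : Representation ℂ G W) (Nb : ℕ)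
    (hT : ∀ (W' : Type) [AddCommGroup W'] [Module ℂ W'] [FiniteDimensional ℂ W']
      (τ : Representation ℂ G W'), (∃ g, τ g ≠ 1) → Nb ≤ finrank ℂ W')
    (hnt : ∃ g, σ g ≠ 1) : Nb + finrank ℂ ↥σ.invariants ≤ finrank ℂ W := by
  classical
  have : Invertible ((Fintype.card G : ℕ) : ℂ) :=
    invertibleOfNonzero (Nat.cast_ne_zero.mpr Fintype.card_ne_zero)
  have hproj := σ.isProj_averageMap
  set e := σ.averageMap with he
  -- the kernel of the average map is invariant
  have hcomm : ∀ g x, e (σ g x) = e x := by
    intro g x
    rw [he, Representation.averageMap, ← Representation.asAlgebraHom_single_one,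
      ← Module.End.mul_apply, ← map_mul (Representation.asAlgebraHom σ),
      GroupAlgebra.mul_average_right]
  have hK : ∀ g, ∀ x ∈ LinearMap.ker e, σ g x ∈ LinearMap.ker e := by
    intro g x hx
    rw [LinearMap.mem_ker] at hx ⊢
    rw [hcomm, hx]
  let τ : Representation ℂ G ↥(LinearMap.ker e) :=
    { toFun := fun g => (σ g).restrict (hK g)
      map_one' := by
        apply LinearMap.ext
        intro x
        apply Subtype.ext
        show σ 1 x.1 = x.1
        rw [map_one]
        rfl
      map_mul' := fun g h => by
        apply LinearMap.ext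
        intro x
        apply Subtype.ext
        show σ (g * h) x.1 = σ g (σ h x.1)
        rw [map_mul]
        rfl }
  have hτnt : ∃ g, τ g ≠ 1 := by
    obtain ⟨g, hg⟩ := hnt
    refine ⟨g, fun h => hg ?_⟩
    apply LinearMap.ext
    intro x
    have h1 : x = e x + (x - e x) := by abel
    have h2 : x - e x ∈ LinearMap.ker e := by
      rw [LinearMap.mem_ker, map_sub, hproj.map_id (e x) (hproj.map_mem x), sub_self]
    have h3 : σ g (x - e x) = x - e x := by
      have := congrArg (fun f => ((f ⟨x - e x, h2⟩ : ↥(LinearMap.ker e)) : W)) h
      exact this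
    have h4 : σ g (e x) = e x := hproj.map_mem x g
    show σ g x = x
    nth_rewrite 1 [h1]
    rw [map_add, h3, h4]
    abel
  have h5 := hT ↥(LinearMap.ker e) τ hτnt
  have h6 : finrank ℂ ↥(LinearMap.range e) + finrank ℂ ↥(LinearMap.ker e) = finrank ℂ W :=
    LinearMap.finrank_range_add_finrank_ker e
  have h7 : LinearMap.range e = σ.invariants := by
    apply le_antisymm
    · rintro _ ⟨x, rfl⟩
      exact hproj.map_mem x
    · intro x hx
      exact ⟨x, hproj.map_id x hx⟩
  rw [h7] at h6
  omega

end Cfsg.Agent.Lib.Helper26.OOInv
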