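import Cfsg.Agent.Lib.Helper26.OOInv
import Cfsg.Agent.Lib.Helper27.OPMinMain
import Cfsg.Agent.Lib.Helper14.OOMinH
import Cfsg.Agent.Lib.Helper29.OOMinA1
import Cfsg.Agent.Lib.Helper29.OOMinAR
import Cfsg.Agent.Lib.Helper17.OOMinA2
import Cfsg.Agent.Lib.Helper17.OOMinST6
import Cfsg.Agent.Lib.Helper19.OOMinST3
import Cfsg.Agent.Lib.Helper4.OOMinQZ
import Cfsg.Agent.Lib.Helper5.OOMinST4Core

/-!
# S2344 glue, part A (helper26): the gap case `d = bO - 1`
-/

set_option autoImplicit false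
set_option linter.unusedSectionVars false
set_option linter.unusedVariables false

namespace Cfsg.Agent.Lib.Helper26.OOMain

open Matrix Module Cfsg.Agent.Lib.Helper27.OPMin Cfsg.Agent.Lib.Helper16.SLMin
  Cfsg.Agent.Lib.Helper26.OOMin

section gap

variable {F : Type*} [Field F] [Fintype F] [DecidableEq F] {n : ℕ} {H : Type*} [Group H]
  {M : Type} [AddCommGroup M] [Module ℂ M] [FiniteDimensional ℂ M]
  (D : SiegelB F n H) (ρ : Representation ℂ H M)

/-- Part I: below the bound, `Q` is trivial on `M₀ = C_M(Z)`, `SL_n` acts non-trivially on `M₀` and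
`dim M₀ = tgt`; moreover no non-zero vector of `M₀` is fixed by `levi (SL_n)`. -/
theorem gap_data (hn : 3 ≤ n) (h3 : 3 < Fintype.card F) (hchar : (2 : F) ≠ 0)
    (hT : ∀ (M₀ : Type) [AddCommGroup M₀] [Module ℂ M₀] [FiniteDimensional ℂ M₀]
      (σ : Representation ℂ (SpecialLinearGroup (Fin n) F) M₀), (∃ g, σ g ≠ 1) →
      tgt (Fintype.card F) n ≤ finrank ℂ M₀)
    (hcl : Subgroup.normalClosure (Set.range D.rad) = ⊤) (hnt : ∃ g, ρ g ≠ 1)
    (hlt : finrank ℂ M < bO (Fintype.card F) n) :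
    (∀ c : Fin n → F, ∀ m ∈ wt ρ D.toSiegel.radv 0, ρ (D.sho c) m = m) ∧
      (∃ g, fixedRep D.toSiegel ρ g ≠ 1) ∧
      finrank ℂ ↥(wt ρ D.toSiegel.radv 0) = tgt (Fintype.card F) n ∧
      ∀ v ∈ wt ρ D.toSiegel.radv 0, (∀ g, ρ (D.levi g) v = v) → v = 0 := by
  classical
  have hq2 : 2 ≤ Fintype.card F := by omega
  obtain ⟨v₁, hv₁0, hv₁⟩ := Cfsg.Agent.Lib.Helper24.OPMin.exists_wt_ne_bot D.toSiegel ρ hcl hnt
  -- Case A is impossible
  have hB : ∀ v : Fin n × Fin n → F, v ≠ 0 → wt ρ D.toSiegel.radv v ≠ ⊥ →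
      ∃ a b : Fin n → F, toM v = wedge a b := by
    intro v hv0 hv
    by_contra hnw
    rcases Nat.lt_or_ge n 4 with h4 | h4
    · have hn3 : n = 3 := by omega
      subst hn3
      exact hnw (Cfsg.Agent.Lib.Helper29.OOMin.exists_wedge_of_isAltM_three (toM v)
        (Cfsg.Agent.Lib.Helper24.OPMin.isAltM_of_wt_ne_bot D.toSiegel ρ v hv))
    · have := Cfsg.Agent.Lib.Helper17.OOMin.caseA_O D ρ h4 h3 hchar v hv0 hv hnw
      omega
  -- Case B
  obtain ⟨a₁, b₁, hab₁⟩ := hB v₁ hv₁0 hv₁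
  have hv₁' : v₁ = ofM (wedge a₁ b₁) := by
    rw [← hab₁, ofM_toM]
  have hind₁ : LinearIndependent F ![a₁, b₁] := by
    apply Cfsg.Agent.Lib.Helper22.OPMin.indep_of_wedge_ne_zero
    intro h0
    apply hv₁0
    rw [hv₁', h0, ofM_zero]
  have hd := Cfsg.Agent.Lib.Helper22.OPMin.finrank_eq_caseB D.toSiegel ρ hn hB a₁ b₁ hind₁
  set f := finrank ℂ ↥(wt ρ D.toSiegel.radv (ofM (wedge a₁ b₁))) with hf
  have hfpos : 1 ≤ f := by
    rw [hf, ← hv₁']
    by_contra hcon
    apply hv₁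
    apply Submodule.finrank_eq_zero.mp
    omega
  have hfdvd : Fintype.card F ∣ f := by
    rw [hf, ← hv₁']
    exact Cfsg.Agent.Lib.Helper14.OOMin.card_dvd_finrank_wt D ρ hchar v₁ hv₁0
  have hfq : f = Fintype.card F := by
    obtain ⟨e, he⟩ := hfdvd
    have he1 : 1 ≤ e := by
      rcases Nat.eq_zero_or_pos e with h0 | h0
      · rw [h0, mul_zero] at he
        omega
      · exact h0
    rcases Nat.lt_or_ge e 2 with h2 | h2
    · have : e = 1 := by omega
      rw [he, this, mul_one]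
    · exfalso
      have h1 : bO (Fintype.card F) n ≤ 2 * Fintype.card F * R2 (Fintype.card F) n :=
        Cfsg.Agent.Lib.Helper29.OOMin.bO_le_two_q_R2 (Fintype.card F) n hq2 hn
      have h2' : 2 * Fintype.card F * R2 (Fintype.card F) n ≤ f * R2 (Fintype.card F) n := by
        apply Nat.mul_le_mul_right
        rw [he]
        calc 2 * Fintype.card F = Fintype.card F * 2 := by ring
          _ ≤ Fintype.card F * e := Nat.mul_le_mul_left _ h2
      omega
  rw [hfq] at hd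
  have hmq : ∀ a b : Fin n → F, LinearIndependent F ![a, b] →
      finrank ℂ ↥(wt ρ D.toSiegel.radv (ofM (wedge a b))) = Fintype.card F := by
    intro a b h
    rw [Cfsg.Agent.Lib.Helper22.OPMin.finrank_wt_wedge_eq D.toSiegel ρ hn a b a₁ b₁ h hind₁]
    exact hfq
  have hid := Cfsg.Agent.Lib.Helper29.OOMin.q_R2_add_Nn (Fintype.card F) n hq2 hn
  have hNn := Cfsg.Agent.Lib.Helper29.OOMin.Nn_eq_tgt_add_one (Fintype.card F) n hq2 (by omega)
  -- `c ≤ tgt`
  have hcle : finrank ℂ ↥(wt ρ D.toSiegel.radv 0) ≤ tgt (Fintype.card F) n := by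
    omega
  -- `Q` is trivial on `M₀`
  have hQ0 : ∀ c : Fin n → F, ∀ m ∈ wt ρ D.toSiegel.radv 0, ρ (D.sho c) m = m := by
    intro c m hm
    by_contra hne
    have h1 := Cfsg.Agent.Lib.Helper4.OOMin.card_pow_sub_one_le_finrank_wt_zero D ρ (by omega) c m hm hne
    have h2 := Cfsg.Agent.Lib.Helper29.OOMin.bO_le_of_pow (Fintype.card F) n hq2 hn
    omega
  -- the stage lemma
  have hnt0 : ∃ g, fixedRep D.toSiegel ρ g ≠ 1 := by
    by_contra hcon
    push Not at hcon
    apply Cfsg.Agent.Lib.Helper5.OOMin.stage_O_of D ρ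
      (fun v i j hij =>
        Cfsg.Agent.Lib.Helper14.OOMin.card_mul_finrank_wt_inf_shoFix D ρ hchar v i j hij)
      (fun a b i j hab hia hib hj hij t δ hδ hmq' =>
        Cfsg.Agent.Lib.Helper19.OOMin.levi_transvection_fix_Wd_O D ρ h3 hchar a b i j hab hia hib
          hj hij t δ hδ hmq')
      (fun i₀ a b i j hab hi₀a hi₀b hia hib hj hij hne t h1 =>
        Cfsg.Agent.Lib.Helper17.OOMin.levi_transvection_fix_V0_O D ρ h3 i₀ a b i j hab hi₀a hi₀b
          hia hib hj hij hne t h1)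
      hn hmq
    intro g m hm
    have h1 := congrArg (fun f => ((f ⟨m, hm⟩ : ↥(wt ρ D.toSiegel.radv 0)) : M)) (hcon g)
    exact h1
  have hc := hT ↥(wt ρ D.toSiegel.radv 0) (fixedRep D.toSiegel ρ) hnt0
  refine ⟨hQ0, hnt0, le_antisymm hcle hc, ?_⟩
  intro v hv hfix
  by_contra hv0
  have hinv := Cfsg.Agent.Lib.Helper26.OOInv.add_finrank_invariants_le (fixedRep D.toSiegel ρ)
    (tgt (Fintype.card F) n) hT hnt0
  have hmem : (⟨v, hv⟩ : ↥(wt ρ D.toSiegel.radv 0)) ∈ (fixedRep D.toSiegel ρ).invariants := by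
    intro g
    apply Subtype.ext
    exact hfix g
  have hpos : 1 ≤ finrank ℂ ↥(fixedRep D.toSiegel ρ).invariants := by
    rw [Nat.one_le_iff_ne_zero]
    intro h0
    have hbot := Submodule.finrank_eq_zero.mp h0
    rw [hbot, Submodule.mem_bot] at hmem
    exact hv0 (congrArg Subtype.val hmem)
  omega

end gap

end Cfsg.Agent.Lib.Helper26.OOMain
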