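import Cfsg.Agent.Lib.Helper26.OOMainA
import Cfsg.Agent.Lib.Helper23.OOMinCONB1
import Cfsg.Agent.Lib.Helper25.OOMinCONB2
import Cfsg.Agent.Lib.Helper4.OOMinXA
import Cfsg.Agent.Lib.Helper2.EQMain
import Cfsg.Agent.Lib.Helper16.OOEndC
import Cfsg.Agent.Lib.Helper18.OOEndNUM
import Cfsg.Agent.Lib.Helper16.OOEndCF

/-!
# S2344 glue, part B (helper26): EQ + Part III
-/

set_option autoImplicit false
set_option linter.unusedSectionVars false
set_option linter.unusedVariables false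

namespace Cfsg.Agent.Lib.Helper26.OOMain

open Matrix Module Cfsg.Agent.Lib.Helper27.OPMin Cfsg.Agent.Lib.Helper16.SLMin
  Cfsg.Agent.Lib.Helper26.OOMin

section tools

variable {F : Type*} [Field F] {n : ℕ}

theorem omMatO_injective :
    Function.Injective (omMatO (F := F) (n := n)) :=
  fun _ _ h => Subtype.ext (Subtype.ext (Units.ext h))

theorem omMatO_mul (x y : ↥(Cfsg.Omega F (Cfsg.quadFormOdd n F))) :
    omMatO (x * y) = omMatO x * omMatO y := rfl

theorem leviMatO_mul (g h : Matrix (Fin n) (Fin n) F) :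
    leviMatO (g * h) = leviMatO g * leviMatO h := by
  unfold leviMatO embO leviMat
  rw [Matrix.fromBlocks_multiply, Matrix.fromBlocks_multiply]
  simp only [Matrix.mul_zero, Matrix.zero_mul, add_zero, zero_add, Matrix.mul_one]
  rw [Matrix.mul_inv_rev, Matrix.transpose_mul]

end tools

section restrict

variable {H : Type*} [Group H] {M : Type*} [AddCommGroup M] [Module ℂ M]

/-- the restriction of `ρ h` to a submodule mapped onto itself, as a linear equivalence -/
noncomputable def resEquiv (ρ : Representation ℂ H M) (P : Submodule ℂ M) (h : H)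
    (hP : Submodule.map (ρ h) P = P) : ↥P ≃ₗ[ℂ] ↥P :=
  have h1 : ∀ m ∈ P, ρ h m ∈ P := fun m hm => by
    rw [← hP]
    exact Submodule.mem_map_of_mem hm
  have h2 : ∀ m ∈ P, ρ h⁻¹ m ∈ P := fun m hm => by
    rw [← hP] at hm
    obtain ⟨m', hm', rfl⟩ := hm
    rw [← Module.End.mul_apply, ← map_mul, inv_mul_cancel, map_one]
    exact hm'
  LinearEquiv.ofLinear ((ρ h).restrict h1) ((ρ h⁻¹).restrict h2)
    (by
      apply LinearMap.ext
      intro x
      apply Subtype.ext
      show ρ h (ρ h⁻¹ x.1) = x.1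
      rw [← Module.End.mul_apply, ← map_mul, mul_inv_cancel, map_one]
      rfl)
    (by
      apply LinearMap.ext
      intro x
      apply Subtype.ext
      show ρ h⁻¹ (ρ h x.1) = x.1
      rw [← Module.End.mul_apply, ← map_mul, inv_mul_cancel, map_one]
      rfl)

theorem rho_mul_apply (ρ : Representation ℂ H M) (x y : H) (v : M) :
    ρ (x * y) v = ρ x (ρ y v) := by
  rw [map_mul]
  rfl

theorem resEquiv_apply (ρ : Representation ℂ H M) (P : Submodule ℂ M) (h : H)
    (hP : Submodule.map (ρ h) P = P) (x : ↥P) : ((resEquiv ρ P h hP x : ↥P) : M) = ρ h x.1 := rfl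

end restrict

section final

open Cfsg.Agent.Lib.Helper16.OOEnd Cfsg.Agent.Lib.Helper2.EQ

variable {F : Type*} [Field F] [Fintype F] [DecidableEq F]

theorem two_ne_zero_of_odd (hodd : Odd (Fintype.card F)) : (2 : F) ≠ 0 := by
  intro h2
  have : CharP F 2 := CharTwo.of_one_ne_zero_of_two_eq_zero one_ne_zero h2
  have : Fact (Nat.Prime 2) := ⟨Nat.prime_two⟩
  obtain ⟨k, -, hk⟩ := FiniteField.card F 2
  rw [hk] at hodd
  have : Even (2 ^ (k : ℕ)) := (Nat.even_pow' k.ne_zero).2 even_two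
  exact (Nat.not_even_iff_odd.2 hodd) this

/-- `dsq 0 r = diag (r², 1, .., 1)` -/
theorem dsq_zero_eq_dgc {m : ℕ} (r : Fˣ) :
    (dsq (0 : Fin (m + 1)) r : Matrix (Fin (m + 1)) (Fin (m + 1)) F) = dgc ((r : F) ^ 2) := rfl

/-- the torus element `tor 0 r` conjugates `levi g` to `levi (cj (r * r) g)` -/
theorem tor_mul_levi {m : ℕ}
    (D : SiegelB F (m + 1) ↥(Cfsg.Omega F (Cfsg.quadFormOdd (m + 1) F)))
    (hlevi : ∀ g : SpecialLinearGroup (Fin (m + 1)) F,
      omMatO (D.levi g) = leviMatO (g : Matrix (Fin (m + 1)) (Fin (m + 1)) F))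
    (htor : ∀ (a : Fin (m + 1)) (s : Fˣ), omMatO (D.tor a s) = leviMatO (dsq a s))
    (r : Fˣ) (g : SpecialLinearGroup (Fin (m + 1)) F) :
    D.tor 0 r * D.levi g = D.levi (cj (r * r) g) * D.tor 0 r := by
  apply omMatO_injective
  rw [omMatO_mul, omMatO_mul, htor, hlevi, hlevi, ← leviMatO_mul, ← leviMatO_mul]
  congr 1
  show dsq 0 r * (g : Matrix (Fin (m + 1)) (Fin (m + 1)) F) =
    dgc (((r * r : Fˣ) : F)) * (g : Matrix (Fin (m + 1)) (Fin (m + 1)) F) *
      dgc ((((r * r)⁻¹ : Fˣ) : F)) * dsq 0 r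
  rw [dsq_zero_eq_dgc, Matrix.mul_assoc _ (dgc _) (dgc _), dgc_mul_dgc]
  have h1 : (((r * r)⁻¹ : Fˣ) : F) * (r : F) ^ 2 = 1 := by
    rw [pow_two, ← Units.val_mul, ← Units.val_mul, inv_mul_cancel, Units.val_one]
  rw [h1, dgc_one, Matrix.mul_one, Units.val_mul, pow_two]

set_option maxHeartbeats 1600000 in
/-- the glue -/
theorem mainO (m : ℕ) (hm : 2 ≤ m) (hodd : Odd (Fintype.card F)) (h3 : 3 < Fintype.card F)
    (hT : ∀ (M₀ : Type) [AddCommGroup M₀] [Module ℂ M₀] [FiniteDimensional ℂ M₀]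
      (σ : Representation ℂ (SpecialLinearGroup (Fin (m + 1)) F) M₀), (∃ g, σ g ≠ 1) →
      tgt (Fintype.card F) (m + 1) ≤ finrank ℂ M₀) :
    ∀ (k : ℕ) (ρ : Representation ℂ (Cfsg.Omega F (Cfsg.quadFormOdd (m + 1) F)) (Fin k → ℂ)),
      ρ.IsIrreducible → 2 ≤ k → bO (Fintype.card F) (m + 1) ≤ k := by
  classical
  intro k ρ hρ hk
  have hchar : (2 : F) ≠ 0 := two_ne_zero_of_odd hodd
  have hq5 : 5 ≤ Fintype.card F := by
    obtain ⟨j, hj⟩ := hodd
    omega
  obtain ⟨D, hrad, hlevi, htor, hw, hsho, hns⟩ :=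
    Cfsg.Agent.Lib.Helper23.OOMin.exists_siegelB (F := F) (n := m + 1) (by omega) h3 hchar
  have hcl := Cfsg.Agent.Lib.Helper25.OOMin.normalClosure_rad_O (by omega) h3 hchar D hrad
  have hfin : finrank ℂ (Fin k → ℂ) = k := Module.finrank_fin_fun ℂ
  have hnt : ∃ g, ρ g ≠ 1 := by
    by_contra hcon
    push Not at hcon
    exact Cfsg.Agent.Lib.Helper16.SLMinSpine.not_irr_of_trivial k hk ρ hcon hρ
  by_contra hlt
  push Not at hlt
  obtain ⟨hQ0, hnt0, hc, hnofix⟩ := gap_data D ρ (by omega) h3 hchar hT hcl hnt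
    (by rw [hfin]; exact hlt)
  -- the torus operators for EQ (`n = 3`)
  have hD : m = 2 → ∀ c : Fˣ, IsSquare c →
      ∃ Dc : ↥(wt ρ D.toSiegel.radv 0) ≃ₗ[ℂ] ↥(wt ρ D.toSiegel.radv 0),
        ∀ (g : SpecialLinearGroup (Fin (m + 1)) F) (x : ↥(wt ρ D.toSiegel.radv 0)),
          Dc (fixedRep D.toSiegel ρ g x) = fixedRep D.toSiegel ρ (cj c g) (Dc x) := by
    rintro - c ⟨r, rfl⟩
    have hP : Submodule.map (ρ (D.tor 0 r)) (wt ρ D.toSiegel.radv 0) = wt ρ D.toSiegel.radv 0 :=
      Cfsg.Agent.Lib.Helper24.OPMin.map_wt_tor D.toSiegel ρ 0 r 0 0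
        (by rw [toM_zero, Matrix.mul_zero, Matrix.zero_mul])
    refine ⟨resEquiv ρ _ (D.tor 0 r) hP, ?_⟩
    intro g x
    apply Subtype.ext
    rw [resEquiv_apply, fixedRep_apply, fixedRep_apply, resEquiv_apply]
    rw [← rho_mul_apply, ← rho_mul_apply, tor_mul_levi D hlevi htor r g]
  -- Part II
  obtain ⟨v, hv0, hv⟩ := Cfsg.Agent.Lib.Helper2.EQMain.EQ hq5 m hm (fixedRep D.toSiegel ρ) hnt0
    hc hD
  have hv0' : (v : Fin k → ℂ) ≠ 0 := fun h => hv0 (Subtype.ext h)
  have hlv : ∀ g : SpecialLinearGroup (Fin (m + 1)) F,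
      (∀ i : Fin m, (g : Matrix (Fin (m + 1)) (Fin (m + 1)) F) i.succ 0 = 0) →
        ρ (D.levi g) (v : Fin k → ℂ) = v := by
    intro g hg
    have := congrArg Subtype.val (hv g hg)
    exact this
  have htv : ∀ (i j : Fin (m + 1)) (hij : i ≠ j) (t : F), j ≠ 0 →
      ρ (D.levi (SpecialLinearGroup.transvection hij t)) (v : Fin k → ℂ) = v := by
    intro i j hij t hj
    apply hlv
    intro i'
    rw [Matrix.SpecialLinearGroup.transvection_coe]
    show (1 + Matrix.single i j t : Matrix (Fin (m + 1)) (Fin (m + 1)) F) i'.succ 0 = 0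
    rw [Matrix.add_apply, Matrix.one_apply_ne (Fin.succ_ne_zero i'), zero_add,
      Matrix.single_apply_of_col_ne _ _ hj]
  have hradv : ∀ R, ρ (D.rad R) (v : Fin k → ℂ) = v := by
    intro R
    have := Cfsg.Agent.Lib.Helper5.OPMin.rho_rad_of_mem_wt D.toSiegel ρ 0 v v.2 R
    rw [this, zero_dotProduct, AddChar.map_zero_eq_one, one_smul]
  -- Part III(a)
  have hxm : ∀ (a : Fin m) (t : F), ρ (D.xm a.succ t) (v : Fin k → ℂ) = v := by
    intro a t
    apply Cfsg.Agent.Lib.Helper4.OOMin.xm_fix D ρ a.succ hQ0 v v.2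
    intro i hia t'
    exact htv i a.succ hia t' (Fin.succ_ne_zero a)
  -- Part III(b,c)
  obtain ⟨E, hEu, hElv, hErd, hEsh, hEng, hEwd, hEpp, hEqq, hEsingle⟩ :=
    Cfsg.Agent.Lib.Helper16.OOEndCF.exists_oend h3 D hrad hlevi hsho hns (fun a b _ => hw a b)
  have hpp : ∀ (i : Fin m) (b : Fˣ), ρ (D.rad (Matrix.single i.succ 0 (1 : F)) *
      D.levi (SpecialLinearGroup.transvection (zero_ne_succ i) ((b⁻¹ : Fˣ) : F)))
        (v : Fin k → ℂ) = v := by
    intro i b
    exact (rho_mul_apply ρ _ _ _).trans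
      ((congrArg (fun x => ρ (D.rad (Matrix.single i.succ 0 (1 : F))) x)
        (htv _ _ (zero_ne_succ i) _ (Fin.succ_ne_zero i))).trans (hradv _))
  have hfixes : Fixes ρ E (v : Fin k → ℂ) := by
    refine ⟨?_, ?_, ?_, ?_, ?_, ?_⟩
    · intro g
      rw [hElv]
      apply hlv
      intro i
      rfl
    · intro R
      rw [hErd]
      exact hradv _
    · intro c
      rw [hEsh]
      exact hQ0 _ _ v.2
    · intro a t
      rw [hEng]
      exact hxm a t
    · intro i b
      rw [hEpp]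
      exact hpp i b
    · intro i b
      have h1 : ρ (D.levi (dg2 i b)) (v : Fin k → ℂ) = v := by
        apply hlv
        intro i'
        show Matrix.diagonal (Fin.cons (b : F) (fun k => if k = i then ((b⁻¹ : Fˣ) : F) else 1))
          i'.succ 0 = 0
        exact Matrix.diagonal_apply_ne _ (Fin.succ_ne_zero i')
      have h2 := rho_mul_apply ρ (D.levi (dg2 i b)) (D.rad (Matrix.single i.succ 0 (1 : F)) *
        D.levi (SpecialLinearGroup.transvection (zero_ne_succ i) ((b⁻¹ : Fˣ) : F)))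
          (v : Fin k → ℂ)
      have h3 := hEqq i b
      rw [h3]
      exact h2.trans ((congrArg (fun x => ρ (D.levi (dg2 i b)) x) (hpp i b)).trans h1)
  rcases endgame hm hchar (by omega) ρ E (v : Fin k → ℂ) hfixes with hub | hbig
  · -- `levi (SL_n)` fixes `v`
    have : Nontrivial (Fin (m + 1)) := Fin.nontrivial_iff_two_le.mpr (by omega)
    apply hv0'
    apply hnofix _ v.2
    intro g
    refine Matrix.SpecialLinearGroup.diagonal_transvection_induction'
      (fun g => ρ (D.levi g) (v : Fin k → ℂ) = v) g ?_ ?_ ?_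
    · intro i j hij c hc
      apply hlv
      intro i'
      rw [Matrix.SpecialLinearGroup.diag2n_coe]
      exact Matrix.diagonal_apply_ne _ (Fin.succ_ne_zero i')
    · intro i j hij a
      by_cases hj : j = 0
      · subst hj
        rcases Fin.eq_zero_or_eq_succ i with h0 | ⟨i', hi'⟩
        · exact absurd h0 hij
        · subst hi'
          have h1 := hub (mk 0 (Pi.single i' a : Fin m → F) 0)
          have h2 := hEsingle i' a
          exact h2 ▸ h1
      · exact htv i j hij a hj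
    · intro A B hA hB
      show ρ (D.levi (A * B)) (v : Fin k → ℂ) = v
      have h1 : D.levi (A * B) = D.levi A * D.levi B := map_mul D.levi A B
      rw [h1]
      exact (rho_mul_apply ρ _ _ _).trans ((congrArg (fun x => ρ (D.levi A) x) hB).trans hA)
  · have h1 := Cfsg.Agent.Lib.Helper18.OOEndNUM.bO_le_orbit (Fintype.card F) m hq5 hm
    rw [hfin] at hbig
    omega

end final

end Cfsg.Agent.Lib.Helper26.OOMain
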