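import Mathlib
import Cfsg.Agent.Lib.Helper2.SOTDefs
import Cfsg.Agent.Lib.Helper27.SOTLADefs
import Cfsg.Agent.Lib.Helper13.OTUCalc
import Cfsg.Agent.Lib.Helper13.OTLADefs
import Cfsg.Agent.Lib.Helper23.OTLAYel
import Cfsg.Agent.Lib.Helper23.OTLATheta
import Cfsg.Agent.Lib.Helper29.OTLAR1p
import Cfsg.Agent.Lib.Helper22.OTLAR1pCore
import Cfsg.Agent.Lib.Helper26.OTLAR25

/-!
helper26: S5681 / S5709 part (LA'), block R2 of `notes/S5681_LA_leaves.lean`: leaves (R2-5a) `prod_scalar` and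
(R2-5c) `mid_Bt_shape` in EXACT form, from the cores of `Helper26.OTLAR25` and the landed leaves
`exists_yel`, `exists_yel'` (helper23), `theta_gram_scalar` (helper23), `theta_scalar_core` (helper29),
`R1plus_core` (helper22).  By-product: `R1plus26`, the statement of (R1+).
-/

set_option autoImplicit false
set_option linter.unusedSectionVars false
set_option linter.unusedVariables false

namespace Cfsg.Agent.Lib.Helper26.OTLALeaf
open Matrix
open Cfsg.Agent.Lib.Helper25.Tens Cfsg.Agent.Lib.Helper19.OSub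
open Cfsg.Agent.Lib.Helper2.SOT Cfsg.Agent.Lib.Helper27.SOTLA Cfsg.Agent.Lib.Helper13.OTU
open Cfsg.Agent.Lib.Helper13.OTLA
open scoped Kronecker

variable {F : Type*} [Field F] [Fintype F] {a b : ℕ} {G₁ : Matrix (Fin a) (Fin a) F}
  {G₂ : Matrix (Fin b) (Fin b) F} {o o' p p' : Fin b} {Om M : Subgroup (GL (Idx a b) F)}

/-- the statement of (P2c) `theta_scalar` -/
theorem theta_scalar26 (h : LBase G₁ G₂ o o' p p' Om M) (hR1 : R1P G₁ o o' p p' M)
    {g : GL (Idx a b) F} (hg : g ∈ M) (hU : UL o o' p p' g.1) (m : Fin b)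
    (hm : cls o o' p p' m = 1) : IsScal (blk g.1 m p) ∧ IsScal (blk g.1 m p') :=
  Cfsg.Agent.Lib.Helper29.OTLALeaf.theta_scalar_core h.symm2 h.nd2 h.adp
    (fun m₀ hm₀ => Cfsg.Agent.Lib.Helper23.OTLALeaf.theta_gram_scalar h hR1 hg hU m₀ hm₀) m hm

/-- the statement of (R1+) `R1plus` -/
theorem R1plus26 (h : LBase G₁ G₂ o o' p p' Om M) (hR1 : R1P G₁ o o' p p' M)
    {g : GL (Idx a b) F} (hg : g ∈ M) (hU : UL o o' p p' g.1) : g ∈ KG a b F :=
  Cfsg.Agent.Lib.Helper22.OTLALeaf.R1plus_core h hR1 hg hU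
    (fun m hm => theta_scalar26 h hR1 hg hU m hm)

/-- (R2-5a) the products `δ-block × (γ*⁻¹)-block` are scalar. -/
theorem prod_scalar (h : LBase G₁ G₂ o o' p p' Om M) (hR1 : R1P G₁ o o' p p' M)
    {g : GL (Idx a b) F} (hg : g ∈ M) (hst : StabR o o' g.1) (m m₀ c₀ c : Fin b)
    (hm : cls o o' p p' m = 1) (hm₀ : cls o o' p p' m₀ = 1) (hc₀ : cls o o' p p' c₀ = 2)
    (hc : cls o o' p p' c = 2) : IsScal (blk g.1 m m₀ * blk g⁻¹.1 c₀ c) :=
  prod_scalar_core h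
    (fun v hv => Cfsg.Agent.Lib.Helper23.OTLALeaf.exists_yel h v hv)
    (fun v hv => Cfsg.Agent.Lib.Helper23.OTLALeaf.exists_yel' h v hv)
    (fun x hx hU => R1plus26 h hR1 hx hU) hg hst m m₀ c₀ c hm hm₀ hc₀ hc

/-- (R2-5c) fibre lemma -/
theorem mid_Bt_shape (h : LBase G₁ G₂ o o' p p' Om M) (hR1 : R1P G₁ o o' p p' M)
    {g : GL (Idx a b) F} (hg : g ∈ M) (hst : StabR o o' g.1) :
    ∃ s : GL (Fin a) F,
      (∀ m m₀ : Fin b, cls o o' p p' m = 1 → cls o o' p p' m₀ = 1 →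
        ∃ c : F, blk g.1 m m₀ = c • s⁻¹.1) ∧
      (∀ c₀ c : Fin b, cls o o' p p' c₀ = 2 → cls o o' p p' c = 2 →
        ∃ t : F, blk g⁻¹.1 c₀ c = t • s.1) :=
  mid_Bt_shape_core h
    (fun v hv => Cfsg.Agent.Lib.Helper23.OTLALeaf.exists_yel h v hv)
    (fun v hv => Cfsg.Agent.Lib.Helper23.OTLALeaf.exists_yel' h v hv)
    (fun x hx hU => R1plus26 h hR1 hx hU) hg hst

end Cfsg.Agent.Lib.Helper26.OTLALeaf
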