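import Mathlib
import Cfsg.Prelude.Def_RootSubgroups
import Cfsg.Agent.Lib.Helper16.PCore

set_option autoImplicit false

namespace Cfsg.Agent.Lib.Helper26

open Cfsg

variable {G : Type*} [Group G]

theorem invol_mul_self {a : G} (ha : orderOf a = 2) : a * a = 1 := by
  have := pow_orderOf_eq_one a
  rwa [ha, sq] at this

theorem invol_inv {a : G} (ha : orderOf a = 2) : a⁻¹ = a :=
  inv_eq_of_mul_eq_one_left (invol_mul_self ha)

/-- Two members of an odd transposition set whose product is a `2`-element commute. -/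
theorem oddTransp_commute_of_two_elt {D : Set G} (hD : IsOddTranspositionSet D) {x y : G}
    (hx : x ∈ D) (hy : y ∈ D) {k : ℕ} (h : (x * y) ^ (2 ^ k) = 1) : x * y = y * x := by
  rcases hD.1.pair x hx y hy with h1 | h1 | h1
  · exact h1
  · have hd : orderOf (x * y) ∣ 2 ^ k := orderOf_dvd_of_pow_eq_one h
    obtain ⟨j, _, hj⟩ := (Nat.dvd_prime_pow Nat.prime_two).mp hd
    have hj0 : j = 0 := by
      by_contra hne
      rw [hj] at h1
      have : Even (2 ^ j) := (Nat.even_pow' hne).mpr even_two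
      exact (Nat.not_odd_iff_even.mpr this) h1
    rw [hj0, pow_zero, orderOf_eq_one_iff] at hj
    have hy' : y = x⁻¹ := eq_inv_of_mul_eq_one_right hj
    rw [hy']; simp
  · exact absurd h1.1 (hD.2 x hx y hy)

/-- In an odd transposition set: if `e, a ∈ D` commute and `q` lies in a normal `2`-subgroup,
then `e` commutes with `q a q⁻¹`. -/
theorem oddTransp_commute_conj {D : Set G} (hD : IsOddTranspositionSet D)
    {N : Subgroup G} [hN : N.Normal] (hN2 : IsPGroup 2 N) {e a q : G} (he : e ∈ D) (ha : a ∈ D)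
    (hea : e * a = a * e) (hq : q ∈ N) : e * (q * a * q⁻¹) = (q * a * q⁻¹) * e := by
  have he2 := invol_mul_self (hD.1.orderOf_eq e he)
  have ha2 := invol_mul_self (hD.1.orderOf_eq a ha)
  have hmem : (e * (q * a * q⁻¹)) ^ 2 ∈ N := by
    rw [← QuotientGroup.eq_one_iff]
    have hq1 : ((q : G) : G ⧸ N) = 1 := (QuotientGroup.eq_one_iff q).mpr hq
    simp only [QuotientGroup.mk_pow, QuotientGroup.mk_mul, QuotientGroup.mk_inv, hq1, one_mul,
      inv_one, mul_one]
    rw [← QuotientGroup.mk_mul, ← QuotientGroup.mk_pow]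
    have : (e * a) ^ 2 = 1 := by
      rw [sq]
      calc e * a * (e * a) = e * (a * e) * a := by group
        _ = e * (e * a) * a := by rw [hea]
        _ = (e * e) * (a * a) := by group
        _ = 1 := by rw [he2, ha2, one_mul]
    rw [this]; rfl
  obtain ⟨k, hk⟩ := hN2 ⟨_, hmem⟩
  have hk' : ((e * (q * a * q⁻¹)) ^ 2) ^ (2 ^ k) = 1 := by
    have := congrArg Subtype.val hk
    simpa using this
  have hk'' : (e * (q * a * q⁻¹)) ^ (2 ^ (k + 1)) = 1 := by
    rw [pow_succ, mul_comm, pow_mul]; exact hk'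
  exact oddTransp_commute_of_two_elt hD he (hD.1.conj_mem a ha q) hk''

theorem oddTransp_part1 {D : Set G} (hD : IsOddTranspositionSet D)
    {N : Subgroup G} [hN : N.Normal] (hN2 : IsPGroup 2 N) {a : G} (ha : a ∈ D) :
    ∀ e ∈ commutingMembers D a, ∀ q ∈ ⁅N, Subgroup.zpowers a⁆, e * q = q * e := by
  intro e he q hq
  obtain ⟨heD, hea⟩ := he
  have hle : ⁅N, Subgroup.zpowers a⁆ ≤ Subgroup.centralizer {e} := by
    rw [Subgroup.commutator_le]
    intro g₁ hg₁ g₂ hg₂
    rw [Subgroup.mem_centralizer_iff]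
    intro h hh
    rw [Set.mem_singleton_iff] at hh
    subst hh
    have h1 := oddTransp_commute_conj hD hN2 heD ha hea hg₁
    -- g₂ commutes with h
    have h2 : h * g₂ = g₂ * h := by
      obtain ⟨n, rfl⟩ := Subgroup.mem_zpowers_iff.mp hg₂
      exact ((Commute.zpow_right (show Commute h a from hea) n)).eq
    -- h commutes with g₁ g₂ g₁⁻¹
    have h3 : h * (g₁ * g₂ * g₁⁻¹) = (g₁ * g₂ * g₁⁻¹) * h := by
      obtain ⟨n, rfl⟩ := Subgroup.mem_zpowers_iff.mp hg₂
      have : g₁ * a ^ n * g₁⁻¹ = (g₁ * a * g₁⁻¹) ^ n := by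
        rw [conj_zpow]
      rw [this]
      exact ((Commute.zpow_right (show Commute h (g₁ * a * g₁⁻¹) from h1) n)).eq
    have h2' : h * g₂⁻¹ = g₂⁻¹ * h := ((show Commute h g₂ from h2).inv_right).eq
    rw [commutatorElement_def]
    calc h * (g₁ * g₂ * g₁⁻¹ * g₂⁻¹) = (h * (g₁ * g₂ * g₁⁻¹)) * g₂⁻¹ := by group
      _ = (g₁ * g₂ * g₁⁻¹) * (h * g₂⁻¹) := by rw [h3]; group
      _ = g₁ * g₂ * g₁⁻¹ * g₂⁻¹ * h := by rw [h2']; group
  have := hle hq
  rw [Subgroup.mem_centralizer_iff] at this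
  exact this e rfl

/-- Key lemma for part 2. -/
theorem oddTransp_centralizes {D : Set G} (hD : IsOddTranspositionSet D)
    {N : Subgroup G} [hN : N.Normal] (hN2 : IsPGroup 2 N) {a b q : G} (ha : a ∈ D) (hb : b ∈ D)
    (hne : b ≠ a) (hodd : Odd (orderOf (a * b))) (hq : q ∈ N)
    (hqt : q * (a * b) = (a * b) * q) : q * a = a * q := by
  have ha2 := invol_mul_self (hD.1.orderOf_eq a ha)
  have hb2 := invol_mul_self (hD.1.orderOf_eq b hb)
  have hai := invol_inv (hD.1.orderOf_eq a ha)
  have hbi := invol_inv (hD.1.orderOf_eq b hb)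
  obtain ⟨a', ha'⟩ : ∃ a', a' = q * a * q⁻¹ := ⟨_, rfl⟩
  have ha'D : a' ∈ D := ha' ▸ hD.1.conj_mem a ha q
  have ha'2 := invol_mul_self (hD.1.orderOf_eq a' ha'D)
  have haa' : a * a' = a' * a := by rw [ha']; exact oddTransp_commute_conj hD hN2 ha ha rfl hq
  obtain ⟨t, ht⟩ : ∃ t, t = a * b := ⟨_, rfl⟩
  rw [← ht] at hodd hqt
  obtain ⟨z, hz⟩ : ∃ z, z = a * a' := ⟨_, rfl⟩
  have hza : z * a = a * z := by
    rw [hz]
    calc a * a' * a = a * (a' * a) := by group
      _ = a * (a * a') := by rw [haa']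
  have hz2 : z * z = 1 := by
    rw [hz]
    calc a * a' * (a * a') = a * (a' * a) * a' := by group
      _ = a * (a * a') * a' := by rw [haa']
      _ = (a * a) * (a' * a') := by group
      _ = 1 := by rw [ha2, ha'2, one_mul]
  -- a inverts t
  have hat : a * t * a⁻¹ = t⁻¹ := by
    rw [ht, mul_inv_rev, hai, hbi]
    calc a * (a * b) * a = (a * a) * b * a := by group
      _ = b * a := by rw [ha2, one_mul]
  have hqt' : q⁻¹ * t * q = t := by
    calc q⁻¹ * t * q = q⁻¹ * (t * q) := by group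
      _ = q⁻¹ * (q * t) := by rw [hqt]
      _ = t := by group
  have ha't : a' * t * a'⁻¹ = t⁻¹ := by
    rw [ha']
    calc q * a * q⁻¹ * t * (q * a * q⁻¹)⁻¹ = q * (a * (q⁻¹ * t * q) * a⁻¹) * q⁻¹ := by group
      _ = q * t⁻¹ * q⁻¹ := by rw [hqt', hat]
      _ = (q * t * q⁻¹)⁻¹ := by group
      _ = t⁻¹ := by
        congr 1
        calc q * t * q⁻¹ = (q * t) * q⁻¹ := rfl
          _ = (t * q) * q⁻¹ := by rw [hqt]
          _ = t := by group
  have hzt : z * t = t * z := by
    have h1 : z * t * z⁻¹ = t := by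
      rw [hz]
      calc a * a' * t * (a * a')⁻¹ = a * (a' * t * a'⁻¹) * a⁻¹ := by group
        _ = a * t⁻¹ * a⁻¹ := by rw [ha't]
        _ = (a * t * a⁻¹)⁻¹ := by group
        _ = t := by rw [hat, inv_inv]
    calc z * t = (z * t * z⁻¹) * z := by group
      _ = t * z := by rw [h1]
  -- a' * b = z * t
  have ha'b : a' * b = z * t := by
    rw [hz, ht]
    calc a' * b = (a * a) * a' * b := by rw [ha2, one_mul]
      _ = a * (a * a') * b := by group
      _ = a * (a' * a) * b := by rw [haa']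
      _ = a * a' * (a * b) := by group
  have hpow : ∀ n : ℕ, (z * t) ^ n = z ^ n * t ^ n := fun n => (show Commute z t from hzt).mul_pow n
  have hz1 : z = 1 := by
    rcases hD.1.pair a' ha'D b hb with h1 | h1 | h1
    · -- commute case: contradiction
      exfalso
      have hsq : (a' * b) ^ 2 = 1 := by
        rw [sq]
        calc a' * b * (a' * b) = a' * (b * a') * b := by group
          _ = a' * (a' * b) * b := by rw [h1]
          _ = (a' * a') * (b * b) := by group
          _ = 1 := by rw [ha'2, hb2, one_mul]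
      rw [ha'b, hpow, sq z, hz2, one_mul] at hsq
      have hd : orderOf t ∣ 2 := orderOf_dvd_of_pow_eq_one hsq
      rcases (Nat.dvd_prime Nat.prime_two).mp hd with h2 | h2
      · rw [orderOf_eq_one_iff, ht] at h2
        have : b = a⁻¹ := eq_inv_of_mul_eq_one_right h2
        rw [hai] at this
        exact hne this
      · rw [h2] at hodd
        exact absurd hodd (by decide)
    · -- odd case
      rw [ha'b] at h1
      obtain ⟨m, hm⟩ := h1
      have h2 : (z * t) ^ (2 * m + 1) = 1 := by rw [← hm]; exact pow_orderOf_eq_one _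
      rw [hpow] at h2
      have hzm : z ^ (2 * m + 1) = z := by
        rw [pow_succ, pow_mul, sq, hz2, one_pow, one_mul]
      rw [hzm] at h2
      -- z = (t^(2m+1))⁻¹
      have hzt' : z = (t ^ (2 * m + 1))⁻¹ := eq_inv_of_mul_eq_one_left h2
      have h3 : (t ^ (2 * m + 1)) ^ 2 = 1 := by
        have : (z⁻¹) ^ 2 = 1 := by rw [inv_pow, sq, hz2, inv_one]
        rw [hzt', inv_inv] at this
        exact this
      rw [← pow_mul] at h3
      have hd : orderOf t ∣ (2 * m + 1) * 2 := orderOf_dvd_of_pow_eq_one h3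
      have hcop : Nat.Coprime (orderOf t) 2 := Nat.Coprime.symm (Nat.coprime_two_left.mpr hodd)
      have hd' : orderOf t ∣ 2 * m + 1 := hcop.dvd_of_dvd_mul_right hd
      have : t ^ (2 * m + 1) = 1 := orderOf_dvd_iff_pow_eq_one.mp hd'
      rw [hzt', this, inv_one]
    · exact absurd h1.1 (hD.2 a' ha'D b hb)
  -- so a' = a
  have : a' = a := by
    have h1 : a * a' = 1 := hz ▸ hz1
    have : a' = a⁻¹ := eq_inv_of_mul_eq_one_right h1
    rw [this, hai]
  calc q * a = (q * a * q⁻¹) * q := by group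
    _ = a * q := by rw [← ha', this]

theorem oddTransp_part2 {D : Set G} (hD : IsOddTranspositionSet D)
    {N : Subgroup G} [hN : N.Normal] (hN2 : IsPGroup 2 N) {a : G} (ha : a ∈ D) :
    ∀ b ∈ oddPartners D a,
      N ⊓ Subgroup.centralizer {a * b} = N ⊓ Subgroup.centralizer {a} ⊓ Subgroup.centralizer {b} := by
  intro b hb
  obtain ⟨hbD, hne, hodd⟩ := hb
  have hai := invol_inv (hD.1.orderOf_eq a ha)
  have hbi := invol_inv (hD.1.orderOf_eq b hbD)
  apply le_antisymm
  · intro q hq
    rw [Subgroup.mem_inf] at hq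
    obtain ⟨hqN, hqc⟩ := hq
    rw [Subgroup.mem_centralizer_iff] at hqc
    have hqt : q * (a * b) = (a * b) * q := (hqc (a * b) rfl).symm
    have h1 : q * a = a * q := oddTransp_centralizes hD hN2 ha hbD hne hodd hqN hqt
    have hba : b * a = (a * b)⁻¹ := by rw [mul_inv_rev, hai, hbi]
    have hodd' : Odd (orderOf (b * a)) := by rw [hba, orderOf_inv]; exact hodd
    have hqt' : q * (b * a) = (b * a) * q := by
      rw [hba]
      exact ((show Commute q (a * b) from hqt).inv_right).eq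
    have h2 : q * b = b * q := oddTransp_centralizes hD hN2 hbD ha (Ne.symm hne) hodd' hqN hqt'
    rw [Subgroup.mem_inf, Subgroup.mem_inf]
    refine ⟨⟨hqN, ?_⟩, ?_⟩
    · rw [Subgroup.mem_centralizer_iff]
      intro h hh; rw [Set.mem_singleton_iff] at hh; subst hh; exact h1.symm
    · rw [Subgroup.mem_centralizer_iff]
      intro h hh; rw [Set.mem_singleton_iff] at hh; subst hh; exact h2.symm
  · intro q hq
    rw [Subgroup.mem_inf, Subgroup.mem_inf] at hq
    obtain ⟨⟨hqN, hqa⟩, hqb⟩ := hq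
    rw [Subgroup.mem_centralizer_iff] at hqa hqb
    rw [Subgroup.mem_inf]
    refine ⟨hqN, ?_⟩
    rw [Subgroup.mem_centralizer_iff]
    intro h hh; rw [Set.mem_singleton_iff] at hh; subst hh
    have h1 := hqa a rfl
    have h2 := hqb b rfl
    calc a * b * q = a * (b * q) := by group
      _ = a * (q * b) := by rw [h2]
      _ = (a * q) * b := by group
      _ = (q * a) * b := by rw [h1]
      _ = q * (a * b) := by group

theorem oddTransp_main [Finite G] {D : Set G} (hD : IsOddTranspositionSet D) {a : G} (ha : a ∈ D) :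
    (∀ e ∈ commutingMembers D a, ∀ q ∈ ⁅pCore 2 G, Subgroup.zpowers a⁆, e * q = q * e) ∧
    (∀ b ∈ oddPartners D a,
      pCore 2 G ⊓ Subgroup.centralizer {a * b} =
        pCore 2 G ⊓ Subgroup.centralizer {a} ⊓ Subgroup.centralizer {b}) := by
  have : Fact (Nat.Prime 2) := ⟨Nat.prime_two⟩
  have hN2 : IsPGroup 2 (pCore 2 G) := Cfsg.Agent.Lib.Helper16.pCore_isPGroup
  have : (pCore 2 G).Normal := inferInstance
  exact ⟨oddTransp_part1 hD hN2 ha, oddTransp_part2 hD hN2 ha⟩

end Cfsg.Agent.Lib.Helper26
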