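import Cfsg.Agent.Lib.Helper26.EssTransvC

/-!
`p`-groups with an abelian subgroup of index `p`: elementary facts.
-/

set_option autoImplicit false
universe u

namespace Cfsg.Agent.Lib.Helper26

open Cfsg

section OliverA

variable {Ω : Type u} [Group Ω]

/-- `A` is an abelian subgroup of index `p` of the `p`-group `S` (packaged consequences). -/
structure IdxP (p : ℕ) (S A : Subgroup Ω) : Prop where
  le : A ≤ S
  comm : ∀ a ∈ A, ∀ b ∈ A, a * b = b * a
  card : Nat.card S = p * Nat.card A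
  normal : ∀ s ∈ S, ∀ a ∈ A, s * a * s⁻¹ ∈ A
  exists_pow : ∀ x ∈ S, x ∉ A → ∀ s ∈ S, ∃ i : ℕ, s * (x ^ i)⁻¹ ∈ A
  comm_mem : ∀ s₁ ∈ S, ∀ s₂ ∈ S, s₁ * s₂ * s₁⁻¹ * s₂⁻¹ ∈ A

theorem idxP_of {S A : Subgroup Ω} [Finite S] {p : ℕ} [Fact p.Prime] (hS : IsPGroup p S) (hAS : A ≤ S)
    (hab : IsMulCommutative ↥A) (hidx : (A.subgroupOf S).index = p) : IdxP p S A := by
  have hpp : p.Prime := Fact.out
  have hcard' : Nat.card ↥S = p * Nat.card ↥(A.subgroupOf S) := by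
    have := Subgroup.index_mul_card (A.subgroupOf S)
    rw [hidx] at this
    exact this.symm
  have hnorm : (A.subgroupOf S).Normal := normal_of_card_mul hS hcard'
  have hcomm : ∀ a b : A, a * b = b * a := isMulCommutative_iff.mp hab
  have hcardQ : Nat.card (↥S ⧸ A.subgroupOf S) = p := hidx
  have hcyc : IsCyclic (↥S ⧸ A.subgroupOf S) := isCyclic_of_prime_card hcardQ
  refine ⟨hAS, fun a ha b hb => congrArg Subtype.val (hcomm ⟨a, ha⟩ ⟨b, hb⟩), ?_, ?_, ?_, ?_⟩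
  · rw [hcard', Nat.card_congr (Subgroup.subgroupOfEquivOfLe hAS).toEquiv]
  · intro s hs a ha
    have h1 : (⟨a, hAS ha⟩ : S) ∈ A.subgroupOf S := by
      rw [Subgroup.mem_subgroupOf]
      exact ha
    have h2 := hnorm.conj_mem _ h1 ⟨s, hs⟩
    rw [Subgroup.mem_subgroupOf] at h2
    exact h2
  · intro x hx hxA s hs
    rcases mem_or_exists_pow_mem hcard' (⟨x, hx⟩ : S) (⟨s, hs⟩ : S) with h | ⟨i, hi⟩
    · rw [Subgroup.mem_subgroupOf] at h
      exact absurd h hxA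
    · rw [Subgroup.mem_subgroupOf] at hi
      exact ⟨i, hi⟩
  · intro s₁ h₁ s₂ h₂
    have hc : (QuotientGroup.mk (⟨s₁, h₁⟩ : S) : ↥S ⧸ A.subgroupOf S) * QuotientGroup.mk (⟨s₂, h₂⟩ : S) =
        QuotientGroup.mk (⟨s₂, h₂⟩ : S) * QuotientGroup.mk (⟨s₁, h₁⟩ : S) :=
      isMulCommutative_iff.mp IsCyclic.isMulCommutative _ _
    have h3 : (QuotientGroup.mk ((⟨s₁, h₁⟩ : S) * ⟨s₂, h₂⟩ * (⟨s₁, h₁⟩ : S)⁻¹ * (⟨s₂, h₂⟩ : S)⁻¹) :
        ↥S ⧸ A.subgroupOf S) = 1 := by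
      rw [QuotientGroup.mk_mul, QuotientGroup.mk_mul, QuotientGroup.mk_mul, QuotientGroup.mk_inv,
        QuotientGroup.mk_inv, hc]
      group
    rw [QuotientGroup.eq_one_iff, Subgroup.mem_subgroupOf] at h3
    exact h3

variable {S A : Subgroup Ω} {p : ℕ}

theorem IdxP.eq_sup (h : IdxP p S A) {P : Subgroup Ω} (hPS : P ≤ S) {x : Ω} (hxP : x ∈ P) (hxA : x ∉ A) :
    P = (P ⊓ A) ⊔ Subgroup.zpowers x := by
  apply le_antisymm
  · intro y hy
    obtain ⟨i, hi⟩ := h.exists_pow x (hPS hxP) hxA y (hPS hy)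
    have e : y = (y * (x ^ i)⁻¹) * x ^ i := by group
    rw [e]
    apply Subgroup.mul_mem
    · apply Subgroup.mem_sup_left
      exact ⟨P.mul_mem hy (P.inv_mem (P.pow_mem hxP i)), hi⟩
    · apply Subgroup.mem_sup_right
      exact Subgroup.pow_mem _ (Subgroup.mem_zpowers x) i
  · apply sup_le inf_le_left
    exact Subgroup.zpowers_le.mpr hxP

theorem IdxP.le_centralizer_of (h : IdxP p S A) {P : Subgroup Ω} (hPS : P ≤ S) {x : Ω} (hxP : x ∈ P)
    (hxA : x ∉ A) (T : Set Ω) (h1 : P ⊓ A ≤ Subgroup.centralizer T) (h2 : x ∈ Subgroup.centralizer T) :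
    P ≤ Subgroup.centralizer T := by
  rw [h.eq_sup hPS hxP hxA]
  exact sup_le h1 (Subgroup.zpowers_le.mpr h2)

theorem mem_inf_centralizer_iff {S : Subgroup Ω} {z : Ω} :
    z ∈ S ⊓ Subgroup.centralizer (S : Set Ω) ↔ z ∈ S ∧ ∀ s ∈ S, s * z = z * s := by
  rw [Subgroup.mem_inf, Subgroup.mem_centralizer_iff]
  rfl

/-- An element of `A` commuting with an element outside `A` is central in `S`. -/
theorem IdxP.mem_center (h : IdxP p S A) {x : Ω} (hxS : x ∈ S) (hxA : x ∉ A) {a : Ω} (ha : a ∈ A)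
    (hax : a * x = x * a) : a ∈ S ⊓ Subgroup.centralizer (S : Set Ω) := by
  rw [mem_inf_centralizer_iff]
  refine ⟨h.le ha, ?_⟩
  have h1 : S ≤ Subgroup.centralizer ({a} : Set Ω) := by
    apply h.le_centralizer_of le_rfl hxS hxA
    · intro b hb
      rw [Subgroup.mem_centralizer_iff]
      intro c hc
      rw [Set.mem_singleton_iff] at hc
      subst hc
      exact h.comm c ha b hb.2
    · rw [Subgroup.mem_centralizer_iff]
      intro c hc
      rw [Set.mem_singleton_iff] at hc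
      subst hc
      exact hax
  intro s hs
  have := Subgroup.mem_centralizer_iff.mp (h1 hs) a rfl
  exact this.symm

/-- The centre of a nonabelian `S` lies in `A`. -/
theorem IdxP.center_le (h : IdxP p S A) (hna : ¬ IsMulCommutative ↥S) :
    S ⊓ Subgroup.centralizer (S : Set Ω) ≤ A := by
  intro z hz
  by_contra hzA
  apply hna
  have hzc : ∀ s ∈ S, s * z = z * s := fun s hs => Subgroup.mem_centralizer_iff.mp hz.2 s hs
  have h1 : S ≤ Subgroup.centralizer (S : Set Ω) := by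
    apply h.le_centralizer_of le_rfl hz.1 hzA _ _ hz.2
    intro a ha
    exact (h.mem_center hz.1 hzA ha.2 (hzc a ha.1)).2
  refine ⟨⟨fun a b => Subtype.ext ?_⟩⟩
  exact (Subgroup.mem_centralizer_iff.mp (h1 b.2) a a.2)

/-- If the commutators of `a ∈ A` with the powers of `x ∉ A` are central, so are all commutators of `a`. -/
theorem IdxP.comm_mem_center (h : IdxP p S A) {x : Ω} (hxS : x ∈ S) (hxA : x ∉ A) {a : Ω} (ha : a ∈ A)
    (hi : ∀ i : ℕ, a * x ^ i * a⁻¹ * (x ^ i)⁻¹ ∈ S ⊓ Subgroup.centralizer (S : Set Ω)) :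
    ∀ s ∈ S, a * s * a⁻¹ * s⁻¹ ∈ S ⊓ Subgroup.centralizer (S : Set Ω) := by
  intro s hs
  obtain ⟨i, hi'⟩ := h.exists_pow x hxS hxA s hs
  obtain ⟨b, hb⟩ : ∃ b, b = s * (x ^ i)⁻¹ := ⟨_, rfl⟩
  rw [← hb] at hi'
  have hs' : s = b * x ^ i := by rw [hb]; group
  have hc := hi i
  have hcc := (mem_inf_centralizer_iff.mp hc).2 b (h.le hi')
  have hab : a * b = b * a := h.comm a ha b hi'
  have e : a * s * a⁻¹ * s⁻¹ = a * x ^ i * a⁻¹ * (x ^ i)⁻¹ := by
    rw [hs']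
    calc a * (b * x ^ i) * a⁻¹ * (b * x ^ i)⁻¹ = (a * b) * (x ^ i * a⁻¹ * (x ^ i)⁻¹) * b⁻¹ := by group
      _ = b * (a * x ^ i * a⁻¹ * (x ^ i)⁻¹) * b⁻¹ := by rw [hab]; group
      _ = (a * x ^ i * a⁻¹ * (x ^ i)⁻¹) * b * b⁻¹ := by rw [hcc]
      _ = a * x ^ i * a⁻¹ * (x ^ i)⁻¹ := by group
  rw [e]
  exact hc

theorem mem_Z2_iff {S : Subgroup Ω} {g : Ω} :
    g ∈ (upperCentralSeries ↥S 2).map S.subtype ↔
      g ∈ S ∧ ∀ s ∈ S, g * s * g⁻¹ * s⁻¹ ∈ S ⊓ Subgroup.centralizer (S : Set Ω) := by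
  have hcen : ∀ z : S, z ∈ Subgroup.center ↥S ↔ (z : Ω) ∈ S ⊓ Subgroup.centralizer (S : Set Ω) := by
    intro z
    rw [Subgroup.mem_center_iff, mem_inf_centralizer_iff]
    constructor
    · intro hz
      exact ⟨z.2, fun s hs => congrArg Subtype.val (hz ⟨s, hs⟩)⟩
    · intro hz s
      exact Subtype.ext (hz.2 s s.2)
  constructor
  · rintro ⟨⟨g, hg⟩, hg2, rfl⟩
    refine ⟨hg, fun s hs => ?_⟩
    have hg2' : (⟨g, hg⟩ : S) ∈ Subgroup.upperCentralSeries ↥S (1 + 1) := hg2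
    rw [Subgroup.mem_upperCentralSeries_succ_iff, Subgroup.upperCentralSeries_one] at hg2'
    have := hg2' ⟨s, hs⟩
    rw [commutatorElement_def] at this
    exact (hcen _).mp this
  · rintro ⟨hg, hg2⟩
    refine ⟨⟨g, hg⟩, ?_, rfl⟩
    show (⟨g, hg⟩ : S) ∈ Subgroup.upperCentralSeries ↥S (1 + 1)
    rw [Subgroup.mem_upperCentralSeries_succ_iff, Subgroup.upperCentralSeries_one]
    intro s
    rw [commutatorElement_def]
    exact (hcen _).mpr (hg2 s s.2)

theorem IdxP.normal_subgroupOf (h : IdxP p S A) : (A.subgroupOf S).Normal := by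
  constructor
  intro a ha s
  rw [Subgroup.mem_subgroupOf] at ha ⊢
  exact h.normal s s.2 a ha

theorem IdxP.card_subgroupOf [Finite S] [Fact p.Prime] (h : IdxP p S A) {P : Subgroup Ω} (hPS : P ≤ S)
    {x : Ω} (hxP : x ∈ P) (hxA : x ∉ A) : Nat.card P = p * Nat.card (A.subgroupOf P) := by
  have hpp : p.Prime := Fact.out
  have hnorm := h.normal_subgroupOf
  have hfinP : Finite P := Finite.of_injective (Subgroup.inclusion hPS) (Subgroup.inclusion_injective _)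
  have hfinA : Finite A := Finite.of_injective (Subgroup.inclusion h.le) (Subgroup.inclusion_injective _)
  have hcardQ : Nat.card (↥S ⧸ A.subgroupOf S) = p := by
    have h1 := Subgroup.card_eq_card_quotient_mul_card_subgroup (A.subgroupOf S)
    rw [Nat.card_congr (Subgroup.subgroupOfEquivOfLe h.le).toEquiv, h.card] at h1
    exact (Nat.eq_of_mul_eq_mul_right Nat.card_pos h1).symm
  obtain ⟨φ, hφ⟩ : ∃ φ : ↥P →* ↥S ⧸ A.subgroupOf S,
      φ = (QuotientGroup.mk' (A.subgroupOf S)).comp (Subgroup.inclusion hPS) := ⟨_, rfl⟩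
  have hker : φ.ker = A.subgroupOf P := by
    ext y
    rw [MonoidHom.mem_ker, Subgroup.mem_subgroupOf, hφ]
    show (QuotientGroup.mk (Subgroup.inclusion hPS y) : ↥S ⧸ A.subgroupOf S) = 1 ↔ _
    rw [QuotientGroup.eq_one_iff, Subgroup.mem_subgroupOf]
    rfl
  have hrange : φ.range = ⊤ := by
    have : Fact (Nat.card (↥S ⧸ A.subgroupOf S)).Prime := ⟨hcardQ ▸ hpp⟩
    rcases Subgroup.eq_bot_or_eq_top_of_prime_card φ.range with hb | ht
    · exfalso
      have h1 : φ ⟨x, hxP⟩ ∈ φ.range := ⟨_, rfl⟩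
      rw [hb, Subgroup.mem_bot] at h1
      have h2 : (⟨x, hxP⟩ : P) ∈ φ.ker := h1
      rw [hker, Subgroup.mem_subgroupOf] at h2
      exact hxA h2
    · exact ht
  have h1 := Subgroup.index_ker φ
  rw [hrange, Subgroup.card_top, hcardQ, hker] at h1
  have h2 := Subgroup.index_mul_card (A.subgroupOf P)
  rw [h1] at h2
  exact h2.symm

end OliverA

end Cfsg.Agent.Lib.Helper26
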