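import Cfsg.Agent.Lib.Helper26.OliverA
import Cfsg.Agent.Lib.Helper26.FSSatEquiv
import Cfsg.Agent.Lib.Helper26.FSAlperin

/-!
Essential subgroups: tools for Oliver's lemma on `p`-groups with an abelian subgroup of index `p`.
-/

set_option autoImplicit false
universe u

namespace Cfsg.Agent.Lib.Helper26

open Cfsg Cfsg.FusionSystem

section Abstract

variable {H : Type u} [Group H] [Finite H] {p : ℕ} [Fact p.Prime]

/-- A non-inner transvection in `A` forces its subgroup to be moved by `A`. -/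
theorem exists_moved_of_transv (hH : IsPGroup p H) {A : Subgroup (MulAut H)} (hd : EssData p H A)
    {K : Subgroup H} {α : MulAut H} (hαA : α ∈ A) (hT : IsTransv K α) (hαn : α ∉ Inn H) :
    ∃ γ ∈ A, ∃ x ∈ K, γ x ∉ K := by
  by_contra hno
  push Not at hno
  apply hαn
  apply hd.mem_inn_of_stab hH _ hαA hT.1 hT.2
  intro γ hγ x
  constructor
  · exact hno γ hγ x
  · intro hx
    have := hno γ⁻¹ (A.inv_mem hγ) _ hx
    rwa [MulAut.inv_apply_self] at this

/-- If an abelian subgroup `K` of index `p` containing all commutators is moved by an automorphism, then all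
commutators are central. -/
theorem comm_central_of_moved {K : Subgroup H} (hidx : Nat.card H = p * Nat.card K)
    (hab : ∀ a ∈ K, ∀ b ∈ K, a * b = b * a) (hcomm : ∀ u v : H, u * v * u⁻¹ * v⁻¹ ∈ K) (γ : MulAut H)
    {x : H} (hx : x ∈ K) (hγx : γ x ∉ K) (u v w : H) :
    (u * v * u⁻¹ * v⁻¹) * w = w * (u * v * u⁻¹ * v⁻¹) := by
  obtain ⟨c, hc⟩ : ∃ c, c = u * v * u⁻¹ * v⁻¹ := ⟨_, rfl⟩
  rw [← hc]
  have hcK : c ∈ K := hc ▸ hcomm u v
  obtain ⟨c', hc'⟩ : ∃ c', c' = γ⁻¹ u * γ⁻¹ v * (γ⁻¹ u)⁻¹ * (γ⁻¹ v)⁻¹ := ⟨_, rfl⟩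
  have hc'K : c' ∈ K := hc' ▸ hcomm _ _
  have hcc' : c = γ c' := by
    rw [hc', hc, map_mul, map_mul, map_mul, map_inv, map_inv, MulAut.apply_inv_self, MulAut.apply_inv_self]
  have hKC : K ≤ Subgroup.centralizer ({c} : Set H) := by
    intro b hb
    rw [Subgroup.mem_centralizer_iff]
    intro d hd
    rw [Set.mem_singleton_iff] at hd
    subst hd
    exact hab d hcK b hb
  have hxC : γ x ∈ Subgroup.centralizer ({c} : Set H) := by
    rw [Subgroup.mem_centralizer_iff]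
    intro d hd
    rw [Set.mem_singleton_iff] at hd
    subst hd
    rw [hcc', ← map_mul, ← map_mul, hab c' hc'K x hx]
  have hne : K ≠ Subgroup.centralizer ({c} : Set H) := by
    intro h
    apply hγx
    rw [h]
    exact hxC
  have htop := eq_top_of_lt_of_card_mul hidx hKC hne
  have hw : w ∈ Subgroup.centralizer ({c} : Set H) := by
    rw [htop]
    exact Subgroup.mem_top _
  exact Subgroup.mem_centralizer_iff.mp hw c rfl

end Abstract

section FS

variable {Ω : Type u} [Group Ω] {S : Subgroup Ω}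

/-- An essential subgroup of a saturated fusion system is properly contained in its normalizer in `S`. -/
theorem exists_mem_normalizerIn_not_mem_of_essential [Finite S] {p : ℕ} [Fact p.Prime] (hS : IsPGroup p S)
    (F : FusionSystem S) (hF : F.IsSaturated p) {P : Subgroup Ω} (hP : F.IsEssential p P) :
    ∃ g ∈ normalizerIn S P, g ∉ P := by
  have hd := essData_of_essential hS F hP
  obtain ⟨α, hαA, hαInn, j, hαj⟩ := hd.out
  have hFA := (saturated_fn hS F hF hP.2.1).2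
  have hBp : IsPGroup p (Subgroup.zpowers α) := by
    rintro ⟨x, hx⟩
    obtain ⟨n, rfl⟩ := Subgroup.mem_zpowers_iff.mp hx
    refine ⟨j, Subtype.ext ?_⟩
    show (α ^ n) ^ (p ^ j) = 1
    rw [← zpow_natCast, ← zpow_mul, mul_comm, zpow_mul, zpow_natCast, hαj, one_zpow]
  obtain ⟨χ, hχ, h⟩ := exists_conj_mem_autInducedBy F hFA (Subgroup.zpowers α)
    (Subgroup.zpowers_le.mpr hαA) hBp
  have h1 := h α (Subgroup.mem_zpowers α)
  obtain ⟨g, hgS, hgN, hg⟩ := (mem_autInducedBy_iff' S P _).mp h1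
  refine ⟨g, ⟨hgS, hgN⟩, fun hgP => ?_⟩
  apply hαInn
  have h2 : P.normalizerMonoidHom ⟨g, hgN⟩ ∈ Inn P := by
    refine ⟨⟨g, hgP⟩, ?_⟩
    ext y
    rfl
  rw [← hg] at h2
  have h3 := (innNormal P).conj_mem _ h2 χ⁻¹
  have e : χ⁻¹ * (χ * α * χ⁻¹) * χ⁻¹⁻¹ = α := by group
  rw [e] at h3
  exact h3

/-- Conjugation by an element of `A` normalizing `P` is a transvection with respect to `A ∩ P`. -/
theorem conjAut_isTransv {A : Subgroup Ω} {p : ℕ} (h : IdxP p S A) {P : Subgroup Ω} (hPS : P ≤ S) {a : Ω}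
    (ha : a ∈ A) (haN : a ∈ Subgroup.normalizer (P : Set Ω)) :
    IsTransv (A.subgroupOf P) (P.normalizerMonoidHom ⟨a, haN⟩) := by
  refine ⟨fun y hy => ?_, fun y => ?_⟩
  · rw [Subgroup.mem_subgroupOf] at hy
    apply Subtype.ext
    show a * (y : Ω) * a⁻¹ = y
    rw [h.comm a ha y hy, mul_inv_cancel_right]
  · rw [Subgroup.mem_subgroupOf]
    show ((y : Ω))⁻¹ * (a * (y : Ω) * a⁻¹) ∈ A
    have h1 := h.normal _ (S.inv_mem (hPS y.2)) a ha
    rw [inv_inv] at h1
    have e : ((y : Ω))⁻¹ * (a * (y : Ω) * a⁻¹) = ((y : Ω)⁻¹ * a * (y : Ω)) * a⁻¹ := by group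
    rw [e]
    exact A.mul_mem h1 (A.inv_mem ha)

end FS

end Cfsg.Agent.Lib.Helper26
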