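import Cfsg.Agent.Lib.Helper26.OliverB

/-!
Oliver's lemma: essential subgroups of a saturated fusion system over a nonabelian `p`-group with an abelian
subgroup of index `p`.
-/

set_option autoImplicit false
universe u

namespace Cfsg.Agent.Lib.Helper26

open Cfsg Cfsg.FusionSystem

section Aux

theorem mem_of_mul_pow_inv_mem {G : Type*} [Group G] {P : Subgroup G} {a : G} {p m i : ℕ}
    (ha : a ^ (p ^ m) = 1) (h : a * (a ^ (p * i))⁻¹ ∈ P) : a ∈ P := by
  have h1 : a ^ (1 - (p : ℤ) * i) ∈ P := by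
    rw [zpow_sub, zpow_one, ← Nat.cast_mul, zpow_natCast]
    exact h
  have hc : IsCoprime (1 - (p : ℤ) * i) ((p : ℤ) ^ m) := by
    apply IsCoprime.pow_right
    exact ⟨1, i, by ring⟩
  obtain ⟨r, s, hrs⟩ := hc
  have h2 : a ^ ((p : ℤ) ^ m) = 1 := by
    rw [← Nat.cast_pow, zpow_natCast, ha]
  have h3 : a = (a ^ (1 - (p : ℤ) * i)) ^ r * (a ^ ((p : ℤ) ^ m)) ^ s := by
    rw [← zpow_mul, ← zpow_mul, ← zpow_add, mul_comm _ r, mul_comm _ s, hrs, zpow_one]
  rw [h3, h2, one_zpow, mul_one]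
  exact P.zpow_mem h1 r

end Aux

variable {Ω : Type u} [Group Ω] {S : Subgroup Ω}

theorem oliver_exists_a [Finite S] {p : ℕ} [Fact p.Prime] (hS : IsPGroup p S) (F : FusionSystem S)
    (hF : F.IsSaturated p) {A : Subgroup Ω} (h : IdxP p S A) {P : Subgroup Ω} (hP : F.IsEssential p P)
    {x : Ω} (hxP : x ∈ P) (hxA : x ∉ A) :
    ∃ a ∈ A, a ∈ Subgroup.normalizer (P : Set Ω) ∧ a ∉ P := by
  have hPS : P ≤ S := hP.1.1
  obtain ⟨g, hgN, hgP⟩ := exists_mem_normalizerIn_not_mem_of_essential hS F hF hP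
  have hgS : g ∈ S := hgN.1
  have hgN' : g ∈ Subgroup.normalizer (P : Set Ω) := hgN.2
  obtain ⟨i, hi⟩ := h.exists_pow x (hPS hxP) hxA g hgS
  refine ⟨g * (x ^ i)⁻¹, hi, ?_, ?_⟩
  · exact Subgroup.mul_mem _ hgN' (Subgroup.inv_mem _ (Subgroup.le_normalizer (P.pow_mem hxP i)))
  · intro hmem
    apply hgP
    have e : g = (g * (x ^ i)⁻¹) * x ^ i := by group
    rw [e]
    exact P.mul_mem hmem (P.pow_mem hxP i)

theorem oliver_shape [Finite S] {p : ℕ} [Fact p.Prime] (hS : IsPGroup p S) (F : FusionSystem S)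
    {A : Subgroup Ω} (h : IdxP p S A) (hna : ¬ IsMulCommutative ↥S)
    {P : Subgroup Ω} (hP : F.IsEssential p P) {x : Ω} (hxP : x ∈ P) (hxA : x ∉ A)
    {a₁ : Ω} (ha₁ : a₁ ∈ A) (ha₁N : a₁ ∈ Subgroup.normalizer (P : Set Ω)) (ha₁P : a₁ ∉ P) :
    P ⊓ A = S ⊓ Subgroup.centralizer (S : Set Ω) ∨
      ((upperCentralSeries ↥S 2).map S.subtype ≤ A ∧ P ⊓ A = (upperCentralSeries ↥S 2).map S.subtype) := by
  have hpp : p.Prime := Fact.out
  have hPS : P ≤ S := hP.1.1
  have hfinP : Finite P := finite_of_le hPS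
  have hPp : IsPGroup p P := hS.to_le hPS
  have hcen : centralizerIn S P ≤ P := hP.1.2 P (isConj_refl F hPS)
  have hd := essData_of_essential hS F hP
  have hZA : S ⊓ Subgroup.centralizer (S : Set Ω) ≤ A := h.center_le hna
  have hZP : S ⊓ Subgroup.centralizer (S : Set Ω) ≤ P := by
    intro z hz
    apply hcen
    exact ⟨hz.1, Subgroup.centralizer_le (fun y hy => hPS hy) hz.2⟩
  have hZc : ∀ z ∈ S ⊓ Subgroup.centralizer (S : Set Ω), ∀ s ∈ S, s * z = z * s :=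
    fun z hz => (mem_inf_centralizer_iff.mp hz).2
  have hcA : ∀ n : ↥(Subgroup.normalizer (P : Set Ω)), (n : Ω) ∈ S →
      P.normalizerMonoidHom n ∈ F.autGroup P := fun n hn =>
    autInducedBy_le_autGroup F hPS (normalizerMonoidHom_mem_autInducedBy hn n.2)
  have hcI : ∀ n : ↥(Subgroup.normalizer (P : Set Ω)), (n : Ω) ∈ S →
      P.normalizerMonoidHom n ∈ Inn P → (n : Ω) ∈ P := fun n hn hI =>
    mem_of_normalizerMonoidHom_mem_inn F hP.1 hn n.2 hI
  have hidxK : Nat.card P = p * Nat.card (A.subgroupOf P) := h.card_subgroupOf hPS hxP hxA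
  have habK : ∀ a ∈ A.subgroupOf P, ∀ b ∈ A.subgroupOf P, a * b = b * a := by
    intro a ha b hb
    rw [Subgroup.mem_subgroupOf] at ha hb
    exact Subtype.ext (h.comm _ ha _ hb)
  by_cases hPab : ∀ u ∈ P, ∀ v ∈ P, u * v = v * u
  · left
    apply le_antisymm
    · intro y hy
      exact h.mem_center (hPS hxP) hxA hy.2 (hPab y hy.1 x hxP)
    · exact le_inf hZP hZA
  · right
    -- the centre of `P` is the centre of `S`
    have hZP' : P ⊓ Subgroup.centralizer (P : Set Ω) ≤ S ⊓ Subgroup.centralizer (S : Set Ω) := by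
      intro z hz
      have hzc : ∀ u ∈ P, u * z = z * u := fun u hu => Subgroup.mem_centralizer_iff.mp hz.2 u hu
      by_cases hzA : z ∈ A
      · exact h.mem_center (hPS hxP) hxA hzA (hzc x hxP).symm
      · exfalso
        apply hPab
        have h1 : P ⊓ A ≤ Subgroup.centralizer (P : Set Ω) := by
          intro b hb
          have h2 : P ≤ Subgroup.centralizer ({b} : Set Ω) := by
            apply h.le_centralizer_of hPS hz.1 hzA
            · intro c hc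
              rw [Subgroup.mem_centralizer_iff]
              intro d hd
              rw [Set.mem_singleton_iff] at hd
              subst hd
              exact h.comm d hb.2 c hc.2
            · rw [Subgroup.mem_centralizer_iff]
              intro d hd
              rw [Set.mem_singleton_iff] at hd
              subst hd
              exact hzc d hb.1
          rw [Subgroup.mem_centralizer_iff]
          intro u hu
          exact (Subgroup.mem_centralizer_iff.mp (h2 hu) b rfl).symm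
        have h3 : P ≤ Subgroup.centralizer (P : Set Ω) :=
          h.le_centralizer_of hPS hz.1 hzA _ h1 hz.2
        intro u hu v hv
        exact (Subgroup.mem_centralizer_iff.mp (h3 hv) u hu)
    -- `A ∩ P` is moved by some automorphism
    obtain ⟨γ, -, y, hyK, hγy⟩ := exists_moved_of_transv hPp hd (hcA ⟨a₁, ha₁N⟩ (h.le ha₁))
      (conjAut_isTransv h hPS ha₁ ha₁N) (fun hI => ha₁P (hcI ⟨a₁, ha₁N⟩ (h.le ha₁) hI))
    have hcommK : ∀ u v : P, u * v * u⁻¹ * v⁻¹ ∈ A.subgroupOf P := by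
      intro u v
      rw [Subgroup.mem_subgroupOf]
      exact h.comm_mem u (hPS u.2) v (hPS v.2)
    -- class two
    have hcl : ∀ u ∈ P, ∀ v ∈ P, u * v * u⁻¹ * v⁻¹ ∈ S ⊓ Subgroup.centralizer (S : Set Ω) := by
      intro u hu v hv
      apply hZP'
      rw [mem_inf_centralizer_iff]
      refine ⟨P.mul_mem (P.mul_mem (P.mul_mem hu hv) (P.inv_mem hu)) (P.inv_mem hv), ?_⟩
      intro w hw
      have := comm_central_of_moved hidxK habK hcommK γ hyK hγy ⟨u, hu⟩ ⟨v, hv⟩ ⟨w, hw⟩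
      exact (congrArg Subtype.val this).symm
    have h3 : P ⊓ A ≤ (upperCentralSeries ↥S 2).map S.subtype := by
      intro y hy
      rw [mem_Z2_iff]
      exact ⟨hPS hy.1, h.comm_mem_center (hPS hxP) hxA hy.2
        (fun i => hcl y hy.1 (x ^ i) (P.pow_mem hxP i))⟩
    have h4 : (upperCentralSeries ↥S 2).map S.subtype ⊓ A ≤ P := by
      intro y hy
      obtain ⟨hyS, hyc⟩ := mem_Z2_iff.mp hy.1
      have hyN : y ∈ Subgroup.normalizer (P : Set Ω) := by
        apply mem_normalizer_of_conj_mem_finite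
        intro u hu
        have e : y * u * y⁻¹ = (y * u * y⁻¹ * u⁻¹) * u := by group
        rw [e]
        exact P.mul_mem (hZP (hyc u (hPS hu))) hu
      apply hcI ⟨y, hyN⟩ hyS
      apply hd.mem_inn_of_stab hPp (K := Subgroup.center ↥P) _ (hcA ⟨y, hyN⟩ hyS)
      · intro z hz
        apply Subtype.ext
        show y * (z : Ω) * y⁻¹ = z
        have hzZ : (z : Ω) ∈ S ⊓ Subgroup.centralizer (S : Set Ω) := by
          apply hZP'
          rw [mem_inf_centralizer_iff]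
          refine ⟨z.2, ?_⟩
          intro w hw
          have := Subgroup.mem_center_iff.mp hz ⟨w, hw⟩
          exact congrArg Subtype.val this
        rw [hZc _ hzZ y hyS, mul_inv_cancel_right]
      · intro u
        have hc := hyc u (hPS u.2)
        rw [Subgroup.mem_center_iff]
        intro w
        apply Subtype.ext
        show (w : Ω) * ((u : Ω)⁻¹ * (y * (u : Ω) * y⁻¹)) = ((u : Ω)⁻¹ * (y * (u : Ω) * y⁻¹)) * (w : Ω)
        have e : (u : Ω)⁻¹ * (y * (u : Ω) * y⁻¹) = y * (u : Ω) * y⁻¹ * (u : Ω)⁻¹ := by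
          have h5 := hZc _ hc (u : Ω)⁻¹ (S.inv_mem (hPS u.2))
          calc (u : Ω)⁻¹ * (y * (u : Ω) * y⁻¹) = ((u : Ω)⁻¹ * (y * (u : Ω) * y⁻¹ * (u : Ω)⁻¹)) * (u : Ω) := by
                group
            _ = ((y * (u : Ω) * y⁻¹ * (u : Ω)⁻¹) * (u : Ω)⁻¹) * (u : Ω) := by rw [h5]
            _ = y * (u : Ω) * y⁻¹ * (u : Ω)⁻¹ := by group
        rw [e]
        exact hZc _ hc w (hPS w.2)
      · intro γ' _ z
        have hchar : (Subgroup.center ↥P).Characteristic := inferInstance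
        have := Subgroup.characteristic_iff_comap_eq.mp hchar γ'
        constructor
        · intro hz
          rw [← this] at hz
          exact hz
        · intro hz
          rw [← this]
          exact hz
    have h5 : (upperCentralSeries ↥S 2).map S.subtype ≤ A := by
      by_contra hnot
      obtain ⟨z, hzZ2, hzA⟩ := SetLike.not_le_iff_exists.mp hnot
      obtain ⟨hzS, hzc⟩ := mem_Z2_iff.mp hzZ2
      apply ha₁P
      apply h4
      refine ⟨mem_Z2_iff.mpr ?_, ha₁⟩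
      refine ⟨h.le ha₁, h.comm_mem_center hzS hzA ha₁ (fun i => ?_)⟩
      have hzi : z ^ i ∈ (upperCentralSeries ↥S 2).map S.subtype := Subgroup.pow_mem _ hzZ2 i
      have h6 := (mem_Z2_iff.mp hzi).2 a₁ (h.le ha₁)
      have e : a₁ * z ^ i * a₁⁻¹ * (z ^ i)⁻¹ = (z ^ i * a₁ * (z ^ i)⁻¹ * a₁⁻¹)⁻¹ := by group
      rw [e]
      exact Subgroup.inv_mem _ h6
    refine ⟨h5, le_antisymm h3 ?_⟩
    intro y hy
    exact ⟨h4 ⟨hy, h5 hy⟩, h5 hy⟩

theorem oliver_index [Finite S] {p : ℕ} [Fact p.Prime] (hS : IsPGroup p S) (F : FusionSystem S)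
    {A : Subgroup Ω} (h : IdxP p S A)
    {P : Subgroup Ω} (hP : F.IsEssential p P) {x : Ω} (hxP : x ∈ P) (hxA : x ∉ A)
    {a₁ : Ω} (ha₁ : a₁ ∈ A) (ha₁N : a₁ ∈ Subgroup.normalizer (P : Set Ω)) (ha₁P : a₁ ∉ P) :
    (P.subgroupOf (S ⊓ Subgroup.normalizer (P : Set Ω))).index = p := by
  have hpp : p.Prime := Fact.out
  have hPS : P ≤ S := hP.1.1
  have hfinP : Finite P := finite_of_le hPS
  have hPp : IsPGroup p P := hS.to_le hPS
  have hd := essData_of_essential hS F hP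
  obtain ⟨hn, E, hE⟩ := hP.2.2
  have hcA : ∀ n : ↥(Subgroup.normalizer (P : Set Ω)), (n : Ω) ∈ S →
      P.normalizerMonoidHom n ∈ F.autGroup P := fun n hn =>
    autInducedBy_le_autGroup F hPS (normalizerMonoidHom_mem_autInducedBy hn n.2)
  have hcI : ∀ n : ↥(Subgroup.normalizer (P : Set Ω)), (n : Ω) ∈ S →
      P.normalizerMonoidHom n ∈ Inn P → (n : Ω) ∈ P := fun n hn hI =>
    mem_of_normalizerMonoidHom_mem_inn F hP.1 hn n.2 hI
  have hcT : ∀ n : ↥(Subgroup.normalizer (P : Set Ω)), (n : Ω) ∈ A →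
      IsTransv (A.subgroupOf P) (P.normalizerMonoidHom n) := fun n hn =>
    conjAut_isTransv h hPS hn n.2
  have hidxK : Nat.card P = p * Nat.card (A.subgroupOf P) := h.card_subgroupOf hPS hxP hxA
  have habK : ∀ a ∈ A.subgroupOf P, ∀ b ∈ A.subgroupOf P, a * b = b * a := by
    intro a ha b hb
    rw [Subgroup.mem_subgroupOf] at ha hb
    exact Subtype.ext (h.comm _ ha _ hb)
  -- the key consequence of Lemma T
  have hT : ∀ n₁ n₂ : ↥(Subgroup.normalizer (P : Set Ω)), (n₁ : Ω) ∈ A → (n₂ : Ω) ∈ A → (n₁ : Ω) ∉ P →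
      ∃ i : ℕ, (n₂ : Ω) * ((n₁ : Ω) ^ i)⁻¹ ∈ P := by
    intro n₁ n₂ h1 h2 h1P
    obtain ⟨i, hi⟩ := transv_T hPp hd hE habK hidxK (hcA n₁ (h.le h1)) (hcA n₂ (h.le h2)) (hcT n₁ h1)
      (hcT n₂ h2) (fun hI => h1P (hcI n₁ (h.le h1) hI))
    refine ⟨i, ?_⟩
    rw [← map_pow, ← map_inv, ← map_mul] at hi
    have := hcI (n₂ * (n₁ ^ i)⁻¹) (S.mul_mem (h.le h2) (S.inv_mem (S.pow_mem (h.le h1) i))) hi
    exact this
  -- `a₁ ^ p ∈ P`
  have hap : a₁ ^ p ∈ P := by
    by_contra hnot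
    obtain ⟨i, hi⟩ := hT (⟨a₁, ha₁N⟩ ^ p) ⟨a₁, ha₁N⟩ (A.pow_mem ha₁ p) ha₁ hnot
    obtain ⟨m, hm⟩ := hS ⟨a₁, h.le ha₁⟩
    have hm' : a₁ ^ (p ^ m) = 1 := by
      have := congrArg Subtype.val hm
      simpa using this
    apply ha₁P
    apply mem_of_mul_pow_inv_mem hm' (i := i)
    rw [pow_mul]
    exact hi
  -- the quotient
  obtain ⟨N, hN⟩ : ∃ N : Subgroup Ω, N = S ⊓ Subgroup.normalizer (P : Set Ω) := ⟨_, rfl⟩
  rw [← hN]
  have hNS : N ≤ S := hN ▸ inf_le_left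
  have hNn : N ≤ Subgroup.normalizer (P : Set Ω) := hN ▸ inf_le_right
  have hPN : P ≤ N := hN ▸ le_inf hPS Subgroup.le_normalizer
  have hfinN : Finite N := finite_of_le hNS
  have hPn : (P.subgroupOf N).Normal := by
    constructor
    intro y hy n
    rw [Subgroup.mem_subgroupOf] at hy ⊢
    exact (Subgroup.mem_normalizer_iff.mp (hNn n.2) _).mp hy
  have ha₁N' : a₁ ∈ N := hN ▸ ⟨h.le ha₁, ha₁N⟩
  obtain ⟨ā, hā⟩ : ∃ ā : ↥N ⧸ P.subgroupOf N, ā = QuotientGroup.mk (⟨a₁, ha₁N'⟩ : N) := ⟨_, rfl⟩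
  have hā1 : ā ≠ 1 := by
    rw [hā, Ne, QuotientGroup.eq_one_iff, Subgroup.mem_subgroupOf]
    exact ha₁P
  have hāp : ā ^ p = 1 := by
    rw [hā, ← QuotientGroup.mk_pow, QuotientGroup.eq_one_iff, Subgroup.mem_subgroupOf]
    exact hap
  have hord : orderOf ā = p := orderOf_eq_prime hāp hā1
  have htop : Subgroup.zpowers ā = ⊤ := by
    rw [eq_top_iff]
    intro q _
    obtain ⟨⟨g, hg⟩, rfl⟩ := QuotientGroup.mk_surjective q
    obtain ⟨j, hj⟩ := h.exists_pow x (hPS hxP) hxA g (hNS hg)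
    have hbN : g * (x ^ j)⁻¹ ∈ Subgroup.normalizer (P : Set Ω) :=
      Subgroup.mul_mem _ (hNn hg) (Subgroup.inv_mem _ (Subgroup.le_normalizer (P.pow_mem hxP j)))
    obtain ⟨i, hi⟩ := hT ⟨a₁, ha₁N⟩ ⟨g * (x ^ j)⁻¹, hbN⟩ ha₁ hj ha₁P
    rw [Subgroup.mem_zpowers_iff]
    refine ⟨(i : ℤ), ?_⟩
    rw [zpow_natCast, hā, ← QuotientGroup.mk_pow]
    rw [QuotientGroup.eq, Subgroup.mem_subgroupOf]
    show (a₁ ^ i)⁻¹ * g ∈ P
    have hi' : g * (x ^ j)⁻¹ * (a₁ ^ i)⁻¹ ∈ P := hi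
    have hcomm : g * (x ^ j)⁻¹ * (a₁ ^ i)⁻¹ = (a₁ ^ i)⁻¹ * (g * (x ^ j)⁻¹) :=
      h.comm _ hj _ (A.inv_mem (A.pow_mem ha₁ i))
    rw [hcomm] at hi'
    have e : (a₁ ^ i)⁻¹ * g = ((a₁ ^ i)⁻¹ * (g * (x ^ j)⁻¹)) * x ^ j := by group
    rw [e]
    exact P.mul_mem hi' (P.pow_mem hxP j)
  have hcard : Nat.card (↥N ⧸ P.subgroupOf N) = p := by
    rw [← Subgroup.card_top (G := ↥N ⧸ P.subgroupOf N), ← htop, Nat.card_zpowers, hord]
  exact hcard

end Cfsg.Agent.Lib.Helper26
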