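import Cfsg.Agent.Lib.Helper26.AbRankTwoE
import Cfsg.Agent.Lib.Helper26.Stability
import Cfsg.Agent.Lib.Helper26.OrderPCubeA

/-!
Two "transvections" of an abelian `p`-group generating a copy of `SL₂(p)`: the central involution.
Part D of the work on fusion systems over `p`-groups with an abelian subgroup of index `p`.
-/

set_option autoImplicit false

namespace Cfsg.Agent.Lib.Helper26

section RingLemma

variable {R : Type*} [Ring R] {a b : R}

theorem sl2_s_mul_a (ha : a * a = 0) (haba : a * b * a = -a) : (a * b + b * a) * a = -a := by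
  rw [add_mul, haba, mul_assoc b a a, ha, mul_zero, add_zero]

theorem sl2_a_mul_s (ha : a * a = 0) (haba : a * b * a = -a) : a * (a * b + b * a) = -a := by
  rw [mul_add, ← mul_assoc a a b, ha, zero_mul, zero_add, ← mul_assoc, haba]

theorem sl2_s_mul_b (hb : b * b = 0) (hbab : b * a * b = -b) : (a * b + b * a) * b = -b := by
  rw [add_mul, mul_assoc a b b, hb, mul_zero, zero_add, hbab]

theorem sl2_b_mul_s (hb : b * b = 0) (hbab : b * a * b = -b) : b * (a * b + b * a) = -b := by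
  rw [mul_add, ← mul_assoc b a b, hbab, ← mul_assoc b b a, hb, zero_mul, add_zero]

theorem sl2_s_mul_s (ha : a * a = 0) (hb : b * b = 0) (haba : a * b * a = -a) (hbab : b * a * b = -b) :
    (a * b + b * a) * (a * b + b * a) = -(a * b + b * a) := by
  have h1 : (a * b + b * a) * (a * b + b * a) = ((a * b + b * a) * a) * b + ((a * b + b * a) * b) * a := by
    rw [mul_add, ← mul_assoc, ← mul_assoc]
  rw [h1, sl2_s_mul_a ha haba, sl2_s_mul_b hb hbab]
  noncomm_ring

/-- `n = (1 + a)(1 + b)(1 + a)` is `1 + a + b + s` with `s = ab + ba`. -/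
theorem sl2_n_eq (ha : a * a = 0) (haba : a * b * a = -a) :
    (1 + a) * (1 + b) * (1 + a) = 1 + a + b + (a * b + b * a) := by
  have h1 : (1 + a) * (1 + b) * (1 + a) = 1 + a + b + a * b + a + a * a + b * a + a * b * a := by
    noncomm_ring
  rw [h1, ha, haba]
  abel

/-- `n² = 1 + 2s`. -/
theorem sl2_n_sq (ha : a * a = 0) (hb : b * b = 0) (haba : a * b * a = -a) (hbab : b * a * b = -b) :
    ((1 + a) * (1 + b) * (1 + a)) * ((1 + a) * (1 + b) * (1 + a)) =
      1 + ((a * b + b * a) + (a * b + b * a)) := by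
  rw [sl2_n_eq ha haba]
  obtain ⟨s, hs⟩ : ∃ s, s = a * b + b * a := ⟨_, rfl⟩
  have hsa : s * a = -a := hs ▸ sl2_s_mul_a ha haba
  have has : a * s = -a := hs ▸ sl2_a_mul_s ha haba
  have hsb : s * b = -b := hs ▸ sl2_s_mul_b hb hbab
  have hbs : b * s = -b := hs ▸ sl2_b_mul_s hb hbab
  have hss : s * s = -s := hs ▸ sl2_s_mul_s ha hb haba hbab
  rw [← hs]
  have h1 : (1 + a + b + s) * (1 + a + b + s) =
      1 + (a + a) + (b + b) + (s + s) + a * a + (a * b + b * a) + a * s + b * b + b * s + s * a + s * b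
        + s * s := by
    noncomm_ring
  rw [h1, ha, hb, has, hbs, hsa, hsb, hss, ← hs]
  abel

/-- `(1 + 2s)² = 1`. -/
theorem sl2_d_sq (ha : a * a = 0) (hb : b * b = 0) (haba : a * b * a = -a) (hbab : b * a * b = -b) :
    (1 + ((a * b + b * a) + (a * b + b * a))) * (1 + ((a * b + b * a) + (a * b + b * a))) = 1 := by
  obtain ⟨s, hs⟩ : ∃ s, s = a * b + b * a := ⟨_, rfl⟩
  have hss : s * s = -s := hs ▸ sl2_s_mul_s ha hb haba hbab
  rw [← hs]
  have h1 : (1 + (s + s)) * (1 + (s + s)) = 1 + (s + s) + (s + s) + (s * s + s * s + s * s + s * s) := by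
    noncomm_ring
  rw [h1, hss]
  abel

/-- `1 + 2s` commutes with `1 + a`. -/
theorem sl2_d_comm (ha : a * a = 0) (haba : a * b * a = -a) :
    (1 + ((a * b + b * a) + (a * b + b * a))) * (1 + a) = (1 + a) * (1 + ((a * b + b * a) + (a * b + b * a))) := by
  obtain ⟨s, hs⟩ : ∃ s, s = a * b + b * a := ⟨_, rfl⟩
  have hsa : s * a = -a := hs ▸ sl2_s_mul_a ha haba
  have has : a * s = -a := hs ▸ sl2_a_mul_s ha haba
  rw [← hs]
  have h1 : (1 + (s + s)) * (1 + a) = 1 + (s + s) + a + (s * a + s * a) := by noncomm_ring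
  have h2 : (1 + a) * (1 + (s + s)) = 1 + (s + s) + a + (a * s + a * s) := by noncomm_ring
  rw [h1, h2, hsa, has]

end RingLemma

end Cfsg.Agent.Lib.Helper26

namespace Cfsg.Agent.Lib.Helper26

section LemmaL

variable {P : Type*} [CommGroup P]

theorem addEnd_mul (u v : MulAut P) : addEnd (u * v) = addEnd u * addEnd v := rfl

theorem addEnd_injective {u v : MulAut P} (h : addEnd u = addEnd v) : u = v := by
  ext w
  have := congrArg (fun f : AddMonoid.End (Additive P) => (f (Additive.ofMul w)).toMul) h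
  exact this

theorem one_add_addEnd_sub_one (u : MulAut P) : 1 + (addEnd u - 1) = addEnd u := by abel

/-- The data of two transvection-like automorphisms in normalized position. -/
structure TransvPair (p : ℕ) (t t' : MulAut P) (e f : P) : Prop where
  e_ne : e ≠ 1
  e_pow : e ^ p = 1
  f_pow : f ^ p = 1
  t_apply : ∀ w, ∃ k : ℕ, t w = w * e ^ k
  t'_apply : ∀ w, ∃ k : ℕ, t' w = w * f ^ k
  t_e : t e = e
  t'_f : t' f = f
  t'_e : t' e = e * f
  t_f : t f = f * e⁻¹

variable {p : ℕ} {t t' : MulAut P} {e f : P}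

theorem TransvPair.a_e_pow (h : TransvPair p t t' e f) (k : ℕ) :
    (addEnd t - 1) (Additive.ofMul (e ^ k)) = 0 := by
  rw [addEnd_sub_one_apply, map_pow, h.t_e, inv_mul_cancel]
  rfl

theorem TransvPair.b_f_pow (h : TransvPair p t t' e f) (k : ℕ) :
    (addEnd t' - 1) (Additive.ofMul (f ^ k)) = 0 := by
  rw [addEnd_sub_one_apply, map_pow, h.t'_f, inv_mul_cancel]
  rfl

theorem TransvPair.b_e_pow (h : TransvPair p t t' e f) (k : ℕ) :
    (addEnd t' - 1) (Additive.ofMul (e ^ k)) = Additive.ofMul (f ^ k) := by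
  rw [addEnd_sub_one_apply, map_pow, h.t'_e, mul_pow, inv_mul_cancel_left]

theorem TransvPair.a_f_pow (h : TransvPair p t t' e f) (k : ℕ) :
    (addEnd t - 1) (Additive.ofMul (f ^ k)) = -Additive.ofMul (e ^ k) := by
  rw [addEnd_sub_one_apply, map_pow, h.t_f, mul_pow, inv_mul_cancel_left, inv_pow]
  rfl

theorem TransvPair.a_apply (h : TransvPair p t t' e f) (w : P) :
    ∃ k : ℕ, (addEnd t - 1) (Additive.ofMul w) = Additive.ofMul (e ^ k) := by
  obtain ⟨k, hk⟩ := h.t_apply w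
  refine ⟨k, ?_⟩
  rw [addEnd_sub_one_apply, hk, inv_mul_cancel_left]

theorem TransvPair.b_apply (h : TransvPair p t t' e f) (w : P) :
    ∃ k : ℕ, (addEnd t' - 1) (Additive.ofMul w) = Additive.ofMul (f ^ k) := by
  obtain ⟨k, hk⟩ := h.t'_apply w
  refine ⟨k, ?_⟩
  rw [addEnd_sub_one_apply, hk, inv_mul_cancel_left]

theorem TransvPair.aa (h : TransvPair p t t' e f) : (addEnd t - 1) * (addEnd t - 1) = 0 := by
  apply AddMonoidHom.ext
  intro w
  obtain ⟨k, hk⟩ := h.a_apply w.toMul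
  show (addEnd t - 1) ((addEnd t - 1) (Additive.ofMul w.toMul)) = 0
  rw [hk, h.a_e_pow]

theorem TransvPair.bb (h : TransvPair p t t' e f) : (addEnd t' - 1) * (addEnd t' - 1) = 0 := by
  apply AddMonoidHom.ext
  intro w
  obtain ⟨k, hk⟩ := h.b_apply w.toMul
  show (addEnd t' - 1) ((addEnd t' - 1) (Additive.ofMul w.toMul)) = 0
  rw [hk, h.b_f_pow]

theorem TransvPair.aba (h : TransvPair p t t' e f) :
    (addEnd t - 1) * (addEnd t' - 1) * (addEnd t - 1) = -(addEnd t - 1) := by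
  apply AddMonoidHom.ext
  intro w
  obtain ⟨k, hk⟩ := h.a_apply w.toMul
  show (addEnd t - 1) ((addEnd t' - 1) ((addEnd t - 1) (Additive.ofMul w.toMul))) =
    -((addEnd t - 1) (Additive.ofMul w.toMul))
  rw [hk, h.b_e_pow, h.a_f_pow]

theorem TransvPair.bab (h : TransvPair p t t' e f) :
    (addEnd t' - 1) * (addEnd t - 1) * (addEnd t' - 1) = -(addEnd t' - 1) := by
  apply AddMonoidHom.ext
  intro w
  obtain ⟨k, hk⟩ := h.b_apply w.toMul
  show (addEnd t' - 1) ((addEnd t - 1) ((addEnd t' - 1) (Additive.ofMul w.toMul))) =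
    -((addEnd t' - 1) (Additive.ofMul w.toMul))
  rw [hk, h.a_f_pow, map_neg, h.b_e_pow]

/-- The "central involution" `d = (t t' t)²`. -/
def TransvPair.d (_ : TransvPair p t t' e f) : MulAut P := (t * t' * t) * (t * t' * t)

theorem TransvPair.addEnd_d (h : TransvPair p t t' e f) :
    addEnd h.d = 1 + (((addEnd t - 1) * (addEnd t' - 1) + (addEnd t' - 1) * (addEnd t - 1)) +
      ((addEnd t - 1) * (addEnd t' - 1) + (addEnd t' - 1) * (addEnd t - 1))) := by
  have := sl2_n_sq h.aa h.bb h.aba h.bab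
  rw [one_add_addEnd_sub_one, one_add_addEnd_sub_one] at this
  rw [← this]
  rfl

theorem TransvPair.d_mem (h : TransvPair p t t' e f) : h.d ∈ Subgroup.closure {t, t'} := by
  have ht : t ∈ Subgroup.closure {t, t'} := Subgroup.subset_closure (Set.mem_insert _ _)
  have ht' : t' ∈ Subgroup.closure {t, t'} :=
    Subgroup.subset_closure (Set.mem_insert_of_mem _ (Set.mem_singleton _))
  exact mul_mem (mul_mem (mul_mem ht ht') ht) (mul_mem (mul_mem ht ht') ht)

theorem TransvPair.d_comm (h : TransvPair p t t' e f) : h.d * t = t * h.d := by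
  apply addEnd_injective
  rw [addEnd_mul, addEnd_mul, h.addEnd_d]
  have := sl2_d_comm h.aa h.aba
  rw [one_add_addEnd_sub_one] at this
  exact this

theorem TransvPair.d_sq (h : TransvPair p t t' e f) : h.d * h.d = 1 := by
  apply addEnd_injective
  rw [addEnd_mul, h.addEnd_d]
  exact sl2_d_sq h.aa h.bb h.aba h.bab

/-- The action of `s = ab + ba` on a fixed point of `t`. -/
theorem TransvPair.s_apply_of_fixed (h : TransvPair p t t' e f) {w : P} (hw : t w = w) {k : ℕ}
    (hk : t' w = w * f ^ k) :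
    ((addEnd t - 1) * (addEnd t' - 1) + (addEnd t' - 1) * (addEnd t - 1)) (Additive.ofMul w) =
      -Additive.ofMul (e ^ k) := by
  have ha : (addEnd t - 1) (Additive.ofMul w) = 0 := by
    rw [addEnd_sub_one_apply, hw, inv_mul_cancel]
    rfl
  have hb : (addEnd t' - 1) (Additive.ofMul w) = Additive.ofMul (f ^ k) := by
    rw [addEnd_sub_one_apply, hk, inv_mul_cancel_left]
  show (addEnd t - 1) ((addEnd t' - 1) (Additive.ofMul w)) + (addEnd t' - 1) ((addEnd t - 1) (Additive.ofMul w)) = _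
  rw [ha, hb, map_zero, add_zero, h.a_f_pow]

theorem TransvPair.d_apply_of_fixed (h : TransvPair p t t' e f) {w : P} (hw : t w = w) {k : ℕ}
    (hk : t' w = w * f ^ k) : h.d w = w * ((e ^ k)⁻¹ * (e ^ k)⁻¹) := by
  have h1 : addEnd h.d (Additive.ofMul w) = Additive.ofMul w + (-Additive.ofMul (e ^ k) + -Additive.ofMul (e ^ k)) := by
    rw [h.addEnd_d]
    have hs := h.s_apply_of_fixed hw hk
    obtain ⟨σ, hσ⟩ : ∃ σ : AddMonoid.End (Additive P),
        σ = (addEnd t - 1) * (addEnd t' - 1) + (addEnd t' - 1) * (addEnd t - 1) := ⟨_, rfl⟩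
    rw [← hσ] at hs ⊢
    calc (1 + (σ + σ)) (Additive.ofMul w) = Additive.ofMul w + (σ (Additive.ofMul w) + σ (Additive.ofMul w)) := rfl
      _ = _ := by rw [hs]
  rw [addEnd_apply] at h1
  exact congrArg Additive.toMul h1

theorem TransvPair.d_e (h : TransvPair p t t' e f) : h.d e = e⁻¹ := by
  have hk : t' e = e * f ^ 1 := by rw [pow_one]; exact h.t'_e
  rw [h.d_apply_of_fixed h.t_e hk, pow_one]
  group

theorem TransvPair.d_fixed (h : TransvPair p t t' e f) {w : P} (hw : t w = w) (hw' : t' w = w) : h.d w = w := by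
  have hk : t' w = w * f ^ 0 := by rw [pow_zero, mul_one]; exact hw'
  rw [h.d_apply_of_fixed hw hk, pow_zero]
  group

theorem TransvPair.d_mul_inv_mem (h : TransvPair p t t' e f) {w : P} (hw : t w = w) :
    h.d w * w⁻¹ ∈ Subgroup.zpowers e := by
  obtain ⟨k, hk⟩ := h.t'_apply w
  rw [h.d_apply_of_fixed hw hk]
  have : w * ((e ^ k)⁻¹ * (e ^ k)⁻¹) * w⁻¹ = (e ^ k)⁻¹ * (e ^ k)⁻¹ := by
    rw [mul_comm w, mul_assoc, mul_inv_cancel, mul_one]
  rw [this]
  have he : e ^ k ∈ Subgroup.zpowers e := Subgroup.pow_mem _ (Subgroup.mem_zpowers e) k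
  exact mul_mem (inv_mem he) (inv_mem he)

theorem TransvPair.fixed_of_d_fixed [Fact p.Prime] (h : TransvPair p t t' e f) (hp : p ≠ 2) {w : P}
    (hw : t w = w) (hd : h.d w = w) : t' w = w := by
  have hpp : p.Prime := Fact.out
  obtain ⟨k, hk⟩ := h.t'_apply w
  rw [h.d_apply_of_fixed hw hk] at hd
  have h1 : (e ^ k)⁻¹ * (e ^ k)⁻¹ = 1 := mul_eq_left.mp hd
  have h2 : e ^ (2 * k) = 1 := by
    rw [two_mul, pow_add]
    have := congrArg (fun x => x⁻¹) h1
    simpa [mul_inv_rev] using this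
  have hord : orderOf e = p := orderOf_eq_prime h.e_pow h.e_ne
  have h3 : p ∣ 2 * k := by
    rw [← hord]
    exact orderOf_dvd_of_pow_eq_one h2
  have h4 : p ∣ k := by
    rcases (Nat.Prime.dvd_mul hpp).mp h3 with h5 | h5
    · exfalso
      have := (Nat.prime_dvd_prime_iff_eq hpp Nat.prime_two).mp h5
      exact hp this
    · exact h5
  obtain ⟨m, rfl⟩ := h4
  rw [hk, pow_mul, h.f_pow, one_pow, mul_one]

end LemmaL

end Cfsg.Agent.Lib.Helper26

namespace Cfsg.Agent.Lib.Helper26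

section NonDegenerate

variable {P : Type*} [CommGroup P]

theorem mem_iff_of_fixed {α : MulAut P} {T : Subgroup P} (h : ∀ x ∈ T, α x = x) (x : P) : x ∈ T ↔ α x ∈ T := by
  constructor
  · intro hx
    rw [h x hx]
    exact hx
  · intro hx
    have h1 := h _ hx
    have h2 : α x = x := α.injective h1
    rw [← h2]
    exact hx

theorem mem_iff_of_comm_mem {α : MulAut P} {T : Subgroup P} (h : ∀ x, x⁻¹ * α x ∈ T) (x : P) :
    x ∈ T ↔ α x ∈ T := by
  constructor
  · intro hx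
    have : α x = x * (x⁻¹ * α x) := by group
    rw [this]
    exact mul_mem hx (h x)
  · intro hx
    have : x = α x * (x⁻¹ * α x)⁻¹ := by group
    rw [this]
    exact mul_mem hx (inv_mem (h x))

theorem fixed_of_mem_zpowers {α : MulAut P} {u : P} (h : α u = u) {x : P} (hx : x ∈ Subgroup.zpowers u) :
    α x = x := by
  obtain ⟨n, rfl⟩ := Subgroup.mem_zpowers_iff.mp hx
  rw [map_zpow, h]

theorem fixed_of_mem_sup_zpowers {α : MulAut P} {u v : P} (hu : α u = u) (hv : α v = v) {x : P}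
    (hx : x ∈ Subgroup.zpowers u ⊔ Subgroup.zpowers v) : α x = x := by
  obtain ⟨a, ha, b, hb, rfl⟩ := Subgroup.mem_sup.mp hx
  rw [map_mul, fixed_of_mem_zpowers hu ha, fixed_of_mem_zpowers hv hb]

/-- If `t` fixes the "centre" `e₁` of `t'`, the two transvections generate a `p`-group. -/
theorem isPGroup_closure_pair_ol [Finite P] {p : ℕ} [Fact p.Prime] (hP : IsPGroup p P) {t t' : MulAut P} {e e₁ : P}
    (ht : ∀ w, w⁻¹ * t w ∈ Subgroup.zpowers e) (ht' : ∀ w, w⁻¹ * t' w ∈ Subgroup.zpowers e₁)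
    (hte : t e = e) (ht'e₁ : t' e₁ = e₁) (hte₁ : t e₁ = e₁) :
    IsPGroup p (Subgroup.closure {t, t'}) := by
  obtain ⟨V, hV⟩ : ∃ V : Subgroup P, V = Subgroup.zpowers e ⊔ Subgroup.zpowers e₁ := ⟨_, rfl⟩
  have h1V : Subgroup.zpowers e₁ ≤ V := hV ▸ le_sup_right
  have h0V : Subgroup.zpowers e ≤ V := hV ▸ le_sup_left
  have hmono := chain4_mono h1V
  have htV : ∀ x ∈ V, t x = x := fun x hx => fixed_of_mem_sup_zpowers hte hte₁ (hV ▸ hx)
  have ht1 : ∀ x ∈ Subgroup.zpowers e₁, t x = x := fun x hx => fixed_of_mem_zpowers hte₁ hx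
  have ht'1 : ∀ x ∈ Subgroup.zpowers e₁, t' x = x := fun x hx => fixed_of_mem_zpowers ht'e₁ hx
  have ht'V : ∀ w, w⁻¹ * t' w ∈ V := fun w => h1V (ht' w)
  have hmem_t : t ∈ chainStab (chain4 (Subgroup.zpowers e₁) V) hmono := by
    refine ⟨fun i x => ?_, fun i x hx => ?_⟩
    · match i with
      | 0 =>
        show x ∈ (⊥ : Subgroup P) ↔ t x ∈ (⊥ : Subgroup P)
        rw [Subgroup.mem_bot, Subgroup.mem_bot, map_eq_one_iff t t.injective]
      | 1 => exact mem_iff_of_fixed ht1 x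
      | 2 => exact mem_iff_of_fixed htV x
      | (n + 3) => exact ⟨fun _ => Subgroup.mem_top _, fun _ => Subgroup.mem_top _⟩
    · match i with
      | 0 =>
        have hx' : x ∈ Subgroup.zpowers e₁ := hx
        rw [ht1 x hx', inv_mul_cancel]
        exact one_mem _
      | 1 =>
        have hx' : x ∈ V := hx
        rw [htV x hx', inv_mul_cancel]
        exact one_mem _
      | 2 => exact h0V (ht x)
      | (n + 3) => exact Subgroup.mem_top _
  have hmem_t' : t' ∈ chainStab (chain4 (Subgroup.zpowers e₁) V) hmono := by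
    refine ⟨fun i x => ?_, fun i x hx => ?_⟩
    · match i with
      | 0 =>
        show x ∈ (⊥ : Subgroup P) ↔ t' x ∈ (⊥ : Subgroup P)
        rw [Subgroup.mem_bot, Subgroup.mem_bot, map_eq_one_iff t' t'.injective]
      | 1 => exact mem_iff_of_fixed ht'1 x
      | 2 => exact mem_iff_of_comm_mem ht'V x
      | (n + 3) => exact ⟨fun _ => Subgroup.mem_top _, fun _ => Subgroup.mem_top _⟩
    · match i with
      | 0 =>
        have hx' : x ∈ Subgroup.zpowers e₁ := hx
        rw [ht'1 x hx', inv_mul_cancel]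
        exact one_mem _
      | 1 => exact ht' x
      | 2 => exact ht'V x
      | (n + 3) => exact Subgroup.mem_top _
  apply isPGroup_of_chainStab (chain4 (Subgroup.zpowers e₁) V) hmono (fun i => inferInstance)
    (fun i => (hP.to_subgroup _).exists_card_eq) 3 rfl
  · rw [Subgroup.closure_le]
    intro α hα
    rcases hα with rfl | hα
    · exact hmem_t
    · rw [Set.mem_singleton_iff] at hα
      rw [hα]
      exact hmem_t'
  · intro α _
    refine ⟨0, fun x hx => ?_⟩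
    have : x = 1 := Subgroup.mem_bot.mp hx
    rw [this, map_one]

/-- Powers of an automorphism fixing its "displacement". -/
theorem pow_apply_of_fixed_disp {α : MulAut P} {w u : P} (hw : α w = w * u) (hu : α u = u) (j : ℕ) :
    (α ^ j) w = w * u ^ j := by
  induction j with
  | zero => simp
  | succ j ih =>
    rw [pow_succ', MulAut.mul_apply, ih, map_mul, map_pow, hu, hw, pow_succ, mul_assoc, mul_comm u]

theorem exists_nat_pow_of_mem_zpowers {p : ℕ} (hp : 0 < p) {f x : P} (hf : f ^ p = 1)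
    (h : x ∈ Subgroup.zpowers f) : ∃ k : ℕ, x = f ^ k := by
  obtain ⟨n, rfl⟩ := Subgroup.mem_zpowers_iff.mp h
  refine ⟨(n % (p : ℤ)).toNat, ?_⟩
  have hp' : (0 : ℤ) < p := by exact_mod_cast hp
  have h1 : ((n % (p : ℤ)).toNat : ℤ) = n % p := Int.toNat_of_nonneg (Int.emod_nonneg n hp'.ne')
  rw [← zpow_natCast, h1]
  have h2 : n = n % p + p * (n / p) := (Int.emod_add_mul_ediv n p).symm
  conv_lhs => rw [h2]
  rw [zpow_add, zpow_mul, zpow_natCast, hf, one_zpow, mul_one]

/-- An element of order `p` is a power of any of its powers with exponent prime to `p`. -/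
theorem mem_zpowers_pow_of_not_dvd {p : ℕ} [Fact p.Prime] {x : P} (hx : x ^ p = 1) {n : ℕ} (hn : ¬ p ∣ n) :
    x ∈ Subgroup.zpowers (x ^ n) := by
  have hpp : p.Prime := Fact.out
  have hcop : Nat.Coprime n p := ((Nat.Prime.coprime_iff_not_dvd hpp).mpr hn).symm
  have h1 : (n : ℤ) * Nat.gcdA n p + (p : ℤ) * Nat.gcdB n p = 1 := by
    have := Nat.gcd_eq_gcd_ab n p
    rw [hcop] at this
    exact_mod_cast this.symm
  rw [Subgroup.mem_zpowers_iff]
  refine ⟨Nat.gcdA n p, ?_⟩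
  have h2 : x ^ (1 : ℤ) = x := zpow_one x
  rw [← zpow_natCast, ← zpow_mul]
  conv_rhs => rw [← h2, ← h1]
  rw [zpow_add, zpow_mul x (p : ℤ), zpow_natCast, hx, one_zpow, mul_one]

/-- Normalization: from two transvections in general position to a `TransvPair`. -/
theorem exists_transvPair {p : ℕ} [Fact p.Prime] {t t' : MulAut P} {e e₁ : P}
    (he : e ≠ 1) (hep : e ^ p = 1) (he₁p : e₁ ^ p = 1)
    (ht : ∀ w, w⁻¹ * t w ∈ Subgroup.zpowers e) (ht' : ∀ w, w⁻¹ * t' w ∈ Subgroup.zpowers e₁)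
    (hte : t e = e) (ht'e₁ : t' e₁ = e₁) (hnd1 : t e₁ ≠ e₁) (hnd2 : t' e ≠ e) :
    ∃ (j : ℕ) (f : P), ¬ p ∣ j ∧ TransvPair p t (t' ^ j) e f := by
  have hpp : p.Prime := Fact.out
  obtain ⟨b, hb⟩ := exists_nat_pow_of_mem_zpowers hpp.pos he₁p (ht' e)
  obtain ⟨c, hc⟩ := exists_nat_pow_of_mem_zpowers hpp.pos hep (ht e₁)
  have hb' : t' e = e * e₁ ^ b := by rw [← hb]; group
  have hc' : t e₁ = e₁ * e ^ c := by rw [← hc]; group
  have hpb : ¬ p ∣ b := by
    rintro ⟨m, rfl⟩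
    apply hnd2
    rw [hb', pow_mul, he₁p, one_pow, mul_one]
  have hpc : ¬ p ∣ c := by
    rintro ⟨m, rfl⟩
    apply hnd1
    rw [hc', pow_mul, hep, one_pow, mul_one]
  have hpm : ¬ p ∣ c * b := fun h => (Nat.Prime.dvd_mul hpp).mp h |>.elim hpc hpb
  -- choose `j` with `j * (c * b) ≡ -1`
  have hm0 : ((c * b : ℕ) : ZMod p) ≠ 0 := by
    rw [Ne, ZMod.natCast_eq_zero_iff]
    exact hpm
  obtain ⟨j, hj⟩ : ∃ j : ℕ, (j : ZMod p) = -((c * b : ℕ) : ZMod p)⁻¹ :=
    ⟨(-((c * b : ℕ) : ZMod p)⁻¹).val, by rw [ZMod.natCast_val, ZMod.cast_id]⟩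
  have hj1 : p ∣ j * (c * b) + 1 := by
    rw [← ZMod.natCast_eq_zero_iff]
    push_cast
    rw [hj]
    have hm0' : ((c : ZMod p) * (b : ZMod p)) ≠ 0 := by exact_mod_cast hm0
    push_cast
    rw [neg_mul, inv_mul_cancel₀ hm0']
    ring
  have hpj : ¬ p ∣ j := by
    intro h
    have h2 : p ∣ j * (c * b) := Dvd.dvd.mul_right h _
    have h3 : p ∣ 1 := (Nat.dvd_add_right h2).mp hj1
    exact hpp.one_lt.ne' (Nat.dvd_one.mp h3)
  refine ⟨j, e₁ ^ (b * j), hpj, ?_⟩
  have hpbj : ¬ p ∣ b * j := fun h => (Nat.Prime.dvd_mul hpp).mp h |>.elim hpb hpj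
  have he₁mem : e₁ ∈ Subgroup.zpowers (e₁ ^ (b * j)) := mem_zpowers_pow_of_not_dvd he₁p hpbj
  have hfp : (e₁ ^ (b * j)) ^ p = 1 := by rw [← pow_mul, mul_comm, pow_mul, he₁p, one_pow]
  have ht'fix : ∀ n : ℕ, t' (e₁ ^ n) = e₁ ^ n := fun n => by rw [map_pow, ht'e₁]
  refine ⟨he, hep, hfp, ?_, ?_, hte, ?_, ?_, ?_⟩
  · intro w
    obtain ⟨k, hk⟩ := exists_nat_pow_of_mem_zpowers hpp.pos hep (ht w)
    refine ⟨k, ?_⟩
    rw [← hk]
    group
  · intro w
    obtain ⟨k, hk⟩ := exists_nat_pow_of_mem_zpowers hpp.pos he₁p (ht' w)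
    have hw : t' w = w * e₁ ^ k := by rw [← hk]; group
    have h1 := pow_apply_of_fixed_disp hw (ht'fix k) j
    have h2 : (e₁ ^ k) ^ j ∈ Subgroup.zpowers (e₁ ^ (b * j)) :=
      Subgroup.pow_mem _ (Subgroup.pow_mem _ he₁mem k) j
    obtain ⟨k', hk'⟩ := exists_nat_pow_of_mem_zpowers hpp.pos hfp h2
    exact ⟨k', by rw [h1, hk']⟩
  · have := pow_apply_of_fixed_disp (α := t') (w := e₁ ^ (b * j)) (u := 1) (by rw [ht'fix, mul_one]) (map_one _) j
    rw [this, one_pow, mul_one]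
  · rw [pow_apply_of_fixed_disp hb' (ht'fix b) j, ← pow_mul]
  · rw [map_pow, hc', mul_pow, ← pow_mul]
    congr 1
    have h1 : e ^ (c * (b * j) + 1) = 1 := by
      obtain ⟨m, hm⟩ := hj1
      have : c * (b * j) + 1 = p * m := by rw [← hm]; ring
      rw [this, pow_mul, hep, one_pow]
    rw [pow_succ] at h1
    exact eq_inv_of_mul_eq_one_left h1

/-- Fixed points of `t' ^ j` are fixed points of `t'` when `p ∤ j`. -/
theorem fixed_of_pow_fixed {p : ℕ} [Fact p.Prime] {t' : MulAut P} {e₁ : P} (he₁p : e₁ ^ p = 1)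
    (ht' : ∀ w, w⁻¹ * t' w ∈ Subgroup.zpowers e₁) (ht'e₁ : t' e₁ = e₁) {j : ℕ} (hj : ¬ p ∣ j) {w : P}
    (hw : (t' ^ j) w = w) : t' w = w := by
  have hpp : p.Prime := Fact.out
  obtain ⟨k, hk⟩ := exists_nat_pow_of_mem_zpowers hpp.pos he₁p (ht' w)
  have hw' : t' w = w * e₁ ^ k := by rw [← hk]; group
  have hfix : t' (e₁ ^ k) = e₁ ^ k := by rw [map_pow, ht'e₁]
  rw [pow_apply_of_fixed_disp hw' hfix j] at hw
  have h1 : (e₁ ^ k) ^ j = 1 := mul_eq_left.mp hw
  have h2 : (e₁ ^ k) ^ p = 1 := by rw [← pow_mul, mul_comm, pow_mul, he₁p, one_pow]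
  have h3 : (e₁ ^ k) ^ Nat.gcd j p = 1 := pow_gcd_eq_one.mpr ⟨h1, h2⟩
  have hcop : Nat.gcd j p = 1 := ((Nat.Prime.coprime_iff_not_dvd hpp).mpr hj).symm
  rw [hcop, pow_one] at h3
  rw [hw', h3, mul_one]

end NonDegenerate

end Cfsg.Agent.Lib.Helper26
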