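import Cfsg.Agent.Lib.Helper26.OliverC
import Cfsg.Agent.Lib.Helper26.OrderP4A

/-!
`p`-groups with an abelian subgroup of index `p`: the commutator calculus, subgroups `Z(S)⟨x⟩`, and the
maximal class criterion.
-/

set_option autoImplicit false
universe u

namespace Cfsg.Agent.Lib.Helper26

open Cfsg

section OliverE

variable {Ω : Type u} [Group Ω] {S A : Subgroup Ω} {p : ℕ}

/-- The commutator with a fixed element of `S` is multiplicative on `A`. -/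
theorem IdxP.comm_mul_left (h : IdxP p S A) {a b s : Ω} (ha : a ∈ A) (hb : b ∈ A) (hs : s ∈ S) :
    (a * b) * s * (a * b)⁻¹ * s⁻¹ = (a * s * a⁻¹ * s⁻¹) * (b * s * b⁻¹ * s⁻¹) := by
  have hc : b * s * b⁻¹ * s⁻¹ ∈ A := h.comm_mem b (h.le hb) s hs
  have h1 : a * (b * s * b⁻¹ * s⁻¹) = (b * s * b⁻¹ * s⁻¹) * a := h.comm a ha _ hc
  have h2 : (a * s * a⁻¹ * s⁻¹) ∈ A := h.comm_mem a (h.le ha) s hs
  calc (a * b) * s * (a * b)⁻¹ * s⁻¹ = (a * (b * s * b⁻¹ * s⁻¹)) * a⁻¹ * (a * s * a⁻¹ * s⁻¹) := by group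
    _ = (b * s * b⁻¹ * s⁻¹) * (a * s * a⁻¹ * s⁻¹) := by rw [h1]; group
    _ = _ := h.comm _ hc _ h2

/-- The commutator map `b ↦ [b, x]` on a subgroup of `A`. -/
def IdxP.commHomA (h : IdxP p S A) {B : Subgroup Ω} (hB : B ≤ A) {x : Ω} (hx : x ∈ S) : B →* Ω where
  toFun b := (b : Ω) * x * (b : Ω)⁻¹ * x⁻¹
  map_one' := by simp
  map_mul' a b := h.comm_mul_left (hB a.2) (hB b.2) hx

theorem IdxP.commHomA_apply (h : IdxP p S A) {B : Subgroup Ω} (hB : B ≤ A) {x : Ω} (hx : x ∈ S) (b : B) :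
    h.commHomA hB hx b = (b : Ω) * x * (b : Ω)⁻¹ * x⁻¹ := rfl

theorem IdxP.comm_pow_left (h : IdxP p S A) {a s : Ω} (ha : a ∈ A) (hs : s ∈ S) (i : ℕ) :
    (a ^ i) * s * (a ^ i)⁻¹ * s⁻¹ = (a * s * a⁻¹ * s⁻¹) ^ i := by
  have := map_pow (h.commHomA le_rfl hs) ⟨a, ha⟩ i
  exact this

theorem IdxP.exists_not_mem [Fact p.Prime] [Finite S] (h : IdxP p S A) : ∃ x ∈ S, x ∉ A := by
  have hpp : p.Prime := Fact.out
  by_contra hcon
  push Not at hcon
  have hSA : S = A := le_antisymm hcon h.le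
  have hc := h.card
  rw [← hSA] at hc
  have hpos : 0 < Nat.card S := Nat.card_pos
  have h2 := hpp.two_le
  nlinarith

/-- For `B ≤ A`, `|B| ≤ |Z(S)| · |[B, S]|`. -/
theorem IdxP.card_le_mul_commutator [Fact p.Prime] [Finite S] (h : IdxP p S A) {B : Subgroup Ω} (hB : B ≤ A) :
    Nat.card B ≤ Nat.card ↥(S ⊓ Subgroup.centralizer (S : Set Ω)) * Nat.card ↥⁅B, S⁆ := by
  obtain ⟨x, hxS, hxA⟩ := h.exists_not_mem
  have hBS : B ≤ S := hB.trans h.le
  have hfinB : Finite B := finite_of_le hBS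
  have hcS : ⁅B, S⁆ ≤ S := by
    rw [Subgroup.commutator_le]
    intro b hb s hs
    exact S.mul_mem (S.mul_mem (S.mul_mem (hBS hb) hs) (S.inv_mem (hBS hb))) (S.inv_mem hs)
  have hfinC : Finite ↥⁅B, S⁆ := finite_of_le hcS
  have hfinZ : Finite ↥(S ⊓ Subgroup.centralizer (S : Set Ω)) := finite_of_le inf_le_left
  have h1 := card_ker_mul_card_range (h.commHomA hB hxS)
  have h2 : Nat.card (h.commHomA hB hxS).range ≤ Nat.card ↥⁅B, S⁆ := by
    apply Subgroup.card_le_of_le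
    rintro _ ⟨b, rfl⟩
    rw [h.commHomA_apply]
    exact Subgroup.commutator_mem_commutator b.2 hxS
  have h3 : Nat.card (h.commHomA hB hxS).ker ≤ Nat.card ↥(S ⊓ Subgroup.centralizer (S : Set Ω)) := by
    have hmem : ∀ b : (h.commHomA hB hxS).ker, ((b : B) : Ω) ∈ S ⊓ Subgroup.centralizer (S : Set Ω) := by
      rintro ⟨b, hb⟩
      rw [MonoidHom.mem_ker, h.commHomA_apply] at hb
      apply h.mem_center hxS hxA (hB b.2)
      have : (b : Ω) * x = ((b : Ω) * x * (b : Ω)⁻¹ * x⁻¹) * (x * b) := by group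
      rw [this, hb, one_mul]
    apply Nat.card_le_card_of_injective (fun b => (⟨_, hmem b⟩ : ↥(S ⊓ Subgroup.centralizer (S : Set Ω))))
    intro b₁ b₂ hb
    have := congrArg Subtype.val hb
    exact Subtype.ext (Subtype.ext this)
  calc Nat.card B = Nat.card (h.commHomA hB hxS).ker * Nat.card (h.commHomA hB hxS).range := h1.symm
    _ ≤ _ := Nat.mul_le_mul h3 h2

theorem IdxP.lcs_le [Fact p.Prime] [Finite S] (h : IdxP p S A) (k : ℕ) :
    Subgroup.lowerCentralSeries S (k + 1) ≤ A := by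
  have h1 : Subgroup.lowerCentralSeries S 1 ≤ A := by
    show ⁅S, S⁆ ≤ A
    rw [Subgroup.commutator_le]
    intro a ha b hb
    exact h.comm_mem a ha b hb
  exact (Subgroup.lowerCentralSeries_antitone S (Nat.le_add_left 1 k)).trans h1

/-- If `Z(S)` has order `p`, then `S` has maximal class. -/
theorem IdxP.lcs_ne_bot [Fact p.Prime] [Finite S] (h : IdxP p S A)
    (hZ : Nat.card ↥(S ⊓ Subgroup.centralizer (S : Set Ω)) = p) {n : ℕ} (hn : Nat.card S = p ^ n)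
    (h3 : 3 ≤ n) : Subgroup.lowerCentralSeries S (n - 2) ≠ ⊥ := by
  have hpp : p.Prime := Fact.out
  have key : ∀ k : ℕ, p ^ n ≤ p ^ (k + 2) * Nat.card ↥(Subgroup.lowerCentralSeries S (k + 1)) := by
    intro k
    induction k with
    | zero =>
      have h1 := h.card_le_mul_commutator (le_refl A)
      rw [hZ] at h1
      have hcS : ⁅A, S⁆ ≤ S := by
        rw [Subgroup.commutator_le]
        intro b hb s hs
        exact S.mul_mem (S.mul_mem (S.mul_mem (h.le hb) hs) (S.inv_mem (h.le hb))) (S.inv_mem hs)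
      have hfin : Finite ↥(Subgroup.lowerCentralSeries S 1) := finite_of_le
        (show Subgroup.lowerCentralSeries S 1 ≤ S from Subgroup.lowerCentralSeries_antitone S (Nat.zero_le 1))
      have h2 : Nat.card ↥⁅A, S⁆ ≤ Nat.card ↥(Subgroup.lowerCentralSeries S 1) := by
        apply Subgroup.card_le_of_le
        exact Subgroup.commutator_mono h.le le_rfl
      rw [← hn, h.card]
      calc p * Nat.card A ≤ p * (p * Nat.card ↥⁅A, S⁆) := Nat.mul_le_mul_left _ h1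
        _ ≤ p * (p * Nat.card ↥(Subgroup.lowerCentralSeries S 1)) :=
          Nat.mul_le_mul_left _ (Nat.mul_le_mul_left _ h2)
        _ = p ^ (0 + 2) * Nat.card ↥(Subgroup.lowerCentralSeries S (0 + 1)) := by ring
    | succ k ih =>
      have h1 := h.card_le_mul_commutator (h.lcs_le k)
      rw [hZ] at h1
      calc p ^ n ≤ p ^ (k + 2) * Nat.card ↥(Subgroup.lowerCentralSeries S (k + 1)) := ih
        _ ≤ p ^ (k + 2) * (p * Nat.card ↥⁅Subgroup.lowerCentralSeries S (k + 1), S⁆) :=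
          Nat.mul_le_mul_left _ h1
        _ = p ^ (k + 1 + 2) * Nat.card ↥(Subgroup.lowerCentralSeries S (k + 1 + 1)) := by
          rw [Subgroup.lowerCentralSeries_succ S (k + 1)]
          ring
  intro hbot
  have h1 := key (n - 3)
  have e1 : n - 3 + 1 = n - 2 := by omega
  have e2 : n - 3 + 2 = n - 1 := by omega
  rw [e1, e2, hbot, Subgroup.card_bot, mul_one] at h1
  have : n ≤ n - 1 := (Nat.pow_le_pow_iff_right hpp.one_lt).mp h1
  omega


theorem IdxP.index_eq [Finite S] (h : IdxP p S A) : (A.subgroupOf S).index = p := by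
  have h1 := Subgroup.index_mul_card (A.subgroupOf S)
  rw [h.card, Nat.card_congr (Subgroup.subgroupOfEquivOfLe h.le).toEquiv] at h1
  have hfinA : Finite A := finite_of_le h.le
  exact Nat.eq_of_mul_eq_mul_right Nat.card_pos h1

theorem IdxP.pow_p_mem [Finite S] (h : IdxP p S A) {x : Ω} (hx : x ∈ S) : x ^ p ∈ A := by
  have := h.normal_subgroupOf
  have := Subgroup.pow_index_mem (A.subgroupOf S) (⟨x, hx⟩ : S)
  rw [h.index_eq, Subgroup.mem_subgroupOf] at this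
  exact this

theorem IdxP.pow_p_mem_center [Finite S] (h : IdxP p S A) {x : Ω} (hx : x ∈ S) (hxA : x ∉ A) :
    x ^ p ∈ S ⊓ Subgroup.centralizer (S : Set Ω) := by
  apply h.mem_center hx hxA (h.pow_p_mem hx)
  rw [← pow_succ, ← pow_succ']

/-- A subgroup `P ≤ S` not inside `A` with `P ∩ A = Z(S)` is abelian. -/
theorem IdxP.comm_of_inf_eq (h : IdxP p S A) {P : Subgroup Ω} (hPS : P ≤ S) {x : Ω} (hxP : x ∈ P) (hxA : x ∉ A)
    (hPA : P ⊓ A = S ⊓ Subgroup.centralizer (S : Set Ω)) : ∀ a ∈ P, ∀ b ∈ P, a * b = b * a := by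
  have hZc : ∀ T : Set Ω, T ⊆ S → P ⊓ A ≤ Subgroup.centralizer T := by
    intro T hT z hz
    rw [hPA] at hz
    rw [Subgroup.mem_centralizer_iff]
    intro w hw
    exact (mem_inf_centralizer_iff.mp hz).2 w (hT hw)
  have h1 : P ≤ Subgroup.centralizer ({x} : Set Ω) := by
    apply h.le_centralizer_of hPS hxP hxA _ (hZc _ _)
    · rw [Subgroup.mem_centralizer_iff]
      intro w hw
      rw [Set.mem_singleton_iff.mp hw]
    · intro w hw
      rw [Set.mem_singleton_iff.mp hw]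
      exact hPS hxP
  have h2 : P ≤ Subgroup.centralizer (P : Set Ω) := by
    apply h.le_centralizer_of hPS hxP hxA _ (hZc _ (fun w hw => hPS hw))
    rw [Subgroup.mem_centralizer_iff]
    intro w hw
    have := Subgroup.mem_centralizer_iff.mp (h1 hw) x (Set.mem_singleton x)
    exact this.symm
  intro a ha b hb
  exact (Subgroup.mem_centralizer_iff.mp (h2 hb) a ha)

theorem IdxP.card_of_inf_eq [Finite S] [Fact p.Prime] (h : IdxP p S A) {P : Subgroup Ω} (hPS : P ≤ S) {x : Ω}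
    (hxP : x ∈ P) (hxA : x ∉ A) : Nat.card P = p * Nat.card ↥(P ⊓ A) := by
  rw [h.card_subgroupOf hPS hxP hxA, ← Subgroup.inf_subgroupOf_left A P,
    Nat.card_congr (Subgroup.subgroupOfEquivOfLe (inf_le_left : P ⊓ A ≤ P)).toEquiv]

/-- If `P ∩ A` is strictly larger than `Z(S)`, the centre of `P` is `Z(S)`. -/
theorem IdxP.mem_center_of_central (h : IdxP p S A) {P : Subgroup Ω} (hPS : P ≤ S) {x : Ω} (hxP : x ∈ P)
    (hxA : x ∉ A) {a : Ω} (haP : a ∈ P) (haA : a ∈ A) (haZ : a ∉ S ⊓ Subgroup.centralizer (S : Set Ω))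
    {q : Ω} (hqP : q ∈ P) (hq : ∀ r ∈ P, r * q = q * r) : q ∈ S ⊓ Subgroup.centralizer (S : Set Ω) := by
  by_cases hqA : q ∈ A
  · exact h.mem_center (hPS hxP) hxA hqA (hq x hxP).symm
  · exact absurd (h.mem_center (hPS hqP) hqA haA (hq a haP)) haZ

/-- `y ∈ A` with all commutators `[y, s]`, `s ∈ S`, central (an element of `Z₂(S) ∩ A`). -/
def IsYElt (S A : Subgroup Ω) (y : Ω) : Prop :=
  y ∈ A ∧ ∀ s ∈ S, y * s * y⁻¹ * s⁻¹ ∈ S ⊓ Subgroup.centralizer (S : Set Ω)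

theorem IsYElt.comm_mul {y : Ω} (hy : IsYElt S A y) {s₁ s₂ : Ω} (hs₁ : s₁ ∈ S) (hs₂ : s₂ ∈ S) :
    y * (s₁ * s₂) * y⁻¹ * (s₁ * s₂)⁻¹ = (y * s₁ * y⁻¹ * s₁⁻¹) * (y * s₂ * y⁻¹ * s₂⁻¹) := by
  have hc := (mem_inf_centralizer_iff.mp (hy.2 s₂ hs₂)).2 s₁ hs₁
  calc y * (s₁ * s₂) * y⁻¹ * (s₁ * s₂)⁻¹ = (y * s₁ * y⁻¹) * s₁⁻¹ * (s₁ * (y * s₂ * y⁻¹ * s₂⁻¹)) * s₁⁻¹ := by
        group
    _ = _ := by rw [hc]; group

/-- The commutator map `s ↦ [y, s]` for a `Y`-element. -/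
def IsYElt.commHom {y : Ω} (hy : IsYElt S A y) : S →* Ω where
  toFun s := y * (s : Ω) * y⁻¹ * (s : Ω)⁻¹
  map_one' := by simp
  map_mul' a b := hy.comm_mul a.2 b.2

theorem IsYElt.comm_pow {y : Ω} (hy : IsYElt S A y) {s : Ω} (hs : s ∈ S) (i : ℕ) :
    y * s ^ i * y⁻¹ * (s ^ i)⁻¹ = (y * s * y⁻¹ * s⁻¹) ^ i :=
  map_pow hy.commHom ⟨s, hs⟩ i

theorem IsYElt.comm_eq_one (h : IdxP p S A) {y : Ω} (hy : IsYElt S A y) {a : Ω} (ha : a ∈ A) :
    y * a * y⁻¹ * a⁻¹ = 1 := by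
  rw [h.comm y hy.1 a ha]
  group

theorem IsYElt.comm_mem_zpowers (h : IdxP p S A) {y : Ω} (hy : IsYElt S A y) {x : Ω} (hxS : x ∈ S)
    (hxA : x ∉ A) {s : Ω} (hs : s ∈ S) : y * s * y⁻¹ * s⁻¹ ∈ Subgroup.zpowers (y * x * y⁻¹ * x⁻¹) := by
  obtain ⟨i, hi⟩ := h.exists_pow x hxS hxA s hs
  have e : s = (s * (x ^ i)⁻¹) * x ^ i := by group
  rw [e, hy.comm_mul (h.le hi) (S.pow_mem hxS i), hy.comm_eq_one h hi, one_mul, hy.comm_pow hxS]
  exact Subgroup.pow_mem _ (Subgroup.mem_zpowers _) i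

theorem IsYElt.comm_pow_p [Finite S] (h : IdxP p S A) {y : Ω} (hy : IsYElt S A y) {x : Ω} (hxS : x ∈ S) :
    (y * x * y⁻¹ * x⁻¹) ^ p = 1 := by
  rw [← hy.comm_pow hxS, hy.comm_eq_one h (h.pow_p_mem hxS)]

theorem IsYElt.comm_ne_one (h : IdxP p S A) {y : Ω} (hy : IsYElt S A y)
    (hyZ : y ∉ S ⊓ Subgroup.centralizer (S : Set Ω)) {x : Ω} (hxS : x ∈ S) (hxA : x ∉ A) :
    y * x * y⁻¹ * x⁻¹ ≠ 1 := by
  intro h1
  apply hyZ
  apply h.mem_center hxS hxA hy.1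
  have : y * x = (y * x * y⁻¹ * x⁻¹) * (x * y) := by group
  rw [this, h1, one_mul]

/-- An element of `A` normalizing `P` (with `P ∩ A = Z(S)`) is a `Y`-element. -/
theorem IsYElt.of_normalizer (h : IdxP p S A) {P : Subgroup Ω} (hPS : P ≤ S) {x : Ω} (hxP : x ∈ P) (hxA : x ∉ A)
    (hPA : P ⊓ A = S ⊓ Subgroup.centralizer (S : Set Ω)) {y : Ω} (hyA : y ∈ A)
    (hyN : y ∈ Subgroup.normalizer (P : Set Ω)) : IsYElt S A y := by
  refine ⟨hyA, h.comm_mem_center (hPS hxP) hxA hyA ?_⟩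
  intro i
  rw [← hPA]
  refine Subgroup.mem_inf.mpr ⟨?_, h.comm_mem y (h.le hyA) _ (S.pow_mem (hPS hxP) i)⟩
  exact P.mul_mem ((Subgroup.mem_normalizer_iff.mp hyN _).mp (P.pow_mem hxP i)) (P.inv_mem (P.pow_mem hxP i))

/-- A `Y`-element normalizes every subgroup between `Z(S)` and `S`. -/
theorem IsYElt.mem_normalizer (h : IdxP p S A) {y : Ω} (hy : IsYElt S A y) {P : Subgroup Ω} (hPS : P ≤ S)
    (hZP : S ⊓ Subgroup.centralizer (S : Set Ω) ≤ P) : y ∈ Subgroup.normalizer (P : Set Ω) := by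
  rw [Subgroup.mem_normalizer_iff]
  intro w
  constructor
  · intro hw
    have e : y * w * y⁻¹ = (y * w * y⁻¹ * w⁻¹) * w := by group
    rw [e]
    exact P.mul_mem (hZP (hy.2 w (hPS hw))) hw
  · intro hw
    have hwS : w ∈ S := by
      have e : w = y⁻¹ * (y * w * y⁻¹) * y := by group
      rw [e]
      exact S.mul_mem (S.mul_mem (S.inv_mem (h.le hy.1)) (hPS hw)) (h.le hy.1)
    have e : w = (y * w * y⁻¹ * w⁻¹)⁻¹ * (y * w * y⁻¹) := by group
    rw [e]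
    exact P.mul_mem (P.inv_mem (hZP (hy.2 w hwS))) hw

/-- Commutators of `z yⁱ` (with `z` central). -/
theorem IsYElt.comm_of_mul_pow_inv_mem (h : IdxP p S A) (hna : ¬ IsMulCommutative ↥S) {y : Ω} (hy : IsYElt S A y)
    {y' : Ω} {i : ℕ} (hy' : y' * (y ^ i)⁻¹ ∈ S ⊓ Subgroup.centralizer (S : Set Ω)) {s : Ω} (hs : s ∈ S) :
    y' * s * y'⁻¹ * s⁻¹ = (y * s * y⁻¹ * s⁻¹) ^ i := by
  have hzA : y' * (y ^ i)⁻¹ ∈ A := h.center_le hna hy'
  have e : y' = (y' * (y ^ i)⁻¹) * y ^ i := by group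
  have hc : (y' * (y ^ i)⁻¹) * s * (y' * (y ^ i)⁻¹)⁻¹ * s⁻¹ = 1 := by
    have := (mem_inf_centralizer_iff.mp hy').2 s hs
    rw [← this]
    group
  rw [e, h.comm_mul_left hzA (A.pow_mem hy.1 i) hs, hc, one_mul, h.comm_pow_left hy.1 hs]

end OliverE

end Cfsg.Agent.Lib.Helper26
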