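import Cfsg.Agent.Lib.Helper26.OliverD
import Cfsg.Agent.Lib.Helper26.OliverE

/-!
Local analysis at an essential subgroup `Z(S)⟨x⟩`: the abstract statement for an abelian `p`-group `P` with a
group of automorphisms whose Sylow `p`-subgroups have order `p` and are generated by a transvection.
-/

set_option autoImplicit false
universe u

namespace Cfsg.Agent.Lib.Helper26

open Cfsg

section LocalAbs

variable {P : Type u} [CommGroup P] [Finite P] {p : ℕ} [Fact p.Prime]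

/-- The local hypotheses. -/
structure LocalHyp (p : ℕ) (G : Subgroup (MulAut P)) (t : MulAut P) (Zf : Subgroup P) (z₀ : P) : Prop where
  pgroup : IsPGroup p P
  ess : EssData p P G
  syl : ∀ Q : Subgroup (MulAut P), Q ≤ G → IsPGroup p Q → ∃ χ ∈ G, ∀ α ∈ Q, χ * α * χ⁻¹ ∈ Subgroup.zpowers t
  t_mem : t ∈ G
  t_ne : t ≠ 1
  fix : ∀ w, t w = w ↔ w ∈ Zf
  z_mem : z₀ ∈ Zf
  z_ne : z₀ ≠ 1
  z_pow : z₀ ^ p = 1
  disp : ∀ w, w⁻¹ * t w ∈ Subgroup.zpowers z₀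

variable {G : Subgroup (MulAut P)} {t : MulAut P} {Zf : Subgroup P} {z₀ : P}

theorem LocalHyp.t_z (H : LocalHyp p G t Zf z₀) : t z₀ = z₀ := (H.fix z₀).mpr H.z_mem

theorem LocalHyp.t_pow (H : LocalHyp p G t Zf z₀) : t ^ p = 1 := by
  have hpp : p.Prime := Fact.out
  ext w
  obtain ⟨k, hk⟩ := exists_nat_pow_of_mem_zpowers hpp.pos H.z_pow (H.disp w)
  have hw : t w = w * z₀ ^ k := by rw [← hk]; group
  have hfix : t (z₀ ^ k) = z₀ ^ k := by rw [map_pow, H.t_z]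
  rw [pow_apply_of_fixed_disp hw hfix p, ← pow_mul, mul_comm k p, pow_mul, H.z_pow, one_pow, mul_one]
  rfl

theorem LocalHyp.card_zpowers (H : LocalHyp p G t Zf z₀) : Nat.card (Subgroup.zpowers t) = p := by
  rw [Nat.card_zpowers]
  exact orderOf_eq_prime H.t_pow H.t_ne

theorem LocalHyp.card_le (H : LocalHyp p G t Zf z₀) {Q : Subgroup (MulAut P)} (hQ : Q ≤ G) (hQp : IsPGroup p Q) :
    Nat.card Q ≤ p := by
  obtain ⟨χ, -, hχ⟩ := H.syl Q hQ hQp
  rw [← H.card_zpowers]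
  apply Nat.card_le_card_of_injective (fun q : Q => (⟨χ * (q : MulAut P) * χ⁻¹, hχ q q.2⟩ : Subgroup.zpowers t))
  intro q₁ q₂ hq
  have h1 : χ * (q₁ : MulAut P) * χ⁻¹ = χ * (q₂ : MulAut P) * χ⁻¹ := congrArg Subtype.val hq
  exact Subtype.ext (mul_left_cancel (mul_right_cancel h1))

theorem LocalHyp.exists_conj_not_mem (H : LocalHyp p G t Zf z₀) :
    ∃ g ∈ G, g * t * g⁻¹ ∉ Subgroup.zpowers t := by
  by_contra hcon
  push Not at hcon
  have hN : ((Subgroup.zpowers t).subgroupOf G).Normal := by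
    constructor
    intro n hn g
    rw [Subgroup.mem_subgroupOf] at hn ⊢
    obtain ⟨k, hk⟩ := Subgroup.mem_zpowers_iff.mp hn
    show (g : MulAut P) * (n : MulAut P) * (g : MulAut P)⁻¹ ∈ Subgroup.zpowers t
    rw [← hk, ← conj_zpow]
    exact Subgroup.zpow_mem _ (hcon g g.2) k
  have hNp : IsPGroup p ((Subgroup.zpowers t).subgroupOf G) := by
    rintro ⟨n, hn⟩
    rw [Subgroup.mem_subgroupOf] at hn
    obtain ⟨k, hk⟩ := Subgroup.mem_zpowers_iff.mp hn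
    refine ⟨1, Subtype.ext (Subtype.ext ?_)⟩
    show (n : MulAut P) ^ (p ^ 1) = 1
    rw [pow_one, ← hk, ← zpow_natCast, ← zpow_mul, mul_comm, zpow_mul, zpow_natCast, H.t_pow, one_zpow]
  have h1 := H.ess.core _ hN hNp ⟨t, H.t_mem⟩
    (by rw [Subgroup.mem_subgroupOf]; exact Subgroup.mem_zpowers t)
  obtain ⟨g, hg⟩ := h1
  apply H.t_ne
  have : (t : MulAut P) = MulAut.conj g := hg.symm
  rw [this]
  ext w
  rw [MulAut.conj_apply, mul_comm, inv_mul_cancel_left]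
  rfl

theorem LocalHyp.fix_of_conj_mem (H : LocalHyp p G t Zf z₀) {g : MulAut P}
    (hgt : g * t * g⁻¹ ∈ Subgroup.zpowers t) : ∀ z ∈ Zf, g⁻¹ z ∈ Zf := by
  intro z hz
  obtain ⟨k, hk⟩ := Subgroup.mem_zpowers_iff.mp hgt
  rw [← H.fix]
  have h1 : (t ^ k) z = z := by
    have ht : t ∈ MulAction.stabilizer (MulAut P) z := MulAction.mem_stabilizer_iff.mpr ((H.fix z).mpr hz)
    exact MulAction.mem_stabilizer_iff.mp (Subgroup.zpow_mem _ ht k)
  have h2 : t (g⁻¹ z) = g⁻¹ ((g * t * g⁻¹) z) := by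
    simp [MulAut.mul_apply]
  rw [h2, ← hk, h1]


theorem LocalHyp.conj_disp (H : LocalHyp p G t Zf z₀) (g : MulAut P) (w : P) :
    w⁻¹ * (g * t * g⁻¹) w ∈ Subgroup.zpowers (g z₀) := by
  obtain ⟨k, hk⟩ := Subgroup.mem_zpowers_iff.mp (H.disp (g⁻¹ w))
  rw [Subgroup.mem_zpowers_iff]
  refine ⟨k, ?_⟩
  rw [← map_zpow, hk, map_mul, map_inv]
  simp [MulAut.mul_apply]

theorem LocalHyp.conj_fix (H : LocalHyp p G t Zf z₀) (g : MulAut P) : (g * t * g⁻¹) (g z₀) = g z₀ := by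
  simp [MulAut.mul_apply, H.t_z]

theorem LocalHyp.conj_fix_iff (H : LocalHyp p G t Zf z₀) (g : MulAut P) (w : P) :
    (g * t * g⁻¹) w = w ↔ g⁻¹ w ∈ Zf := by
  rw [← H.fix]
  constructor
  · intro h
    have := congrArg (fun u => g⁻¹ u) h
    simpa [MulAut.mul_apply] using this
  · intro h
    have := congrArg (fun u => g u) h
    simpa [MulAut.mul_apply] using this

/-- Two distinct Sylow subgroups are in general position. -/
theorem LocalHyp.not_pgroup_pair (H : LocalHyp p G t Zf z₀) {g : MulAut P} (hg : g ∈ G)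
    (hgt : g * t * g⁻¹ ∉ Subgroup.zpowers t) : ¬ IsPGroup p (Subgroup.closure {t, g * t * g⁻¹}) := by
  intro hpg
  have hle : Subgroup.closure {t, g * t * g⁻¹} ≤ G := by
    rw [Subgroup.closure_le]
    intro u hu
    rcases hu with rfl | hu
    · exact H.t_mem
    · rw [Set.mem_singleton_iff.mp hu]
      exact G.mul_mem (G.mul_mem hg H.t_mem) (G.inv_mem hg)
  have hcard := H.card_le hle hpg
  have hsub : Subgroup.zpowers t ≤ Subgroup.closure {t, g * t * g⁻¹} :=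
    Subgroup.zpowers_le.mpr (Subgroup.subset_closure (Set.mem_insert _ _))
  have heq : Subgroup.zpowers t = Subgroup.closure {t, g * t * g⁻¹} := by
    apply Subgroup.eq_of_le_of_card_ge hsub
    rw [H.card_zpowers]
    exact hcard
  apply hgt
  rw [heq]
  exact Subgroup.subset_closure (Set.mem_insert_of_mem _ (Set.mem_singleton _))

theorem LocalHyp.exists_d (H : LocalHyp p G t Zf z₀) (hp : p ≠ 2) {g : MulAut P} (hg : g ∈ G)
    (hgt : g * t * g⁻¹ ∉ Subgroup.zpowers t) :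
    ∃ d ∈ G, d * t = t * d ∧ d z₀ = z₀⁻¹ ∧ (∀ z ∈ Zf, d z * z⁻¹ ∈ Subgroup.zpowers z₀) ∧ d * d = 1 ∧
      (∀ z ∈ Zf, d z = z → g⁻¹ z ∈ Zf) ∧ (∀ z ∈ Zf, g⁻¹ z ∈ Zf → d z = z) := by
  have hpp : p.Prime := Fact.out
  obtain ⟨t', ht'def⟩ : ∃ t' : MulAut P, t' = g * t * g⁻¹ := ⟨_, rfl⟩
  have ht'G : t' ∈ G := ht'def ▸ G.mul_mem (G.mul_mem hg H.t_mem) (G.inv_mem hg)
  have ht' : ∀ w, w⁻¹ * t' w ∈ Subgroup.zpowers (g z₀) := fun w => ht'def ▸ H.conj_disp g w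
  have ht'e₁ : t' (g z₀) = g z₀ := ht'def ▸ H.conj_fix g
  have he₁p : (g z₀) ^ p = 1 := by rw [← map_pow, H.z_pow, map_one]
  have hnp := H.not_pgroup_pair hg hgt
  rw [← ht'def] at hnp
  have hnd1 : t (g z₀) ≠ g z₀ := fun h =>
    hnp (isPGroup_closure_pair_ol H.pgroup H.disp ht' H.t_z ht'e₁ h)
  have hnd2 : t' z₀ ≠ z₀ := by
    intro h
    apply hnp
    rw [Set.pair_comm]
    exact isPGroup_closure_pair_ol H.pgroup ht' H.disp ht'e₁ H.t_z h
  obtain ⟨j, f, hj, hTP⟩ := exists_transvPair H.z_ne H.z_pow he₁p H.disp ht' H.t_z ht'e₁ hnd1 hnd2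
  have hfixiff : ∀ w, t' w = w ↔ g⁻¹ w ∈ Zf := fun w => ht'def ▸ H.conj_fix_iff g w
  refine ⟨hTP.d, ?_, hTP.d_comm, hTP.d_e, ?_, hTP.d_sq, ?_, ?_⟩
  · have hle : Subgroup.closure {t, t' ^ j} ≤ G := by
      rw [Subgroup.closure_le]
      intro u hu
      rcases hu with rfl | hu
      · exact H.t_mem
      · rw [Set.mem_singleton_iff.mp hu]
        exact G.pow_mem ht'G j
    exact hle hTP.d_mem
  · intro z hz
    exact hTP.d_mul_inv_mem ((H.fix z).mpr hz)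
  · intro z hz hdz
    have h1 := hTP.fixed_of_d_fixed hp ((H.fix z).mpr hz) hdz
    have h2 := fixed_of_pow_fixed he₁p ht' ht'e₁ hj h1
    exact (hfixiff z).mp h2
  · intro z hz hgz
    have h1 : t' z = z := (hfixiff z).mpr hgz
    have h2 : (t' ^ j) z = z := by
      have ht : t' ∈ MulAction.stabilizer (MulAut P) z := MulAction.mem_stabilizer_iff.mpr h1
      exact MulAction.mem_stabilizer_iff.mp (Subgroup.pow_mem _ ht j)
    exact hTP.d_fixed ((H.fix z).mpr hz) h2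

end LocalAbs


section LocalGrp

variable {P : Type u} [Group P] [Finite P] {p : ℕ} [Fact p.Prime]

/-- The local hypotheses, for a group with a commutativity hypothesis. -/
structure LocalHypG (p : ℕ) (G : Subgroup (MulAut P)) (t : MulAut P) (Zf : Subgroup P) (z₀ : P) : Prop where
  comm : ∀ a b : P, a * b = b * a
  pgroup : IsPGroup p P
  ess : EssData p P G
  syl : ∀ Q : Subgroup (MulAut P), Q ≤ G → IsPGroup p Q → ∃ χ ∈ G, ∀ α ∈ Q, χ * α * χ⁻¹ ∈ Subgroup.zpowers t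
  t_mem : t ∈ G
  t_ne : t ≠ 1
  fix : ∀ w, t w = w ↔ w ∈ Zf
  z_mem : z₀ ∈ Zf
  z_ne : z₀ ≠ 1
  z_pow : z₀ ^ p = 1
  disp : ∀ w, w⁻¹ * t w ∈ Subgroup.zpowers z₀

variable {G : Subgroup (MulAut P)} {t : MulAut P} {Zf : Subgroup P} {z₀ : P}

theorem LocalHypG.exists_conj_not_mem (H : LocalHypG p G t Zf z₀) :
    ∃ g ∈ G, g * t * g⁻¹ ∉ Subgroup.zpowers t := by
  letI : CommGroup P := { ‹Group P› with mul_comm := H.comm }
  have H' : LocalHyp p G t Zf z₀ :=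
    ⟨H.pgroup, H.ess, H.syl, H.t_mem, H.t_ne, H.fix, H.z_mem, H.z_ne, H.z_pow, H.disp⟩
  exact H'.exists_conj_not_mem

theorem LocalHypG.fix_of_conj_mem (H : LocalHypG p G t Zf z₀) {g : MulAut P}
    (hgt : g * t * g⁻¹ ∈ Subgroup.zpowers t) : ∀ z ∈ Zf, g⁻¹ z ∈ Zf := by
  letI : CommGroup P := { ‹Group P› with mul_comm := H.comm }
  have H' : LocalHyp p G t Zf z₀ :=
    ⟨H.pgroup, H.ess, H.syl, H.t_mem, H.t_ne, H.fix, H.z_mem, H.z_ne, H.z_pow, H.disp⟩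
  exact H'.fix_of_conj_mem hgt

theorem LocalHypG.exists_d (H : LocalHypG p G t Zf z₀) (hp : p ≠ 2) {g : MulAut P} (hg : g ∈ G)
    (hgt : g * t * g⁻¹ ∉ Subgroup.zpowers t) :
    ∃ d ∈ G, d * t = t * d ∧ d z₀ = z₀⁻¹ ∧ (∀ z ∈ Zf, d z * z⁻¹ ∈ Subgroup.zpowers z₀) ∧ d * d = 1 ∧
      (∀ z ∈ Zf, d z = z → g⁻¹ z ∈ Zf) ∧ (∀ z ∈ Zf, g⁻¹ z ∈ Zf → d z = z) := by
  letI : CommGroup P := { ‹Group P› with mul_comm := H.comm }
  have H' : LocalHyp p G t Zf z₀ :=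
    ⟨H.pgroup, H.ess, H.syl, H.t_mem, H.t_ne, H.fix, H.z_mem, H.z_ne, H.z_pow, H.disp⟩
  exact H'.exists_d hp hg hgt

end LocalGrp

end Cfsg.Agent.Lib.Helper26
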