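import Cfsg.Agent.Lib.Helper26.OliverF

/-!
The local hypotheses hold at an essential subgroup `P = Z(S)⟨x⟩` (with `x ∉ A`).
-/

set_option autoImplicit false
universe u

namespace Cfsg.Agent.Lib.Helper26

open Cfsg Cfsg.FusionSystem

section OliverG

variable {Ω : Type u} [Group Ω] {S : Subgroup Ω}

/-- Consequence of Lemma T: modulo `P`, the elements of `A` normalizing the essential subgroup `P ≰ A` form a
cyclic group. -/
theorem oliver_T [Finite S] {p : ℕ} [Fact p.Prime] (hS : IsPGroup p S) (F : FusionSystem S)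
    {A : Subgroup Ω} (h : IdxP p S A)
    {P : Subgroup Ω} (hP : F.IsEssential p P) {x : Ω} (hxP : x ∈ P) (hxA : x ∉ A)
    {n₁ n₂ : Ω} (h1 : n₁ ∈ A) (h1N : n₁ ∈ Subgroup.normalizer (P : Set Ω)) (h2 : n₂ ∈ A)
    (h2N : n₂ ∈ Subgroup.normalizer (P : Set Ω)) (h1P : n₁ ∉ P) :
    ∃ i : ℕ, n₂ * (n₁ ^ i)⁻¹ ∈ P := by
  have hpp : p.Prime := Fact.out
  have hPS : P ≤ S := hP.1.1
  have hfinP : Finite P := finite_of_le hPS
  have hPp : IsPGroup p P := hS.to_le hPS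
  have hd := essData_of_essential hS F hP
  obtain ⟨hn, E, hE⟩ := hP.2.2
  have hcA : ∀ n : ↥(Subgroup.normalizer (P : Set Ω)), (n : Ω) ∈ S →
      P.normalizerMonoidHom n ∈ F.autGroup P := fun n hn =>
    autInducedBy_le_autGroup F hPS (normalizerMonoidHom_mem_autInducedBy hn n.2)
  have hcI : ∀ n : ↥(Subgroup.normalizer (P : Set Ω)), (n : Ω) ∈ S →
      P.normalizerMonoidHom n ∈ Inn P → (n : Ω) ∈ P := fun n hn hI =>
    mem_of_normalizerMonoidHom_mem_inn F hP.1 hn n.2 hI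
  have hcT : ∀ n : ↥(Subgroup.normalizer (P : Set Ω)), (n : Ω) ∈ A →
      IsTransv (A.subgroupOf P) (P.normalizerMonoidHom n) := fun n hn =>
    conjAut_isTransv h hPS hn n.2
  have hidxK : Nat.card P = p * Nat.card (A.subgroupOf P) := h.card_subgroupOf hPS hxP hxA
  have habK : ∀ a ∈ A.subgroupOf P, ∀ b ∈ A.subgroupOf P, a * b = b * a := by
    intro a ha b hb
    rw [Subgroup.mem_subgroupOf] at ha hb
    exact Subtype.ext (h.comm _ ha _ hb)
  have hT : ∀ n₁ n₂ : ↥(Subgroup.normalizer (P : Set Ω)), (n₁ : Ω) ∈ A → (n₂ : Ω) ∈ A → (n₁ : Ω) ∉ P →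
      ∃ i : ℕ, (n₂ : Ω) * ((n₁ : Ω) ^ i)⁻¹ ∈ P := by
    intro n₁ n₂ h1 h2 h1P
    obtain ⟨i, hi⟩ := transv_T hPp hd hE habK hidxK (hcA n₁ (h.le h1)) (hcA n₂ (h.le h2)) (hcT n₁ h1)
      (hcT n₂ h2) (fun hI => h1P (hcI n₁ (h.le h1) hI))
    refine ⟨i, ?_⟩
    rw [← map_pow, ← map_inv, ← map_mul] at hi
    have := hcI (n₂ * (n₁ ^ i)⁻¹) (S.mul_mem (h.le h2) (S.inv_mem (S.pow_mem (h.le h1) i))) hi
    exact this
  exact hT ⟨n₁, h1N⟩ ⟨n₂, h2N⟩ h1 h2 h1P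

/-- The data of an essential subgroup `P = Z(S)⟨x⟩` together with an element `y ∈ A` normalizing it. -/
structure HData (p : ℕ) (F : FusionSystem S) (A P : Subgroup Ω) (x y : Ω) : Prop where
  ess : F.IsEssential p P
  xP : x ∈ P
  xA : x ∉ A
  inf : P ⊓ A = S ⊓ Subgroup.centralizer (S : Set Ω)
  yA : y ∈ A
  yN : y ∈ Subgroup.normalizer (P : Set Ω)
  yP : y ∉ P

variable {p : ℕ} {F : FusionSystem S} {A P : Subgroup Ω} {x y : Ω}

theorem HData.le (D : HData p F A P x y) : P ≤ S := D.ess.1.1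

theorem HData.center_le (D : HData p F A P x y) : S ⊓ Subgroup.centralizer (S : Set Ω) ≤ P := by
  rw [← D.inf]
  exact inf_le_left

theorem HData.isYElt (D : HData p F A P x y) (h : IdxP p S A) : IsYElt S A y :=
  IsYElt.of_normalizer h D.le D.xP D.xA D.inf D.yA D.yN

theorem HData.y_not_mem (D : HData p F A P x y) : y ∉ S ⊓ Subgroup.centralizer (S : Set Ω) :=
  fun hy => D.yP (D.center_le hy)

/-- The central element `z₀ = [y, x]`, as an element of `P`. -/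
def HData.z₀ (D : HData p F A P x y) (h : IdxP p S A) : P :=
  ⟨y * x * y⁻¹ * x⁻¹, D.center_le ((D.isYElt h).2 x (D.le D.xP))⟩

/-- The automorphism of `P` induced by `y`. -/
noncomputable def HData.t (D : HData p F A P x y) : MulAut P := P.normalizerMonoidHom ⟨y, D.yN⟩

theorem HData.t_apply (D : HData p F A P x y) (w : P) : ((D.t w : P) : Ω) = y * w * y⁻¹ := rfl

theorem HData.t_mem (D : HData p F A P x y) (h : IdxP p S A) : D.t ∈ F.autGroup P :=
  autInducedBy_le_autGroup F D.le (normalizerMonoidHom_mem_autInducedBy (h.le D.yA) D.yN)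

theorem HData.t_pow_apply (D : HData p F A P x y) (k : ℕ) (w : P) :
    (((D.t ^ k) w : P) : Ω) = y ^ k * w * (y ^ k)⁻¹ := by
  have : D.t ^ k = P.normalizerMonoidHom (⟨y, D.yN⟩ ^ k) := (map_pow _ _ _).symm
  rw [this]
  rfl

theorem HData.comm (D : HData p F A P x y) (h : IdxP p S A) : ∀ a b : P, a * b = b * a :=
  fun a b => Subtype.ext (h.comm_of_inf_eq D.le D.xP D.xA D.inf a a.2 b b.2)

theorem HData.autInducedBy_le [Finite S] [Fact p.Prime] (D : HData p F A P x y) (hS : IsPGroup p S)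
    (h : IdxP p S A) : autInducedBy S P ≤ Subgroup.zpowers D.t := by
  intro α hα
  obtain ⟨n, hnS, hnN, rfl⟩ := (mem_autInducedBy_iff' S P α).mp hα
  obtain ⟨i, hi⟩ := h.exists_pow x (D.le D.xP) D.xA n hnS
  have haN : n * (x ^ i)⁻¹ ∈ Subgroup.normalizer (P : Set Ω) :=
    Subgroup.mul_mem _ hnN (Subgroup.inv_mem _ (Subgroup.le_normalizer (P.pow_mem D.xP i)))
  obtain ⟨k, hk⟩ := oliver_T hS F h D.ess D.xP D.xA D.yA D.yN hi haN D.yP
  rw [Subgroup.mem_zpowers_iff]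
  refine ⟨(k : ℤ), ?_⟩
  rw [zpow_natCast]
  ext w
  rw [D.t_pow_apply]
  show y ^ k * (w : Ω) * (y ^ k)⁻¹ = n * (w : Ω) * n⁻¹
  -- `n = q * y ^ k * x ^ i` with `q ∈ P`
  obtain ⟨q, hq⟩ : ∃ q, q = n * (x ^ i)⁻¹ * (y ^ k)⁻¹ := ⟨_, rfl⟩
  rw [← hq] at hk
  have hn : n = q * y ^ k * x ^ i := by rw [hq]; group
  have hc := h.comm_of_inf_eq D.le D.xP D.xA D.inf
  have h1 : x ^ i * (w : Ω) * (x ^ i)⁻¹ = w := by
    rw [hc _ (P.pow_mem D.xP i) _ w.2, mul_inv_cancel_right]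
  have h2 : y ^ k * (w : Ω) * (y ^ k)⁻¹ ∈ P := by
    have := ((D.t ^ k) w).2
    rw [D.t_pow_apply] at this
    exact this
  have h3 : q * (y ^ k * (w : Ω) * (y ^ k)⁻¹) * q⁻¹ = y ^ k * (w : Ω) * (y ^ k)⁻¹ := by
    rw [hc _ hk _ h2, mul_inv_cancel_right]
  calc y ^ k * (w : Ω) * (y ^ k)⁻¹ = q * (y ^ k * (x ^ i * (w : Ω) * (x ^ i)⁻¹) * (y ^ k)⁻¹) * q⁻¹ := by
        rw [h1, h3]
    _ = n * (w : Ω) * n⁻¹ := by rw [hn]; group


theorem HData.z₀_coe (D : HData p F A P x y) (h : IdxP p S A) : ((D.z₀ h : P) : Ω) = y * x * y⁻¹ * x⁻¹ := rfl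

theorem HData.fix_iff (D : HData p F A P x y) (h : IdxP p S A) (w : P) :
    D.t w = w ↔ w ∈ (S ⊓ Subgroup.centralizer (S : Set Ω)).subgroupOf P := by
  rw [Subgroup.mem_subgroupOf]
  constructor
  · intro hw
    have h1 : y * (w : Ω) * y⁻¹ = w := by
      have := congrArg Subtype.val hw
      exact this
    have h2 : y * (w : Ω) = w * y := by
      calc y * (w : Ω) = (y * (w : Ω) * y⁻¹) * y := by group
        _ = w * y := by rw [h1]
    by_cases hwA : (w : Ω) ∈ A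
    · rw [← D.inf]
      exact Subgroup.mem_inf.mpr ⟨w.2, hwA⟩
    · exact absurd (h.mem_center (D.le w.2) hwA D.yA h2) D.y_not_mem
  · intro hw
    apply Subtype.ext
    show y * (w : Ω) * y⁻¹ = w
    rw [(mem_inf_centralizer_iff.mp hw).2 y (h.le D.yA), mul_inv_cancel_right]

theorem HData.disp (D : HData p F A P x y) (h : IdxP p S A) (w : P) :
    w⁻¹ * D.t w ∈ Subgroup.zpowers (D.z₀ h) := by
  have hy := D.isYElt h
  have hwS : (w : Ω) ∈ S := D.le w.2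
  obtain ⟨k, hk⟩ := Subgroup.mem_zpowers_iff.mp (hy.comm_mem_zpowers h (D.le D.xP) D.xA hwS)
  rw [Subgroup.mem_zpowers_iff]
  refine ⟨k, Subtype.ext ?_⟩
  rw [Subgroup.coe_zpow, D.z₀_coe, hk]
  show y * (w : Ω) * y⁻¹ * (w : Ω)⁻¹ = (w : Ω)⁻¹ * (y * (w : Ω) * y⁻¹)
  have hc := (mem_inf_centralizer_iff.mp (hy.2 w hwS)).2 w hwS
  calc y * (w : Ω) * y⁻¹ * (w : Ω)⁻¹ = (w : Ω)⁻¹ * ((w : Ω) * (y * (w : Ω) * y⁻¹ * (w : Ω)⁻¹)) := by group
    _ = (w : Ω)⁻¹ * (y * (w : Ω) * y⁻¹) := by rw [hc]; group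

theorem HData.localHyp [Finite S] [Fact p.Prime] (D : HData p F A P x y) (hS : IsPGroup p S)
    (hF : F.IsSaturated p) (h : IdxP p S A) :
    LocalHypG p (F.autGroup P) D.t ((S ⊓ Subgroup.centralizer (S : Set Ω)).subgroupOf P) (D.z₀ h) := by
  have hy := D.isYElt h
  have hfinP : Finite P := finite_of_le D.le
  refine ⟨D.comm h, hS.to_le D.le, essData_of_essential hS F D.ess, ?_, D.t_mem h, ?_, D.fix_iff h, ?_, ?_, ?_,
    D.disp h⟩
  · intro Q hQ hQp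
    obtain ⟨χ, hχ, hχQ⟩ := exists_conj_mem_autInducedBy F (saturated_fn hS F hF D.ess.2.1).2 Q hQ hQp
    exact ⟨χ, hχ, fun α hα => D.autInducedBy_le hS h (hχQ α hα)⟩
  · intro ht
    apply D.yP
    apply mem_of_normalizerMonoidHom_mem_inn F D.ess.1 (h.le D.yA) D.yN
    have : P.normalizerMonoidHom ⟨y, D.yN⟩ = 1 := ht
    rw [this]
    exact Subgroup.one_mem _
  · rw [Subgroup.mem_subgroupOf]
    exact hy.2 x (D.le D.xP)
  · intro h1
    apply hy.comm_ne_one h D.y_not_mem (D.le D.xP) D.xA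
    exact congrArg Subtype.val h1
  · apply Subtype.ext
    rw [Subgroup.coe_pow, D.z₀_coe]
    exact hy.comm_pow_p h (D.le D.xP)

end OliverG

end Cfsg.Agent.Lib.Helper26
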