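import Cfsg.Agent.Lib.Helper26.OliverH

/-!
Generic lemmas on groups of automorphisms acting on the centre: the subgroup fixing the centre pointwise,
and the uniqueness of an automorphism inverting a central subgroup `W` of exponent `p` and stabilizing the chain
`W ≤ Z`.
-/

set_option autoImplicit false
universe u

namespace Cfsg.Agent.Lib.Helper26

open Cfsg Cfsg.FusionSystem Cfsg.Agent.Lib.Helper27

section Generic

variable {T : Type u} [Group T]

theorem mem_of_pow_mem_of_coprime_ol (N : Subgroup T) {g : T} {a b : ℕ} (hab : Nat.Coprime a b) (ha : g ^ a ∈ N)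
    (hb : g ^ b ∈ N) : g ∈ N := by
  have h1 : (a : ℤ) * Nat.gcdA a b + (b : ℤ) * Nat.gcdB a b = 1 := by
    have := Nat.gcd_eq_gcd_ab a b
    rw [hab] at this
    exact_mod_cast this.symm
  have : g = (g ^ a) ^ (Nat.gcdA a b) * (g ^ b) ^ (Nat.gcdB a b) := by
    rw [← zpow_natCast g a, ← zpow_natCast g b, ← zpow_mul, ← zpow_mul, ← zpow_add, h1, zpow_one]
  rw [this]
  exact N.mul_mem (N.zpow_mem ha _) (N.zpow_mem hb _)

theorem aut_mem_center_ol (σ : MulAut T) {z : T} (hz : z ∈ Subgroup.center T) : σ z ∈ Subgroup.center T := by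
  rw [Subgroup.mem_center_iff] at hz ⊢
  intro g
  have h1 := hz (σ⁻¹ g)
  have h2 := congrArg (fun u => σ u) h1
  simpa using h2

/-- The subgroup of `Γ` fixing the centre of `T` pointwise. -/
def centerFix (Γ : Subgroup (MulAut T)) : Subgroup Γ where
  carrier := {γ | ∀ z ∈ Subgroup.center T, (γ : MulAut T) z = z}
  one_mem' := fun z _ => rfl
  mul_mem' := by
    intro a b ha hb z hz
    show (a : MulAut T) ((b : MulAut T) z) = z
    rw [hb z hz, ha z hz]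
  inv_mem' := by
    intro a ha z hz
    show (a : MulAut T)⁻¹ z = z
    calc (a : MulAut T)⁻¹ z = (a : MulAut T)⁻¹ ((a : MulAut T) z) := by rw [ha z hz]
      _ = z := MulAut.inv_apply_self _ _ _

theorem mem_centerFix {Γ : Subgroup (MulAut T)} {γ : Γ} :
    γ ∈ centerFix Γ ↔ ∀ z ∈ Subgroup.center T, (γ : MulAut T) z = z := Iff.rfl

instance centerFix_normal (Γ : Subgroup (MulAut T)) : (centerFix Γ).Normal := by
  constructor
  intro n hn g z hz
  show (g : MulAut T) ((n : MulAut T) ((g : MulAut T)⁻¹ z)) = z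
  rw [hn _ (aut_mem_center_ol _ hz), MulAut.apply_inv_self]

theorem mem_centerFix_of_sylow [Finite T] {p : ℕ} [Fact p.Prime] {Γ : Subgroup (MulAut T)} (R : Sylow p Γ)
    (hR : (R : Subgroup Γ) ≤ centerFix Γ) {γ : Γ} {k : ℕ} (hγ : γ ^ (p ^ k) ∈ centerFix Γ) :
    γ ∈ centerFix Γ := by
  have hpp : p.Prime := Fact.out
  have hdvd : (centerFix Γ).index ∣ (R : Subgroup Γ).index := Subgroup.index_dvd_of_le hR
  have hnd : ¬ p ∣ (centerFix Γ).index := fun h => R.not_dvd_index (h.trans hdvd)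
  have hcop : Nat.Coprime (p ^ k) (centerFix Γ).index :=
    Nat.Coprime.pow_left k ((Nat.Prime.coprime_iff_not_dvd hpp).mpr hnd)
  exact mem_of_pow_mem_of_coprime_ol _ hcop hγ (Subgroup.pow_index_mem _ γ)

/-- An automorphism inverting `W` and stabilizing the chain `W ≤ Z(T)`. -/
structure GoodAut (W : Subgroup T) (β : MulAut T) : Prop where
  inv : ∀ u ∈ W, β u = u⁻¹
  disp : ∀ z ∈ Subgroup.center T, z⁻¹ * β z ∈ W

theorem GoodAut.eq_on_center [Finite T] {p : ℕ} [Fact p.Prime] {Γ : Subgroup (MulAut T)} (R : Sylow p Γ)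
    (hR : (R : Subgroup Γ) ≤ centerFix Γ) {W : Subgroup T} (hWp : ∀ u ∈ W, u ^ p = 1) {β β' : MulAut T}
    (hβ : β ∈ Γ) (hβ' : β' ∈ Γ) (h1 : GoodAut W β) (h2 : GoodAut W β') :
    ∀ z ∈ Subgroup.center T, β z = β' z := by
  obtain ⟨γ, hγdef⟩ : ∃ γ : MulAut T, γ = β'⁻¹ * β := ⟨_, rfl⟩
  have hγΓ : γ ∈ Γ := hγdef ▸ Γ.mul_mem (Γ.inv_mem hβ') hβ
  have hinv' : ∀ u ∈ W, β'⁻¹ u = u⁻¹ := by
    intro u hu
    have := h2.inv u⁻¹ (W.inv_mem hu)
    rw [inv_inv] at this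
    calc β'⁻¹ u = β'⁻¹ (β' u⁻¹) := by rw [this]
      _ = u⁻¹ := MulAut.inv_apply_self _ _ _
  have hγW : ∀ u ∈ W, γ u = u := by
    intro u hu
    rw [hγdef, MulAut.mul_apply, h1.inv u hu, hinv' _ (W.inv_mem hu), inv_inv]
  have hγd : ∀ z ∈ Subgroup.center T, ∃ u ∈ W, γ z = z * u := by
    intro z hz
    obtain ⟨u₁, hu₁def⟩ : ∃ u₁, u₁ = z⁻¹ * β z := ⟨_, rfl⟩
    have hu₁ : u₁ ∈ W := hu₁def ▸ h1.disp z hz
    obtain ⟨z', hz'def⟩ : ∃ z', z' = β'⁻¹ z := ⟨_, rfl⟩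
    have hz' : z' ∈ Subgroup.center T := hz'def ▸ aut_mem_center_ol _ hz
    have hβ'z' : β' z' = z := by rw [hz'def, MulAut.apply_inv_self]
    obtain ⟨u₂, hu₂def⟩ : ∃ u₂, u₂ = z'⁻¹ * z := ⟨_, rfl⟩
    have hu₂ : u₂ ∈ W := by
      have := h2.disp z' hz'
      rw [hβ'z'] at this
      exact hu₂def ▸ this
    refine ⟨u₂⁻¹ * u₁⁻¹, W.mul_mem (W.inv_mem hu₂) (W.inv_mem hu₁), ?_⟩
    have hb : β z = z * u₁ := by rw [hu₁def]; group
    have hz'' : z' = z * u₂⁻¹ := by rw [hu₂def]; group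
    rw [hγdef, MulAut.mul_apply, hb, map_mul, ← hz'def, hinv' _ hu₁, hz'', mul_assoc]
  have hmem : (⟨γ, hγΓ⟩ : Γ) ∈ centerFix Γ := by
    apply mem_centerFix_of_sylow R hR (k := 1)
    rw [mem_centerFix]
    intro z hz
    obtain ⟨u, hu, hzu⟩ := hγd z hz
    show (γ ^ (p ^ 1)) z = z
    rw [pow_one, aut_pow_apply_of_fixed γ hzu (hγW u hu), hWp u hu, mul_one]
  intro z hz
  have h3 : β'⁻¹ (β z) = z := by
    have h4 : γ z = z := hmem z hz
    rw [hγdef] at h4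
    exact h4
  calc β z = β' (β'⁻¹ (β z)) := (MulAut.apply_inv_self _ _ _).symm
    _ = β' z := by rw [h3]

end Generic

end Cfsg.Agent.Lib.Helper26
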