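import Cfsg.Agent.Lib.Helper26.OliverI
import Cfsg.Agent.Lib.Helper26.FSNormalCrit

/-!
Oliver's Lemma 2.4: the fusion-theoretic assembly (part 1).
-/

set_option autoImplicit false
universe u

namespace Cfsg.Agent.Lib.Helper26

open Cfsg Cfsg.FusionSystem Cfsg.Agent.Lib.Helper27

section OliverJ

variable {Ω : Type u} [Group Ω] {S : Subgroup Ω}

theorem mem_center_iff_coe (z : S) :
    z ∈ Subgroup.center ↥S ↔ (z : Ω) ∈ S ⊓ Subgroup.centralizer (S : Set Ω) := by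
  rw [Subgroup.mem_center_iff, mem_inf_centralizer_iff]
  constructor
  · intro hz
    exact ⟨z.2, fun s hs => congrArg Subtype.val (hz ⟨s, hs⟩)⟩
  · intro hz s
    exact Subtype.ext (hz.2 s s.2)

variable {p : ℕ} {A : Subgroup Ω}

theorem exists_not_mem_of_essential (F : FusionSystem S) (h : IdxP p S A) (hAe : ¬ F.IsEssential p A)
    {P : Subgroup Ω} (hP : F.IsEssential p P) : ∃ x ∈ P, x ∉ A := by
  by_contra hcon
  push Not at hcon
  have hAP : A ≤ P := by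
    have hcen := hP.1.2 P (isConj_refl F hP.1.1)
    intro a ha
    apply hcen
    rw [mem_centralizerIn_iff]
    exact ⟨h.le ha, fun y hy => h.comm y (hcon y hy) a ha⟩
  have : P = A := le_antisymm hcon hAP
  exact hAe (this ▸ hP)

theorem inf_eq_of_card_le [Finite S] [Fact p.Prime] (F : FusionSystem S) (h : IdxP p S A)
    (hna : ¬ IsMulCommutative ↥S) {P : Subgroup Ω} (hP : F.IsEssential p P) {x : Ω} (hxP : x ∈ P) (hxA : x ∉ A)
    (hn : ¬ p * Nat.card ↥(S ⊓ Subgroup.centralizer (S : Set Ω)) < Nat.card P) :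
    P ⊓ A = S ⊓ Subgroup.centralizer (S : Set Ω) := by
  have hpp : p.Prime := Fact.out
  have hPS : P ≤ S := hP.1.1
  have hZle : S ⊓ Subgroup.centralizer (S : Set Ω) ≤ P ⊓ A :=
    le_inf (center_le_of_isCentric F hP.1) (h.center_le hna)
  have hfin : Finite ↥(P ⊓ A) := finite_of_le (inf_le_left.trans hPS)
  have hc := h.card_of_inf_eq hPS hxP hxA
  rw [hc] at hn
  have hle : Nat.card ↥(P ⊓ A) ≤ Nat.card ↥(S ⊓ Subgroup.centralizer (S : Set Ω)) := by
    by_contra hlt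
    push Not at hlt
    exact hn (Nat.mul_lt_mul_of_pos_left hlt hpp.pos)
  exact (Subgroup.eq_of_le_of_card_ge hZle hle).symm

theorem exists_mem_inf_not_mem_center [Finite S] [Fact p.Prime] (h : IdxP p S A)
    {P : Subgroup Ω} (hPS : P ≤ S) {x : Ω} (hxP : x ∈ P) (hxA : x ∉ A)
    (hn : p * Nat.card ↥(S ⊓ Subgroup.centralizer (S : Set Ω)) < Nat.card P) :
    ∃ a ∈ P, a ∈ A ∧ a ∉ S ⊓ Subgroup.centralizer (S : Set Ω) := by
  have hpp : p.Prime := Fact.out
  by_contra hcon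
  push Not at hcon
  have hle : P ⊓ A ≤ S ⊓ Subgroup.centralizer (S : Set Ω) := fun a ha => hcon a ha.1 ha.2
  have hfin : Finite ↥(S ⊓ Subgroup.centralizer (S : Set Ω)) := finite_of_le inf_le_left
  have hc := h.card_of_inf_eq hPS hxP hxA
  have := Subgroup.card_le_of_le hle
  rw [hc] at hn
  exact absurd (Nat.mul_le_mul_left p this) (not_le.mpr hn)

/-- The `p`-elements of the automizer of a large essential subgroup centralize `Z(S)`. -/
theorem oliver_hK [Finite S] [Fact p.Prime] (hS : IsPGroup p S) (F : FusionSystem S) (hF : F.IsSaturated p)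
    (h : IdxP p S A) (hAe : ¬ F.IsEssential p A) :
    ∀ P : Subgroup Ω, F.IsEssential p P →
      p * Nat.card ↥(S ⊓ Subgroup.centralizer (S : Set Ω)) < Nat.card P → ∀ γ ∈ F.autGroup P,
      (∃ k : ℕ, orderOf γ = p ^ k) →
      ∀ (z : Ω) (_ : z ∈ S ⊓ Subgroup.centralizer (S : Set Ω)) (hzP : z ∈ P), γ ⟨z, hzP⟩ = ⟨z, hzP⟩ := by
  intro P hP hn γ hγ ⟨k, hk⟩ z hz hzP
  have hPS : P ≤ S := hP.1.1
  have hfinP : Finite P := finite_of_le hPS
  obtain ⟨x, hxP, hxA⟩ := exists_not_mem_of_essential F h hAe hP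
  obtain ⟨a, haP, haA, haZ⟩ := exists_mem_inf_not_mem_center h hPS hxP hxA hn
  have hcenP : ∀ w : P, w ∈ Subgroup.center ↥P → (w : Ω) ∈ S ⊓ Subgroup.centralizer (S : Set Ω) := by
    intro w hw
    rw [Subgroup.mem_center_iff] at hw
    exact h.mem_center_of_central hPS hxP hxA haP haA haZ w.2
      (fun r hr => congrArg Subtype.val (hw ⟨r, hr⟩))
  obtain ⟨-, R, hR⟩ := (saturated_fn hS F hF hP.2.1).2
  have hRle : (R : Subgroup ↥(F.autGroup P)) ≤ centerFix (F.autGroup P) := by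
    intro γ' hγ'
    rw [hR, Subgroup.mem_subgroupOf] at hγ'
    obtain ⟨n, hnS, hn'⟩ := (mem_autInducedBy_iff S P _).mp hγ'
    rw [mem_centerFix]
    intro w hw
    apply Subtype.ext
    rw [hn' w, (mem_inf_centralizer_iff.mp (hcenP w hw)).2 n hnS, mul_inv_cancel_right]
  have hpow : (⟨γ, hγ⟩ : ↥(F.autGroup P)) ^ (p ^ k) ∈ centerFix (F.autGroup P) := by
    have : (⟨γ, hγ⟩ : ↥(F.autGroup P)) ^ (p ^ k) = 1 := by
      apply Subtype.ext
      show γ ^ (p ^ k) = 1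
      rw [← hk, pow_orderOf_eq_one]
    rw [this]
    exact Subgroup.one_mem _
  have hmem := mem_centerFix_of_sylow R hRle hpow
  rw [mem_centerFix] at hmem
  apply hmem
  rw [Subgroup.mem_center_iff]
  intro w
  exact Subtype.ext ((mem_inf_centralizer_iff.mp hz).2 w (hPS w.2))


/-- An automorphism of an essential `P = Z(S)⟨x⟩` commuting with `c_y` acts on `Z(S)` like an element of
`Aut_F(S)`. -/
theorem HData.exists_aut [Finite S] [Fact p.Prime] {F : FusionSystem S} {P : Subgroup Ω} {x y : Ω}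
    (D : HData p F A P x y) (hS : IsPGroup p S) (hF : F.IsSaturated p) (h : IdxP p S A)
    (hAe : ¬ F.IsEssential p A) {d : MulAut P} (hd : d ∈ F.autGroup P) (hdt : d * D.t = D.t * d) :
    ∃ β ∈ F.autGroup S, ∀ (z : Ω) (hz : z ∈ S ⊓ Subgroup.centralizer (S : Set Ω)),
      ((β ⟨z, hz.1⟩ : S) : Ω) = ((d ⟨z, D.center_le hz⟩ : P) : Ω) := by
  have hRec := saturated_fn_receptive hS F hF D.ess.2.1
  have hφ : equivHom (d : P ≃* P) ∈ F.Hom P := (mem_autGroup_iff F D.le d).mp hd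
  obtain ⟨ψ, hψ, hψφ⟩ := hRec.2 P (equivHom (d : P ≃* P)) hφ (equivHom_range _)
  have hyS : y ∈ S := h.le D.yA
  have hyN : y ∈ extender S P (equivHom (d : P ≃* P)) := by
    rw [mem_extender_iff]
    refine ⟨hyS, D.yN, y, hyS, fun w hw => ?_⟩
    have h1 : d (D.t w) = D.t (d w) := by
      have := congrArg (fun σ : MulAut P => σ w) hdt
      exact this
    have h2 : (⟨y * (w : Ω) * y⁻¹, hw⟩ : P) = D.t w := rfl
    rw [h2]
    show ((d (D.t w) : P) : Ω) = y * ((d w : P) : Ω) * y⁻¹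
    rw [h1]
    rfl
  have hPN : P ≤ extender S P (equivHom (d : P ≃* P)) := le_extender D.le _ (hom_apply_mem F hφ)
  have hNS : extender S P (equivHom (d : P ≃* P)) ≤ S := (extender_le S P _).trans (normalizerIn_le S P)
  have hfinN : Finite ↥(extender S P (equivHom (d : P ≃* P))) := finite_of_le hNS
  have hcN : F.IsCentric (extender S P (equivHom (d : P ≃* P))) := isCentric_of_le F D.ess.1 hPN hNS
  have hcardP : Nat.card P = p * Nat.card ↥(S ⊓ Subgroup.centralizer (S : Set Ω)) := by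
    rw [h.card_of_inf_eq D.le D.xP D.xA, D.inf]
  have hn : p * Nat.card ↥(S ⊓ Subgroup.centralizer (S : Set Ω)) <
      Nat.card ↥(extender S P (equivHom (d : P ≃* P))) := by
    rw [← hcardP]
    by_contra hnot
    push Not at hnot
    have := Subgroup.eq_of_le_of_card_ge hPN hnot
    exact D.yP (this ▸ hyN)
  obtain ⟨β, hβ, hβψ⟩ := exists_aut_of_hom_zsys hS F hF _ (oliver_hK hS F hF h hAe) hψ hcN hn
  refine ⟨β, hβ, fun z hz => ?_⟩
  have hzP : z ∈ P := D.center_le hz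
  rw [← hβψ z hz (hPN hzP), hψφ z hzP (hPN hzP)]
  rfl

theorem subsingleton_or_center_ne_bot [Finite S] [Fact p.Prime] (hS : IsPGroup p S)
    (hna : ¬ IsMulCommutative ↥S) : S ⊓ Subgroup.centralizer (S : Set Ω) ≠ ⊥ := by
  intro hbot
  have hnt : Nontrivial ↥S := by
    by_contra hcon
    rw [not_nontrivial_iff_subsingleton] at hcon
    exact hna ⟨⟨fun a b => Subsingleton.elim _ _⟩⟩
  have := hS.center_nontrivial
  obtain ⟨z, hz⟩ := exists_ne (1 : Subgroup.center ↥S)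
  apply hz
  have h1 : ((z : S) : Ω) ∈ S ⊓ Subgroup.centralizer (S : Set Ω) := (mem_center_iff_coe _).mp z.2
  rw [hbot, Subgroup.mem_bot] at h1
  exact Subtype.ext (Subtype.ext h1)

/-- If the centre of `P` is `Z(S)`, every automorphism of `P` preserves `Z(S)`. -/
theorem map_center_subgroupOf {P : Subgroup Ω} (hPS : P ≤ S)
    (_hZP : S ⊓ Subgroup.centralizer (S : Set Ω) ≤ P)
    (hcenP : ∀ q ∈ P, (∀ r ∈ P, r * q = q * r) → q ∈ S ⊓ Subgroup.centralizer (S : Set Ω)) (α : MulAut P) :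
    ((S ⊓ Subgroup.centralizer (S : Set Ω)).subgroupOf P).map α.toMonoidHom =
      (S ⊓ Subgroup.centralizer (S : Set Ω)).subgroupOf P := by
  have heq : (S ⊓ Subgroup.centralizer (S : Set Ω)).subgroupOf P = Subgroup.center ↥P := by
    ext w
    rw [Subgroup.mem_subgroupOf, Subgroup.mem_center_iff]
    constructor
    · intro hw r
      exact Subtype.ext ((mem_inf_centralizer_iff.mp hw).2 r (hPS r.2))
    · intro hw
      exact hcenP w w.2 (fun r hr => congrArg Subtype.val (hw ⟨r, hr⟩))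
  rw [heq]
  exact (Subgroup.characteristic_iff_map_eq.mp inferInstance) α

/-- Some subgroup `Z(S)⟨x⟩` is essential. -/
theorem exists_hData [Finite S] [Fact p.Prime] (hS : IsPGroup p S) (F : FusionSystem S) (hF : F.IsSaturated p)
    (h : IdxP p S A) (hna : ¬ IsMulCommutative ↥S) (hAe : ¬ F.IsEssential p A) (hcore : F.core = ⊥) :
    ∃ (P : Subgroup Ω) (x y : Ω), HData p F A P x y := by
  by_contra hno
  push Not at hno
  have hZA : S ⊓ Subgroup.centralizer (S : Set Ω) ≤ A := h.center_le hna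
  have hnorm : F.IsNormal (S ⊓ Subgroup.centralizer (S : Set Ω)) := by
    apply isNormal_of_forall_aut hS F hF
    intro P hP
    rcases hP with rfl | hP
    · refine ⟨inf_le_left, fun α _ => ?_⟩
      apply map_center_subgroupOf le_rfl inf_le_left
      intro q hq hqc
      exact mem_inf_centralizer_iff.mpr ⟨hq, hqc⟩
    · have hPS : P ≤ S := hP.1.1
      have hZP := center_le_of_isCentric F hP.1
      refine ⟨hZP, fun α _ => ?_⟩
      obtain ⟨x, hxP, hxA⟩ := exists_not_mem_of_essential F h hAe hP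
      have hne : P ⊓ A ≠ S ⊓ Subgroup.centralizer (S : Set Ω) := by
        intro heq
        obtain ⟨y, hyA, hyN, hyP⟩ := oliver_exists_a hS F hF h hP hxP hxA
        exact hno P x y ⟨hP, hxP, hxA, heq, hyA, hyN, hyP⟩
      have hex : ∃ a ∈ P, a ∈ A ∧ a ∉ S ⊓ Subgroup.centralizer (S : Set Ω) := by
        by_contra hcon
        push Not at hcon
        exact hne (le_antisymm (fun a ha => hcon a ha.1 ha.2) (le_inf hZP hZA))
      obtain ⟨a, haP, haA, haZ⟩ := hex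
      apply map_center_subgroupOf hPS hZP
      intro q hq hqc
      exact h.mem_center_of_central hPS hxP hxA haP haA haZ hq hqc
  have hle : S ⊓ Subgroup.centralizer (S : Set Ω) ≤ F.core := le_sSup hnorm
  rw [hcore, le_bot_iff] at hle
  exact subsingleton_or_center_ne_bot hS hna hle


/-- All commutators `[y', s]` with `y'` a `Y`-element lie in the group generated by `z₀ = [y₀, x₀]`. -/
theorem HData.comm_mem_W [Finite S] [Fact p.Prime] {F : FusionSystem S} {P₀ : Subgroup Ω} {x₀ y₀ : Ω}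
    (D₀ : HData p F A P₀ x₀ y₀) (hS : IsPGroup p S) (h : IdxP p S A) (hna : ¬ IsMulCommutative ↥S)
    {y' : Ω} (hy' : IsYElt S A y') {s : Ω} (hs : s ∈ S) :
    y' * s * y'⁻¹ * s⁻¹ ∈ Subgroup.zpowers (y₀ * x₀ * y₀⁻¹ * x₀⁻¹) := by
  have hy'N := hy'.mem_normalizer h D₀.le D₀.center_le
  obtain ⟨i, hi⟩ := oliver_T hS F h D₀.ess D₀.xP D₀.xA D₀.yA D₀.yN hy'.1 hy'N D₀.yP
  have hiA : y' * (y₀ ^ i)⁻¹ ∈ A := A.mul_mem hy'.1 (A.inv_mem (A.pow_mem D₀.yA i))
  have hiZ : y' * (y₀ ^ i)⁻¹ ∈ S ⊓ Subgroup.centralizer (S : Set Ω) := by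
    rw [← D₀.inf]
    exact Subgroup.mem_inf.mpr ⟨hi, hiA⟩
  rw [IsYElt.comm_of_mul_pow_inv_mem h hna (D₀.isYElt h) hiZ hs]
  exact Subgroup.pow_mem _ ((D₀.isYElt h).comm_mem_zpowers h (D₀.le D₀.xP) D₀.xA hs) i

/-- Every automorphism of `S` preserves `A`. -/
theorem aut_mem_A [Finite S] (h : IdxP p S A)
    (huniq : ∀ B : Subgroup Ω, B ≤ S → IsMulCommutative ↥B → (B.subgroupOf S).index = p → B = A)
    (α : MulAut S) {a : Ω} (ha : a ∈ A) : ((α ⟨a, h.le ha⟩ : S) : Ω) ∈ A := by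
  obtain ⟨B, hB⟩ : ∃ B : Subgroup Ω, B = ((A.subgroupOf S).map α.toMonoidHom).map S.subtype := ⟨_, rfl⟩
  have hBS : B ≤ S := by
    rw [hB]
    rintro _ ⟨s, -, rfl⟩
    exact s.2
  have hmem : ∀ b ∈ B, ∃ a' : S, (a' : Ω) ∈ A ∧ ((α a' : S) : Ω) = b := by
    intro b hb
    rw [hB] at hb
    obtain ⟨s, ⟨a', ha', rfl⟩, rfl⟩ := hb
    exact ⟨a', Subgroup.mem_subgroupOf.mp ha', rfl⟩
  have hBc : IsMulCommutative ↥B := by
    refine ⟨⟨fun b₁ b₂ => Subtype.ext ?_⟩⟩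
    obtain ⟨a₁, ha₁, h1⟩ := hmem b₁ b₁.2
    obtain ⟨a₂, ha₂, h2⟩ := hmem b₂ b₂.2
    show (b₁ : Ω) * (b₂ : Ω) = (b₂ : Ω) * (b₁ : Ω)
    rw [← h1, ← h2]
    have h3 : a₁ * a₂ = a₂ * a₁ := Subtype.ext (h.comm _ ha₁ _ ha₂)
    have h4 := congrArg (fun u : S => ((α u : S) : Ω)) h3
    simpa using h4
  have hidx : (B.subgroupOf S).index = p := by
    have e : B.subgroupOf S = (A.subgroupOf S).map α.toMonoidHom := by
      rw [hB]
      exact Subgroup.comap_map_eq_self_of_injective (Subgroup.subtype_injective S) _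
    rw [e]
    have := Subgroup.index_map_equiv (A.subgroupOf S) α
    rw [← h.index_eq, ← this]
    rfl
  have hBA := huniq B hBS hBc hidx
  have hmemB : ((α ⟨a, h.le ha⟩ : S) : Ω) ∈ B := by
    rw [hB]
    exact ⟨α ⟨a, h.le ha⟩, ⟨⟨a, h.le ha⟩, Subgroup.mem_subgroupOf.mpr ha, rfl⟩, rfl⟩
  exact hBA ▸ hmemB

/-- Automorphisms of `S` send `Y`-elements to `Y`-elements. -/
theorem IsYElt.map_aut [Finite S] (h : IdxP p S A)
    (huniq : ∀ B : Subgroup Ω, B ≤ S → IsMulCommutative ↥B → (B.subgroupOf S).index = p → B = A)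
    (α : MulAut S) {y : Ω} (hy : IsYElt S A y) : IsYElt S A ((α ⟨y, h.le hy.1⟩ : S) : Ω) := by
  refine ⟨aut_mem_A h huniq α hy.1, fun s hs => ?_⟩
  obtain ⟨s', hs'⟩ : ∃ s' : S, α s' = ⟨s, hs⟩ := ⟨α⁻¹ ⟨s, hs⟩, MulAut.apply_inv_self _ _ _⟩
  have hc := hy.2 s' s'.2
  have h1 := aut_center_mem_ol α hc
  have h2 : (⟨y * (s' : Ω) * y⁻¹ * (s' : Ω)⁻¹, hc.1⟩ : S) = ⟨y, h.le hy.1⟩ * s' * ⟨y, h.le hy.1⟩⁻¹ * s'⁻¹ := rfl
  rw [h2, map_mul, map_mul, map_mul, map_inv, map_inv, hs'] at h1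
  exact h1

/-- Automorphisms of `S` preserve the group generated by `z₀ = [y₀, x₀]`. -/
theorem HData.aut_mem_W [Finite S] [Fact p.Prime] {F : FusionSystem S} {P₀ : Subgroup Ω} {x₀ y₀ : Ω}
    (D₀ : HData p F A P₀ x₀ y₀) (hS : IsPGroup p S) (h : IdxP p S A) (hna : ¬ IsMulCommutative ↥S)
    (huniq : ∀ B : Subgroup Ω, B ≤ S → IsMulCommutative ↥B → (B.subgroupOf S).index = p → B = A)
    (α : MulAut S) (u : S) (hu : (u : Ω) ∈ Subgroup.zpowers (y₀ * x₀ * y₀⁻¹ * x₀⁻¹)) :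
    ((α u : S) : Ω) ∈ Subgroup.zpowers (y₀ * x₀ * y₀⁻¹ * x₀⁻¹) := by
  obtain ⟨k, hk⟩ := Subgroup.mem_zpowers_iff.mp hu
  have hy₀S : y₀ ∈ S := h.le D₀.yA
  have hx₀S : x₀ ∈ S := D₀.le D₀.xP
  have e : u = (⟨y₀, hy₀S⟩ * ⟨x₀, hx₀S⟩ * ⟨y₀, hy₀S⟩⁻¹ * ⟨x₀, hx₀S⟩⁻¹ : S) ^ k := by
    apply Subtype.ext
    rw [← hk]
    rfl
  rw [e, map_zpow, map_mul, map_mul, map_mul, map_inv, map_inv]
  apply Subgroup.zpow_mem
  exact D₀.comm_mem_W hS h hna (IsYElt.map_aut h huniq α (D₀.isYElt h)) (α ⟨x₀, hx₀S⟩).2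

end OliverJ

end Cfsg.Agent.Lib.Helper26
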