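import Mathlib
import Cfsg.Agent.Lib.Helper1.SuzukiMaxClass
import Cfsg.Agent.Lib.Helper12.Cores
import Cfsg.Agent.Lib.Helper4.Basic
import Cfsg.Agent.Lib.Helper26.OrderP4B

/-!
`p`-groups with an abelian subgroup `A` of index `p`: the commutator endomorphism `a ↦ ⁅a, x⁆` of `A`
and its consequences (abstract group version).
-/

set_option autoImplicit false
set_option linter.unusedSectionVars false
universe u

namespace Cfsg.Agent.Lib.Helper26.OL

open Cfsg
open scoped commutatorElement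

variable {H : Type u} [Group H]

/-- `A` is an abelian normal subgroup, `x ∉ A`, and every element is of the form `a * x ^ i`. -/
structure Cfg (A : Subgroup H) (x : H) : Prop where
  comm : ∀ a ∈ A, ∀ b ∈ A, a * b = b * a
  normal : ∀ g : H, ∀ a ∈ A, g * a * g⁻¹ ∈ A
  hx : x ∉ A
  gen : ∀ g : H, ∃ i : ℕ, g * (x ^ i)⁻¹ ∈ A

namespace Cfg

variable {A : Subgroup H} {x : H}

theorem comm_pow (c : Cfg A x) {a : H} (ha : a * x = x * a) (i : ℕ) : a * x ^ i = x ^ i * a :=
  (Commute.pow_right (show Commute a x from ha) i)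

/-- An element of `A` commuting with `x` is central. -/
theorem mem_center (c : Cfg A x) {a : H} (ha : a ∈ A) (hax : a * x = x * a) : a ∈ Subgroup.center H := by
  rw [Subgroup.mem_center_iff]
  intro g
  obtain ⟨i, hi⟩ := c.gen g
  have hg : g = (g * (x ^ i)⁻¹) * x ^ i := by group
  rw [hg]
  have h1 := c.comm _ hi _ ha
  have h2 := c.comm_pow hax i
  calc g * (x ^ i)⁻¹ * x ^ i * a = g * (x ^ i)⁻¹ * (x ^ i * a) := by group
    _ = g * (x ^ i)⁻¹ * (a * x ^ i) := by rw [h2]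
    _ = (g * (x ^ i)⁻¹ * a) * x ^ i := by group
    _ = (a * (g * (x ^ i)⁻¹)) * x ^ i := by rw [h1]
    _ = a * (g * (x ^ i)⁻¹ * x ^ i) := by group

theorem comm_mem (c : Cfg A x) {a : H} (ha : a ∈ A) (g : H) : ⁅a, g⁆ ∈ A := by
  rw [commutatorElement_def]
  have h1 : g * a⁻¹ * g⁻¹ ∈ A := c.normal g _ (A.inv_mem ha)
  have : a * g * a⁻¹ * g⁻¹ = a * (g * a⁻¹ * g⁻¹) := by group
  rw [this]
  exact A.mul_mem ha h1

/-- The commutator endomorphism of `A`. -/
def delta (c : Cfg A x) : A →* A :=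
  MonoidHom.mk' (fun a => ⟨⁅(a : H), x⁆, c.comm_mem a.2 x⟩) (by
    intro a b
    apply Subtype.ext
    show ⁅(a : H) * b, x⁆ = ⁅(a : H), x⁆ * ⁅(b : H), x⁆
    have h1 : x * (a : H)⁻¹ * x⁻¹ ∈ A := c.normal x _ (A.inv_mem a.2)
    have h2 := c.comm _ h1 _ b.2
    simp only [commutatorElement_def]
    calc (a : H) * b * x * ((a : H) * b)⁻¹ * x⁻¹
        = (a : H) * b * x * ((b : H) * a)⁻¹ * x⁻¹ := by rw [c.comm _ a.2 _ b.2]
      _ = (a : H) * ((b : H) * (x * (a : H)⁻¹ * x⁻¹)) * (x * (b : H)⁻¹ * x⁻¹) := by group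
      _ = (a : H) * ((x * (a : H)⁻¹ * x⁻¹) * b) * (x * (b : H)⁻¹ * x⁻¹) := by rw [h2]
      _ = (a : H) * x * (a : H)⁻¹ * x⁻¹ * ((b : H) * x * (b : H)⁻¹ * x⁻¹) := by group)

@[simp] theorem delta_coe (c : Cfg A x) (a : A) : ((c.delta a : A) : H) = ⁅(a : H), x⁆ := rfl

theorem mem_ker_delta (c : Cfg A x) (a : A) : a ∈ c.delta.ker ↔ (a : H) ∈ Subgroup.center H := by
  rw [MonoidHom.mem_ker]
  constructor
  · intro h
    have h1 : ⁅(a : H), x⁆ = 1 := by
      have := congrArg Subtype.val h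
      simpa using this
    exact c.mem_center a.2 (commutatorElement_eq_one_iff_mul_comm.mp h1)
  · intro h
    apply Subtype.ext
    show ⁅(a : H), x⁆ = 1
    rw [commutatorElement_eq_one_iff_mul_comm]
    exact (Subgroup.mem_center_iff.mp h x).symm

theorem ker_delta (c : Cfg A x) : c.delta.ker = (Subgroup.center H).subgroupOf A := by
  ext a
  rw [mem_ker_delta, Subgroup.mem_subgroupOf]

/-- conjugating a value of `delta` by `x` -/
theorem conj_delta (c : Cfg A x) (a : A) :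
    x * ⁅(a : H), x⁆ * x⁻¹ = ⁅x * (a : H) * x⁻¹, x⁆ := by
  simp only [commutatorElement_def]; group

theorem comm_pow_mem_range (c : Cfg A x) (i : ℕ) :
    ∀ a : A, ∃ b : A, ⁅(a : H), x ^ i⁆ = ((c.delta b : A) : H) := by
  induction i with
  | zero =>
    intro a
    exact ⟨1, by simp⟩
  | succ i ih =>
    intro a
    obtain ⟨b, hb⟩ := ih a
    have h1 : ⁅(a : H), x ^ (i + 1)⁆ = ⁅(a : H), x⁆ * (x * ⁅(a : H), x ^ i⁆ * x⁻¹) := by
      simp only [commutatorElement_def, pow_succ']; group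
    have hb' : x * (b : H) * x⁻¹ ∈ A := c.normal x _ b.2
    refine ⟨a * ⟨x * (b : H) * x⁻¹, hb'⟩, ?_⟩
    rw [h1, hb, map_mul, Subgroup.coe_mul, delta_coe, delta_coe, delta_coe, c.conj_delta]

/-- Every commutator lies in the image of `delta`. -/
theorem commutator_mem_range (c : Cfg A x) (g h : H) : ∃ b : A, ⁅g, h⁆ = ((c.delta b : A) : H) := by
  obtain ⟨i, hi⟩ := c.gen g
  obtain ⟨j, hj⟩ := c.gen h
  set a : H := g * (x ^ i)⁻¹ with ha
  set b : H := h * (x ^ j)⁻¹ with hb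
  have hg : g = a * x ^ i := by rw [ha]; group
  have hh : h = b * x ^ j := by rw [hb]; group
  have h1 : x ^ i * b * (x ^ i)⁻¹ ∈ A := c.normal _ _ hj
  have h2 : x ^ j * a⁻¹ * (x ^ j)⁻¹ ∈ A := c.normal _ _ (A.inv_mem hi)
  have e : ⁅g, h⁆ = ⁅a, x ^ j⁆ * (⁅b, x ^ i⁆)⁻¹ := by
    rw [hg, hh]
    simp only [commutatorElement_def]
    have hxx : x ^ i * x ^ j = x ^ j * x ^ i := (Commute.pow_pow (Commute.refl x) i j)
    calc a * x ^ i * (b * x ^ j) * (a * x ^ i)⁻¹ * (b * x ^ j)⁻¹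
        = a * (x ^ i * b * (x ^ i)⁻¹) * ((x ^ i * x ^ j) * (x ^ i)⁻¹ * a⁻¹ * (x ^ j)⁻¹) * b⁻¹ := by group
      _ = a * (x ^ i * b * (x ^ i)⁻¹) * ((x ^ j * x ^ i) * (x ^ i)⁻¹ * a⁻¹ * (x ^ j)⁻¹) * b⁻¹ := by rw [hxx]
      _ = a * ((x ^ i * b * (x ^ i)⁻¹) * (x ^ j * a⁻¹ * (x ^ j)⁻¹)) * b⁻¹ := by group
      _ = a * ((x ^ j * a⁻¹ * (x ^ j)⁻¹) * (x ^ i * b * (x ^ i)⁻¹)) * b⁻¹ := by rw [c.comm _ h1 _ h2]
      _ = a * x ^ j * a⁻¹ * (x ^ j)⁻¹ * (b * x ^ i * b⁻¹ * (x ^ i)⁻¹)⁻¹ := by group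
  obtain ⟨b₁, hb₁⟩ := c.comm_pow_mem_range j ⟨a, hi⟩
  obtain ⟨b₂, hb₂⟩ := c.comm_pow_mem_range i ⟨b, hj⟩
  refine ⟨b₁ * b₂⁻¹, ?_⟩
  rw [e, map_mul, map_inv, Subgroup.coe_mul, Subgroup.coe_inv, ← hb₁, ← hb₂]

theorem range_delta (c : Cfg A x) : c.delta.range.map A.subtype = commutator H := by
  apply le_antisymm
  · rintro _ ⟨_, ⟨a, rfl⟩, rfl⟩
    rw [commutator_def]
    exact Subgroup.commutator_mem_commutator (Subgroup.mem_top _) (Subgroup.mem_top _)
  · rw [commutator_def, Subgroup.commutator_le]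
    intro g _ h _
    obtain ⟨b, hb⟩ := c.commutator_mem_range g h
    exact ⟨c.delta b, ⟨b, rfl⟩, hb.symm⟩

/-- `⁅a, x ^ i⁆` is central when `⁅a, x⁆` is. -/
theorem comm_pow_mem_center (c : Cfg A x) {a : H} (h : ⁅a, x⁆ ∈ Subgroup.center H) (i : ℕ) :
    ⁅a, x ^ i⁆ ∈ Subgroup.center H := by
  induction i with
  | zero => simp
  | succ i ih =>
    have h1 : ⁅a, x ^ (i + 1)⁆ = ⁅a, x⁆ * (x * ⁅a, x ^ i⁆ * x⁻¹) := by
      simp only [commutatorElement_def, pow_succ']; group
    have h2 : x * ⁅a, x ^ i⁆ * x⁻¹ = ⁅a, x ^ i⁆ := by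
      rw [Subgroup.mem_center_iff.mp ih x]; group
    rw [h1, h2]
    exact Subgroup.mul_mem _ h ih

/-- Membership of an element of `A` in the second centre. -/
theorem mem_ucs2_iff_of_mem (c : Cfg A x) {a : H} (ha : a ∈ A) :
    a ∈ Subgroup.upperCentralSeries H 2 ↔ ⁅a, x⁆ ∈ Subgroup.center H := by
  rw [mem_ucs2_iff]
  constructor
  · intro h
    have h1 := h x
    have e : ⁅a, x⁆ = ⁅x, a⁆⁻¹ := by simp only [commutatorElement_def]; group
    rw [e]
    exact Subgroup.inv_mem _ h1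
  · intro h g
    obtain ⟨i, hi⟩ := c.gen g
    set b : H := g * (x ^ i)⁻¹ with hb
    have hg : g = b * x ^ i := by rw [hb]; group
    have h1 : x ^ i * a * (x ^ i)⁻¹ ∈ A := c.normal _ _ ha
    have e : ⁅g, a⁆ = (⁅a, x ^ i⁆)⁻¹ := by
      rw [hg]
      simp only [commutatorElement_def]
      calc b * x ^ i * a * (b * x ^ i)⁻¹ * a⁻¹
          = b * (x ^ i * a * (x ^ i)⁻¹) * b⁻¹ * a⁻¹ := by group
        _ = (x ^ i * a * (x ^ i)⁻¹) * b * b⁻¹ * a⁻¹ := by rw [c.comm _ hi _ h1]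
        _ = (a * x ^ i * a⁻¹ * (x ^ i)⁻¹)⁻¹ := by group
    rw [e]
    exact Subgroup.inv_mem _ (c.comm_pow_mem_center h i)

section Fin

variable [Finite H] {p : ℕ} [Fact p.Prime]

theorem card_eq (c : Cfg A x) (hZA : Subgroup.center H ≤ A) :
    Nat.card A = Nat.card (Subgroup.center H) * Nat.card (commutator H) := by
  have h1 := card_ker_mul_card_range c.delta
  rw [c.ker_delta] at h1
  have h2 : Nat.card ((Subgroup.center H).subgroupOf A) = Nat.card (Subgroup.center H) :=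
    Nat.card_congr (Subgroup.subgroupOfEquivOfLe hZA).toEquiv
  have h3 : Nat.card c.delta.range = Nat.card (commutator H) := by
    rw [← c.range_delta, Subgroup.card_map_of_injective A.subtype_injective]
  rw [h2, h3] at h1
  exact h1.symm

theorem card_ucs2 (c : Cfg A x) (hZ2A : Subgroup.upperCentralSeries H 2 ≤ A) :
    Nat.card (Subgroup.upperCentralSeries H 2) =
      Nat.card (Subgroup.center H) * Nat.card (Subgroup.center H ⊓ commutator H : Subgroup H) := by
  set K : Subgroup A := (Subgroup.upperCentralSeries H 2).subgroupOf A with hK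
  set g : K →* A := c.delta.comp K.subtype with hg
  have h1 := card_ker_mul_card_range g
  have hKc : Nat.card K = Nat.card (Subgroup.upperCentralSeries H 2) :=
    Nat.card_congr (Subgroup.subgroupOfEquivOfLe hZ2A).toEquiv
  have hker : (g.ker.map K.subtype).map A.subtype = Subgroup.center H := by
    ext y
    constructor
    · rintro ⟨_, ⟨k, hk, rfl⟩, rfl⟩
      have : c.delta (k : A) = 1 := hk
      exact (c.mem_ker_delta (k : A)).mp this
    · intro hy
      have hyA : y ∈ A := hZ2A (center_le_ucs2 hy)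
      have hyK : (⟨y, hyA⟩ : A) ∈ K := by
        rw [hK, Subgroup.mem_subgroupOf]
        exact center_le_ucs2 hy
      refine ⟨⟨y, hyA⟩, ⟨⟨⟨y, hyA⟩, hyK⟩, ?_, rfl⟩, rfl⟩
      show c.delta ⟨y, hyA⟩ = 1
      exact (c.mem_ker_delta ⟨y, hyA⟩).mpr hy
  have hrange : g.range.map A.subtype = Subgroup.center H ⊓ commutator H := by
    ext y
    constructor
    · rintro ⟨_, ⟨k, rfl⟩, rfl⟩
      have hk : ((k : A) : H) ∈ Subgroup.upperCentralSeries H 2 :=
        Subgroup.mem_subgroupOf.mp k.2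
      refine ⟨?_, ?_⟩
      · exact (c.mem_ucs2_iff_of_mem (k : A).2).mp hk
      · rw [← c.range_delta]
        exact ⟨c.delta (k : A), ⟨(k : A), rfl⟩, rfl⟩
    · rintro ⟨hy1, hy2⟩
      rw [← c.range_delta] at hy2
      obtain ⟨_, ⟨a, rfl⟩, rfl⟩ := hy2
      have haK : a ∈ K := by
        rw [hK, Subgroup.mem_subgroupOf]
        exact (c.mem_ucs2_iff_of_mem a.2).mpr hy1
      exact ⟨c.delta a, ⟨⟨a, haK⟩, rfl⟩, rfl⟩
  have h2 : Nat.card g.ker = Nat.card (Subgroup.center H) := by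
    rw [← hker, Subgroup.card_map_of_injective A.subtype_injective,
      Subgroup.card_map_of_injective K.subtype_injective]
  have h3 : Nat.card g.range = Nat.card (Subgroup.center H ⊓ commutator H : Subgroup H) := by
    rw [← hrange, Subgroup.card_map_of_injective A.subtype_injective]
  rw [h2, h3, hKc] at h1
  exact h1.symm

/-- `H / Z(H)` has maximal class when `|Z₂ : Z| = p` and `Z₂ ≤ A`. -/
theorem not_lcs_le_center (c : Cfg A x) (hH : IsPGroup p H) (hidx : A.index = p)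
    (hZ2A : Subgroup.upperCentralSeries H 2 ≤ A)
    (hZ2 : Nat.card (Subgroup.upperCentralSeries H 2) = p * Nat.card (Subgroup.center H))
    (m : ℕ) (hm : (Subgroup.center H).index = p ^ m) (h3 : 3 ≤ m) :
    ¬ Subgroup.lowerCentralSeries (⊤ : Subgroup H) (m - 2) ≤ Subgroup.center H := by
  have hpp : p.Prime := Fact.out
  have hAn : A.Normal := ⟨fun a ha g => c.normal g a ha⟩
  set π := QuotientGroup.mk' (Subgroup.center H) with hπ
  set B : Subgroup (H ⧸ Subgroup.center H) := Subgroup.centralizer {π x} with hB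
  set T : Subgroup H := B.comap π with hT
  have hmemT : ∀ s : H, s ∈ T ↔ ⁅s, x⁆ ∈ Subgroup.center H := by
    intro s
    rw [hT, Subgroup.mem_comap, hB, mem_centralizer_singleton_iff,
      ← commutatorElement_eq_one_iff_mul_comm, ← map_commutatorElement, hπ, QuotientGroup.mk'_apply,
      QuotientGroup.eq_one_iff]
  have hxT : x ∈ T := (hmemT x).mpr (by rw [commutatorElement_self]; exact one_mem _)
  have hTA : A ⊓ T = Subgroup.upperCentralSeries H 2 := by
    ext s
    rw [Subgroup.mem_inf, hmemT]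
    constructor
    · rintro ⟨hsA, hs⟩
      exact (c.mem_ucs2_iff_of_mem hsA).mpr hs
    · intro hs
      exact ⟨hZ2A hs, (c.mem_ucs2_iff_of_mem (hZ2A hs)).mp hs⟩
  have hrel : A.relIndex T = p := by
    have h1 : A.relIndex T ∣ A.index := Subgroup.relIndex_dvd_index_of_normal A T
    rw [hidx] at h1
    rcases (Nat.dvd_prime hpp).mp h1 with h | h
    · exfalso
      exact c.hx (Subgroup.relIndex_eq_one.mp h hxT)
    · exact h
  have hcardT : Nat.card T = p * Nat.card (Subgroup.upperCentralSeries H 2) := by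
    have h1 := Cfsg.Agent.Lib.Helper4.card_mul_relIndex (inf_le_right : A ⊓ T ≤ T)
    rw [Subgroup.inf_relIndex_right, hrel, hTA] at h1
    rw [← h1, mul_comm]
  have hcardB : Nat.card B = p ^ 2 := by
    have h1 := Cfsg.Agent.Lib.Helper12.card_comap_mk' (Subgroup.center H) B
    rw [← hπ, ← hT, hcardT, hZ2] at h1
    have hpos : 0 < Nat.card (Subgroup.center H) := Nat.card_pos
    have h2 : Nat.card (Subgroup.center H) * (p * p) = Nat.card (Subgroup.center H) * Nat.card B := by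
      rw [← h1]; ring
    rw [pow_two]
    exact (Nat.eq_of_mul_eq_mul_left hpos h2).symm
  have hQcard : Nat.card (H ⧸ Subgroup.center H) = p ^ m := hm
  have hcl := Cfsg.Agent.Lib.Helper1.nilpotencyClass_of_selfCentralizing (p := p) m
    (H ⧸ Subgroup.center H) hQcard (Or.inl ⟨B, hcardB, by
      intro y hy
      rw [hB, mem_centralizer_singleton_iff]
      have hx' : π x ∈ (B : Set (H ⧸ Subgroup.center H)) := by
        show π x ∈ B
        rw [hB, mem_centralizer_singleton_iff]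
      exact (Subgroup.mem_centralizer_iff.mp hy (π x) hx').symm⟩)
  intro hle
  have hQ : IsPGroup p (H ⧸ Subgroup.center H) := hH.to_quotient _
  have hnil : Group.IsNilpotent (H ⧸ Subgroup.center H) := hQ.isNilpotent
  have h1 : Subgroup.lowerCentralSeries (⊤ : Subgroup (H ⧸ Subgroup.center H)) (m - 2) = ⊥ := by
    have := Subgroup.map_lowerCentralSeries (⊤ : Subgroup H) π (m - 2)
    rw [Subgroup.map_top_of_surjective π (QuotientGroup.mk'_surjective _)] at this
    rw [← this, eq_bot_iff]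
    rintro _ ⟨y, hy, rfl⟩
    rw [Subgroup.mem_bot, hπ, QuotientGroup.mk'_apply, QuotientGroup.eq_one_iff]
    exact hle hy
  have h2 := Subgroup.lowerCentralSeries_eq_bot_iff_nilpotencyClass_le.mp h1
  omega

end Fin

end Cfg

end Cfsg.Agent.Lib.Helper26.OL
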