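import Cfsg.Agent.Lib.Helper26.OliverC
import Cfsg.Agent.Lib.Helper26.OliverL

/-!
Oliver's lemma, second part: when some essential subgroup is different from `A`, the second centre has order
`p |Z(S)|` and lies in `A`.
-/

set_option autoImplicit false
set_option linter.unusedSectionVars false
set_option linter.unusedVariables false
universe u

namespace Cfsg.Agent.Lib.Helper26.OLM

open Cfsg Cfsg.FusionSystem
open scoped commutatorElement

section OliverE

variable {Ω : Type u} [Group Ω] {S A : Subgroup Ω} {p : ℕ}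

theorem mem_center_iff_coe (c : S) :
    c ∈ Subgroup.center ↥S ↔ (c : Ω) ∈ S ⊓ Subgroup.centralizer (S : Set Ω) := by
  rw [Subgroup.mem_center_iff, mem_inf_centralizer_iff]
  constructor
  · intro hz
    exact ⟨c.2, fun s hs => congrArg Subtype.val (hz ⟨s, hs⟩)⟩
  · intro hz s
    exact Subtype.ext (hz.2 s s.2)

theorem mem_map_subtype_iff {K : Subgroup ↥S} {a : Ω} (ha : a ∈ S) :
    a ∈ K.map S.subtype ↔ (⟨a, ha⟩ : S) ∈ K := by
  constructor
  · rintro ⟨y, hy, rfl⟩
    exact hy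
  · intro h
    exact ⟨⟨a, ha⟩, h, rfl⟩

theorem center_map_eq : (Subgroup.center ↥S).map S.subtype = S ⊓ Subgroup.centralizer (S : Set Ω) := by
  ext z
  constructor
  · rintro ⟨c, hc, rfl⟩
    exact (mem_center_iff_coe c).mp hc
  · intro hz
    exact ⟨⟨z, hz.1⟩, (mem_center_iff_coe _).mpr hz, rfl⟩

/-- The abstract configuration attached to `IdxP`. -/
theorem cfgOf (h : IdxP p S A) {x : Ω} (hxS : x ∈ S) (hxA : x ∉ A) :
    OL.Cfg (A.subgroupOf S) (⟨x, hxS⟩ : S) := by
  refine ⟨?_, ?_, ?_, ?_⟩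
  · intro a ha b hb
    rw [Subgroup.mem_subgroupOf] at ha hb
    exact Subtype.ext (h.comm _ ha _ hb)
  · intro g a ha
    rw [Subgroup.mem_subgroupOf] at ha ⊢
    exact h.normal g g.2 a ha
  · intro hx
    rw [Subgroup.mem_subgroupOf] at hx
    exact hxA hx
  · intro g
    obtain ⟨i, hi⟩ := h.exists_pow x hxS hxA g g.2
    exact ⟨i, by rw [Subgroup.mem_subgroupOf]; exact hi⟩

/-- Membership in the second centre for elements of `A`. -/
theorem mem_Z2_iff_of_mem' (h : IdxP p S A) {x : Ω} (hxS : x ∈ S) (hxA : x ∉ A) {a : Ω} (ha : a ∈ A) :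
    a ∈ (upperCentralSeries ↥S 2).map S.subtype ↔
      a * x * a⁻¹ * x⁻¹ ∈ S ⊓ Subgroup.centralizer (S : Set Ω) := by
  have c := cfgOf h hxS hxA
  have haS : a ∈ S := h.le ha
  rw [mem_map_subtype_iff haS]
  have ha' : (⟨a, haS⟩ : S) ∈ A.subgroupOf S := by rw [Subgroup.mem_subgroupOf]; exact ha
  show (⟨a, haS⟩ : S) ∈ Subgroup.upperCentralSeries ↥S 2 ↔ _
  rw [c.mem_ucs2_iff_of_mem ha', mem_center_iff_coe]
  rfl

theorem card_subgroupOf_eq_card_inf (A N : Subgroup Ω) :
    Nat.card (A.subgroupOf N) = Nat.card (A ⊓ N : Subgroup Ω) := by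
  rw [← Subgroup.subgroupOf_map_subtype, Subgroup.card_map_of_injective N.subtype_injective]

variable [Finite S] [Fact p.Prime]

/-- Uniqueness of `A` forces `Z₂(S) ≤ A` once `|Z₂(S) ∩ A : Z(S)| = p`. -/
theorem Z2_le_of_uniq (h : IdxP p S A) (hna : ¬ IsMulCommutative ↥S)
    (huniq : ∀ B : Subgroup Ω, B ≤ S → IsMulCommutative ↥B → (B.subgroupOf S).index = p → B = A)
    (hcard : Nat.card ((upperCentralSeries ↥S 2).map S.subtype ⊓ A : Subgroup Ω) =
      p * Nat.card (S ⊓ Subgroup.centralizer (S : Set Ω) : Subgroup Ω)) :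
    (upperCentralSeries ↥S 2).map S.subtype ≤ A := by
  have hpp : p.Prime := Fact.out
  by_contra hnot
  obtain ⟨y, hyZ2, hyA⟩ := SetLike.not_le_iff_exists.mp hnot
  obtain ⟨hyS, hyc⟩ := mem_Z2_iff.mp hyZ2
  obtain ⟨Z, hZ⟩ : ∃ Z : Subgroup Ω, Z = S ⊓ Subgroup.centralizer (S : Set Ω) := ⟨_, rfl⟩
  rw [← hZ] at hcard hyc
  have hZA : Z ≤ A := hZ ▸ h.center_le hna
  have hZc : ∀ z ∈ Z, ∀ s ∈ S, s * z = z * s := fun z hz => (mem_inf_centralizer_iff.mp (hZ ▸ hz)).2
  have hAZ2 : A ≤ (upperCentralSeries ↥S 2).map S.subtype := by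
    intro a ha
    rw [mem_Z2_iff_of_mem' h hyS hyA ha, ← hZ]
    have := hyc a (h.le ha)
    have e : a * y * a⁻¹ * y⁻¹ = (y * a * y⁻¹ * a⁻¹)⁻¹ := by group
    rw [e]
    exact Z.inv_mem this
  have hcardA : Nat.card A = p * Nat.card Z := by
    rw [← hcard, inf_eq_right.mpr hAZ2]
  obtain ⟨B, hB⟩ : ∃ B : Subgroup Ω, B = Z ⊔ Subgroup.zpowers y := ⟨_, rfl⟩
  have hZS : Z ≤ S := hZ ▸ inf_le_left
  have hfinZ : Finite Z := finite_of_le hZS
  have hBS : B ≤ S := hB ▸ sup_le hZS (Subgroup.zpowers_le.mpr hyS)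
  have hyB : y ∈ B := hB ▸ (le_sup_right : Subgroup.zpowers y ≤ _) (Subgroup.mem_zpowers y)
  have hZB : Z ≤ B := hB ▸ le_sup_left
  have hBy : ∀ b ∈ B, b * y = y * b := by
    have : B ≤ Subgroup.centralizer ({y} : Set Ω) := by
      rw [hB]
      apply sup_le
      · intro z hz
        rw [Subgroup.mem_centralizer_iff]
        intro w hw
        rw [Set.mem_singleton_iff] at hw
        subst hw
        exact hZc z hz w hyS
      · rw [Subgroup.zpowers_le, Subgroup.mem_centralizer_iff]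
        intro w hw
        rw [Set.mem_singleton_iff] at hw
        subst hw
        rfl
    intro b hb
    exact (Subgroup.mem_centralizer_iff.mp (this hb) y rfl).symm
  have hBc : ∀ u ∈ B, ∀ v ∈ B, u * v = v * u := by
    have : B ≤ Subgroup.centralizer (B : Set Ω) := by
      conv_lhs => rw [hB]
      apply sup_le
      · intro z hz
        rw [Subgroup.mem_centralizer_iff]
        intro b hb
        exact hZc z hz b (hBS hb)
      · rw [Subgroup.zpowers_le, Subgroup.mem_centralizer_iff]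
        intro b hb
        exact hBy b hb
    intro u hu v hv
    exact Subgroup.mem_centralizer_iff.mp (this hv) u hu
  have hBcomm : IsMulCommutative ↥B := ⟨⟨fun u v => Subtype.ext (hBc u u.2 v v.2)⟩⟩
  have hAB : A ⊓ B = Z := by
    apply le_antisymm
    · rintro a ⟨ha, hb⟩
      rw [hZ]
      exact h.mem_center hyS hyA ha (hBy a hb)
    · exact le_inf hZA hZB
  have hcardB : Nat.card B = p * Nat.card Z := by
    rw [h.card_subgroupOf hBS hyB hyA, card_subgroupOf_eq_card_inf, hAB]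
  have hidx : (B.subgroupOf S).index = p := by
    have h1 := Subgroup.card_mul_index (B.subgroupOf S)
    rw [Nat.card_congr (Subgroup.subgroupOfEquivOfLe hBS).toEquiv, h.card, hcardA, hcardB] at h1
    have hpos : 0 < p * Nat.card Z := Nat.mul_pos hpp.pos Nat.card_pos
    have h2 : p * Nat.card Z * (B.subgroupOf S).index = p * Nat.card Z * p := by
      rw [h1]; ring
    exact Nat.eq_of_mul_eq_mul_left hpos h2
  have := huniq B hBS hBcomm hidx
  exact hyA (this ▸ hyB)

/-- Case `P ∩ A = Z(S)`. -/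
theorem star_of_case_H (h : IdxP p S A) (hna : ¬ IsMulCommutative ↥S)
    (huniq : ∀ B : Subgroup Ω, B ≤ S → IsMulCommutative ↥B → (B.subgroupOf S).index = p → B = A)
    {P : Subgroup Ω} (hPS : P ≤ S) {x : Ω} (hxP : x ∈ P) (hxA : x ∉ A)
    (hshape : P ⊓ A = S ⊓ Subgroup.centralizer (S : Set Ω))
    (hidx : (P.subgroupOf (S ⊓ Subgroup.normalizer (P : Set Ω))).index = p) :
    (upperCentralSeries ↥S 2).map S.subtype ≤ A ∧
      Nat.card ((upperCentralSeries ↥S 2).map S.subtype) =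
        p * Nat.card (S ⊓ Subgroup.centralizer (S : Set Ω) : Subgroup Ω) := by
  have hpp : p.Prime := Fact.out
  obtain ⟨Z, hZ⟩ : ∃ Z : Subgroup Ω, Z = S ⊓ Subgroup.centralizer (S : Set Ω) := ⟨_, rfl⟩
  obtain ⟨N, hN⟩ : ∃ N : Subgroup Ω, N = S ⊓ Subgroup.normalizer (P : Set Ω) := ⟨_, rfl⟩
  rw [← hN] at hidx
  rw [← hZ] at hshape ⊢
  have hNS : N ≤ S := hN ▸ inf_le_left
  have hPN : P ≤ N := hN ▸ le_inf hPS Subgroup.le_normalizer
  have hfinP : Finite P := finite_of_le hPS
  have hfinN : Finite N := finite_of_le hNS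
  have hZP : Z ≤ P := by rw [← hshape]; exact inf_le_left
  have hNA : A ⊓ N = (upperCentralSeries ↥S 2).map S.subtype ⊓ A := by
    ext a
    rw [Subgroup.mem_inf, Subgroup.mem_inf]
    constructor
    · rintro ⟨ha, haN⟩
      refine ⟨?_, ha⟩
      rw [mem_Z2_iff_of_mem' h (hPS hxP) hxA ha, ← hZ, ← hshape]
      refine ⟨?_, h.comm_mem a (h.le ha) x (hPS hxP)⟩
      have haN' : a ∈ Subgroup.normalizer (P : Set Ω) := (hN ▸ haN : a ∈ S ⊓ _).2
      have := (Subgroup.mem_normalizer_iff.mp haN' x).mp hxP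
      exact P.mul_mem this (P.inv_mem hxP)
    · rintro ⟨haZ2, ha⟩
      refine ⟨ha, ?_⟩
      rw [hN]
      refine ⟨h.le ha, ?_⟩
      obtain ⟨-, hac⟩ := mem_Z2_iff.mp haZ2
      apply mem_normalizer_of_conj_mem_finite
      intro u hu
      have e : a * u * a⁻¹ = (a * u * a⁻¹ * u⁻¹) * u := by group
      rw [e]
      exact P.mul_mem (hZP (hZ ▸ hac u (hPS hu))) hu
  have hcardN : Nat.card N = p * Nat.card (A ⊓ N : Subgroup Ω) := by
    rw [h.card_subgroupOf hNS (hPN hxP) hxA, card_subgroupOf_eq_card_inf]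
  have hcardP : Nat.card P = p * Nat.card Z := by
    rw [h.card_subgroupOf hPS hxP hxA, card_subgroupOf_eq_card_inf, inf_comm, hshape]
  have hNP : Nat.card N = p * Nat.card P := by
    have h1 := Subgroup.card_mul_index (P.subgroupOf N)
    rw [Nat.card_congr (Subgroup.subgroupOfEquivOfLe hPN).toEquiv, hidx] at h1
    rw [← h1, mul_comm]
  have hcard : Nat.card ((upperCentralSeries ↥S 2).map S.subtype ⊓ A : Subgroup Ω) = p * Nat.card Z := by
    rw [← hNA, ← hcardP]
    rw [hNP] at hcardN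
    exact (Nat.eq_of_mul_eq_mul_left hpp.pos hcardN).symm
  have hle := Z2_le_of_uniq h hna huniq (hZ ▸ hcard)
  refine ⟨hle, ?_⟩
  rw [← hcard, inf_eq_left.mpr hle]

/-- Case `P ∩ A = Z₂(S)`. -/
theorem star_of_case_B (hS : IsPGroup p S) (F : FusionSystem S) (h : IdxP p S A)
    (hna : ¬ IsMulCommutative ↥S)
    {P : Subgroup Ω} (hP : F.IsEssential p P) {x : Ω} (hxP : x ∈ P) (hxA : x ∉ A)
    {a₁ : Ω} (ha₁ : a₁ ∈ A) (ha₁N : a₁ ∈ Subgroup.normalizer (P : Set Ω)) (ha₁P : a₁ ∉ P)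
    (hshape : P ⊓ A = (upperCentralSeries ↥S 2).map S.subtype) :
    Nat.card ((upperCentralSeries ↥S 2).map S.subtype) =
      p * Nat.card (S ⊓ Subgroup.centralizer (S : Set Ω) : Subgroup Ω) := by
  have hpp : p.Prime := Fact.out
  have hPS : P ≤ S := hP.1.1
  have hfinP : Finite P := finite_of_le hPS
  have hPp : IsPGroup p P := hS.to_le hPS
  have hd := essData_of_essential hS F hP
  obtain ⟨Z, hZ⟩ : ∃ Z : Subgroup Ω, Z = S ⊓ Subgroup.centralizer (S : Set Ω) := ⟨_, rfl⟩
  rw [← hZ]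
  have hZS : Z ≤ S := hZ ▸ inf_le_left
  have hfinZ : Finite Z := finite_of_le hZS
  have hcA : ∀ n : ↥(Subgroup.normalizer (P : Set Ω)), (n : Ω) ∈ S →
      P.normalizerMonoidHom n ∈ F.autGroup P := fun n hn =>
    autInducedBy_le_autGroup F hPS (normalizerMonoidHom_mem_autInducedBy hn n.2)
  have hcI : ∀ n : ↥(Subgroup.normalizer (P : Set Ω)), (n : Ω) ∈ S →
      P.normalizerMonoidHom n ∈ Inn P → (n : Ω) ∈ P := fun n hn hI =>
    mem_of_normalizerMonoidHom_mem_inn F hP.1 hn n.2 hI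
  have hidxK : Nat.card P = p * Nat.card (A.subgroupOf P) := h.card_subgroupOf hPS hxP hxA
  have habK : ∀ a ∈ A.subgroupOf P, ∀ b ∈ A.subgroupOf P, a * b = b * a := by
    intro a ha b hb
    rw [Subgroup.mem_subgroupOf] at ha hb
    exact Subtype.ext (h.comm _ ha _ hb)
  obtain ⟨γ, -, y, hyK, hγy⟩ := exists_moved_of_transv hPp hd (hcA ⟨a₁, ha₁N⟩ (h.le ha₁))
    (conjAut_isTransv h hPS ha₁ ha₁N) (fun hI => ha₁P (hcI ⟨a₁, ha₁N⟩ (h.le ha₁) hI))
  obtain ⟨K, hK⟩ : ∃ K : Subgroup P, K = A.subgroupOf P := ⟨_, rfl⟩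
  rw [← hK] at hidxK habK hyK hγy
  obtain ⟨K₂, hK₂⟩ : ∃ K₂ : Subgroup P, K₂ = K.map γ.toMonoidHom := ⟨_, rfl⟩
  have hK₂card : Nat.card K₂ = Nat.card K := by
    rw [hK₂]
    exact Subgroup.card_map_of_injective γ.injective
  have hab₂ : ∀ a ∈ K₂, ∀ b ∈ K₂, a * b = b * a := by
    rw [hK₂]
    rintro _ ⟨a, ha, rfl⟩ _ ⟨b, hb, rfl⟩
    rw [← map_mul, ← map_mul, habK a ha b hb]
  have hKn : K.Normal := normal_of_card_mul hPp hidxK
  have htop : K ⊔ K₂ = ⊤ := by
    apply eq_top_of_lt_of_card_mul hidxK le_sup_left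
    intro h'
    apply hγy
    have : K₂ ≤ K := by
      have h2 : K₂ ≤ K ⊔ K₂ := le_sup_right
      rw [← h'] at h2
      exact h2
    apply this
    rw [hK₂]
    exact ⟨y, hyK, rfl⟩
  have hprod := Cfsg.Agent.Lib.Helper4.card_sup_mul_card_inf K₂ K (by
    rw [Subgroup.normalizer_eq_top]; exact le_top)
  rw [sup_comm, htop, Subgroup.card_top, hK₂card, hidxK] at hprod
  have h1 : p * Nat.card (K₂ ⊓ K : Subgroup P) = Nat.card K := by
    have hpos : 0 < Nat.card K := Nat.card_pos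
    have : Nat.card K * (p * Nat.card (K₂ ⊓ K : Subgroup P)) = Nat.card K * Nat.card K := by
      rw [← hprod]; ring
    exact Nat.eq_of_mul_eq_mul_left hpos this
  have hZmem : ∀ u : P, u ∈ K₂ ⊓ K → (u : Ω) ∈ Z := by
    rintro u ⟨hu2, hu1⟩
    have hcen : K ⊔ K₂ ≤ Subgroup.centralizer ({u} : Set P) := by
      apply sup_le
      · intro v hv
        rw [mem_centralizer_singleton_iff]
        exact habK v hv u hu1
      · intro v hv
        rw [mem_centralizer_singleton_iff]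
        exact hab₂ v hv u hu2
    have hx' : (⟨x, hxP⟩ : P) ∈ Subgroup.centralizer ({u} : Set P) := hcen (htop ▸ Subgroup.mem_top _)
    rw [mem_centralizer_singleton_iff] at hx'
    rw [hZ]
    have hu1' : (u : Ω) ∈ A := by
      rw [hK] at hu1
      exact Subgroup.mem_subgroupOf.mp hu1
    exact h.mem_center (hPS hxP) hxA hu1' (congrArg Subtype.val hx').symm
  have h2 : Nat.card (K₂ ⊓ K : Subgroup P) ≤ Nat.card Z := by
    apply Nat.card_le_card_of_injective
      (fun u : (K₂ ⊓ K : Subgroup P) => (⟨((u : P) : Ω), hZmem u u.2⟩ : Z))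
    intro u v huv
    have h3 := congrArg (fun z : Z => (z : Ω)) huv
    exact Subtype.ext (Subtype.ext h3)
  have hKcard : Nat.card K = Nat.card ((upperCentralSeries ↥S 2).map S.subtype) := by
    rw [hK, card_subgroupOf_eq_card_inf, inf_comm, hshape]
  have hupper : Nat.card ((upperCentralSeries ↥S 2).map S.subtype) ≤ p * Nat.card Z := by
    rw [← hKcard, ← h1]
    exact Nat.mul_le_mul_left p h2
  -- lower bound
  have hne : Subgroup.center ↥S ≠ ⊤ := by
    intro htop'
    apply hna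
    refine ⟨⟨fun a b => ?_⟩⟩
    have : b ∈ Subgroup.center ↥S := htop' ▸ Subgroup.mem_top b
    exact (Subgroup.mem_center_iff.mp this a)
  obtain ⟨w, hw2, hwZ⟩ := exists_mem_ucs2_not_mem_center hS hne
  have hle : Subgroup.center ↥S ≤ Subgroup.upperCentralSeries ↥S 2 := center_le_ucs2
  have hcZ : Nat.card Z = Nat.card (Subgroup.center ↥S) := by
    rw [hZ, ← center_map_eq, Subgroup.card_map_of_injective S.subtype_injective]
  have hcZ2 : Nat.card ((upperCentralSeries ↥S 2).map S.subtype) =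
      Nat.card (Subgroup.upperCentralSeries ↥S 2) :=
    Subgroup.card_map_of_injective S.subtype_injective
  rw [hcZ, hcZ2] at hupper ⊢
  obtain ⟨m, hm⟩ := Subgroup.card_dvd_of_le hle
  have hpos : 0 < Nat.card (Subgroup.center ↥S) := Nat.card_pos
  have hm1 : m ≠ 1 := by
    intro h1'
    rw [h1', mul_one] at hm
    apply hwZ
    have := Subgroup.eq_of_le_of_card_ge hle hm.le
    rw [this]
    exact hw2
  have hmp : m ≤ p := by
    rw [hm, mul_comm p] at hupper
    exact Nat.le_of_mul_le_mul_left hupper hpos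
  obtain ⟨b, hb⟩ := IsPGroup.iff_card.mp (hS.to_subgroup (Subgroup.upperCentralSeries ↥S 2))
  have hmdvd : m ∣ p ^ b := hb ▸ ⟨_, by rw [hm, mul_comm]⟩
  obtain ⟨j, -, hj⟩ := (Nat.dvd_prime_pow hpp).mp hmdvd
  have hj1 : j = 1 := by
    rcases j with _ | _ | j
    · exact absurd hj (by simpa using hm1)
    · rfl
    · exfalso
      rw [hj] at hmp
      have : p ^ 2 ≤ p ^ (j + 1 + 1) := Nat.pow_le_pow_right hpp.pos (by omega)
      have h3 : p * p ≤ p := by rw [← pow_two]; exact this.trans hmp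
      have := hpp.one_lt
      nlinarith
  rw [hj1, pow_one] at hj
  rw [hm, hj, mul_comm]

/-- Oliver's lemma, second part. -/
theorem oliver_two (hS : IsPGroup p S) (F : FusionSystem S) (hF : F.IsSaturated p)
    (hna : ¬ IsMulCommutative ↥S)
    (hA : A ≤ S ∧ IsMulCommutative ↥A ∧ (A.subgroupOf S).index = p)
    (huniq : ∀ B : Subgroup Ω, B ≤ S → IsMulCommutative ↥B → (B.subgroupOf S).index = p → B = A)
    (P : Subgroup Ω) (hP : F.IsEssential p P) (hPA : P ≠ A) :
    ((upperCentralSeries ↥S 2).map S.subtype) ≤ A ∧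
    Nat.card ↥((S ⊓ Subgroup.centralizer (S : Set Ω)) ⊓ ((commutator ↥S).map S.subtype)) = p ∧
    (((S ⊓ Subgroup.centralizer (S : Set Ω)) ⊔ ((commutator ↥S).map S.subtype)).subgroupOf A).index = p ∧
    (((S ⊓ Subgroup.centralizer (S : Set Ω))).subgroupOf ((upperCentralSeries ↥S 2).map S.subtype)).index = p ∧
    ∀ m : ℕ, ((S ⊓ Subgroup.centralizer (S : Set Ω)).subgroupOf S).index = p ^ m → 3 ≤ m →
      ¬ Subgroup.lowerCentralSeries S (m - 2) ≤ (S ⊓ Subgroup.centralizer (S : Set Ω)) := by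
  have hpp : p.Prime := Fact.out
  have h := idxP_of hS hA.1 hA.2.1 hA.2.2
  have hPS : P ≤ S := hP.1.1
  have hfinA : Finite A := finite_of_le h.le
  have hPnA : ¬ P ≤ A := by
    intro hle
    apply hPA
    apply le_antisymm hle
    have hcen := hP.1.2 P (isConj_refl F hPS)
    intro a ha
    apply hcen
    rw [mem_centralizerIn_iff]
    exact ⟨h.le ha, fun y hy => h.comm y (hle hy) a ha⟩
  obtain ⟨x, hxP, hxA⟩ := SetLike.not_le_iff_exists.mp hPnA
  obtain ⟨a₁, ha₁, ha₁N, ha₁P⟩ := oliver_exists_a hS F hF h hP hxP hxA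
  have hshape := oliver_shape hS F h hna hP hxP hxA ha₁ ha₁N ha₁P
  have hidx := oliver_index hS F h hP hxP hxA ha₁ ha₁N ha₁P
  have hstar : (upperCentralSeries ↥S 2).map S.subtype ≤ A ∧
      Nat.card ((upperCentralSeries ↥S 2).map S.subtype) =
        p * Nat.card (S ⊓ Subgroup.centralizer (S : Set Ω) : Subgroup Ω) := by
    rcases hshape with h1 | ⟨h1, h2⟩
    · exact star_of_case_H h hna huniq hPS hxP hxA h1 hidx
    · exact ⟨h1, star_of_case_B hS F h hna hP hxP hxA ha₁ ha₁N ha₁P h2⟩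
  obtain ⟨hZ2A, hZ2card⟩ := hstar
  have c := cfgOf h (hPS hxP) hxA
  have hZ2A' : Subgroup.upperCentralSeries ↥S 2 ≤ A.subgroupOf S := by
    intro w hw
    rw [Subgroup.mem_subgroupOf]
    exact hZ2A ⟨w, hw, rfl⟩
  have hZ2' : Nat.card (Subgroup.upperCentralSeries ↥S 2) = p * Nat.card (Subgroup.center ↥S) := by
    have e1 : Nat.card ((upperCentralSeries ↥S 2).map S.subtype) =
        Nat.card (Subgroup.upperCentralSeries ↥S 2) :=
      Subgroup.card_map_of_injective S.subtype_injective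
    rw [← e1, hZ2card, ← center_map_eq, Subgroup.card_map_of_injective S.subtype_injective]
  have hZA' : Subgroup.center ↥S ≤ A.subgroupOf S := center_le_ucs2.trans hZ2A'
  have hc2 : Nat.card (Subgroup.center ↥S ⊓ commutator ↥S : Subgroup ↥S) = p := by
    have h1 := c.card_ucs2 hZ2A'
    rw [hZ2', mul_comm] at h1
    exact (Nat.eq_of_mul_eq_mul_left Nat.card_pos h1).symm
  have hc3 : Nat.card (A.subgroupOf S) =
      Nat.card (Subgroup.center ↥S ⊔ commutator ↥S : Subgroup ↥S) * p := by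
    have h1 := c.card_eq hZA'
    have h2 := Cfsg.Agent.Lib.Helper4.card_sup_mul_card_inf (Subgroup.center ↥S) (commutator ↥S) (by
      rw [Subgroup.normalizer_eq_top]; exact le_top)
    rw [hc2] at h2
    rw [h1, h2]
  have hXA : Subgroup.center ↥S ⊔ commutator ↥S ≤ A.subgroupOf S := by
    apply sup_le hZA'
    rw [commutator_def, Subgroup.commutator_le]
    intro g _ k _
    rw [Subgroup.mem_subgroupOf]
    exact h.comm_mem g g.2 k k.2
  refine ⟨hZ2A, ?_, ?_, ?_, ?_⟩
  · rw [← center_map_eq, ← Subgroup.map_inf _ _ _ S.subtype_injective,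
      Subgroup.card_map_of_injective S.subtype_injective]
    exact hc2
  · rw [← center_map_eq, ← Subgroup.map_sup]
    obtain ⟨X, hX⟩ : ∃ X : Subgroup ↥S, X = Subgroup.center ↥S ⊔ commutator ↥S := ⟨_, rfl⟩
    rw [← hX] at hc3 hXA ⊢
    have hXmA : X.map S.subtype ≤ A := by
      rintro _ ⟨y, hy, rfl⟩
      exact Subgroup.mem_subgroupOf.mp (hXA hy)
    have h1 := Subgroup.card_mul_index ((X.map S.subtype).subgroupOf A)
    rw [Nat.card_congr (Subgroup.subgroupOfEquivOfLe hXmA).toEquiv,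
      Subgroup.card_map_of_injective S.subtype_injective] at h1
    have h2 : Nat.card A = Nat.card (A.subgroupOf S) :=
      (Nat.card_congr (Subgroup.subgroupOfEquivOfLe h.le).toEquiv).symm
    rw [h2, hc3] at h1
    exact Nat.eq_of_mul_eq_mul_left Nat.card_pos h1
  · have hle : S ⊓ Subgroup.centralizer (S : Set Ω) ≤ (upperCentralSeries ↥S 2).map S.subtype := by
      rw [← center_map_eq]
      exact Subgroup.map_mono center_le_ucs2
    have hfin2 : Finite ↥((upperCentralSeries ↥S 2).map S.subtype) :=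
      finite_of_le (Subgroup.map_subtype_le _)
    have h1 := Subgroup.card_mul_index
      ((S ⊓ Subgroup.centralizer (S : Set Ω)).subgroupOf ((upperCentralSeries ↥S 2).map S.subtype))
    rw [Nat.card_congr (Subgroup.subgroupOfEquivOfLe hle).toEquiv, hZ2card, mul_comm p] at h1
    have hfinZ : Finite ↥(S ⊓ Subgroup.centralizer (S : Set Ω)) := finite_of_le inf_le_left
    exact Nat.eq_of_mul_eq_mul_left Nat.card_pos h1
  · intro m hm h3 hle
    have heq : (S ⊓ Subgroup.centralizer (S : Set Ω)).subgroupOf S = Subgroup.center ↥S := by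
      ext c'
      rw [Subgroup.mem_subgroupOf, mem_center_iff_coe]
    rw [heq] at hm
    apply c.not_lcs_le_center hS hA.2.2 hZ2A' hZ2' m hm h3
    intro y hy
    rw [mem_center_iff_coe]
    apply hle
    rw [← Subgroup.top_subtype_lowerCentralSeries]
    exact ⟨y, hy, rfl⟩

end OliverE

end Cfsg.Agent.Lib.Helper26.OLM
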