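import Cfsg.Agent.Lib.Helper27.FSPrimeToP
import Cfsg.Agent.S5114

/-!
Towards S5243 (Oliver's lemma), part A: subsystems containing the `p`-elements of `Aut_F(P)` for all `P` in a class
containing the essential subgroups have index prime to `p` (a sharpening of S5114).
-/

set_option autoImplicit false

namespace Cfsg.Agent.Lib.Helper26.OlvN

open Cfsg Cfsg.FusionSystem Cfsg.Agent.Lib.Helper26 Cfsg.Agent.Lib.Helper27

variable {Ω : Type*} [Group Ω] {S : Subgroup Ω}

/-- The twist system contains the `p`-elements of `Aut_F(P)` for `P` in an `Aut_F(S)`-invariant class if `E` does. -/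
theorem pgenAut_le_twistSystem_of_class (F E : FusionSystem S) (p : ℕ) (𝒞 : Set (Subgroup Ω))
    (h𝒞S : ∀ P ∈ 𝒞, P ≤ S) (h𝒞inv : ∀ P ∈ 𝒞, ∀ β ∈ F.autGroup S, imgAut β P ∈ 𝒞)
    (h : ∀ P ∈ 𝒞, pgenAut F p P ≤ E.autGroup P) {P : Subgroup Ω}
    (hP𝒞 : P ∈ 𝒞) : pgenAut F p P ≤ (twistSystem F E).autGroup P := by
  unfold pgenAut
  rw [MonoidHom.map_closure, Subgroup.closure_le]
  rintro _ ⟨ξ, ⟨k, hk⟩, rfl⟩
  have hP : P ≤ S := h𝒞S P hP𝒞
  apply Subgroup.subset_closure
  show P.subtype.comp (ξ : MulAut P).toMonoidHom ∈ (twistSystem F E).Hom P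
  have hξF : P.subtype.comp (ξ : MulAut P).toMonoidHom ∈ F.Hom P := (mem_autGroup_iff F hP _).mp ξ.2
  refine ⟨hξF, ?_⟩
  rintro β hβ Q rfl
  have he := resIso_isFIso F hβ hP
  have hQc : imgAut β P ∈ 𝒞 := h𝒞inv P hP𝒞 β hβ
  have hξ'F : MulAut.congr (resIso F hβ hP) (ξ : MulAut P) ∈ F.autGroup (imgAut β P) :=
    congr_mem_autGroup F he ξ.2
  have hord : orderOf (⟨MulAut.congr (resIso F hβ hP) (ξ : MulAut P), hξ'F⟩ : F.autGroup (imgAut β P)) =
      p ^ k := by
    rw [Subgroup.orderOf_mk, MulEquiv.orderOf_eq, ← hk, Subgroup.orderOf_coe]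
  have hmem : MulAut.congr (resIso F hβ hP) (ξ : MulAut P) ∈ E.autGroup (imgAut β P) :=
    h _ hQc ⟨⟨_, hξ'F⟩, Subgroup.subset_closure ⟨k, hord⟩, rfl⟩
  refine ⟨_, (mem_autGroup_iff E (imgAut_le β P) _).mp hmem, ?_⟩
  intro y hy h' z hz
  have e1 := resIso_symm_apply F hβ hP y hy h'
  show (((resIso F hβ hP) ((ξ : MulAut P) ((resIso F hβ hP).symm ⟨β y, h'⟩)) : imgAut β P) : Ω) = _
  rw [e1, resIso_apply]
  congr 2
  exact Subtype.ext hz.symm

/-- Frattini decomposition: if the invariant subsystem `E₀` contains the `p`-elements of `Aut_F(P)` for all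
`F`-essential `P`, every map of `F` is an element of `Aut_F(S)` composed with a map of `E₀`. -/
theorem hom_subset_decSystem_of_essential [Finite S] {p : ℕ} [Fact p.Prime] (hS : IsPGroup p S) (F : FusionSystem S)
    (hF : F.IsSaturated p) (E₀ : FusionSystem S) (hE₀F : ∀ P : Subgroup Ω, E₀.Hom P ⊆ F.Hom P)
    (hinv : AutInv E₀ F) (hK : ∀ P : Subgroup Ω, F.IsEssential p P → pgenAut F p P ≤ E₀.autGroup P) :
    ∀ P : Subgroup Ω, F.Hom P ⊆ (decSystem E₀ F hinv).Hom P := by
  apply alperin_strong hS F hF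
  intro P hP IH
  rcases hP with rfl | hess
  · intro α hα
    rw [mem_autGroup_iff _ le_rfl]
    exact ⟨(mem_autGroup_iff F le_rfl α).mp hα, dec_of_aut le_rfl hα (fun x => rfl)⟩
  · have hne : P ≠ S := essential_ne_top hS F hF hess
    have hess' := hess
    obtain ⟨hcen, hfn, -⟩ := hess
    have hPS : P ≤ S := hfn.1
    have hfinP : Finite P := finite_of_le hPS
    obtain ⟨-, R, hR⟩ := (saturated_fn hS F hF hfn).2
    have hRec := saturated_fn_receptive hS F hF hfn
    -- the subgroup generated by the `p`-elements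
    let K' : Subgroup ↥(F.autGroup P) := Subgroup.closure {α : F.autGroup P | ∃ k : ℕ, orderOf α = p ^ k}
    have hK'n : K'.Normal := by
      apply Cfsg.Agent.Lib.Helper8.closure_normal_of_conj_invariant
      rintro g s ⟨k, hk⟩
      exact ⟨k, by rw [Cfsg.Agent.Lib.Helper8.orderOf_conj', hk]⟩
    -- the target subgroup
    let B : Subgroup ↥(F.autGroup P) := ((decSystem E₀ F hinv).autGroup P).subgroupOf (F.autGroup P)
    have hE₀G : E₀.autGroup P ≤ (decSystem E₀ F hinv).autGroup P := by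
      apply Subgroup.closure_mono
      intro α hα
      exact ⟨hE₀F P hα, dec_of_mem hα⟩
    have hK'B : K' ≤ B := by
      intro γ hγ
      show (γ : MulAut P) ∈ (decSystem E₀ F hinv).autGroup P
      exact hE₀G (hK P hess' ⟨γ, hγ, rfl⟩)
    obtain ⟨U, hU⟩ := sylowIn_inf_of_normal R K'
    have hfrat := Sylow.normalizer_sup_eq_top U
    have hUmap : (U : Subgroup ↥K').map K'.subtype = (R : Subgroup ↥(F.autGroup P)) ⊓ K' := by
      rw [hU]
      exact Subgroup.map_subgroupOf_eq_of_le inf_le_right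
    rw [hUmap] at hfrat
    obtain ⟨g₀, hg₀N, hg₀P⟩ := exists_mem_normalizerIn_not_mem hS hPS hne
    have hNB : Subgroup.normalizer
        (((R : Subgroup ↥(F.autGroup P)) ⊓ K' : Subgroup ↥(F.autGroup P)) : Set ↥(F.autGroup P)) ≤ B := by
      intro γ hγ
      have hNT : normalizerIn S P ≤ extender S P (equivHom ((γ : MulAut P) : P ≃* P)) := by
        intro t ht
        have htS : t ∈ S := ht.1
        have htN : t ∈ Subgroup.normalizer (P : Set Ω) := ht.2
        have haF : P.normalizerMonoidHom ⟨t, htN⟩ ∈ F.autGroup P :=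
          autInducedBy_le_autGroup F hPS (normalizerMonoidHom_mem_autInducedBy htS htN)
        have haR : (⟨_, haF⟩ : ↥(F.autGroup P)) ∈ (R : Subgroup ↥(F.autGroup P)) := by
          rw [hR, Subgroup.mem_subgroupOf]
          exact normalizerMonoidHom_mem_autInducedBy htS htN
        have haK : (⟨_, haF⟩ : ↥(F.autGroup P)) ∈ K' := by
          apply Subgroup.subset_closure
          obtain ⟨k, hk⟩ := (IsPGroup.iff_orderOf.mp R.isPGroup') ⟨_, haR⟩
          rw [Subgroup.orderOf_mk] at hk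
          exact ⟨k, hk⟩
        have h1 := (Subgroup.mem_normalizer_iff.mp hγ _).mp ⟨haR, haK⟩
        have h2 : (γ * ⟨_, haF⟩ * γ⁻¹ : ↥(F.autGroup P)) ∈ (R : Subgroup ↥(F.autGroup P)) := h1.1
        rw [hR, Subgroup.mem_subgroupOf] at h2
        obtain ⟨h, hhS, hh⟩ := (mem_autInducedBy_iff S P _).mp h2
        rw [mem_extender_iff]
        refine ⟨htS, htN, h, hhS, fun x hx => ?_⟩
        have h3 := hh ((γ : MulAut P) x)
        have h4 : ((γ * ⟨_, haF⟩ * γ⁻¹ : ↥(F.autGroup P)) : MulAut P) ((γ : MulAut P) x) =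
            (γ : MulAut P) ⟨t * x * t⁻¹, hx⟩ := by
          show (γ : MulAut P) ((P.normalizerMonoidHom ⟨t, htN⟩) ((γ : MulAut P)⁻¹ ((γ : MulAut P) x))) = _
          rw [MulAut.inv_apply_self]
          rfl
        rw [h4] at h3
        exact h3
      show (γ : MulAut P) ∈ (decSystem E₀ F hinv).autGroup P
      exact mem_autGroup_of_extender F (decSystem E₀ F hinv) hRec IH γ.2 (hNT hg₀N) hg₀P
    intro α hα
    have htop : (⟨α, hα⟩ : ↥(F.autGroup P)) ∈ (⊤ : Subgroup ↥(F.autGroup P)) := Subgroup.mem_top _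
    rw [← hfrat] at htop
    exact (sup_le hNB hK'B) htop

/-- **Sharpening of S5114.** If `E ⊆ F` contains the `p`-elements of `Aut_F(P)` for all `P` in a class `𝒞` of subgroups of
`S` which is invariant under `Aut_F(S)` and contains the essential subgroups, then `E` has index prime to `p`, satisfies the
Frattini condition, and has the same centric subgroups as `F`. -/
theorem primeToP_of_class [Finite S] (p : ℕ) [Fact p.Prime] (hS : IsPGroup p S) (F : FusionSystem S)
    (hF : F.IsSaturated p) (E : FusionSystem S) (hEF : E.IsSubsystemOf F) (𝒞 : Set (Subgroup Ω))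
    (h𝒞S : ∀ P ∈ 𝒞, P ≤ S) (h𝒞inv : ∀ P ∈ 𝒞, ∀ β ∈ F.autGroup S, imgAut β P ∈ 𝒞)
    (h𝒞ess : ∀ P, F.IsEssential p P → P ∈ 𝒞)
    (h : ∀ P ∈ 𝒞, pgenAut F p P ≤ E.autGroup P) :
    E.HasPrimeToPIndexIn F p ∧
      (∀ (P : Subgroup Ω) (φ : P →* Ω), φ ∈ F.Hom P → ∃ α ∈ F.autGroup S, ∃ φ₀ ∈ E.Hom P,
        ∀ (x : P) (hx : φ₀ x ∈ S), φ x = ((α ⟨φ₀ x, hx⟩ : S) : Ω)) ∧
      ∀ P : Subgroup Ω, E.IsCentric P ↔ F.IsCentric P := by
  have hE₀E := twistSystem_le F E
  have hE₀F := twistSystem_le' F E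
  have hinv := twistSystem_autInv F E
  have hK : ∀ P : Subgroup Ω, F.IsEssential p P → pgenAut F p P ≤ (twistSystem F E).autGroup P :=
    fun P hP => pgenAut_le_twistSystem_of_class F E p 𝒞 h𝒞S h𝒞inv h (h𝒞ess P hP)
  have hdec := hom_subset_decSystem_of_essential hS F hF (twistSystem F E) hE₀F hinv hK
  have hfrat : ∀ P : Subgroup Ω, P ≤ S → ∀ φ ∈ F.Hom P, Dec (twistSystem F E) F P φ :=
    fun P _ φ hφ => (hdec P hφ).2
  have hSI : StrongInv (twistSystem F E) F := strongInv_of_invariant hinv hfrat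
  have hpi : E.HasPrimeToPIndexIn F p := by
    refine ⟨hEF, fun P hP => ?_⟩
    exact (pgenAut_le_of_strongInv hS F hF (twistSystem F E) hSI hP).trans
      (Subgroup.closure_mono (fun α hα => hE₀E P hα))
  exact Cfsg.Agent.S5114.result p hS F hF E hEF (fun P hPc => hpi.2 P hPc.1)

end Cfsg.Agent.Lib.Helper26.OlvN
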