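import Cfsg.Agent.Lib.Helper26.OlvNA
import Cfsg.Agent.Lib.Helper26.CravB

/-!
Towards S5243 (Oliver's lemma), part B: an abstract existence lemma for saturated subsystems of index prime to `p`
inside a family of maps closed under "going up" from a class `ℋ` of centric subgroups containing the essential ones.
-/

set_option autoImplicit false

namespace Cfsg.Agent.Lib.Helper26.OlvN

open Cfsg Cfsg.FusionSystem Cfsg.Agent.Lib.Helper26 Cfsg.Agent.Lib.Helper27 Cfsg.Agent.Lib.Helper26.PPLeast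

variable {Ω : Type*} [Group Ω] {S : Subgroup Ω}

/-- The Frattini condition for a subsystem `X` of `F` over the same group. -/
def Frat (X F : FusionSystem S) : Prop :=
  ∀ (P : Subgroup Ω) (φ : P →* Ω), φ ∈ F.Hom P → ∃ α ∈ F.autGroup S, ∃ φ₀ ∈ X.Hom P,
    ∀ (x : P) (hx : φ₀ x ∈ S), φ x = ((α ⟨φ₀ x, hx⟩ : S) : Ω)

/-- The image of a subgroup of `S` under an element of `Aut_F(S)` is a conjugate. -/
theorem isConj_imgAut (F : FusionSystem S) {β : MulAut S} (hβ : β ∈ F.autGroup S) {P : Subgroup Ω} (hP : P ≤ S) :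
    F.IsConj P (imgAut β P) :=
  (isConj_iff_exists_isFIso F).mpr ⟨resIso F hβ hP, resIso_isFIso F hβ hP⟩

section SatGen

variable [Finite S] {p : ℕ} [Fact p.Prime]

/-- **Abstract existence lemma, `ℋ`-version.** -/
theorem exists_saturated_le_class (hS : IsPGroup p S) (F N : FusionSystem S) (hFsat : F.IsSaturated p)
    (hNF : ∀ P, N.Hom P ⊆ F.Hom P) (ℋ : Set (Subgroup Ω))
    (hℋc : ∀ P ∈ ℋ, F.IsCentric P)
    (hℋconj : ∀ P ∈ ℋ, ∀ Q, F.IsConj P Q → Q ∈ ℋ)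
    (hℋup : ∀ P ∈ ℋ, ∀ Q, P ≤ Q → Q ≤ S → Q ∈ ℋ)
    (hℋess : ∀ P, F.IsEssential p P → P ∈ ℋ)
    (hpgN : ∀ P ∈ ℋ, pgenAut F p P ≤ N.autGroup P)
    (hup : ∀ α ∈ F.autGroup S, ∀ (R : Subgroup Ω) (hR : R ∈ ℋ), resAut α R (hℋc R hR).1 ∈ N.Hom R →
      α ∈ N.autGroup S)
    (hstar : ∀ X : FusionSystem S, X.IsSubsystemOf F → Frat X F → ∀ P : Subgroup Ω, F.IsCentric P → P ∉ ℋ →
      ∃ Q, X.IsConj P Q ∧
        ¬ (autInducedBy S Q ⊓ (pCore p ↥(X.autGroup Q)).map (X.autGroup Q).subtype ≤ Inn Q)) :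
    ∃ X : FusionSystem S, X.IsSaturated p ∧ X.HasPrimeToPIndexIn F p ∧ (∀ P, X.Hom P ⊆ N.Hom P) ∧
      (∀ P ∈ ℋ, N.Hom P ⊆ X.Hom P) ∧ Frat X F ∧ (∀ P, X.IsCentric P ↔ F.IsCentric P) ∧
      ∀ E' : FusionSystem S, (∀ P ∈ ℋ, N.Hom P ⊆ E'.Hom P) → ∀ P, X.Hom P ⊆ E'.Hom P := by
  obtain ⟨Y, hYdef⟩ : ∃ Y : ∀ P : Subgroup Ω, Set (P →* Ω), Y = fun P =>
      {φ | P ∈ ℋ ∧ φ ∈ N.Hom P} := ⟨_, rfl⟩
  have hYmem : ∀ (P : Subgroup Ω) (φ : P →* Ω), φ ∈ Y P ↔ (P ∈ ℋ ∧ φ ∈ N.Hom P) := by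
    intro P φ
    rw [hYdef]
    rfl
  have hYE : ∀ P, Y P ⊆ F.Hom P := fun P φ hφ => hNF P ((hYmem P φ).mp hφ).2
  have hYN : ∀ P, Y P ⊆ N.Hom P := fun P φ hφ => ((hYmem P φ).mp hφ).2
  obtain ⟨X, hX⟩ : ∃ X : FusionSystem S, X = genSystem F Y := ⟨_, rfl⟩
  have hXE : X.IsSubsystemOf F := fun P φ hφ => by rw [hX] at hφ; exact hφ.1
  have hXN : ∀ P, X.Hom P ⊆ N.Hom P := fun P => by rw [hX]; exact genSystem_le hYN P
  have hYX : ∀ P, Y P ⊆ X.Hom P := fun P => by rw [hX]; exact subset_genSystem hYE P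
  have hpg : ∀ P ∈ ℋ, pgenAut F p P ≤ X.autGroup P := by
    intro P hPℋ ξ hξ
    have h1 : ξ ∈ N.autGroup P := hpgN P hPℋ hξ
    have hPS : P ≤ S := (hℋc P hPℋ).1
    rw [mem_autGroup_iff X hPS]
    apply hYX
    rw [hYmem]
    exact ⟨hPℋ, (mem_autGroup_iff N hPS ξ).mp h1⟩
  have hℋinv : ∀ P ∈ ℋ, ∀ β ∈ F.autGroup S, imgAut β P ∈ ℋ :=
    fun P hP β hβ => hℋconj P hP _ (isConj_imgAut F hβ (hℋc P hP).1)
  obtain ⟨hXi, hfrat, hcenX⟩ := primeToP_of_class p hS F hFsat X hXE ℋ (fun P hP => (hℋc P hP).1) hℋinv hℋess hpg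
  -- going up
  have hA : ∀ {M R : Subgroup Ω} (hRM : R ≤ M), R ∈ ℋ → ∀ {ψ : M →* Ω}, ψ ∈ F.Hom M →
      ψ.comp (Subgroup.inclusion hRM) ∈ N.Hom R → ψ ∈ N.Hom M := by
    intro M R hRM hRc ψ hψ hres
    obtain ⟨α, hα, φ₀, hφ₀, hψα⟩ := hfrat M ψ hψ
    have hφ₀N : φ₀ ∈ N.Hom M := hXN M hφ₀
    have hφ₀T : ∀ x, φ₀ x ∈ S := hom_apply_mem N hφ₀N
    obtain ⟨φR, hφR⟩ : ∃ φR : R →* Ω, φR = φ₀.comp (Subgroup.inclusion hRM) := ⟨_, rfl⟩
    have hφRx : ∀ x : R, φR x = φ₀ (Subgroup.inclusion hRM x) := fun x => by rw [hφR]; rfl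
    have hφRN : φR ∈ N.Hom R := hφR ▸ inclusion_comp_mem N hRM hφ₀N
    have hφRE : φR ∈ F.Hom R := hNF R hφRN
    have hR'c : φR.range ∈ ℋ := hℋconj R hRc _ ⟨φR, hφRE, rfl⟩
    obtain ⟨ι, hι, hιx⟩ := N.inv_mem hφRN
    have hιR : ∀ z, ι z ∈ R := by
      rintro ⟨_, x, rfl⟩
      rw [hιx]
      exact x.2
    have e : resAut α φR.range (hℋc _ hR'c).1 =
        (ψ.comp (Subgroup.inclusion hRM)).comp (ι.codRestrict R hιR) := by
      ext ⟨_, x, rfl⟩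
      have h1 : ι.codRestrict R hιR ⟨φR x, ⟨x, rfl⟩⟩ = x := Subtype.ext (hιx x)
      show ((α ⟨φR x, _⟩ : S) : Ω) = ψ (Subgroup.inclusion hRM (ι.codRestrict R hιR ⟨φR x, ⟨x, rfl⟩⟩))
      rw [h1, hψα _ (hφ₀T _)]
      congr 2
      apply Subtype.ext
      exact hφRx x
    have hαres : resAut α φR.range (hℋc _ hR'c).1 ∈ N.Hom φR.range := by
      rw [e]
      exact N.comp_mem hι hres hιR
    have hαN := hup α hα φR.range hR'c hαres
    have e2 : ψ = (S.subtype.comp α.toMonoidHom).comp (φ₀.codRestrict S hφ₀T) := by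
      ext x
      exact hψα x (hφ₀T x)
    rw [e2]
    exact N.comp_mem hφ₀N ((mem_autGroup_iff N le_rfl α).mp hαN) hφ₀T
  have hXsat : X.IsSaturated p := by
    apply saturated_of_criterion hS X ℋ
    · intro P hP Q hPQ
      obtain ⟨φ, hφ, hr⟩ := hPQ
      exact hℋconj P hP Q ⟨φ, hXE P hφ, hr⟩
    · intro P hPc
      have hPc' : F.IsCentric P := hℋc P hPc
      have hPT : P ≤ S := hPc'.1
      obtain ⟨Q', hPQ', hQ'n⟩ := exists_fullyNormalized_conj F hPT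
      obtain ⟨φ, hφ, hφr⟩ := hPQ'
      obtain ⟨α, hα, φ₀, hφ₀, hφα⟩ := hfrat P φ hφ
      have hφ₀E : φ₀ ∈ F.Hom P := hXE P hφ₀
      have hφ₀T : ∀ x, φ₀ x ∈ S := hom_apply_mem F hφ₀E
      obtain ⟨Q, hQ⟩ : ∃ Q, Q = φ₀.range := ⟨_, rfl⟩
      have hPQX : X.IsConj P Q := ⟨φ₀, hφ₀, hQ.symm⟩
      have hPQE : F.IsConj P Q := ⟨φ₀, hφ₀E, hQ.symm⟩
      have hPQ'E : F.IsConj P Q' := ⟨φ, hφ, hφr⟩
      have hQT : Q ≤ S := isConj_le_right F hPQE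
      have hQℋ : Q ∈ ℋ := hℋconj P hPc Q hPQE
      have hQc : F.IsCentric Q := hℋc Q hQℋ
      have hiff : ∀ y : S, (y : Ω) ∈ Q' ↔ ((α⁻¹ y : S) : Ω) ∈ Q := by
        intro y
        rw [← hφr, hQ]
        constructor
        · rintro ⟨x, hx⟩
          refine ⟨x, ?_⟩
          have h1 := hφα x (hφ₀T x)
          rw [hx] at h1
          have h2 : y = α ⟨φ₀ x, hφ₀T x⟩ := Subtype.ext h1
          rw [h2, MulAut.inv_apply_self]
        · rintro ⟨x, hx⟩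
          refine ⟨x, ?_⟩
          rw [hφα x (hφ₀T x)]
          have h2 : (⟨φ₀ x, hφ₀T x⟩ : S) = α⁻¹ y := Subtype.ext hx
          rw [h2, MulAut.apply_inv_self]
      have hcard : Nat.card (normalizerIn S Q') ≤ Nat.card (normalizerIn S Q) :=
        card_normalizerIn_le_of_aut α⁻¹ hQT hiff
      have hQn : F.IsFullyNormalized Q :=
        ⟨hQT, fun Q'' hQQ'' => (hQ'n.2 Q'' (isConj_trans F (isConj_trans F (isConj_symm F hPQ'E) hPQE)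
          hQQ'')).trans hcard⟩
      have hQA := (saturated_fn hS F hFsat hQn).2
      have hQR := saturated_fn_receptive hS F hFsat hQn
      refine ⟨Q, hPQX, fullyAutomized_of_subsystem hS X F hXE hQA, hQT, fun R ψ hψ hψr => ?_⟩
      have hψE : ψ ∈ F.Hom R := hXE R hψ
      obtain ⟨ψ₀, hψ₀, hext⟩ := hQR.2 R ψ hψE hψr
      have hRT : R ≤ S := hom_le F hψE
      have hRℋ : R ∈ ℋ := hℋconj Q hQℋ R (isConj_symm F ⟨ψ, hψE, hψr⟩)
      have hRN : R ≤ extender S R ψ := le_extender hRT ψ (hom_apply_mem F hψE)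
      have hNT : extender S R ψ ≤ S := (extender_le S R ψ).trans (normalizerIn_le S R)
      have hNℋ : extender S R ψ ∈ ℋ := hℋup R hRℋ _ hRN hNT
      have hres : ψ₀.comp (Subgroup.inclusion hRN) = ψ := by
        ext x
        exact hext x x.2 (hRN x.2)
      refine ⟨ψ₀, ?_, hext⟩
      apply hYX
      rw [hYmem]
      refine ⟨hNℋ, hA hRN hRℋ hψ₀ ?_⟩
      rw [hres]
      exact hXN R hψ
    · intro E' hE' P φ hφ
      rw [hX] at hφ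
      apply hφ.2 E'
      intro Q ψ hψ
      exact hE' Q ((hYmem Q ψ).mp hψ).1 (hYX Q hψ)
    · intro P hPX hPn
      exact hstar X hXE hfrat P ((hcenX P).mp hPX) hPn
  refine ⟨X, hXsat, hXi, hXN, ?_, hfrat, hcenX, ?_⟩
  · intro P hPℋ φ hφ
    apply hYX
    rw [hYmem]
    exact ⟨hPℋ, hφ⟩
  · intro E' hE' P φ hφ
    rw [hX] at hφ
    apply hφ.2 E'
    intro Q ψ hψ
    have := (hYmem Q ψ).mp hψ
    exact hE' Q this.1 this.2

end SatGen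

end Cfsg.Agent.Lib.Helper26.OlvN
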