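import Cfsg.Agent.Lib.Helper26.OlvNB
import Cfsg.Agent.Lib.Helper26.FSEssential
import Cfsg.Agent.Lib.Helper26.FSChain
import Cfsg.Agent.Lib.Helper26.FSExtendMod

/-!
Towards S5243 (Oliver's lemma), part C: the system of restrictions of a group `K` of automorphisms of `T`, and the
system over `S` of the maps of `F` whose restriction to `T` is an element of `K` composed with a map of `E`.
-/

set_option autoImplicit false

namespace Cfsg.Agent.Lib.Helper26.OlvN

open Cfsg Cfsg.FusionSystem Cfsg.Agent.Lib.Helper26 Cfsg.Agent.Lib.Helper27 Cfsg.Agent.Lib.Helper26.PPLeast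

variable {Ω : Type*} [Group Ω] {S T : Subgroup Ω}

/-- The fusion system over `T` of the restrictions of the elements of a group `K ≥ Inn(T)` of automorphisms. -/
def autSystem (K : Subgroup (MulAut T)) (hK : Inn T ≤ K) : FusionSystem T where
  Hom P := {φ | ∃ hPT : P ≤ T, ∃ β ∈ K, φ = resAut β P hPT}
  le_of_mem := by
    rintro P φ ⟨hPT, β, -, rfl⟩
    exact ⟨hPT, fun x => (β ⟨x, hPT x.2⟩).2⟩
  injective_of_mem := by
    rintro P φ ⟨hPT, β, -, rfl⟩ x y hxy
    have h1 : β ⟨x, hPT x.2⟩ = β ⟨y, hPT y.2⟩ := Subtype.ext hxy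
    have h2 := β.injective h1
    exact Subtype.ext (Subtype.mk.inj h2)
  conj_mem := by
    intro P g hP hg
    refine ⟨hP, MulAut.conj (⟨g, hg⟩ : T), hK ⟨⟨g, hg⟩, rfl⟩, ?_⟩
    ext x
    rfl
  comp_mem := by
    rintro P Q φ ψ ⟨hPT, β, hβ, rfl⟩ ⟨hQT, γ, hγ, rfl⟩ h
    refine ⟨hPT, γ * β, K.mul_mem hγ hβ, ?_⟩
    ext x
    rfl
  inv_mem := by
    rintro P φ ⟨hPT, β, hβ, rfl⟩
    have hr : (resAut β P hPT).range ≤ T := by
      rintro _ ⟨x, rfl⟩
      exact (β ⟨x, hPT x.2⟩).2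
    refine ⟨resAut β⁻¹ _ hr, ⟨hr, β⁻¹, K.inv_mem hβ, rfl⟩, fun x => ?_⟩
    show ((β⁻¹ ⟨((β ⟨x, hPT x.2⟩ : T) : Ω), _⟩ : T) : Ω) = x
    have : (⟨((β ⟨x, hPT x.2⟩ : T) : Ω), (β ⟨x, hPT x.2⟩).2⟩ : T) = β ⟨x, hPT x.2⟩ := rfl
    rw [this, MulAut.inv_apply_self]

theorem autGroup_autSystem (K : Subgroup (MulAut T)) (hK : Inn T ≤ K) : (autSystem K hK).autGroup T = K := by
  apply le_antisymm
  · intro α hα
    rw [mem_autGroup_iff _ le_rfl] at hα
    obtain ⟨hTT, β, hβ, h⟩ := hα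
    have : α = β := by
      ext x
      have := congrArg (fun f => f x) h
      exact this
    rw [this]
    exact hβ
  · intro α hα
    rw [mem_autGroup_iff _ le_rfl]
    exact ⟨le_rfl, α, hα, by ext x; rfl⟩

/-- The data: `K` is a normal subgroup of `Aut_F(T)` containing `Aut_E(T)` and `Aut_S(T)`. -/
structure KData (F : FusionSystem S) (E : FusionSystem T) (K : Subgroup (MulAut T)) : Prop where
  inv : E.IsInvariantIn F
  KF : K ≤ F.autGroup T
  KE : E.autGroup T ≤ K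
  KS : autInducedBy S T ≤ K
  Kn : ∀ α ∈ F.autGroup T, ∀ β ∈ K, α * β * α⁻¹ ∈ K

namespace KData

variable {F : FusionSystem S} {E : FusionSystem T} {K : Subgroup (MulAut T)}

theorem le (h : KData F E K) : T ≤ S := h.inv.2.1.1

theorem closed (h : KData F E K) : F.StronglyClosed T := h.inv.2.1

theorem inn_le (h : KData F E K) : Inn T ≤ K :=
  (inn_le_autGroup E le_rfl).trans h.KE

/-- The auxiliary system of restrictions of elements of `K`. -/
abbrev FK (h : KData F E K) : FusionSystem T := autSystem K h.inn_le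

theorem autInvK (h : KData F E K) : AutInv E h.FK := by
  intro P hPT φ hφ α hα
  rw [autGroup_autSystem] at hα
  exact h.inv.2.2.1 P hPT φ hφ α (h.KF hα)

theorem dec_iff (h : KData F E K) (P : Subgroup Ω) (φ : P →* Ω) :
    Dec E h.FK P φ ↔ ∃ α ∈ K, ∃ φ₀ ∈ E.Hom P, ∀ (x : P) (hx : φ₀ x ∈ T), φ x = ((α ⟨φ₀ x, hx⟩ : T) : Ω) := by
  unfold Dec
  rw [autGroup_autSystem]

end KData

/-- Restriction of a homomorphism to the intersection with `T`. -/
abbrev resT (T : Subgroup Ω) {P : Subgroup Ω} (φ : P →* Ω) : ↥(P ⊓ T) →* Ω :=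
  φ.comp (Subgroup.inclusion inf_le_left)

/-- The system over `S` of the maps of `F` whose restriction to `T` is an element of `K` composed with a map of `E`. -/
def charSystem (F : FusionSystem S) (E : FusionSystem T) (K : Subgroup (MulAut T)) (h : KData F E K) :
    FusionSystem S where
  Hom P := {φ | φ ∈ F.Hom P ∧ Dec E h.FK (P ⊓ T) (resT T φ)}
  le_of_mem hφ := F.le_of_mem hφ.1
  injective_of_mem hφ := F.injective_of_mem hφ.1
  conj_mem := by
    intro P g hP hg
    refine ⟨F.conj_mem hP hg, ?_⟩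
    have hgN : g ∈ Subgroup.normalizer (T : Set Ω) := le_normalizer_of_stronglyClosed F h.closed hg
    have hα : T.normalizerMonoidHom ⟨g, hgN⟩ ∈ h.FK.autGroup T := by
      rw [autGroup_autSystem]
      exact h.KS (normalizerMonoidHom_mem_autInducedBy hg hgN)
    exact dec_of_aut inf_le_right hα (fun x => rfl)
  comp_mem := by
    rintro P Q φ ψ ⟨hφ, hφd⟩ ⟨hψ, hψd⟩ hPQ
    refine ⟨F.comp_mem hφ hψ hPQ, ?_⟩
    have hmem : ∀ x : ↥(P ⊓ T), resT T φ x ∈ Q ⊓ T := by
      intro x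
      refine ⟨hPQ _, ?_⟩
      have h1 := h.closed.2 (P ⊓ T) inf_le_right (resT T φ) (inclusion_comp_mem F inf_le_left hφ) x
      exact h1
    have := Dec.comp h.autInvK hφd hψd hmem
    exact this.congr (fun x => rfl)
  inv_mem := by
    rintro P φ ⟨hφ, hφd⟩
    obtain ⟨ψ, hψ, hψx⟩ := F.inv_mem hφ
    refine ⟨ψ, ⟨hψ, ?_⟩, hψx⟩
    -- the range of the restriction is the intersection of the range with `T`
    have hr : (resT T φ).range = φ.range ⊓ T := by
      ext y
      constructor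
      · rintro ⟨x, rfl⟩
        refine ⟨⟨_, rfl⟩, ?_⟩
        exact h.closed.2 (P ⊓ T) inf_le_right (resT T φ) (inclusion_comp_mem F inf_le_left hφ) x
      · rintro ⟨⟨x, rfl⟩, hyT⟩
        have hle : (φ.range ⊓ T) ≤ φ.range := inf_le_left
        have h1 := h.closed.2 (φ.range ⊓ T) inf_le_right (resT T ψ) (inclusion_comp_mem F inf_le_left hψ)
          ⟨φ x, ⟨⟨x, rfl⟩, hyT⟩⟩
        have h2 : resT T ψ ⟨φ x, ⟨⟨x, rfl⟩, hyT⟩⟩ = x := hψx x
        rw [h2] at h1
        exact ⟨⟨x, ⟨x.2, h1⟩⟩, rfl⟩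
    have h1 := Dec.inv h.autInvK hφd ((resT T ψ).comp (Subgroup.inclusion hr.le)) (fun x => hψx _)
    have h2 := h1.congr_dom hr
    exact h2.congr (fun y => rfl)

end Cfsg.Agent.Lib.Helper26.OlvN
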