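import Cfsg.Agent.Lib.Helper26.OlvNC
import Cfsg.Agent.Lib.Helper26.CravC

/-!
Towards S5243 (Oliver's lemma), part D: the product system `E·K` over `T` is strongly invariant in `F` and contains
all `p`-elements of the `F`-automorphism groups of subgroups of `T`.
-/

set_option autoImplicit false

namespace Cfsg.Agent.Lib.Helper26.OlvN

open Cfsg Cfsg.FusionSystem Cfsg.Agent.Lib.Helper26 Cfsg.Agent.Lib.Helper27 Cfsg.Agent.Lib.Helper26.PPLeast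

variable {Ω : Type*} [Group Ω] {S T : Subgroup Ω}

/-- The system over `T` of the maps that are an element of `K` composed with a map of `E`. -/
def prodSystem (F : FusionSystem S) (E : FusionSystem T) (K : Subgroup (MulAut T)) (h : KData F E K) :
    FusionSystem T where
  Hom P := {φ | Dec E h.FK P φ}
  le_of_mem := by
    rintro P φ hφ
    refine ⟨hφ.le, fun x => ?_⟩
    obtain ⟨α, -, φ₀, hφ₀, hφα⟩ := hφ
    rw [hφα x (hom_apply_mem E hφ₀ x)]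
    exact (α _).2
  injective_of_mem := by
    rintro P φ ⟨α, -, φ₀, hφ₀, hφα⟩ x y hxy
    rw [hφα x (hom_apply_mem E hφ₀ x), hφα y (hom_apply_mem E hφ₀ y)] at hxy
    have h1 := α.injective (Subtype.ext hxy)
    exact E.injective_of_mem hφ₀ (Subtype.mk.inj h1)
  conj_mem := by
    intro P g hP hg
    exact dec_of_mem (E.conj_mem hP hg)
  comp_mem := by
    rintro P Q φ ψ hφ hψ hPQ
    exact Dec.comp h.autInvK hφ hψ hPQ
  inv_mem := by
    rintro P φ hφ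
    have hinj : Function.Injective φ := by
      obtain ⟨α, -, φ₀, hφ₀, hφα⟩ := hφ
      intro x y hxy
      rw [hφα x (hom_apply_mem E hφ₀ x), hφα y (hom_apply_mem E hφ₀ y)] at hxy
      have h1 := α.injective (Subtype.ext hxy)
      exact E.injective_of_mem hφ₀ (Subtype.mk.inj h1)
    obtain ⟨ψ, hψ⟩ : ∃ ψ : φ.range →* Ω, ψ = P.subtype.comp (MonoidHom.ofInjective hinj).symm.toMonoidHom := ⟨_, rfl⟩
    have hψx : ∀ x : P, ψ ⟨φ x, ⟨x, rfl⟩⟩ = (x : Ω) := by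
      intro x
      rw [hψ]
      show (((MonoidHom.ofInjective hinj).symm ⟨φ x, ⟨x, rfl⟩⟩ : P) : Ω) = x
      congr 1
      rw [MulEquiv.symm_apply_eq]
      rfl
    exact ⟨ψ, Dec.inv h.autInvK hφ ψ hψx, hψx⟩

namespace KData

variable {F : FusionSystem S} {E : FusionSystem T} {K : Subgroup (MulAut T)}

/-- The product system `E·K`. -/
abbrev D (h : KData F E K) : FusionSystem T := prodSystem F E K h

theorem mem_D_iff (h : KData F E K) (P : Subgroup Ω) (φ : P →* Ω) :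
    φ ∈ h.D.Hom P ↔ ∃ α ∈ K, ∃ φ₀ ∈ E.Hom P, ∀ (x : P) (hx : φ₀ x ∈ T), φ x = ((α ⟨φ₀ x, hx⟩ : T) : Ω) :=
  h.dec_iff P φ

theorem le_D (h : KData F E K) (P : Subgroup Ω) : E.Hom P ⊆ h.D.Hom P := fun _ hφ => dec_of_mem hφ

theorem D_le (h : KData F E K) (P : Subgroup Ω) : h.D.Hom P ⊆ F.Hom P := by
  intro φ hφ
  obtain ⟨α, hα, φ₀, hφ₀, hφα⟩ := (h.mem_D_iff P φ).mp hφ
  have hφ₀T : ∀ x : P, φ₀ x ∈ T := hom_apply_mem E hφ₀
  have hαF : T.subtype.comp α.toMonoidHom ∈ F.Hom T := (mem_autGroup_iff F h.le α).mp (h.KF hα)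
  have h1 := F.comp_mem (h.inv.1 P hφ₀) hαF hφ₀T
  have : φ = (T.subtype.comp α.toMonoidHom).comp (φ₀.codRestrict T hφ₀T) := by
    ext x
    exact hφα x (hφ₀T x)
  rw [this]
  exact h1

theorem aut_mem_D (h : KData F E K) {α : MulAut T} (hα : α ∈ K) {P : Subgroup Ω} (hPT : P ≤ T) :
    resAut α P hPT ∈ h.D.Hom P := by
  have hα' : α ∈ h.FK.autGroup T := by rw [autGroup_autSystem]; exact hα
  exact dec_of_aut hPT hα' (fun x => rfl)

theorem autInv_D (h : KData F E K) : AutInv h.D F := by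
  intro P hPT φ hφ α hα
  obtain ⟨β, hβ, φ₀, hφ₀, hφβ⟩ := (h.mem_D_iff P φ).mp hφ
  obtain ⟨χ₀, hχ₀, hχ₀'⟩ := h.inv.2.2.1 P hPT φ₀ hφ₀ α hα
  have hκ : α * β * α⁻¹ ∈ K := h.Kn α hα β hβ
  have hχ₀T : ∀ y, χ₀ y ∈ T := hom_apply_mem E hχ₀
  refine ⟨(T.subtype.comp (α * β * α⁻¹).toMonoidHom).comp (χ₀.codRestrict T hχ₀T), ?_, ?_⟩
  · exact (h.mem_D_iff _ _).mpr ⟨α * β * α⁻¹, hκ, χ₀, hχ₀, fun x hx => rfl⟩
  · intro x hφx hαx
    have hφ₀x : φ₀ x ∈ T := hom_apply_mem E hφ₀ x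
    have h1 := hχ₀' x hφ₀x hαx
    show (((α * β * α⁻¹) ⟨χ₀ ⟨(α ⟨x, hPT x.2⟩ : T), hαx⟩, hχ₀T _⟩ : T) : Ω) = _
    have e1 : (⟨χ₀ ⟨(α ⟨x, hPT x.2⟩ : T), hαx⟩, hχ₀T _⟩ : T) = α ⟨φ₀ x, hφ₀x⟩ := Subtype.ext h1
    rw [e1]
    have e2 : (⟨φ x, hφx⟩ : T) = β ⟨φ₀ x, hφ₀x⟩ := Subtype.ext (hφβ x hφ₀x)
    rw [e2]
    simp [MulAut.mul_apply]

theorem dec_D (h : KData F E K) (P : Subgroup Ω) (hPT : P ≤ T) (φ : P →* Ω) (hφ : φ ∈ F.Hom P) :
    Dec h.D F P φ := by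
  obtain ⟨α, hα, φ₀, hφ₀, hφα⟩ := h.inv.2.2.2 P hPT φ hφ
  exact ⟨α, hα, φ₀, h.le_D P hφ₀, hφα⟩

theorem strongInv_D (h : KData F E K) : StrongInv h.D F :=
  strongInv_of_invariant h.autInv_D h.dec_D

theorem autInducedBy_le_D (h : KData F E K) {R : Subgroup Ω} (hRT : R ≤ T) :
    autInducedBy S R ≤ h.D.autGroup R := by
  intro α hα
  obtain ⟨g, hg, hgα⟩ := (mem_autInducedBy_iff S R α).mp hα
  rw [mem_autGroup_iff _ hRT]
  have hgN : g ∈ Subgroup.normalizer (T : Set Ω) := le_normalizer_of_stronglyClosed F h.closed hg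
  have hκ : T.normalizerMonoidHom ⟨g, hgN⟩ ∈ K := h.KS (normalizerMonoidHom_mem_autInducedBy hg hgN)
  have h1 := h.aut_mem_D hκ hRT
  have : R.subtype.comp α.toMonoidHom = resAut (T.normalizerMonoidHom ⟨g, hgN⟩) R hRT := by
    ext x
    exact hgα x
  rw [this]
  exact h1

/-- The product system contains all `p`-elements of `Aut_F(R)` for `R ≤ T`. -/
theorem pgenAut_le_D [Finite S] {p : ℕ} [Fact p.Prime] (h : KData F E K) (hS : IsPGroup p S)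
    (hF : F.IsSaturated p) {P : Subgroup Ω} (hPT : P ≤ T) :
    pgenAut F p P ≤ h.D.autGroup P := by
  have hP : P ≤ S := hPT.trans h.le
  unfold pgenAut
  rw [MonoidHom.map_closure, Subgroup.closure_le]
  rintro _ ⟨ξ, ⟨k, hk⟩, rfl⟩
  show (ξ : MulAut P) ∈ h.D.autGroup P
  obtain ⟨Q, hPQ, hQn⟩ := exists_fullyNormalized_conj F hP
  have hQS : Q ≤ S := hQn.1
  have hfinQ : Finite Q := finite_of_le hQS
  obtain ⟨θ, hθ⟩ := (isConj_iff_exists_isFIso F).mp hPQ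
  have hQT : Q ≤ T := by
    intro y hy
    obtain ⟨x, hx⟩ : ∃ x : P, θ x = ⟨y, hy⟩ := ⟨θ.symm ⟨y, hy⟩, by simp⟩
    have h1 := h.closed.2 P hPT _ hθ x
    rw [equivHom_apply, hx] at h1
    exact h1
  obtain ⟨-, R, hR⟩ := (saturated_fn hS F hF hQn).2
  have hξ₁F : MulAut.congr θ (ξ : MulAut P) ∈ F.autGroup Q := congr_mem_autGroup F hθ ξ.2
  have hord : orderOf (⟨_, hξ₁F⟩ : F.autGroup Q) = p ^ k := by
    rw [Subgroup.orderOf_mk, MulEquiv.orderOf_eq, ← hk, Subgroup.orderOf_coe]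
  have hZ : IsPGroup p (Subgroup.zpowers (⟨_, hξ₁F⟩ : F.autGroup Q)) := by
    apply IsPGroup.of_card (n := k)
    rw [Nat.card_zpowers, hord]
  obtain ⟨γ, hγ⟩ := exists_conj_le_sylow R hZ
  have hmemR : γ * ⟨_, hξ₁F⟩ * γ⁻¹ ∈ (R : Subgroup (F.autGroup Q)) :=
    hγ ⟨_, Subgroup.mem_zpowers _, rfl⟩
  rw [hR, Subgroup.mem_subgroupOf] at hmemR
  have hζ : ((γ * ⟨_, hξ₁F⟩ * γ⁻¹ : F.autGroup Q) : MulAut Q) ∈ h.D.autGroup Q :=
    h.autInducedBy_le_D hQT hmemR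
  have hγF : IsFIso F ((γ : MulAut Q) : Q ≃* Q) := (mem_autGroup_iff_isFIso F hQS _).mp γ.2
  have hη : IsFIso F (θ.trans ((γ : MulAut Q) : Q ≃* Q)) := hθ.trans hγF
  have h1 := Crav.congr_mem_autGroup_of_strongInv' h.strongInv_D hQT hPT hη.symm hζ
  have e : MulAut.congr (θ.trans ((γ : MulAut Q) : Q ≃* Q)).symm
      ((γ * ⟨_, hξ₁F⟩ * γ⁻¹ : F.autGroup Q) : MulAut Q) = (ξ : MulAut P) := by
    ext x
    simp [MulAut.congr]
  rw [e] at h1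
  exact h1

end KData

end Cfsg.Agent.Lib.Helper26.OlvN
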