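import Cfsg.Agent.Lib.Helper26.OlvND

/-!
Towards S5243 (Oliver's lemma), part E: properties of the system `N` of maps of `F` restricting into `E·K`:
its automorphisms of `S`, the `p`-elements, and the "going up" property.
-/

set_option autoImplicit false

namespace Cfsg.Agent.Lib.Helper26.OlvN

open Cfsg Cfsg.FusionSystem Cfsg.Agent.Lib.Helper26 Cfsg.Agent.Lib.Helper27 Cfsg.Agent.Lib.Helper26.PPLeast

variable {Ω : Type*} [Group Ω] {S T : Subgroup Ω}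

/-- A map of a system from a finite subgroup `Q` into `Q` is an automorphism of the system. -/
theorem exists_aut_of_hom_self (F : FusionSystem S) {Q : Subgroup Ω} [Finite Q] {φ : Q →* Ω} (hφ : φ ∈ F.Hom Q)
    (hφQ : ∀ x, φ x ∈ Q) : ∃ a ∈ F.autGroup Q, ∀ x : Q, ((a x : Q) : Ω) = φ x := by
  have hle : φ.range ≤ Q := by
    rintro _ ⟨x, rfl⟩
    exact hφQ x
  have hr : φ.range = Q := by
    apply Subgroup.eq_of_le_of_card_ge hle
    rw [Nat.card_congr (MonoidHom.ofInjective (F.injective_of_mem hφ)).toEquiv]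
  refine ⟨homEquiv F hφ hr, ?_, fun x => rfl⟩
  rw [mem_autGroup_iff_isFIso F (hom_le F hφ)]
  exact homEquiv_isFIso F hφ hr

namespace KData

variable {F : FusionSystem S} {E : FusionSystem T} {K : Subgroup (MulAut T)}

/-- The system `N`. -/
abbrev N (h : KData F E K) : FusionSystem S := charSystem F E K h

theorem mem_N_iff (h : KData F E K) (P : Subgroup Ω) (φ : P →* Ω) :
    φ ∈ h.N.Hom P ↔ φ ∈ F.Hom P ∧ resT T φ ∈ h.D.Hom (P ⊓ T) := Iff.rfl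

theorem N_le (h : KData F E K) (P : Subgroup Ω) : h.N.Hom P ⊆ F.Hom P := fun _ hφ => hφ.1

/-- The restriction to `T` of an element of `Aut_F(S)`. -/
theorem exists_resT_aut [Finite S] (h : KData F E K) {α : MulAut S} (hα : α ∈ F.autGroup S) :
    ∃ a ∈ F.autGroup T, ∀ t : T, ((a t : T) : Ω) = ((α ⟨t, h.le t.2⟩ : S) : Ω) := by
  have hfinT : Finite T := finite_of_le h.le
  have hαF : S.subtype.comp α.toMonoidHom ∈ F.Hom S := (mem_autGroup_iff F le_rfl α).mp hα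
  have h1 : resAut α T h.le ∈ F.Hom T := inclusion_comp_mem F h.le hαF
  have h2 : ∀ x : T, resAut α T h.le x ∈ T := fun x => h.closed.2 T le_rfl _ h1 x
  obtain ⟨a, ha, hax⟩ := exists_aut_of_hom_self F h1 h2
  exact ⟨a, ha, hax⟩

theorem mem_autGroup_N_iff [Finite S] (h : KData F E K) (α : MulAut S) :
    α ∈ h.N.autGroup S ↔ α ∈ F.autGroup S ∧ ∃ β ∈ K, ∀ t : T, ((β t : T) : Ω) = ((α ⟨t, h.le t.2⟩ : S) : Ω) := by
  have hfinT : Finite T := finite_of_le h.le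
  rw [mem_autGroup_iff _ le_rfl, mem_N_iff, ← mem_autGroup_iff F le_rfl]
  constructor
  · rintro ⟨hαF, hD⟩
    refine ⟨hαF, ?_⟩
    obtain ⟨β₀, hβ₀, φ₀, hφ₀, hφβ⟩ := (h.mem_D_iff _ _).mp hD
    have heq : S ⊓ T = T := inf_eq_right.mpr h.le
    have hφ₁ := hom_congr E heq hφ₀
    obtain ⟨γ, hγ, hγx⟩ := exists_aut_of_hom_self E hφ₁ (hom_apply_mem E hφ₁)
    refine ⟨β₀ * γ, K.mul_mem hβ₀ (h.KE hγ), fun t => ?_⟩
    have h1 := hφβ ⟨t, ⟨h.le t.2, t.2⟩⟩ (hom_apply_mem E hφ₀ _)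
    rw [MulAut.mul_apply]
    have e : γ t = ⟨φ₀ ⟨t, ⟨h.le t.2, t.2⟩⟩, hom_apply_mem E hφ₀ _⟩ := Subtype.ext (hγx t)
    rw [e, ← h1]
    rfl
  · rintro ⟨hαF, β, hβ, hβα⟩
    refine ⟨hαF, ?_⟩
    exact (h.mem_D_iff _ _).mpr ⟨β, hβ, (S ⊓ T).subtype, subtype_mem E inf_le_right,
      fun x hx => (hβα ⟨x, hx⟩).symm⟩

/-- `N` contains all `p`-elements of `Aut_F(P)`. -/
theorem pgenAut_le_N [Finite S] {p : ℕ} [Fact p.Prime] (h : KData F E K) (hS : IsPGroup p S)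
    (hF : F.IsSaturated p) {P : Subgroup Ω} (hP : P ≤ S) :
    pgenAut F p P ≤ h.N.autGroup P := by
  unfold pgenAut
  rw [MonoidHom.map_closure, Subgroup.closure_le]
  rintro _ ⟨ξ, ⟨k, hk⟩, rfl⟩
  show (ξ : MulAut P) ∈ h.N.autGroup P
  rw [mem_autGroup_iff _ hP, mem_N_iff]
  have hξF : P.subtype.comp (ξ : MulAut P).toMonoidHom ∈ F.Hom P := (mem_autGroup_iff F hP _).mp ξ.2
  refine ⟨hξF, ?_⟩
  have hRS : P ⊓ T ≤ S := inf_le_left.trans hP
  have hfinR : Finite ↥(P ⊓ T) := finite_of_le hRS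
  obtain ⟨ρ, hρ⟩ : ∃ ρ : ↥(P ⊓ T) →* Ω, ρ = resT T (P.subtype.comp (ξ : MulAut P).toMonoidHom) := ⟨_, rfl⟩
  have hρF : ρ ∈ F.Hom (P ⊓ T) := by
    rw [hρ]
    exact inclusion_comp_mem F inf_le_left hξF
  have hρx : ∀ x : ↥(P ⊓ T), ρ x = (((ξ : MulAut P) ⟨x, x.2.1⟩ : P) : Ω) := fun x => by rw [hρ]; rfl
  have hρR : ∀ x, ρ x ∈ P ⊓ T := by
    intro x
    refine ⟨?_, h.closed.2 (P ⊓ T) inf_le_right _ hρF x⟩
    rw [hρx]
    exact ((ξ : MulAut P) _).2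
  obtain ⟨ζ, hζ, hζx⟩ := exists_aut_of_hom_self F hρF hρR
  have hpow : ∀ (n : ℕ) (x : ↥(P ⊓ T)), (((ζ ^ n) x : ↥(P ⊓ T)) : Ω) = ((((ξ : MulAut P) ^ n) ⟨x, x.2.1⟩ : P) : Ω) := by
    intro n
    induction n with
    | zero => intro x; rfl
    | succ n ih =>
      intro x
      rw [pow_succ', pow_succ', MulAut.mul_apply, MulAut.mul_apply, hζx, hρx]
      congr 2
      apply Subtype.ext
      exact ih x
  have hξpow : (ξ : MulAut P) ^ (p ^ k) = 1 := by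
    have := pow_orderOf_eq_one ξ
    rw [hk] at this
    have h2 := congrArg (fun w : F.autGroup P => (w : MulAut P)) this
    simpa using h2
  have hζpow : ζ ^ (p ^ k) = 1 := by
    ext x
    rw [hpow, hξpow]
    rfl
  obtain ⟨j, -, hj⟩ := (Nat.dvd_prime_pow (Fact.out : p.Prime)).mp (orderOf_dvd_of_pow_eq_one hζpow)
  have hζD : ζ ∈ h.D.autGroup (P ⊓ T) := by
    apply h.pgenAut_le_D hS hF inf_le_right
    refine ⟨⟨ζ, hζ⟩, Subgroup.subset_closure ⟨j, ?_⟩, rfl⟩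
    rw [Subgroup.orderOf_mk]
    exact hj
  rw [mem_autGroup_iff _ inf_le_right] at hζD
  have : resT T (P.subtype.comp (ξ : MulAut P).toMonoidHom) = (P ⊓ T).subtype.comp ζ.toMonoidHom := by
    rw [← hρ]
    ext x
    exact (hζx x).symm
  rw [this]
  exact hζD

end KData

end Cfsg.Agent.Lib.Helper26.OlvN
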