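import Cfsg.Agent.Lib.Helper26.OlvNE

/-!
Towards S5243 (Oliver's lemma), part F: an element of `Aut_F(T)` whose restriction to an `E`-centric subgroup is a map
of `E` lies in `K`; the "going up" property of `N`.
-/

set_option autoImplicit false

namespace Cfsg.Agent.Lib.Helper26.OlvN

open Cfsg Cfsg.FusionSystem Cfsg.Agent.Lib.Helper26 Cfsg.Agent.Lib.Helper27 Cfsg.Agent.Lib.Helper26.PPLeast

variable {Ω : Type*} [Group Ω] {S T : Subgroup Ω}

/-- If the restriction of `β ∈ Aut_F(T)` to `R` is a map of the invariant system `E`, so are the restrictions of its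
powers. -/
theorem resAut_pow_mem {E : FusionSystem T} {F : FusionSystem S} (hinv : AutInv E F) {β : MulAut T}
    (hβ : β ∈ F.autGroup T) {R : Subgroup Ω} (hRT : R ≤ T) (hres : resAut β R hRT ∈ E.Hom R) :
    ∀ j : ℕ, resAut (β ^ j) R hRT ∈ E.Hom R := by
  intro j
  induction j with
  | zero =>
    have : resAut (β ^ 0) R hRT = R.subtype := by
      ext x
      rfl
    rw [this]
    exact subtype_mem E hRT
  | succ j ih =>
    obtain ⟨χ, hχ, hχ'⟩ := hinv.exists hRT hres (pow_mem hβ j)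
    have hmem : ∀ x : R, resAut (β ^ j) R hRT x ∈ imgAut (β ^ j) R :=
      fun x => apply_mem_imgAut (β ^ j) ⟨x, hRT x.2⟩ x.2
    have h1 := E.comp_mem ih hχ hmem
    have : resAut (β ^ (j + 1)) R hRT = χ.comp ((resAut (β ^ j) R hRT).codRestrict _ hmem) := by
      ext x
      have h2 := hχ' ⟨x, hRT x.2⟩ x.2 (hmem x)
      show (((β ^ (j + 1)) ⟨x, hRT x.2⟩ : T) : Ω) = χ ⟨((β ^ j) ⟨x, hRT x.2⟩ : T), hmem x⟩
      rw [h2, pow_succ, MulAut.mul_apply]
      rfl
    rw [this]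
    exact h1

namespace KData

variable {F : FusionSystem S} {E : FusionSystem T} {K : Subgroup (MulAut T)}

/-- **Key lemma**: an element of `Aut_F(T)` whose restriction to some `E`-centric subgroup is a map of `E` lies in
`K`, provided `K` contains the `p`-elements of `Aut_F(T)`. -/
theorem mem_K_of_resAut_mem [Finite S] {p : ℕ} [Fact p.Prime] (h : KData F E K) (hS : IsPGroup p S)
    (hEsat : E.IsSaturated p) (hKp : pgenAut F p T ≤ K) {β : MulAut T} (hβ : β ∈ F.autGroup T)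
    {R : Subgroup Ω} (hRc : E.IsCentric R) (hres : resAut β R hRc.1 ∈ E.Hom R) : β ∈ K := by
  have hfinT : Finite T := finite_of_le h.le
  have hT : IsPGroup p T := hS.to_le h.le
  have hpow := resAut_pow_mem h.inv.2.2.1 hβ hRc.1 hres
  obtain ⟨u, v, huv, hu, hv, ⟨k, hk⟩, hvcop⟩ := exists_pPart_decomp p β
  have huF : u ∈ F.autGroup T := (Subgroup.zpowers_le.mpr hβ) hu
  have hvF : Subgroup.zpowers v ≤ F.autGroup T := Subgroup.zpowers_le.mpr ((Subgroup.zpowers_le.mpr hβ) hv)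
  have huK : u ∈ K := by
    apply hKp
    refine ⟨⟨u, huF⟩, Subgroup.subset_closure ⟨k, ?_⟩, rfl⟩
    rw [Subgroup.orderOf_mk]
    exact hk
  obtain ⟨n, hn⟩ : ∃ n : ℕ, β ^ n = v := by
    have := (mem_powers_iff_mem_zpowers (x := β) (y := v)).mpr hv
    exact (Submonoid.mem_powers_iff v β).mp this
  have hvres : resAut v R hRc.1 ∈ E.Hom R := by
    rw [← hn]
    exact hpow n
  have hv0 : orderOf v ≠ 0 := (orderOf_pos v).ne'
  obtain ⟨j, hvj, hTj⟩ := exists_exponent p hT v hvcop hv0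
  have hvE := mem_autGroup_of_resAut_mem hT E hEsat v j hvj hTj (invUnder_of_autInv h.inv.2.2.1 hvF) hRc hvres
  rw [huv]
  exact K.mul_mem huK (h.KE hvE)

/-- **Going up**: an element of `Aut_F(S)` whose restriction to some `R` with `R ∩ T` centric in `E` lies in `N`
lies in `Aut_N(S)`. -/
theorem aut_mem_N_of_resAut_mem [Finite S] {p : ℕ} [Fact p.Prime] (h : KData F E K) (hS : IsPGroup p S)
    (hEsat : E.IsSaturated p) (hKp : pgenAut F p T ≤ K) {α : MulAut S} (hα : α ∈ F.autGroup S)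
    {R : Subgroup Ω} (hRS : R ≤ S) (hRc : E.IsCentric (R ⊓ T)) (hres : resAut α R hRS ∈ h.N.Hom R) :
    α ∈ h.N.autGroup S := by
  rw [mem_autGroup_N_iff]
  refine ⟨hα, ?_⟩
  obtain ⟨a, ha, hax⟩ := h.exists_resT_aut hα
  refine ⟨a, ?_, hax⟩
  obtain ⟨β₀, hβ₀, φ₀, hφ₀, hφβ⟩ := (h.mem_D_iff _ _).mp ((h.mem_N_iff _ _).mp hres).2
  have hβ₀F : β₀ ∈ F.autGroup T := h.KF hβ₀
  have hβF : β₀⁻¹ * a ∈ F.autGroup T := mul_mem (inv_mem hβ₀F) ha
  have hres' : resAut (β₀⁻¹ * a) (R ⊓ T) hRc.1 ∈ E.Hom (R ⊓ T) := by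
    have : resAut (β₀⁻¹ * a) (R ⊓ T) hRc.1 = φ₀ := by
      ext x
      have hφ₀x : φ₀ x ∈ T := hom_apply_mem E hφ₀ x
      have h1 := hφβ x hφ₀x
      show (((β₀⁻¹ * a) ⟨x, hRc.1 x.2⟩ : T) : Ω) = φ₀ x
      rw [MulAut.mul_apply]
      have e : a ⟨x, hRc.1 x.2⟩ = β₀ ⟨φ₀ x, hφ₀x⟩ := by
        apply Subtype.ext
        rw [hax, ← h1]
        rfl
      rw [e, MulAut.inv_apply_self]
    rw [this]
    exact hφ₀
  have hK := h.mem_K_of_resAut_mem hS hEsat hKp hβF hRc hres'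
  have : a = β₀ * (β₀⁻¹ * a) := by group
  rw [this]
  exact K.mul_mem hβ₀ hK

end KData

end Cfsg.Agent.Lib.Helper26.OlvN
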