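import Cfsg.Agent.Lib.Helper26.OlvNG

/-!
Towards S5243 (Oliver's lemma), part H: a subgroup `P` with `P ∩ T` not centric in the invariant subsystem `E` has an
`F`-conjugate `P*` with `C_T(P* ∩ T) ≰ P* ∩ T`.
-/

set_option autoImplicit false

namespace Cfsg.Agent.Lib.Helper26.OlvN

open Cfsg Cfsg.FusionSystem Cfsg.Agent.Lib.Helper26 Cfsg.Agent.Lib.Helper27 Cfsg.Agent.Lib.Helper26.PPLeast

variable {Ω : Type*} [Group Ω] {S T : Subgroup Ω}

section

variable [Finite S] {p : ℕ} [Fact p.Prime]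

/-- If `R* ≤ T` is fully normalized in the saturated system `F` and some `F`-conjugate `Q'` of `R*` has
`C_T(Q') ≰ Q'`, then `C_T(R*) ≰ R*`. -/
theorem bad_of_fullyNormalized (hS : IsPGroup p S) (F : FusionSystem S) (hF : F.IsSaturated p)
    (hT : F.StronglyClosed T) {Rs Q' : Subgroup Ω} (hRs : F.IsFullyNormalized Rs) (hconj : F.IsConj Q' Rs)
    (hbad : ¬ centralizerIn T Q' ≤ Q') : ¬ centralizerIn T Rs ≤ Rs := by
  have hFA := (saturated_fn hS F hF hRs).2
  have hRec := saturated_fn_receptive hS F hF hRs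
  obtain ⟨χ, hχ, hχN, hχm⟩ := exists_normalizer_hom hS F hFA hRec hconj
  intro hle
  apply hbad
  intro c hc
  have hc' := mem_centralizerIn_iff.mp hc
  have hQ'S : Q' ≤ S := isConj_le_left F hconj
  have hcN : c ∈ normalizerIn S Q' := by
    refine ⟨hT.1 hc'.1, ?_⟩
    apply mem_normalizer_of_conj_mem
    · intro y hy
      have := hc'.2 y hy
      have e : c * y * c⁻¹ = y := by rw [← this]; group
      rw [e]; exact hy
    · intro y hy
      have := hc'.2 y hy
      have e : c⁻¹ * y * c = y := by rw [mul_assoc, this]; group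
      rw [e]; exact hy
  have hχc : χ ⟨c, hcN⟩ ∈ centralizerIn T Rs := by
    rw [mem_centralizerIn_iff]
    refine ⟨apply_mem_of_stronglyClosed F hT hχ ⟨c, hcN⟩ hc'.1, ?_⟩
    intro r hr
    rw [← hχm] at hr
    obtain ⟨q, hq, rfl⟩ := hr
    rw [SetLike.mem_coe, Subgroup.mem_subgroupOf] at hq
    have h1 := hc'.2 q hq
    have h2 : q * ⟨c, hcN⟩ = ⟨c, hcN⟩ * q := Subtype.ext h1
    rw [← map_mul, ← map_mul, h2]
  have h3 := hle hχc
  rw [← hχm] at h3
  obtain ⟨q, hq, hqc⟩ := h3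
  rw [SetLike.mem_coe, Subgroup.mem_subgroupOf] at hq
  have h4 := F.injective_of_mem hχ hqc
  rw [h4] at hq
  exact hq

/-- **Existence of a bad conjugate.** -/
theorem exists_conj_bad (hS : IsPGroup p S) (F : FusionSystem S) (hF : F.IsSaturated p) {E : FusionSystem T}
    (hE : E.IsInvariantIn F) {P : Subgroup Ω} (hPS : P ≤ S) (hnc : ¬ E.IsCentric (P ⊓ T)) :
    ∃ Ps, F.IsConj P Ps ∧ ¬ centralizerIn T (Ps ⊓ T) ≤ Ps ⊓ T := by
  have hT : F.StronglyClosed T := hE.2.1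
  have hRS : P ⊓ T ≤ S := inf_le_left.trans hPS
  rw [isCentric_iff_of_invariant hE] at hnc
  push Not at hnc
  obtain ⟨Q', hRQ', hQ'bad⟩ := hnc inf_le_right
  obtain ⟨Rs, hRRs, hRsn⟩ := exists_fullyNormalized_conj F hRS
  have hRsbad := bad_of_fullyNormalized hS F hF hT hRsn (isConj_trans F (isConj_symm F hRQ') hRRs) hQ'bad
  have hFA := (saturated_fn hS F hF hRsn).2
  have hRec := saturated_fn_receptive hS F hF hRsn
  obtain ⟨χ, hχ, hχN, hχm⟩ := exists_normalizer_hom hS F hFA hRec hRRs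
  have hSN : S ≤ Subgroup.normalizer (T : Set Ω) := le_normalizer_of_stronglyClosed F hT
  have hPN : P ≤ normalizerIn S (P ⊓ T) := by
    intro x hx
    refine ⟨hPS hx, ?_⟩
    have key : ∀ z ∈ P, ∀ y ∈ P ⊓ T, z * y * z⁻¹ ∈ P ⊓ T := by
      intro z hz y hy
      exact ⟨P.mul_mem (P.mul_mem hz hy.1) (P.inv_mem hz),
        (Subgroup.mem_normalizer_iff.mp (hSN (hPS hz)) y).mp hy.2⟩
    apply mem_normalizer_of_conj_mem (key x hx)
    intro y hy
    have := key x⁻¹ (P.inv_mem hx) y hy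
    simpa using this
  obtain ⟨φ, hφdef⟩ : ∃ φ : P →* Ω, φ = χ.comp (Subgroup.inclusion hPN) := ⟨_, rfl⟩
  have hφ : φ ∈ F.Hom P := hφdef ▸ inclusion_comp_mem F hPN hχ
  refine ⟨φ.range, ⟨φ, hφ, rfl⟩, ?_⟩
  have hr : φ.range ⊓ T = Rs := by
    rw [← range_resT F hT hφ, ← hχm]
    ext y
    constructor
    · rintro ⟨x, rfl⟩
      refine ⟨Subgroup.inclusion hPN (Subgroup.inclusion inf_le_left x), ?_, ?_⟩
      · rw [SetLike.mem_coe, Subgroup.mem_subgroupOf]
        exact x.2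
      · rw [hφdef]
        rfl
    · rintro ⟨z, hz, rfl⟩
      rw [SetLike.mem_coe, Subgroup.mem_subgroupOf] at hz
      refine ⟨⟨z, hz⟩, ?_⟩
      rw [hφdef]
      rfl
  rw [hr]
  exact hRsbad

end

end Cfsg.Agent.Lib.Helper26.OlvN
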