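import Cfsg.Agent.Lib.Helper26.OlvNI

/-!
Towards S5243 (Oliver's lemma), part J: the system `N` is invariant under `Aut_F(S)`, hence so is the subsystem
generated by its maps between members of `ℋ`.
-/

set_option autoImplicit false

namespace Cfsg.Agent.Lib.Helper26.OlvN

open Cfsg Cfsg.FusionSystem Cfsg.Agent.Lib.Helper26 Cfsg.Agent.Lib.Helper27 Cfsg.Agent.Lib.Helper26.PPLeast

variable {Ω : Type*} [Group Ω] {S T : Subgroup Ω}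

namespace KData

variable {F : FusionSystem S} {E : FusionSystem T} {K : Subgroup (MulAut T)}

/-- `N` is invariant under `Aut_F(S)`. -/
theorem autInv_N [Finite S] (h : KData F E K) : AutInv h.N F := by
  intro P hPS φ hφ α hα
  obtain ⟨χ, hχF, hχ'⟩ := twistIn_self F hα hφ.1 (imgAut α P) rfl
  obtain ⟨a, ha, hax⟩ := h.exists_resT_aut hα
  have hαF : S.subtype.comp α.toMonoidHom ∈ F.Hom S := (mem_autGroup_iff F le_rfl α).mp hα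
  have hTiff : ∀ y : S, (y : Ω) ∈ T ↔ ((α y : S) : Ω) ∈ T :=
    fun y => apply_mem_iff_of_stronglyClosed F h.closed hαF y
  have hφD : resT T φ ∈ h.D.Hom (P ⊓ T) := hφ.2
  obtain ⟨χ', hχ'D, hχ''⟩ := h.autInv_D.exists (inf_le_right : P ⊓ T ≤ T) hφD ha
  have heq : imgAut a (P ⊓ T) = imgAut α P ⊓ T := by
    ext w
    constructor
    · intro hw
      obtain ⟨y, hy, rfl⟩ := mem_imgAut.mp hw
      refine ⟨mem_imgAut.mpr ⟨⟨y, h.le y.2⟩, hy.1, (hax y).symm⟩, (a y).2⟩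
    · rintro ⟨hw, hwT⟩
      obtain ⟨x, hx, rfl⟩ := mem_imgAut.mp hw
      have hxT : (x : Ω) ∈ T := (hTiff x).mpr hwT
      exact mem_imgAut.mpr ⟨⟨x, hxT⟩, ⟨hx, hxT⟩, hax ⟨x, hxT⟩⟩
  have hres : resT T χ = χ'.comp (Subgroup.inclusion heq.ge) := by
    ext ⟨w, hw, hwT⟩
    obtain ⟨x, hx, rfl⟩ := mem_imgAut.mp hw
    have hxT : (x : Ω) ∈ T := (hTiff x).mpr hwT
    have h1 := hχ' x hx hw ⟨φ ⟨x, hx⟩, hom_apply_mem F hφ.1 _⟩ rfl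
    have hax' : ((a ⟨x, hxT⟩ : T) : Ω) ∈ imgAut a (P ⊓ T) := apply_mem_imgAut a ⟨x, hxT⟩ ⟨hx, hxT⟩
    have h2 := hχ'' ⟨x, hxT⟩ ⟨hx, hxT⟩ hax'
    show χ ⟨((α x : S) : Ω), hw⟩ = χ' ⟨((α x : S) : Ω), _⟩
    rw [h1]
    have e : (⟨((α x : S) : Ω), heq.ge ⟨hw, hwT⟩⟩ : ↥(imgAut a (P ⊓ T))) = ⟨(a ⟨x, hxT⟩ : T), hax'⟩ :=
      Subtype.ext (hax ⟨x, hxT⟩).symm
    have e' : Subgroup.inclusion heq.ge ⟨((α x : S) : Ω), ⟨hw, hwT⟩⟩ = ⟨(a ⟨x, hxT⟩ : T), hax'⟩ := e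
    show _ = χ' (Subgroup.inclusion heq.ge ⟨((α x : S) : Ω), ⟨hw, hwT⟩⟩)
    rw [e', h2, hax]
    rfl
  refine ⟨χ, ⟨hχF, ?_⟩, ?_⟩
  · show resT T χ ∈ h.D.Hom (imgAut α P ⊓ T)
    rw [hres]
    exact hom_congr h.D heq hχ'D
  · intro x hφx hαx
    exact hχ' ⟨x, hPS x.2⟩ x.2 hαx ⟨φ x, hφx⟩ rfl

/-- A subsystem of `F` generated by the maps of `N` between members of `ℋ` is invariant under `Aut_F(S)`. -/
theorem autInv_of_gen [Finite S] (h : KData F E K) (X : FusionSystem S)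
    (hNX : ∀ P ∈ h.calH, h.N.Hom P ⊆ X.Hom P)
    (hgen : ∀ E' : FusionSystem S, (∀ P ∈ h.calH, h.N.Hom P ⊆ E'.Hom P) → ∀ P, X.Hom P ⊆ E'.Hom P) :
    AutInv X F := by
  have hsub : ∀ P, X.Hom P ⊆ (twistSystem F X).Hom P := by
    apply hgen (twistSystem F X)
    intro P hP φ hφ
    have hPS : P ≤ S := hP.1.1
    refine ⟨h.N_le P hφ, ?_⟩
    rintro β hβ Q rfl
    obtain ⟨χ, hχN, hχ'⟩ := h.autInv_N.exists hPS hφ hβ
    refine ⟨χ, hNX _ (h.calH_conj hP (isConj_imgAut F hβ hPS)) hχN, fun y hy h' z hz => ?_⟩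
    rw [hχ' y hy h']
    congr 2
    exact Subtype.ext hz.symm
  intro P hPS φ hφ α hα
  obtain ⟨χ, hχ, hχ'⟩ := twistSystem_autInv F X P hPS φ (hsub P hφ) α hα
  exact ⟨χ, twistSystem_le F X _ hχ, hχ'⟩

end KData

end Cfsg.Agent.Lib.Helper26.OlvN
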