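import Cfsg.Agent.Lib.Helper26.OlvNK

/-!
Towards S5243 (Oliver's lemma), part L: the normal subsystem `E` is contained in `X`.
-/

set_option autoImplicit false

namespace Cfsg.Agent.Lib.Helper26.OlvN

open Cfsg Cfsg.FusionSystem Cfsg.Agent.Lib.Helper26 Cfsg.Agent.Lib.Helper27 Cfsg.Agent.Lib.Helper26.PPLeast

variable {Ω : Type*} [Group Ω] {S T : Subgroup Ω}

namespace KData

variable {F : FusionSystem S} {E : FusionSystem T} {K : Subgroup (MulAut T)}

section

variable [Finite S] {p : ℕ} [Fact p.Prime]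

/-- The automorphisms in `E` of an `E`-centric subgroup lie in `X`. -/
theorem aut_mem_X (h : KData F E K) (hS : IsPGroup p S) (hF : F.IsSaturated p) (hEsat : E.IsSaturated p)
    (hKp : pgenAut F p T ≤ K) (X : FusionSystem S) (hXF : X.IsSubsystemOf F) (hfrat : Frat X F)
    (hNX : ∀ P ∈ h.calH, h.N.Hom P ⊆ X.Hom P) {U : Subgroup Ω} (hUc : E.IsCentric U) :
    E.autGroup U ≤ X.autGroup U := by
  have hUT : U ≤ T := hUc.1
  have hUS : U ≤ S := hUT.trans h.le
  obtain ⟨φ₀, hφ₀, hfn⟩ := exists_fn_conj_of_frat F X hXF hfrat hUS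
  obtain ⟨V, hV⟩ : ∃ V, V = φ₀.range := ⟨_, rfl⟩
  have hfnV : F.IsFullyNormalized V := hV ▸ hfn
  have hVS : V ≤ S := hfnV.1
  have heX : IsFIso X (homEquiv X hφ₀ hV.symm) := homEquiv_isFIso X hφ₀ hV.symm
  have heF : IsFIso F (homEquiv X hφ₀ hV.symm) := hXF U heX
  have hVT : V ≤ T := by
    rw [hV]
    rintro _ ⟨x, rfl⟩
    exact h.closed.2 U hUT φ₀ (hXF U hφ₀) x
  have hSI : StrongInv E F := strongInv_of_invariant h.inv.2.2.1 h.inv.2.2.2
  have hVc : E.IsCentric V := by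
    rw [isCentric_iff_of_invariant h.inv]
    exact ⟨hVT, fun Q hVQ => ((isCentric_iff_of_invariant h.inv U).mp hUc).2 Q
      (isConj_trans F ⟨φ₀, hXF U hφ₀, hV.symm⟩ hVQ)⟩
  have hRec := saturated_fn_receptive hS F hF hfnV
  have hQc : F.IsCentric (V ⊔ centralizerIn S V) := isCentric_sup_centralizerIn F (saturated_fn hS F hF hfnV).1
  intro γ hγ
  have hγ'' : MulAut.congr (homEquiv X hφ₀ hV.symm) γ ∈ E.autGroup V :=
    Crav.congr_mem_autGroup_of_strongInv' hSI hUT hVT heF hγ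
  obtain ⟨γ', hγ'⟩ : ∃ γ' : MulAut V, γ' = MulAut.congr (homEquiv X hφ₀ hV.symm) γ := ⟨_, rfl⟩
  rw [← hγ'] at hγ''
  obtain ⟨ψ, hψdef⟩ : ∃ ψ : V →* Ω, ψ = V.subtype.comp γ'.toMonoidHom := ⟨_, rfl⟩
  have hψE : ψ ∈ E.Hom V := hψdef ▸ (mem_autGroup_iff E hVT γ').mp hγ''
  have hψF : ψ ∈ F.Hom V := h.inv.1 V hψE
  have hψr : ψ.range = V := by
    rw [hψdef]
    exact equivHom_range (γ' : V ≃* V)
  obtain ⟨ψ₀, hψ₀, hext⟩ := hRec.2 V ψ hψF hψr
  have hVM : V ≤ extender S V ψ := le_extender hVS ψ (hom_apply_mem F hψF)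
  have hCM : centralizerIn S V ≤ extender S V ψ := centralizerIn_le_extender V ψ
  have hMS : extender S V ψ ≤ S := (extender_le S V ψ).trans (normalizerIn_le S V)
  have hMc : F.IsCentric (extender S V ψ) := isCentric_of_le F hQc (sup_le hVM hCM) hMS
  have hMTc : E.IsCentric (extender S V ψ ⊓ T) := isCentric_of_le E hVc (le_inf hVM hVT) inf_le_right
  have hψ₀N : ψ₀ ∈ h.N.Hom (extender S V ψ) := by
    refine ⟨hψ₀, ?_⟩
    apply h.mem_D_of_restrict hS hEsat hKp (le_inf hVM hVT : V ≤ extender S V ψ ⊓ T) inf_le_right hVc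
      (inclusion_comp_mem F inf_le_left hψ₀)
    have : (resT T ψ₀).comp (Subgroup.inclusion (le_inf hVM hVT : V ≤ extender S V ψ ⊓ T)) = ψ := by
      ext x
      exact hext x x.2 (hVM x.2)
    rw [this]
    exact h.le_D V hψE
  have hψ₀X : ψ₀ ∈ X.Hom (extender S V ψ) := hNX _ ⟨hMc, hMTc⟩ hψ₀N
  have hψX : ψ ∈ X.Hom V := by
    have : ψ = ψ₀.comp (Subgroup.inclusion hVM) := by
      ext x
      exact (hext x x.2 (hVM x.2)).symm
    rw [this]
    exact inclusion_comp_mem X hVM hψ₀X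
  have hγ'X : γ' ∈ X.autGroup V := by
    rw [mem_autGroup_iff X hVS, ← hψdef]
    exact hψX
  have h1 := congr_mem_autGroup X heX.symm hγ'X
  have e : MulAut.congr (homEquiv X hφ₀ hV.symm).symm γ' = γ := by
    rw [hγ']
    ext x
    simp [MulAut.congr]
  rw [e] at h1
  exact h1

/-- **`E ⊆ X`.** -/
theorem E_le_X (h : KData F E K) (hS : IsPGroup p S) (hF : F.IsSaturated p) (hEsat : E.IsSaturated p)
    (hKp : pgenAut F p T ≤ K) (X : FusionSystem S) (hXF : X.IsSubsystemOf F) (hfrat : Frat X F)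
    (hNX : ∀ P ∈ h.calH, h.N.Hom P ⊆ X.Hom P) : E.IsSubsystemOf X := by
  have hfinT : Finite T := finite_of_le h.le
  have hT : IsPGroup p T := hS.to_le h.le
  have hXT : X.StronglyClosed T := ⟨h.le, fun R hR φ hφ x => h.closed.2 R hR φ (hXF R hφ) x⟩
  have key : ∀ P : Subgroup Ω, E.Hom P ⊆ (subOn X T hXT).Hom P := by
    apply alperin_strong hT E hEsat
    intro U hU _ γ hγ
    have hUc : E.IsCentric U := by
      rcases hU with rfl | hess
      · exact isCentric_self E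
      · exact hess.1
    have h1 := h.aut_mem_X hS hF hEsat hKp X hXF hfrat hNX hUc hγ
    rw [mem_autGroup_iff _ hUc.1, mem_subOn_iff]
    exact ⟨hUc.1, (mem_autGroup_iff X (hUc.1.trans h.le) γ).mp h1⟩
  intro P φ hφ
  exact (key P hφ).2

end

end KData

end Cfsg.Agent.Lib.Helper26.OlvN
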