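import Cfsg.Agent.Lib.Helper26.OlvNL

/-!
Towards S5243 (Oliver's lemma), part M: assembling the normal subsystem.
-/

set_option autoImplicit false

namespace Cfsg.Agent.Lib.Helper26.OlvN

open Cfsg Cfsg.FusionSystem Cfsg.Agent.Lib.Helper26 Cfsg.Agent.Lib.Helper27 Cfsg.Agent.Lib.Helper26.PPLeast

variable {Ω : Type*} [Group Ω] {S T : Subgroup Ω}

/-- The extension condition is automatic for subsystems over `S` itself. -/
theorem extension_top [Finite S] (F : FusionSystem S) {α : MulAut S} (hα : α ∈ F.autGroup S) :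
    ∃ β ∈ F.autGroup (S ⊔ centralizerIn S S),
      (∀ x : S, ((β (Subgroup.inclusion le_sup_left x) : ↥(S ⊔ centralizerIn S S)) : Ω) = ((α x : S) : Ω)) ∧
      ∀ c : ↥(S ⊔ centralizerIn S S), (c : Ω) ∈ centralizerIn S S →
        (c : Ω)⁻¹ * ((β c : ↥(S ⊔ centralizerIn S S)) : Ω) ∈ S ⊓ Subgroup.centralizer (S : Set Ω) := by
  have hM : S = S ⊔ centralizerIn S S := (sup_eq_left.mpr (centralizerIn_le S S)).symm
  have hαF : S.subtype.comp α.toMonoidHom ∈ F.Hom S := (mem_autGroup_iff F le_rfl α).mp hα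
  have hφ := hom_congr F hM hαF
  have hfinM : Finite ↥(S ⊔ centralizerIn S S) := finite_of_le hM.ge
  have hφM : ∀ x, ((S.subtype.comp α.toMonoidHom).comp (Subgroup.inclusion hM.ge)) x ∈ S ⊔ centralizerIn S S :=
    fun x => hM.le (hom_apply_mem F hφ x)
  obtain ⟨β, hβ, hβx⟩ := exists_aut_of_hom_self F hφ hφM
  refine ⟨β, hβ, fun x => ?_, fun c hc => ?_⟩
  · rw [hβx]
    rfl
  · rw [hβx]
    have hc' := mem_centralizerIn_iff.mp hc
    have hcS : (c : Ω) ∈ S := hc'.1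
    show (c : Ω)⁻¹ * ((α ⟨c, hM.ge c.2⟩ : S) : Ω) ∈ S ⊓ Subgroup.centralizer (S : Set Ω)
    have hαc : ((α ⟨c, hM.ge c.2⟩ : S) : Ω) ∈ Subgroup.centralizer (S : Set Ω) := by
      rw [Subgroup.mem_centralizer_iff]
      intro s hs
      obtain ⟨s', hs'⟩ : ∃ s' : S, α s' = ⟨s, hs⟩ := ⟨α⁻¹ ⟨s, hs⟩, by simp⟩
      have h1 := hc'.2 s' s'.2
      have h2 : s' * ⟨c, hM.ge c.2⟩ = ⟨c, hM.ge c.2⟩ * s' := Subtype.ext h1
      have h3 := congrArg (fun w => ((α w : S) : Ω)) h2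
      simp only [map_mul, Subgroup.coe_mul, hs'] at h3
      exact h3
    refine ⟨S.mul_mem (S.inv_mem hcS) (α _).2, ?_⟩
    refine Subgroup.mul_mem _ (Subgroup.inv_mem _ ?_) hαc
    rw [Subgroup.mem_centralizer_iff]
    intro s hs
    exact hc'.2 s hs

/-- A saturated, `Aut_F(S)`-invariant subsystem over `S` with the Frattini property is normal. -/
theorem normal_of_sub [Finite S] {p : ℕ} (F X : FusionSystem S) (hF : F.IsSaturated p) (hX : X.IsSaturated p)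
    (hXF : X.IsSubsystemOf F) (hinv : AutInv X F) (hfrat : Frat X F) : X.IsNormalIn F p := by
  refine ⟨⟨hX, hF, hXF, stronglyClosed_top F, hinv, fun P _ φ hφ => hfrat P φ hφ⟩, ?_⟩
  intro α hα
  have hαF : α ∈ F.autGroup S :=
    (mem_autGroup_iff F le_rfl α).mpr (hXF S ((mem_autGroup_iff X le_rfl α).mp hα))
  exact extension_top F hαF

namespace KData

variable {F : FusionSystem S} {E : FusionSystem T} {K : Subgroup (MulAut T)}

section

variable [Finite S] {p : ℕ} [Fact p.Prime]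

/-- If `K` is proper in `Aut_F(T)`, a subsystem of `N` with the Frattini property misses an element of `Aut_F(S)`. -/
theorem exists_aut_not_mem (h : KData F E K) (X : FusionSystem S) (hXN : ∀ P, X.Hom P ⊆ h.N.Hom P)
    (hfrat : Frat X F) {b : MulAut T} (hb : b ∈ F.autGroup T) (hbK : b ∉ K) :
    ∃ α ∈ F.autGroup S, α ∉ X.autGroup S := by
  have hfinT : Finite T := finite_of_le h.le
  have hφ : T.subtype.comp b.toMonoidHom ∈ F.Hom T := (mem_autGroup_iff F h.le b).mp hb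
  obtain ⟨α, hα, φ₀, hφ₀, hφα⟩ := hfrat T _ hφ
  refine ⟨α, hα, fun hαX => hbK ?_⟩
  have hαN : α ∈ h.N.autGroup S :=
    (mem_autGroup_iff _ le_rfl α).mpr (hXN S ((mem_autGroup_iff X le_rfl α).mp hαX))
  obtain ⟨-, β, hβ, hβα⟩ := (h.mem_autGroup_N_iff α).mp hαN
  have hφ₀N := hXN T hφ₀
  obtain ⟨β₀, hβ₀, ψ₀, hψ₀, hφβ⟩ := (h.mem_D_iff _ _).mp ((h.mem_N_iff _ _).mp hφ₀N).2
  have heq : T ⊓ T = T := inf_idem T
  have hψ₁ := hom_congr E heq hψ₀
  obtain ⟨γ, hγ, hγx⟩ := exists_aut_of_hom_self E hψ₁ (hom_apply_mem E hψ₁)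
  have : b = β * β₀ * γ := by
    ext t
    have h1 := hφα t (hom_apply_mem F (hXN T hφ₀).1 t)
    have h2 := hφβ ⟨t, ⟨t.2, t.2⟩⟩ (hom_apply_mem E hψ₀ _)
    have hφ₀T : φ₀ t ∈ T := h.closed.2 T le_rfl φ₀ (hXN T hφ₀).1 t
    have h3 := hβα ⟨φ₀ t, hφ₀T⟩
    show ((b t : T) : Ω) = (((β * β₀ * γ) t : T) : Ω)
    rw [MulAut.mul_apply, MulAut.mul_apply]
    have e1 : ((b t : T) : Ω) = ((β ⟨φ₀ t, hφ₀T⟩ : T) : Ω) := by
      rw [h3]
      exact h1
    rw [e1]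
    congr 2
    apply Subtype.ext
    show φ₀ t = ((β₀ (γ t) : T) : Ω)
    have e2 : γ t = ⟨ψ₀ ⟨t, ⟨t.2, t.2⟩⟩, hom_apply_mem E hψ₀ _⟩ := Subtype.ext (hγx t)
    rw [e2, ← h2]
    rfl
  rw [this]
  exact K.mul_mem (K.mul_mem hβ hβ₀) (h.KE hγ)

/-- **Main theorem of the construction.** -/
theorem exists_normal (h : KData F E K) (hS : IsPGroup p S) (hF : F.IsSaturated p) (hEsat : E.IsSaturated p)
    (hKp : pgenAut F p T ≤ K) :
    ∃ X : FusionSystem S, X.IsNormalIn F p ∧ X.IsSaturated p ∧ X.HasPrimeToPIndexIn F p ∧ E.IsSubsystemOf X ∧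
      (∀ α : MulAut S, α ∈ X.autGroup S ↔
        α ∈ F.autGroup S ∧ ∃ β ∈ K, ∀ t : T, ((β t : T) : Ω) = ((α ⟨t, h.le t.2⟩ : S) : Ω)) ∧
      ((∃ b ∈ F.autGroup T, b ∉ K) → ∃ α ∈ F.autGroup S, α ∉ X.autGroup S) := by
  obtain ⟨X, hXsat, hXi, hXN, hNX, hfrat, -, hgen⟩ := h.exists_sub hS hF hEsat hKp
  have hXF : X.IsSubsystemOf F := hXi.1
  have hinv : AutInv X F := h.autInv_of_gen X hNX hgen
  refine ⟨X, normal_of_sub F X hF hXsat hXF hinv hfrat, hXsat, hXi,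
    h.E_le_X hS hF hEsat hKp X hXF hfrat hNX, ?_, ?_⟩
  · intro α
    rw [← h.mem_autGroup_N_iff α, mem_autGroup_iff X le_rfl, mem_autGroup_iff h.N le_rfl]
    constructor
    · exact fun hα => hXN S hα
    · intro hα
      refine hNX S ⟨isCentric_self F, ?_⟩ hα
      have : S ⊓ T = T := inf_eq_right.mpr h.le
      rw [this]
      have : Finite T := finite_of_le h.le
      exact isCentric_self E
  · rintro ⟨b, hb, hbK⟩
    exact h.exists_aut_not_mem X hXN hfrat hb hbK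

end

end KData

end Cfsg.Agent.Lib.Helper26.OlvN
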