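import Cfsg.Agent.Lib.Helper20.HHReduction
import Cfsg.Agent.Lib.Helper18.PowerMap

/-!
A `p'`-automorphism of a finite `p`-group fixing every element `x` with `x ^ p = 1` (and, when `p = 2`, every `x` with
`x ^ 4 = 1`) is trivial.  Unified version (all primes) via the Hall–Higman reduction.
-/

set_option autoImplicit false
open scoped commutatorElement

namespace Cfsg.Agent.Lib.Helper26

open Cfsg.Agent.Lib.Helper20 Cfsg.Agent.Lib.Helper18

theorem aut_eq_one_of_fix_small {G : Type*} [Group G] [Finite G] {p : ℕ} [Fact p.Prime] (hG : IsPGroup p G)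
    (a : MulAut G) (ha : (orderOf a).Coprime p)
    (h : ∀ x : G, (x ^ p = 1 ∨ (p = 2 ∧ x ^ 4 = 1)) → a x = x) : a = 1 := by
  have hpp : p.Prime := Fact.out
  by_contra hne
  obtain ⟨Q, hQinv, ⟨x, hxQ, hax⟩, hpc, hcc, hpf, hcf⟩ := exists_hh_reduction hG a ha hne
  apply hax
  apply fix_of_fix_comm hG a ha x
  apply h
  set u : G := x⁻¹ with hu
  set y : G := a x with hy
  have huQ : u ∈ Q := Q.inv_mem hxQ
  have hyQ : y ∈ Q := hQinv x hxQ
  set k : G := ⁅y, u⁆ with hk
  have hyu : y * u = k * u * y := by rw [hk, commutatorElement_def]; group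
  have hku : Commute k u := (hcc y hyQ u huQ u huQ).symm
  have hky : Commute k y := (hcc y hyQ u huQ y hyQ).symm
  have hkp : k ^ p = 1 := by
    have h1 := pow_mul_comm_of_central hyu hky p
    have h2 : u * y ^ p = y ^ p * u := hpc y hyQ u huQ
    rw [← h2] at h1
    have h3 : k ^ p * (u * y ^ p) = 1 * (u * y ^ p) := by rw [one_mul, ← mul_assoc, ← h1]
    exact mul_right_cancel h3
  have hyp : ∀ n : ℕ, y ^ (p * n) = x ^ (p * n) := by
    intro n
    rw [pow_mul, pow_mul, hy, ← map_pow, hpf x hxQ]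
  have hup : ∀ n : ℕ, u ^ (p * n) * y ^ (p * n) = 1 := by
    intro n
    rw [hyp, hu, inv_pow, inv_mul_cancel]
  by_cases hp2 : p = 2
  · right
    refine ⟨hp2, ?_⟩
    have h4 := mul_pow_of_central hyu hku hky 4
    have h5 := hup 2
    rw [hp2] at h5
    have h6 : k ^ 2 = 1 := by rw [← hp2]; exact hkp
    have h7 : (∑ i ∈ Finset.range 4, i) = 2 * 3 := by decide
    rw [h4, h5, h7, pow_mul, h6, one_pow, one_mul]
  · left
    have h4 := mul_pow_of_central hyu hku hky p
    have h5 := hup 1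
    rw [mul_one] at h5
    have h6 : p ∣ ∑ i ∈ Finset.range p, i := by
      have h7 := Finset.sum_range_id_mul_two p
      have h8 : p ∣ (∑ i ∈ Finset.range p, i) * 2 := ⟨p - 1, h7⟩
      have hcop : Nat.Coprime p 2 := by
        rw [Nat.coprime_primes hpp Nat.prime_two]; exact hp2
      exact hcop.dvd_of_dvd_mul_right h8
    obtain ⟨m, hm⟩ := h6
    rw [h4, h5, hm, pow_mul, hkp, one_pow, one_mul]

end Cfsg.Agent.Lib.Helper26
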