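import Mathlib
import Cfsg.Agent.Lib.Helper27.SylIntC
import Cfsg.Agent.Lib.Helper27.Ord5880
import Cfsg.Agent.Lib.Helper8.OrdSieveE
import Cfsg.Agent.Lib.Helper5.BLOrdC

set_option autoImplicit false

/-!
# No simple group of order 4800 = 2⁶·3·5²

`n₅ ∈ {16, 96}`.  `n₅ = 96` is excluded by the Brauer–Leonard degree equation (helper5's
`not_count_96_of_card_4800`).  `n₅ = 16` (`|N(P)| = 300`): every subgroup `D` of order 5 of `P`
lying in a second Sylow subgroup lies in exactly 6 of them; `15 = 25 a + 5 |T|` forces `|T| = 3`;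
with `k = |N(P) ∩ N(D)|` one has `25 ∣ k ∣ 300`, `6 k ∣ 4800` and `300 ≤ 3 k` (orbit bound), so
`k = 100`, `|N(D)| = 600` has index 8, but `4800 ∤ 8!/2`.
-/

namespace Cfsg.Agent.Lib.Helper26.Ord4800

open Subgroup
open scoped Pointwise
open Cfsg.Agent.Lib.Helper7 Cfsg.Agent.Lib.Helper8.OrdSieve Cfsg.Agent.Lib.Helper27.SylInt

theorem np5_4800 : npList 5 2 192 = [16, 96] := by decide +kernel

theorem arith_192 : ∀ s ≤ 16, s ∣ 192 → s % 5 = 1 → 2 ≤ s → s = 6 ∨ s = 16 := by
  decide

theorem arith_k_4800 : ∀ c ≤ 12, c ∣ 12 → 6 * (25 * c) ∣ 4800 → 300 ≤ 3 * (25 * c) →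
    c = 4 := by
  decide

theorem not_simple_4800 {G : Type*} [Group G] [Finite G] [IsSimpleGroup G] :
    Nat.card G ≠ 4800 := by
  intro hcard
  have hp5 : Nat.Prime 5 := by norm_num
  have : Fact (Nat.Prime 5) := ⟨hp5⟩
  have hG : ¬ IsMulCommutative G :=
    not_comm_of_card_not_prime (by rw [hcard]; norm_num)
  have hn : Nat.card G = 5 ^ 2 * 192 := by rw [hcard]; norm_num
  have hmem := sylow_count_mem hG hp5 (by norm_num) (by norm_num) hn (by norm_num)
  rw [np5_4800] at hmem
  obtain ⟨P⟩ : Nonempty (Sylow 5 G) := inferInstance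
  obtain ⟨hP, -⟩ := sylow_card_index_of_pow hn (by norm_num) P
  have hab : Ab (P : Subgroup G) := comm_of_card_prime_sq (P : Subgroup G) hP
  have hNcard := card_sylow_mul_card_normalizer P
  rw [hcard] at hNcard
  simp only [List.mem_cons, List.not_mem_nil, or_false] at hmem
  rcases hmem with h16 | h96
  · -- n₅ = 16
    rw [h16] at hNcard
    have hN : Nat.card ↥(normalizer ((P : Subgroup G) : Set G)) = 300 := by omega
    obtain ⟨T, a, hT1, hT2, hsum⟩ := card_sylow_partition P hP
    rw [h16] at hsum
    have hcore := normalCore_sylow_eq_bot P (by rw [hP, hcard]; norm_num)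
    -- general facts on `D ∈ T`
    have hfacts : ∀ D ∈ T, sCount 5 D = 6 ∧
        25 ∣ Nat.card ↥(normalizer ((P : Subgroup G) : Set G) ⊓ normalizer (D : Set G)) := by
      intro D hD
      obtain ⟨hDP, hDc, hs⟩ := hT1 D hD
      have hmod := sCount_modEq_one P hab D hDP
      have hle := sCount_le (p := 5) D
      rw [h16] at hle
      have hne16 : sCount 5 D ≠ 16 := by
        intro h
        have := le_normalCore_of_sCount_eq P D (by rw [h, h16])
        rw [hcore, le_bot_iff] at this
        rw [this, Subgroup.card_bot] at hDc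
        norm_num at hDc
      have hmul := sCount_mul P hab D hDP
      have hPle : (P : Subgroup G) ≤
          normalizer ((P : Subgroup G) : Set G) ⊓ normalizer (D : Set G) :=
        le_inf Subgroup.le_normalizer (le_normalizer_of_le P hab D hDP)
      have h25k : 25 ∣ Nat.card ↥(normalizer ((P : Subgroup G) : Set G) ⊓
          normalizer (D : Set G)) := by
        have := Subgroup.card_dvd_of_le hPle
        rw [hP] at this
        exact this
      refine ⟨?_, h25k⟩
      have hdvd : sCount 5 D * Nat.card ↥(normalizer ((P : Subgroup G) : Set G) ⊓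
          normalizer (D : Set G)) ∣ 4800 := by
        rw [hmul, ← hcard]
        exact Subgroup.card_subgroup_dvd_card _
      have hs192 : sCount 5 D ∣ 192 := by
        obtain ⟨c, hc⟩ := h25k
        rw [hc] at hdvd
        have h1 : 25 * (sCount 5 D * c) ∣ 25 * 192 := by
          have e : 25 * (sCount 5 D * c) = sCount 5 D * (25 * c) := by ring
          rw [e]; exact hdvd
        have h2 := Nat.dvd_of_mul_dvd_mul_left (by norm_num) h1
        exact (Dvd.intro _ rfl).trans h2
      unfold Nat.ModEq at hmod
      rcases arith_192 (sCount 5 D) hle hs192 (by omega) (by omega) with h | h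
      · exact h
      · exact absurd h hne16
    rw [Finset.sum_congr rfl (fun D hD => by rw [(hfacts D hD).1])] at hsum
    rw [Finset.sum_const, smul_eq_mul] at hsum
    have hT3c : T.card = 3 := by omega
    obtain ⟨D, hD⟩ : T.Nonempty := by
      rw [← Finset.card_pos, hT3c]; norm_num
    obtain ⟨hDP, hDc, hs⟩ := hT1 D hD
    obtain ⟨hs6, h25k⟩ := hfacts D hD
    have hmul := sCount_mul P hab D hDP
    rw [hs6] at hmul
    have hk300 : Nat.card ↥(normalizer ((P : Subgroup G) : Set G) ⊓ normalizer (D : Set G)) ∣
        300 := by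
      rw [← hN]
      exact Subgroup.card_dvd_of_le inf_le_left
    have hND : 6 * Nat.card ↥(normalizer ((P : Subgroup G) : Set G) ⊓ normalizer (D : Set G)) ∣
        4800 := by
      rw [hmul, ← hcard]
      exact Subgroup.card_subgroup_dvd_card _
    have hle := card_normalizer_le P T D
      (fun n hn => conj_mem_of_mem P T hT2 D hDP hDc hs n hn)
    rw [hN, hT3c] at hle
    obtain ⟨c, hc⟩ := h25k
    rw [hc] at hk300 hND hle hmul
    have hc12 : c ∣ 12 := by
      have : 25 * c ∣ 25 * 12 := hk300
      exact Nat.dvd_of_mul_dvd_mul_left (by norm_num) this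
    have hcle : c ≤ 12 := Nat.le_of_dvd (by norm_num) hc12
    have h4 := arith_k_4800 c hcle hc12 hND hle
    -- `|N(D)| = 600`, index 8
    rw [h4] at hmul
    have h600 : Nat.card ↥(normalizer (D : Set G)) = 600 := by rw [← hmul]
    have hidx : (normalizer (D : Set G)).index = 8 := by
      have := Subgroup.card_mul_index (normalizer (D : Set G))
      rw [h600, hcard] at this
      omega
    have hne : normalizer (D : Set G) ≠ ⊤ := by
      intro h
      rw [h, Subgroup.index_top] at hidx
      norm_num at hidx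
    have := card_dvd_half_factorial hG (normalizer (D : Set G)) hne
    rw [hidx, hcard] at this
    revert this
    decide
  · -- n₅ = 96: Brauer–Leonard
    exact Cfsg.Agent.Lib.Helper5.BLOrd.not_count_96_of_card_4800 hcard h96

end Cfsg.Agent.Lib.Helper26.Ord4800
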