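import Mathlib
import Cfsg.Agent.Lib.Helper8.OrdSieveE

/-!
helper26: Sylow `p`-subgroups of order `p ^ 2`: intersections `P ⊓ Q`, the Sylow subgroups
containing a given subgroup `D` of order `p` (they are the Sylow subgroups of `N(D)`), and counting
tools (for the residual orders of S0983).
-/

set_option autoImplicit false
set_option linter.unusedSectionVars false
set_option linter.style.haveILetI false

namespace Cfsg.Agent.Lib.Helper26.SylSq

open Subgroup

variable {G : Type*} [Group G] [Finite G] {p : ℕ} [Fact p.Prime]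

/-- a subgroup of order `p ^ 2` is commutative -/
theorem comm_of_card_sq (P : Subgroup G) (hP : Nat.card P = p ^ 2) :
    ∀ x ∈ P, ∀ y ∈ P, x * y = y * x := by
  intro x hx y hy
  haveI := IsPGroup.isMulCommutative_of_card_eq_prime_sq hP
  have := (IsMulCommutative.is_comm (M := ↥P)).comm ⟨x, hx⟩ ⟨y, hy⟩
  exact congrArg Subtype.val this

/-- a subgroup of order `p ^ 2` centralizes its subgroups -/
theorem le_centralizer_of_card_sq (P D : Subgroup G) (hP : Nat.card P = p ^ 2) (hD : D ≤ P) :
    P ≤ centralizer (D : Set G) := by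
  intro x hx
  rw [mem_centralizer_iff]
  intro d hd
  exact comm_of_card_sq P hP d (hD hd) x hx

theorem le_normalizer_of_card_sq (P D : Subgroup G) (hP : Nat.card P = p ^ 2) (hD : D ≤ P) :
    P ≤ normalizer (D : Set G) :=
  (le_centralizer_of_card_sq P D hP hD).trans (centralizer_le_normalizer _)

/-- two Sylow subgroups of order `p ^ 2` meet trivially or in a subgroup of order `p` -/
theorem card_inf_cases (P Q : Sylow p G) (hP : Nat.card (P : Subgroup G) = p ^ 2)
    (hQ : Nat.card (Q : Subgroup G) = p ^ 2) (hne : Q ≠ P) :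
    ((P : Subgroup G) ⊓ Q = ⊥) ∨ Nat.card ((P : Subgroup G) ⊓ Q : Subgroup G) = p := by
  have hp : p.Prime := Fact.out
  have hdvd : Nat.card ((P : Subgroup G) ⊓ Q : Subgroup G) ∣ p ^ 2 := by
    rw [← hP]
    exact Subgroup.card_dvd_of_le inf_le_left
  obtain ⟨k, hk, hk2⟩ := (Nat.dvd_prime_pow hp).mp hdvd
  interval_cases k
  · left
    rw [pow_zero] at hk2
    exact Subgroup.card_eq_one.mp hk2
  · right
    rw [pow_one] at hk2
    exact hk2
  · exfalso
    have h1 : (P : Subgroup G) ⊓ Q = P := by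
      apply Subgroup.eq_of_le_of_card_ge inf_le_left
      rw [hk2, hP]
    have h2 : (P : Subgroup G) ≤ Q := by
      rw [← h1]; exact inf_le_right
    have h3 : (P : Subgroup G) = Q := by
      apply Subgroup.eq_of_le_of_card_ge h2
      rw [hP, hQ]
    exact hne (Sylow.ext h3.symm)

/-- the Sylow subgroups containing `D` are the Sylow subgroups of `N(D)`, when they normalize `D` -/
theorem card_sylow_normalizer_eq (D : Subgroup G) (hDp : IsPGroup p D)
    (hab : ∀ Q : Sylow p G, D ≤ Q → (Q : Subgroup G) ≤ normalizer (D : Set G)) :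
    Nat.card (Sylow p ↥(normalizer (D : Set G))) = Nat.card {Q : Sylow p G // D ≤ Q} := by
  symm
  let f : {Q : Sylow p G // D ≤ Q} → Sylow p ↥(normalizer (D : Set G)) :=
    fun Q => Q.1.subtype (hab Q.1 Q.2)
  apply Nat.card_eq_of_bijective f
  constructor
  · intro Q Q' h
    exact Subtype.ext (Sylow.subtype_injective h)
  · intro R
    obtain ⟨Q, hQ⟩ := Sylow.exists_comap_subtype_eq R
    haveI : (D.subgroupOf (normalizer (D : Set G))).Normal := Subgroup.normal_in_normalizer
    have hDp' : IsPGroup p ↥(D.subgroupOf (normalizer (D : Set G))) := hDp.comap_subtype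
    have hDR : D.subgroupOf (normalizer (D : Set G)) ≤ R :=
      IsPGroup.le_sylow_of_normal hDp' R
    have hDQ : D ≤ Q := by
      intro d hd
      have h1 : (⟨d, le_normalizer hd⟩ : normalizer (D : Set G)) ∈
          D.subgroupOf (normalizer (D : Set G)) := by
        rw [mem_subgroupOf]; exact hd
      have h2 : (⟨d, le_normalizer hd⟩ : normalizer (D : Set G)) ∈ (R : Subgroup _) := hDR h1
      rw [← hQ] at h2
      exact h2
    refine ⟨⟨Q, hDQ⟩, ?_⟩
    apply Sylow.ext
    rw [← hQ]
    rfl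

theorem card_containing_mod (D : Subgroup G) (hDp : IsPGroup p D)
    (hab : ∀ Q : Sylow p G, D ≤ Q → (Q : Subgroup G) ≤ normalizer (D : Set G)) :
    Nat.card {Q : Sylow p G // D ≤ Q} % p = 1 := by
  rw [← card_sylow_normalizer_eq D hDp hab]
  have hp : p.Prime := Fact.out
  have := card_sylow_modEq_one p ↥(normalizer (D : Set G))
  rw [Nat.ModEq, Nat.mod_eq_of_lt hp.one_lt] at this
  exact this

theorem card_containing_mul (D : Subgroup G) (hDp : IsPGroup p D)
    (hab : ∀ Q : Sylow p G, D ≤ Q → (Q : Subgroup G) ≤ normalizer (D : Set G))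
    (P : Sylow p G) (hDP : D ≤ P) :
    Nat.card {Q : Sylow p G // D ≤ Q} *
      Nat.card ↥(normalizer ((P : Subgroup G) : Set G) ⊓ normalizer (D : Set G)) =
        Nat.card ↥(normalizer (D : Set G)) := by
  rw [← card_sylow_normalizer_eq D hDp hab]
  exact Cfsg.Agent.Lib.Helper8.SmallSimple.card_sylow_subgroup_mul P _ (hab P hDP)

/-- a nontrivial subgroup contained in all Sylow `p`-subgroups contradicts simplicity -/
theorem not_forall_le [IsSimpleGroup G] (D : Subgroup G) (hD1 : D ≠ ⊥) (P : Sylow p G)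
    (hPtop : (P : Subgroup G) ≠ ⊤) : ¬ ∀ Q : Sylow p G, D ≤ Q := by
  intro hall
  have hle : normalClosure (D : Set G) ≤ P := by
    unfold normalClosure
    rw [closure_le]
    intro y hy
    rw [Group.mem_conjugatesOfSet_iff] at hy
    obtain ⟨d, hd, hc⟩ := hy
    rw [isConj_iff] at hc
    obtain ⟨c, rfl⟩ := hc
    have h1 : d ∈ ((c⁻¹ • P : Sylow p G) : Subgroup G) := hall _ hd
    rw [Sylow.coe_subgroup_smul, Subgroup.mem_smul_pointwise_iff_exists] at h1
    obtain ⟨s, hs, hsd⟩ := h1
    have h3 : c⁻¹ * s * c⁻¹⁻¹ = d := hsd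
    have h4 : c * d * c⁻¹ = s := by rw [← h3]; group
    rw [h4]
    exact hs
  rcases (normalClosure_normal (s := (D : Set G))).eq_bot_or_eq_top with h | h
  · apply hD1
    rw [eq_bot_iff, ← h]
    exact le_normalClosure
  · apply hPtop
    rw [eq_top_iff, ← h]
    exact hle

/-- `P` acts freely on the Sylow subgroups meeting it trivially -/
theorem card_dvd_card_trivial_inf (P : Sylow p G) :
    Nat.card (P : Subgroup G) ∣
      Nat.card {Q : Sylow p G // (P : Subgroup G) ⊓ Q = ⊥} := by
  let A : SubMulAction ↥(P : Subgroup G) (Sylow p G) :=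
    { carrier := {Q | (P : Subgroup G) ⊓ Q = ⊥}
      smul_mem' := by
        intro x Q hQ
        show (P : Subgroup G) ⊓ ((x • Q : Sylow p G) : Subgroup G) = ⊥
        have hQ : (P : Subgroup G) ⊓ (Q : Subgroup G) = ⊥ := hQ
        rw [eq_bot_iff] at hQ ⊢
        intro y hy
        obtain ⟨hyP, hyQ⟩ := hy
        have hyQ' : y ∈ ((((x : G) • Q : Sylow p G)) : Subgroup G) := hyQ
        rw [Sylow.coe_subgroup_smul, Subgroup.mem_smul_pointwise_iff_exists] at hyQ'
        obtain ⟨s, hs, hsy⟩ := hyQ'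
        have h3 : (x : G) * s * (x : G)⁻¹ = y := hsy
        have h4 : s = (x : G)⁻¹ * y * (x : G) := by rw [← h3]; group
        have h1 : s ∈ (P : Subgroup G) ⊓ Q := by
          refine ⟨?_, hs⟩
          rw [h4]
          exact (P : Subgroup G).mul_mem ((P : Subgroup G).mul_mem ((P : Subgroup G).inv_mem x.2)
            hyP) x.2
        have h2 := hQ h1
        rw [Subgroup.mem_bot] at h2 ⊢
        rw [← h3, h2]
        group }
  have hfree : ∀ b : A, MulAction.stabilizer ↥(P : Subgroup G) b = ⊥ := by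
    intro b
    rw [eq_bot_iff]
    intro x hx
    rw [MulAction.mem_stabilizer_iff] at hx
    have hx' : ((x : G) • (b : Sylow p G)) = b := congrArg Subtype.val hx
    rw [Sylow.smul_eq_iff_mem_normalizer] at hx'
    have h1 : (x : G) ∈ (P : Subgroup G) ⊓ ((b : Sylow p G) : Subgroup G) := by
      rw [← IsPGroup.inf_normalizer_sylow P.isPGroup' (b : Sylow p G)]
      exact ⟨x.2, hx'⟩
    have hb : (P : Subgroup G) ⊓ ((b : Sylow p G) : Subgroup G) = ⊥ := b.2
    rw [hb, Subgroup.mem_bot] at h1
    rw [Subgroup.mem_bot]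
    exact Subtype.ext h1
  have e := MulAction.selfEquivOrbitsQuotientProd hfree
  have hc : Nat.card A = Nat.card (Quotient (MulAction.orbitRel ↥(P : Subgroup G) A)) *
      Nat.card (P : Subgroup G) := by
    rw [Nat.card_congr e, Nat.card_prod]
  have hA : Nat.card A = Nat.card {Q : Sylow p G // (P : Subgroup G) ⊓ Q = ⊥} := rfl
  rw [← hA, hc]
  exact Dvd.intro_left _ rfl

/-- orbit bound for the conjugation action on subgroups -/
theorem relIndex_normalizer_le_card (H D : Subgroup G) (S : Set (Subgroup G))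
    (hS : ∀ h ∈ H, D.map (MulAut.conj h).toMonoidHom ∈ S) :
    (normalizer (D : Set G)).relIndex H ≤ Nat.card S := by
  unfold relIndex index
  let f : (↥H ⧸ (normalizer (D : Set G)).subgroupOf H) → S := fun q =>
    ⟨D.map (MulAut.conj ((Quotient.out q : ↥H) : G)).toMonoidHom, hS _ (Quotient.out q).2⟩
  apply Nat.card_le_card_of_injective f
  intro q q' hqq
  have h1 : D.map (MulAut.conj ((Quotient.out q : ↥H) : G)).toMonoidHom =
      D.map (MulAut.conj ((Quotient.out q' : ↥H) : G)).toMonoidHom := congrArg Subtype.val hqq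
  rw [← Quotient.out_eq' q, ← Quotient.out_eq' q']
  rw [QuotientGroup.eq, mem_subgroupOf, mem_normalizer_iff]
  intro d
  have key : ∀ (a b : G) (d : G), D.map (MulAut.conj a).toMonoidHom = D.map (MulAut.conj b).toMonoidHom →
      d ∈ D → (a⁻¹ * b) * d * (a⁻¹ * b)⁻¹ ∈ D := by
    intro a b d hab hd
    have h2 : b * d * b⁻¹ ∈ D.map (MulAut.conj b).toMonoidHom := ⟨d, hd, rfl⟩
    rw [← hab] at h2
    obtain ⟨d', hd', h3⟩ := h2
    have h4 : a * d' * a⁻¹ = b * d * b⁻¹ := h3
    have : (a⁻¹ * b) * d * (a⁻¹ * b)⁻¹ = d' := by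
      calc (a⁻¹ * b) * d * (a⁻¹ * b)⁻¹ = a⁻¹ * (b * d * b⁻¹) * a := by group
        _ = a⁻¹ * (a * d' * a⁻¹) * a := by rw [h4]
        _ = d' := by group
    rw [this]; exact hd'
  constructor
  · intro hd
    exact key _ _ d h1 hd
  · intro hd
    have := key _ _ _ h1.symm hd
    have e1 : (((Quotient.out q' : ↥H) : G)⁻¹ * ((Quotient.out q : ↥H) : G)) *
        ((((Quotient.out q : ↥H))⁻¹ * (Quotient.out q' : ↥H) : ↥H) : G) * d *
          ((((Quotient.out q : ↥H))⁻¹ * (Quotient.out q' : ↥H) : ↥H) : G)⁻¹ *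
        (((Quotient.out q' : ↥H) : G)⁻¹ * ((Quotient.out q : ↥H) : G))⁻¹ = d := by
      push_cast
      group
    rw [← e1]
    convert this using 2
    simp [mul_assoc]

end Cfsg.Agent.Lib.Helper26.SylSq
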