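import Mathlib
import Cfsg.Agent.Lib.Helper26.SylSqA

/-!
helper26: Sylow `p`-subgroups of order `p ^ 2`: the class equation for the action of `P` on the
Sylow subgroups, sorted by the intersection `P ⊓ Q`; a group of order `p ^ 2` has at most `p + 1`
subgroups of order `p`.
-/

set_option autoImplicit false
set_option linter.unusedSectionVars false
set_option linter.style.haveILetI false

namespace Cfsg.Agent.Lib.Helper26.SylSq

open Subgroup

variable {G : Type*} [Group G] [Finite G] {p : ℕ} [Fact p.Prime]

/-- a subgroup of prime order is generated by each of its non-identity elements -/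
theorem eq_of_prime_card_of_mem (D D' : Subgroup G) (hD : Nat.card D = p) (hD' : Nat.card D' = p)
    (x : G) (hx : x ∈ D) (hx' : x ∈ D') (hx1 : x ≠ 1) : D = D' := by
  have hp : p.Prime := Fact.out
  have key : ∀ E : Subgroup G, Nat.card E = p → x ∈ E → E = zpowers x := by
    intro E hE hxE
    symm
    apply Subgroup.eq_of_le_of_card_ge
    · rw [zpowers_le]; exact hxE
    · rw [Nat.card_zpowers, hE]
      have hdvd : orderOf x ∣ p := by
        rw [← hE]
        have := Subgroup.orderOf_dvd_natCard E hxE
        exact this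
      rcases (Nat.dvd_prime hp).mp hdvd with h | h
      · exact absurd (orderOf_eq_one_iff.mp h) hx1
      · rw [h]
  rw [key D hD hx, key D' hD' hx']

/-- the class equation -/
theorem card_sylow_eq_sum (P : Sylow p G)
    (hcard : ∀ Q : Sylow p G, Nat.card (Q : Subgroup G) = p ^ 2)
    (𝒟 : Finset (Subgroup G)) (h𝒟 : ∀ D, D ∈ 𝒟 ↔ (D ≤ P ∧ Nat.card D = p)) :
    Nat.card (Sylow p G) = 1 + Nat.card {Q : Sylow p G // (P : Subgroup G) ⊓ Q = ⊥} +
      ∑ D ∈ 𝒟, (Nat.card {Q : Sylow p G // D ≤ Q} - 1) := by
  classical
  have hp : p.Prime := Fact.out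
  haveI : Fintype (Sylow p G) := Fintype.ofFinite _
  let f : Sylow p G → Subgroup G := fun Q => (P : Subgroup G) ⊓ Q
  have hP2 : (P : Subgroup G) ∉ 𝒟 := by
    intro h
    have := ((h𝒟 _).mp h).2
    rw [hcard P] at this
    have h2 := hp.two_le
    nlinarith
  have hbot : (⊥ : Subgroup G) ∉ insert (P : Subgroup G) 𝒟 := by
    intro h
    rw [Finset.mem_insert] at h
    rcases h with h | h
    · have := hcard P
      rw [← h, Subgroup.card_bot] at this
      have h2 := hp.two_le
      nlinarith
    · have := ((h𝒟 _).mp h).2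
      rw [Subgroup.card_bot] at this
      have h2 := hp.two_le
      omega
  have hmaps : ∀ Q ∈ (Finset.univ : Finset (Sylow p G)),
      f Q ∈ insert (⊥ : Subgroup G) (insert (P : Subgroup G) 𝒟) := by
    intro Q _
    by_cases hQP : Q = P
    · rw [Finset.mem_insert, Finset.mem_insert]
      right; left
      show (P : Subgroup G) ⊓ Q = P
      rw [hQP, inf_idem]
    · rcases card_inf_cases P Q (hcard P) (hcard Q) hQP with h | h
      · rw [Finset.mem_insert]; left; exact h
      · rw [Finset.mem_insert, Finset.mem_insert]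
        right; right
        exact (h𝒟 _).mpr ⟨inf_le_left, h⟩
  have h1 := Finset.card_eq_sum_card_fiberwise hmaps
  rw [Finset.card_univ, Finset.sum_insert hbot, Finset.sum_insert hP2] at h1
  rw [Nat.card_eq_fintype_card, h1]
  have e1 : (Finset.univ.filter fun Q : Sylow p G => f Q = ⊥).card =
      Nat.card {Q : Sylow p G // (P : Subgroup G) ⊓ Q = ⊥} := by
    rw [Nat.card_eq_fintype_card, Fintype.card_subtype]
  have e2 : (Finset.univ.filter fun Q : Sylow p G => f Q = (P : Subgroup G)).card = 1 := by
    rw [Finset.card_eq_one]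
    refine ⟨P, ?_⟩
    ext Q
    rw [Finset.mem_filter, Finset.mem_singleton]
    constructor
    · rintro ⟨-, h⟩
      have h2 : (P : Subgroup G) ≤ Q := by
        have : (P : Subgroup G) ⊓ Q = P := h
        rw [← this]; exact inf_le_right
      have h3 : (P : Subgroup G) = Q := by
        apply Subgroup.eq_of_le_of_card_ge h2
        rw [hcard P, hcard Q]
      exact Sylow.ext h3.symm
    · rintro rfl
      exact ⟨Finset.mem_univ _, inf_idem _⟩
  have e3 : ∀ D ∈ 𝒟, (Finset.univ.filter fun Q : Sylow p G => f Q = D).card =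
      Nat.card {Q : Sylow p G // D ≤ Q} - 1 := by
    intro D hD
    obtain ⟨hDP, hDc⟩ := (h𝒟 D).mp hD
    have hPD : (P : Subgroup G) ≠ D := by
      intro h
      rw [← h, hcard P] at hDc
      have h2 := hp.two_le
      nlinarith
    have e4 : Nat.card {Q : Sylow p G // D ≤ Q} =
        (Finset.univ.filter fun Q : Sylow p G => D ≤ Q).card := by
      rw [Nat.card_eq_fintype_card, Fintype.card_subtype]
    have e5 : (Finset.univ.filter fun Q : Sylow p G => D ≤ Q) =
        insert P (Finset.univ.filter fun Q : Sylow p G => f Q = D) := by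
      ext Q
      rw [Finset.mem_insert, Finset.mem_filter, Finset.mem_filter]
      constructor
      · rintro ⟨-, hDQ⟩
        by_cases hQP : Q = P
        · left; exact hQP
        · right
          refine ⟨Finset.mem_univ _, ?_⟩
          have hle : D ≤ (P : Subgroup G) ⊓ Q := le_inf hDP hDQ
          rcases card_inf_cases P Q (hcard P) (hcard Q) hQP with h | h
          · exfalso
            rw [h, le_bot_iff] at hle
            rw [hle, Subgroup.card_bot] at hDc
            have h2 := hp.two_le
            omega
          · symm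
            apply Subgroup.eq_of_le_of_card_ge hle
            rw [h, hDc]
      · rintro (rfl | ⟨-, h⟩)
        · exact ⟨Finset.mem_univ _, hDP⟩
        · refine ⟨Finset.mem_univ _, ?_⟩
          have : (P : Subgroup G) ⊓ Q = D := h
          rw [← this]; exact inf_le_right
    have hPn : P ∉ (Finset.univ.filter fun Q : Sylow p G => f Q = D) := by
      rw [Finset.mem_filter]
      rintro ⟨-, h⟩
      have : (P : Subgroup G) ⊓ P = D := h
      rw [inf_idem] at this
      exact hPD this
    rw [e4, e5, Finset.card_insert_of_notMem hPn, Nat.add_sub_cancel]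
  rw [e1, e2, Finset.sum_congr rfl e3]
  ring

/-- a group of order `p ^ 2` has at most `p + 1` subgroups of order `p` -/
theorem card_subgroups_le (P : Subgroup G) (hP : Nat.card P = p ^ 2)
    (𝒟 : Finset (Subgroup G)) (h𝒟 : ∀ D ∈ 𝒟, (D ≤ P ∧ Nat.card D = p)) : 𝒟.card ≤ p + 1 := by
  classical
  have hp : p.Prime := Fact.out
  haveI : Fintype G := Fintype.ofFinite _
  let g : Subgroup G → Finset G := fun D => Finset.univ.filter fun x => x ∈ D ∧ x ≠ 1
  have hg : ∀ D : Subgroup G, (g D).card + 1 = Nat.card D := by
    intro D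
    have e1 : Nat.card D = (Finset.univ.filter fun x : G => x ∈ D).card := by
      rw [Nat.card_eq_fintype_card, Fintype.card_subtype]
    have e2 : (Finset.univ.filter fun x : G => x ∈ D) = insert 1 (g D) := by
      ext x
      simp only [g, Finset.mem_insert, Finset.mem_filter, Finset.mem_univ, true_and]
      constructor
      · intro hx
        by_cases h1 : x = 1
        · left; exact h1
        · right; exact ⟨hx, h1⟩
      · rintro (rfl | ⟨hx, -⟩)
        · exact D.one_mem
        · exact hx
    have h1 : (1 : G) ∉ g D := by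
      simp [g]
    rw [e1, e2, Finset.card_insert_of_notMem h1]
  have hdisj : Set.PairwiseDisjoint (𝒟 : Set (Subgroup G)) g := by
    intro D hD D' hD' hne
    rw [Function.onFun, Finset.disjoint_left]
    intro x hx hx'
    simp only [g, Finset.mem_filter, Finset.mem_univ, true_and] at hx hx'
    exact hne (eq_of_prime_card_of_mem D D' (h𝒟 D hD).2 (h𝒟 D' hD').2 x hx.1 hx'.1 hx.2)
  have h1 := Finset.card_biUnion hdisj
  have h2 : 𝒟.biUnion g ⊆ g P := by
    intro x hx
    rw [Finset.mem_biUnion] at hx
    obtain ⟨D, hD, hxD⟩ := hx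
    simp only [g, Finset.mem_filter, Finset.mem_univ, true_and] at hxD ⊢
    exact ⟨(h𝒟 D hD).1 hxD.1, hxD.2⟩
  have h3 := Finset.card_le_card h2
  rw [h1] at h3
  have h4 : ∑ D ∈ 𝒟, (g D).card = 𝒟.card * (p - 1) := by
    rw [Finset.sum_const_nat]
    intro D hD
    have := hg D
    rw [(h𝒟 D hD).2] at this
    omega
  have h5 : (g P).card = p ^ 2 - 1 := by
    have := hg P
    rw [hP] at this
    omega
  rw [h4, h5] at h3
  have h2le := hp.two_le
  have h6 : p ^ 2 - 1 = (p + 1) * (p - 1) := by
    obtain ⟨k, rfl⟩ : ∃ k, p = k + 2 := ⟨p - 2, by omega⟩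
    have : (k + 2) ^ 2 - 1 = (k + 2 + 1) * (k + 1) := by
      have : (k + 2) ^ 2 = (k + 2 + 1) * (k + 1) + 1 := by ring
      omega
    simpa using this
  rw [h6] at h3
  exact Nat.le_of_mul_le_mul_right h3 (by omega)

/-- existence of the finset of subgroups of order `p` of `P` -/
theorem exists_finset_subgroups (P : Subgroup G) :
    ∃ 𝒟 : Finset (Subgroup G), ∀ D, D ∈ 𝒟 ↔ (D ≤ P ∧ Nat.card D = p) := by
  classical
  haveI : Fintype (Subgroup G) := Fintype.ofFinite _
  exact ⟨Finset.univ.filter fun D => D ≤ P ∧ Nat.card D = p, fun D => by simp⟩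

end Cfsg.Agent.Lib.Helper26.SylSq
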