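import Mathlib
import Cfsg.Agent.Lib.Helper27.SylIntC
import Cfsg.Agent.Lib.Helper27.Ord5880
import Cfsg.Agent.Lib.Helper8.OrdSieveE
import Cfsg.Agent.Lib.Helper26.SylSqB
import Cfsg.Agent.Lib.Helper26.Ord450

set_option autoImplicit false

/-!
# No simple group of order 5400 = 2³·3³·5²

`n₅ ∈ {36, 216}`.  `n₅ = 216`: `N(P) = P` and Burnside's transfer theorem.  `n₅ = 36`
(`|N(P)| = 150`): every subgroup `D` of order 5 of `P` lying in a second Sylow subgroup lies in
exactly 6 of them; `35 = 25 a + 5 |T|` with `|T| ≤ 6` forces `|T| = 2`; the orbit bound gives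
`k = |N(P) ∩ N(D)| ∈ {75, 150}`; `k = 150` gives a subgroup `N(D)` of index 6, and `k = 75`
gives `|N(D)| = 450` with six Sylow 5-subgroups, but a group of order 450 has only one.
-/

namespace Cfsg.Agent.Lib.Helper26.Ord5400

open Subgroup
open scoped Pointwise
open Cfsg.Agent.Lib.Helper7 Cfsg.Agent.Lib.Helper8.OrdSieve Cfsg.Agent.Lib.Helper27.SylInt

theorem np5_5400 : npList 5 2 216 = [36, 216] := by decide +kernel

theorem arith_216 : ∀ s ≤ 36, s ∣ 216 → s % 5 = 1 → 2 ≤ s → s = 6 ∨ s = 36 := by
  decide

theorem arith_k_5400 : ∀ c ≤ 6, c ∣ 6 → 6 * (25 * c) ∣ 5400 → 150 ≤ 2 * (25 * c) →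
    c = 3 ∨ c = 6 := by
  decide

theorem not_simple_5400 {G : Type*} [Group G] [Finite G] [IsSimpleGroup G] :
    Nat.card G ≠ 5400 := by
  intro hcard
  have hp5 : Nat.Prime 5 := by norm_num
  have : Fact (Nat.Prime 5) := ⟨hp5⟩
  have hG : ¬ IsMulCommutative G :=
    not_comm_of_card_not_prime (by rw [hcard]; norm_num)
  have hn : Nat.card G = 5 ^ 2 * 216 := by rw [hcard]; norm_num
  have hmem := sylow_count_mem hG hp5 (by norm_num) (by norm_num) hn (by norm_num)
  rw [np5_5400] at hmem
  obtain ⟨P⟩ : Nonempty (Sylow 5 G) := inferInstance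
  obtain ⟨hP, -⟩ := sylow_card_index_of_pow hn (by norm_num) P
  have hab : Ab (P : Subgroup G) := comm_of_card_prime_sq (P : Subgroup G) hP
  have hNcard := card_sylow_mul_card_normalizer P
  rw [hcard] at hNcard
  simp only [List.mem_cons, List.not_mem_nil, or_false] at hmem
  rcases hmem with h36 | h216
  · -- n₅ = 36
    rw [h36] at hNcard
    have hN : Nat.card ↥(normalizer ((P : Subgroup G) : Set G)) = 150 := by omega
    obtain ⟨T, a, hT1, hT2, hsum⟩ := card_sylow_partition P hP
    rw [h36] at hsum
    have hcore := normalCore_sylow_eq_bot P (by rw [hP, hcard]; norm_num)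
    -- general facts on `D ∈ T`
    have hfacts : ∀ D ∈ T, sCount 5 D = 6 ∧
        25 ∣ Nat.card ↥(normalizer ((P : Subgroup G) : Set G) ⊓ normalizer (D : Set G)) := by
      intro D hD
      obtain ⟨hDP, hDc, hs⟩ := hT1 D hD
      have hmod := sCount_modEq_one P hab D hDP
      have hle := sCount_le (p := 5) D
      rw [h36] at hle
      have hne36 : sCount 5 D ≠ 36 := by
        intro h
        have := le_normalCore_of_sCount_eq P D (by rw [h, h36])
        rw [hcore, le_bot_iff] at this
        rw [this, Subgroup.card_bot] at hDc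
        norm_num at hDc
      have hmul := sCount_mul P hab D hDP
      have hPle : (P : Subgroup G) ≤
          normalizer ((P : Subgroup G) : Set G) ⊓ normalizer (D : Set G) :=
        le_inf Subgroup.le_normalizer (le_normalizer_of_le P hab D hDP)
      have h25k : 25 ∣ Nat.card ↥(normalizer ((P : Subgroup G) : Set G) ⊓
          normalizer (D : Set G)) := by
        have := Subgroup.card_dvd_of_le hPle
        rw [hP] at this
        exact this
      refine ⟨?_, h25k⟩
      have hdvd : sCount 5 D * Nat.card ↥(normalizer ((P : Subgroup G) : Set G) ⊓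
          normalizer (D : Set G)) ∣ 5400 := by
        rw [hmul, ← hcard]
        exact Subgroup.card_subgroup_dvd_card _
      have hs216 : sCount 5 D ∣ 216 := by
        obtain ⟨c, hc⟩ := h25k
        rw [hc] at hdvd
        have h1 : 25 * (sCount 5 D * c) ∣ 25 * 216 := by
          have e : 25 * (sCount 5 D * c) = sCount 5 D * (25 * c) := by ring
          rw [e]; exact hdvd
        have h2 := Nat.dvd_of_mul_dvd_mul_left (by norm_num) h1
        exact (Dvd.intro _ rfl).trans h2
      unfold Nat.ModEq at hmod
      rcases arith_216 (sCount 5 D) hle hs216 (by omega) (by omega) with h | h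
      · exact h
      · exact absurd h hne36
    rw [Finset.sum_congr rfl (fun D hD => by rw [(hfacts D hD).1])] at hsum
    rw [Finset.sum_const, smul_eq_mul] at hsum
    have hT6 : T.card ≤ 5 + 1 :=
      Cfsg.Agent.Lib.Helper26.SylSq.card_subgroups_le (P : Subgroup G) hP T
        (fun D hD => ⟨(hT1 D hD).1, (hT1 D hD).2.1⟩)
    have hT2c : T.card = 2 := by omega
    obtain ⟨D, hD⟩ : T.Nonempty := by
      rw [← Finset.card_pos, hT2c]; norm_num
    obtain ⟨hDP, hDc, hs⟩ := hT1 D hD
    obtain ⟨hs6, h25k⟩ := hfacts D hD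
    have hmul := sCount_mul P hab D hDP
    rw [hs6] at hmul
    have hk150 : Nat.card ↥(normalizer ((P : Subgroup G) : Set G) ⊓ normalizer (D : Set G)) ∣
        150 := by
      rw [← hN]
      exact Subgroup.card_dvd_of_le inf_le_left
    have hND : 6 * Nat.card ↥(normalizer ((P : Subgroup G) : Set G) ⊓ normalizer (D : Set G)) ∣
        5400 := by
      rw [hmul, ← hcard]
      exact Subgroup.card_subgroup_dvd_card _
    have hle := card_normalizer_le P T D
      (fun n hn => conj_mem_of_mem P T hT2 D hDP hDc hs n hn)
    rw [hN, hT2c] at hle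
    obtain ⟨c, hc⟩ := h25k
    rw [hc] at hk150 hND hle hmul
    have hc6 : c ∣ 6 := by
      have : 25 * c ∣ 25 * 6 := hk150
      exact Nat.dvd_of_mul_dvd_mul_left (by norm_num) this
    have hcle : c ≤ 6 := Nat.le_of_dvd (by norm_num) hc6
    rcases arith_k_5400 c hcle hc6 hND hle with h3 | h6
    · -- `|N(D)| = 450`
      rw [h3] at hmul
      have h450 : Nat.card ↥(normalizer (D : Set G)) = 450 := by rw [← hmul]
      have h1 := Cfsg.Agent.Lib.Helper26.Ord450.card_sylow_five_450 h450
      have h2 := sCount_eq_card_sylow P hab D hDP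
      rw [hs6, h1] at h2
      norm_num at h2
    · -- `|N(D)| = 900`, index 6
      rw [h6] at hmul
      have h900 : Nat.card ↥(normalizer (D : Set G)) = 900 := by rw [← hmul]
      have hidx : (normalizer (D : Set G)).index = 6 := by
        have := Subgroup.card_mul_index (normalizer (D : Set G))
        rw [h900, hcard] at this
        omega
      have hne : normalizer (D : Set G) ≠ ⊤ := by
        intro h
        rw [h, Subgroup.index_top] at hidx
        norm_num at hidx
      have := card_dvd_half_factorial hG (normalizer (D : Set G)) hne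
      rw [hidx, hcard] at this
      revert this
      decide
  · -- n₅ = 216: `N(P) = P`
    rw [h216] at hNcard
    have hN : Nat.card ↥(normalizer ((P : Subgroup G) : Set G)) = 25 := by omega
    apply not_normalizer_le_centralizer hG P (by rw [hP]; norm_num) hab
    have hNP : normalizer ((P : Subgroup G) : Set G) = (P : Subgroup G) := by
      symm
      apply Subgroup.eq_of_le_of_card_ge Subgroup.le_normalizer
      rw [hN, hP]; norm_num
    rw [hNP]
    intro x hx
    rw [Subgroup.mem_centralizer_iff]
    intro y hy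
    exact hab y hy x hx

end Cfsg.Agent.Lib.Helper26.Ord5400
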