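import Cfsg.Agent.Lib.Helper26.OrderP4B

/-!
Groups of order `p⁴` carrying `EssData`: part C (structure when the centre has order `p²`).
-/

set_option autoImplicit false
universe u

namespace Cfsg.Agent.Lib.Helper26

open Cfsg
open scoped commutatorElement

section CenterSq

variable {H : Type u} [Group H] [Finite H] {p : ℕ} [Fact p.Prime]

theorem card_quot_center_of_sq (hcard : Nat.card H = p ^ 4) (hZ : Nat.card (Subgroup.center H) = p ^ 2) :
    Nat.card (H ⧸ Subgroup.center H) = p ^ 2 := by
  have hpp : p.Prime := Fact.out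
  have h1 := Subgroup.card_mul_index (Subgroup.center H)
  rw [hZ, hcard] at h1
  have h3 : p ^ 4 = p ^ 2 * p ^ 2 := by rw [← pow_add]
  rw [h3] at h1
  exact Nat.eq_of_mul_eq_mul_left (pow_pos hpp.pos 2) h1

theorem not_comm_of_sq (hcard : Nat.card H = p ^ 4) (hZ : Nat.card (Subgroup.center H) = p ^ 2) :
    ¬ ∀ a b : H, a * b = b * a := by
  intro hcomm
  have htop : Subgroup.center H = ⊤ := by
    rw [eq_top_iff]
    intro x _
    rw [Subgroup.mem_center_iff]
    intro g
    exact hcomm g x
  rw [htop, Subgroup.card_top, hcard] at hZ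
  have := pow_inj_of_prime hZ
  omega

theorem comm_mem_center_of_sq (hcard : Nat.card H = p ^ 4) (hZ : Nat.card (Subgroup.center H) = p ^ 2)
    (a b : H) : ⁅a, b⁆ ∈ Subgroup.center H := by
  have hq := card_quot_center_of_sq hcard hZ
  have hqc : IsMulCommutative (H ⧸ Subgroup.center H) := IsPGroup.isMulCommutative_of_card_eq_prime_sq hq
  rw [← QuotientGroup.eq_one_iff, commutatorElement_def]
  simp only [QuotientGroup.mk_mul, QuotientGroup.mk_inv]
  have := isMulCommutative_iff.mp hqc (a : H ⧸ Subgroup.center H) (b : H ⧸ Subgroup.center H)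
  rw [this]
  group

theorem pow_mem_center_of_sq (hcard : Nat.card H = p ^ 4) (hZ : Nat.card (Subgroup.center H) = p ^ 2)
    (x : H) : x ^ p ∈ Subgroup.center H := by
  have hpp : p.Prime := Fact.out
  have hq := card_quot_center_of_sq hcard hZ
  rw [← QuotientGroup.eq_one_iff, QuotientGroup.mk_pow]
  have hord : orderOf (x : H ⧸ Subgroup.center H) ∣ p ^ 2 := hq ▸ orderOf_dvd_natCard _
  obtain ⟨k, hk, hk2⟩ := (Nat.dvd_prime_pow hpp).mp hord
  have hk2' : k ≠ 2 := by
    rintro rfl
    have hcyc : IsCyclic (H ⧸ Subgroup.center H) := isCyclic_of_orderOf_eq_card _ (by rw [hk2, hq])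
    apply not_comm_of_sq hcard hZ
    exact isMulCommutative_iff.mp (MonoidHom.isMulCommutative_of_isCyclic_of_ker_le_center
      (QuotientGroup.mk' (Subgroup.center H)) (by rw [QuotientGroup.ker_mk']))
  apply orderOf_dvd_iff_pow_eq_one.mp
  rw [hk2]
  have : k ≤ 1 := by omega
  calc p ^ k ∣ p ^ 1 := Nat.pow_dvd_pow p this
    _ = p := pow_one p

theorem comm_pow_eq_one_of_sq (hcard : Nat.card H = p ^ 4) (hZ : Nat.card (Subgroup.center H) = p ^ 2)
    (a b : H) : ⁅a, b⁆ ^ p = 1 := by
  rw [← Cfsg.Agent.Lib.Helper23.commutatorElement_pow_left_of_central a b (comm_mem_center_of_sq hcard hZ a b) p,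
    commutatorElement_eq_one_iff_mul_comm]
  exact (Subgroup.mem_center_iff.mp (pow_mem_center_of_sq hcard hZ a) b).symm

theorem card_centralizer_of_sq (hcard : Nat.card H = p ^ 4) (hZ : Nat.card (Subgroup.center H) = p ^ 2)
    {x : H} (hx : x ∉ Subgroup.center H) : Nat.card (Subgroup.centralizer {x}) = p ^ 3 := by
  obtain ⟨a, ha4, ha⟩ := card_subgroup_of_card_pow hcard (Subgroup.centralizer {x})
  have hne : Subgroup.center H ≠ Subgroup.centralizer {x} := by
    intro h
    apply hx
    rw [h]
    exact self_mem_centralizer_singleton x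
  have h1 := card_lt_of_le_of_ne' (center_le_centralizer_singleton x) hne
  rw [hZ, ha] at h1
  have h2 := pow_lt_pow_iff_of_prime.mp h1
  have h3 : a ≠ 4 := by
    rintro rfl
    apply hx
    rw [← centralizer_singleton_eq_top_iff]
    apply Subgroup.eq_top_of_card_eq
    rw [ha, hcard]
  have : a = 3 := by omega
  rw [ha, this]

/-- A subgroup containing the centre, a noncentral `x` and an element not commuting with `x` is everything. -/
theorem eq_top_of_mem_of_sq (hcard : Nat.card H = p ^ 4) (hZ : Nat.card (Subgroup.center H) = p ^ 2)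
    {x y : H} (hx : x ∉ Subgroup.center H) (hy : y ∉ Subgroup.centralizer {x}) (L : Subgroup H)
    (hZL : Subgroup.center H ≤ L) (hxL : x ∈ L) (hyL : y ∈ L) : L = ⊤ := by
  have hCx := card_centralizer_of_sq hcard hZ hx
  have hidx : Nat.card (Subgroup.centralizer {x}) = p * Nat.card (Subgroup.center H) := by
    rw [hCx, hZ, pow_succ, mul_comm]
  have h1 : L ⊓ Subgroup.centralizer {x} = Subgroup.centralizer {x} := by
    apply eq_of_le_of_card_mul hidx (le_inf hZL (center_le_centralizer_singleton x)) inf_le_right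
    intro h
    apply hx
    rw [h]
    exact Subgroup.mem_inf.mpr ⟨hxL, self_mem_centralizer_singleton x⟩
  have h2 : Subgroup.centralizer {x} ≤ L := by
    rw [← h1]
    exact inf_le_left
  have hidxH : Nat.card H = p * Nat.card (Subgroup.centralizer {x}) := by rw [hcard, hCx, pow_succ, mul_comm]
  apply eq_top_of_lt_of_card_mul hidxH h2
  intro h
  apply hy
  rw [h]
  exact hyL

theorem exists_not_mem_of_ne_top {K : Subgroup H} (h : K ≠ ⊤) : ∃ x : H, x ∉ K := by
  by_contra hall
  push Not at hall
  exact h (eq_top_iff.mpr fun x _ => hall x)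

/-- The derived subgroup has order `p`. -/
theorem card_commutator_of_sq (hcard : Nat.card H = p ^ 4) (hZ : Nat.card (Subgroup.center H) = p ^ 2) :
    Nat.card (commutator H) = p ∧ commutator H ≤ Subgroup.center H := by
  have hpp : p.Prime := Fact.out
  have hcc := comm_mem_center_of_sq hcard hZ
  have hZtop : Subgroup.center H ≠ ⊤ := by
    intro h
    rw [h, Subgroup.card_top, hcard] at hZ
    have := pow_inj_of_prime hZ
    omega
  obtain ⟨x, hx⟩ := exists_not_mem_of_ne_top hZtop
  have hCx := card_centralizer_of_sq hcard hZ hx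
  have hCxtop : Subgroup.centralizer {x} ≠ ⊤ := by
    rw [Ne, centralizer_singleton_eq_top_iff]
    exact hx
  obtain ⟨y, hy⟩ := exists_not_mem_of_ne_top hCxtop
  have hyZ : y ∉ Subgroup.center H := fun h => hy (center_le_centralizer_singleton x h)
  have hCy := card_centralizer_of_sq hcard hZ hyZ
  have hxy : ¬ y * x = x * y := fun h => hy (mem_centralizer_singleton_iff.mpr h)
  obtain ⟨c, hc⟩ : ∃ c : H, c = ⁅y, x⁆ := ⟨_, rfl⟩
  have hc1 : c ≠ 1 := by
    rw [hc, Ne, commutatorElement_eq_one_iff_mul_comm]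
    exact hxy
  have hcp : c ^ p = 1 := hc ▸ comm_pow_eq_one_of_sq hcard hZ y x
  have hord : orderOf c = p := orderOf_eq_prime hcp hc1
  have hzc : Nat.card (Subgroup.zpowers c) = p := by rw [Nat.card_zpowers, hord]
  have hrange : ∀ w : H, Nat.card (Subgroup.centralizer {w}) = p ^ 3 →
      Nat.card (commHom w (fun g => hcc g w)).range = p := by
    intro w hw
    have h1 := card_ker_mul_card_range (commHom w (fun g => hcc g w))
    rw [commHom_ker, hw, hcard] at h1
    have h3 : p ^ 4 = p ^ 3 * p := by rw [pow_succ]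
    rw [h3] at h1
    exact Nat.eq_of_mul_eq_mul_left (pow_pos hpp.pos 3) h1
  have hPx : Subgroup.zpowers c = (commHom x (fun g => hcc g x)).range := by
    apply Subgroup.eq_of_le_of_card_ge
    · rw [Subgroup.zpowers_le]
      exact ⟨y, hc.symm⟩
    · rw [hzc, hrange x hCx]
  have hPy : Subgroup.zpowers c = (commHom y (fun g => hcc g y)).range := by
    apply Subgroup.eq_of_le_of_card_ge
    · rw [Subgroup.zpowers_le]
      have : c⁻¹ ∈ (commHom y (fun g => hcc g y)).range := by
        refine ⟨x, ?_⟩
        rw [commHom_apply, hc, commutatorElement_inv]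
      have h2 := inv_mem this
      rwa [inv_inv] at h2
    · rw [hzc, hrange y hCy]
  have hx' : ∀ g : H, ⁅g, x⁆ ∈ Subgroup.zpowers c := by
    intro g
    rw [hPx]
    exact ⟨g, rfl⟩
  have hy' : ∀ g : H, ⁅g, y⁆ ∈ Subgroup.zpowers c := by
    intro g
    rw [hPy]
    exact ⟨g, rfl⟩
  have hall : ∀ a b : H, ⁅b, a⁆ ∈ Subgroup.zpowers c := by
    intro a b
    have htop : (Subgroup.zpowers c).comap (commHom a (fun g => hcc g a)) = ⊤ := by
      apply eq_top_of_mem_of_sq hcard hZ hx hy
      · intro z hz
        rw [Subgroup.mem_comap, commHom_apply]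
        have : ⁅z, a⁆ = 1 := by
          rw [commutatorElement_eq_one_iff_mul_comm]
          exact (Subgroup.mem_center_iff.mp hz a).symm
        rw [this]
        exact one_mem _
      · rw [Subgroup.mem_comap, commHom_apply, ← commutatorElement_inv]
        exact inv_mem (hx' a)
      · rw [Subgroup.mem_comap, commHom_apply, ← commutatorElement_inv]
        exact inv_mem (hy' a)
    have : b ∈ (Subgroup.zpowers c).comap (commHom a (fun g => hcc g a)) := htop ▸ Subgroup.mem_top b
    exact this
  have hle : commutator H ≤ Subgroup.zpowers c := by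
    rw [commutator_def, Subgroup.commutator_le]
    intro a _ b _
    exact hall b a
  have hge : Subgroup.zpowers c ≤ commutator H := by
    rw [Subgroup.zpowers_le, hc]
    exact Subgroup.commutator_mem_commutator (Subgroup.mem_top y) (Subgroup.mem_top x)
  have heq : commutator H = Subgroup.zpowers c := le_antisymm hle hge
  refine ⟨by rw [heq, hzc], ?_⟩
  rw [commutator_def, Subgroup.commutator_le]
  intro a _ b _
  exact hcc a b

/-- Elements have order dividing `p³` in a noncyclic group of order `p⁴`. -/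
theorem pow_cube_eq_one_of_not_comm (hcard : Nat.card H = p ^ 4) (hna : ¬ ∀ a b : H, a * b = b * a) (g : H) :
    g ^ (p ^ 3) = 1 := by
  have hpp : p.Prime := Fact.out
  have hord : orderOf g ∣ p ^ 4 := hcard ▸ orderOf_dvd_natCard g
  obtain ⟨k, hk, hk2⟩ := (Nat.dvd_prime_pow hpp).mp hord
  have hk4 : k ≠ 4 := by
    rintro rfl
    have hcyc : IsCyclic H := isCyclic_of_orderOf_eq_card g (by rw [hk2, hcard])
    exact hna (isMulCommutative_iff.mp IsCyclic.isMulCommutative)
  apply orderOf_dvd_iff_pow_eq_one.mp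
  rw [hk2]
  exact Nat.pow_dvd_pow p (by omega)

/-- If the centre (of order `p²`) is not cyclic then it has exponent `p`. -/
theorem center_exp_of_not_cyclic (hZ : Nat.card (Subgroup.center H) = p ^ 2)
    (hnc : ¬ IsCyclic ↥(Subgroup.center H)) : ∀ z ∈ Subgroup.center H, z ^ p = 1 := by
  have hpp : p.Prime := Fact.out
  intro z hz
  have hord : orderOf (⟨z, hz⟩ : Subgroup.center H) ∣ p ^ 2 := hZ ▸ orderOf_dvd_natCard _
  obtain ⟨k, hk, hk2⟩ := (Nat.dvd_prime_pow hpp).mp hord
  have hk2' : k ≠ 2 := by
    rintro rfl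
    exact hnc (isCyclic_of_orderOf_eq_card _ (by rw [hk2, hZ]))
  have h1 : (⟨z, hz⟩ : Subgroup.center H) ^ p = 1 := by
    apply orderOf_dvd_iff_pow_eq_one.mp
    rw [hk2]
    have : k ≤ 1 := by omega
    calc p ^ k ∣ p ^ 1 := Nat.pow_dvd_pow p this
      _ = p := pow_one p
  exact congrArg Subtype.val h1

/-- Relative index two: the product of two elements outside lies inside. -/
theorem mul_mem_of_rel_index_two {K L : Subgroup H} (hKL : K ≤ L) (hidx : Nat.card L = 2 * Nat.card K) {a b : H}
    (ha : a ∈ L) (hb : b ∈ L) (haK : a ∉ K) (hbK : b ∉ K) : a * b ∈ K := by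
  have h1 := Subgroup.card_mul_index (K.subgroupOf L)
  rw [Nat.card_congr (Subgroup.subgroupOfEquivOfLe hKL).toEquiv, hidx, mul_comm] at h1
  have hpos : 0 < Nat.card K := Nat.card_pos
  have h2 : (K.subgroupOf L).index = 2 := Nat.eq_of_mul_eq_mul_right hpos h1
  have h3 := Subgroup.mul_mem_iff_of_index_two h2 (a := (⟨a, ha⟩ : L)) (b := (⟨b, hb⟩ : L))
  rw [Subgroup.mem_subgroupOf, Subgroup.mem_subgroupOf, Subgroup.mem_subgroupOf] at h3
  exact h3.mpr ⟨fun h => absurd h haK, fun h => absurd h hbK⟩

end CenterSq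

end Cfsg.Agent.Lib.Helper26
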