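import Cfsg.Agent.Lib.Helper26.OrderP4C

/-!
Groups of order `p⁴` carrying `EssData`: part D (centre of order `p²`: exponent `p²`; for an elementary abelian centre,
exponent `p` when `p` is odd).
-/

set_option autoImplicit false
universe u

namespace Cfsg.Agent.Lib.Helper26

open Cfsg
open scoped commutatorElement

section CenterSqEss

variable {H : Type u} [Group H] [Finite H] {p : ℕ} [Fact p.Prime]

theorem center_le_of_pow_eq_one {f : H →* H} {n : ℕ} (hf : ∀ x, f x = x ^ n)
    (hexp : ∀ z ∈ Subgroup.center H, z ^ n = 1) : Subgroup.center H ≤ f.ker := by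
  intro z hz
  rw [MonoidHom.mem_ker, hf]
  exact hexp z hz

theorem pow_card_center_sq (hZ : Nat.card (Subgroup.center H) = p ^ 2) {z : H} (hz : z ∈ Subgroup.center H) :
    z ^ (p ^ 2) = 1 := by
  have := pow_card_eq_one' (G := Subgroup.center H) (x := ⟨z, hz⟩)
  rw [hZ] at this
  exact congrArg Subtype.val this

/-- With a centre of order `p²` the exponent divides `p²`. -/
theorem EssData.exp_sq_of_center_sq {A : Subgroup (MulAut H)} (hd : EssData p H A) (hcard : Nat.card H = p ^ 4)
    (hZ : Nat.card (Subgroup.center H) = p ^ 2) : ∀ x : H, x ^ (p ^ 2) = 1 := by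
  have hpp : p.Prime := Fact.out
  have hna := not_comm_of_sq hcard hZ
  have hcc := comm_mem_center_of_sq hcard hZ
  have hcp := comm_pow_eq_one_of_sq hcard hZ
  have hpc := pow_mem_center_of_sq hcard hZ
  obtain ⟨hG'card, hG'le⟩ := card_commutator_of_sq hcard hZ
  by_contra hex
  push Not at hex
  obtain ⟨x₀, hx₀⟩ := hex
  have h2p : 2 ≠ p ^ 2 := by
    have := hpp.two_le
    nlinarith
  have hmul : ∀ a b : H, (a * b) ^ (p ^ 2) = a ^ (p ^ 2) * b ^ (p ^ 2) := by
    intro a b
    rw [Cfsg.Agent.Lib.Helper23.mul_pow_of_central_commutator a b (hcc b a) (p ^ 2)]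
    obtain ⟨m, hm⟩ := hpp.dvd_choose_pow (n := 2) (k := 2) (by norm_num) h2p
    rw [hm, pow_mul, hcp, one_pow, mul_one]
  obtain ⟨ρ, hρ⟩ : ∃ ρ : H →* H, ∀ x, ρ x = x ^ (p ^ 2) := ⟨MonoidHom.mk' (fun x => x ^ (p ^ 2)) hmul, fun x => rfl⟩
  have hrange_le : ρ.range ≤ Subgroup.center H := by
    rintro _ ⟨x, rfl⟩
    rw [hρ, pow_two, pow_mul]
    exact pow_mem (hpc x) p
  have hrange_ne : ρ.range ≠ ⊥ := by
    intro hbot
    apply hx₀
    have : ρ x₀ ∈ ρ.range := ⟨x₀, rfl⟩
    rw [hbot, Subgroup.mem_bot, hρ] at this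
    exact this
  obtain ⟨b, hb4, hb⟩ := card_subgroup_of_card_pow hcard ρ.range
  have hb2 : b ≤ 2 := by
    have := Subgroup.card_le_of_le hrange_le
    rw [hb, hZ] at this
    exact pow_le_pow_iff_of_prime.mp this
  have hb0 : b ≠ 0 := by
    rintro rfl
    rw [pow_zero] at hb
    exact hrange_ne (Subgroup.card_eq_one.mp hb)
  have hb2' : b ≠ 2 := by
    rintro rfl
    have heq : ρ.range = Subgroup.center H := Subgroup.eq_of_le_of_card_ge hrange_le (by rw [hb, hZ])
    have hZexp : ∀ z ∈ Subgroup.center H, z ^ p = 1 := by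
      intro z hz
      rw [← heq] at hz
      obtain ⟨g, rfl⟩ := hz
      rw [hρ, ← pow_mul, ← pow_succ]
      exact pow_cube_eq_one_of_not_comm hcard hna g
    apply hx₀
    rw [pow_two, pow_mul]
    exact hZexp _ (hpc x₀)
  have hb1 : b = 1 := by omega
  subst hb1
  have hker_card : Nat.card ρ.ker = p ^ 3 := by
    have h1 := card_ker_mul_card_range ρ
    rw [hb, hcard, pow_one] at h1
    have h3 : p ^ 4 = p ^ 3 * p := by rw [pow_succ]
    rw [h3] at h1
    exact Nat.eq_of_mul_eq_mul_right hpp.pos h1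
  have hker_mem : ∀ x, x ∈ ρ.ker ↔ x ^ (p ^ 2) = 1 := by
    intro x
    rw [MonoidHom.mem_ker, hρ]
  apply hd.no_chain5 hcard (commutator H) (Subgroup.center H) ρ.ker hG'le
    (center_le_of_pow_eq_one hρ (fun z hz => pow_card_center_sq hZ hz)) hG'card hZ hker_card
  · intro γ _ x
    exact char_inv (commutator H) γ x
  · intro γ _ x
    exact char_inv (Subgroup.center H) γ x
  · intro γ _ x
    rw [hker_mem, hker_mem, ← map_pow, map_eq_one_iff γ γ.injective]

/-- Odd `p`, centre elementary abelian of order `p²`: exponent `p`. -/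
theorem EssData.exp_p_of_center_sq_odd {A : Subgroup (MulAut H)} (hd : EssData p H A) (hcard : Nat.card H = p ^ 4)
    (hZ : Nat.card (Subgroup.center H) = p ^ 2) (hZexp : ∀ z ∈ Subgroup.center H, z ^ p = 1) (hodd : p ≠ 2) :
    ∀ x : H, x ^ p = 1 := by
  have hpp : p.Prime := Fact.out
  have hna := not_comm_of_sq hcard hZ
  have hcc := comm_mem_center_of_sq hcard hZ
  have hcp := comm_pow_eq_one_of_sq hcard hZ
  have hpc := pow_mem_center_of_sq hcard hZ
  obtain ⟨hG'card, hG'le⟩ := card_commutator_of_sq hcard hZ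
  have hp2 : 2 < p := by
    have := hpp.two_le
    omega
  have hmul : ∀ a b : H, (a * b) ^ p = a ^ p * b ^ p := by
    intro a b
    rw [Cfsg.Agent.Lib.Helper23.mul_pow_of_central_commutator a b (hcc b a) p]
    obtain ⟨m, hm⟩ := hpp.dvd_choose_self (k := 2) (by norm_num) hp2
    rw [hm, pow_mul, hcp, one_pow, mul_one]
  obtain ⟨π, hπ⟩ : ∃ π : H →* H, ∀ x, π x = x ^ p := ⟨MonoidHom.mk' (fun x => x ^ p) hmul, fun x => rfl⟩
  have hrange_le : π.range ≤ Subgroup.center H := by
    rintro _ ⟨x, rfl⟩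
    rw [hπ]
    exact hpc x
  have hZker : Subgroup.center H ≤ π.ker := center_le_of_pow_eq_one hπ hZexp
  have hker_mem : ∀ x, x ∈ π.ker ↔ x ^ p = 1 := by
    intro x
    rw [MonoidHom.mem_ker, hπ]
  obtain ⟨k, hk4, hk⟩ := card_subgroup_of_card_pow hcard π.ker
  have hk2 : 2 ≤ k := by
    have := Subgroup.card_le_of_le hZker
    rw [hk, hZ] at this
    exact pow_le_pow_iff_of_prime.mp this
  have hcases : k = 2 ∨ k = 3 ∨ k = 4 := by omega
  rcases hcases with rfl | rfl | rfl
  · -- `ker π = Z`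
    exfalso
    have hkerZ : Subgroup.center H = π.ker := Subgroup.eq_of_le_of_card_ge hZker (by rw [hk, hZ])
    have hrange_card : Nat.card π.range = p ^ 2 := by
      have h1 := card_ker_mul_card_range π
      rw [hk, hcard] at h1
      have h3 : p ^ 4 = p ^ 2 * p ^ 2 := by rw [← pow_add]
      rw [h3] at h1
      exact Nat.eq_of_mul_eq_mul_left (pow_pos hpp.pos 2) h1
    have hrange : π.range = Subgroup.center H := Subgroup.eq_of_le_of_card_ge hrange_le (by rw [hrange_card, hZ])
    obtain ⟨T3, hT3⟩ : ∃ T3 : Subgroup H, T3 = (commutator H).comap π := ⟨_, rfl⟩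
    have hT3mem : ∀ x, x ∈ T3 ↔ x ^ p ∈ commutator H := by
      intro x
      rw [hT3, Subgroup.mem_comap, hπ]
    have hZT3 : Subgroup.center H ≤ T3 := by
      intro z hz
      rw [hT3mem, hZexp z hz]
      exact one_mem _
    have hG'ne : commutator H ≠ ⊥ := by
      intro h
      rw [h, Subgroup.card_bot] at hG'card
      exact hpp.one_lt.ne hG'card
    obtain ⟨⟨c, hc⟩, hc1⟩ := (Subgroup.ne_bot_iff_exists_ne_one).mp hG'ne
    have hc1' : c ≠ 1 := fun h => hc1 (Subtype.ext h)
    have hcr : c ∈ π.range := hrange ▸ hG'le hc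
    obtain ⟨g, hg⟩ := hcr
    have hgT3 : g ∈ T3 := by
      rw [hT3mem, ← hπ, hg]
      exact hc
    have hgZ : g ∉ Subgroup.center H := by
      intro h
      apply hc1'
      rw [← hg, hπ]
      exact hZexp g h
    have hZne : Subgroup.center H ≠ T3 := by
      intro h
      exact hgZ (h ▸ hgT3)
    have hG'Zne : commutator H ≠ Subgroup.center H := by
      intro h
      rw [h, hZ] at hG'card
      have h2 : p ^ 2 = p ^ 1 := by rw [hG'card, pow_one]
      have := pow_inj_of_prime h2
      omega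
    obtain ⟨z, hzZ, hzG'⟩ := SetLike.exists_of_lt (lt_of_le_of_ne hG'le hG'Zne)
    have hzr : z ∈ π.range := hrange ▸ hzZ
    obtain ⟨g', hg'⟩ := hzr
    have hg'T3 : g' ∉ T3 := by
      rw [hT3mem, ← hπ, hg']
      exact hzG'
    obtain ⟨a, ha4, ha⟩ := card_subgroup_of_card_pow hcard T3
    have ha2 : 2 < a := by
      have := card_lt_of_le_of_ne' hZT3 hZne
      rw [hZ, ha] at this
      exact pow_lt_pow_iff_of_prime.mp this
    have ha4' : a ≠ 4 := by
      rintro rfl
      apply hg'T3
      have : T3 = ⊤ := Subgroup.eq_top_of_card_eq _ (by rw [ha, hcard])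
      rw [this]
      exact Subgroup.mem_top _
    have ha3 : a = 3 := by omega
    subst ha3
    apply hd.no_chain5 hcard (commutator H) (Subgroup.center H) T3 hG'le hZT3 hG'card hZ ha
    · intro γ _ x
      exact char_inv (commutator H) γ x
    · intro γ _ x
      exact char_inv (Subgroup.center H) γ x
    · intro γ _ x
      rw [hT3mem, hT3mem, ← map_pow]
      exact char_inv (commutator H) γ (x ^ p)
  · -- `|ker π| = p³`
    exfalso
    apply hd.no_chain5 hcard (commutator H) (Subgroup.center H) π.ker hG'le hZker hG'card hZ hk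
    · intro γ _ x
      exact char_inv (commutator H) γ x
    · intro γ _ x
      exact char_inv (Subgroup.center H) γ x
    · intro γ _ x
      rw [hker_mem, hker_mem, ← map_pow, map_eq_one_iff γ γ.injective]
  · -- exponent `p`
    intro x
    rw [← hker_mem]
    have : π.ker = ⊤ := Subgroup.eq_top_of_card_eq _ (by rw [hk, hcard])
    rw [this]
    exact Subgroup.mem_top x

end CenterSqEss

end Cfsg.Agent.Lib.Helper26
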