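import Cfsg.Agent.Lib.Helper26.OrderP4D

/-!
Groups of order `2⁴` carrying `EssData`: part E (centre elementary abelian of order four: all squares lie in the
derived subgroup and noncentral elements have order four).
-/

set_option autoImplicit false
universe u

namespace Cfsg.Agent.Lib.Helper26

open Cfsg
open scoped commutatorElement

section CenterSqTwo

variable {H : Type u} [Group H] [Finite H]

theorem sq_mul_of_central {a b : H} (h : ⁅b, a⁆ ∈ Subgroup.center H) : (a * b) ^ 2 = a ^ 2 * b ^ 2 * ⁅b, a⁆ := by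
  rw [Cfsg.Agent.Lib.Helper23.mul_pow_of_central_commutator a b h 2, Nat.choose_self, pow_one]

theorem sq_mul_of_mem_center {z g : H} (hz : z ∈ Subgroup.center H) : (z * g) ^ 2 = z ^ 2 * g ^ 2 := by
  have : Commute z g := (Subgroup.mem_center_iff.mp hz g).symm
  exact this.mul_pow 2

/-- `p = 2`, centre elementary abelian of order four. -/
theorem EssData.sq_of_center_sq_two {A : Subgroup (MulAut H)} (hd : EssData 2 H A) (hcard : Nat.card H = 2 ^ 4)
    (hZ : Nat.card (Subgroup.center H) = 2 ^ 2) (hZexp : ∀ z ∈ Subgroup.center H, z ^ 2 = 1) :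
    (∀ g : H, g ^ 2 ∈ commutator H) ∧ ∀ g : H, g ∉ Subgroup.center H → g ^ 2 ≠ 1 := by
  have hna := not_comm_of_sq (p := 2) hcard hZ
  have hcc := comm_mem_center_of_sq (p := 2) hcard hZ
  have hpc := pow_mem_center_of_sq (p := 2) hcard hZ
  obtain ⟨hG'card, hG'le⟩ := card_commutator_of_sq (p := 2) hcard hZ
  have huniq : ∀ a ∈ commutator H, ∀ b ∈ commutator H, a ≠ 1 → b ≠ 1 → a = b := by
    intro a ha b hb ha1 hb1
    obtain ⟨y, -, hy⟩ := (Nat.card_eq_two_iff' (1 : commutator H)).mp hG'card
    have h1 := hy ⟨a, ha⟩ (fun h => ha1 (congrArg Subtype.val h))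
    have h2 := hy ⟨b, hb⟩ (fun h => hb1 (congrArg Subtype.val h))
    exact congrArg Subtype.val (h1.trans h2.symm)
  have hcomm_mem : ∀ a b : H, ⁅a, b⁆ ∈ commutator H := fun a b =>
    Subgroup.commutator_mem_commutator (Subgroup.mem_top a) (Subgroup.mem_top b)
  have hZtop : Subgroup.center H ≠ ⊤ := by
    intro h
    rw [h, Subgroup.card_top, hcard] at hZ
    norm_num at hZ
  have hidxZG' : Nat.card (Subgroup.center H) = 2 * Nat.card (commutator H) := by
    rw [hZ, hG'card]
    norm_num
  -- the subgroup of elements whose square lies in the derived subgroup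
  let Msub : Subgroup H :=
    { carrier := {g | g ^ 2 ∈ commutator H}
      one_mem' := by
        show (1 : H) ^ 2 ∈ commutator H
        rw [one_pow]
        exact one_mem _
      mul_mem' := by
        intro a b ha hb
        show (a * b) ^ 2 ∈ commutator H
        rw [sq_mul_of_central (hcc b a)]
        exact mul_mem (mul_mem ha hb) (hcomm_mem b a)
      inv_mem' := by
        intro a ha
        show (a⁻¹) ^ 2 ∈ commutator H
        rw [inv_pow]
        exact inv_mem ha }
  have hMmem : ∀ g, g ∈ Msub ↔ g ^ 2 ∈ commutator H := fun g => Iff.rfl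
  have hZM : Subgroup.center H ≤ Msub := by
    intro z hz
    rw [hMmem, hZexp z hz]
    exact one_mem _
  have hMinv : ∀ γ : MulAut H, ∀ x, x ∈ Msub ↔ γ x ∈ Msub := by
    intro γ x
    rw [hMmem, hMmem, ← map_pow]
    exact char_inv (commutator H) γ (x ^ 2)
  obtain ⟨x, hx⟩ := exists_not_mem_of_ne_top hZtop
  have hCx := card_centralizer_of_sq (p := 2) hcard hZ hx
  have hCxtop : Subgroup.centralizer {x} ≠ ⊤ := by
    rw [Ne, centralizer_singleton_eq_top_iff]
    exact hx
  obtain ⟨y, hy⟩ := exists_not_mem_of_ne_top hCxtop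
  have hyZ : y ∉ Subgroup.center H := fun h => hy (center_le_centralizer_singleton x h)
  have hMne : Subgroup.center H ≠ Msub := by
    intro hZM'
    have hx2 : x ^ 2 ∉ commutator H := fun h => hx (hZM' ▸ (hMmem x).mpr h)
    have hy2 : y ^ 2 ∉ commutator H := fun h => hyZ (hZM' ▸ (hMmem y).mpr h)
    have h1 : x ^ 2 * y ^ 2 ∈ commutator H :=
      mul_mem_of_rel_index_two hG'le hidxZG' (hpc x) (hpc y) hx2 hy2
    have h2 : x * y ∈ Msub := by
      rw [hMmem, sq_mul_of_central (hcc y x)]
      exact mul_mem h1 (hcomm_mem y x)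
    rw [← hZM'] at h2
    apply hy
    have h3 : y = x⁻¹ * (x * y) := by group
    rw [h3]
    exact mul_mem (inv_mem (self_mem_centralizer_singleton x)) (center_le_centralizer_singleton x h2)
  obtain ⟨a, ha4, ha⟩ := card_subgroup_of_card_pow (p := 2) hcard Msub
  have ha2 : 2 < a := by
    have := card_lt_of_le_of_ne' hZM hMne
    rw [hZ, ha] at this
    exact (pow_lt_pow_iff_of_prime (p := 2)).mp this
  have hcases : a = 3 ∨ a = 4 := by omega
  rcases hcases with rfl | rfl
  · exfalso
    apply hd.no_chain5 hcard (commutator H) (Subgroup.center H) Msub hG'le hZM hG'card hZ ha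
    · intro γ _ x
      exact char_inv (commutator H) γ x
    · intro γ _ x
      exact char_inv (Subgroup.center H) γ x
    · intro γ _ x
      exact hMinv γ x
  have hMtop : Msub = ⊤ := Subgroup.eq_top_of_card_eq _ (by rw [ha, hcard])
  have hsq : ∀ g : H, g ^ 2 ∈ commutator H := by
    intro g
    rw [← hMmem, hMtop]
    exact Subgroup.mem_top g
  refine ⟨hsq, ?_⟩
  -- the subgroup generated by the elements of order four
  obtain ⟨g₀, hg₀⟩ : ∃ g : H, g ^ 2 ≠ 1 := by
    by_contra hall
    push Not at hall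
    apply hna
    intro a b
    have h1 := hall (a * b)
    have ha := hall a
    have hb := hall b
    rw [pow_two] at h1 ha hb
    have ha' : a⁻¹ = a := inv_eq_of_mul_eq_one_left ha
    have hb' : b⁻¹ = b := inv_eq_of_mul_eq_one_left hb
    have h2 : (a * b)⁻¹ = a * b := inv_eq_of_mul_eq_one_left h1
    rw [mul_inv_rev, ha', hb'] at h2
    exact h2.symm
  obtain ⟨N, hNdef⟩ : ∃ N : Subgroup H, N = Subgroup.closure {y : H | y ^ 2 ≠ 1} := ⟨_, rfl⟩
  have hNinv' : ∀ γ : MulAut H, ∀ y ∈ N, γ y ∈ N := by
    intro γ y hy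
    rw [hNdef] at hy ⊢
    induction hy using Subgroup.closure_induction with
    | mem y hy =>
      apply Subgroup.subset_closure
      show (γ y) ^ 2 ≠ 1
      rw [← map_pow, Ne, map_eq_one_iff γ γ.injective]
      exact hy
    | one => rw [map_one]; exact one_mem _
    | mul a b _ _ iha ihb => rw [map_mul]; exact mul_mem iha ihb
    | inv a _ iha => rw [map_inv]; exact inv_mem iha
  have hg₀N : g₀ ∈ N := by
    rw [hNdef]
    exact Subgroup.subset_closure hg₀
  have hg₀Z : g₀ ∉ Subgroup.center H := fun h => hg₀ (hZexp g₀ h)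
  have hZN : Subgroup.center H ≤ N := by
    intro z hz
    have h1 : z * g₀ ∈ N := by
      rw [hNdef]
      apply Subgroup.subset_closure
      show (z * g₀) ^ 2 ≠ 1
      rw [sq_mul_of_mem_center hz, hZexp z hz, one_mul]
      exact hg₀
    have h2 : z = z * g₀ * g₀⁻¹ := by group
    rw [h2]
    exact mul_mem h1 (inv_mem hg₀N)
  have hZNne : Subgroup.center H ≠ N := by
    intro h
    exact hg₀Z (h ▸ hg₀N)
  obtain ⟨b, hb4, hb⟩ := card_subgroup_of_card_pow (p := 2) hcard N
  have hb2 : 2 < b := by
    have := card_lt_of_le_of_ne' hZN hZNne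
    rw [hZ, hb] at this
    exact (pow_lt_pow_iff_of_prime (p := 2)).mp this
  have hcases : b = 3 ∨ b = 4 := by omega
  rcases hcases with rfl | rfl
  · exfalso
    apply hd.no_chain5 hcard (commutator H) (Subgroup.center H) N hG'le hZN hG'card hZ hb
    · intro γ _ x
      exact char_inv (commutator H) γ x
    · intro γ _ x
      exact char_inv (Subgroup.center H) γ x
    · intro γ _ x
      exact inv_of_map_mem hNinv' γ x
  have hNtop : N = ⊤ := Subgroup.eq_top_of_card_eq _ (by rw [hb, hcard])
  intro g hgZ hg2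
  -- `g` is a noncentral involution
  have hCg := card_centralizer_of_sq (p := 2) hcard hZ hgZ
  have hidxCg : Nat.card (Subgroup.centralizer {g}) = 2 * Nat.card (Subgroup.center H) := by
    rw [hCg, hZ]
    norm_num
  have hginv : g⁻¹ = g := by
    rw [pow_two] at hg2
    exact inv_eq_of_mul_eq_one_left hg2
  have hCgsq : ∀ u ∈ Subgroup.centralizer {g}, u ^ 2 = 1 := by
    intro u hu
    by_cases huZ : u ∈ Subgroup.center H
    · exact hZexp u huZ
    · have h1 : u * g ∈ Subgroup.center H :=
        mul_mem_of_rel_index_two (center_le_centralizer_singleton g) hidxCg hu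
          (self_mem_centralizer_singleton g) huZ hgZ
      have h2 : u = (u * g) * g := by
        rw [mul_assoc, ← pow_two, hg2, mul_one]
      rw [h2, sq_mul_of_mem_center h1, hZexp _ h1, hg2, one_mul]
  have hclaim : ∀ q : H, q ^ 2 ≠ 1 → q ∈ Subgroup.centralizer {g₀} := by
    intro q hq
    have hqg : q ∉ Subgroup.centralizer {g} := fun h => hq (hCgsq q h)
    have hg₀g : g₀ ∉ Subgroup.centralizer {g} := fun h => hg₀ (hCgsq g₀ h)
    have h1 : ⁅q, g⁆ ≠ 1 := by
      rw [Ne, commutatorElement_eq_one_iff_mul_comm]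
      exact fun h => hqg (mem_centralizer_singleton_iff.mpr h)
    have h2 : ⁅g₀, g⁆ ≠ 1 := by
      rw [Ne, commutatorElement_eq_one_iff_mul_comm]
      exact fun h => hg₀g (mem_centralizer_singleton_iff.mpr h)
    have h3 : ⁅q, g⁆ = ⁅g₀, g⁆ := huniq _ (hcomm_mem q g) _ (hcomm_mem g₀ g) h1 h2
    obtain ⟨u, hu⟩ : ∃ u, u = q * g₀⁻¹ := ⟨_, rfl⟩
    have hug : u ∈ Subgroup.centralizer {g} := by
      rw [← commHom_ker g (fun a => hcc a g), MonoidHom.mem_ker, hu, map_mul, map_inv, commHom_apply,
        commHom_apply, h3, mul_inv_cancel]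
    have hu2 : u ^ 2 = 1 := hCgsq u hug
    have hq' : q = u * g₀ := by rw [hu]; group
    have hcomm : ⁅g₀, u⁆ = 1 := by
      by_contra hne
      have h4 : ⁅g₀, u⁆ = g₀ ^ 2 := huniq _ (hcomm_mem g₀ u) _ (hsq g₀) hne hg₀
      apply hq
      rw [hq', sq_mul_of_central (hcc g₀ u), hu2, one_mul, h4, ← pow_two, ← pow_mul]
      have := hZexp _ (hpc g₀)
      rw [← pow_mul] at this
      exact this
    rw [commutatorElement_eq_one_iff_mul_comm] at hcomm
    rw [mem_centralizer_singleton_iff, hq', ← mul_assoc g₀ u g₀, hcomm]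
  have hNle : N ≤ Subgroup.centralizer {g₀} := by
    rw [hNdef, Subgroup.closure_le]
    intro q hq
    exact hclaim q hq
  rw [hNtop, top_le_iff, centralizer_singleton_eq_top_iff] at hNle
  exact hg₀Z hNle

end CenterSqTwo

end Cfsg.Agent.Lib.Helper26
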