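import Cfsg.Agent.Lib.Helper26.OrderP4E

/-!
Groups of order `p⁴`: part F (splitting off a central factor of order `p`).
-/

set_option autoImplicit false
universe u

namespace Cfsg.Agent.Lib.Helper26

open Cfsg
open scoped commutatorElement

section Split

variable {H : Type u} [Group H]

/-- The homomorphism from `ZMod n` sending `1` to an element `z` with `zⁿ = 1`. -/
noncomputable def zmodHom (n : ℕ) (z : H) (hz : z ^ n = 1) : Multiplicative (ZMod n) →* H :=
  AddMonoidHom.toMultiplicativeLeft (ZMod.lift n ⟨zmultiplesHom (Additive H) (Additive.ofMul z), by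
    rw [zmultiplesHom_apply, natCast_zsmul, ← ofMul_pow, hz, ofMul_one]⟩)

theorem zmodHom_one (n : ℕ) (z : H) (hz : z ^ n = 1) : zmodHom n z hz (Multiplicative.ofAdd 1) = z := by
  have hz' : (zmultiplesHom (Additive H) (Additive.ofMul z)) ((n : ℕ) : ℤ) = 0 := by
    rw [zmultiplesHom_apply, natCast_zsmul, ← ofMul_pow, hz, ofMul_one]
  have := ZMod.lift_coe n ⟨zmultiplesHom (Additive H) (Additive.ofMul z), hz'⟩ 1
  rw [Int.cast_one] at this
  show ((ZMod.lift n ⟨zmultiplesHom (Additive H) (Additive.ofMul z), hz'⟩) 1).toMul = z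
  rw [this]
  show ((zmultiplesHom (Additive H) (Additive.ofMul z)) 1).toMul = z
  rw [zmultiplesHom_apply, one_zsmul]
  rfl

variable [Finite H] {p : ℕ} [Fact p.Prime]

/-- `H = M × ⟨z⟩` for a subgroup `M` of index `p` and a central element `z ∉ M` of order `p`. -/
theorem exists_iso_prod {E : Type*} [Group E] (hcard : Nat.card H = p ^ 4) (M : Subgroup H)
    (hM : Nat.card M = p ^ 3) (e : E ≃* ↥M) {z : H} (hzc : z ∈ Subgroup.center H) (hzp : z ^ p = 1)
    (hzM : z ∉ M) : Nonempty (H ≃* E × Multiplicative (ZMod p)) := by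
  have hpp : p.Prime := Fact.out
  have : NeZero p := ⟨hpp.ne_zero⟩
  have hzp' : (⟨z, hzc⟩ : Subgroup.center H) ^ p = 1 := Subtype.ext (by simpa using hzp)
  obtain ⟨g, hg⟩ : ∃ g : Multiplicative (ZMod p) →* H, g = (Subgroup.center H).subtype.comp
      (zmodHom p (⟨z, hzc⟩ : Subgroup.center H) hzp') := ⟨_, rfl⟩
  have hg1 : g (Multiplicative.ofAdd 1) = z := by
    rw [hg, MonoidHom.comp_apply, zmodHom_one]
    rfl
  have hgc : ∀ n, g n ∈ Subgroup.center H := by
    intro n
    rw [hg, MonoidHom.comp_apply]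
    exact Subtype.property _
  obtain ⟨f, hf⟩ : ∃ f : E →* H, f = M.subtype.comp e.toMonoidHom := ⟨_, rfl⟩
  have hfe : ∀ x : E, f x = (e x : H) := by
    intro x
    rw [hf]
    rfl
  have hcomm : ∀ (m : E) (n : Multiplicative (ZMod p)), Commute (f m) (g n) := by
    intro m n
    exact Subgroup.mem_center_iff.mp (hgc n) (f m)
  obtain ⟨ψ, hψ⟩ : ∃ ψ : E × Multiplicative (ZMod p) →* H, ψ = MonoidHom.noncommCoprod f g hcomm := ⟨_, rfl⟩
  have hMle : M ≤ ψ.range := by
    intro m hm
    refine ⟨(e.symm ⟨m, hm⟩, 1), ?_⟩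
    rw [hψ, MonoidHom.noncommCoprod_apply, map_one, mul_one, hfe, MulEquiv.apply_symm_apply]
  have hzr : z ∈ ψ.range := by
    refine ⟨(1, Multiplicative.ofAdd 1), ?_⟩
    rw [hψ, MonoidHom.noncommCoprod_apply, map_one, one_mul, hg1]
  have hidx : Nat.card H = p * Nat.card M := by rw [hcard, hM, pow_succ, mul_comm]
  have hrange : ψ.range = ⊤ := by
    apply eq_top_of_lt_of_card_mul hidx hMle
    intro h
    exact hzM (h ▸ hzr)
  have hsurj : Function.Surjective ψ := MonoidHom.range_eq_top.mp hrange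
  have hcardE : Nat.card (E × Multiplicative (ZMod p)) = p ^ 4 := by
    rw [Nat.card_prod, Nat.card_congr e.toEquiv, hM, Nat.card_congr Multiplicative.toAdd, Nat.card_zmod]
    ring
  have : Finite E := Finite.of_equiv _ e.symm.toEquiv
  have hbij : Function.Bijective ψ := hsurj.bijective_of_nat_card_le (by rw [hcardE, hcard])
  exact ⟨(MulEquiv.ofBijective ψ hbij).symm⟩

/-- A complement to a central subgroup of order `p` when `Φ(H) = H'` has order `p` and the centre is elementary
abelian of order `p²`. -/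
theorem exists_split (hcard : Nat.card H = p ^ 4) (hZ : Nat.card (Subgroup.center H) = p ^ 2)
    (hZexp : ∀ z ∈ Subgroup.center H, z ^ p = 1) (hpow : ∀ g : H, g ^ p ∈ commutator H) :
    ∃ (M : Subgroup H) (z : H), Nat.card M = p ^ 3 ∧ z ∈ Subgroup.center H ∧ z ∉ M ∧ z ^ p = 1 ∧
      ¬ (∀ a b : M, a * b = b * a) := by
  have hpp : p.Prime := Fact.out
  have hH : IsPGroup p H := IsPGroup.of_card hcard
  obtain ⟨hG'card, hG'le⟩ := card_commutator_of_sq hcard hZ
  have hfr : frattini H ≤ commutator H := Cfsg.Agent.S0013.result p hH (commutator H) le_rfl hpow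
  have hG'Zne : commutator H ≠ Subgroup.center H := by
    intro h
    rw [h, hZ] at hG'card
    have h2 : p ^ 2 = p ^ 1 := by rw [hG'card, pow_one]
    have := pow_inj_of_prime h2
    omega
  obtain ⟨z, hzZ, hzG'⟩ := SetLike.exists_of_lt (lt_of_le_of_ne hG'le hG'Zne)
  have hzfr : z ∉ frattini H := fun h => hzG' (hfr h)
  obtain ⟨M, hMco, hzM⟩ : ∃ M : Subgroup H, IsCoatom M ∧ z ∉ M := by
    by_contra hall
    push Not at hall
    apply hzfr
    unfold frattini Order.radical
    rw [Subgroup.mem_iInf]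
    intro K
    rw [Subgroup.mem_iInf]
    intro hK
    exact hall K hK
  have hzp : z ^ p = 1 := hZexp z hzZ
  have hz1 : z ≠ 1 := fun h => hzM (h ▸ one_mem M)
  have hsup : M ⊔ Subgroup.zpowers z = ⊤ := by
    apply hMco.2
    refine lt_of_le_of_ne le_sup_left ?_
    intro h
    apply hzM
    rw [h]
    exact (le_sup_right : Subgroup.zpowers z ≤ _) (Subgroup.mem_zpowers z)
  have hcomm : ∀ (m : M) (n : Subgroup.zpowers z), Commute (M.subtype m) ((Subgroup.zpowers z).subtype n) := by
    intro m n
    have hn : (n : H) ∈ Subgroup.center H := (Subgroup.zpowers_le.mpr hzZ) n.2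
    exact Subgroup.mem_center_iff.mp hn m
  have hrange : (MonoidHom.noncommCoprod M.subtype (Subgroup.zpowers z).subtype hcomm).range = ⊤ := by
    rw [MonoidHom.noncommCoprod_range, Subgroup.range_subtype, Subgroup.range_subtype]
    exact hsup
  have hsurj : Function.Surjective (MonoidHom.noncommCoprod M.subtype (Subgroup.zpowers z).subtype hcomm) :=
    MonoidHom.range_eq_top.mp hrange
  have hle := Nat.card_le_card_of_surjective _ hsurj
  have hzcard : Nat.card (Subgroup.zpowers z) = p := by
    rw [Nat.card_zpowers, orderOf_eq_prime hzp hz1]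
  rw [Nat.card_prod, hzcard, hcard] at hle
  obtain ⟨a, ha4, ha⟩ := card_subgroup_of_card_pow hcard M
  have ha3 : 3 ≤ a := by
    rw [ha, ← pow_succ] at hle
    have := pow_le_pow_iff_of_prime.mp hle
    omega
  have ha4' : a ≠ 4 := by
    rintro rfl
    exact hMco.1 (Subgroup.eq_top_of_card_eq _ (by rw [ha, hcard]))
  have ha3' : a = 3 := by omega
  subst ha3'
  refine ⟨M, z, ha, hzZ, hzM, hzp, ?_⟩
  intro hab
  -- `M` abelian would make `M` central
  have hMZ : M ≤ Subgroup.center H := by
    intro m hm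
    have hcen : Subgroup.centralizer {m} = ⊤ := by
      rw [eq_top_iff, ← hsup, sup_le_iff]
      constructor
      · intro m' hm'
        rw [mem_centralizer_singleton_iff]
        exact congrArg Subtype.val (hab ⟨m', hm'⟩ ⟨m, hm⟩)
      · rw [Subgroup.zpowers_le]
        exact center_le_centralizer_singleton m hzZ
    exact centralizer_singleton_eq_top_iff.mp hcen
  have := Subgroup.card_le_of_le hMZ
  rw [ha, hZ] at this
  have := pow_le_pow_iff_of_prime.mp this
  omega

end Split

end Cfsg.Agent.Lib.Helper26
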