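import Cfsg.Agent.Lib.Helper26.OrderP4F

/-!
Groups of order `p⁴` carrying `EssData`: part G (the nonabelian case, the abelian case and the main theorem).
-/

set_option autoImplicit false
universe u

namespace Cfsg.Agent.Lib.Helper26

open Cfsg
open scoped commutatorElement

section Quaternion

/-- A group of order eight generated by `x`, `y` with the quaternion relations is quaternion. -/
theorem quaternion_of_relations {Q : Type*} [Group Q] [Finite Q] (hcard : Nat.card Q = 8) {x y : Q}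
    (hx2 : x ^ 2 ≠ 1) (hx4 : x ^ 4 = 1) (hy : y * y = x ^ 2) (hconj : y * x * y⁻¹ = x⁻¹) :
    Nonempty (QuaternionGroup 2 ≃* Q) := by
  have hx4' : x ^ 2 ^ (1 + 1) = 1 := hx4
  have hord : orderOf x = 2 ^ (1 + 1) := orderOf_eq_prime_pow (by rw [pow_one]; exact hx2) hx4'
  have ht : orderOf x = 2 * 2 := hord
  have hinj := Cfsg.Agent.Lib.Helper2.quatHom_injective (n := 2) le_rfl ht hy hconj
  have hcardQ : Nat.card (QuaternionGroup 2) = 8 := by
    rw [Nat.card_eq_fintype_card, QuaternionGroup.card]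
  have hbij : Function.Bijective (Cfsg.Agent.Lib.Helper2.quatHom ht hy hconj) :=
    hinj.bijective_of_nat_card_le (by rw [hcardQ, hcard])
  exact ⟨MulEquiv.ofBijective _ hbij⟩

end Quaternion

section Nonabelian

variable {H : Type u} [Group H] [Finite H] {p : ℕ} [Fact p.Prime]

/-- The nonabelian case. -/
theorem EssData.order_p4_nonabelian {A : Subgroup (MulAut H)} (hd : EssData p H A) (hcard : Nat.card H = p ^ 4)
    (hna : ¬ ∀ a b : H, a * b = b * a) :
    (Odd p ∧ ∃ (E : Type) (_ : Group E) (_ : Finite E), IsExtraspecial p E ∧ Nat.card E = p ^ 3 ∧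
        (∀ x : E, x ^ p = 1) ∧ Nonempty (H ≃* E × Multiplicative (ZMod p))) ∨
      (p = 2 ∧ Nonempty (H ≃* QuaternionGroup 2 × Multiplicative (ZMod 2))) ∨
      ((∀ x : H, x ^ (p ^ 2) = 1) ∧ IsCyclic ↥(Subgroup.center H) ∧ Nat.card (Subgroup.center H) = p ^ 2) := by
  have hpp : p.Prime := Fact.out
  rcases card_center_of_p4 hcard hna with hZ | hZ
  · exact (hd.false_of_center_p hcard hZ).elim
  by_cases hcyc : IsCyclic ↥(Subgroup.center H)
  · right
    right
    exact ⟨hd.exp_sq_of_center_sq hcard hZ, hcyc, hZ⟩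
  have hZexp := center_exp_of_not_cyclic hZ hcyc
  by_cases hp2 : p = 2
  · subst hp2
    right
    left
    refine ⟨rfl, ?_⟩
    obtain ⟨hsq, hne⟩ := hd.sq_of_center_sq_two hcard hZ hZexp
    obtain ⟨M, z, hM, hzZ, hzM, hzp, hMna⟩ := exists_split hcard hZ hZexp hsq
    obtain ⟨hG'card, hG'le⟩ := card_commutator_of_sq (p := 2) hcard hZ
    have huniq : ∀ a ∈ commutator H, ∀ b ∈ commutator H, a ≠ 1 → b ≠ 1 → a = b := by
      intro a ha b hb ha1 hb1
      obtain ⟨y, -, hy⟩ := (Nat.card_eq_two_iff' (1 : commutator H)).mp hG'card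
      have h1 := hy ⟨a, ha⟩ (fun h => ha1 (congrArg Subtype.val h))
      have h2 := hy ⟨b, hb⟩ (fun h => hb1 (congrArg Subtype.val h))
      exact congrArg Subtype.val (h1.trans h2.symm)
    push Not at hMna
    obtain ⟨a, b, hab⟩ := hMna
    have habH : (a : H) * (b : H) ≠ (b : H) * (a : H) := by
      intro h
      exact hab (Subtype.ext h)
    have haZ : (a : H) ∉ Subgroup.center H := by
      intro h
      exact habH (Subgroup.mem_center_iff.mp h (b : H)).symm
    have hbZ : (b : H) ∉ Subgroup.center H := by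
      intro h
      exact habH (Subgroup.mem_center_iff.mp h (a : H))
    have ha2 : (a : H) ^ 2 ≠ 1 := hne _ haZ
    have hb2 : (b : H) ^ 2 ≠ 1 := hne _ hbZ
    have hba : (b : H) ^ 2 = (a : H) ^ 2 := huniq _ (hsq _) _ (hsq _) hb2 ha2
    have hcne : ⁅(b : H), (a : H)⁆ ≠ 1 := by
      rw [Ne, commutatorElement_eq_one_iff_mul_comm]
      exact fun h => habH h.symm
    have hc : ⁅(b : H), (a : H)⁆ = (a : H) ^ 2 :=
      huniq _ (Subgroup.commutator_mem_commutator (Subgroup.mem_top _) (Subgroup.mem_top _)) _ (hsq _) hcne ha2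
    have ha4 : (a : H) ^ 4 = 1 := by
      have := hZexp _ (hG'le (hsq (a : H)))
      rw [← pow_mul] at this
      exact this
    have hconj : (b : H) * (a : H) * (b : H)⁻¹ = (a : H)⁻¹ := by
      have h1 : (b : H) * (a : H) * (b : H)⁻¹ = ⁅(b : H), (a : H)⁆ * (a : H) := by
        rw [commutatorElement_def, inv_mul_cancel_right]
      rw [h1, hc, ← pow_succ]
      apply eq_inv_of_mul_eq_one_left
      rw [← pow_succ]
      exact ha4
    have hM8 : Nat.card M = 8 := by rw [hM]; norm_num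
    obtain ⟨e⟩ := quaternion_of_relations (Q := ↥M) hM8 (x := a) (y := b)
      (fun h => ha2 (by simpa using congrArg Subtype.val h))
      (Subtype.ext (by simpa using ha4))
      (Subtype.ext (by
        show (b : H) * (b : H) = ((a ^ 2 : M) : H)
        rw [← pow_two, hba]
        simp))
      (Subtype.ext (by simpa using hconj))
    exact exists_iso_prod hcard M hM e hzZ hzp hzM
  · left
    have hodd : Odd p := by
      rcases hpp.eq_two_or_odd' with h | h
      · exact absurd h hp2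
      · exact h
    refine ⟨hodd, ?_⟩
    have hexp := hd.exp_p_of_center_sq_odd hcard hZ hZexp hp2
    obtain ⟨M, z, hM, hzZ, hzM, hzp, hMna⟩ := exists_split hcard hZ hZexp
      (fun g => by rw [hexp]; exact one_mem _)
    obtain ⟨e⟩ : Nonempty (Shrink.{0} ↥M ≃* ↥M) := ⟨Shrink.mulEquiv⟩
    have hcardE : Nat.card (Shrink.{0} ↥M) = p ^ 3 := by rw [Nat.card_congr e.toEquiv, hM]
    have hfinE : Finite (Shrink.{0} ↥M) := Finite.of_equiv _ e.symm.toEquiv
    have hnaE : ¬ ∀ a b : Shrink.{0} ↥M, a * b = b * a := by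
      intro h
      apply hMna
      intro a b
      have := h (e.symm a) (e.symm b)
      rw [← map_mul, ← map_mul] at this
      exact e.symm.injective this
    refine ⟨Shrink.{0} ↥M, inferInstance, hfinE, (cube_structure hcardE hnaE).2.2, hcardE, ?_,
      exists_iso_prod hcard M hM e hzZ hzp hzM⟩
    intro x
    apply e.injective
    rw [map_pow, map_one]
    apply Subtype.ext
    show ((e x : M) : H) ^ p = 1
    exact hexp _

end Nonabelian

section Abelian

variable {H : Type u} [CommGroup H] [Finite H] {p : ℕ} [Fact p.Prime]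

/-- The additive homomorphism from `ZMod n` sending `1` to `z`. -/
noncomputable def zmodAddHom (n : ℕ) (z : H) (hz : z ^ n = 1) : ZMod n →+ Additive H :=
  ZMod.lift n ⟨zmultiplesHom (Additive H) (Additive.ofMul z), by
    rw [zmultiplesHom_apply, natCast_zsmul, ← ofMul_pow, hz, ofMul_one]⟩

theorem zmodAddHom_one (n : ℕ) (z : H) (hz : z ^ n = 1) : zmodAddHom n z hz 1 = Additive.ofMul z := by
  have hz' : (zmultiplesHom (Additive H) (Additive.ofMul z)) ((n : ℕ) : ℤ) = 0 := by
    rw [zmultiplesHom_apply, natCast_zsmul, ← ofMul_pow, hz, ofMul_one]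
  have := ZMod.lift_coe n ⟨zmultiplesHom (Additive H) (Additive.ofMul z), hz'⟩ 1
  rw [Int.cast_one] at this
  show (ZMod.lift n ⟨zmultiplesHom (Additive H) (Additive.ofMul z), hz'⟩) 1 = _
  rw [this]
  show (zmultiplesHom (Additive H) (Additive.ofMul z)) 1 = _
  rw [zmultiplesHom_apply, one_zsmul]

/-- An abelian group of order `p⁴` with `|℧₁| = p` is `C_{p²} × C_p × C_p`. -/
theorem iso_211 (hcard : Nat.card H = p ^ 4) (hag : Nat.card (agemo p H 1) = p) :
    Nonempty (H ≃* Multiplicative (ZMod (p ^ 2) × ZMod p × ZMod p)) := by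
  classical
  have hpp : p.Prime := Fact.out
  letI : Fintype H := Fintype.ofFinite H
  haveI : NeZero (p ^ 2) := ⟨pow_ne_zero _ hpp.ne_zero⟩
  haveI : NeZero p := ⟨hpp.ne_zero⟩
  have hH : IsPGroup p H := IsPGroup.of_card hcard
  have hfr : (frattini H).index = p ^ 3 := by
    rw [frattini_eq_agemo hH]
    have h1 := Subgroup.card_mul_index (agemo p H 1)
    rw [hag, hcard] at h1
    have h3 : p ^ 4 = p * p ^ 3 := by rw [pow_succ, mul_comm]
    rw [h3] at h1
    exact Nat.eq_of_mul_eq_mul_left hpp.pos h1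
  obtain ⟨Om, hOm⟩ : ∃ Om : Subgroup H, Om = (powMonoidHom p : H →* H).ker := ⟨_, rfl⟩
  have hOmmem : ∀ x, x ∈ Om ↔ x ^ p = 1 := by
    intro x
    rw [hOm, MonoidHom.mem_ker, powMonoidHom_apply]
  have hrange : (powMonoidHom p : H →* H).range = agemo p H 1 := by
    show _ = (powMonoidHom (p ^ 1) : H →* H).range
    rw [pow_one]
  have hOmcard : Nat.card Om = p ^ 3 := by
    have h1 := card_ker_mul_card_range (powMonoidHom p : H →* H)
    rw [hrange, hag, hcard, ← hOm] at h1
    have h3 : p ^ 4 = p ^ 3 * p := by rw [pow_succ]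
    rw [h3] at h1
    exact Nat.eq_of_mul_eq_mul_right hpp.pos h1
  have hOmtop : Om ≠ ⊤ := by
    intro h
    rw [h, Subgroup.card_top, hcard] at hOmcard
    have := pow_inj_of_prime hOmcard
    omega
  obtain ⟨a, ha⟩ := exists_not_mem_of_ne_top hOmtop
  have hidx : Nat.card H = p * Nat.card Om := by rw [hcard, hOmcard, pow_succ, mul_comm]
  obtain ⟨S, hS⟩ : ∃ S : Finset H, S = insert a (Finset.univ.filter (· ∈ Om)) := ⟨_, rfl⟩
  have hSgen : Subgroup.closure (S : Set H) = ⊤ := by
    apply eq_top_of_lt_of_card_mul hidx (K := Om)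
    · intro x hx
      apply Subgroup.subset_closure
      rw [hS, Finset.coe_insert]
      right
      rw [Finset.mem_coe, Finset.mem_filter]
      exact ⟨Finset.mem_univ x, hx⟩
    · intro h
      apply ha
      rw [h]
      apply Subgroup.subset_closure
      rw [hS, Finset.coe_insert]
      left
      rfl
  obtain ⟨T, hTS, hT3, hTgen⟩ := (Cfsg.Agent.S0014.result p 3 hH hfr).1 S hSgen
  have hTmem : ∀ b ∈ T, b ≠ a → b ∈ Om := by
    intro b hb hba
    have := hTS hb
    rw [hS, Finset.mem_insert, Finset.mem_filter] at this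
    rcases this with h | h
    · exact absurd h hba
    · exact h.2
  have haT : a ∈ T := by
    by_contra haT
    apply hOmtop
    rw [eq_top_iff, ← hTgen, Subgroup.closure_le]
    intro b hb
    exact hTmem b hb (fun h => haT (h ▸ hb))
  have hcard2 : (T.erase a).card = 2 := by
    rw [Finset.card_erase_of_mem haT, hT3]
  obtain ⟨b₁, b₂, -, hb12⟩ := Finset.card_eq_two.mp hcard2
  have hb₁T : b₁ ∈ T.erase a := by rw [hb12]; exact Finset.mem_insert_self _ _
  have hb₂T : b₂ ∈ T.erase a := by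
    rw [hb12]
    exact Finset.mem_insert_of_mem (Finset.mem_singleton_self _)
  have hb₁ : b₁ ^ p = 1 := by
    rw [← hOmmem]
    exact hTmem b₁ (Finset.mem_of_mem_erase hb₁T) (Finset.ne_of_mem_erase hb₁T)
  have hb₂ : b₂ ^ p = 1 := by
    rw [← hOmmem]
    exact hTmem b₂ (Finset.mem_of_mem_erase hb₂T) (Finset.ne_of_mem_erase hb₂T)
  have hTeq : T = insert a {b₁, b₂} := by
    rw [← hb12, Finset.insert_erase haT]
  have ha2 : a ^ (p ^ 2) = 1 := by
    have h1 : a ^ p ∈ agemo p H 1 := mem_agemo.mpr ⟨a, by rw [pow_one]⟩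
    have h2 := pow_card_eq_one' (G := agemo p H 1) (x := ⟨a ^ p, h1⟩)
    rw [hag] at h2
    have h3 := congrArg Subtype.val h2
    rw [pow_two, pow_mul]
    simpa using h3
  obtain ⟨ψ, hψ⟩ : ∃ ψ : Multiplicative (ZMod (p ^ 2) × ZMod p × ZMod p) →* H,
      ψ = AddMonoidHom.toMultiplicativeLeft (AddMonoidHom.coprod (zmodAddHom (p ^ 2) a ha2)
        (AddMonoidHom.coprod (zmodAddHom p b₁ hb₁) (zmodAddHom p b₂ hb₂))) := ⟨_, rfl⟩
  have hψa : ψ (Multiplicative.ofAdd (1, 0, 0)) = a := by
    rw [hψ]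
    show ((AddMonoidHom.coprod (zmodAddHom (p ^ 2) a ha2)
      (AddMonoidHom.coprod (zmodAddHom p b₁ hb₁) (zmodAddHom p b₂ hb₂))) (1, 0, 0)).toMul = a
    rw [AddMonoidHom.coprod_apply]
    show (zmodAddHom (p ^ 2) a ha2 1 + (AddMonoidHom.coprod (zmodAddHom p b₁ hb₁) (zmodAddHom p b₂ hb₂)) (0, 0)).toMul = a
    rw [AddMonoidHom.coprod_apply]
    show (zmodAddHom (p ^ 2) a ha2 1 + (zmodAddHom p b₁ hb₁ 0 + zmodAddHom p b₂ hb₂ 0)).toMul = a
    rw [map_zero, map_zero, add_zero, add_zero, zmodAddHom_one]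
    rfl
  have hψb₁ : ψ (Multiplicative.ofAdd (0, 1, 0)) = b₁ := by
    rw [hψ]
    show ((AddMonoidHom.coprod (zmodAddHom (p ^ 2) a ha2)
      (AddMonoidHom.coprod (zmodAddHom p b₁ hb₁) (zmodAddHom p b₂ hb₂))) (0, 1, 0)).toMul = b₁
    rw [AddMonoidHom.coprod_apply]
    show (zmodAddHom (p ^ 2) a ha2 0 + (AddMonoidHom.coprod (zmodAddHom p b₁ hb₁) (zmodAddHom p b₂ hb₂)) (1, 0)).toMul = b₁
    rw [AddMonoidHom.coprod_apply]
    show (zmodAddHom (p ^ 2) a ha2 0 + (zmodAddHom p b₁ hb₁ 1 + zmodAddHom p b₂ hb₂ 0)).toMul = b₁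
    rw [map_zero, map_zero, add_zero, zero_add, zmodAddHom_one]
    rfl
  have hψb₂ : ψ (Multiplicative.ofAdd (0, 0, 1)) = b₂ := by
    rw [hψ]
    show ((AddMonoidHom.coprod (zmodAddHom (p ^ 2) a ha2)
      (AddMonoidHom.coprod (zmodAddHom p b₁ hb₁) (zmodAddHom p b₂ hb₂))) (0, 0, 1)).toMul = b₂
    rw [AddMonoidHom.coprod_apply]
    show (zmodAddHom (p ^ 2) a ha2 0 + (AddMonoidHom.coprod (zmodAddHom p b₁ hb₁) (zmodAddHom p b₂ hb₂)) (0, 1)).toMul = b₂
    rw [AddMonoidHom.coprod_apply]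
    show (zmodAddHom (p ^ 2) a ha2 0 + (zmodAddHom p b₁ hb₁ 0 + zmodAddHom p b₂ hb₂ 1)).toMul = b₂
    rw [map_zero, map_zero, zero_add, zero_add, zmodAddHom_one]
    rfl
  have hrange : ψ.range = ⊤ := by
    rw [eq_top_iff, ← hTgen, Subgroup.closure_le]
    intro z hz
    rw [hTeq, Finset.coe_insert, Finset.coe_insert, Finset.coe_singleton] at hz
    rcases hz with rfl | rfl | hz
    · exact ⟨_, hψa⟩
    · exact ⟨_, hψb₁⟩
    · rw [Set.mem_singleton_iff] at hz
      subst hz
      exact ⟨_, hψb₂⟩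
  have hsurj : Function.Surjective ψ := MonoidHom.range_eq_top.mp hrange
  have hcardZ : Nat.card (Multiplicative (ZMod (p ^ 2) × ZMod p × ZMod p)) = p ^ 4 := by
    rw [Nat.card_congr Multiplicative.toAdd, Nat.card_prod, Nat.card_prod, Nat.card_zmod, Nat.card_zmod]
    ring
  have hbij : Function.Bijective ψ := hsurj.bijective_of_nat_card_le (by rw [hcardZ, hcard])
  exact ⟨(MulEquiv.ofBijective ψ hbij).symm⟩

/-- The abelian case. -/
theorem EssData.order_p4_comm {A : Subgroup (MulAut H)} (hd : EssData p H A) (hcard : Nat.card H = p ^ 4) :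
    (∀ x : H, x ^ p = 1) ∨ Nonempty (H ≃* Multiplicative (ZMod (p ^ 2) × ZMod p × ZMod p)) ∨
      ((p = 2 ∨ p = 3) ∧ Nonempty (H ≃* Multiplicative (ZMod (p ^ 2) × ZMod (p ^ 2)))) := by
  have hpp : p.Prime := Fact.out
  have hH : IsPGroup p H := IsPGroup.of_card hcard
  obtain ⟨hdvd, hcore⟩ := hd.of_comm mul_comm
  obtain ⟨a, ha4, ha⟩ := card_subgroup_of_card_pow hcard (agemo p H 1)
  have hidx : (agemo p H 1).index = p ^ (4 - a) := by
    have h1 := Subgroup.card_mul_index (agemo p H 1)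
    rw [ha, hcard] at h1
    have h3 : p ^ 4 = p ^ a * p ^ (4 - a) := by
      rw [← pow_add]
      congr 1
      omega
    rw [h3] at h1
    exact Nat.eq_of_mul_eq_mul_left (pow_pos hpp.pos a) h1
  by_cases ha0 : a = 0
  · left
    subst ha0
    rw [pow_zero] at ha
    have hbot := Subgroup.card_eq_one.mp ha
    intro x
    have : x ^ p ∈ agemo p H 1 := mem_agemo.mpr ⟨x, by rw [pow_one]⟩
    rw [hbot, Subgroup.mem_bot] at this
    exact this
  by_cases ha1 : a = 1
  · right
    left
    subst ha1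
    rw [pow_one] at ha
    exact iso_211 hcard ha
  right
  right
  have hrk : (agemo p H 1).index ≤ p ^ 2 := by
    rw [hidx]
    exact pow_le_pow_iff_of_prime.mpr (by omega)
  rcases abelian_rank_two hH hdvd hcore hrk with ⟨-, h2⟩ | ⟨hp3, k, ⟨e⟩⟩
  · exfalso
    rw [hcard] at h2
    have := pow_inj_of_prime h2
    omega
  · have hp23 : p = 2 ∨ p = 3 := by
      have h2 := hpp.two_le
      interval_cases p
      · left; rfl
      · right; rfl
    refine ⟨hp23, ?_⟩
    haveI : NeZero (p ^ k) := ⟨pow_ne_zero _ hpp.ne_zero⟩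
    have h2 := Nat.card_congr e.toEquiv
    rw [hcard, Nat.card_congr Multiplicative.toAdd, Nat.card_prod, Nat.card_zmod, ← pow_add] at h2
    have h3 := pow_inj_of_prime h2
    have hk : k = 2 := by omega
    subst hk
    exact ⟨e⟩

end Abelian

section Main

variable {H : Type u} [Group H] [Finite H] {p : ℕ} [Fact p.Prime]

/-- **Groups of order `p⁴` with `EssData`.** -/
theorem EssData.order_p4 {A : Subgroup (MulAut H)} (hd : EssData p H A) (hcard : Nat.card H = p ^ 4) :
    ((∀ a b : H, a * b = b * a) ∧ ∀ x : H, x ^ p = 1) ∨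
      Nonempty (H ≃* Multiplicative (ZMod (p ^ 2) × ZMod p × ZMod p)) ∨
      ((p = 2 ∨ p = 3) ∧ Nonempty (H ≃* Multiplicative (ZMod (p ^ 2) × ZMod (p ^ 2)))) ∨
      (Odd p ∧ ∃ (E : Type) (_ : Group E) (_ : Finite E), IsExtraspecial p E ∧ Nat.card E = p ^ 3 ∧
        (∀ x : E, x ^ p = 1) ∧ Nonempty (H ≃* E × Multiplicative (ZMod p))) ∨
      (p = 2 ∧ Nonempty (H ≃* QuaternionGroup 2 × Multiplicative (ZMod 2))) ∨
      ((¬ ∀ a b : H, a * b = b * a) ∧ (∀ x : H, x ^ (p ^ 2) = 1) ∧ IsCyclic ↥(Subgroup.center H) ∧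
        Nat.card (Subgroup.center H) = p ^ 2) := by
  by_cases hcomm : ∀ a b : H, a * b = b * a
  · letI : CommGroup H := { ‹Group H› with mul_comm := hcomm }
    rcases EssData.order_p4_comm (H := H) hd hcard with h | h | h
    · left
      exact ⟨hcomm, h⟩
    · right
      left
      exact h
    · right
      right
      left
      exact h
  · rcases hd.order_p4_nonabelian hcard hcomm with h | h | h
    · right; right; right; left
      exact h
    · right; right; right; right; left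
      exact h
    · right; right; right; right; right
      exact ⟨hcomm, h⟩

end Main

end Cfsg.Agent.Lib.Helper26
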