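import Cfsg.Agent.Lib.Helper26.OrderPCubeA

/-!
Groups of order `p³` carrying `EssData`: part B (odd `p`: exponent `p`; `p = 2`: quaternion), and the main theorem.
-/

set_option autoImplicit false
universe u

namespace Cfsg.Agent.Lib.Helper26

open Cfsg
open scoped commutatorElement

section

variable {H : Type u} [Group H] [Finite H] {p : ℕ} [Fact p.Prime]

theorem pow_eq_one_of_mem_center_card (hZ : Nat.card (Subgroup.center H) = p) {z : H}
    (hz : z ∈ Subgroup.center H) : z ^ p = 1 := by
  have := pow_card_eq_one' (G := Subgroup.center H) (x := ⟨z, hz⟩)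
  rw [hZ] at this
  exact congrArg Subtype.val this

/-- A subgroup properly containing a subgroup of order `p²` in a group of order `p³` is everything. -/
theorem eq_top_of_lt_of_card_sq (hcard : Nat.card H = p ^ 3) {K L : Subgroup H} (hK : Nat.card K = p ^ 2)
    (hKL : K ≤ L) (hne : K ≠ L) : L = ⊤ := by
  have hpp : p.Prime := Fact.out
  have hH := isPGroup_of_card_cube (H := H) hcard
  obtain ⟨a, ha⟩ := (hH.to_subgroup L).exists_card_eq
  have h1 : Nat.card K < Nat.card L := card_lt_of_le_of_ne' hKL hne
  rw [hK, ha] at h1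
  have h2 : 2 < a := (Nat.pow_lt_pow_iff_right hpp.one_lt).mp h1
  have h3 : p ^ a ∣ p ^ 3 := by
    rw [← ha, ← hcard]
    exact Subgroup.card_subgroup_dvd_card L
  have h4 : a ≤ 3 := (Nat.pow_dvd_pow_iff_le_right hpp.one_lt).mp h3
  have h5 : a = 3 := by omega
  apply Subgroup.eq_top_of_card_eq
  rw [ha, h5, hcard]

/-- Odd `p`: a nonabelian group of order `p³` with `EssData` has exponent `p`. -/
theorem EssData.exp_p_of_odd {A : Subgroup (MulAut H)} (hd : EssData p H A) (hcard : Nat.card H = p ^ 3)
    (hna : ¬ ∀ a b : H, a * b = b * a) (hodd : p ≠ 2) : ∀ x : H, x ^ p = 1 := by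
  have hpp : p.Prime := Fact.out
  have hH := isPGroup_of_card_cube (H := H) hcard
  obtain ⟨hcomm, hpow, hes⟩ := cube_structure hcard hna
  have hZ : Nat.card (Subgroup.center H) = p := hes.2
  by_contra hex
  push Not at hex
  obtain ⟨x₀, hx₀⟩ := hex
  have hp2 : 2 < p := by
    have := hpp.two_le
    omega
  have hmul : ∀ a b : H, (a * b) ^ p = a ^ p * b ^ p := by
    intro a b
    rw [Cfsg.Agent.Lib.Helper23.mul_pow_of_central_commutator a b (hcomm b a) p]
    obtain ⟨c, hc⟩ := hpp.dvd_choose_self (k := 2) (by norm_num) hp2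
    rw [hc, pow_mul, pow_eq_one_of_mem_center_card hZ (hcomm b a), one_pow, mul_one]
  obtain ⟨φ, hφ⟩ : ∃ φ : H →* H, ∀ x, φ x = x ^ p := ⟨MonoidHom.mk' (fun x => x ^ p) hmul, fun x => rfl⟩
  have hrange_le : φ.range ≤ Subgroup.center H := by
    rintro _ ⟨x, rfl⟩
    rw [hφ]
    exact hpow x
  have hrange_ne : φ.range ≠ ⊥ := by
    intro hbot
    apply hx₀
    have : φ x₀ ∈ φ.range := ⟨x₀, rfl⟩
    rw [hbot, Subgroup.mem_bot, hφ] at this
    exact this
  have hrange_card : Nat.card φ.range = p := by
    obtain ⟨a, ha⟩ := (hH.to_subgroup φ.range).exists_card_eq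
    have ha0 : a ≠ 0 := by
      rintro rfl
      rw [pow_zero] at ha
      exact hrange_ne (Subgroup.card_eq_one.mp ha)
    have h1 : Nat.card φ.range ≤ p := hZ ▸ Subgroup.card_le_of_le hrange_le
    rw [ha] at h1 ⊢
    have h2 : a ≤ 1 := by
      by_contra h
      have : p ^ 2 ≤ p ^ a := Nat.pow_le_pow_right hpp.pos (by omega)
      have h3 : p < p ^ 2 := by
        calc p = p ^ 1 := (pow_one p).symm
          _ < p ^ 2 := Nat.pow_lt_pow_right hpp.one_lt (by norm_num)
      omega
    have : a = 1 := by omega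
    rw [this, pow_one]
  have hker_card : Nat.card φ.ker = p ^ 2 := by
    have h1 := Subgroup.card_mul_index φ.ker
    rw [Subgroup.index_ker, hrange_card, hcard] at h1
    have h3 : p ^ 3 = p ^ 2 * p := by rw [pow_succ]
    rw [h3] at h1
    exact Nat.eq_of_mul_eq_mul_right hpp.pos h1
  have hker_mem : ∀ x, x ∈ φ.ker ↔ x ^ p = 1 := by
    intro x
    rw [MonoidHom.mem_ker, hφ]
  apply hd.no_chain4 hcard (Subgroup.center H) φ.ker
  · intro z hz
    rw [hker_mem]
    exact pow_eq_one_of_mem_center_card hZ hz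
  · exact hZ
  · exact hker_card
  · intro γ _ x
    exact char_inv (Subgroup.center H) γ x
  · intro γ _ x
    rw [hker_mem, hker_mem, ← map_pow, map_eq_one_iff γ γ.injective]

/-- `p = 2`: a nonabelian group of order `8` with `EssData` is quaternion. -/
theorem EssData.quaternion_of_two {A : Subgroup (MulAut H)} (hd : EssData 2 H A) (hcard : Nat.card H = 2 ^ 3)
    (hna : ¬ ∀ a b : H, a * b = b * a) : Nonempty (H ≃* QuaternionGroup 2) := by
  obtain ⟨hcomm, hpow, hes⟩ := cube_structure (p := 2) hcard hna
  have hZ : Nat.card (Subgroup.center H) = 2 := hes.2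
  have huniq : ∀ a ∈ Subgroup.center H, ∀ b ∈ Subgroup.center H, a ≠ 1 → b ≠ 1 → a = b := by
    intro a ha b hb ha1 hb1
    obtain ⟨y, -, hy⟩ := (Nat.card_eq_two_iff' (1 : Subgroup.center H)).mp hZ
    have h1 := hy ⟨a, ha⟩ (fun h => ha1 (congrArg Subtype.val h))
    have h2 := hy ⟨b, hb⟩ (fun h => hb1 (congrArg Subtype.val h))
    exact congrArg Subtype.val (h1.trans h2.symm)
  have hz2 : ∀ z ∈ Subgroup.center H, z ^ 2 = 1 := fun z hz => pow_eq_one_of_mem_center_card hZ hz
  obtain ⟨x, hx⟩ : ∃ x : H, x ^ 2 ≠ 1 := by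
    by_contra hall
    push Not at hall
    apply hna
    intro a b
    have h1 := hall (a * b)
    have ha := hall a
    have hb := hall b
    rw [pow_two] at h1 ha hb
    have ha' : a⁻¹ = a := inv_eq_of_mul_eq_one_left ha
    have hb' : b⁻¹ = b := inv_eq_of_mul_eq_one_left hb
    have h2 : (a * b)⁻¹ = a * b := inv_eq_of_mul_eq_one_left h1
    rw [mul_inv_rev, ha', hb'] at h2
    exact h2.symm
  have hx4 : x ^ 2 ^ (1 + 1) = 1 := by
    have := hz2 _ (hpow x)
    rw [← pow_mul] at this
    exact this
  have hord : orderOf x = 2 ^ (1 + 1) := orderOf_eq_prime_pow (by rw [pow_one]; exact hx) hx4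
  have hord4 : orderOf x = 4 := hord
  have hKcard : Nat.card (Subgroup.zpowers x) = 2 ^ 2 := by
    rw [Nat.card_zpowers, hord]
  have hx4' : x ^ 4 = 1 := hx4
  obtain ⟨C, hCdef⟩ : ∃ C : Subgroup H, C = Subgroup.closure {y : H | y ^ 2 ≠ 1} := ⟨_, rfl⟩
  have hCinv : ∀ γ : MulAut H, ∀ y ∈ C, γ y ∈ C := by
    intro γ y hy
    rw [hCdef] at hy ⊢
    induction hy using Subgroup.closure_induction with
    | mem y hy =>
      apply Subgroup.subset_closure
      show (γ y) ^ 2 ≠ 1
      rw [← map_pow, Ne, map_eq_one_iff γ γ.injective]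
      exact hy
    | one => rw [map_one]; exact one_mem _
    | mul a b _ _ iha ihb => rw [map_mul]; exact mul_mem iha ihb
    | inv a _ iha => rw [map_inv]; exact inv_mem iha
  have hxC : x ∈ C := by
    rw [hCdef]
    exact Subgroup.subset_closure hx
  have hKC : Subgroup.zpowers x ≤ C := (Subgroup.zpowers_le).mpr hxC
  by_cases hC : C = ⊤
  · -- quaternion
    obtain ⟨y, hy2, hyK⟩ : ∃ y : H, y ^ 2 ≠ 1 ∧ y ∉ Subgroup.zpowers x := by
      by_contra hall
      push Not at hall
      have hle : C ≤ Subgroup.zpowers x := by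
        rw [hCdef, Subgroup.closure_le]
        intro y hy
        exact hall y hy
      rw [hC, top_le_iff] at hle
      have := hKcard
      rw [hle, Subgroup.card_top, hcard] at this
      norm_num at this
    have hyx2 : y ^ 2 = x ^ 2 := huniq _ (hpow y) _ (hpow x) hy2 hx
    have hnc : y * x ≠ x * y := by
      intro hyx
      have hxcent : Subgroup.zpowers x ≤ Subgroup.centralizer {x} := by
        rw [Subgroup.zpowers_le, Subgroup.mem_centralizer_iff]
        intro h hh
        rw [Set.mem_singleton_iff] at hh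
        rw [hh]
      have hycent : y ∈ Subgroup.centralizer {x} := by
        rw [Subgroup.mem_centralizer_iff]
        intro h hh
        rw [Set.mem_singleton_iff] at hh
        rw [hh]
        exact hyx.symm
      have hne : Subgroup.zpowers x ≠ Subgroup.centralizer {x} := by
        intro h
        rw [← h] at hycent
        exact hyK hycent
      have htop := eq_top_of_lt_of_card_sq hcard hKcard hxcent hne
      have hxZ : x ∈ Subgroup.center H := by
        rw [Subgroup.mem_center_iff]
        intro g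
        have hg : g ∈ Subgroup.centralizer {x} := htop ▸ Subgroup.mem_top g
        rw [Subgroup.mem_centralizer_iff] at hg
        exact (hg x rfl).symm
      exact hx (hz2 x hxZ)
    have hc : ⁅y, x⁆ = x ^ 2 := by
      apply huniq _ (hcomm y x) _ (hpow x) _ hx
      rw [Ne, commutatorElement_eq_one_iff_mul_comm]
      exact hnc
    have hconj : y * x * y⁻¹ = x⁻¹ := by
      have h1 : y * x * y⁻¹ = ⁅y, x⁆ * x := by
        rw [commutatorElement_def, inv_mul_cancel_right]
      rw [h1, hc, ← pow_succ]
      apply eq_inv_of_mul_eq_one_left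
      rw [← pow_succ]
      exact hx4'
    have hw : y * y = x ^ 2 := by rw [← pow_two]; exact hyx2
    have ht : orderOf x = 2 * 2 := hord4
    have hinj := Cfsg.Agent.Lib.Helper2.quatHom_injective (n := 2) le_rfl ht hw hconj
    have hcardQ : Nat.card (QuaternionGroup 2) = 8 := by
      rw [Nat.card_eq_fintype_card, QuaternionGroup.card]
    have hbij : Function.Bijective (Cfsg.Agent.Lib.Helper2.quatHom ht hw hconj) :=
      hinj.bijective_of_nat_card_le (by rw [hcardQ, hcard]; norm_num)
    exact ⟨(MulEquiv.ofBijective _ hbij).symm⟩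
  · -- the chain `1 < Z < C < H`
    exfalso
    have hCK : Subgroup.zpowers x = C := by
      by_contra hne
      exact hC (eq_top_of_lt_of_card_sq hcard hKcard hKC hne)
    apply hd.no_chain4 hcard (Subgroup.center H) C
    · intro z hz
      by_cases hz1 : z = 1
      · rw [hz1]
        exact one_mem _
      · rw [huniq z hz _ (hpow x) hz1 hx]
        exact pow_mem hxC 2
    · exact hZ
    · rw [← hCK]
      exact hKcard
    · intro γ _ z
      exact char_inv (Subgroup.center H) γ z
    · intro γ _ z
      constructor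
      · exact hCinv γ z
      · intro h
        have := hCinv γ⁻¹ _ h
        rwa [MulAut.inv_apply_self] at this

/-- **Groups of order `p³` with `EssData`.** -/
theorem EssData.order_cube {A : Subgroup (MulAut H)} (hd : EssData p H A) (hcard : Nat.card H = p ^ 3) :
    ((∀ a b : H, a * b = b * a) ∧ ∀ x : H, x ^ p = 1) ∨
      (Odd p ∧ IsExtraspecial p H ∧ ∀ x : H, x ^ p = 1) ∨
      (p = 2 ∧ Nonempty (H ≃* QuaternionGroup 2)) := by
  have hpp : p.Prime := Fact.out
  by_cases hcomm : ∀ a b : H, a * b = b * a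
  · left
    exact ⟨hcomm, hd.elementary_of_comm hcard hcomm⟩
  · right
    by_cases hp2 : p = 2
    · right
      subst hp2
      exact ⟨rfl, hd.quaternion_of_two hcard hcomm⟩
    · left
      refine ⟨?_, (cube_structure hcard hcomm).2.2, hd.exp_p_of_odd hcard hcomm hp2⟩
      rcases hpp.eq_two_or_odd' with h | h
      · exact absurd h hp2
      · exact h

end

end Cfsg.Agent.Lib.Helper26
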