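import Cfsg.Agent.Lib.Helper27.BS13

/-!
# Twisting bijections of a biset and their determinants (helper26)

`Tw S P θ γ`: the permutation `γ` of the `(S × S)`-set `X` intertwines the left action of `P` with the left action
twisted by the partial map `θ`, and commutes with the right action.  Composition, inverses, restriction, the
left multiplications, and the determinant of a left multiplication for a homomorphism `π` that is constant on the
classes of the fusion system.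
-/

set_option autoImplicit false
set_option linter.unusedSectionVars false
set_option linter.unusedVariables false

namespace Cfsg.Agent.Lib.Helper26.PPI

open Cfsg Cfsg.FusionSystem Cfsg.Agent.Lib.Helper26 Cfsg.Agent.Lib.Helper27.FM
open Cfsg.Agent.Lib.Helper27.BS MulAction

universe u

variable {Ω : Type u} [Group Ω] {S : Subgroup Ω}
variable {X : Type*} [MulAction ↥(S.prod S) X]

/-- `γ` is a twisting bijection for `θ` on `P` -/
def Tw (S : Subgroup Ω) {X : Type*} [MulAction ↥(S.prod S) X] (P : Subgroup Ω) (θ : Ω → Ω) (γ : Equiv.Perm X) : Prop :=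
  ∀ (a b a' : ↥S), (a : Ω) ∈ P → (a' : Ω) = θ a → ∀ x : X, γ (pair a b • x) = pair a' b • γ x

theorem Tw.mono {P P' : Subgroup Ω} {θ : Ω → Ω} {γ : Equiv.Perm X} (h : Tw S P θ γ) (hle : P' ≤ P) :
    Tw S P' θ γ := fun a b a' ha ha' x => h a b a' (hle ha) ha' x

theorem Tw.congr {P : Subgroup Ω} {θ θ' : Ω → Ω} {γ : Equiv.Perm X} (h : Tw S P θ γ)
    (he : ∀ x ∈ P, θ x = θ' x) : Tw S P θ' γ := fun a b a' ha ha' x =>
  h a b a' ha (by rw [ha', he _ ha]) x

theorem Tw.comp {P P' : Subgroup Ω} {θ θ' : Ω → Ω} {γ γ' : Equiv.Perm X} (h : Tw S P θ γ)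
    (h' : Tw S P' θ' γ') (hPP' : ∀ x ∈ P, θ x ∈ P') (hS : ∀ x ∈ P, θ x ∈ S) :
    Tw S P (fun x => θ' (θ x)) (γ' * γ) := by
  intro a b a' ha ha' x
  rw [Equiv.Perm.mul_apply, Equiv.Perm.mul_apply, h a b ⟨θ a, hS _ ha⟩ ha rfl x]
  exact h' ⟨θ a, hS _ ha⟩ b a' (hPP' _ ha) ha' (γ x)

theorem Tw.inv {P P' : Subgroup Ω} {θ θ' : Ω → Ω} {γ : Equiv.Perm X} (h : Tw S P θ γ)
    (hP' : ∀ y ∈ P', θ' y ∈ P ∧ θ (θ' y) = y) : Tw S P' θ' γ⁻¹ := by
  intro a' b a ha' ha x
  apply γ.injective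
  have h1 : ∀ y : X, γ (γ⁻¹ y) = y := fun y => γ.apply_symm_apply y
  have h2 : ((a : ↥S) : Ω) ∈ P := by rw [ha]; exact (hP' _ ha').1
  rw [h1, h a b a' h2 (by rw [ha, (hP' _ ha').2]) (γ⁻¹ x), h1]

theorem Tw.one (P : Subgroup Ω) : Tw S (X := X) P (fun x => x) 1 := by
  intro a b a' ha ha' x
  have : a' = a := Subtype.ext ha'
  rw [this]
  rfl

theorem tw_lam (P : Subgroup Ω) (s : ↥S) : Tw S P (fun x => (s : Ω) * x * (s : Ω)⁻¹) (lam X s) := by
  intro a b a' ha ha' x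
  rw [lam_apply, lam_apply, smul_smul, smul_smul]
  congr 1
  apply ext_c
  · show s * a = a' * s
    apply Subtype.ext
    show (s : Ω) * a = a' * s
    rw [ha']
    group
  · show (1 : ↥S) * b = b * 1
    rw [one_mul, mul_one]

variable [MulAction ↥S X]

theorem Tw.rEq {P : Subgroup Ω} {θ : Ω → Ω} {γ : Equiv.Perm X} (h : Tw S P θ γ) (h1 : θ 1 = 1)
    (hcomp : ∀ (b : ↥S) (x : X), b • x = pair 1 b • x) : REq ↥S γ := fun b x => by
  rw [hcomp, hcomp]
  exact h 1 b 1 P.one_mem (by rw [Subgroup.coe_one, h1]) x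

/-- the twisting bijections of a characteristic biset -/
theorem exists_tw {F : FusionSystem S}
    (htw : ∀ (P : Subgroup Ω) (θ : Ω → Ω) (hθ : IsFM F P θ), ∃ γ : X ≃ X,
        ∀ (a b : ↥S) (ha : (a : Ω) ∈ P) (x : X), γ (pair a b • x) = pair ⟨θ a, hθ.mem ha⟩ b • γ x)
    {P : Subgroup Ω} {θ : Ω → Ω} (hθ : IsFM F P θ) : ∃ γ : Equiv.Perm X, Tw S P θ γ := by
  obtain ⟨γ, hγ⟩ := htw P θ hθ
  refine ⟨γ, fun a b a' ha ha' x => ?_⟩
  rw [hγ a b ha x]
  have : a' = ⟨θ a, hθ.mem ha⟩ := Subtype.ext ha'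
  rw [this]

section Det

variable {A : Type*} [CommGroup A]

/-- `π` is constant on the classes of the system -/
def PStable (F : FusionSystem S) (π : ↥S →* A) : Prop :=
  ∀ (P : Subgroup Ω) (θ : Ω → Ω), IsFM F P θ → ∀ a a' : ↥S, (a : Ω) ∈ P → (a' : Ω) = θ a → π a' = π a

/-- the label function of a biset -/
theorem exists_label {F : FusionSystem S} (hst : ∀ x : X, IsGr F (stabilizer ↥(S.prod S) x))
    (π : ↥S →* A) (hπ : PStable F π) :
    ∃ f : X → A, ∀ (a b : ↥S) (x : X), f (pair a b • x) = (π a)⁻¹ * π b * f x := by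
  let χ : ↥(S.prod S) →* A :=
    MonoidHom.mk' (fun n => (π (c1 n))⁻¹ * π (c2 n)) (fun n m => by
      show (π (c1 (n * m)))⁻¹ * π (c2 (n * m)) = (π (c1 n))⁻¹ * π (c2 n) * ((π (c1 m))⁻¹ * π (c2 m))
      rw [c1_mul, c2_mul, map_mul, map_mul, mul_inv]
      rw [mul_mul_mul_comm])
  have hχ : ∀ n : ↥(S.prod S), χ n = (π (c1 n))⁻¹ * π (c2 n) := fun n => rfl
  have hχ1 : ∀ (x : X) (n : ↥(S.prod S)), n • x = x → χ n = 1 := by
    intro x n hn
    have h1 : n ∈ stabilizer ↥(S.prod S) x := hn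
    obtain ⟨P, θ, hθ, hg⟩ := hst x
    have h2 : ((n : ↥(S.prod S)) : Ω × Ω) ∈ up (stabilizer ↥(S.prod S) x) := coe_mem_up.mpr h1
    obtain ⟨h3, h4⟩ := (hg _).mp h2
    have h5 : θ ((c1 n : ↥S) : Ω) = ((c2 n : ↥S) : Ω) := h4
    have h6 : ((c1 n : ↥S) : Ω) ∈ P := h3
    rw [hχ, hπ P θ hθ (c1 n) (c2 n) h6 h5.symm, inv_mul_cancel]
  obtain ⟨f, hf⟩ := exists_equivariant_fun χ hχ1
  exact ⟨f, fun a b x => by rw [hf, hχ]; rfl⟩

variable [Finite X]

/-- the determinant computed from an equivariant function -/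
theorem det_eq_prod [Fintype (Orb ↥S X)] (hfree : ∀ (b : ↥S) (x : X), b • x = x → b = 1) (π : ↥S →* A)
    (g : Equiv.Perm X) (hg : REq ↥S g) (f : X → A) (hf : ∀ (b : ↥S) (x : X), f (b • x) = π b * f x) :
    det π g = ∏ o : Orb ↥S X, f (g (sec o)) * (f (sec o))⁻¹ := by
  unfold det
  have h1 : ∀ o : Orb ↥S X, π (cg g o) = f (g (sec o)) * (f (sec (gbar g o)))⁻¹ := by
    intro o
    have h2 := congrArg f (cg_spec g o)
    rw [hf] at h2
    exact eq_mul_inv_of_mul_eq h2.symm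
  rw [Finset.prod_congr rfl (fun o _ => h1 o), Finset.prod_mul_distrib, Finset.prod_mul_distrib,
    Finset.prod_inv_distrib, Finset.prod_inv_distrib]
  have h3 : ∏ o : Orb ↥S X, f (sec (gbar g o)) = ∏ o : Orb ↥S X, f (sec o) :=
    Equiv.prod_comp (gbarEquiv hg) (fun o => f (sec o))
  rw [h3]

/-- the determinant of a left multiplication -/
theorem det_lam [Fintype (Orb ↥S X)] (hcomp : ∀ (b : ↥S) (x : X), b • x = pair 1 b • x) {F : FusionSystem S}
    (hst : ∀ x : X, IsGr F (stabilizer ↥(S.prod S) x)) (π : ↥S →* A) (hπ : PStable F π) (s : ↥S) :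
    det π (lam X s) = (π s)⁻¹ ^ Fintype.card (Orb ↥S X) := by
  obtain ⟨f, hf⟩ := exists_label hst π hπ
  have hf1 : ∀ (b : ↥S) (x : X), f (b • x) = π b * f x := by
    intro b x
    rw [hcomp, hf]
    simp
  have hf2 : ∀ x : X, f (lam X s x) = (π s)⁻¹ * f x := by
    intro x
    rw [lam_apply, hf]
    simp
  exact det_eq_pow π (lam X s) (lam_rEq hcomp s) f hf1 _ hf2

theorem det_inv [Fintype (Orb ↥S X)] (hfree : ∀ (b : ↥S) (x : X), b • x = x → b = 1) (π : ↥S →* A)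
    {g : Equiv.Perm X} (hg : REq ↥S g) : det π g⁻¹ = (det π g)⁻¹ := by
  have h := det_mul hfree π hg hg.inv
  rw [mul_inv_cancel, det_one hfree] at h
  exact eq_inv_of_mul_eq_one_right h.symm

theorem det_pow [Fintype (Orb ↥S X)] (hfree : ∀ (b : ↥S) (x : X), b • x = x → b = 1) (π : ↥S →* A)
    {g : Equiv.Perm X} (hg : REq ↥S g) (n : ℕ) : det π (g ^ n) = (det π g) ^ n := by
  induction n with
  | zero => rw [pow_zero, pow_zero]; exact det_one hfree π
  | succ n ih =>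
    have hgn : REq ↥S (g ^ n) := by
      clear ih
      induction n with
      | zero => rw [pow_zero]; exact REq.one
      | succ n ih => rw [pow_succ]; exact ih.mul hg
    rw [pow_succ, pow_succ, det_mul hfree π hgn hg, ih]

end Det

end Cfsg.Agent.Lib.Helper26.PPI
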