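import Cfsg.Agent.Lib.Helper26.PPI1

/-!
# Equivariant permutations commuting with a `p`-group have trivial determinant (helper26)

Let `R` act freely on the finite set `X`, let the finite `p`-group `Q` act on `X` commuting with `R`, and let `δ` be a
permutation of `X` commuting with both.  If `π : R →* A`, `A` of exponent `p`, is trivial on the `R`-parts of the
stabilizers of `Q × R`, and trivial on the elements `b` with `δ^k x = b • x` for `x` in a `Q`-stable `R`-orbit, then
`det π δ = 1`.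
-/

set_option autoImplicit false
set_option linter.unusedSectionVars false
set_option linter.unusedVariables false
set_option linter.style.haveILetI false

namespace Cfsg.Agent.Lib.Helper26.PPI

open Cfsg.Agent.Lib.Helper27.BS MulAction

/-- an invariant function into a group of exponent `p` on a finite set with an action of a `p`-group, trivial on the
fixed points, has trivial product -/
theorem prod_eq_one_of_invariant {Q O A : Type*} [Group Q] [Finite Q] [Fintype O] [MulAction Q O] [CommGroup A]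
    {p : ℕ} [Fact p.Prime] (hQ : IsPGroup p Q) (hA : ∀ a : A, a ^ p = 1) (h : O → A)
    (hinv : ∀ (a : Q) (o : O), h (a • o) = h o) (hfix : ∀ o ∈ fixedPoints Q O, h o = 1) :
    ∏ o, h o = 1 := by
  classical
  letI : Fintype (orbitRel.Quotient Q O) := Fintype.ofFinite _
  rw [Fintype.prod_equiv (selfEquivSigmaOrbits Q O) h (fun s => h (s.2 : O)) (fun x => by
    show h x = h ((selfEquivSigmaOrbits Q O x).2 : O)
    rfl)]
  rw [Fintype.prod_sigma]
  apply Finset.prod_eq_one
  intro ω _
  have hconst : ∀ y : orbit Q (Quotient.out ω), h (y : O) = h (Quotient.out ω) := by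
    rintro ⟨y, a, rfl⟩
    exact hinv a _
  rw [Finset.prod_congr rfl (fun y _ => hconst y), Finset.prod_const, Finset.card_univ]
  by_cases hfx : Quotient.out ω ∈ fixedPoints Q O
  · rw [hfix _ hfx, one_pow]
  · obtain ⟨n, hn⟩ := hQ.card_orbit (Quotient.out ω)
    rw [Nat.card_eq_fintype_card] at hn
    have hn0 : n ≠ 0 := by
      intro h0
      rw [h0, pow_zero] at hn
      exact hfx (mem_fixedPoints_iff_card_orbit_eq_one.mpr hn)
    obtain ⟨m, rfl⟩ := Nat.exists_eq_succ_of_ne_zero hn0
    rw [hn, pow_succ', pow_mul, hA, one_pow]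

section Commute

variable {R Q : Type*} [Group R] [Group Q] {X : Type*} [MulAction R X] [MulAction Q X]

/-- the action of `Q` on the `R`-orbits -/
def orbSmul (hcomm : ∀ (a : Q) (b : R) (x : X), a • b • x = b • a • x) (a : Q) : Orb R X → Orb R X :=
  Quotient.map' (fun x => a • x) (fun x y hxy => by
    obtain ⟨b, hb⟩ := hxy
    refine ⟨b, ?_⟩
    show b • a • y = a • x
    rw [← hb]
    exact (hcomm a b y).symm)

theorem orbSmul_mk (hcomm : ∀ (a : Q) (b : R) (x : X), a • b • x = b • a • x) (a : Q) (x : X) :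
    orbSmul hcomm a (Quotient.mk'' x : Orb R X) = Quotient.mk'' (a • x) := rfl

/-- the action of `Q` on the `R`-orbits -/
def orbAction (hcomm : ∀ (a : Q) (b : R) (x : X), a • b • x = b • a • x) : MulAction Q (Orb R X) where
  smul a o := orbSmul hcomm a o
  one_smul o := by
    induction o using Quotient.inductionOn' with
    | h x =>
      show orbSmul hcomm 1 (Quotient.mk'' x : Orb R X) = Quotient.mk'' x
      rw [orbSmul_mk, one_smul]
  mul_smul a a' o := by
    induction o using Quotient.inductionOn' with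
    | h x =>
      show orbSmul hcomm (a * a') (Quotient.mk'' x : Orb R X) =
        orbSmul hcomm a (orbSmul hcomm a' (Quotient.mk'' x : Orb R X))
      rw [orbSmul_mk, orbSmul_mk, orbSmul_mk, mul_smul]

variable {A : Type*} [CommGroup A]

/-- the determinant computed from an equivariant function -/
theorem det_eq_prod' [Fintype (Orb R X)] (hfree : ∀ (b : R) (x : X), b • x = x → b = 1) (π : R →* A)
    (g : Equiv.Perm X) (hg : REq R g) (f : X → A) (hf : ∀ (b : R) (x : X), f (b • x) = π b * f x) :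
    det π g = ∏ o : Orb R X, f (g (sec o)) * (f (sec o))⁻¹ := by
  unfold det
  have h1 : ∀ o : Orb R X, π (cg g o) = f (g (sec o)) * (f (sec (gbar g o)))⁻¹ := by
    intro o
    have h2 := congrArg f (cg_spec g o)
    rw [hf] at h2
    exact eq_mul_inv_of_mul_eq h2.symm
  rw [Finset.prod_congr rfl (fun o _ => h1 o), Finset.prod_mul_distrib, Finset.prod_mul_distrib,
    Finset.prod_inv_distrib, Finset.prod_inv_distrib]
  have h3 : ∏ o : Orb R X, f (sec (gbar g o)) = ∏ o : Orb R X, f (sec o) :=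
    Equiv.prod_comp (gbarEquiv hg) (fun o => f (sec o))
  rw [h3]

theorem det_eq_one_of_commute [Finite Q] [Finite X] [Fintype (Orb R X)]
    (hfree : ∀ (b : R) (x : X), b • x = x → b = 1)
    (hcomm : ∀ (a : Q) (b : R) (x : X), a • b • x = b • a • x)
    {p : ℕ} [Fact p.Prime] (hQ : IsPGroup p Q) (hA : ∀ a : A, a ^ p = 1)
    (π : R →* A) (δ : Equiv.Perm X) (hδR : REq R δ) (hδQ : ∀ (a : Q) (x : X), δ (a • x) = a • δ x)
    (h1 : ∀ (a : Q) (b : R) (x : X), a • x = b • x → π b = 1)
    (h3 : ∀ x : X, (∀ a : Q, ∃ b : R, a • x = b • x) → ∀ (k : ℕ) (b : R), (δ ^ k) x = b • x → π b = 1) :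
    det π δ = 1 := by
  classical
  -- the `Q`-stable orbits
  let Y : X → Prop := fun x => ∀ a : Q, ∃ b : R, a • x = b • x
  have hYδ : ∀ x, Y (δ x) ↔ Y x := by
    intro x
    constructor
    · intro h a
      obtain ⟨b, hb⟩ := h a
      refine ⟨b, δ.injective ?_⟩
      rw [hδQ, hδR, hb]
    · intro h a
      obtain ⟨b, hb⟩ := h a
      exact ⟨b, by rw [← hδQ, hb, hδR]⟩
  have hYQ : ∀ (a : Q) x, Y x → Y (a • x) := by
    intro a x h a'
    obtain ⟨b, hb⟩ := h (a⁻¹ * a' * a)
    refine ⟨b, ?_⟩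
    have : a' • a • x = a • (a⁻¹ * a' * a) • x := by
      rw [smul_smul, smul_smul]
      congr 1
      group
    rw [this, hb, hcomm]
  have hYR : ∀ (b : R) x, Y x → Y (b • x) := by
    intro b x h a
    obtain ⟨b', hb'⟩ := h a
    refine ⟨b * b' * b⁻¹, ?_⟩
    rw [hcomm, hb', smul_smul, smul_smul]
    congr 1
    group
  have hYQ' : ∀ (a : Q) x, Y (a • x) ↔ Y x := fun a x =>
    ⟨fun h => by have := hYQ a⁻¹ _ h; rwa [inv_smul_smul] at this, hYQ a x⟩
  have hYR' : ∀ (b : R) x, Y (b • x) ↔ Y x := fun b x =>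
    ⟨fun h => by have := hYR b⁻¹ _ h; rwa [inv_smul_smul] at this, hYR b x⟩
  -- the modified permutation
  let δ' : Equiv.Perm X := Equiv.Perm.ofSubtype (δ.subtypePerm hYδ)
  have hδ'Y : ∀ x, Y x → δ' x = δ x := fun x hx => by
    show Equiv.Perm.ofSubtype (δ.subtypePerm hYδ) x = δ x
    rw [Equiv.Perm.ofSubtype_apply_of_mem _ hx]
    rfl
  have hδ'N : ∀ x, ¬ Y x → δ' x = x := fun x hx =>
    Equiv.Perm.ofSubtype_apply_of_not_mem _ hx
  have hδ'Q : ∀ (a : Q) x, δ' (a • x) = a • δ' x := by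
    intro a x
    by_cases hx : Y x
    · rw [hδ'Y _ (hYQ a x hx), hδ'Y _ hx, hδQ]
    · rw [hδ'N _ (fun h => hx ((hYQ' a x).mp h)), hδ'N _ hx]
  have hδ'R : ∀ (b : R) x, δ' (b • x) = b • δ' x := by
    intro b x
    by_cases hx : Y x
    · rw [hδ'Y _ (hYR b x hx), hδ'Y _ hx, hδR]
    · rw [hδ'N _ (fun h => hx ((hYR' b x).mp h)), hδ'N _ hx]
  have hpowY : ∀ (n : ℕ) x, Y x → (δ' ^ n) x = (δ ^ n) x ∧ Y ((δ ^ n) x) := by
    intro n
    induction n with
    | zero => intro x hx; exact ⟨rfl, hx⟩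
    | succ n ih =>
      intro x hx
      obtain ⟨h1', h2'⟩ := ih x hx
      rw [pow_succ', pow_succ', Equiv.Perm.mul_apply, Equiv.Perm.mul_apply, h1', hδ'Y _ h2']
      exact ⟨rfl, (hYδ _).mpr h2'⟩
  have hpowQ : ∀ (n : ℕ) (a : Q) x, (δ ^ n) (a • x) = a • (δ ^ n) x := by
    intro n
    induction n with
    | zero => intro a x; rfl
    | succ n ih =>
      intro a x
      rw [pow_succ', Equiv.Perm.mul_apply, Equiv.Perm.mul_apply, ih, hδQ]
  have hpowR : ∀ (n : ℕ) (b : R) x, (δ ^ n) (b • x) = b • (δ ^ n) x := by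
    intro n
    induction n with
    | zero => intro a x; rfl
    | succ n ih =>
      intro a x
      rw [pow_succ', Equiv.Perm.mul_apply, Equiv.Perm.mul_apply, ih, hδR]
  -- the big group
  have comm1 : ∀ (a : Q) (b : R), Commute (MulAction.toPermHom Q X a) (MulAction.toPermHom R X b) := by
    intro a b
    ext x
    show a • b • x = b • a • x
    exact hcomm a b x
  let Φ₂ : Q × R →* Equiv.Perm X :=
    MonoidHom.noncommCoprod (MulAction.toPermHom Q X) (MulAction.toPermHom R X) comm1
  have hΦ₂ : ∀ (n : Q × R) (x : X), Φ₂ n x = n.1 • n.2 • x := fun n x => rfl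
  have comm0 : ∀ n : Q × R, Commute δ' (Φ₂ n) := by
    intro n
    ext x
    show δ' (Φ₂ n x) = Φ₂ n (δ' x)
    rw [hΦ₂, hΦ₂, hδ'Q, hδ'R]
  have comm2 : ∀ (k : Multiplicative ℤ) (n : Q × R), Commute (zpowersHom (Equiv.Perm X) δ' k) (Φ₂ n) := by
    intro k n
    rw [zpowersHom_apply]
    exact (comm0 n).zpow_left _
  let Φ : Multiplicative ℤ × (Q × R) →* Equiv.Perm X :=
    MonoidHom.noncommCoprod (zpowersHom (Equiv.Perm X) δ') Φ₂ comm2
  have hΦ : ∀ (k : Multiplicative ℤ) (n : Q × R) (x : X),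
      Φ (k, n) x = (δ' ^ (Multiplicative.toAdd k)) (n.1 • n.2 • x) := fun k n x => rfl
  letI : MulAction (Multiplicative ℤ × (Q × R)) X := MulAction.compHom X Φ
  have hact : ∀ (h : Multiplicative ℤ × (Q × R)) (x : X), h • x = Φ h x := fun _ _ => rfl
  let χ : Multiplicative ℤ × (Q × R) →* A :=
    π.comp ((MonoidHom.snd Q R).comp (MonoidHom.snd (Multiplicative ℤ) (Q × R)))
  have hχ : ∀ h : Multiplicative ℤ × (Q × R), χ h = π h.2.2 := fun _ => rfl
  have hχ1 : ∀ (x : X) (h : Multiplicative ℤ × (Q × R)), h • x = x → χ h = 1 := by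
    rintro x ⟨k, a, b⟩ hx
    rw [hχ]
    show π b = 1
    rw [hact, hΦ] at hx
    change (δ' ^ (Multiplicative.toAdd k)) (a • b • x) = x at hx
    by_cases hY : Y x
    · have hY' : Y (a • b • x) := hYQ a _ (hYR b _ hY)
      obtain ⟨n, hn | hn⟩ := Int.eq_nat_or_neg (Multiplicative.toAdd k)
      · rw [hn, zpow_natCast, (hpowY n _ hY').1, hpowQ, hpowR] at hx
        obtain ⟨b', hb'⟩ := hY a⁻¹
        have h5 : (δ ^ n) x = (b⁻¹ * b') • x := by
          have e1 : b⁻¹ • a⁻¹ • (a • b • (δ ^ n) x) = (δ ^ n) x := by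
            rw [inv_smul_smul, inv_smul_smul]
          rw [hx] at e1
          rw [← e1, hb', mul_smul]
        have h6 := h3 x hY n _ h5
        have h7 := h1 a⁻¹ b' x hb'
        rw [map_mul, h7, mul_one, map_inv, inv_eq_one] at h6
        exact h6
      · rw [hn, zpow_neg, zpow_natCast] at hx
        have h4 : a • b • x = (δ' ^ n) x := by
          have e1 := congrArg (δ' ^ n) hx
          have e2 : (δ' ^ n) ((δ' ^ n)⁻¹ (a • b • x)) = a • b • x := (δ' ^ n).apply_symm_apply _
          rw [e2] at e1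
          exact e1
        rw [(hpowY n _ hY).1] at h4
        obtain ⟨b', hb'⟩ := hY a
        have h5 : (δ ^ n) x = (b * b') • x := by
          rw [← h4, hcomm, hb', mul_smul]
        have h6 := h3 x hY n _ h5
        have h7 := h1 a b' x hb'
        rw [map_mul, h7, mul_one] at h6
        exact h6
    · have hY' : ¬ Y (a • b • x) := fun h => hY ((hYR' b x).mp ((hYQ' a _).mp h))
      have h4 : (δ' ^ (Multiplicative.toAdd k)) (a • b • x) = a • b • x :=
        Equiv.Perm.zpow_apply_eq_self_of_apply_eq_self (hδ'N _ hY') _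
      rw [h4] at hx
      have h5 : a⁻¹ • x = b • x := by rw [← hx, inv_smul_smul]; rw [hx]
      exact h1 a⁻¹ b x h5
  obtain ⟨f, hf⟩ := exists_equivariant_fun χ hχ1
  have hfR : ∀ (b : R) (x : X), f (b • x) = π b * f x := by
    intro b x
    have := hf ((1 : Multiplicative ℤ), ((1 : Q), b)) x
    rw [hact, hΦ, hχ] at this
    simpa using this
  have hfQ : ∀ (a : Q) (x : X), f (a • x) = f x := by
    intro a x
    have := hf ((1 : Multiplicative ℤ), (a, (1 : R))) x
    rw [hact, hΦ, hχ] at this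
    simpa using this
  have hfδ : ∀ x : X, f (δ' x) = f x := by
    intro x
    have := hf (Multiplicative.ofAdd (1 : ℤ), ((1 : Q), (1 : R))) x
    rw [hact, hΦ, hχ] at this
    simpa using this
  rw [det_eq_prod' hfree π δ hδR f hfR]
  let G : X → A := fun x => f (δ x) * (f x)⁻¹
  have hGR : ∀ (b : R) x, G (b • x) = G x := by
    intro b x
    show f (δ (b • x)) * (f (b • x))⁻¹ = f (δ x) * (f x)⁻¹
    rw [hδR, hfR, hfR, mul_inv, mul_mul_mul_comm, mul_inv_cancel, one_mul]
  have hGQ : ∀ (a : Q) x, G (a • x) = G x := by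
    intro a x
    show f (δ (a • x)) * (f (a • x))⁻¹ = f (δ x) * (f x)⁻¹
    rw [hδQ, hfQ, hfQ]
  have hGsec : ∀ x : X, G (sec (Quotient.mk'' x : Orb R X)) = G x := by
    intro x
    obtain ⟨b, hb⟩ := exists_smul_sec (R := R) x
    conv_rhs => rw [hb, hGR]
  letI := orbAction (R := R) (Q := Q) (X := X) hcomm
  have hsm : ∀ (a : Q) (x : X), a • (Quotient.mk'' x : Orb R X) = Quotient.mk'' (a • x) := fun a x => rfl
  apply prod_eq_one_of_invariant hQ hA (fun o : Orb R X => f (δ (sec o)) * (f (sec o))⁻¹)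
  · intro a o
    show G (sec (a • o)) = G (sec o)
    conv_lhs => rw [← mk_sec o, hsm, hGsec, hGQ]
  · intro o ho
    show G (sec o) = 1
    have hYo : Y (sec o) := by
      intro a
      have h4 : a • o = o := ho a
      rw [← mk_sec o, hsm] at h4
      obtain ⟨b, hb⟩ := Quotient.exact' h4
      exact ⟨b, hb.symm⟩
    show f (δ (sec o)) * (f (sec o))⁻¹ = 1
    rw [← hδ'Y _ hYo, hfδ, mul_inv_cancel]

end Commute

end Cfsg.Agent.Lib.Helper26.PPI
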