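import Cfsg.Agent.Lib.Helper26.PPI2

/-!
# The subsystem cut out by the determinant (helper26)

`F` a saturated fusion system over the finite `p`-group `S`, `X` a characteristic biset, `π : S →* A` a homomorphism onto
a group of order `p` that is constant on the classes of `F`, `T = ker π`.  The maps `φ : P → T` of `F` (`P ≤ T`) that
admit a twisting bijection of determinant `1` form a fusion system `ppiSystem` over `T`; it contains `O^p(Aut_F(P))`
for all `P ≤ T`.
-/

set_option autoImplicit false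
set_option linter.unusedSectionVars false
set_option linter.unusedVariables false
set_option linter.style.haveILetI false

namespace Cfsg.Agent.Lib.Helper26.PPI

open Cfsg Cfsg.FusionSystem Cfsg.Agent.Lib.Helper26 Cfsg.Agent.Lib.Helper27.FM
open Cfsg.Agent.Lib.Helper27.BS MulAction

universe u

variable {Ω : Type u} [Group Ω] {S : Subgroup Ω}
variable {X : Type*} [MulAction ↥(S.prod S) X] [MulAction ↥S X] [Finite X]
variable {A : Type*} [CommGroup A]

/-- the determinant, with the canonical `Fintype` instance -/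
noncomputable def dt (π : ↥S →* A) (γ : Equiv.Perm X) : A :=
  @det ↥S _ X _ A _ (Fintype.ofFinite _) π γ

/-- the data -/
structure Dat (p : ℕ) (F : FusionSystem S) (X : Type*) [MulAction ↥(S.prod S) X] [MulAction ↥S X]
    (π : ↥S →* A) : Prop where
  hcomp : ∀ (b : ↥S) (x : X), b • x = pair 1 b • x
  hst : ∀ x : X, IsGr F (stabilizer ↥(S.prod S) x)
  htw : ∀ (P : Subgroup Ω) (θ : Ω → Ω) (hθ : IsFM F P θ), ∃ γ : X ≃ X,
        ∀ (a b : ↥S) (ha : (a : Ω) ∈ P) (x : X), γ (pair a b • x) = pair ⟨θ a, hθ.mem ha⟩ b • γ x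
  hπ : PStable F π
  hA : ∀ a : A, a ^ p = 1
  hn : ¬ p ∣ Nat.card (Orb ↥S X)

section Basic

variable {p : ℕ} {F : FusionSystem S} {π : ↥S →* A} (D : Dat p F X π)

include D

theorem Dat.free (b : ↥S) (x : X) (h : b • x = x) : b = 1 := rfree D.hcomp D.hst b x h

theorem Dat.dt_one : dt (X := X) π 1 = 1 := @det_one ↥S _ X _ A _ D.free (Fintype.ofFinite _) π

theorem Dat.dt_mul {g h : Equiv.Perm X} (hg : REq ↥S g) (hh : REq ↥S h) :
    dt π (g * h) = dt π g * dt π h := @det_mul ↥S _ X _ A _ D.free (Fintype.ofFinite _) π _ _ hg hh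

theorem Dat.dt_inv {g : Equiv.Perm X} (hg : REq ↥S g) : dt π g⁻¹ = (dt π g)⁻¹ :=
  @det_inv Ω _ S X _ _ A _ _ (Fintype.ofFinite _) D.free π _ hg

theorem Dat.dt_pow {g : Equiv.Perm X} (hg : REq ↥S g) (n : ℕ) : dt π (g ^ n) = (dt π g) ^ n :=
  @det_pow Ω _ S X _ _ A _ _ (Fintype.ofFinite _) D.free π _ hg n

theorem Dat.dt_lam (s : ↥S) : dt π (lam X s) = (π s)⁻¹ ^ Nat.card (Orb ↥S X) := by
  have h := @det_lam Ω _ S X _ _ A _ _ (Fintype.ofFinite _) D.hcomp F D.hst π D.hπ s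
  rw [@Nat.card_eq_fintype_card _ (Fintype.ofFinite _)]
  exact h

theorem Dat.dt_lam_of_ker {s : ↥S} (hs : π s = 1) : dt π (lam X s) = 1 := by
  rw [D.dt_lam, hs, inv_one, one_pow]

theorem Dat.tw_rEq {P : Subgroup Ω} {θ : Ω → Ω} {γ : Equiv.Perm X} (h : Tw S P θ γ) (hθ : IsFM F P θ) :
    REq ↥S γ := h.rEq hθ.map_one D.hcomp

theorem Dat.exists_tw {P : Subgroup Ω} {θ : Ω → Ω} (hθ : IsFM F P θ) : ∃ γ : Equiv.Perm X, Tw S P θ γ :=
  PPI.exists_tw D.htw hθ

/-- elements with a prescribed determinant of the left multiplication -/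
theorem Dat.exists_lam_dt [Fact p.Prime] (hsurj : Function.Surjective π) (d : A) :
    ∃ s : ↥S, dt π (lam X s) = d := by
  have hp : p.Prime := Fact.out
  obtain ⟨s₀, hs₀⟩ := hsurj d⁻¹
  set n := Nat.card (Orb ↥S X) with hn
  have hcop : Nat.Coprime n p := (Nat.Coprime.symm ((Nat.Prime.coprime_iff_not_dvd hp).mpr D.hn))
  -- n * n' ≡ 1 mod p
  have hex : ∃ n' : ℕ, ∀ a : A, (a ^ n') ^ n = a := by
    obtain ⟨u, hu⟩ : ∃ u : ℕ, n * u ≡ 1 [MOD p] := by
      by_cases hp1 : 1 < p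
      · obtain ⟨m, -, hm⟩ := Nat.exists_mul_mod_eq_one_of_coprime hcop hp1
        exact ⟨m, by
          show n * m % p = 1 % p
          rw [hm, Nat.mod_eq_of_lt hp1]⟩
      · exact absurd hp.one_lt hp1
    refine ⟨u, fun a => ?_⟩
    rw [← pow_mul, mul_comm]
    have h1 : a ^ (n * u) = a ^ (n * u % p) := by
      conv_lhs => rw [← Nat.div_add_mod (n * u) p, pow_add, pow_mul, D.hA, one_pow, one_mul]
    have h2 : n * u % p = 1 := by
      have := hu
      unfold Nat.ModEq at this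
      rw [this, Nat.mod_eq_of_lt hp.one_lt]
    rw [h1, h2, pow_one]
  obtain ⟨n', hn'⟩ := hex
  refine ⟨s₀ ^ n', ?_⟩
  rw [D.dt_lam, map_pow, hs₀, inv_pow, ← hn, hn' d⁻¹, inv_inv]

end Basic

end Cfsg.Agent.Lib.Helper26.PPI
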