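import Cfsg.Agent.Lib.Helper26.PPI3

/-!
# The subsystem cut out by the determinant: definition (helper26)
-/

set_option autoImplicit false
set_option linter.unusedSectionVars false
set_option linter.unusedVariables false
set_option linter.style.haveILetI false

namespace Cfsg.Agent.Lib.Helper26.PPI

open Cfsg Cfsg.FusionSystem Cfsg.Agent.Lib.Helper26 Cfsg.Agent.Lib.Helper27.FM
open Cfsg.Agent.Lib.Helper27.BS MulAction

universe u

variable {Ω : Type u} [Group Ω] {S : Subgroup Ω}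
variable {X : Type*} [MulAction ↥(S.prod S) X] [MulAction ↥S X] [Finite X]
variable {A : Type*} [CommGroup A]

/-- the kernel of `π`, as a subgroup of the ambient group -/
def kerSub (π : ↥S →* A) : Subgroup Ω := π.ker.map S.subtype

theorem mem_kerSub {π : ↥S →* A} {x : Ω} : x ∈ kerSub π ↔ ∃ h : x ∈ S, π ⟨x, h⟩ = 1 := by
  constructor
  · rintro ⟨y, hy, rfl⟩
    exact ⟨y.2, hy⟩
  · rintro ⟨h, hx⟩
    exact ⟨⟨x, h⟩, hx, rfl⟩

theorem kerSub_le (π : ↥S →* A) : kerSub π ≤ S := fun x hx => (mem_kerSub.mp hx).1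

theorem coe_mem_kerSub {π : ↥S →* A} {s : ↥S} : (s : Ω) ∈ kerSub π ↔ π s = 1 := by
  rw [mem_kerSub]
  constructor
  · rintro ⟨h, hx⟩
    exact hx
  · intro h
    exact ⟨s.2, h⟩

/-- the maps of the subsystem -/
def ppiHom (F : FusionSystem S) (X : Type*) [MulAction ↥(S.prod S) X] [MulAction ↥S X] [Finite X]
    (π : ↥S →* A) (P : Subgroup Ω) : Set (P →* Ω) :=
  {φ | φ ∈ F.Hom P ∧ P ≤ kerSub π ∧ ∃ γ : Equiv.Perm X, Tw S P (ofHom φ) γ ∧ dt π γ = 1}

variable {p : ℕ} {F : FusionSystem S} {π : ↥S →* A} (D : Dat p F X π)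

include D

theorem Dat.apply_mem_kerSub {P : Subgroup Ω} {φ : P →* Ω} (hφ : φ ∈ F.Hom P) (hP : P ≤ kerSub π) (x : P) :
    φ x ∈ kerSub π := by
  have hxS : (x : Ω) ∈ S := kerSub_le π (hP x.2)
  have hφS : φ x ∈ S := hom_apply_mem F hφ x
  rw [mem_kerSub]
  refine ⟨hφS, ?_⟩
  have h1 := D.hπ P (ofHom φ) (isFM_ofHom hφ) ⟨x, hxS⟩ ⟨φ x, hφS⟩ x.2 (ofHom_apply φ x).symm
  rw [h1]
  exact (mem_kerSub.mp (hP x.2)).2

/-- the subsystem -/
def ppiSystem : FusionSystem (kerSub π) where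
  Hom P := ppiHom F X π P
  le_of_mem := by
    intro P φ h
    exact ⟨h.2.1, fun x => D.apply_mem_kerSub h.1 h.2.1 x⟩
  injective_of_mem := fun h => F.injective_of_mem h.1
  conj_mem := by
    intro P g hP hg
    have hgS : g ∈ S := kerSub_le π hg
    refine ⟨F.conj_mem (hP.trans (kerSub_le π)) hgS, hP, lam X ⟨g, hgS⟩, ?_, ?_⟩
    · refine (tw_lam P (⟨g, hgS⟩ : ↥S)).congr (fun x hx => ?_)
      rw [ofHom_apply' _ hx]
      rfl
    · exact D.dt_lam_of_ker (mem_kerSub.mp hg).2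
  comp_mem := by
    intro P Q φ ψ hφ hψ h
    obtain ⟨hφF, hP, γ, hγ, hdγ⟩ := hφ
    obtain ⟨hψF, hQ, γ', hγ', hdγ'⟩ := hψ
    refine ⟨F.comp_mem hφF hψF h, hP, γ' * γ, ?_, ?_⟩
    · have hc := hγ.comp hγ' (fun x hx => by rw [ofHom_apply' _ hx]; exact h _)
        (fun x hx => by rw [ofHom_apply' _ hx]; exact hom_apply_mem F hφF _)
      refine hc.congr (fun x hx => ?_)
      rw [ofHom_apply' _ hx, ofHom_apply' _ hx, ofHom_apply' _ (h ⟨x, hx⟩)]
      rfl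
    · rw [D.dt_mul (D.tw_rEq hγ' (isFM_ofHom hψF)) (D.tw_rEq hγ (isFM_ofHom hφF)), hdγ, hdγ', one_mul]
  inv_mem := by
    intro P φ hφ
    obtain ⟨hφF, hP, γ, hγ, hdγ⟩ := hφ
    obtain ⟨ψ, hψ, hinv⟩ := F.inv_mem hφF
    refine ⟨ψ, ⟨hψ, ?_, γ⁻¹, ?_, ?_⟩, hinv⟩
    · rintro _ ⟨x, rfl⟩
      exact D.apply_mem_kerSub hφF hP x
    · refine hγ.inv ?_
      rintro _ ⟨x, rfl⟩
      have h1 : ofHom ψ (φ x) = (x : Ω) := by
        rw [ofHom_apply' ψ ⟨x, rfl⟩]
        exact hinv x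
      rw [h1]
      exact ⟨x.2, ofHom_apply φ x⟩
    · rw [D.dt_inv (D.tw_rEq hγ (isFM_ofHom hφF)), hdγ, inv_one]

theorem Dat.ppi_hom_iff {P : Subgroup Ω} {φ : P →* Ω} :
    φ ∈ (ppiSystem D).Hom P ↔ φ ∈ F.Hom P ∧ P ≤ kerSub π ∧
      ∃ γ : Equiv.Perm X, Tw S P (ofHom φ) γ ∧ dt π γ = 1 := Iff.rfl

theorem Dat.ppi_sub : (ppiSystem D).IsSubsystemOf F := fun P φ h => h.1

/-- the automorphisms of order prime to `p` belong to the subsystem -/
theorem Dat.ppi_aut_of_coprime [Fact p.Prime] {P : Subgroup Ω} (hP : P ≤ kerSub π) (α : MulAut P)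
    (hαF : P.subtype.comp α.toMonoidHom ∈ F.Hom P) (hcop : (orderOf α).Coprime p) :
    P.subtype.comp α.toMonoidHom ∈ (ppiSystem D).Hom P := by
  have hp : p.Prime := Fact.out
  obtain ⟨γ, hγ⟩ := D.exists_tw (isFM_ofHom hαF)
  have hγR : REq ↥S γ := D.tw_rEq hγ (isFM_ofHom hαF)
  have hS : ∀ x ∈ P, x ∈ S := fun x hx => kerSub_le π (hP hx)
  have key : ∀ j : ℕ, Tw S P (ofHom (P.subtype.comp (α ^ j).toMonoidHom)) (γ ^ j) := by
    intro j
    induction j with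
    | zero =>
      rw [pow_zero, pow_zero]
      refine (Tw.one (S := S) (X := X) P).congr (fun x hx => ?_)
      rw [ofHom_apply' _ hx]
      rfl
    | succ j ih =>
      rw [pow_succ γ]
      have hc := hγ.comp ih (fun x hx => by
        rw [ofHom_apply' _ hx]
        exact (α ⟨x, hx⟩).2) (fun x hx => by
        rw [ofHom_apply' _ hx]
        exact hS _ (α ⟨x, hx⟩).2)
      refine hc.congr (fun x hx => ?_)
      rw [ofHom_apply' _ hx, ofHom_apply' _ hx]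
      have h1 : (P.subtype.comp α.toMonoidHom) ⟨x, hx⟩ = ((α ⟨x, hx⟩ : P) : Ω) := rfl
      rw [h1, ofHom_apply' _ (α ⟨x, hx⟩).2, pow_succ]
      rfl
  obtain ⟨N, hN1, hN0⟩ := Nat.chineseRemainder hcop 1 0
  have hpN : p ∣ N := (Nat.modEq_zero_iff_dvd).mp hN0
  have hαN : α ^ N = α := by
    have h1 : α ^ N = α ^ 1 := (pow_eq_pow_iff_modEq).mpr hN1
    rw [h1, pow_one]
  refine ⟨hαF, hP, γ ^ N, ?_, ?_⟩
  · have := key N
    rw [hαN] at this
    exact this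
  · rw [D.dt_pow hγR]
    obtain ⟨m, rfl⟩ := hpN
    rw [pow_mul, D.hA, one_pow]

/-- `O^p(Aut_F(P))` lies in the automorphism group of the subsystem -/
theorem Dat.ppi_pResidual_le [Fact p.Prime] {P : Subgroup Ω} (hP : P ≤ kerSub π) :
    (pResidual p (F.autGroup P)).map (F.autGroup P).subtype ≤ (ppiSystem D).autGroup P := by
  unfold Cfsg.pResidual
  rw [MonoidHom.map_closure, Subgroup.closure_le]
  rintro _ ⟨β, hβ, rfl⟩
  have hβ' : Nat.Coprime (orderOf β) p := hβ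
  have hPS : P ≤ S := hP.trans (kerSub_le π)
  have h1 : P.subtype.comp (β : MulAut P).toMonoidHom ∈ F.Hom P := (mem_autGroup_iff F hPS _).mp β.2
  have h2 : (orderOf (β : MulAut P)).Coprime p := by
    rw [Subgroup.orderOf_coe]
    exact hβ'
  exact (mem_autGroup_iff (ppiSystem D) hP _).mpr (D.ppi_aut_of_coprime hP _ h1 h2)

end Cfsg.Agent.Lib.Helper26.PPI
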