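import Cfsg.Agent.Lib.Helper26.PPI4

/-!
# Biset automorphisms have trivial determinant (helper26)

If all the centralizers in `S` of the `F`-conjugates of `Q ≤ T = ker π` lie in `T`, then every permutation of the
characteristic biset that commutes with the left action of `Q` and with the right action of `S` has determinant `1`.
-/

set_option autoImplicit false
set_option linter.unusedSectionVars false
set_option linter.unusedVariables false
set_option linter.style.haveILetI false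

namespace Cfsg.Agent.Lib.Helper26.PPI

open Cfsg Cfsg.FusionSystem Cfsg.Agent.Lib.Helper26 Cfsg.Agent.Lib.Helper27.FM
open Cfsg.Agent.Lib.Helper27.BS MulAction

universe u

variable {Ω : Type u} [Group Ω] {S : Subgroup Ω}
variable {X : Type*} [MulAction ↥(S.prod S) X] [MulAction ↥S X] [Finite X]
variable {A : Type*} [CommGroup A]
variable {p : ℕ} {F : FusionSystem S} {π : ↥S →* A} (D : Dat p F X π)

theorem tw_id_pow {Q : Subgroup Ω} (hQS : Q ≤ S) {δ : Equiv.Perm X} (h : Tw S Q (fun x => x) δ) (k : ℕ) :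
    Tw S Q (fun x => x) (δ ^ k) := by
  induction k with
  | zero => rw [pow_zero]; exact Tw.one Q
  | succ k ih =>
    rw [pow_succ]
    exact h.comp ih (fun x hx => hx) (fun x hx => hQS hx)

include D

/-- the stabilizer of a point is the graph of a map of the system -/
theorem Dat.stab_spec (x : X) : ∃ (P₀ : Subgroup Ω) (θ : Ω → Ω), IsFM F P₀ θ ∧
    ∀ a b : ↥S, pair a b • x = x ↔ ((a : Ω) ∈ P₀ ∧ θ a = b) := by
  obtain ⟨P₀, θ, hθ, hg⟩ := D.hst x
  refine ⟨P₀, θ, hθ, fun a b => ?_⟩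
  have h1 : pair a b • x = x ↔ pair a b ∈ stabilizer ↥(S.prod S) x := Iff.rfl
  rw [h1, ← coe_mem_up (K := stabilizer ↥(S.prod S) x), hg]
  rfl

/-- **Biset automorphisms have trivial determinant.** -/
theorem Dat.dt_eq_one_of_tw_id [Finite S] [Fact p.Prime] (hS : IsPGroup p S) {Q : Subgroup Ω} (hQ : Q ≤ kerSub π)
    (hi : ∀ Q' : Subgroup Ω, F.IsConj Q Q' → centralizerIn S Q' ≤ kerSub π)
    {δ : Equiv.Perm X} (hδ : Tw S Q (fun x => x) δ) : dt π δ = 1 := by
  have hQS : Q ≤ S := hQ.trans (kerSub_le π)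
  letI : MulAction ↥Q X := MulAction.compHom X (lfHom.comp (Subgroup.inclusion hQS))
  have hact : ∀ (a : ↥Q) (x : X), a • x = pair (Subgroup.inclusion hQS a) 1 • x := fun _ _ => rfl
  haveI : Finite ↥Q := finite_of_le hQS
  have hQp : IsPGroup p ↥Q := hS.to_le hQS
  have hδR : REq ↥S δ := hδ.rEq rfl D.hcomp
  have hδQ' : ∀ (k : ℕ) (a b : ↥S), (a : Ω) ∈ Q → ∀ x : X, (δ ^ k) (pair a b • x) = pair a b • (δ ^ k) x :=
    fun k a b ha x => tw_id_pow hQS hδ k a b a ha rfl x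
  have hδQ : ∀ (a : ↥Q) (x : X), δ (a • x) = a • δ x := by
    intro a x
    rw [hact, hact]
    have := hδQ' 1 (Subgroup.inclusion hQS a) 1 a.2 x
    rwa [pow_one] at this
  have hcomm : ∀ (a : ↥Q) (b : ↥S) (x : X), a • b • x = b • a • x := by
    intro a b x
    rw [hact, hact, D.hcomp, D.hcomp, smul_smul, smul_smul, pair_comm]
  have hπQ : ∀ a : ↥S, (a : Ω) ∈ Q → π a = 1 := fun a ha => coe_mem_kerSub.mp (hQ ha)
  -- the stabilizer condition
  have h1 : ∀ (a : ↥Q) (b : ↥S) (x : X), a • x = b • x → π b = 1 := by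
    intro a b x hx
    rw [hact, D.hcomp] at hx
    obtain ⟨P₀, θ, hθ, hst⟩ := D.stab_spec x
    have h2 : pair (Subgroup.inclusion hQS a) b⁻¹ • x = x := by
      have e1 : pair (Subgroup.inclusion hQS a) b⁻¹ = pair 1 b⁻¹ * pair (Subgroup.inclusion hQS a) 1 := by
        apply ext_c <;> simp
      have e2 : pair (1 : ↥S) b⁻¹ * pair 1 b = 1 := by
        apply ext_c <;> simp
      rw [e1, mul_smul, hx, ← mul_smul, e2, one_smul]
    obtain ⟨h3, h4⟩ := (hst _ _).mp h2
    have h5 := D.hπ P₀ θ hθ (Subgroup.inclusion hQS a) b⁻¹ h3 h4.symm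
    rw [hπQ (Subgroup.inclusion hQS a) a.2, map_inv, inv_eq_one] at h5
    exact h5
  -- the return condition on the stable orbits
  have h3 : ∀ x : X, (∀ a : ↥Q, ∃ b : ↥S, a • x = b • x) → ∀ (k : ℕ) (b : ↥S), (δ ^ k) x = b • x → π b = 1 := by
    intro x hx k b hb
    rw [D.hcomp] at hb
    obtain ⟨P₀, θ, hθ, hst⟩ := D.stab_spec x
    -- `Q ≤ P₀`
    have hQP₀ : Q ≤ P₀ := by
      intro a ha
      obtain ⟨b', hb'⟩ := hx ⟨a, ha⟩
      rw [hact, D.hcomp] at hb'
      have h2 : pair (Subgroup.inclusion hQS ⟨a, ha⟩) b'⁻¹ • x = x := by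
        have e1 : pair (Subgroup.inclusion hQS ⟨a, ha⟩) b'⁻¹ =
            pair 1 b'⁻¹ * pair (Subgroup.inclusion hQS ⟨a, ha⟩) 1 := by
          apply ext_c <;> simp
        have e2 : pair (1 : ↥S) b'⁻¹ * pair 1 b' = 1 := by
          apply ext_c <;> simp
        rw [e1, mul_smul, hb', ← mul_smul, e2, one_smul]
      exact ((hst _ _).mp h2).1
    -- `b` centralizes `θ Q`
    have hcent : ∀ a : ↥S, (a : Ω) ∈ Q → (b : Ω) * θ a = θ a * b := by
      intro a ha
      have haP : (a : Ω) ∈ P₀ := hQP₀ ha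
      have h2 : pair a ⟨θ a, hθ.mem haP⟩ • x = x := (hst _ _).mpr ⟨haP, rfl⟩
      have h4 := congrArg (δ ^ k) h2
      rw [hδQ' k a _ ha, hb, smul_smul] at h4
      have h5 : (pair 1 b)⁻¹ • (pair a ⟨θ a, hθ.mem haP⟩ * pair 1 b) • x = x := by
        rw [h4, inv_smul_smul]
      rw [smul_smul] at h5
      have e1 : (pair 1 b)⁻¹ * (pair a ⟨θ a, hθ.mem haP⟩ * pair 1 b) =
          pair a (b⁻¹ * ⟨θ a, hθ.mem haP⟩ * b) := by
        apply ext_c <;> simp [mul_assoc]
      rw [e1] at h5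
      have h6 := ((hst _ _).mp h5).2
      have h7 : θ a = (b : Ω)⁻¹ * θ a * b := h6
      calc (b : Ω) * θ a = b * ((b : Ω)⁻¹ * θ a * b) := by rw [← h7]
        _ = θ a * b := by group
    obtain ⟨Q', hQ'⟩ := hθ.exists_image_of_le hQP₀
    have hconj : F.IsConj Q Q' := (isConj_iff_isFM F).mpr ⟨θ, hθ.mono hQP₀, hQ'⟩
    have hbC : (b : Ω) ∈ centralizerIn S Q' := by
      rw [mem_centralizerIn_iff]
      refine ⟨b.2, fun y hy => ?_⟩
      obtain ⟨a, ha, rfl⟩ := (hQ' y).mp hy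
      exact (hcent ⟨a, hQS ha⟩ ha).symm
    exact coe_mem_kerSub.mp (hi Q' hconj hbC)
  exact @det_eq_one_of_commute ↥S ↥Q _ _ X _ _ A _ _ _ (Fintype.ofFinite _) D.free hcomm p _ hQp D.hA π δ hδR hδQ
    h1 h3

end Cfsg.Agent.Lib.Helper26.PPI
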