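import Cfsg.Agent.Lib.Helper26.PPI5
import Cfsg.Agent.Lib.Helper26.FSGroup

/-!
# Auxiliary lemmas for the saturation of the determinant subsystem (helper26)
-/

set_option autoImplicit false
set_option linter.unusedSectionVars false
set_option linter.unusedVariables false
set_option linter.style.haveILetI false

namespace Cfsg.Agent.Lib.Helper26.PPI

open Cfsg Cfsg.FusionSystem Cfsg.Agent.Lib.Helper26 Cfsg.Agent.Lib.Helper27.FM
open Cfsg.Agent.Lib.Helper27.BS MulAction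

universe u

section General

variable {G : Type*} [Group G]

/-- a Sylow subgroup of `H` meets a subgroup normalized by `H` in a Sylow subgroup -/
theorem sylowIn_inf_of_normalized [Finite G] {p : ℕ} [Fact p.Prime] {H N A : Subgroup G} (hNH : N ≤ H) (hAH : A ≤ H)
    (hnorm : ∀ h ∈ H, ∀ n ∈ N, h * n * h⁻¹ ∈ N)
    (hA : ∃ R : Sylow p H, (R : Subgroup H) = A.subgroupOf H) :
    ∃ R : Sylow p N, (R : Subgroup N) = (A ⊓ N).subgroupOf N := by
  rw [sylowIn_iff_card inf_le_right]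
  have hAp : IsPGroup p A := ((sylowIn_iff_card hAH).mp hA).1
  refine ⟨hAp.to_le inf_le_left, fun B hBN hB => ?_⟩
  obtain ⟨R, hR⟩ := hA
  have hB' : IsPGroup p (B.subgroupOf H) := hB.comap_subtype
  obtain ⟨h, hh⟩ := exists_conj_le_sylow R hB'
  have h1 : B.map (MulAut.conj (h : G)).toMonoidHom ≤ A ⊓ N := by
    rintro _ ⟨x, hx, rfl⟩
    refine ⟨?_, hnorm h h.2 x (hBN hx)⟩
    have hxH : x ∈ H := hNH (hBN hx)
    have h2 : (MulAut.conj h).toMonoidHom (⟨x, hxH⟩ : H) ∈ (R : Subgroup H) :=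
      hh ⟨⟨x, hxH⟩, Subgroup.mem_subgroupOf.mpr hx, rfl⟩
    rw [hR, Subgroup.mem_subgroupOf] at h2
    exact h2
  rw [← card_map_conj B (h : G)]
  exact Subgroup.card_le_of_le h1

end General

variable {Ω : Type u} [Group Ω] {S : Subgroup Ω}

theorem card_normalizerIn_conj_le [Finite S] (Q : Subgroup Ω) {s : Ω} (hs : s ∈ S) :
    Nat.card (normalizerIn S Q) ≤ Nat.card (normalizerIn S (Q.map (MulAut.conj s).toMonoidHom)) := by
  rw [← card_map_conj (normalizerIn S Q) s]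
  haveI : Finite ↥(normalizerIn S (Q.map (MulAut.conj s).toMonoidHom)) := finite_of_le (normalizerIn_le _ _)
  apply Subgroup.card_le_of_le
  rintro _ ⟨x, hx, rfl⟩
  obtain ⟨hxS, hxN⟩ := mem_normalizerIn_iff.mp hx
  rw [mem_normalizerIn_iff]
  refine ⟨S.mul_mem (S.mul_mem hs hxS) (S.inv_mem hs), fun y => ?_⟩
  have hmem : ∀ z : Ω, z ∈ Q.map (MulAut.conj s).toMonoidHom ↔ s⁻¹ * z * s ∈ Q := by
    intro z
    constructor
    · rintro ⟨w, hw, rfl⟩
      have : s⁻¹ * (MulAut.conj s).toMonoidHom w * s = w := by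
        show s⁻¹ * (s * w * s⁻¹) * s = w
        group
      rw [this]
      exact hw
    · intro hz
      refine ⟨s⁻¹ * z * s, hz, ?_⟩
      show s * (s⁻¹ * z * s) * s⁻¹ = z
      group
  rw [hmem, hmem, hxN (s⁻¹ * y * s)]
  have : s⁻¹ * ((MulAut.conj s).toMonoidHom x * y * ((MulAut.conj s).toMonoidHom x)⁻¹) * s =
      x * (s⁻¹ * y * s) * x⁻¹ := by
    show s⁻¹ * ((s * x * s⁻¹) * y * (s * x * s⁻¹)⁻¹) * s = x * (s⁻¹ * y * s) * x⁻¹
    group
  rw [this]

theorem isFullyNormalized_conj [Finite S] (F : FusionSystem S) {Q : Subgroup Ω} (h : F.IsFullyNormalized Q) {s : Ω}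
    (hs : s ∈ S) : F.IsFullyNormalized (Q.map (MulAut.conj s).toMonoidHom) := by
  have hQS : Q ≤ S := h.1
  have hconj : F.IsConj Q (Q.map (MulAut.conj s).toMonoidHom) := by
    refine ⟨conjHom Q s, F.conj_mem hQS hs, ?_⟩
    ext y
    constructor
    · rintro ⟨x, rfl⟩
      exact ⟨x, x.2, rfl⟩
    · rintro ⟨x, hx, rfl⟩
      exact ⟨⟨x, hx⟩, rfl⟩
  refine ⟨isConj_le_right F hconj, fun Q' hQ' => ?_⟩
  exact (h.2 Q' (isConj_trans F hconj hQ')).trans (card_normalizerIn_conj_le Q hs)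

end Cfsg.Agent.Lib.Helper26.PPI
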