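import Cfsg.Agent.Lib.Helper26.PPI6

/-!
# Saturation of the determinant subsystem (helper26)
-/

set_option autoImplicit false
set_option linter.unusedSectionVars false
set_option linter.unusedVariables false
set_option linter.style.haveILetI false

namespace Cfsg.Agent.Lib.Helper26.PPI

open Cfsg Cfsg.FusionSystem Cfsg.Agent.Lib.Helper26 Cfsg.Agent.Lib.Helper27.FM
open Cfsg.Agent.Lib.Helper27.BS MulAction

universe u

variable {Ω : Type u} [Group Ω] {S : Subgroup Ω}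
variable {X : Type*} [MulAction ↥(S.prod S) X] [MulAction ↥S X] [Finite X]
variable {A : Type*} [CommGroup A]
variable {p : ℕ} {F : FusionSystem S} {π : ↥S →* A} (D : Dat p F X π)

include D

theorem Dat.exists_root [Fact p.Prime] : ∃ n' : ℕ, ∀ a : A, (a ^ n') ^ Nat.card (Orb ↥S X) = a := by
  have hp : p.Prime := Fact.out
  set n := Nat.card (Orb ↥S X) with hn
  have hcop : Nat.Coprime n p := (Nat.Coprime.symm ((Nat.Prime.coprime_iff_not_dvd hp).mpr D.hn))
  obtain ⟨u, -, hu⟩ := Nat.exists_mul_mod_eq_one_of_coprime hcop hp.one_lt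
  refine ⟨u, fun a => ?_⟩
  rw [← pow_mul, mul_comm]
  have h1 : a ^ (n * u) = a ^ (n * u % p) := by
    conv_lhs => rw [← Nat.div_add_mod (n * u) p, pow_add, pow_mul, D.hA, one_pow, one_mul]
  rw [h1, hu, pow_one]

/-- powers of an element outside the kernel realize every determinant -/
theorem Dat.exists_pow_dt [Fact p.Prime] (hcard : Nat.card A = p) {c : ↥S} (hc : π c ≠ 1) (d : A) :
    ∃ j : ℕ, dt π (lam X (c ^ j)) = d := by
  have hp : p.Prime := Fact.out
  haveI : Finite A := Nat.finite_of_card_ne_zero (by rw [hcard]; exact hp.ne_zero)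
  obtain ⟨n', hn'⟩ := D.exists_root
  have h1 : d⁻¹ ∈ Subgroup.zpowers (π c) := mem_zpowers_of_prime_card hcard hc
  rw [← mem_powers_iff_mem_zpowers] at h1
  obtain ⟨i, hi⟩ := h1
  have hi : π c ^ i = d⁻¹ := hi
  refine ⟨i * n', ?_⟩
  rw [D.dt_lam, map_pow, pow_mul, hi, inv_pow, hn' d⁻¹, inv_inv]

theorem Dat.exists_not_ker [Fact p.Prime] (hsurj : Function.Surjective π) (hcard : Nat.card A = p) :
    ∃ c : ↥S, π c ≠ 1 := by
  have hp : p.Prime := Fact.out
  haveI : Finite A := Nat.finite_of_card_ne_zero (by rw [hcard]; exact hp.ne_zero)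
  have h1 : 1 < Nat.card A := by rw [hcard]; exact hp.one_lt
  haveI : Nontrivial A := (Finite.one_lt_card_iff_nontrivial).mp h1
  obtain ⟨a, ha⟩ := exists_ne (1 : A)
  obtain ⟨c, hc⟩ := hsurj a
  exact ⟨c, by rw [hc]; exact ha⟩

/-- every class of the subsystem contains a subgroup that is fully normalized in `F` -/
theorem Dat.exists_conj_fn [Finite S] [Fact p.Prime] (hsurj : Function.Surjective π) (hcard : Nat.card A = p)
    {P : Subgroup Ω} (hP : P ≤ kerSub π) :
    ∃ Q, (ppiSystem D).IsConj P Q ∧ F.IsFullyNormalized Q := by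
  have hPS : P ≤ S := hP.trans (kerSub_le π)
  obtain ⟨Q₀, ⟨φ, hφ, hr⟩, hfn⟩ := exists_fullyNormalized_conj F hPS
  obtain ⟨γ, hγ⟩ := D.exists_tw (isFM_ofHom hφ)
  obtain ⟨c, hc⟩ := D.exists_not_ker hsurj hcard
  obtain ⟨j, hj⟩ := D.exists_pow_dt hcard hc (dt π γ)⁻¹
  set s : ↥S := c ^ j with hs
  have hQ₀S : Q₀ ≤ S := hfn.1
  have hval : ∀ x : P, φ x ∈ Q₀ := fun x => by rw [← hr]; exact ⟨x, rfl⟩
  set ψ : P →* Ω := (conjHom Q₀ (s : Ω)).comp (φ.codRestrict Q₀ hval) with hψ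
  have hψF : ψ ∈ F.Hom P := F.comp_mem hφ (F.conj_mem hQ₀S s.2) hval
  have hψE : ψ ∈ (ppiSystem D).Hom P := by
    refine ⟨hψF, hP, lam X s * γ, ?_, ?_⟩
    · have hc := hγ.comp (tw_lam Q₀ s) (fun x hx => by rw [ofHom_apply' _ hx]; exact hval _)
        (fun x hx => by rw [ofHom_apply' _ hx]; exact hom_apply_mem F hφ _)
      refine hc.congr (fun x hx => ?_)
      rw [ofHom_apply' _ hx, ofHom_apply' _ hx]
      rfl
    · rw [D.dt_mul (lam_rEq D.hcomp s) (D.tw_rEq hγ (isFM_ofHom hφ)), hj, inv_mul_cancel]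
  have hrange : ψ.range = Q₀.map (MulAut.conj (s : Ω)).toMonoidHom := by
    ext y
    constructor
    · rintro ⟨x, rfl⟩
      exact ⟨φ x, hval x, rfl⟩
    · rintro ⟨z, hz, rfl⟩
      rw [← hr] at hz
      obtain ⟨x, rfl⟩ := hz
      exact ⟨x, rfl⟩
  refine ⟨ψ.range, ⟨ψ, hψE, rfl⟩, ?_⟩
  rw [hrange]
  exact isFullyNormalized_conj F hfn s.2

end Cfsg.Agent.Lib.Helper26.PPI
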