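import Cfsg.Agent.Lib.Helper26.PPI7

/-!
# Saturation of the determinant subsystem: the Sylow and the extension axioms (helper26)
-/

set_option autoImplicit false
set_option linter.unusedSectionVars false
set_option linter.unusedVariables false
set_option linter.style.haveILetI false

namespace Cfsg.Agent.Lib.Helper26.PPI

open Cfsg Cfsg.FusionSystem Cfsg.Agent.Lib.Helper26 Cfsg.Agent.Lib.Helper27.FM
open Cfsg.Agent.Lib.Helper27.BS MulAction

universe u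

variable {Ω : Type u} [Group Ω] {S : Subgroup Ω}
variable {X : Type*} [MulAction ↥(S.prod S) X] [MulAction ↥S X] [Finite X]
variable {A : Type*} [CommGroup A]
variable {p : ℕ} {F : FusionSystem S} {π : ↥S →* A} (D : Dat p F X π)

include D

/-- either all centralizers of the conjugates of `Q` lie in the kernel, or the centralizer of the receptive subgroup
`Q` does not -/
theorem Dat.cases_cent [Finite S] {Q : Subgroup Ω} (hQr : F.IsReceptive Q) :
    (∀ Q' : Subgroup Ω, F.IsConj Q Q' → centralizerIn S Q' ≤ kerSub π) ∨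
      ∃ c : ↥S, (c : Ω) ∈ centralizerIn S Q ∧ π c ≠ 1 := by
  by_cases h : ∀ Q' : Subgroup Ω, F.IsConj Q Q' → centralizerIn S Q' ≤ kerSub π
  · exact Or.inl h
  · right
    push Not at h
    obtain ⟨Q', hQQ', hQ'⟩ := h
    obtain ⟨c', hc', hc'k⟩ := SetLike.not_le_iff_exists.mp hQ'
    obtain ⟨φ, hφ, hr⟩ := isConj_symm F hQQ'
    obtain ⟨ψ, hψ, hext⟩ := hQr.2 Q' φ hφ hr
    have hQ'S : Q' ≤ S := hom_le F hφ
    have hc'N : c' ∈ extender S Q' φ := centralizerIn_le_extender Q' φ hc'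
    have hc'S : c' ∈ S := (mem_centralizerIn_iff.mp hc').1
    have hQ'N : Q' ≤ extender S Q' φ := le_extender hQ'S φ (hom_apply_mem F hφ)
    have hcS : ψ ⟨c', hc'N⟩ ∈ S := hom_apply_mem F hψ _
    refine ⟨⟨ψ ⟨c', hc'N⟩, hcS⟩, ?_, ?_⟩
    · rw [mem_centralizerIn_iff]
      refine ⟨hcS, fun y hy => ?_⟩
      rw [← hr] at hy
      obtain ⟨x, rfl⟩ := hy
      rw [← hext x x.2 (hQ'N x.2), ← map_mul, ← map_mul]
      congr 1
      apply Subtype.ext
      exact (mem_centralizerIn_iff.mp hc').2 x x.2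
    · have h1 := D.hπ _ (ofHom ψ) (isFM_ofHom hψ) ⟨c', hc'S⟩ ⟨ψ ⟨c', hc'N⟩, hcS⟩ hc'N
        (ofHom_apply' ψ hc'N).symm
      rw [h1]
      intro h2
      exact hc'k (mem_kerSub.mpr ⟨hc'S, h2⟩)

/-- the automorphisms of `Q` induced by `S` that belong to the subsystem are induced by the kernel -/
theorem Dat.autInducedBy_inf_le [Finite S] [Fact p.Prime] (hS : IsPGroup p S) (hcard : Nat.card A = p)
    {Q : Subgroup Ω} (hQ : Q ≤ kerSub π) (hQr : F.IsReceptive Q) :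
    autInducedBy S Q ⊓ (ppiSystem D).autGroup Q ≤ autInducedBy (kerSub π) Q := by
  have hp : p.Prime := Fact.out
  have hQS : Q ≤ S := hQ.trans (kerSub_le π)
  rintro α ⟨hα1, hα2⟩
  obtain ⟨s, hsS, hsα⟩ := (mem_autInducedBy_iff S Q α).mp hα1
  obtain ⟨hαF, -, γ, hγ, hdγ⟩ := (mem_autGroup_iff (ppiSystem D) hQ α).mp hα2
  -- `γ` twists by conjugation with `s`
  have hγ' : Tw S Q (fun x => s * x * s⁻¹) γ := by
    refine hγ.congr (fun x hx => ?_)
    rw [ofHom_apply' _ hx]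
    exact hsα ⟨x, hx⟩
  have hγR : REq ↥S γ := D.tw_rEq hγ (isFM_ofHom hαF)
  -- the biset automorphism
  have hlinv : Tw S (Q.map (MulAut.conj s).toMonoidHom) (fun x => s⁻¹ * x * s) (lam X ⟨s, hsS⟩)⁻¹ := by
    refine (tw_lam Q (⟨s, hsS⟩ : ↥S)).inv ?_
    rintro _ ⟨x, hx, rfl⟩
    have h1 : s⁻¹ * (MulAut.conj s).toMonoidHom x * s = x := by
      show s⁻¹ * (s * x * s⁻¹) * s = x
      group
    rw [h1]
    exact ⟨hx, rfl⟩
  have hδ : Tw S Q (fun x => x) ((lam X ⟨s, hsS⟩)⁻¹ * γ) := by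
    have hc := hγ'.comp hlinv (fun x hx => ⟨x, hx, rfl⟩)
      (fun x hx => S.mul_mem (S.mul_mem hsS (hQS hx)) (S.inv_mem hsS))
    refine hc.congr (fun x hx => ?_)
    show s⁻¹ * (s * x * s⁻¹) * s = x
    group
  have hdδ : dt π ((lam X ⟨s, hsS⟩)⁻¹ * γ) = (π ⟨s, hsS⟩) ^ Nat.card (Orb ↥S X) := by
    rw [D.dt_mul (lam_rEq D.hcomp _).inv hγR, hdγ, mul_one, D.dt_inv (lam_rEq D.hcomp _), D.dt_lam, inv_pow,
      inv_inv]
  rcases D.cases_cent hQr with hi | ⟨c, hcC, hcπ⟩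
  · -- all centralizers in the kernel
    have h1 := D.dt_eq_one_of_tw_id hS hQ hi hδ
    rw [hdδ] at h1
    obtain ⟨n', hn'⟩ := D.exists_root
    have h2 : π ⟨s, hsS⟩ = 1 := by
      have := hn' (π ⟨s, hsS⟩)
      rw [← pow_mul, mul_comm, pow_mul, h1, one_pow] at this
      exact this.symm
    exact (mem_autInducedBy_iff _ Q α).mpr ⟨s, mem_kerSub.mpr ⟨hsS, h2⟩, hsα⟩
  · -- correct by an element of the centralizer
    haveI : Finite A := Nat.finite_of_card_ne_zero (by rw [hcard]; exact hp.ne_zero)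
    have h1 : π ⟨s, hsS⟩ ∈ Subgroup.zpowers (π c) := mem_zpowers_of_prime_card hcard hcπ
    obtain ⟨j, hj⟩ := h1
    have hj : π c ^ j = π ⟨s, hsS⟩ := hj
    have hcj : ((c ^ (-j) : ↥S) : Ω) ∈ centralizerIn S Q :=
      (centralizerIn S Q).zpow_mem hcC (-j)
    refine (mem_autInducedBy_iff _ Q α).mpr ⟨((c ^ (-j) : ↥S) : Ω) * s, ?_, fun x => ?_⟩
    · have h2 : ((c ^ (-j) : ↥S) : Ω) * s = ((c ^ (-j) * ⟨s, hsS⟩ : ↥S) : Ω) := rfl
      rw [h2, coe_mem_kerSub, map_mul, map_zpow, zpow_neg, hj, inv_mul_cancel]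
    · rw [hsα x]
      have h3 := (mem_centralizerIn_iff.mp hcj).2 _ (α x).2
      rw [hsα x] at h3
      calc s * (x : Ω) * s⁻¹ = (s * (x : Ω) * s⁻¹) * ((c ^ (-j) : ↥S) : Ω) * ((c ^ (-j) : ↥S) : Ω)⁻¹ := by group
        _ = ((c ^ (-j) : ↥S) : Ω) * (s * (x : Ω) * s⁻¹) * ((c ^ (-j) : ↥S) : Ω)⁻¹ := by rw [h3]
        _ = ((c ^ (-j) : ↥S) : Ω) * s * (x : Ω) * (((c ^ (-j) : ↥S) : Ω) * s)⁻¹ := by group

/-- a subgroup of the kernel that is fully normalized in `F` is fully automized in the subsystem -/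
theorem Dat.ppi_fullyAutomized [Finite S] [Fact p.Prime] (hS : IsPGroup p S) (hF : F.IsSaturated p)
    (hcard : Nat.card A = p) {Q : Subgroup Ω} (hQ : Q ≤ kerSub π) (hQfn : F.IsFullyNormalized Q) :
    (ppiSystem D).IsFullyAutomized p Q := by
  have hQS : Q ≤ S := hQ.trans (kerSub_le π)
  have hFA := (saturated_fn hS F hF hQfn).2
  have hRec := saturated_fn_receptive hS F hF hQfn
  haveI : Finite ↥Q := finite_of_le hQS
  refine ⟨hQ, ?_⟩
  have hEF : (ppiSystem D).autGroup Q ≤ F.autGroup Q :=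
    Subgroup.closure_mono (fun β hβ => D.ppi_sub Q hβ)
  have hnorm : ∀ h ∈ F.autGroup Q, ∀ n ∈ (ppiSystem D).autGroup Q, h * n * h⁻¹ ∈ (ppiSystem D).autGroup Q := by
    intro h hh n hn
    obtain ⟨hnF, -, γ, hγ, hdγ⟩ := (mem_autGroup_iff (ppiSystem D) hQ n).mp hn
    have hhF := (mem_autGroup_iff F hQS h).mp hh
    have hhiF := (mem_autGroup_iff F hQS h⁻¹).mp ((F.autGroup Q).inv_mem hh)
    obtain ⟨γh, hγh⟩ := D.exists_tw (isFM_ofHom hhF)
    have hγhR : REq ↥S γh := D.tw_rEq hγh (isFM_ofHom hhF)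
    have hγR : REq ↥S γ := D.tw_rEq hγ (isFM_ofHom hnF)
    rw [mem_autGroup_iff (ppiSystem D) hQ]
    refine ⟨(mem_autGroup_iff F hQS _).mp
      ((F.autGroup Q).mul_mem ((F.autGroup Q).mul_mem hh (hEF hn)) ((F.autGroup Q).inv_mem hh)), hQ,
      γh * γ * γh⁻¹, ?_, ?_⟩
    · have hinv : Tw S Q (ofHom (Q.subtype.comp (h⁻¹ : MulAut Q).toMonoidHom)) γh⁻¹ := by
        refine hγh.inv (fun y hy => ?_)
        rw [ofHom_apply' _ hy]
        have e0 : (Q.subtype.comp (h⁻¹ : MulAut Q).toMonoidHom) ⟨y, hy⟩ = ((h⁻¹ ⟨y, hy⟩ : Q) : Ω) := rfl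
        rw [e0]
        refine ⟨(h⁻¹ ⟨y, hy⟩).2, ?_⟩
        rw [ofHom_apply' _ (h⁻¹ ⟨y, hy⟩).2]
        show ((h (h⁻¹ ⟨y, hy⟩) : Q) : Ω) = y
        rw [MulAut.apply_inv_self]
      have hS' : ∀ (β : MulAut Q) (x : Ω) (hx : x ∈ Q), ofHom (Q.subtype.comp β.toMonoidHom) x ∈ Q := by
        intro β x hx
        rw [ofHom_apply' _ hx]
        exact (β ⟨x, hx⟩).2
      have hc := (hinv.comp hγ (fun x hx => hS' _ x hx) (fun x hx => hQS (hS' _ x hx))).comp hγh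
        (fun x hx => hS' _ _ (hS' _ x hx)) (fun x hx => hQS (hS' _ _ (hS' _ x hx)))
      rw [← mul_assoc] at hc
      refine hc.congr (fun x hx => ?_)
      rw [ofHom_apply' _ hx, ofHom_apply' _ hx]
      have e1 : (Q.subtype.comp (h⁻¹ : MulAut Q).toMonoidHom) ⟨x, hx⟩ = ((h⁻¹ ⟨x, hx⟩ : Q) : Ω) := rfl
      rw [e1, ofHom_apply' _ (h⁻¹ ⟨x, hx⟩).2]
      have e2 : (Q.subtype.comp n.toMonoidHom) (h⁻¹ ⟨x, hx⟩) = ((n (h⁻¹ ⟨x, hx⟩) : Q) : Ω) := rfl
      rw [e2, ofHom_apply' _ (n (h⁻¹ ⟨x, hx⟩)).2]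
      rfl
    · rw [D.dt_mul (hγhR.mul hγR) hγhR.inv, D.dt_mul hγhR hγR, D.dt_inv hγhR, hdγ, mul_one, mul_inv_cancel]
  have hT : ∃ R : Sylow p ((ppiSystem D).autGroup Q),
      (R : Subgroup ((ppiSystem D).autGroup Q)) =
        (autInducedBy S Q ⊓ (ppiSystem D).autGroup Q).subgroupOf ((ppiSystem D).autGroup Q) :=
    sylowIn_inf_of_normalized hEF (autInducedBy_le_autGroup F hQS) hnorm hFA.2
  have heq : autInducedBy S Q ⊓ (ppiSystem D).autGroup Q = autInducedBy (kerSub π) Q := by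
    apply le_antisymm (D.autInducedBy_inf_le hS hcard hQ hRec)
    apply le_inf
    · exact Subgroup.closure_mono (fun α ⟨g, hg, hgα⟩ => ⟨g, kerSub_le π hg, hgα⟩)
    · exact autInducedBy_le_autGroup (ppiSystem D) hQ
  rw [heq] at hT
  exact hT

end Cfsg.Agent.Lib.Helper26.PPI
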