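import Cfsg.Agent.Lib.Helper26.PPI8

/-!
# Saturation of the determinant subsystem: the extension axiom and saturation (helper26)
-/

set_option autoImplicit false
set_option linter.unusedSectionVars false
set_option linter.unusedVariables false
set_option linter.style.haveILetI false

namespace Cfsg.Agent.Lib.Helper26.PPI

open Cfsg Cfsg.FusionSystem Cfsg.Agent.Lib.Helper26 Cfsg.Agent.Lib.Helper27.FM
open Cfsg.Agent.Lib.Helper27.BS MulAction

universe u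

variable {Ω : Type u} [Group Ω] {S : Subgroup Ω}
variable {X : Type*} [MulAction ↥(S.prod S) X] [MulAction ↥S X] [Finite X]
variable {A : Type*} [CommGroup A]
variable {p : ℕ} {F : FusionSystem S} {π : ↥S →* A} (D : Dat p F X π)

theorem extender_kerSub_le {P : Subgroup Ω} (φ : P →* Ω) : extender (kerSub π) P φ ≤ extender S P φ := by
  intro g hg
  rw [mem_extender_iff] at hg ⊢
  obtain ⟨hgT, hgN, h, hh, hgh⟩ := hg
  exact ⟨kerSub_le π hgT, hgN, h, kerSub_le π hh, hgh⟩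

include D

/-- a subgroup of the kernel that is fully normalized in `F` is receptive in the subsystem -/
theorem Dat.ppi_receptive [Finite S] [Fact p.Prime] (hS : IsPGroup p S) (hF : F.IsSaturated p)
    (hcard : Nat.card A = p) {Q : Subgroup Ω} (hQ : Q ≤ kerSub π) (hQfn : F.IsFullyNormalized Q) :
    (ppiSystem D).IsReceptive Q := by
  have hQS : Q ≤ S := hQ.trans (kerSub_le π)
  have hRec := saturated_fn_receptive hS F hF hQfn
  refine ⟨hQ, fun P φ hφ hr => ?_⟩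
  obtain ⟨hφF, hP, γφ, hγφ, hdγφ⟩ := hφ
  have hPS : P ≤ S := hP.trans (kerSub_le π)
  have hle : extender (kerSub π) P φ ≤ extender S P φ := extender_kerSub_le φ
  have hNT : extender (kerSub π) P φ ≤ kerSub π := fun g hg => ((mem_extender_iff _ _ _ _).mp hg).1
  have hNS : extender (kerSub π) P φ ≤ S := hNT.trans (kerSub_le π)
  have hPN : P ≤ extender (kerSub π) P φ := le_extender hP φ (fun x => D.apply_mem_kerSub hφF hP x)
  obtain ⟨ψ, hψ, hext⟩ := hRec.2 P φ hφF hr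
  set ψ₀ : ↥(extender (kerSub π) P φ) →* Ω := ψ.comp (Subgroup.inclusion hle) with hψ₀
  have hψ₀F : ψ₀ ∈ F.Hom (extender (kerSub π) P φ) := inclusion_comp_mem F hle hψ
  have hψ₀φ : ∀ (x : Ω) (hx : x ∈ P), ψ₀ ⟨x, hPN hx⟩ = φ ⟨x, hx⟩ := fun x hx => hext x hx (hle (hPN hx))
  obtain ⟨γ', hγ'⟩ := D.exists_tw (isFM_ofHom hψ₀F)
  have hγ'R : REq ↥S γ' := D.tw_rEq hγ' (isFM_ofHom hψ₀F)
  have hγφR : REq ↥S γφ := D.tw_rEq hγφ (isFM_ofHom hφF)
  have hγ'P : Tw S P (ofHom φ) γ' := by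
    refine (hγ'.mono hPN).congr (fun x hx => ?_)
    rw [ofHom_apply' _ (hPN hx), ofHom_apply' _ hx]
    exact hψ₀φ x hx
  -- the biset automorphism
  obtain ⟨χ, hχ, hinv⟩ := F.inv_mem hφF
  have hinvTw : Tw S φ.range (ofHom χ) γφ⁻¹ := by
    refine hγφ.inv ?_
    rintro _ ⟨x, rfl⟩
    have h1 : ofHom χ (φ x) = (x : Ω) := by
      rw [ofHom_apply' χ ⟨x, rfl⟩]
      exact hinv x
    rw [h1]
    exact ⟨x.2, ofHom_apply φ x⟩
  have hδ : Tw S P (fun x => x) (γφ⁻¹ * γ') := by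
    have hc := hγ'P.comp hinvTw (fun x hx => by rw [ofHom_apply' _ hx]; exact ⟨_, rfl⟩)
      (fun x hx => by rw [ofHom_apply' _ hx]; exact hom_apply_mem F hφF _)
    refine hc.congr (fun x hx => ?_)
    rw [ofHom_apply' _ hx, ofHom_apply' χ ⟨⟨x, hx⟩, rfl⟩]
    exact hinv ⟨x, hx⟩
  have hdδ : dt π (γφ⁻¹ * γ') = dt π γ' := by
    rw [D.dt_mul hγφR.inv hγ'R, D.dt_inv hγφR, hdγφ, inv_one, one_mul]
  -- the correcting element
  have hs : ∃ s : ↥S, (s : Ω) ∈ centralizerIn S Q ∧ dt π (lam X s) = (dt π γ')⁻¹ := by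
    rcases D.cases_cent hRec with hi | ⟨c, hcC, hcπ⟩
    · have hi' : ∀ P' : Subgroup Ω, F.IsConj P P' → centralizerIn S P' ≤ kerSub π := fun P' h =>
        hi P' (isConj_trans F (isConj_symm F ⟨φ, hφF, hr⟩) h)
      have h1 := D.dt_eq_one_of_tw_id hS hP hi' hδ
      rw [hdδ] at h1
      refine ⟨1, (centralizerIn S Q).one_mem, ?_⟩
      rw [map_one, h1, inv_one]
      exact D.dt_one
    · obtain ⟨j, hj⟩ := D.exists_pow_dt hcard hcπ (dt π γ')⁻¹
      exact ⟨c ^ j, (centralizerIn S Q).pow_mem hcC j, hj⟩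
  obtain ⟨s, hsC, hsd⟩ := hs
  have hval : ∀ x : ↥(extender (kerSub π) P φ), ψ₀ x ∈ S := fun x => hom_apply_mem F hψ₀F x
  set ψ₁ : ↥(extender (kerSub π) P φ) →* Ω := (conjHom S (s : Ω)).comp (ψ₀.codRestrict S hval) with hψ₁
  have hψ₁F : ψ₁ ∈ F.Hom (extender (kerSub π) P φ) := F.comp_mem hψ₀F (F.conj_mem le_rfl s.2) hval
  have hψ₁E : ψ₁ ∈ (ppiSystem D).Hom (extender (kerSub π) P φ) := by
    refine ⟨hψ₁F, hNT, lam X s * γ', ?_, ?_⟩
    · have hc := hγ'.comp (tw_lam S s) (fun x hx => by rw [ofHom_apply' _ hx]; exact hval _)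
        (fun x hx => by rw [ofHom_apply' _ hx]; exact hval _)
      refine hc.congr (fun x hx => ?_)
      rw [ofHom_apply' _ hx, ofHom_apply' _ hx]
      rfl
    · rw [D.dt_mul (lam_rEq D.hcomp s) hγ'R, hsd, inv_mul_cancel]
  refine ⟨ψ₁, hψ₁E, fun x hxP hxN => ?_⟩
  have h1 : ψ₁ ⟨x, hxN⟩ = (s : Ω) * ψ₀ ⟨x, hxN⟩ * (s : Ω)⁻¹ := rfl
  rw [h1, hψ₀φ x hxP]
  have h2 : φ ⟨x, hxP⟩ ∈ Q := by rw [← hr]; exact ⟨_, rfl⟩
  have h3 := (mem_centralizerIn_iff.mp hsC).2 _ h2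
  rw [mul_inv_eq_iff_eq_mul]
  exact h3.symm

/-- **The determinant subsystem is saturated.** -/
theorem Dat.ppi_saturated [Finite S] [Fact p.Prime] (hS : IsPGroup p S) (hF : F.IsSaturated p)
    (hsurj : Function.Surjective π) (hcard : Nat.card A = p) : (ppiSystem D).IsSaturated p := by
  intro P hP
  obtain ⟨Q, hPQ, hQfn⟩ := D.exists_conj_fn hsurj hcard hP
  have hQ : Q ≤ kerSub π := isConj_le_right _ hPQ
  exact ⟨Q, hPQ, D.ppi_fullyAutomized hS hF hcard hQ hQfn, D.ppi_receptive hS hF hcard hQ hQfn⟩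

end Cfsg.Agent.Lib.Helper26.PPI
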