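import Cfsg.Agent.Lib.Helper27.FSCentric
import Cfsg.Agent.Lib.Helper26.FSInvariant
import Cfsg.Agent.Lib.Helper26.FSAlperin
import Cfsg.Agent.Lib.Helper26.FSSatEquiv

/-!
An automorphism `α` of `T` of order prime to `p` which normalizes a saturated fusion system `D` over `T`
and whose restriction to some `D`-centric subgroup is a map of `D` is itself a map of `D`
(the cyclic-product trick).  Towards S5142.
-/

set_option autoImplicit false

namespace Cfsg.Agent.Lib.Helper26.PPLeast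

open Cfsg Cfsg.FusionSystem Cfsg.Agent.Lib.Helper26 Cfsg.Agent.Lib.Helper27

variable {Ω : Type*} [Group Ω] {T : Subgroup Ω}

/-- The restriction of an automorphism of `T` to `P ≤ T`, as a homomorphism into the ambient group. -/
def resAut (α : MulAut T) (P : Subgroup Ω) (hPT : P ≤ T) : P →* Ω :=
  T.subtype.comp (α.toMonoidHom.comp (Subgroup.inclusion hPT))

@[simp] theorem resAut_apply (α : MulAut T) (P : Subgroup Ω) (hPT : P ≤ T) (x : P) :
    resAut α P hPT x = ((α ⟨x, hPT x.2⟩ : T) : Ω) := rfl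

/-- `D` is invariant under conjugation by the automorphisms in `A`. -/
def InvUnder (D : FusionSystem T) (A : Subgroup (MulAut T)) : Prop :=
  ∀ a ∈ A, ∀ (P : Subgroup Ω) (_ : P ≤ T) (φ : P →* Ω) (hφ : φ ∈ D.Hom P),
    ∃ χ ∈ D.Hom (imgAut a P), ∀ (y : T) (hy : (y : Ω) ∈ P) (h' : ((a y : T) : Ω) ∈ imgAut a P),
      χ ⟨(a y : T), h'⟩ = ((a ⟨φ ⟨y, hy⟩, hom_apply_mem D hφ _⟩ : T) : Ω)

theorem pow_iterate_of_fixed {N : Type*} [Group N] (β : N →* N) (P : Subgroup N)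
    (hfix : ∀ x ∈ P, β x = x) {g z : N} (hz : z ∈ P) (hg : β g = g * z) (j : ℕ) :
    (β^[j]) g = g * z ^ j := by
  induction j with
  | zero => simp
  | succ j ih =>
    rw [Function.iterate_succ_apply', ih, map_mul, hg, hfix _ (P.pow_mem hz j), pow_succ']
    group

/-- Iterates of an endomorphism. -/
def iterHom {N : Type*} [Group N] (β : N →* N) : ℕ → (N →* N)
  | 0 => MonoidHom.id N
  | (i + 1) => β.comp (iterHom β i)

@[simp] theorem iterHom_zero {N : Type*} [Group N] (β : N →* N) (x : N) : iterHom β 0 x = x := rfl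

@[simp] theorem iterHom_succ {N : Type*} [Group N] (β : N →* N) (i : ℕ) (x : N) :
    iterHom β (i + 1) x = β (iterHom β i x) := rfl

theorem iterHom_apply {N : Type*} [Group N] (β : N →* N) (i : ℕ) (x : N) : iterHom β i x = (β^[i]) x := by
  induction i with
  | zero => rfl
  | succ i ih => rw [iterHom_succ, ih, Function.iterate_succ_apply']

section Step

variable [Finite T] {p : ℕ} [Fact p.Prime]

omit [Finite T] in
theorem resAut_top_mem_iff (D : FusionSystem T) (α : MulAut T) :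
    resAut α T le_rfl ∈ D.Hom T ↔ α ∈ D.autGroup T := by
  rw [mem_autGroup_iff D le_rfl α]
  have : resAut α T le_rfl = T.subtype.comp α.toMonoidHom := by
    ext x
    rfl
  rw [this]

/-- The cyclic-product step: from `P` to `N_T(P)`. -/
theorem resAut_normalizerIn_mem (hT : IsPGroup p T) (D : FusionSystem T) (hD : D.IsSaturated p)
    (α : MulAut T) (j : ℕ) (hαj : α ^ j = α) (hTj : ∀ z : T, z ^ j = 1)
    (hinv : InvUnder D (Subgroup.zpowers α)) {P : Subgroup Ω} (hPc : D.IsCentric P)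
    (hα : resAut α P hPc.1 ∈ D.Hom P) :
    resAut α (normalizerIn T P) (normalizerIn_le T P) ∈ D.Hom (normalizerIn T P) := by
  obtain ⟨N, hN⟩ : ∃ N, N = normalizerIn T P := ⟨_, rfl⟩
  have hPT : P ≤ T := hPc.1
  have hNT : N ≤ T := hN ▸ normalizerIn_le T P
  have hPN : P ≤ N := hN ▸ le_normalizerIn hPT
  have hNnorm : ∀ g ∈ N, g ∈ Subgroup.normalizer (P : Set Ω) := by
    intro g hg
    rw [hN] at hg
    exact hg.2
  suffices h : resAut α N hNT ∈ D.Hom N by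
    subst hN
    exact h
  obtain ⟨φ, hφdef⟩ : ∃ φ, φ = resAut α P hPT := ⟨_, rfl⟩
  have hφ : φ ∈ D.Hom P := hφdef ▸ hα
  have hφx : ∀ x : P, φ x = ((α ⟨x, hPT x.2⟩ : T) : Ω) := fun x => by rw [hφdef]; rfl
  obtain ⟨Q, hQ⟩ : ∃ Q, Q = φ.range := ⟨_, rfl⟩
  have hPQ : D.IsConj P Q := ⟨φ, hφ, hQ.symm⟩
  have hQc : D.IsCentric Q := isCentric_of_isConj D hPc hPQ
  have hQR : D.IsReceptive Q := saturated_fc hT D hD (fullyCentralized_of_isCentric D hQc)
  obtain ⟨ψ₁, hψ₁, hext⟩ := hQR.2 P φ hφ hQ.symm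
  have hNext : N ≤ extender T P φ := by
    intro g hg
    rw [mem_extender_iff]
    have hgT : g ∈ T := hNT hg
    refine ⟨hgT, hNnorm g hg, ((α ⟨g, hgT⟩ : T) : Ω), (α ⟨g, hgT⟩).2, fun x hx => ?_⟩
    rw [hφx, hφx]
    have e : (⟨g * (x : Ω) * g⁻¹, hPT hx⟩ : T) = ⟨g, hgT⟩ * ⟨x, hPT x.2⟩ * ⟨g, hgT⟩⁻¹ := rfl
    show ((α ⟨g * (x : Ω) * g⁻¹, hPT hx⟩ : T) : Ω) = _
    rw [e, map_mul, map_mul, map_inv]
    rfl
  obtain ⟨δ₁, hδ₁⟩ : ∃ δ₁ : N →* Ω, δ₁ = ψ₁.comp (Subgroup.inclusion hNext) := ⟨_, rfl⟩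
  have hδ₁D : δ₁ ∈ D.Hom N := hδ₁ ▸ inclusion_comp_mem D hNext hψ₁
  have hδ₁T : ∀ g : N, δ₁ g ∈ T := hom_apply_mem D hδ₁D
  have hδ₁P : ∀ (x : N) (hx : (x : Ω) ∈ P), δ₁ x = ((α ⟨x, hNT x.2⟩ : T) : Ω) := by
    intro x hx
    rw [hδ₁]
    have := hext x hx (hNext x.2)
    rw [hφx] at this
    exact this
  -- key: `δ₁ g = α (g z)` with `z ∈ P`
  have hkey : ∀ g : N, ∃ z : N, (z : Ω) ∈ P ∧
      δ₁ g = ((α (⟨g, hNT g.2⟩ * ⟨z, hNT z.2⟩) : T) : Ω) := by
    intro g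
    have hc : ((α ⟨g, hNT g.2⟩ : T) : Ω)⁻¹ * δ₁ g ∈ centralizerIn T Q := by
      rw [mem_centralizerIn_iff]
      refine ⟨T.mul_mem (T.inv_mem (α _).2) (hδ₁T g), ?_⟩
      intro y hy
      rw [hQ] at hy
      obtain ⟨x, rfl⟩ := hy
      have hgx : (g : Ω) * x * (g : Ω)⁻¹ ∈ P :=
        (Subgroup.mem_normalizer_iff.mp (hNnorm g g.2) _).mp x.2
      have h1 : δ₁ (g * ⟨x, hPN x.2⟩ * g⁻¹) = δ₁ g * δ₁ ⟨x, hPN x.2⟩ * (δ₁ g)⁻¹ := by
        rw [map_mul, map_mul, map_inv]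
      have h2 : δ₁ (g * ⟨x, hPN x.2⟩ * g⁻¹) =
          ((α ⟨g, hNT g.2⟩ : T) : Ω) * ((α ⟨x, hPT x.2⟩ : T) : Ω) * ((α ⟨g, hNT g.2⟩ : T) : Ω)⁻¹ := by
        rw [hδ₁P _ hgx]
        have e : (⟨((g * ⟨x, hPN x.2⟩ * g⁻¹ : N) : Ω), hNT (g * ⟨x, hPN x.2⟩ * g⁻¹).2⟩ : T) =
            ⟨g, hNT g.2⟩ * ⟨x, hPT x.2⟩ * ⟨g, hNT g.2⟩⁻¹ := rfl
        rw [e, map_mul, map_mul, map_inv]
        rfl
      have h3 : δ₁ ⟨x, hPN x.2⟩ = ((α ⟨x, hPT x.2⟩ : T) : Ω) := hδ₁P ⟨x, hPN x.2⟩ x.2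
      rw [h2, h3] at h1
      rw [hφx]
      -- a * y * a⁻¹ = d * y * d⁻¹ → y * (a⁻¹ d) = (a⁻¹ d) * y
      have h4 := congrArg (fun w => ((α ⟨g, hNT g.2⟩ : T) : Ω)⁻¹ * w * δ₁ g) h1
      simp only [mul_assoc, inv_mul_cancel_left, inv_mul_cancel, mul_one] at h4
      simp only [mul_assoc] at h4 ⊢
      exact h4
    have hcQ := hQc.2 Q (isConj_refl D hQc.1) hc
    rw [hQ] at hcQ
    obtain ⟨x, hx⟩ := hcQ
    rw [hφx] at hx
    refine ⟨⟨x, hPN x.2⟩, x.2, ?_⟩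
    rw [map_mul, Subgroup.coe_mul, hx]
    group
  -- the map `β = α⁻¹ ∘ δ₁ : N → N`
  have hβN : ∀ g : N, (T.subtype.comp (α⁻¹.toMonoidHom.comp (δ₁.codRestrict T hδ₁T))) g ∈ N := by
    intro g
    obtain ⟨z, -, hz⟩ := hkey g
    have e : (⟨δ₁ g, hδ₁T g⟩ : T) = α (⟨g, hNT g.2⟩ * ⟨z, hNT z.2⟩) := Subtype.ext hz
    show ((α⁻¹ ⟨δ₁ g, hδ₁T g⟩ : T) : Ω) ∈ N
    rw [e, MulAut.inv_apply_self]
    exact N.mul_mem g.2 z.2
  obtain ⟨β, hβ⟩ : ∃ β : N →* N,
      β = (T.subtype.comp (α⁻¹.toMonoidHom.comp (δ₁.codRestrict T hδ₁T))).codRestrict N hβN := ⟨_, rfl⟩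
  have hβx : ∀ g : N, ((β g : N) : Ω) = ((α⁻¹ ⟨δ₁ g, hδ₁T g⟩ : T) : Ω) := fun g => by rw [hβ]; rfl
  have hαβ : ∀ g : N, ((α ⟨β g, hNT (β g).2⟩ : T) : Ω) = δ₁ g := by
    intro g
    have e : (⟨β g, hNT (β g).2⟩ : T) = α⁻¹ ⟨δ₁ g, hδ₁T g⟩ := Subtype.ext (hβx g)
    rw [e, MulAut.apply_inv_self]
  have hβz : ∀ g : N, ∃ z ∈ P.subgroupOf N, β g = g * z := by
    intro g
    obtain ⟨z, hzP, hz⟩ := hkey g
    refine ⟨z, hzP, Subtype.ext ?_⟩
    have e : (⟨δ₁ g, hδ₁T g⟩ : T) = α (⟨g, hNT g.2⟩ * ⟨z, hNT z.2⟩) := Subtype.ext hz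
    rw [hβx, e, MulAut.inv_apply_self]
    rfl
  have hβfix : ∀ x ∈ P.subgroupOf N, β x = x := by
    intro x hx
    apply Subtype.ext
    have e : (⟨δ₁ x, hδ₁T x⟩ : T) = α ⟨x, hNT x.2⟩ := Subtype.ext (hδ₁P x hx)
    rw [hβx, e, MulAut.inv_apply_self]
  have hM : ∀ i : ℕ, (resAut (α ^ i) N hNT).comp (iterHom β i) ∈ D.Hom N := by
    intro i
    induction i with
    | zero =>
      have e : (resAut (α ^ 0) N hNT).comp (iterHom β 0) = N.subtype := by
        ext x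
        rfl
      rw [e]
      exact subtype_mem D hNT
    | succ i ih =>
      have hai : α ^ i ∈ Subgroup.zpowers α := ⟨i, by simp⟩
      obtain ⟨χ, hχ, hχ'⟩ := hinv (α ^ i) hai N hNT δ₁ hδ₁D
      have hcod : ∀ x : N, ((resAut (α ^ i) N hNT).comp (iterHom β i)) x ∈ imgAut (α ^ i) N := by
        intro x
        exact apply_mem_imgAut (α ^ i) ⟨((iterHom β i) x : N), hNT ((iterHom β i) x).2⟩ (((iterHom β i) x).2)
      have h1 := D.comp_mem ih hχ hcod
      have e : (resAut (α ^ (i + 1)) N hNT).comp (iterHom β (i + 1)) =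
          χ.comp (((resAut (α ^ i) N hNT).comp (iterHom β i)).codRestrict _ hcod) := by
        ext x
        have h2 := hχ' ⟨((iterHom β i) x : N), hNT ((iterHom β i) x).2⟩ (((iterHom β i) x).2)
          (hcod x)
        show (((α ^ (i + 1)) ⟨((iterHom β (i + 1)) x : N), hNT ((iterHom β (i + 1)) x).2⟩ : T) : Ω) =
          χ ⟨(((α ^ i) ⟨((iterHom β i) x : N), hNT ((iterHom β i) x).2⟩ : T) : Ω), hcod x⟩
        rw [h2, pow_succ, MulAut.mul_apply]
        congr 2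
        apply Subtype.ext
        exact hαβ ((iterHom β i) x)
      rw [e]
      exact h1
  have hid : ∀ x : N, iterHom β j x = x := by
    intro x
    obtain ⟨z, hz, hxz⟩ := hβz x
    rw [iterHom_apply, pow_iterate_of_fixed β (P.subgroupOf N) hβfix hz hxz j]
    have h1 : (⟨(z : Ω), hNT z.2⟩ : T) ^ j = 1 := hTj _
    have h2 : z ^ j = 1 := by
      apply Subtype.ext
      have h3 := congrArg (fun w : T => (w : Ω)) h1
      simpa using h3
    rw [h2, mul_one]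
  have e : resAut α N hNT = (resAut (α ^ j) N hNT).comp (iterHom β j) := by
    ext x
    have h1 : (⟨((iterHom β j) x : N), hNT ((iterHom β j) x).2⟩ : T) = ⟨x, hNT x.2⟩ := by
      apply Subtype.ext
      show (((iterHom β j) x : N) : Ω) = x
      rw [hid x]
    show _ = (((α ^ j) ⟨((iterHom β j) x : N), hNT ((iterHom β j) x).2⟩ : T) : Ω)
    rw [hαj, h1]
    rfl
  rw [e]
  exact hM j

/-- **Lemma A″**: an automorphism `α` of `T` with `α ^ j = α` for some `j` killing `T`, all of whose powers normalize the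
saturated system `D`, and whose restriction to some `D`-centric subgroup is a map of `D`, lies in `Aut_D(T)`. -/
theorem mem_autGroup_of_resAut_mem (hT : IsPGroup p T) (D : FusionSystem T) (hD : D.IsSaturated p)
    (α : MulAut T) (j : ℕ) (hαj : α ^ j = α) (hTj : ∀ z : T, z ^ j = 1)
    (hinv : InvUnder D (Subgroup.zpowers α)) {P : Subgroup Ω} (hPc : D.IsCentric P)
    (hα : resAut α P hPc.1 ∈ D.Hom P) : α ∈ D.autGroup T := by
  have main : ∀ d : ℕ, ∀ (P : Subgroup Ω) (hPc : D.IsCentric P), resAut α P hPc.1 ∈ D.Hom P →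
      Nat.card T - Nat.card P = d → α ∈ D.autGroup T := by
    intro d
    induction d using Nat.strong_induction_on with
    | _ d ih =>
      intro P hPc hα hd
      by_cases hPT : P = T
      · subst hPT
        exact (resAut_top_mem_iff D α).mp hα
      · have hNc : D.IsCentric (normalizerIn T P) :=
          isCentric_of_le D hPc (le_normalizerIn hPc.1) (normalizerIn_le T P)
        have hαN := resAut_normalizerIn_mem hT D hD α j hαj hTj hinv hPc hα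
        have hlt : Nat.card P < Nat.card (normalizerIn T P) := card_lt_card_normalizerIn hT hPc.1 hPT
        have hle : Nat.card (normalizerIn T P) ≤ Nat.card T := Subgroup.card_le_of_le (normalizerIn_le T P)
        exact ih (Nat.card T - Nat.card (normalizerIn T P)) (by omega) _ hNc hαN rfl
  exact main _ P hPc hα rfl

end Step

end Cfsg.Agent.Lib.Helper26.PPLeast
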