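import Cfsg.Agent.Lib.Helper26.PPLeastA
import Cfsg.Agent.Lib.Helper26.FSPPrimeResidual

/-!
`O^{p'}(E)` of a (weakly) normal subsystem `E` over `T` lies in every (weakly) normal subsystem over `T`.  Towards S5142.
-/

set_option autoImplicit false

namespace Cfsg.Agent.Lib.Helper26.PPLeast

open Cfsg Cfsg.FusionSystem Cfsg.Agent.Lib.Helper26 Cfsg.Agent.Lib.Helper27

/-- Decomposition of an element of a finite group into its `p`-part and `p'`-part. -/
theorem exists_pPart_decomp {G : Type*} [Group G] [Finite G] (p : ℕ) [hp : Fact p.Prime] (g : G) :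
    ∃ u v : G, g = u * v ∧ u ∈ Subgroup.zpowers g ∧ v ∈ Subgroup.zpowers g ∧
      (∃ k : ℕ, orderOf u = p ^ k) ∧ (orderOf v).Coprime p := by
  obtain ⟨m, hm⟩ : ∃ m, m = orderOf g := ⟨_, rfl⟩
  have hm0 : m ≠ 0 := by
    rw [hm]
    exact (orderOf_pos g).ne'
  obtain ⟨a, ha⟩ : ∃ a, a = ordCompl[p] m := ⟨_, rfl⟩
  obtain ⟨b, hb⟩ : ∃ b, b = ordProj[p] m := ⟨_, rfl⟩
  have hba : b * a = m := by
    rw [ha, hb]
    exact Nat.ordProj_mul_ordCompl_eq_self m p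
  have hcop : Nat.Coprime p a := by
    rw [ha]
    exact Nat.coprime_ordCompl hp.out hm0
  have hcopab : Nat.Coprime a b := by
    rw [hb]
    exact (hcop.pow_left _).symm
  have hbez : (1 : ℤ) = a * Nat.gcdA a b + b * Nat.gcdB a b := by
    have := Nat.gcd_eq_gcd_ab a b
    rw [hcopab.gcd_eq_one] at this
    exact_mod_cast this
  have hgm : g ^ m = 1 := by
    rw [hm]
    exact pow_orderOf_eq_one g
  refine ⟨g ^ ((a : ℤ) * Nat.gcdA a b), g ^ ((b : ℤ) * Nat.gcdB a b), ?_, ⟨_, rfl⟩, ⟨_, rfl⟩, ?_, ?_⟩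
  · rw [← zpow_add, ← hbez, zpow_one]
  · have h1 : (g ^ ((a : ℤ) * Nat.gcdA a b)) ^ b = 1 := by
      rw [← zpow_natCast, ← zpow_mul, mul_comm, ← mul_assoc]
      have : ((b : ℤ) * (a : ℤ)) = ((m : ℕ) : ℤ) := by
        rw [← hba]
        push_cast
        ring
      rw [this, zpow_mul, zpow_natCast, hgm, one_zpow]
    have h2 : orderOf (g ^ ((a : ℤ) * Nat.gcdA a b)) ∣ p ^ (m.factorization p) := by
      rw [← hb]
      exact orderOf_dvd_of_pow_eq_one h1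
    obtain ⟨k, -, hk⟩ := (Nat.dvd_prime_pow hp.out).mp h2
    exact ⟨k, hk⟩
  · have h1 : (g ^ ((b : ℤ) * Nat.gcdB a b)) ^ a = 1 := by
      rw [← zpow_natCast, ← zpow_mul, mul_comm, ← mul_assoc]
      have : ((a : ℤ) * (b : ℤ)) = ((m : ℕ) : ℤ) := by
        rw [← hba]
        push_cast
        ring
      rw [this, zpow_mul, zpow_natCast, hgm, one_zpow]
    have h2 : orderOf (g ^ ((b : ℤ) * Nat.gcdB a b)) ∣ a := orderOf_dvd_of_pow_eq_one h1
    exact (Nat.Coprime.coprime_dvd_left h2 hcop.symm)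

/-- For an element `v` of order prime to `p` and a finite `p`-group `T` there is an exponent `j` with `v ^ j = v`
killing `T`. -/
theorem exists_exponent {G : Type*} [Group G] {T : Type*} [Group T] [Finite T] (p : ℕ) [hp : Fact p.Prime]
    (hT : IsPGroup p T) (v : G) (hv : (orderOf v).Coprime p) (hv0 : orderOf v ≠ 0) :
    ∃ j : ℕ, v ^ j = v ∧ ∀ z : T, z ^ j = 1 := by
  obtain ⟨e, he⟩ := hT.exists_card_eq
  have hcop : (Nat.card T).Coprime (orderOf v) := by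
    rw [he]
    exact (hv.symm.pow_left e)
  have h1 := Nat.ModEq.pow_totient hcop
  have hpos : 0 < Nat.totient (orderOf v) := Nat.totient_pos.mpr (Nat.pos_of_ne_zero hv0)
  refine ⟨Nat.card T ^ Nat.totient (orderOf v), ?_, fun z => ?_⟩
  · conv_rhs => rw [← pow_one v]
    rw [pow_eq_pow_iff_modEq]
    exact h1
  · obtain ⟨n, hn⟩ := Nat.exists_eq_succ_of_ne_zero hpos.ne'
    rw [hn, pow_succ, mul_comm, pow_mul, pow_card_eq_one', one_pow]

variable {Ω : Type*} [Group Ω] {S T : Subgroup Ω}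

/-- `InvUnder` from invariance. -/
theorem invUnder_of_autInv {D : FusionSystem T} {F : FusionSystem S} (hinv : AutInv D F)
    {A : Subgroup (MulAut T)} (hA : A ≤ F.autGroup T) : InvUnder D A := by
  intro a ha P hPT φ hφ
  exact hinv.exists hPT hφ (hA ha)

/-- A subgroup of `T` is centric in the invariant subsystem `E` iff all its `F`-conjugates are self-centralizing
in `T`. -/
theorem isCentric_iff_of_invariant {E : FusionSystem T} {F : FusionSystem S} (hE : E.IsInvariantIn F)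
    (P : Subgroup Ω) :
    E.IsCentric P ↔ (P ≤ T ∧ ∀ Q, F.IsConj P Q → centralizerIn T Q ≤ Q) := by
  obtain ⟨hEF, hTsc, hinv, hfrat⟩ := hE
  constructor
  · intro hPc
    refine ⟨hPc.1, fun Q hPQ => ?_⟩
    obtain ⟨φ, hφ, rfl⟩ := hPQ
    obtain ⟨α, hα, φ₀, hφ₀, hφα⟩ := hfrat P hPc.1 φ hφ
    have hφ₀T : ∀ x : P, φ₀ x ∈ T := hom_apply_mem E hφ₀
    have hQ₀ : centralizerIn T φ₀.range ≤ φ₀.range := hPc.2 _ ⟨φ₀, hφ₀, rfl⟩
    intro c hc
    rw [mem_centralizerIn_iff] at hc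
    obtain ⟨hcT, hcc⟩ := hc
    have h1 : ((α⁻¹ ⟨c, hcT⟩ : T) : Ω) ∈ centralizerIn T φ₀.range := by
      rw [mem_centralizerIn_iff]
      refine ⟨(α⁻¹ ⟨c, hcT⟩).2, ?_⟩
      rintro _ ⟨x, rfl⟩
      have h2 := hcc (φ x) ⟨x, rfl⟩
      rw [hφα x (hφ₀T x)] at h2
      have h3 : α ⟨φ₀ x, hφ₀T x⟩ * ⟨c, hcT⟩ = ⟨c, hcT⟩ * α ⟨φ₀ x, hφ₀T x⟩ := Subtype.ext h2
      have h4 := congrArg (fun w => ((α⁻¹ w : T) : Ω)) h3
      simp only [map_mul, MulAut.inv_apply_self, Subgroup.coe_mul] at h4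
      exact h4
    obtain ⟨x, hx⟩ := hQ₀ h1
    refine ⟨x, ?_⟩
    rw [hφα x (hφ₀T x)]
    have e : (⟨φ₀ x, hφ₀T x⟩ : T) = α⁻¹ ⟨c, hcT⟩ := Subtype.ext hx
    rw [e]
    simp
  · rintro ⟨hPT, h⟩
    refine ⟨hPT, fun Q hPQ => h Q ?_⟩
    obtain ⟨φ, hφ, hr⟩ := hPQ
    exact ⟨φ, hEF P hφ, hr⟩

theorem isCentric_iff_isCentric {E D : FusionSystem T} {F : FusionSystem S} (hE : E.IsInvariantIn F)
    (hD : D.IsInvariantIn F) (P : Subgroup Ω) : E.IsCentric P ↔ D.IsCentric P := by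
  rw [isCentric_iff_of_invariant hE, isCentric_iff_of_invariant hD]

/-- Composition of a restricted automorphism with an automorphism. -/
theorem resAut_mul (γ α : MulAut T) (P : Subgroup Ω) (hPT : P ≤ T) :
    resAut (γ * α) P hPT = (T.subtype.comp γ.toMonoidHom).comp
      ((resAut α P hPT).codRestrict T (fun x => (α ⟨x, hPT x.2⟩).2)) := by
  ext x
  rfl

theorem resAut_mul_mem (D : FusionSystem T) {γ α : MulAut T} (hγ : γ ∈ D.autGroup T) {P : Subgroup Ω}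
    (hPT : P ≤ T) (hα : resAut α P hPT ∈ D.Hom P) : resAut (γ * α) P hPT ∈ D.Hom P := by
  rw [resAut_mul]
  exact D.comp_mem hα ((mem_autGroup_iff D le_rfl γ).mp hγ) _

section Main

variable [Finite T] {p : ℕ} [Fact p.Prime]

/-- Step 3: an element of `Aut_E(T)` whose restriction to a centric subgroup lies in `D` lies in `Aut_D(T)`. -/
theorem aut_mem_of_resAut_mem (hT : IsPGroup p T) {F : FusionSystem S} (E D : FusionSystem T)
    (hEF : E.autGroup T ≤ F.autGroup T) (hD : D.IsSaturated p) (hinv : AutInv D F)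
    (hpg : pgenAut E p T ≤ D.autGroup T)
    {α : MulAut T} (hα : α ∈ E.autGroup T) {P : Subgroup Ω} (hPc : D.IsCentric P)
    (hres : resAut α P hPc.1 ∈ D.Hom P) : α ∈ D.autGroup T := by
  obtain ⟨u, v, huv, hu, hv, ⟨k, hk⟩, hvcop⟩ := exists_pPart_decomp p α
  have huE : u ∈ E.autGroup T := (Subgroup.zpowers_le.mpr hα) hu
  have hvE : v ∈ E.autGroup T := (Subgroup.zpowers_le.mpr hα) hv
  have huD : u ∈ D.autGroup T := by
    apply hpg
    refine ⟨⟨u, huE⟩, Subgroup.subset_closure ⟨k, ?_⟩, rfl⟩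
    rw [Subgroup.orderOf_mk]
    exact hk
  have hv' : v = u⁻¹ * α := by
    rw [huv]
    group
  have hvres : resAut v P hPc.1 ∈ D.Hom P := by
    rw [hv']
    exact resAut_mul_mem D ((D.autGroup T).inv_mem huD) hPc.1 hres
  have hv0 : orderOf v ≠ 0 := (orderOf_pos v).ne'
  obtain ⟨j, hvj, hTj⟩ := exists_exponent p hT v hvcop hv0
  have hvF : Subgroup.zpowers v ≤ F.autGroup T := Subgroup.zpowers_le.mpr (hEF hvE)
  have hvD := mem_autGroup_of_resAut_mem hT D hD v j hvj hTj (invUnder_of_autInv hinv hvF) hPc hvres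
  rw [huv]
  exact (D.autGroup T).mul_mem huD hvD

/-- Step 4 (Lemma A): a map of `E` whose restriction to an `E`-centric subgroup lies in `D` lies in `D`, provided
some common subsystem `X` of `E` and `D` has the Frattini property in `E`. -/
theorem mem_of_restrict_mem (hT : IsPGroup p T) {F : FusionSystem S} (E D X : FusionSystem T)
    (hEF : E.autGroup T ≤ F.autGroup T) (hD : D.IsSaturated p) (hinv : AutInv D F)
    (hpg : pgenAut E p T ≤ D.autGroup T)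
    (hcen : ∀ P, E.IsCentric P → D.IsCentric P)
    (hXD : ∀ P, X.Hom P ⊆ D.Hom P) (hXE : ∀ P, X.Hom P ⊆ E.Hom P)
    (hfrat : ∀ (P : Subgroup Ω) (φ : P →* Ω), φ ∈ E.Hom P → ∃ α ∈ E.autGroup T, ∃ φ₀ ∈ X.Hom P,
      ∀ (x : P) (hx : φ₀ x ∈ T), φ x = ((α ⟨φ₀ x, hx⟩ : T) : Ω))
    {N R : Subgroup Ω} (hRN : R ≤ N) (hRc : E.IsCentric R) {ψ : N →* Ω} (hψ : ψ ∈ E.Hom N)
    (hres : ψ.comp (Subgroup.inclusion hRN) ∈ D.Hom R) : ψ ∈ D.Hom N := by
  obtain ⟨α, hα, φ₀, hφ₀, hψα⟩ := hfrat N ψ hψ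
  have hφ₀D : φ₀ ∈ D.Hom N := hXD N hφ₀
  have hφ₀T : ∀ x, φ₀ x ∈ T := hom_apply_mem D hφ₀D
  obtain ⟨φR, hφR⟩ : ∃ φR : R →* Ω, φR = φ₀.comp (Subgroup.inclusion hRN) := ⟨_, rfl⟩
  have hφRx : ∀ x : R, φR x = φ₀ (Subgroup.inclusion hRN x) := fun x => by rw [hφR]; rfl
  have hφRD : φR ∈ D.Hom R := hφR ▸ inclusion_comp_mem D hRN hφ₀D
  have hφRE : φR ∈ E.Hom R := hφR ▸ inclusion_comp_mem E hRN (hXE N hφ₀)
  have hR'c : E.IsCentric φR.range := isCentric_of_isConj E hRc ⟨φR, hφRE, rfl⟩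
  have hR'cD : D.IsCentric φR.range := hcen _ hR'c
  obtain ⟨ι, hι, hιx⟩ := D.inv_mem hφRD
  have hιR : ∀ z, ι z ∈ R := by
    rintro ⟨_, x, rfl⟩
    rw [hιx]
    exact x.2
  have e : resAut α φR.range hR'cD.1 =
      (ψ.comp (Subgroup.inclusion hRN)).comp (ι.codRestrict R hιR) := by
    ext ⟨_, x, rfl⟩
    have h1 : ι.codRestrict R hιR ⟨φR x, ⟨x, rfl⟩⟩ = x := Subtype.ext (hιx x)
    show ((α ⟨φR x, _⟩ : T) : Ω) = ψ (Subgroup.inclusion hRN (ι.codRestrict R hιR ⟨φR x, ⟨x, rfl⟩⟩))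
    rw [h1, hψα _ (hφ₀T _)]
    congr 2
    apply Subtype.ext
    exact hφRx x
  have hαres : resAut α φR.range hR'cD.1 ∈ D.Hom φR.range := by
    rw [e]
    exact D.comp_mem hι hres hιR
  have hαD := aut_mem_of_resAut_mem hT E D hEF hD hinv hpg hα hR'cD hαres
  have e2 : ψ = (T.subtype.comp α.toMonoidHom).comp (φ₀.codRestrict T hφ₀T) := by
    ext x
    exact hψα x (hφ₀T x)
  rw [e2]
  exact D.comp_mem hφ₀D ((mem_autGroup_iff D le_rfl α).mp hαD) hφ₀T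

/-- **Main theorem**: the `p'`-residual of a weakly normal subsystem `E` over `T` lies in every weakly normal
subsystem over `T`. -/
theorem pPrimeResidual_le [Finite S] (hS : IsPGroup p S) (F : FusionSystem S)
    (E D' : FusionSystem T) (hE : E.IsWeaklyNormalIn F p) (hD' : D'.IsWeaklyNormalIn F p)
    (D : FusionSystem T) (hD : E.IsPPrimeResidual p D) : D.IsSubsystemOf D' := by
  obtain ⟨hEsat, -, hEinv⟩ := hE
  obtain ⟨hD'sat, -, hD'inv⟩ := hD'
  have hTS : T ≤ S := hEinv.2.1.1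
  have hT : IsPGroup p T := hS.to_le hTS
  have hEF : E.IsSubsystemOf F := hEinv.1
  have hSIF : StrongInv D' F := strongInv_of_invariant hD'inv.2.2.1 hD'inv.2.2.2
  have hSIE : StrongInv D' E := fun P Q hPQ hQT φ hφ hφQ ψ hψ =>
    hSIF P Q hPQ hQT φ hφ hφQ ψ (hEF Q hψ)
  have hpgD : ∀ P : Subgroup Ω, P ≤ T → pgenAut E p P ≤ D'.autGroup P :=
    fun P hP => pgenAut_le_of_strongInv hT E hEsat D' hSIE hP
  have hcen : ∀ P, E.IsCentric P ↔ D'.IsCentric P := isCentric_iff_isCentric hEinv hD'inv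
  have hautEF : E.autGroup T ≤ F.autGroup T := by
    intro α hα
    rw [mem_autGroup_iff F hTS]
    exact hEF T ((mem_autGroup_iff E le_rfl α).mp hα)
  -- the family `Y` and the system `X`
  obtain ⟨Y, hYdef⟩ : ∃ Y : ∀ P : Subgroup Ω, Set (P →* Ω), Y = fun P =>
      {φ | E.IsCentric P ∧ φ ∈ E.Hom P ∧ φ ∈ D'.Hom P} := ⟨_, rfl⟩
  have hYmem : ∀ (P : Subgroup Ω) (φ : P →* Ω), φ ∈ Y P ↔
      (E.IsCentric P ∧ φ ∈ E.Hom P ∧ φ ∈ D'.Hom P) := by
    intro P φ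
    rw [hYdef]
    rfl
  have hYE : ∀ P, Y P ⊆ E.Hom P := fun P φ hφ => ((hYmem P φ).mp hφ).2.1
  have hYD : ∀ P, Y P ⊆ D'.Hom P := fun P φ hφ => ((hYmem P φ).mp hφ).2.2
  obtain ⟨X, hX⟩ : ∃ X : FusionSystem T, X = genSystem E Y := ⟨_, rfl⟩
  have hXE : X.IsSubsystemOf E := fun P φ hφ => by rw [hX] at hφ; exact hφ.1
  have hXD : ∀ P, X.Hom P ⊆ D'.Hom P := fun P => by rw [hX]; exact genSystem_le hYD P
  have hYX : ∀ P, Y P ⊆ X.Hom P := fun P => by rw [hX]; exact subset_genSystem hYE P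
  have hpg : ∀ P : Subgroup Ω, E.IsCentric P →
      (Subgroup.closure {α : ↥(E.autGroup P) | ∃ k : ℕ, orderOf α = p ^ k}).map (E.autGroup P).subtype ≤
        X.autGroup P := by
    intro P hPc ξ hξ
    have h1 : ξ ∈ D'.autGroup P := hpgD P hPc.1 hξ
    have h2 : ξ ∈ E.autGroup P := by
      obtain ⟨ξ', -, rfl⟩ := hξ
      exact ξ'.2
    rw [mem_autGroup_iff X hPc.1]
    apply hYX
    rw [hYmem]
    exact ⟨hPc, (mem_autGroup_iff E hPc.1 ξ).mp h2, (mem_autGroup_iff D' hPc.1 ξ).mp h1⟩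
  obtain ⟨hXi, hfrat, hcenX⟩ := Cfsg.Agent.S5114.result p hT E hEsat X hXE hpg
  have hA : ∀ {N R : Subgroup Ω} (hRN : R ≤ N), E.IsCentric R → ∀ {ψ : N →* Ω}, ψ ∈ E.Hom N →
      ψ.comp (Subgroup.inclusion hRN) ∈ D'.Hom R → ψ ∈ D'.Hom N :=
    fun hRN hRc ψ hψ hres => mem_of_restrict_mem hT E D' X hautEF hD'sat hD'inv.2.2.1 (hpgD T le_rfl)
      (fun P h => (hcen P).mp h) hXD hXE hfrat hRN hRc hψ hres
  have hXsat : X.IsSaturated p := by
    apply saturated_of_criterion hT X {P | E.IsCentric P}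
    · intro P hP Q hPQ
      obtain ⟨φ, hφ, hr⟩ := hPQ
      exact isCentric_of_isConj E hP ⟨φ, hXE P hφ, hr⟩
    · intro P hPc
      have hPc' : E.IsCentric P := hPc
      have hPT : P ≤ T := hPc'.1
      obtain ⟨Q', hPQ', hQ'n⟩ := exists_fullyNormalized_conj E hPT
      obtain ⟨φ, hφ, hφr⟩ := hPQ'
      obtain ⟨α, hα, φ₀, hφ₀, hφα⟩ := hfrat P φ hφ
      have hφ₀E : φ₀ ∈ E.Hom P := hXE P hφ₀
      have hφ₀T : ∀ x, φ₀ x ∈ T := hom_apply_mem E hφ₀E
      obtain ⟨Q, hQ⟩ : ∃ Q, Q = φ₀.range := ⟨_, rfl⟩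
      have hPQX : X.IsConj P Q := ⟨φ₀, hφ₀, hQ.symm⟩
      have hPQE : E.IsConj P Q := ⟨φ₀, hφ₀E, hQ.symm⟩
      have hPQ'E : E.IsConj P Q' := ⟨φ, hφ, hφr⟩
      have hQT : Q ≤ T := isConj_le_right E hPQE
      have hQc : E.IsCentric Q := isCentric_of_isConj E hPc' hPQE
      have hiff : ∀ y : T, (y : Ω) ∈ Q' ↔ ((α⁻¹ y : T) : Ω) ∈ Q := by
        intro y
        rw [← hφr, hQ]
        constructor
        · rintro ⟨x, hx⟩
          refine ⟨x, ?_⟩
          have h1 := hφα x (hφ₀T x)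
          rw [hx] at h1
          have h2 : y = α ⟨φ₀ x, hφ₀T x⟩ := Subtype.ext h1
          rw [h2, MulAut.inv_apply_self]
        · rintro ⟨x, hx⟩
          refine ⟨x, ?_⟩
          rw [hφα x (hφ₀T x)]
          have h2 : (⟨φ₀ x, hφ₀T x⟩ : T) = α⁻¹ y := Subtype.ext hx
          rw [h2, MulAut.apply_inv_self]
      have hcard : Nat.card (normalizerIn T Q') ≤ Nat.card (normalizerIn T Q) :=
        card_normalizerIn_le_of_aut α⁻¹ hQT hiff
      have hQn : E.IsFullyNormalized Q :=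
        ⟨hQT, fun Q'' hQQ'' => (hQ'n.2 Q'' (isConj_trans E (isConj_trans E (isConj_symm E hPQ'E) hPQE)
          hQQ'')).trans hcard⟩
      have hQA := (saturated_fn hT E hEsat hQn).2
      have hQR := saturated_fn_receptive hT E hEsat hQn
      refine ⟨Q, hPQX, fullyAutomized_of_subsystem hT X E hXE hQA, hQT, fun R ψ hψ hψr => ?_⟩
      have hψE : ψ ∈ E.Hom R := hXE R hψ
      obtain ⟨ψ₀, hψ₀, hext⟩ := hQR.2 R ψ hψE hψr
      have hRT : R ≤ T := hom_le E hψE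
      have hRc : E.IsCentric R := isCentric_of_isConj E hQc (isConj_symm E ⟨ψ, hψE, hψr⟩)
      have hRN : R ≤ extender T R ψ := le_extender hRT ψ (hom_apply_mem E hψE)
      have hNT : extender T R ψ ≤ T := (extender_le T R ψ).trans (normalizerIn_le T R)
      have hNc : E.IsCentric (extender T R ψ) := isCentric_of_le E hRc hRN hNT
      have hres : ψ₀.comp (Subgroup.inclusion hRN) = ψ := by
        ext x
        exact hext x x.2 (hRN x.2)
      refine ⟨ψ₀, ?_, hext⟩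
      apply hYX
      rw [hYmem]
      refine ⟨hNc, hψ₀, hA hRN hRc hψ₀ ?_⟩
      rw [hres]
      exact hXD R hψ
    · intro E' hE' P φ hφ
      rw [hX] at hφ
      apply hφ.2 E'
      intro Q ψ hψ
      exact hE' Q ((hYmem Q ψ).mp hψ).1 (hYX Q hψ)
    · intro P hPX hPn
      exact absurd ((hcenX P).mp hPX) hPn
  intro P φ hφ
  exact hXD P (hD.2.2 X hXsat hXi P hφ)

end Main

end Cfsg.Agent.Lib.Helper26.PPLeast
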