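import Mathlib
import Cfsg.Agent.Lib.Helper16.SpWreath
import Cfsg.Agent.Lib.Helper18.PSpAutA

/-!
helper26: `PSp_4(F)`, `F` of odd characteristic: the block-diagonal embedding
`SL_2(F) × SL_2(F) → Sp_4(F)`, the swap `tau`, and the centralizer (up to sign) of
`io (-1, 1)`.
-/

set_option autoImplicit false
set_option linter.unusedSectionVars false

namespace Cfsg.Agent.Lib.Helper26.PSp4F

open Matrix

variable {F : Type*} [Field F]

/-- block-diagonal embedding `M_2 × M_2 → M_4` (on the index pairs `(inl i, inr i)`) -/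
def bm (x y : Matrix (Fin 2) (Fin 2) F) : Matrix (Fin 2 ⊕ Fin 2) (Fin 2 ⊕ Fin 2) F :=
  fromBlocks (diagonal ![x 0 0, y 0 0]) (diagonal ![x 0 1, y 0 1])
    (diagonal ![x 1 0, y 1 0]) (diagonal ![x 1 1, y 1 1])

theorem bm_mul (x y x' y' : Matrix (Fin 2) (Fin 2) F) :
    bm (x * x') (y * y') = bm x y * bm x' y' := by
  ext i j
  rcases i with i | i <;> rcases j with j | j <;> fin_cases i <;> fin_cases j <;>
    simp [bm, Matrix.mul_apply, Fin.sum_univ_two, Fintype.sum_sum_type]

theorem bm_add (x y x' y' : Matrix (Fin 2) (Fin 2) F) :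
    bm (x + x') (y + y') = bm x y + bm x' y' := by
  ext i j
  rcases i with i | i <;> rcases j with j | j <;> fin_cases i <;> fin_cases j <;>
    simp [bm]

theorem bm_neg (x y : Matrix (Fin 2) (Fin 2) F) : bm (-x) (-y) = -bm x y := by
  ext i j
  rcases i with i | i <;> rcases j with j | j <;> fin_cases i <;> fin_cases j <;>
    simp [bm]

theorem bm_sub (x y x' y' : Matrix (Fin 2) (Fin 2) F) :
    bm (x - x') (y - y') = bm x y - bm x' y' := by
  rw [sub_eq_add_neg, sub_eq_add_neg, sub_eq_add_neg, bm_add, bm_neg]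

theorem bm_smul (c : F) (x y : Matrix (Fin 2) (Fin 2) F) : bm (c • x) (c • y) = c • bm x y := by
  ext i j
  rcases i with i | i <;> rcases j with j | j <;> fin_cases i <;> fin_cases j <;>
    simp [bm]

theorem bm_one : bm (1 : Matrix (Fin 2) (Fin 2) F) 1 = 1 := by
  ext i j
  rcases i with i | i <;> rcases j with j | j <;> fin_cases i <;> fin_cases j <;>
    simp [bm]

theorem bm_injective {x y x' y' : Matrix (Fin 2) (Fin 2) F} (h : bm x y = bm x' y') :
    x = x' ∧ y = y' := by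
  have e := fun i j => congrFun (congrFun h i) j
  constructor
  · ext i j
    fin_cases i <;> fin_cases j
    · simpa [bm] using e (Sum.inl 0) (Sum.inl 0)
    · simpa [bm] using e (Sum.inl 0) (Sum.inr 0)
    · simpa [bm] using e (Sum.inr 0) (Sum.inl 0)
    · simpa [bm] using e (Sum.inr 0) (Sum.inr 0)
  · ext i j
    fin_cases i <;> fin_cases j
    · simpa [bm] using e (Sum.inl 1) (Sum.inl 1)
    · simpa [bm] using e (Sum.inl 1) (Sum.inr 1)
    · simpa [bm] using e (Sum.inr 1) (Sum.inl 1)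
    · simpa [bm] using e (Sum.inr 1) (Sum.inr 1)

theorem bm_mem_iff (x y : Matrix (Fin 2) (Fin 2) F) :
    bm x y ∈ symplecticGroup (Fin 2) F ↔ x.det = 1 ∧ y.det = 1 := by
  rw [SymplecticGroup.mem_iff, Matrix.det_fin_two, Matrix.det_fin_two]
  constructor
  · intro h
    have e := fun i j => congrFun (congrFun h i) j
    constructor
    · have := e (Sum.inr 0) (Sum.inl 0)
      simp [bm, Matrix.J, Matrix.mul_apply, Fin.sum_univ_two, Fintype.sum_sum_type] at this
      linear_combination this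
    · have := e (Sum.inr 1) (Sum.inl 1)
      simp [bm, Matrix.J, Matrix.mul_apply, Fin.sum_univ_two, Fintype.sum_sum_type] at this
      linear_combination this
  · rintro ⟨h1, h2⟩
    ext i j
    rcases i with i | i <;> rcases j with j | j <;> fin_cases i <;> fin_cases j <;>
      simp [bm, Matrix.J, Matrix.mul_apply, Fin.sum_univ_two, Fintype.sum_sum_type] <;>
      first | linear_combination h1 | linear_combination h2 | linear_combination -h1 |
        linear_combination -h2 | ring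


/-- `SL_2(F)` -/
abbrev L2 (F : Type*) [Field F] := Matrix.SpecialLinearGroup (Fin 2) F

/-- `Sp_4(F)` -/
abbrev Sp4 (F : Type*) [Field F] := ↥(symplecticGroup (Fin 2) F)

/-- the block-diagonal embedding `SL_2 × SL_2 → Sp_4` -/
def io : L2 F × L2 F →* Sp4 F where
  toFun p := ⟨bm p.1.1 p.2.1, (bm_mem_iff _ _).mpr ⟨p.1.2, p.2.2⟩⟩
  map_one' := by
    apply Subtype.ext
    exact bm_one
  map_mul' p q := by
    apply Subtype.ext
    exact bm_mul _ _ _ _

theorem io_coe (x y : L2 F) : ((io (x, y) : Sp4 F) : Matrix _ _ F) = bm x.1 y.1 := rfl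

theorem io_injective : Function.Injective (io (F := F)) := by
  rintro ⟨x, y⟩ ⟨x', y'⟩ h
  have h1 : bm x.1 y.1 = bm x'.1 y'.1 := congrArg Subtype.val h
  obtain ⟨h2, h3⟩ := bm_injective h1
  rw [Prod.mk.injEq]
  exact ⟨Subtype.ext h2, Subtype.ext h3⟩

theorem io_mul (x y x' y' : L2 F) : io (x, y) * io (x', y') = io (x * x', y * y') := by
  rw [← map_mul]; rfl

theorem io_inv (x y : L2 F) : (io (x, y))⁻¹ = io (x⁻¹, y⁻¹) := by
  rw [← map_inv]; rfl

/-- the swap matrix -/
def tm : Matrix (Fin 2 ⊕ Fin 2) (Fin 2 ⊕ Fin 2) F :=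
  fromBlocks !![0, 1; 1, 0] 0 0 !![0, 1; 1, 0]

theorem tm_mul_tm : (tm : Matrix _ _ F) * tm = 1 := by
  ext i j
  rcases i with i | i <;> rcases j with j | j <;> fin_cases i <;> fin_cases j <;>
    simp [tm, Matrix.mul_apply, Fin.sum_univ_two, Fintype.sum_sum_type]

theorem tm_mul_bm (x y : Matrix (Fin 2) (Fin 2) F) : tm * bm x y = bm y x * tm := by
  ext i j
  rcases i with i | i <;> rcases j with j | j <;> fin_cases i <;> fin_cases j <;>
    simp [tm, bm, Matrix.mul_apply, Fin.sum_univ_two, Fintype.sum_sum_type]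

theorem tm_mem : (tm : Matrix _ _ F) ∈ symplecticGroup (Fin 2) F := by
  rw [SymplecticGroup.mem_iff]
  ext i j
  rcases i with i | i <;> rcases j with j | j <;> fin_cases i <;> fin_cases j <;>
    simp [tm, Matrix.J, Matrix.mul_apply, Fin.sum_univ_two, Fintype.sum_sum_type]

/-- the swap of the two hyperbolic planes -/
def tau : Sp4 F := ⟨tm, tm_mem⟩

theorem tau_coe : ((tau : Sp4 F) : Matrix _ _ F) = tm := rfl

theorem tau_mul_tau : (tau : Sp4 F) * tau = 1 := by
  apply Subtype.ext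
  exact tm_mul_tm

theorem tau_inv : (tau : Sp4 F)⁻¹ = tau := by
  rw [inv_eq_iff_mul_eq_one, tau_mul_tau]

theorem tau_mul_io (x y : L2 F) : tau * io (x, y) = io (y, x) * tau := by
  apply Subtype.ext
  exact tm_mul_bm _ _

theorem tau_conj_io (x y : L2 F) : tau * io (x, y) * tau⁻¹ = io (y, x) := by
  rw [tau_mul_io, mul_assoc, mul_inv_cancel, mul_one]

theorem tm_ne_bm (x y : Matrix (Fin 2) (Fin 2) F) : (tm : Matrix _ _ F) ≠ bm x y := by
  intro h
  have := congrFun (congrFun h (Sum.inl 0)) (Sum.inl 1)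
  simp [tm, bm] at this

theorem bm_mul_tm_ne_bm (x y x' y' : Matrix (Fin 2) (Fin 2) F) (hx : x ≠ 0) :
    bm x y * tm ≠ bm x' y' := by
  intro h
  apply hx
  have e := fun i j => congrFun (congrFun h i) j
  ext i j
  fin_cases i <;> fin_cases j
  · simpa [tm, bm, Matrix.mul_apply, Fin.sum_univ_two, Fintype.sum_sum_type] using
      e (Sum.inl 0) (Sum.inl 1)
  · simpa [tm, bm, Matrix.mul_apply, Fin.sum_univ_two, Fintype.sum_sum_type] using
      e (Sum.inl 0) (Sum.inr 1)
  · simpa [tm, bm, Matrix.mul_apply, Fin.sum_univ_two, Fintype.sum_sum_type] using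
      e (Sum.inr 0) (Sum.inl 1)
  · simpa [tm, bm, Matrix.mul_apply, Fin.sum_univ_two, Fintype.sum_sum_type] using
      e (Sum.inr 0) (Sum.inr 1)

theorem io_mul_tau_ne_io (x y x' y' : L2 F) : io (x, y) * tau ≠ io (x', y') := by
  intro h
  have h1 : bm x.1 y.1 * tm = bm x'.1 y'.1 := congrArg Subtype.val h
  refine bm_mul_tm_ne_bm _ _ _ _ ?_ h1
  intro h0
  have := x.2
  rw [h0] at this
  simp at this

/-- the `(0,0)`-block of a `4 × 4` matrix -/
def xOf (g : Matrix (Fin 2 ⊕ Fin 2) (Fin 2 ⊕ Fin 2) F) : Matrix (Fin 2) (Fin 2) F :=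
  !![g (Sum.inl 0) (Sum.inl 0), g (Sum.inl 0) (Sum.inr 0);
     g (Sum.inr 0) (Sum.inl 0), g (Sum.inr 0) (Sum.inr 0)]

/-- the `(1,1)`-block of a `4 × 4` matrix -/
def yOf (g : Matrix (Fin 2 ⊕ Fin 2) (Fin 2 ⊕ Fin 2) F) : Matrix (Fin 2) (Fin 2) F :=
  !![g (Sum.inl 1) (Sum.inl 1), g (Sum.inl 1) (Sum.inr 1);
     g (Sum.inr 1) (Sum.inl 1), g (Sum.inr 1) (Sum.inr 1)]

/-- a matrix commuting with `diag(-1, 1, -1, 1)` is block diagonal -/
theorem eq_bm_of_comm (h2 : (2 : F) ≠ 0) (g : Matrix (Fin 2 ⊕ Fin 2) (Fin 2 ⊕ Fin 2) F)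
    (h : g * bm (-1) 1 = bm (-1) 1 * g) : g = bm (xOf g) (yOf g) := by
  have e := fun i j => congrFun (congrFun h i) j
  have key : ∀ a : F, a * -1 = a → a = 0 := by
    intro a ha
    have : 2 * a = 0 := by linear_combination -ha
    rcases mul_eq_zero.mp this with h | h
    · exact absurd h h2
    · exact h
  have key' : ∀ a : F, a = -a → a = 0 := by
    intro a ha
    exact key a (by linear_combination -ha)
  ext i j
  rcases i with i | i <;> rcases j with j | j <;> fin_cases i <;> fin_cases j <;>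
    simp [bm, xOf, yOf]
  · have := e (Sum.inl 0) (Sum.inl 1)
    simp [bm, Matrix.mul_apply, Fin.sum_univ_two, Fintype.sum_sum_type] at this
    exact key' _ this
  · have := e (Sum.inl 1) (Sum.inl 0)
    simp [bm, Matrix.mul_apply, Fin.sum_univ_two, Fintype.sum_sum_type] at this
    exact key _ (by linear_combination this)
  · have := e (Sum.inl 0) (Sum.inr 1)
    simp [bm, Matrix.mul_apply, Fin.sum_univ_two, Fintype.sum_sum_type] at this
    exact key' _ this
  · have := e (Sum.inl 1) (Sum.inr 0)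
    simp [bm, Matrix.mul_apply, Fin.sum_univ_two, Fintype.sum_sum_type] at this
    exact key _ (by linear_combination this)
  · have := e (Sum.inr 0) (Sum.inl 1)
    simp [bm, Matrix.mul_apply, Fin.sum_univ_two, Fintype.sum_sum_type] at this
    exact key' _ this
  · have := e (Sum.inr 1) (Sum.inl 0)
    simp [bm, Matrix.mul_apply, Fin.sum_univ_two, Fintype.sum_sum_type] at this
    exact key _ (by linear_combination this)
  · have := e (Sum.inr 0) (Sum.inr 1)
    simp [bm, Matrix.mul_apply, Fin.sum_univ_two, Fintype.sum_sum_type] at this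
    exact key' _ this
  · have := e (Sum.inr 1) (Sum.inr 0)
    simp [bm, Matrix.mul_apply, Fin.sum_univ_two, Fintype.sum_sum_type] at this
    exact key _ (by linear_combination this)


/-- `diag(-1, 1, -1, 1)` as an element of `Sp_4` -/
def dd : Sp4 F := io (-1, 1)

theorem dd_coe : ((dd : Sp4 F) : Matrix _ _ F) = bm (-1) 1 := by
  show bm (-1 : L2 F).1 (1 : L2 F).1 = bm (-1) 1
  rw [Matrix.SpecialLinearGroup.coe_neg, Matrix.SpecialLinearGroup.coe_one]

theorem tau_conj_dd : (tau : Sp4 F) * dd * tau⁻¹ = io (1, -1) := tau_conj_io _ _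

theorem io_neg_neg (x y : L2 F) :
    (io (-x, -y) : Sp4 F).1 = -(io (x, y) : Sp4 F).1 := by
  show bm (-x).1 (-y).1 = -bm x.1 y.1
  rw [Matrix.SpecialLinearGroup.coe_neg, Matrix.SpecialLinearGroup.coe_neg, bm_neg]

/-- an element of `Sp_4` commuting with `dd` lies in the image of `io` -/
theorem exists_io_of_comm (h2 : (2 : F) ≠ 0) (g : Sp4 F)
    (h : (g : Matrix _ _ F) * bm (-1) 1 = bm (-1) 1 * (g : Matrix _ _ F)) :
    ∃ x y : L2 F, g = io (x, y) := by
  have h1 := eq_bm_of_comm h2 g.1 h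
  have h3 : bm (xOf g.1) (yOf g.1) ∈ symplecticGroup (Fin 2) F := by
    rw [← h1]; exact g.2
  rw [bm_mem_iff] at h3
  refine ⟨⟨xOf g.1, h3.1⟩, ⟨yOf g.1, h3.2⟩, ?_⟩
  apply Subtype.ext
  exact h1

/-- an element of `Sp_4` anticommuting with `dd` lies in the coset `io(..) * tau` -/
theorem exists_io_of_anticomm (h2 : (2 : F) ≠ 0) (g : Sp4 F)
    (h : (g : Matrix _ _ F) * bm (-1) 1 = -(bm (-1) 1 * (g : Matrix _ _ F))) :
    ∃ x y : L2 F, g = io (x, y) * tau := by
  have h1 : ((g * tau : Sp4 F) : Matrix _ _ F) * bm (-1) 1 =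
      bm (-1) 1 * ((g * tau : Sp4 F) : Matrix _ _ F) := by
    show (g : Matrix _ _ F) * tm * bm (-1) 1 = bm (-1) 1 * ((g : Matrix _ _ F) * tm)
    rw [Matrix.mul_assoc, tm_mul_bm, ← Matrix.mul_assoc, ← Matrix.mul_assoc]
    have h3 : bm (1 : Matrix (Fin 2) (Fin 2) F) (-1) = -bm (-1) 1 := by
      rw [← bm_neg, neg_neg]
    rw [h3, Matrix.mul_neg, h, neg_neg]
  obtain ⟨x, y, hxy⟩ := exists_io_of_comm h2 (g * tau) h1
  refine ⟨x, y, ?_⟩
  rw [← hxy, mul_assoc, tau_mul_tau, mul_one]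

end Cfsg.Agent.Lib.Helper26.PSp4F
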