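import Mathlib
import Cfsg.Agent.Lib.Helper26.PSp4FA

/-!
helper26: facts on `SL_2(F)`: elements with square `-1` are conjugate (finite field of odd order),
the centralizer of a non-scalar matrix, traces of powers.
-/

set_option autoImplicit false
set_option linter.unusedSectionVars false

namespace Cfsg.Agent.Lib.Helper26.PSp4F

open Matrix

variable {F : Type*} [Field F]

/-- sums of two squares in a finite field of odd order -/
theorem exists_sq_add_sq [Fintype F] (hodd : Fintype.card F % 2 = 1) (x : F) :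
    ∃ a b : F, a ^ 2 + b ^ 2 = x := by
  open Polynomial in
  obtain ⟨a, b, hab⟩ : ∃ a b, (X ^ 2 : F[X]).eval a + (X ^ 2 - C x : F[X]).eval b = 0 :=
    FiniteField.exists_root_sum_quadratic (Polynomial.degree_X_pow 2)
      (Polynomial.degree_X_pow_sub_C (by decide) _) hodd
  refine ⟨a, b, ?_⟩
  simp only [Polynomial.eval_pow, Polynomial.eval_X, Polynomial.eval_sub, Polynomial.eval_C] at hab
  linear_combination hab

/-- the standard element of order four -/
def j2 : L2 F := ⟨!![0, -1; 1, 0], by simp [Matrix.det_fin_two]⟩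

theorem sl2_ext {g h : L2 F} (h00 : g.1 0 0 = h.1 0 0) (h01 : g.1 0 1 = h.1 0 1)
    (h10 : g.1 1 0 = h.1 1 0) (h11 : g.1 1 1 = h.1 1 1) : g = h := by
  apply Subtype.ext
  ext i j
  fin_cases i <;> fin_cases j <;> assumption

/-- entries of an element of `SL_2` with square `-1` -/
theorem entries_of_sq (w : L2 F) (hw : w * w = -1) :
    w.1 1 1 = -w.1 0 0 ∧ w.1 0 0 * w.1 0 0 + w.1 0 1 * w.1 1 0 = -1 := by
  have hdet := w.2
  rw [Matrix.det_fin_two] at hdet
  have h00 := congrArg (fun M : L2 F => M.1 0 0) hw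
  have h01 := congrArg (fun M : L2 F => M.1 0 1) hw
  have h10 := congrArg (fun M : L2 F => M.1 1 0) hw
  have h11 := congrArg (fun M : L2 F => M.1 1 1) hw
  simp only [Matrix.SpecialLinearGroup.coe_mul, Matrix.mul_apply, Fin.sum_univ_two,
    Matrix.SpecialLinearGroup.coe_neg, Matrix.SpecialLinearGroup.coe_one, Matrix.neg_apply,
    Matrix.one_apply_eq, ne_eq, zero_ne_one, not_false_eq_true,
    Matrix.one_apply_ne, one_ne_zero, neg_zero] at h00 h01 h10 h11
  set p := w.1 0 0
  set q := w.1 0 1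
  set r := w.1 1 0
  set s := w.1 1 1
  have hs : s = -p := by
    by_contra hne
    have hsum : p + s ≠ 0 := fun h => hne (by linear_combination h)
    have hq : q = 0 := by
      have : q * (p + s) = 0 := by linear_combination h01
      rcases mul_eq_zero.mp this with h | h
      · exact h
      · exact absurd h hsum
    rw [hq] at hdet h00
    -- p^2 = -1, p s = 1
    have : p * (p + s) = 0 := by linear_combination h00 + hdet
    rcases mul_eq_zero.mp this with h | h
    · rw [h] at hdet; simp at hdet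
    · exact hsum h
  exact ⟨hs, h00⟩

/-- an element of `SL_2(F)` with square `-1` is conjugate to `j2` -/
theorem exists_conj_j2 [Fintype F] (hodd : Fintype.card F % 2 = 1) (h2 : (2 : F) ≠ 0)
    (w : L2 F) (hw : w * w = -1) : ∃ g : L2 F, w * g = g * j2 := by
  obtain ⟨hs, hpq⟩ := entries_of_sq w hw
  set p := w.1 0 0 with hp
  set q := w.1 0 1 with hq
  set r := w.1 1 0 with hr
  set s := w.1 1 1 with hsdef
  -- find `v` with `r v0^2 - 2 p v0 v1 - q v1^2 = 1`
  have hv : ∃ v0 v1 : F, r * v0 ^ 2 - 2 * p * v0 * v1 - q * v1 ^ 2 = 1 := by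
    by_cases hr0 : r = 0
    · have hp0 : p ≠ 0 := by
        intro h
        rw [h, hr0] at hpq
        simp at hpq
      refine ⟨-(1 + q) / (2 * p), 1, ?_⟩
      rw [hr0]
      field_simp
      ring
    · obtain ⟨a, b, hab⟩ := exists_sq_add_sq hodd r
      refine ⟨(a + p * b) / r, b, ?_⟩
      field_simp
      linear_combination hab - b ^ 2 * hpq
  obtain ⟨v0, v1, hv⟩ := hv
  obtain ⟨g, hg00, hg01, hg10, hg11⟩ : ∃ g : L2 F, g.1 0 0 = v0 ∧ g.1 0 1 = p * v0 + q * v1 ∧
      g.1 1 0 = v1 ∧ g.1 1 1 = r * v0 + s * v1 := by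
    refine ⟨⟨!![v0, p * v0 + q * v1; v1, r * v0 + s * v1], ?_⟩, rfl, rfl, rfl, rfl⟩
    rw [Matrix.det_fin_two]
    simp only [Matrix.of_apply, Matrix.cons_val', Matrix.cons_val_zero, Matrix.cons_val_one,
      Matrix.cons_val_fin_one]
    rw [hs]
    linear_combination hv
  have hj00 : (j2 : L2 F).1 0 0 = 0 := rfl
  have hj01 : (j2 : L2 F).1 0 1 = -1 := rfl
  have hj10 : (j2 : L2 F).1 1 0 = 1 := rfl
  have hj11 : (j2 : L2 F).1 1 1 = 0 := rfl
  refine ⟨g, ?_⟩
  apply sl2_ext
  all_goals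
    simp only [Matrix.SpecialLinearGroup.coe_mul, Matrix.mul_apply, Fin.sum_univ_two,
      hg00, hg01, hg10, hg11, hj00, hj01, hj10, hj11, ← hp, ← hq, ← hr, ← hsdef]
  · ring
  · linear_combination v0 * hpq + q * v1 * (hs)
  · ring
  · rw [hs]
    linear_combination v1 * hpq

/-- elements of `SL_2(F)` with square `-1` are conjugate -/
theorem exists_conj_of_sq [Fintype F] (hodd : Fintype.card F % 2 = 1) (h2 : (2 : F) ≠ 0)
    (w w' : L2 F) (hw : w * w = -1) (hw' : w' * w' = -1) : ∃ g : L2 F, g * w * g⁻¹ = w' := by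
  obtain ⟨g, hg⟩ := exists_conj_j2 hodd h2 w hw
  obtain ⟨g', hg'⟩ := exists_conj_j2 hodd h2 w' hw'
  refine ⟨g' * g⁻¹, ?_⟩
  have h1 : w = g * j2 * g⁻¹ := by rw [← hg]; group
  have h3 : w' = g' * j2 * g'⁻¹ := by rw [← hg']; group
  rw [h1, h3]
  group


/-- the centralizer of a non-scalar `2 × 2` matrix `a` is `F + F a` -/
theorem exists_lin_of_comm (a b : Matrix (Fin 2) (Fin 2) F) (hab : a * b = b * a)
    (hns : a 0 1 ≠ 0 ∨ a 1 0 ≠ 0 ∨ a 0 0 ≠ a 1 1) : ∃ α β : F, b = α • 1 + β • a := by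
  have e00 := congrFun (congrFun hab 0) 0
  have e01 := congrFun (congrFun hab 0) 1
  have e10 := congrFun (congrFun hab 1) 0
  simp only [Matrix.mul_apply, Fin.sum_univ_two] at e00 e01 e10
  by_cases h01 : a 0 1 = 0
  · by_cases h10 : a 1 0 = 0
    · have hd : a 0 0 - a 1 1 ≠ 0 := by
        rcases hns with h | h | h
        · exact absurd h01 h
        · exact absurd h10 h
        · exact sub_ne_zero.mpr h
      rw [h01] at e01
      rw [h10] at e10
      have hb01 : b 0 1 = 0 := by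
        have : b 0 1 * (a 0 0 - a 1 1) = 0 := by linear_combination e01
        rcases mul_eq_zero.mp this with h | h
        · exact h
        · exact absurd h hd
      have hb10 : b 1 0 = 0 := by
        have : b 1 0 * (a 0 0 - a 1 1) = 0 := by linear_combination -e10
        rcases mul_eq_zero.mp this with h | h
        · exact h
        · exact absurd h hd
      refine ⟨b 0 0 - (b 0 0 - b 1 1) / (a 0 0 - a 1 1) * a 0 0,
        (b 0 0 - b 1 1) / (a 0 0 - a 1 1), ?_⟩
      ext i j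
      fin_cases i <;> fin_cases j <;> simp [h01, h10, hb01, hb10]
      field_simp
      ring
    · refine ⟨b 0 0 - b 1 0 / a 1 0 * a 0 0, b 1 0 / a 1 0, ?_⟩
      ext i j
      fin_cases i <;> fin_cases j <;> simp
      · field_simp
        linear_combination -e00
      · field_simp
      · field_simp
        linear_combination -e10
  · refine ⟨b 0 0 - b 0 1 / a 0 1 * a 0 0, b 0 1 / a 0 1, ?_⟩
    ext i j
    fin_cases i <;> fin_cases j <;> simp
    · field_simp
    · field_simp
      linear_combination e00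
    · field_simp
      linear_combination e01

/-- Cayley–Hamilton in `SL_2` -/
theorem sl2_sq (g : L2 F) : g.1 * g.1 = (g.1 0 0 + g.1 1 1) • g.1 - 1 := by
  have hdet := g.2
  rw [Matrix.det_fin_two] at hdet
  ext i j
  fin_cases i <;> fin_cases j <;> simp [Matrix.mul_apply, Fin.sum_univ_two] <;>
    first | ring1 | linear_combination -hdet

theorem sl2_inv_coe (g : L2 F) : (g⁻¹).1 = (g.1 0 0 + g.1 1 1) • 1 - g.1 := by
  rw [Matrix.SpecialLinearGroup.coe_inv, Matrix.adjugate_fin_two]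
  ext i j
  fin_cases i <;> fin_cases j <;> simp

/-- trace of an element of `SL_2` -/
def tr2 (g : L2 F) : F := g.1 0 0 + g.1 1 1

theorem tr2_sq (g : L2 F) : tr2 (g * g) = tr2 g ^ 2 - 2 := by
  unfold tr2
  rw [Matrix.SpecialLinearGroup.coe_mul, sl2_sq]
  simp
  ring

theorem tr2_conj (g y : L2 F) : tr2 (y * g * y⁻¹) = tr2 g := by
  have h1 : tr2 (y * g * y⁻¹) = Matrix.trace (y * g * y⁻¹).1 := by
    rw [Matrix.trace_fin_two]; rfl
  have h3 : tr2 g = Matrix.trace g.1 := by
    rw [Matrix.trace_fin_two]; rfl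
  rw [h1, h3, Matrix.SpecialLinearGroup.coe_mul, Matrix.SpecialLinearGroup.coe_mul,
    Matrix.trace_mul_cycle, ← Matrix.SpecialLinearGroup.coe_mul, inv_mul_cancel,
    Matrix.SpecialLinearGroup.coe_one, Matrix.one_mul]

theorem tr2_neg_one : tr2 (-1 : L2 F) = -2 := by
  unfold tr2
  simp
  ring

/-- if `tr g = ± 2` then all `tr (g^(2^j))`, `j ≥ 1`, are `2` -/
theorem tr2_pow_two_pow (g : L2 F) (h : tr2 g ^ 2 = 4) (j : ℕ) : tr2 (g ^ (2 ^ (j + 1))) = 2 := by
  induction j with
  | zero =>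
    rw [zero_add, pow_one, pow_two, tr2_sq, h]
    ring
  | succ j ih =>
    rw [pow_succ 2 (j + 1), pow_mul, pow_two, tr2_sq, ih]
    ring

theorem tr2_sq_ne_four (h2 : (2 : F) ≠ 0) (g : L2 F) (k : ℕ) (hk : 1 ≤ k)
    (hg : g ^ (2 ^ k) = -1) : tr2 g ^ 2 ≠ 4 := by
  intro h
  obtain ⟨j, rfl⟩ : ∃ j, k = j + 1 := ⟨k - 1, by omega⟩
  have h1 := tr2_pow_two_pow g h j
  rw [hg, tr2_neg_one] at h1
  have : (2 : F) * 2 = 0 := by linear_combination -h1
  rcases mul_eq_zero.mp this with h | h <;> exact h2 h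

/-- in `SL_2`: an element commuting with `a` and with the same trace `t ≠ ± 2` is `a` or `a⁻¹` -/
theorem eq_or_eq_inv_of_comm (h2 : (2 : F) ≠ 0) (a b : L2 F) (hab : a * b = b * a)
    (htr : tr2 b = tr2 a) (ht : tr2 a ^ 2 ≠ 4) : b = a ∨ b = a⁻¹ := by
  have hns : a.1 0 1 ≠ 0 ∨ a.1 1 0 ≠ 0 ∨ a.1 0 0 ≠ a.1 1 1 := by
    by_contra hcon
    push Not at hcon
    obtain ⟨h01, h10, h00⟩ := hcon
    apply ht
    have hdet := a.2
    rw [Matrix.det_fin_two, h01, h10, h00] at hdet
    unfold tr2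
    rw [h00]
    linear_combination 4 * hdet
  have hab' : a.1 * b.1 = b.1 * a.1 := by
    rw [← Matrix.SpecialLinearGroup.coe_mul, hab, Matrix.SpecialLinearGroup.coe_mul]
  obtain ⟨α, β, hb⟩ := exists_lin_of_comm a.1 b.1 hab' hns
  have hb00 : b.1 0 0 = α + β * a.1 0 0 := by rw [hb]; simp
  have hb01 : b.1 0 1 = β * a.1 0 1 := by rw [hb]; simp
  have hb10 : b.1 1 0 = β * a.1 1 0 := by rw [hb]; simp
  have hb11 : b.1 1 1 = α + β * a.1 1 1 := by rw [hb]; simp
  have hdeta := a.2
  have hdetb := b.2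
  rw [Matrix.det_fin_two] at hdeta hdetb
  rw [hb00, hb01, hb10, hb11] at hdetb
  unfold tr2 at htr ht
  rw [hb00, hb11] at htr
  obtain ⟨t, htdef⟩ : ∃ t : F, t = a.1 0 0 + a.1 1 1 := ⟨_, rfl⟩
  rw [← htdef] at htr ht
  have hα : 2 * α = t * (1 - β) := by linear_combination htr + β * htdef
  have hkey : (1 - β) * (1 + β) * (t ^ 2 - 4) = 0 := by
    have h4 : (2 * α) ^ 2 + (2 * α) * (2 * β) * t + 4 * β ^ 2 * 1 = 4 := by
      linear_combination 4 * hdetb + 4 * α * β * htdef - 4 * β ^ 2 * hdeta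
    rw [hα] at h4
    linear_combination h4
  have ht' : t ^ 2 - 4 ≠ 0 := sub_ne_zero.mpr ht
  rcases mul_eq_zero.mp hkey with h | h
  · rcases mul_eq_zero.mp h with h | h
    · -- β = 1
      have hβ : β = 1 := by linear_combination -h
      have hα0 : α = 0 := by
        rw [hβ] at hα
        have : 2 * α = 0 := by linear_combination hα
        rcases mul_eq_zero.mp this with h | h
        · exact absurd h h2
        · exact h
      left
      apply Subtype.ext
      rw [hb, hα0, hβ]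
      simp
    · -- β = -1
      have hβ : β = -1 := by linear_combination h
      have hα0 : α = t := by
        rw [hβ] at hα
        have : 2 * (α - t) = 0 := by linear_combination hα
        rcases mul_eq_zero.mp this with h | h
        · exact absurd h h2
        · linear_combination h
      right
      apply Subtype.ext
      rw [sl2_inv_coe, hb, hα0, hβ]
      simp
      rw [htdef, sub_eq_add_neg]
  · exact absurd h ht'

/-- an element of `SL_2` commuting with `a` (`tr a ≠ ± 2`) is inverted by any `x` inverting `a` -/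
theorem conj_eq_inv_of_comm (a x y : L2 F) (hya : a * y = y * a)
    (hxa : x * a * x⁻¹ = a⁻¹) (ht : tr2 a ^ 2 ≠ 4) : x * y * x⁻¹ = y⁻¹ := by
  have hns : a.1 0 1 ≠ 0 ∨ a.1 1 0 ≠ 0 ∨ a.1 0 0 ≠ a.1 1 1 := by
    by_contra hcon
    push Not at hcon
    obtain ⟨h01, h10, h00⟩ := hcon
    apply ht
    have hdet := a.2
    rw [Matrix.det_fin_two, h01, h10, h00] at hdet
    unfold tr2
    rw [h00]
    linear_combination 4 * hdet
  have hya' : a.1 * y.1 = y.1 * a.1 := by
    rw [← Matrix.SpecialLinearGroup.coe_mul, hya, Matrix.SpecialLinearGroup.coe_mul]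
  obtain ⟨α, β, hy⟩ := exists_lin_of_comm a.1 y.1 hya' hns
  have hy00 : y.1 0 0 = α + β * a.1 0 0 := by rw [hy]; simp
  have hy11 : y.1 1 1 = α + β * a.1 1 1 := by rw [hy]; simp
  apply Subtype.ext
  have hxa' : x.1 * a.1 * (x⁻¹).1 = (tr2 a) • 1 - a.1 := by
    rw [← Matrix.SpecialLinearGroup.coe_mul, ← Matrix.SpecialLinearGroup.coe_mul, hxa,
      sl2_inv_coe]
    rfl
  have hxx : x.1 * (x⁻¹).1 = 1 := by
    rw [← Matrix.SpecialLinearGroup.coe_mul, mul_inv_cancel, Matrix.SpecialLinearGroup.coe_one]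
  rw [Matrix.SpecialLinearGroup.coe_mul, Matrix.SpecialLinearGroup.coe_mul, sl2_inv_coe y,
    hy00, hy11]
  conv_lhs => rw [hy]
  rw [Matrix.mul_add, Matrix.add_mul, Matrix.mul_smul, Matrix.smul_mul, Matrix.mul_smul,
    Matrix.smul_mul, Matrix.mul_one, hxx, hxa', hy]
  unfold tr2
  ext i j
  fin_cases i <;> fin_cases j <;> simp

end Cfsg.Agent.Lib.Helper26.PSp4F
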