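import Mathlib
import Cfsg.Agent.Lib.Helper26.PSp4FB
import Cfsg.Agent.Lib.Helper16.FusCrit

/-!
helper26: generalized quaternion Sylow `2`-subgroups `Q` of `SL_2(F)`: the data `(a, x)`, and
elements of the normalizer of `Q` that normalize `⟨a⟩` lie in `Q`.
-/

set_option autoImplicit false
set_option linter.unusedSectionVars false
set_option linter.style.haveILetI false

namespace Cfsg.Agent.Lib.Helper26.PSp4F

open Matrix

variable {F : Type*} [Field F]

/-- generalized quaternion data for a subgroup of `SL_2(F)` -/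
structure QData (Q : Subgroup (L2 F)) (a x : L2 F) (k : ℕ) : Prop where
  hk : 1 ≤ k
  ha : a ∈ Q
  hx : x ∈ Q
  hak : a ^ (2 ^ k) = -1
  hxx : x * x = -1
  hxa : x * a * x⁻¹ = a⁻¹
  hall : ∀ g ∈ Q, (∃ i : ℕ, g = a ^ i) ∨ (∃ i : ℕ, g = x * a ^ i)

theorem neg_one_mul_neg_one : (-1 : L2 F) * -1 = 1 := by
  apply Subtype.ext
  simp

theorem neg_one_comm (g : L2 F) : (-1 : L2 F) * g = g * -1 := by
  apply Subtype.ext
  simp

theorem neg_one_ne_one (h2 : (2 : F) ≠ 0) : (-1 : L2 F) ≠ 1 := by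
  intro h
  have := congrArg (fun M : L2 F => M.1 0 0) h
  simp at this
  apply h2
  linear_combination -this

theorem neg_eq_neg_one_mul (g : L2 F) : -g = -1 * g := by
  apply Subtype.ext
  simp

namespace QData

variable {Q : Subgroup (L2 F)} {a x : L2 F} {k : ℕ}

theorem neg_one_mem (h : QData Q a x k) : (-1 : L2 F) ∈ Q := by
  rw [← h.hak]; exact Q.pow_mem h.ha _

theorem x_conj_pow (h : QData Q a x k) (i : ℕ) : x * a ^ i * x⁻¹ = (a ^ i)⁻¹ := by
  have : x * a ^ i * x⁻¹ = (x * a * x⁻¹) ^ i := by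
    rw [conj_pow]
  rw [this, h.hxa, inv_pow]

theorem xa_sq (h : QData Q a x k) (i : ℕ) : (x * a ^ i) * (x * a ^ i) = -1 := by
  have h1 : x * a ^ i = (a ^ i)⁻¹ * x := by
    rw [← h.x_conj_pow i]; group
  calc (x * a ^ i) * (x * a ^ i) = (a ^ i)⁻¹ * x * (x * a ^ i) := by rw [← h1]
    _ = (a ^ i)⁻¹ * (x * x) * a ^ i := by group
    _ = (a ^ i)⁻¹ * (-1 * a ^ i) := by rw [h.hxx]; group
    _ = (a ^ i)⁻¹ * (a ^ i * -1) := by rw [neg_one_comm]
    _ = -1 := by group

theorem a_pow_pow (h : QData Q a x k) : a ^ (2 ^ (k + 1)) = 1 := by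
  rw [pow_succ, pow_mul, h.hak, pow_two, neg_one_mul_neg_one]

theorem tr_ne (h : QData Q a x k) (h2 : (2 : F) ≠ 0) : tr2 a ^ 2 ≠ 4 :=
  tr2_sq_ne_four h2 a k h.hk h.hak

/-- for `k ≥ 2`, `a * a ≠ -1` -/
theorem a_sq_ne (h : QData Q a x k) (h2 : (2 : F) ≠ 0) (hk2 : 2 ≤ k) : a * a ≠ -1 := by
  intro hcon
  obtain ⟨j, rfl⟩ : ∃ j, k = j + 2 := ⟨k - 2, by omega⟩
  have h4 : a ^ 4 = 1 := by
    have : a ^ 4 = (a * a) * (a * a) := by
      rw [show (4 : ℕ) = 2 * 2 from rfl, pow_mul, pow_two, pow_two]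
    rw [this, hcon, neg_one_mul_neg_one]
  have h5 : a ^ (2 ^ (j + 2)) = 1 := by
    have : 2 ^ (j + 2) = 4 * 2 ^ j := by ring
    rw [this, pow_mul, h4, one_pow]
  rw [h.hak] at h5
  exact neg_one_ne_one h2 h5

end QData

/-- **normalizer lemma**: an element of `N(Q)` sending `a` into `⟨a⟩` lies in `Q` -/
theorem mem_of_normalizer_of_conj_pow [Fintype F] (h2 : (2 : F) ≠ 0) {Q : Subgroup (L2 F)}
    {a x : L2 F} {k : ℕ} (h : QData Q a x k)
    (hQ : Nat.card Q = 2 ^ (Nat.card (L2 F)).factorization 2) (y : L2 F)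
    (hy : y ∈ Subgroup.normalizer (Q : Set (L2 F))) (i : ℕ) (hyi : y * a * y⁻¹ = a ^ i) :
    y ∈ Q := by
  classical
  haveI : Finite (L2 F) := by
    unfold L2 Matrix.SpecialLinearGroup
    infer_instance
  haveI : Fact (Nat.Prime 2) := ⟨Nat.prime_two⟩
  -- reduce to the case `y` commutes with `a`
  have key : ∀ y' : L2 F, y' ∈ Subgroup.normalizer (Q : Set (L2 F)) → a * y' = y' * a → y' ∈ Q := by
    intro y' hy' hc
    have h1 := conj_eq_inv_of_comm a x y' hc h.hxa (h.tr_ne h2)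
    have h3 : y' * y' = (y' * x * y'⁻¹) * x⁻¹ := by
      have : y' * x * y'⁻¹ * x⁻¹ = y' * (x * y' * x⁻¹)⁻¹ := by group
      rw [this, h1, inv_inv]
    have h4 : y' * y' ∈ Q := by
      rw [h3]
      exact Q.mul_mem ((Subgroup.mem_normalizer_iff.mp hy' x).mp h.hx) (Q.inv_mem h.hx)
    -- `y'` is a `2`-element
    let P : Sylow 2 (L2 F) := Sylow.ofCard Q hQ
    have hP : (P : Subgroup (L2 F)) = Q := rfl
    have hQp : IsPGroup 2 Q := IsPGroup.of_card hQ
    obtain ⟨m, hm⟩ := (IsPGroup.iff_orderOf.mp hQp) ⟨y' * y', h4⟩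
    have hpow : y' ^ (2 ^ (m + 1)) = 1 := by
      have h5 : (⟨y' * y', h4⟩ : Q) ^ (2 ^ m) = 1 := by
        rw [← hm]; exact pow_orderOf_eq_one _
      have h6 := congrArg Subtype.val h5
      rw [Subgroup.coe_pow, Subgroup.coe_one] at h6
      rw [pow_succ, mul_comm, pow_mul, pow_two]
      exact h6
    obtain ⟨e, -, he⟩ := (Nat.dvd_prime_pow Nat.prime_two).mp (orderOf_dvd_of_pow_eq_one hpow)
    have := Cfsg.Agent.Lib.Helper16.FusCrit.mem_sylow_of_mem_normalizer P y' (by rw [hP]; exact hy')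
      e he
    rw [hP] at this
    exact this
  have hcomm : a * (a ^ i) = (a ^ i) * a := by
    rw [← pow_succ', ← pow_succ]
  have htr : tr2 (a ^ i) = tr2 a := by rw [← hyi, tr2_conj]
  rcases eq_or_eq_inv_of_comm h2 a (a ^ i) hcomm htr (h.tr_ne h2) with hb | hb
  · apply key y hy
    rw [hb] at hyi
    calc a * y = (y * a * y⁻¹) * y := by rw [hyi]
      _ = y * a := by group
  · -- replace `y` by `x * y`
    have hxy : x * y ∈ Subgroup.normalizer (Q : Set (L2 F)) :=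
      Subgroup.mul_mem _ (Subgroup.le_normalizer h.hx) hy
    have h1 : x * y ∈ Q := by
      apply key _ hxy
      have h3 : (x * y) * a * (x * y)⁻¹ = a := by
        calc (x * y) * a * (x * y)⁻¹ = x * (y * a * y⁻¹) * x⁻¹ := by group
          _ = x * a⁻¹ * x⁻¹ := by rw [hyi, hb]
          _ = (x * a * x⁻¹)⁻¹ := by group
          _ = a := by rw [h.hxa, inv_inv]
      calc a * (x * y) = ((x * y) * a * (x * y)⁻¹) * (x * y) := by rw [h3]
        _ = x * y * a := by group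
    have : y = x⁻¹ * (x * y) := by group
    rw [this]
    exact Q.mul_mem (Q.inv_mem h.hx) h1

end Cfsg.Agent.Lib.Helper26.PSp4F

namespace Cfsg.Agent.Lib.Helper26.PSp4F

open Matrix

variable {F : Type*} [Field F]

theorem two_ne_zero_of_odd [Fintype F] (hodd : Fintype.card F % 2 = 1) : (2 : F) ≠ 0 := by
  intro h
  have hchar : ringChar F = 2 :=
    CharP.ringChar_of_prime_eq_zero Nat.prime_two (by exact_mod_cast h)
  have h2q := FiniteField.even_card_of_char_two hchar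
  omega

/-- existence of a Sylow `2`-subgroup of `SL_2(F)` with quaternion data -/
theorem exists_qdata [Fintype F] (hodd : Fintype.card F % 2 = 1) :
    ∃ (Q : Subgroup (L2 F)) (a x : L2 F) (k : ℕ), QData Q a x k ∧
      Nat.card Q = 2 ^ (Nat.card (L2 F)).factorization 2 := by
  have h2 : (2 : F) ≠ 0 := two_ne_zero_of_odd hodd
  obtain ⟨k, H, hk, ⟨e⟩, hcard⟩ :=
    Cfsg.Agent.Lib.Helper2.sl2_exists_sylow_quaternion (F := F) (Nat.odd_iff.mpr hodd)
  let φ : QuaternionGroup (2 ^ k) →* L2 F := H.subtype.comp e.symm.toMonoidHom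
  have hφinj : Function.Injective φ := by
    intro u v huv
    have : (e.symm u : L2 F) = e.symm v := huv
    exact e.symm.injective (Subtype.ext this)
  have hφmem : ∀ u, φ u ∈ H := fun u => (e.symm u).2
  have hφsurj : ∀ g ∈ H, ∃ u, φ u = g := by
    intro g hg
    exact ⟨e ⟨g, hg⟩, by show ((e.symm (e ⟨g, hg⟩) : H) : L2 F) = g; rw [e.symm_apply_apply]⟩
  have hn : ((2 ^ k : ℕ) : ZMod (2 * 2 ^ k)) ≠ 0 := by
    intro h0
    rw [ZMod.natCast_eq_zero_iff] at h0
    have : 0 < 2 ^ k := pow_pos (by norm_num) k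
    have := Nat.le_of_dvd this h0
    omega
  have hnn : ((2 ^ k : ℕ) : ZMod (2 * 2 ^ k)) + ((2 ^ k : ℕ) : ZMod (2 * 2 ^ k)) = 0 := by
    rw [← Nat.cast_add, ← two_mul, ZMod.natCast_self]
  -- the central involution
  have hinv : φ (QuaternionGroup.a ((2 ^ k : ℕ) : ZMod (2 * 2 ^ k))) = -1 := by
    apply Cfsg.Agent.Lib.Helper2.sl2_eq_neg_one_of_mul_self h2
    · rw [← map_mul, QuaternionGroup.a_mul_a, hnn, QuaternionGroup.a_zero, map_one]
    · intro h1
      rw [← map_one φ] at h1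
      have := hφinj h1
      rw [QuaternionGroup.one_def] at this
      injection this with h3
      exact hn h3
  refine ⟨H, φ (QuaternionGroup.a 1), φ (QuaternionGroup.xa 0), k, ⟨hk, hφmem _, hφmem _, ?_, ?_, ?_, ?_⟩,
    hcard⟩
  · rw [← map_pow, QuaternionGroup.a_one_pow, hinv]
  · rw [← map_mul, QuaternionGroup.xa_mul_xa, add_zero, sub_zero, hinv]
  · rw [← map_inv, ← map_inv, ← map_mul, ← map_mul]
    congr 1
    have hx_inv : (QuaternionGroup.xa (0 : ZMod (2 * 2 ^ k)))⁻¹ =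
        QuaternionGroup.xa ((2 ^ k : ℕ) : ZMod (2 * 2 ^ k)) := by
      apply inv_eq_of_mul_eq_one_right
      rw [QuaternionGroup.xa_mul_xa, sub_zero, hnn, QuaternionGroup.a_zero]
    have ha_inv : (QuaternionGroup.a (1 : ZMod (2 * 2 ^ k)))⁻¹ = QuaternionGroup.a (-1) := by
      apply inv_eq_of_mul_eq_one_right
      rw [QuaternionGroup.a_mul_a, add_neg_cancel, QuaternionGroup.a_zero]
    rw [hx_inv, ha_inv, QuaternionGroup.xa_mul_a, QuaternionGroup.xa_mul_xa, zero_add, hnn, zero_sub]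
  · intro g hg
    obtain ⟨u, rfl⟩ := hφsurj g hg
    rcases u with i | i
    · left
      refine ⟨i.val, ?_⟩
      rw [← map_pow, QuaternionGroup.a_one_pow, ZMod.natCast_zmod_val]
    · right
      refine ⟨i.val, ?_⟩
      rw [← map_pow, ← map_mul, QuaternionGroup.a_one_pow, ZMod.natCast_zmod_val,
        QuaternionGroup.xa_mul_a, zero_add]

end Cfsg.Agent.Lib.Helper26.PSp4F
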