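import Mathlib
import Cfsg.Agent.Lib.Helper26.PSp4FC
import Cfsg.Agent.Lib.Helper14.SympCount
import Cfsg.Agent.S0246

/-!
helper26: the subgroup `St Q = (Q × Q) : ⟨tau⟩` of `Sp_4(F)` for a subgroup `Q ≤ SL_2(F)`, its image
`S0 Q` in `PSp_4(F)`, and their orders.
-/

set_option autoImplicit false
set_option linter.unusedSectionVars false
set_option linter.style.haveILetI false

namespace Cfsg.Agent.Lib.Helper26.PSp4F

open Matrix Cfsg.Agent.Lib.Helper18.PSpAut

variable {F : Type*} [Field F]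

/-- the image of `Q × Q` in `Sp_4` -/
def W1 (Q : Subgroup (L2 F)) : Subgroup (Sp4 F) := (Q.prod Q).map io

theorem mem_W1_iff (Q : Subgroup (L2 F)) (g : Sp4 F) :
    g ∈ W1 Q ↔ ∃ u ∈ Q, ∃ v ∈ Q, g = io (u, v) := by
  constructor
  · rintro ⟨⟨u, v⟩, ⟨hu, hv⟩, rfl⟩
    exact ⟨u, hu, v, hv, rfl⟩
  · rintro ⟨u, hu, v, hv, rfl⟩
    exact ⟨(u, v), ⟨hu, hv⟩, rfl⟩

theorem io_mem_W1_iff (Q : Subgroup (L2 F)) (u v : L2 F) : io (u, v) ∈ W1 Q ↔ u ∈ Q ∧ v ∈ Q := by
  rw [mem_W1_iff]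
  constructor
  · rintro ⟨u', hu', v', hv', h⟩
    have := io_injective h
    rw [Prod.mk.injEq] at this
    rw [this.1, this.2]
    exact ⟨hu', hv'⟩
  · rintro ⟨hu, hv⟩
    exact ⟨u, hu, v, hv, rfl⟩

theorem tau_conj_W1 (Q : Subgroup (L2 F)) {w : Sp4 F} (hw : w ∈ W1 Q) : tau * w * tau ∈ W1 Q := by
  obtain ⟨u, hu, v, hv, rfl⟩ := (mem_W1_iff Q w).mp hw
  have : tau * io (u, v) * tau = io (v, u) := by
    have := tau_conj_io u v
    rwa [tau_inv] at this
  rw [this]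
  exact (io_mem_W1_iff Q v u).mpr ⟨hv, hu⟩

theorem tau_not_mem_W1 (Q : Subgroup (L2 F)) : (tau : Sp4 F) ∉ W1 Q := by
  intro h
  obtain ⟨u, -, v, -, h1⟩ := (mem_W1_iff Q _).mp h
  have h3 : (tm : Matrix _ _ F) = bm u.1 v.1 := congrArg Subtype.val h1
  exact tm_ne_bm _ _ h3

theorem tau_tau_mul (z : Sp4 F) : tau * (tau * z) = z := by
  rw [← mul_assoc, tau_mul_tau, one_mul]

/-- `(Q × Q) : ⟨tau⟩` -/
def St (Q : Subgroup (L2 F)) : Subgroup (Sp4 F) where
  carrier := {g | g ∈ W1 Q ∨ g * tau ∈ W1 Q}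
  one_mem' := Or.inl (one_mem _)
  mul_mem' := by
    rintro g g' (hg | hg) (hg' | hg')
    · exact Or.inl (mul_mem hg hg')
    · right
      rw [mul_assoc]
      exact mul_mem hg hg'
    · right
      have : g * g' * tau = (g * tau) * (tau * g' * tau) := by
        simp only [mul_assoc, tau_tau_mul]
      rw [this]
      exact mul_mem hg (tau_conj_W1 Q hg')
    · left
      have : g * g' = (g * tau) * (tau * (g' * tau) * tau) := by
        simp only [mul_assoc, tau_mul_tau, mul_one, tau_tau_mul]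
      rw [this]
      exact mul_mem hg (tau_conj_W1 Q hg')
  inv_mem' := by
    rintro g (hg | hg)
    · exact Or.inl (inv_mem hg)
    · right
      have : g⁻¹ * tau = tau * (g * tau)⁻¹ * tau := by
        rw [_root_.mul_inv_rev, tau_inv]
        simp only [tau_tau_mul]
      rw [this]
      exact tau_conj_W1 Q (inv_mem hg)

theorem mem_St_iff (Q : Subgroup (L2 F)) (g : Sp4 F) :
    g ∈ St Q ↔ ∃ u ∈ Q, ∃ v ∈ Q, g = io (u, v) ∨ g = io (u, v) * tau := by
  constructor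
  · rintro (hg | hg)
    · obtain ⟨u, hu, v, hv, rfl⟩ := (mem_W1_iff Q g).mp hg
      exact ⟨u, hu, v, hv, Or.inl rfl⟩
    · obtain ⟨u, hu, v, hv, h⟩ := (mem_W1_iff Q _).mp hg
      refine ⟨u, hu, v, hv, Or.inr ?_⟩
      rw [← h, mul_assoc, tau_mul_tau, mul_one]
  · rintro ⟨u, hu, v, hv, rfl | rfl⟩
    · exact Or.inl ((io_mem_W1_iff Q u v).mpr ⟨hu, hv⟩)
    · right
      rw [mul_assoc, tau_mul_tau, mul_one]
      exact (io_mem_W1_iff Q u v).mpr ⟨hu, hv⟩

theorem W1_le_St (Q : Subgroup (L2 F)) : W1 Q ≤ St Q := fun _ h => Or.inl h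

theorem io_mem_St (Q : Subgroup (L2 F)) {u v : L2 F} (hu : u ∈ Q) (hv : v ∈ Q) : io (u, v) ∈ St Q :=
  Or.inl ((io_mem_W1_iff Q u v).mpr ⟨hu, hv⟩)

theorem tau_mem_St (Q : Subgroup (L2 F)) : (tau : Sp4 F) ∈ St Q := by
  right
  rw [tau_mul_tau]
  exact one_mem _

theorem io_mem_St_iff (Q : Subgroup (L2 F)) (u v : L2 F) : io (u, v) ∈ St Q ↔ u ∈ Q ∧ v ∈ Q := by
  constructor
  · rintro (h | h)
    · exact (io_mem_W1_iff Q u v).mp h
    · exfalso
      obtain ⟨u', -, v', -, h1⟩ := (mem_W1_iff Q _).mp h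
      exact io_mul_tau_ne_io _ _ _ _ h1
  · rintro ⟨hu, hv⟩
    exact io_mem_St Q hu hv

theorem io_tau_mem_St_iff (Q : Subgroup (L2 F)) (u v : L2 F) :
    io (u, v) * tau ∈ St Q ↔ u ∈ Q ∧ v ∈ Q := by
  constructor
  · intro h
    have := (St Q).mul_mem h (tau_mem_St Q)
    rw [mul_assoc, tau_mul_tau, mul_one] at this
    exact (io_mem_St_iff Q u v).mp this
  · rintro ⟨hu, hv⟩
    exact (St Q).mul_mem (io_mem_St Q hu hv) (tau_mem_St Q)

theorem negOne_eq_io : (negOne : Sp4 F) = io (-1, -1) := by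
  apply Subtype.ext
  rw [negOne_coe, io_neg_neg, ← bm_one]
  rfl

theorem negOne_mem_St (Q : Subgroup (L2 F)) (hQ : (-1 : L2 F) ∈ Q) : (negOne : Sp4 F) ∈ St Q := by
  rw [negOne_eq_io]
  exact io_mem_St Q hQ hQ

theorem card_W1 (Q : Subgroup (L2 F)) : Nat.card (W1 Q) = Nat.card Q * Nat.card Q := by
  unfold W1
  rw [Subgroup.card_map_of_injective io_injective, Nat.card_congr (Subgroup.prodEquiv Q Q).toEquiv,
    Nat.card_prod]

theorem card_St (Q : Subgroup (L2 F)) [Finite Q] : Nat.card (St Q) = 2 * (Nat.card Q * Nat.card Q) := by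
  have hidx : ((W1 Q).subgroupOf (St Q)).index = 2 := by
    rw [Subgroup.index_eq_two_iff]
    refine ⟨⟨tau, tau_mem_St Q⟩, ?_⟩
    intro b
    rw [Subgroup.mem_subgroupOf, Subgroup.mem_subgroupOf]
    show Xor ((b : Sp4 F) * tau ∈ W1 Q) ((b : Sp4 F) ∈ W1 Q)
    rcases b.2 with hb | hb
    · right
      refine ⟨hb, ?_⟩
      intro hb'
      apply tau_not_mem_W1 Q
      have : (tau : Sp4 F) = (b : Sp4 F)⁻¹ * ((b : Sp4 F) * tau) := by group
      rw [this]
      exact mul_mem (inv_mem hb) hb'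
    · left
      refine ⟨hb, ?_⟩
      intro hb'
      apply tau_not_mem_W1 Q
      have : (tau : Sp4 F) = (b : Sp4 F)⁻¹ * ((b : Sp4 F) * tau) := by group
      rw [this]
      exact mul_mem (inv_mem hb') hb
  have h1 := Subgroup.index_mul_card ((W1 Q).subgroupOf (St Q))
  rw [hidx, Nat.card_congr (Subgroup.subgroupOfEquivOfLe (W1_le_St Q)).toEquiv, card_W1] at h1
  exact h1.symm

/-- the image of `St Q` in `PSp_4` -/
def S0 (Q : Subgroup (L2 F)) : Subgroup (Cfsg.PSp 2 F) := (St Q).map pi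

theorem pi_mem_S0 (Q : Subgroup (L2 F)) {s : Sp4 F} (hs : s ∈ St Q) : pi s ∈ S0 Q :=
  ⟨s, hs, rfl⟩

theorem neg_eq_negOne_mul (s s' : Sp4 F) (h : s'.1 = -s.1) :
    s' = negOne * s := by
  apply Subtype.ext
  show s'.1 = (-1 : Matrix (Fin 2 ⊕ Fin 2) (Fin 2 ⊕ Fin 2) F) * s.1
  rw [h, Matrix.neg_mul, Matrix.one_mul]

theorem pi_mem_S0_iff (Q : Subgroup (L2 F)) (hQ : (-1 : L2 F) ∈ Q) (s : Sp4 F) :
    pi s ∈ S0 Q ↔ s ∈ St Q := by
  constructor
  · rintro ⟨s', hs', h⟩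
    rcases (pi_eq_iff (by norm_num) s' s).mp h with h1 | h1
    · have : s = s' := Subtype.ext h1
      rw [this]; exact hs'
    · rw [neg_eq_negOne_mul s' s h1]
      exact (St Q).mul_mem (negOne_mem_St Q hQ) hs'
  · exact pi_mem_S0 Q

theorem pi_negOne : pi (negOne : Sp4 F) = 1 :=
  (pi_eq_one_iff _).mpr negOne_mem_center

theorem card_eq_card_inf_ker_mul_card_map' {G G' : Type*} [Group G] [Group G'] (f : G →* G')
    (C : Subgroup G) :
    Nat.card C = Nat.card (C ⊓ f.ker : Subgroup G) * Nat.card (C.map f) := by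
  have h1 : (C ⊓ f.ker).relIndex C = Nat.card (C.map f) := by
    rw [Subgroup.inf_relIndex_left, Subgroup.relIndex_ker]
  have h2 := Subgroup.relIndex_mul_relIndex (H := ⊥) (K := C ⊓ f.ker) (L := C) bot_le inf_le_left
  rw [Subgroup.relIndex_bot_left, Subgroup.relIndex_bot_left, h1] at h2
  exact h2.symm

theorem card_center [Fintype F] (hodd : Fintype.card F % 2 = 1) :
    Nat.card (Subgroup.center (Sp4 F)) = 2 := by
  rw [Cfsg.Agent.S0246.result (F := F) rfl 2 (by norm_num)]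
  have hq : 1 < Fintype.card F := Fintype.one_lt_card
  have : 2 ∣ Fintype.card F - 1 := by omega
  exact Nat.gcd_eq_left this

theorem center_le_St (Q : Subgroup (L2 F)) (hQ : (-1 : L2 F) ∈ Q) :
    Subgroup.center (Sp4 F) ≤ St Q := by
  intro z hz
  rcases Cfsg.Agent.S0246.center_scalar 2 (by norm_num) z hz with h | h
  · have : z = 1 := Subtype.ext h
    rw [this]; exact one_mem _
  · have : z = negOne := Subtype.ext h
    rw [this]; exact negOne_mem_St Q hQ

theorem card_S0 [Fintype F] (hodd : Fintype.card F % 2 = 1) (Q : Subgroup (L2 F)) [Finite Q]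
    (hQ : (-1 : L2 F) ∈ Q) : Nat.card (S0 Q) = Nat.card Q * Nat.card Q := by
  have h1 := card_eq_card_inf_ker_mul_card_map' (pi (m := 2) (F := F)) (St Q)
  have hker : (pi (m := 2) (F := F)).ker = Subgroup.center (Sp4 F) := by
    unfold pi
    rw [QuotientGroup.ker_mk']
  rw [hker, inf_eq_right.mpr (center_le_St Q hQ), card_center hodd, card_St] at h1
  unfold S0
  omega

theorem card_L2 [Fintype F] : Nat.card (L2 F) =
    Fintype.card F * (Fintype.card F - 1) * (Fintype.card F + 1) :=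
  Cfsg.Agent.Lib.Helper2.card_SL2

theorem fact_card_PSp [Fintype F] (hodd : Fintype.card F % 2 = 1) :
    (Nat.card (Cfsg.PSp 2 F)).factorization 2 = 2 * (Nat.card (L2 F)).factorization 2 := by
  have hq1 : 1 < Fintype.card F := Fintype.one_lt_card
  have h1 : Nat.card (Sp4 F) = Nat.card (Cfsg.PSp 2 F) * Nat.card (Subgroup.center (Sp4 F)) :=
    Subgroup.card_eq_card_quotient_mul_card_subgroup (Subgroup.center (Sp4 F))
  rw [card_center hodd] at h1
  have h3 := Cfsg.Agent.Lib.Helper16.SylAb.val_sp (Fintype.card F) (Nat.odd_iff.mpr hodd) hq1 2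
  have h4 : Nat.card (Sp4 F) = Fintype.card F ^ (2 ^ 2) *
      ∏ i ∈ Finset.range 2, (Fintype.card F ^ (2 * (i + 1)) - 1) :=
    Cfsg.Agent.Lib.Helper14.card_symplectic (F := F) 2
  rw [← h4, h1] at h3
  have hpos : Nat.card (Cfsg.PSp 2 F) ≠ 0 := by
    intro h0
    rw [h0, zero_mul] at h1
    have : 0 < Nat.card (Sp4 F) := Nat.card_pos
    omega
  rw [Nat.factorization_mul hpos (by norm_num), Finsupp.add_apply] at h3
  have h5 : (2 : ℕ).factorization 2 = 1 := by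
    rw [Nat.Prime.factorization_self Nat.prime_two]
  have h6 : (Nat.factorial 2).factorization 2 = 1 := by
    rw [show Nat.factorial 2 = 2 from rfl, h5]
  rw [h5, h6, ← card_L2] at h3
  omega

end Cfsg.Agent.Lib.Helper26.PSp4F
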