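import Mathlib
import Cfsg.Agent.Lib.Helper26.PSp4FD
import Cfsg.Agent.Lib.Helper16.FusGenIso
import Cfsg.Agent.Lib.Helper10.PGroupBasic

/-!
helper26: `PSp_4(F)`, `|F|` odd: the centre of `S0 Q`, and the absence of proper nontrivial
fusion-closed subgroups of `S0 Q`.
-/

set_option autoImplicit false
set_option linter.unusedSectionVars false
set_option linter.style.haveILetI false

namespace Cfsg.Agent.Lib.Helper26.PSp4F

open Matrix Cfsg.Agent.Lib.Helper18.PSpAut Cfsg.Agent.Lib.Helper3.Fus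

variable {F : Type*} [Field F]

theorem pi_io_eq_iff (u v u' v' : L2 F) :
    pi (io (u, v)) = pi (io (u', v')) ↔ (u' = u ∧ v' = v) ∨ (u' = -u ∧ v' = -v) := by
  rw [pi_eq_iff (by norm_num)]
  constructor
  · rintro (h | h)
    · left
      have := io_injective (Subtype.ext h)
      rw [Prod.mk.injEq] at this
      exact this
    · right
      rw [← io_neg_neg] at h
      have := io_injective (Subtype.ext h)
      rw [Prod.mk.injEq] at this
      exact this
  · rintro (⟨rfl, rfl⟩ | ⟨rfl, rfl⟩)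
    · left; rfl
    · right; exact io_neg_neg u v

theorem pi_io_tau_eq_iff (u v u' v' : L2 F) :
    pi (io (u, v) * tau) = pi (io (u', v') * tau) ↔ (u' = u ∧ v' = v) ∨ (u' = -u ∧ v' = -v) := by
  rw [map_mul, map_mul, mul_left_inj, pi_io_eq_iff]

theorem pi_io_ne_pi_io_tau (u v u' v' : L2 F) : pi (io (u, v)) ≠ pi (io (u', v') * tau) := by
  intro h
  rw [pi_eq_iff (by norm_num)] at h
  rcases h with h | h
  · exact io_mul_tau_ne_io _ _ _ _ (Subtype.ext h)
  · rw [← io_neg_neg] at h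
    exact io_mul_tau_ne_io _ _ _ _ (Subtype.ext h)

theorem neg_ne_self (h2 : (2 : F) ≠ 0) (v : L2 F) : -v ≠ v := by
  intro h
  have h1 : (-1 : L2 F) * v = 1 * v := by rw [← neg_eq_neg_one_mul, h, one_mul]
  exact neg_one_ne_one h2 (mul_right_cancel h1)

/-- the central involution `z` of `S0 Q` -/
def zz : Cfsg.PSp 2 F := pi dd

theorem zz_ne_one (h2 : (2 : F) ≠ 0) : (zz : Cfsg.PSp 2 F) ≠ 1 := by
  intro h
  have h1 : pi (io ((-1 : L2 F), (1 : L2 F))) = pi (io ((1 : L2 F), (1 : L2 F))) := by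
    have : io ((1 : L2 F), (1 : L2 F)) = 1 := map_one io
    rw [this, map_one]
    exact h
  rw [pi_io_eq_iff] at h1
  rcases h1 with ⟨h3, -⟩ | ⟨-, h3⟩
  · exact neg_one_ne_one h2 h3.symm
  · exact neg_one_ne_one h2 h3.symm

theorem zz_mem_S0 (Q : Subgroup (L2 F)) (hQ : (-1 : L2 F) ∈ Q) : (zz : Cfsg.PSp 2 F) ∈ S0 Q :=
  pi_mem_S0 Q (io_mem_St Q hQ (one_mem _))

theorem pi_io_one_neg : pi (io ((1 : L2 F), (-1 : L2 F))) = zz := by
  unfold zz dd
  rw [pi_io_eq_iff]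
  right
  simp

/-- `z` commutes with the image of `io` and with `tau` -/
theorem zz_comm_io (u v : L2 F) : zz * pi (io (u, v)) = pi (io (u, v)) * zz := by
  unfold zz dd
  rw [← map_mul pi, ← map_mul pi, io_mul, io_mul, neg_one_comm, one_mul, mul_one]

theorem zz_comm_tau : (zz : Cfsg.PSp 2 F) * pi tau = pi tau * zz := by
  have h1 : (tau : Sp4 F) * dd = io (1, -1) * tau := tau_mul_io _ _
  have h3 : pi (tau : Sp4 F) * zz = zz * pi tau := by
    unfold zz
    rw [← map_mul pi, h1, map_mul pi, pi_io_one_neg]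
    rfl
  exact h3.symm

namespace QData

variable {Q : Subgroup (L2 F)} {a x : L2 F} {k : ℕ}

theorem a_ne_one (h : QData Q a x k) (h2 : (2 : F) ≠ 0) : a ≠ 1 := by
  intro h1
  have := h.hak
  rw [h1, one_pow] at this
  exact neg_one_ne_one h2 this.symm

theorem a_ne_neg_one (h : QData Q a x k) (h2 : (2 : F) ≠ 0) : a ≠ -1 := by
  intro h1
  have := h.hak
  obtain ⟨j, hj⟩ : ∃ j, k = j + 1 := ⟨k - 1, by have := h.hk; omega⟩
  rw [h1, hj, pow_succ, pow_mul, pow_two ((-1 : L2 F) ^ 2 ^ j)] at this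
  have h3 : ((-1 : L2 F) ^ 2 ^ j) * ((-1 : L2 F) ^ 2 ^ j) = 1 := by
    rw [← pow_add, ← two_mul, pow_mul, pow_two, neg_one_mul_neg_one, one_pow]
  rw [h3] at this
  exact neg_one_ne_one h2 this.symm

/-- the centre of `Q` is `{1, -1}` -/
theorem center_Q (h : QData Q a x k) (h2 : (2 : F) ≠ 0) {u : L2 F} (hu : u ∈ Q)
    (hc : ∀ w ∈ Q, w * u = u * w) : u = 1 ∨ u = -1 := by
  have hsq : ∀ i : ℕ, a ^ i * a ^ i = 1 → a ^ i = 1 ∨ a ^ i = -1 := by
    intro i hi
    by_cases h1 : a ^ i = 1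
    · exact Or.inl h1
    · exact Or.inr (Cfsg.Agent.Lib.Helper2.sl2_eq_neg_one_of_mul_self h2 _ hi h1)
  rcases h.hall u hu with ⟨i, rfl⟩ | ⟨i, rfl⟩
  · apply hsq
    have h1 := hc x h.hx
    have h3 : x * a ^ i * x⁻¹ = a ^ i := by rw [h1]; group
    rw [h.x_conj_pow] at h3
    have h4 : a ^ i * a ^ i = a ^ i * (a ^ i)⁻¹ := by rw [h3]
    rw [h4, mul_inv_cancel]
  · exfalso
    have h1 := hc a h.ha
    -- `a * x = x * a`
    have h3 : a * x = x * a := by
      have h4 : a * (x * a ^ i) * (a ^ i)⁻¹ = x * a ^ i * a * (a ^ i)⁻¹ := by rw [h1]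
      have h5 : a * (x * a ^ i) * (a ^ i)⁻¹ = a * x := by group
      have h6 : x * a ^ i * a * (a ^ i)⁻¹ = x * a := by
        rw [mul_assoc x, ← pow_succ, pow_succ', ← mul_assoc x]
        group
      rw [h5, h6] at h4
      exact h4
    have h7 : x * a * x⁻¹ = a := by rw [← h3]; group
    rw [h.hxa] at h7
    have h8 : a * a = 1 := by
      have h10 : a * a = a * a⁻¹ := by rw [h7]
      rw [h10, mul_inv_cancel]
    have h9 : a ^ 2 ^ k = 1 := by
      obtain ⟨j, hj⟩ : ∃ j, k = j + 1 := ⟨k - 1, by have := h.hk; omega⟩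
      rw [hj, pow_succ', pow_mul, pow_two, h8, one_pow]
    rw [h.hak] at h9
    exact neg_one_ne_one h2 h9

/-- the centre of `S0 Q` is `{1, z}` -/
theorem center_S0 (h : QData Q a x k) (h2 : (2 : F) ≠ 0) {g : Cfsg.PSp 2 F} (hg : g ∈ S0 Q)
    (hc : ∀ s ∈ S0 Q, g * s = s * g) : g = 1 ∨ g = zz := by
  obtain ⟨s, hs, rfl⟩ := hg
  obtain ⟨u, hu, v, hv, rfl | rfl⟩ := (mem_St_iff Q s).mp hs
  · -- `u`, `v` central in `Q`
    have hu' : ∀ w ∈ Q, w * u = u * w := by
      intro w hw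
      have h1 := hc (pi (io (w, 1))) (pi_mem_S0 Q (io_mem_St Q hw (one_mem _)))
      rw [← map_mul pi, ← map_mul pi, io_mul, io_mul, pi_io_eq_iff] at h1
      rcases h1 with ⟨h3, -⟩ | ⟨-, h3⟩
      · exact h3
      · exfalso
        rw [one_mul, mul_one] at h3
        exact neg_ne_self h2 v h3.symm
    have hv' : ∀ w ∈ Q, w * v = v * w := by
      intro w hw
      have h1 := hc (pi (io (1, w))) (pi_mem_S0 Q (io_mem_St Q (one_mem _) hw))
      rw [← map_mul pi, ← map_mul pi, io_mul, io_mul, pi_io_eq_iff] at h1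
      rcases h1 with ⟨-, h3⟩ | ⟨h3, -⟩
      · exact h3
      · exfalso
        rw [one_mul, mul_one] at h3
        exact neg_ne_self h2 u h3.symm
    rcases h.center_Q h2 hu hu' with rfl | rfl <;> rcases h.center_Q h2 hv hv' with rfl | rfl
    · left
      have : io ((1 : L2 F), (1 : L2 F)) = 1 := map_one io
      rw [this, map_one]
    · right; exact pi_io_one_neg
    · right; rfl
    · left
      rw [← negOne_eq_io, pi_negOne]
  · exfalso
    have h1 := hc (pi (io (a, 1))) (pi_mem_S0 Q (io_mem_St Q h.ha (one_mem _)))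
    have h3 : io (u, v) * tau * io (a, 1) = io (u, v * a) * tau := by
      rw [mul_assoc, tau_mul_io, ← mul_assoc, io_mul, mul_one]
    have h4 : io (a, 1) * (io (u, v) * tau) = io (a * u, v) * tau := by
      rw [← mul_assoc, io_mul, one_mul]
    rw [← map_mul pi, ← map_mul pi, h3, h4, pi_io_tau_eq_iff] at h1
    rcases h1 with ⟨h5, -⟩ | ⟨h5, -⟩
    · apply h.a_ne_one h2
      have : a * u = 1 * u := by rw [h5, one_mul]
      exact mul_right_cancel this
    · apply h.a_ne_neg_one h2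
      have : a * u = -1 * u := by rw [h5, ← neg_eq_neg_one_mul]
      exact mul_right_cancel this

end QData


/-- the matrix conjugating `dd` to `tau` -/
def cm : Matrix (Fin 2 ⊕ Fin 2) (Fin 2 ⊕ Fin 2) F :=
  fromBlocks !![1, 1; -1, 1] 0 0 ((2 : F)⁻¹ • !![1, 1; -1, 1])

theorem cm_mem (h2 : (2 : F) ≠ 0) : (cm : Matrix _ _ F) ∈ symplecticGroup (Fin 2) F := by
  rw [SymplecticGroup.mem_iff]
  ext i j
  rcases i with i | i <;> rcases j with j | j <;> fin_cases i <;> fin_cases j <;>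
    simp [cm, Matrix.J, Matrix.mul_apply, Fin.sum_univ_two, Fintype.sum_sum_type] <;>
    field_simp <;> ring

/-- the element conjugating `dd` to `tau` -/
def cc (h2 : (2 : F) ≠ 0) : Sp4 F := ⟨cm, cm_mem h2⟩

theorem tau_mul_cc (h2 : (2 : F) ≠ 0) : tau * cc h2 = cc h2 * dd := by
  apply Subtype.ext
  show (tm : Matrix _ _ F) * cm = cm * (dd : Sp4 F).1
  rw [dd_coe]
  ext i j
  rcases i with i | i <;> rcases j with j | j <;> fin_cases i <;> fin_cases j <;>
    simp [cm, tm, bm, Matrix.mul_apply, Fin.sum_univ_two, Fintype.sum_sum_type]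

theorem cc_conj_dd (h2 : (2 : F) ≠ 0) : cc h2 * dd * (cc h2)⁻¹ = tau := by
  rw [← tau_mul_cc, mul_assoc, mul_inv_cancel, mul_one]

namespace QData

variable {Q : Subgroup (L2 F)} {a x : L2 F} {k : ℕ}

theorem isPGroup_S0 [Fintype F] (hodd : Fintype.card F % 2 = 1) (h : QData Q a x k)
    (hQ : Nat.card Q = 2 ^ (Nat.card (L2 F)).factorization 2) : IsPGroup 2 (S0 Q) := by
  haveI : Finite Q := Nat.finite_of_card_ne_zero (by rw [hQ]; positivity)
  apply IsPGroup.of_card (n := 2 * (Nat.card (L2 F)).factorization 2)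
  rw [card_S0 hodd Q h.neg_one_mem, hQ, ← pow_add, two_mul]

/-- **no proper nontrivial fusion-closed subgroups** -/
theorem eq_S0_of_fclosed [Fintype F] (hodd : Fintype.card F % 2 = 1) (h : QData Q a x k)
    (hQ : Nat.card Q = 2 ^ (Nat.card (L2 F)).factorization 2)
    (T : Subgroup (Cfsg.PSp 2 F)) (hTS : T ≤ S0 Q) (hT : T ≠ ⊥) (hcl : FClosed (S0 Q) T) :
    T = S0 Q := by
  have h2 : (2 : F) ≠ 0 := two_ne_zero_of_odd hodd
  haveI : Fact (Nat.Prime 2) := ⟨Nat.prime_two⟩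
  haveI : Finite (L2 F) := by
    unfold L2 Matrix.SpecialLinearGroup
    infer_instance
  haveI : Finite (Cfsg.PSp 2 F) := by
    unfold Cfsg.PSp
    infer_instance
  have hS0p : IsPGroup 2 (S0 Q) := h.isPGroup_S0 hodd hQ
  -- `T` is normal in `S0 Q`
  have hTn : ∀ s ∈ S0 Q, ∀ t ∈ T, s * t * s⁻¹ ∈ T := fun s hs t ht =>
    hcl t ht s ((S0 Q).mul_mem ((S0 Q).mul_mem hs (hTS ht)) ((S0 Q).inv_mem hs))
  haveI : (T.subgroupOf (S0 Q)).Normal := by
    constructor
    intro n hn g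
    rw [Subgroup.mem_subgroupOf] at hn ⊢
    simpa using hTn g g.2 n hn
  have hne : T.subgroupOf (S0 Q) ≠ ⊥ := by
    intro h0
    apply hT
    rw [Subgroup.eq_bot_iff_forall]
    intro y hy
    have : (⟨y, hTS hy⟩ : S0 Q) ∈ T.subgroupOf (S0 Q) := by
      rw [Subgroup.mem_subgroupOf]; exact hy
    rw [h0, Subgroup.mem_bot] at this
    exact congrArg Subtype.val this
  obtain ⟨y, hyT, hyc, hy1⟩ :=
    Cfsg.Agent.Lib.Helper10.exists_mem_center_of_normal_ne_bot 2 hS0p (T.subgroupOf (S0 Q)) hne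
  have hyz : (y : Cfsg.PSp 2 F) = zz := by
    rcases h.center_S0 h2 y.2 (fun s hs => by
      have := Subgroup.mem_center_iff.mp hyc ⟨s, hs⟩
      have h3 := congrArg Subtype.val this
      simpa using h3.symm) with h4 | h4
    · exfalso; apply hy1; exact Subtype.ext h4
    · exact h4
  have hzT : (zz : Cfsg.PSp 2 F) ∈ T := by
    rw [← hyz]; exact Subgroup.mem_subgroupOf.mp hyT
  -- `pi tau ∈ T`
  have htauT : pi (tau : Sp4 F) ∈ T := by
    have h3 := hcl zz hzT (pi (cc h2))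
    have h4 : pi (cc h2) * zz * (pi (cc h2))⁻¹ = pi (tau : Sp4 F) := by
      unfold zz
      rw [← map_inv, ← map_mul pi, ← map_mul pi, cc_conj_dd]
    rw [h4] at h3
    exact h3 (pi_mem_S0 Q (tau_mem_St Q))
  -- `pi (io (w, w⁻¹)) ∈ T`
  have hww : ∀ w ∈ Q, pi (io (w, w⁻¹)) ∈ T := by
    intro w hw
    have h3 := hcl _ htauT (pi (io (w, 1)))
    have h4 : pi (io (w, 1)) * pi (tau : Sp4 F) * (pi (io (w, 1)))⁻¹ = pi (io (w, w⁻¹) * tau) := by
      rw [← map_inv, ← map_mul pi, ← map_mul pi, io_inv, inv_one]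
      congr 1
      rw [mul_assoc, tau_mul_io, ← mul_assoc, io_mul, mul_one, one_mul]
    rw [h4] at h3
    have h5 := h3 (pi_mem_S0 Q ((io_tau_mem_St_iff Q _ _).mpr ⟨hw, Q.inv_mem hw⟩))
    have h6 : pi (io (w, w⁻¹)) = pi (io (w, w⁻¹) * tau) * (pi (tau : Sp4 F))⁻¹ := by
      rw [map_mul, mul_assoc, mul_inv_cancel, mul_one]
    rw [h6]
    exact T.mul_mem h5 (T.inv_mem htauT)
  -- `pi (io (w, w')) ∈ T` for elements of order four
  have hww' : ∀ w ∈ Q, ∀ w' ∈ Q, w * w = -1 → w' * w' = -1 → pi (io (w, w')) ∈ T := by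
    intro w hw w' hw' hw2 hw'2
    have hwi : w⁻¹ * w⁻¹ = -1 := by
      have : w⁻¹ * w⁻¹ = (w * w)⁻¹ := by group
      rw [this, hw2, inv_eq_iff_mul_eq_one, neg_one_mul_neg_one]
    obtain ⟨g, hg⟩ := exists_conj_of_sq hodd h2 w⁻¹ w' hwi hw'2
    have h3 := hcl _ (hww w hw) (pi (io (1, g)))
    have h4 : pi (io (1, g)) * pi (io (w, w⁻¹)) * (pi (io (1, g)))⁻¹ = pi (io (w, w')) := by
      rw [← map_inv, ← map_mul pi, ← map_mul pi, io_inv, io_mul, io_mul, hg]
      congr 3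
      group
    rw [h4] at h3
    exact h3 (pi_mem_S0 Q (io_mem_St Q hw hw'))
  -- `pi (io (1, w' * w''⁻¹)) ∈ T`
  have hquot : ∀ w' ∈ Q, ∀ w'' ∈ Q, w' * w' = -1 → w'' * w'' = -1 →
      pi (io (1, w' * w''⁻¹)) ∈ T := by
    intro w' hw' w'' hw'' h3 h4
    have h5 := T.mul_mem (hww' x h.hx w' hw' h.hxx h3) (T.inv_mem (hww' x h.hx w'' hw'' h.hxx h4))
    rw [← map_inv, ← map_mul pi, io_inv, io_mul, mul_inv_cancel] at h5
    exact h5
  -- the subgroup of `v` with `pi (io (1, v)) ∈ T`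
  let V : Subgroup (L2 F) := T.comap (pi.comp (io.comp (MonoidHom.inr (L2 F) (L2 F))))
  have hV : ∀ v, v ∈ V ↔ pi (io (1, v)) ∈ T := fun v => Iff.rfl
  have hxai : ∀ i : ℕ, x * a ^ i ∈ Q := fun i => Q.mul_mem h.hx (Q.pow_mem h.ha i)
  have haV : ∀ i : ℕ, a ^ i ∈ V := by
    intro i
    rw [hV]
    have h3 := hquot x h.hx (x * a ^ i) (hxai i) h.hxx (h.xa_sq i)
    have h4 : x * (x * a ^ i)⁻¹ = a ^ i := by
      have : x * (x * a ^ i)⁻¹ = (x * a ^ i * x⁻¹)⁻¹ := by group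
      rw [this, h.x_conj_pow, inv_inv]
    rw [h4] at h3
    exact h3
  have hxV : x ∈ V := by
    rw [hV]
    obtain ⟨j, hj⟩ : ∃ j, k = j + 1 := ⟨k - 1, by have := h.hk; omega⟩
    have hc4 : a ^ 2 ^ j * a ^ 2 ^ j = -1 := by
      rw [← pow_add, ← two_mul, ← pow_succ', ← hj, h.hak]
    have h3 := hquot (x * a ^ 2 ^ j) (hxai _) (a ^ 2 ^ j) (Q.pow_mem h.ha _) (h.xa_sq _) hc4
    rw [mul_assoc, mul_inv_cancel, mul_one] at h3
    exact h3
  have hQV : Q ≤ V := by
    intro g hg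
    rcases h.hall g hg with ⟨i, rfl⟩ | ⟨i, rfl⟩
    · exact haV i
    · exact V.mul_mem hxV (haV i)
  have hQ1 : ∀ g ∈ Q, pi (io (1, g)) ∈ T := fun g hg => (hV g).mp (hQV hg)
  have hQ2 : ∀ g ∈ Q, pi (io (g, 1)) ∈ T := by
    intro g hg
    have h3 := hcl _ (hQ1 g hg) (pi (tau : Sp4 F))
    have h4 : pi (tau : Sp4 F) * pi (io (1, g)) * (pi (tau : Sp4 F))⁻¹ = pi (io (g, 1)) := by
      rw [← map_inv, ← map_mul pi, ← map_mul pi, tau_conj_io]
    rw [h4] at h3
    exact h3 (pi_mem_S0 Q (io_mem_St Q hg (one_mem _)))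
  apply le_antisymm hTS
  rintro _ ⟨s, hs, rfl⟩
  obtain ⟨u, hu, v, hv, rfl | rfl⟩ := (mem_St_iff Q s).mp hs
  · have : io (u, v) = io (u, 1) * io (1, v) := by rw [io_mul, mul_one, one_mul]
    rw [this, map_mul]
    exact T.mul_mem (hQ2 u hu) (hQ1 v hv)
  · have : io (u, v) = io (u, 1) * io (1, v) := by rw [io_mul, mul_one, one_mul]
    rw [this, map_mul, map_mul]
    exact T.mul_mem (T.mul_mem (hQ2 u hu) (hQ1 v hv)) htauT

end QData

end Cfsg.Agent.Lib.Helper26.PSp4F
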