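import Mathlib
import Cfsg.Agent.Lib.Helper26.PSp4FE

/-!
helper26: `PSp_4(F)`, `|F|` odd: the normalizer of `S0 Q` is generated by `GenSet`, up to the
exceptional case `a * a = -1` (`Q` quaternion of order `8`).
-/

set_option autoImplicit false
set_option linter.unusedSectionVars false
set_option linter.style.haveILetI false

namespace Cfsg.Agent.Lib.Helper26.PSp4F

open Matrix Cfsg.Agent.Lib.Helper18.PSpAut Cfsg.Agent.Lib.Helper3.Fus
  Cfsg.Agent.Lib.Helper16.FusGen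

variable {F : Type*} [Field F]

theorem zz_central (Q : Subgroup (L2 F)) {s : Cfsg.PSp 2 F} (hs : s ∈ S0 Q) : zz * s = s * zz := by
  obtain ⟨s', hs', rfl⟩ := hs
  obtain ⟨u, -, v, -, rfl | rfl⟩ := (mem_St_iff Q s').mp hs'
  · exact zz_comm_io u v
  · rw [map_mul, ← mul_assoc, zz_comm_io, mul_assoc, zz_comm_tau, mul_assoc]

/-- elements of `S0 Q` lie in `GenSet` -/
theorem mem_genSet_of_mem_S0 (Q : Subgroup (L2 F)) (hS0p : IsPGroup 2 (S0 Q)) {g : Cfsg.PSp 2 F}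
    (hg : g ∈ S0 Q) : g ∈ GenSet 2 (S0 Q) := by
  have hgn : g ∈ Subgroup.normalizer (S0 Q : Set (Cfsg.PSp 2 F)) := Subgroup.le_normalizer hg
  refine ⟨hgn, S0 Q, le_rfl, Subgroup.le_normalizer, ?_, ?_⟩
  · intro y hy
    rw [Cfsg.Agent.Lib.Helper26.mem_centralizerIn_iff] at hy
    exact hy.1
  · apply Subgroup.subset_closure
    refine ⟨hgn, ?_⟩
    obtain ⟨k, hk⟩ := (IsPGroup.iff_orderOf.mp hS0p) ⟨g, hg⟩
    refine ⟨k, ?_⟩
    rw [← hk]
    exact (Subgroup.orderOf_mk g hg).symm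

namespace QData

variable {Q : Subgroup (L2 F)} {a x : L2 F} {k : ℕ}

/-- an element normalizing `S0 Q` centralizes `z` -/
theorem conj_zz_of_mem_normalizer (h : QData Q a x k) (h2 : (2 : F) ≠ 0) {g : Cfsg.PSp 2 F}
    (hg : g ∈ Subgroup.normalizer (S0 Q : Set (Cfsg.PSp 2 F))) : g * zz * g⁻¹ = zz := by
  have hz : (zz : Cfsg.PSp 2 F) ∈ S0 Q := zz_mem_S0 Q h.neg_one_mem
  have h1 : g * zz * g⁻¹ ∈ S0 Q := (Subgroup.mem_normalizer_iff.mp hg zz).mp hz
  have hginv : g⁻¹ ∈ Subgroup.normalizer (S0 Q : Set (Cfsg.PSp 2 F)) := Subgroup.inv_mem _ hg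
  rcases h.center_S0 h2 h1 (fun s hs => by
    have h3 : g⁻¹ * s * g⁻¹⁻¹ ∈ S0 Q := (Subgroup.mem_normalizer_iff.mp hginv s).mp hs
    have h4 := zz_central Q h3
    have h5 : s = g * (g⁻¹ * s * g⁻¹⁻¹) * g⁻¹ := by group
    calc g * zz * g⁻¹ * s = g * (zz * (g⁻¹ * s * g⁻¹⁻¹)) * g⁻¹ := by group
      _ = g * ((g⁻¹ * s * g⁻¹⁻¹) * zz) * g⁻¹ := by rw [h4]
      _ = s * (g * zz * g⁻¹) := by group) with h6 | h6
  · exfalso
    apply zz_ne_one h2
    have : (zz : Cfsg.PSp 2 F) = g⁻¹ * (g * zz * g⁻¹) * g := by group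
    rw [this, h6]
    group
  · exact h6

/-- a lift of an element normalizing `S0 Q` lies in `io(..)` or `io(..) * tau` -/
theorem exists_io_of_mem_normalizer (h : QData Q a x k) (h2 : (2 : F) ≠ 0) (s : Sp4 F)
    (hg : pi s ∈ Subgroup.normalizer (S0 Q : Set (Cfsg.PSp 2 F))) :
    ∃ u v : L2 F, s = io (u, v) ∨ s = io (u, v) * tau := by
  have h1 := h.conj_zz_of_mem_normalizer h2 hg
  unfold zz at h1
  rw [← map_inv, ← map_mul pi, ← map_mul pi, pi_eq_iff (by norm_num)] at h1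
  rcases h1 with h1 | h1
  · -- commuting
    have h3 : s * dd * s⁻¹ = dd := (Subtype.ext h1).symm
    have h4 : s * dd = dd * s := by
      calc s * dd = (s * dd * s⁻¹) * s := by group
        _ = dd * s := by rw [h3]
    have h5 : s.1 * bm (-1) 1 = bm (-1) 1 * s.1 := by
      have := congrArg Subtype.val h4
      rw [← dd_coe]
      exact this
    obtain ⟨u, v, huv⟩ := exists_io_of_comm h2 s h5
    exact ⟨u, v, Or.inl huv⟩
  · have h3 : dd = negOne * (s * dd * s⁻¹) := neg_eq_negOne_mul _ _ h1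
    have hnn : (negOne : Sp4 F) * negOne = 1 := by
      apply Subtype.ext
      show (-1 : Matrix (Fin 2 ⊕ Fin 2) (Fin 2 ⊕ Fin 2) F) * (-1) = 1
      simp
    have h6 : negOne * dd = s * dd * s⁻¹ := by
      calc negOne * dd = negOne * (negOne * (s * dd * s⁻¹)) := by rw [← h3]
        _ = (negOne * negOne) * (s * dd * s⁻¹) := (mul_assoc _ _ _).symm
        _ = s * dd * s⁻¹ := by rw [hnn, one_mul]
    have h4 : s * dd = negOne * (dd * s) := by
      calc s * dd = (s * dd * s⁻¹) * s := by group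
        _ = negOne * dd * s := by rw [h6]
        _ = negOne * (dd * s) := mul_assoc _ _ _
    have h5 : s.1 * bm (-1) 1 = -(bm (-1) 1 * s.1) := by
      have h7 : s.1 * (dd : Sp4 F).1 = (-1 : Matrix (Fin 2 ⊕ Fin 2) (Fin 2 ⊕ Fin 2) F) *
          ((dd : Sp4 F).1 * s.1) := congrArg Subtype.val h4
      rw [dd_coe, Matrix.neg_mul, Matrix.one_mul] at h7
      exact h7
    obtain ⟨u, v, huv⟩ := exists_io_of_anticomm h2 s h5
    exact ⟨u, v, Or.inr huv⟩

/-- if `pi (io (u, v))` normalizes `S0 Q` then `v` normalizes `Q` and `u * v⁻¹ ∈ Q` -/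
theorem normalizer_data (h : QData Q a x k) (u v : L2 F)
    (hg : pi (io (u, v)) ∈ Subgroup.normalizer (S0 Q : Set (Cfsg.PSp 2 F))) :
    v ∈ Subgroup.normalizer (Q : Set (L2 F)) ∧ u * v⁻¹ ∈ Q := by
  have hm := h.neg_one_mem
  constructor
  · rw [Subgroup.mem_normalizer_iff]
    intro w
    have h1 := Subgroup.mem_normalizer_iff.mp hg (pi (io (1, w)))
    have h3 : pi (io (u, v)) * pi (io (1, w)) * (pi (io (u, v)))⁻¹ = pi (io (1, v * w * v⁻¹)) := by
      rw [← map_inv, ← map_mul pi, ← map_mul pi, io_inv, io_mul, io_mul, mul_one, mul_inv_cancel]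
    rw [h3, pi_mem_S0_iff Q hm, pi_mem_S0_iff Q hm, io_mem_St_iff, io_mem_St_iff] at h1
    constructor
    · intro hw
      exact (h1.mp ⟨one_mem _, hw⟩).2
    · intro hw
      exact (h1.mpr ⟨one_mem _, hw⟩).2
  · have h1 := (Subgroup.mem_normalizer_iff.mp hg (pi tau)).mp (pi_mem_S0 Q (tau_mem_St Q))
    have h3 : pi (io (u, v)) * pi (tau : Sp4 F) * (pi (io (u, v)))⁻¹ =
        pi (io (u * v⁻¹, v * u⁻¹) * tau) := by
      rw [← map_inv, ← map_mul pi, ← map_mul pi, io_inv]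
      congr 1
      rw [mul_assoc, tau_mul_io, ← mul_assoc, io_mul]
    rw [h3, pi_mem_S0_iff Q hm, io_tau_mem_St_iff] at h1
    exact h1.1

/-- **the normalizer of `S0 Q` is generated by `GenSet`**, given the exceptional case -/
theorem mem_closure_genSet [Fintype F] (hodd : Fintype.card F % 2 = 1) (h : QData Q a x k)
    (hQ : Nat.card Q = 2 ^ (Nat.card (L2 F)).factorization 2)
    (hex : a * a = -1 → ∀ v ∈ Subgroup.normalizer (Q : Set (L2 F)),
      pi (io (v, v)) ∈ Subgroup.closure (GenSet 2 (S0 Q)))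
    {g : Cfsg.PSp 2 F} (hg : g ∈ Subgroup.normalizer (S0 Q : Set (Cfsg.PSp 2 F))) :
    g ∈ Subgroup.closure (GenSet 2 (S0 Q)) := by
  have h2 : (2 : F) ≠ 0 := two_ne_zero_of_odd hodd
  have hS0p : IsPGroup 2 (S0 Q) := h.isPGroup_S0 hodd hQ
  have hS0 : ∀ s ∈ S0 Q, s ∈ Subgroup.closure (GenSet 2 (S0 Q)) := fun s hs =>
    Subgroup.subset_closure (mem_genSet_of_mem_S0 Q hS0p hs)
  -- the case `g = pi (io (u, v))`
  have key : ∀ u v : L2 F, pi (io (u, v)) ∈ Subgroup.normalizer (S0 Q : Set (Cfsg.PSp 2 F)) →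
      pi (io (u, v)) ∈ Subgroup.closure (GenSet 2 (S0 Q)) := by
    intro u v huv
    obtain ⟨hv, huvQ⟩ := h.normalizer_data u v huv
    have h3 : io (u, v) = io (u * v⁻¹, 1) * io (v, v) := by
      rw [io_mul, one_mul, inv_mul_cancel_right]
    rw [h3, map_mul]
    apply Subgroup.mul_mem _ (hS0 _ (pi_mem_S0 Q (io_mem_St Q huvQ (one_mem _))))
    -- `pi (io (v, v))`
    have hvav : v * a * v⁻¹ ∈ Q := (Subgroup.mem_normalizer_iff.mp hv a).mp h.ha
    rcases h.hall _ hvav with ⟨i, hi⟩ | ⟨i, hi⟩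
    · have hvQ : v ∈ Q := mem_of_normalizer_of_conj_pow h2 h hQ v hv i hi
      exact hS0 _ (pi_mem_S0 Q (io_mem_St Q hvQ hvQ))
    · apply hex _ v hv
      have h4 := h.xa_sq i
      rw [← hi] at h4
      have h5 : v * a * v⁻¹ * (v * a * v⁻¹) = v * (a * a) * v⁻¹ := by group
      rw [h5] at h4
      calc a * a = v⁻¹ * (v * (a * a) * v⁻¹) * v := by group
        _ = v⁻¹ * (-1) * v := by rw [h4]
        _ = v⁻¹ * (v * -1) := by rw [mul_assoc, neg_one_comm]
        _ = -1 := by group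
  obtain ⟨s, rfl⟩ := pi_surjective g
  obtain ⟨u, v, rfl | rfl⟩ := h.exists_io_of_mem_normalizer h2 s hg
  · exact key u v hg
  · rw [map_mul]
    have htau : pi (tau : Sp4 F) ∈ S0 Q := pi_mem_S0 Q (tau_mem_St Q)
    apply Subgroup.mul_mem _ _ (hS0 _ htau)
    apply key
    have : pi (io (u, v)) = pi (io (u, v) * tau) * (pi (tau : Sp4 F))⁻¹ := by
      rw [map_mul, mul_assoc, mul_inv_cancel, mul_one]
    rw [this]
    exact Subgroup.mul_mem _ hg (Subgroup.inv_mem _ (Subgroup.le_normalizer htau))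

end QData

end Cfsg.Agent.Lib.Helper26.PSp4F
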