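import Mathlib
import Cfsg.Agent.Lib.Helper26.PSp4FF

/-!
helper26: the quaternion case `a * a = -1`: ring identities for `1 + e` with `e * e = -1`, the
element `hh = (1 + a)(1 + x)/2` of `SL_2(F)` normalizing `Q`, and the normalizer of `Q`.
-/

set_option autoImplicit false
set_option linter.unusedSectionVars false
set_option linter.style.haveILetI false

namespace Cfsg.Agent.Lib.Helper26.PSp4F

open Matrix

section ring

variable {R : Type*} [Ring R]

theorem one_add_mul_of_anticomm {e f : R} (he : e * e = -1) (hfe : f * e = -(e * f)) :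
    (1 + e) * f = (e * f) * (1 + e) := by
  rw [add_mul, mul_add, one_mul, mul_one, mul_assoc, hfe, mul_neg, ← mul_assoc, he]
  simp
  abel

theorem one_add_mul_of_comm {e f : R} (hfe : f * e = e * f) : (1 + e) * f = f * (1 + e) := by
  rw [add_mul, mul_add, one_mul, mul_one, hfe]

theorem one_add_mul_one_sub {e : R} (he : e * e = -1) : (1 + e) * (1 - e) = 2 := by
  have h1 : (1 + e) * (1 - e) = 1 - e * e := by noncomm_ring
  rw [h1, he]
  norm_num

theorem one_add_mul_self {e : R} (he : e * e = -1) : (1 + e) * (1 + e) = 2 * e := by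
  have h1 : (1 + e) * (1 + e) = 1 + 2 * e + e * e := by noncomm_ring
  rw [h1, he]
  abel

end ring

variable {F : Type*} [Field F]

/-- conjugation into a finite subgroup gives membership in the normalizer -/
theorem mem_normalizer_of_conj_mem {G : Type*} [Group G] (H : Subgroup G) [Finite H] (g : G)
    (hg : ∀ h ∈ H, g * h * g⁻¹ ∈ H) : g ∈ Subgroup.normalizer (H : Set G) := by
  rw [Subgroup.mem_normalizer_iff]
  intro n
  refine ⟨hg n, ?_⟩
  intro hn
  let φ : H → H := fun h => ⟨g * h * g⁻¹, hg h h.2⟩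
  have hinj : Function.Injective φ := by
    intro h1 h2 h12
    have := congrArg Subtype.val h12
    simp only [φ] at this
    apply Subtype.ext
    have h3 : (h1 : G) = g⁻¹ * (g * h1 * g⁻¹) * g := by group
    rw [h3, this]
    group
  obtain ⟨h0, h1⟩ := (Finite.injective_iff_surjective.mp hinj) ⟨g * n * g⁻¹, hn⟩
  have h3 : g * (h0 : G) * g⁻¹ = g * n * g⁻¹ := congrArg Subtype.val h1
  have : n = h0 := by
    have h4 : n = g⁻¹ * (g * n * g⁻¹) * g := by group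
    rw [h4, ← h3]
    group
  rw [this]
  exact h0.2

namespace QData

variable {Q : Subgroup (L2 F)} {a x : L2 F} {k : ℕ}

theorem a_inv (ha2 : a * a = -1) : a⁻¹ = -a := by
  rw [inv_eq_iff_mul_eq_one, neg_eq_neg_one_mul, ← mul_assoc, ← neg_one_comm, mul_assoc, ha2,
    neg_one_mul_neg_one]

theorem x_mul_a (h : QData Q a x k) (ha2 : a * a = -1) : x * a = -(a * x) := by
  have h1 : x * a = a⁻¹ * x := by rw [← h.hxa]; group
  rw [h1, a_inv ha2, neg_eq_neg_one_mul a, neg_eq_neg_one_mul (a * x), mul_assoc]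

theorem mat_relations (h : QData Q a x k) (ha2 : a * a = -1) :
    a.1 * a.1 = -1 ∧ x.1 * x.1 = -1 ∧ x.1 * a.1 = -(a.1 * x.1) := by
  refine ⟨?_, ?_, ?_⟩
  · rw [← Matrix.SpecialLinearGroup.coe_mul, ha2]; simp
  · rw [← Matrix.SpecialLinearGroup.coe_mul, h.hxx]; simp
  · rw [← Matrix.SpecialLinearGroup.coe_mul, h.x_mul_a ha2]; simp

end QData

/-- `det (1 + w) = 2` for `w ∈ SL_2` with `w * w = -1` -/
theorem det_one_add (w : L2 F) (hw : w * w = -1) : (1 + w.1).det = 2 := by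
  obtain ⟨hs, -⟩ := entries_of_sq w hw
  have hdet := w.2
  rw [Matrix.det_fin_two] at hdet ⊢
  simp only [Matrix.add_apply, Matrix.one_apply_eq, ne_eq, zero_ne_one, not_false_eq_true,
    Matrix.one_apply_ne, one_ne_zero, zero_add]
  rw [hs] at hdet ⊢
  try linear_combination hdet

/-- the matrix `(1 + a)(1 + x)/2` -/
def hmat (a x : L2 F) : Matrix (Fin 2) (Fin 2) F := (2 : F)⁻¹ • ((1 + a.1) * (1 + x.1))

theorem det_hmat (h2 : (2 : F) ≠ 0) (a x : L2 F) (ha2 : a * a = -1) (hx2 : x * x = -1) :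
    (hmat a x).det = 1 := by
  unfold hmat
  rw [Matrix.det_smul, Matrix.det_mul, det_one_add a ha2, det_one_add x hx2]
  simp
  field_simp

/-- the element `(1 + a)(1 + x)/2` of `SL_2` -/
def hh (h2 : (2 : F) ≠ 0) (a x : L2 F) (ha2 : a * a = -1) (hx2 : x * x = -1) : L2 F :=
  ⟨hmat a x, det_hmat h2 a x ha2 hx2⟩

theorem hmat_mul_a {a x : L2 F} (hA : a.1 * a.1 = -1) (hX : x.1 * x.1 = -1)
    (hXA : x.1 * a.1 = -(a.1 * x.1)) : hmat a x * a.1 = x.1 * hmat a x := by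
  unfold hmat
  rw [Matrix.smul_mul, Matrix.mul_smul]
  congr 1
  -- (1+A)(1+X) A = X (1+A)(1+X)
  have hAX : a.1 * x.1 = -(x.1 * a.1) := by rw [hXA, neg_neg]
  have h1 : (1 + x.1) * a.1 = (x.1 * a.1) * (1 + x.1) := one_add_mul_of_anticomm hX hAX
  have h3 : (1 + a.1) * x.1 = (a.1 * x.1) * (1 + a.1) := one_add_mul_of_anticomm hA hXA
  have h4 : (1 + a.1) * a.1 = a.1 * (1 + a.1) := one_add_mul_of_comm rfl
  calc (1 + a.1) * (1 + x.1) * a.1 = (1 + a.1) * ((1 + x.1) * a.1) := by rw [Matrix.mul_assoc]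
    _ = (1 + a.1) * ((x.1 * a.1) * (1 + x.1)) := by rw [h1]
    _ = -(((1 + a.1) * a.1) * x.1 * (1 + x.1)) := by
        rw [hXA]; simp only [Matrix.mul_neg, Matrix.neg_mul, Matrix.mul_assoc]
    _ = -(a.1 * ((1 + a.1) * x.1) * (1 + x.1)) := by rw [h4]; simp only [Matrix.mul_assoc]
    _ = -(a.1 * ((a.1 * x.1) * (1 + a.1)) * (1 + x.1)) := by rw [h3]
    _ = -((a.1 * a.1) * x.1 * (1 + a.1) * (1 + x.1)) := by simp only [Matrix.mul_assoc]
    _ = x.1 * ((1 + a.1) * (1 + x.1)) := by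
        rw [hA]; simp only [Matrix.neg_mul, Matrix.one_mul, neg_neg, Matrix.mul_assoc]

theorem hmat_mul_x {a x : L2 F} (hA : a.1 * a.1 = -1) (_hX : x.1 * x.1 = -1)
    (hXA : x.1 * a.1 = -(a.1 * x.1)) : hmat a x * x.1 = (a.1 * x.1) * hmat a x := by
  unfold hmat
  rw [Matrix.smul_mul, Matrix.mul_smul]
  congr 1
  have h3 : (1 + a.1) * x.1 = (a.1 * x.1) * (1 + a.1) := one_add_mul_of_anticomm hA hXA
  have h4 : (1 + x.1) * x.1 = x.1 * (1 + x.1) := one_add_mul_of_comm rfl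
  calc (1 + a.1) * (1 + x.1) * x.1 = (1 + a.1) * ((1 + x.1) * x.1) := by rw [Matrix.mul_assoc]
    _ = ((1 + a.1) * x.1) * (1 + x.1) := by rw [h4, Matrix.mul_assoc]
    _ = a.1 * x.1 * ((1 + a.1) * (1 + x.1)) := by rw [h3]; simp only [Matrix.mul_assoc]


/-! ### group level -/

theorem hh_mul_a (h2 : (2 : F) ≠ 0) {Q : Subgroup (L2 F)} {a x : L2 F} {k : ℕ}
    (h : QData Q a x k) (ha2 : a * a = -1) :
    hh h2 a x ha2 h.hxx * a = x * hh h2 a x ha2 h.hxx := by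
  obtain ⟨hA, hX, hXA⟩ := h.mat_relations ha2
  apply Subtype.ext
  exact hmat_mul_a hA hX hXA

theorem hh_mul_x (h2 : (2 : F) ≠ 0) {Q : Subgroup (L2 F)} {a x : L2 F} {k : ℕ}
    (h : QData Q a x k) (ha2 : a * a = -1) :
    hh h2 a x ha2 h.hxx * x = (a * x) * hh h2 a x ha2 h.hxx := by
  obtain ⟨hA, hX, hXA⟩ := h.mat_relations ha2
  apply Subtype.ext
  exact hmat_mul_x hA hX hXA

theorem hh_conj_a (h2 : (2 : F) ≠ 0) {Q : Subgroup (L2 F)} {a x : L2 F} {k : ℕ}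
    (h : QData Q a x k) (ha2 : a * a = -1) :
    hh h2 a x ha2 h.hxx * a * (hh h2 a x ha2 h.hxx)⁻¹ = x := by
  rw [hh_mul_a h2 h ha2, mul_assoc, mul_inv_cancel, mul_one]

theorem hh_conj_x (h2 : (2 : F) ≠ 0) {Q : Subgroup (L2 F)} {a x : L2 F} {k : ℕ}
    (h : QData Q a x k) (ha2 : a * a = -1) :
    hh h2 a x ha2 h.hxx * x * (hh h2 a x ha2 h.hxx)⁻¹ = a * x := by
  rw [hh_mul_x h2 h ha2, mul_assoc, mul_inv_cancel, mul_one]

theorem conj_neg (c w : L2 F) : c * (-w) * c⁻¹ = -(c * w * c⁻¹) := by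
  rw [neg_eq_neg_one_mul w, neg_eq_neg_one_mul (c * w * c⁻¹), ← mul_assoc, ← neg_one_comm,
    mul_assoc, mul_assoc, mul_assoc]

theorem hh_conj_ax (h2 : (2 : F) ≠ 0) {Q : Subgroup (L2 F)} {a x : L2 F} {k : ℕ}
    (h : QData Q a x k) (ha2 : a * a = -1) :
    hh h2 a x ha2 h.hxx * (a * x) * (hh h2 a x ha2 h.hxx)⁻¹ = a := by
  have h1 : hh h2 a x ha2 h.hxx * (a * x) * (hh h2 a x ha2 h.hxx)⁻¹ =
      (hh h2 a x ha2 h.hxx * a * (hh h2 a x ha2 h.hxx)⁻¹) *
        (hh h2 a x ha2 h.hxx * x * (hh h2 a x ha2 h.hxx)⁻¹) := by group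
  rw [h1, hh_conj_a h2 h ha2, hh_conj_x h2 h ha2, ← mul_assoc, h.x_mul_a ha2,
    neg_eq_neg_one_mul (a * x), mul_assoc, mul_assoc, h.hxx, ← mul_assoc, neg_one_comm, mul_assoc,
    neg_one_mul_neg_one, mul_one]

namespace QData

variable {Q : Subgroup (L2 F)} {a x : L2 F} {k : ℕ}

theorem neg_mem (h : QData Q a x k) {w : L2 F} (hw : w ∈ Q) : -w ∈ Q := by
  rw [neg_eq_neg_one_mul]
  exact Q.mul_mem h.neg_one_mem hw

theorem a_pow_cases (ha2 : a * a = -1) (i : ℕ) :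
    a ^ i = 1 ∨ a ^ i = -1 ∨ a ^ i = a ∨ a ^ i = -a := by
  induction i with
  | zero => left; simp
  | succ i ih =>
    rw [pow_succ]
    rcases ih with ih | ih | ih | ih <;> rw [ih]
    · right; right; left; rw [one_mul]
    · right; right; right; rw [← neg_eq_neg_one_mul]
    · right; left; exact ha2
    · left; rw [neg_eq_neg_one_mul a, mul_assoc, ha2, neg_one_mul_neg_one]

end QData

theorem hh_mem_normalizer (h2 : (2 : F) ≠ 0) {Q : Subgroup (L2 F)} [Finite Q] {a x : L2 F} {k : ℕ}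
    (h : QData Q a x k) (ha2 : a * a = -1) :
    hh h2 a x ha2 h.hxx ∈ Subgroup.normalizer (Q : Set (L2 F)) := by
  apply mem_normalizer_of_conj_mem
  intro w hw
  have hpow : ∀ i : ℕ, hh h2 a x ha2 h.hxx * a ^ i * (hh h2 a x ha2 h.hxx)⁻¹ = x ^ i := by
    intro i
    rw [← conj_pow, hh_conj_a h2 h ha2]
  rcases h.hall w hw with ⟨i, rfl⟩ | ⟨i, rfl⟩
  · rw [hpow]
    exact Q.pow_mem h.hx i
  · have h1 : hh h2 a x ha2 h.hxx * (x * a ^ i) * (hh h2 a x ha2 h.hxx)⁻¹ =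
        (hh h2 a x ha2 h.hxx * x * (hh h2 a x ha2 h.hxx)⁻¹) *
          (hh h2 a x ha2 h.hxx * a ^ i * (hh h2 a x ha2 h.hxx)⁻¹) := by group
    rw [h1, hpow, hh_conj_x h2 h ha2]
    exact Q.mul_mem (Q.mul_mem h.ha h.hx) (Q.pow_mem h.hx i)

/-- **normalizer of the quaternion group of order `8`**: `N(Q) = ⟨hh⟩ Q` -/
theorem exists_pow_mul_of_mem_normalizer [Fintype F] (h2 : (2 : F) ≠ 0) {Q : Subgroup (L2 F)}
    {a x : L2 F} {k : ℕ} (h : QData Q a x k)
    (hQ : Nat.card Q = 2 ^ (Nat.card (L2 F)).factorization 2) (ha2 : a * a = -1)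
    (v : L2 F) (hv : v ∈ Subgroup.normalizer (Q : Set (L2 F))) :
    ∃ (j : ℕ) (y : L2 F), y ∈ Q ∧ hh h2 a x ha2 h.hxx ^ j * v = y := by
  haveI : Finite Q := Nat.finite_of_card_ne_zero (by rw [hQ]; positivity)
  obtain ⟨c, hc⟩ : ∃ c, c = hh h2 a x ha2 h.hxx := ⟨_, rfl⟩
  have hcN : c ∈ Subgroup.normalizer (Q : Set (L2 F)) := by
    rw [hc]; exact hh_mem_normalizer h2 h ha2
  have hca : c * a * c⁻¹ = x := by rw [hc]; exact hh_conj_a h2 h ha2
  have hcx : c * x * c⁻¹ = a * x := by rw [hc]; exact hh_conj_x h2 h ha2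
  have hcax : c * (a * x) * c⁻¹ = a := by rw [hc]; exact hh_conj_ax h2 h ha2
  rw [← hc]
  have hb : v * a * v⁻¹ ∈ Q := (Subgroup.mem_normalizer_iff.mp hv a).mp h.ha
  have ha3 : a ^ 3 = -a := by
    rw [pow_succ, pow_two, ha2, ← neg_eq_neg_one_mul]
  have hxa' : x * a = -(a * x) := h.x_mul_a ha2
  have key : ∀ (y : L2 F), y ∈ Subgroup.normalizer (Q : Set (L2 F)) →
      (y * a * y⁻¹ = a ∨ y * a * y⁻¹ = -a) → y ∈ Q := by
    intro y hy hya
    rcases hya with hya | hya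
    · exact mem_of_normalizer_of_conj_pow h2 h hQ y hy 1 (by rw [pow_one]; exact hya)
    · exact mem_of_normalizer_of_conj_pow h2 h hQ y hy 3 (by rw [ha3]; exact hya)
  have hconj2 : ∀ (g w : L2 F), (g * v) * a * (g * v)⁻¹ = g * (v * a * v⁻¹) * g⁻¹ := by
    intro g w; group
  rcases h.hall _ hb with ⟨i, hi⟩ | ⟨i, hi⟩
  · exact ⟨0, v, mem_of_normalizer_of_conj_pow h2 h hQ v hv i hi, by simp⟩
  · -- `v a v⁻¹ = x a^i`
    rcases QData.a_pow_cases ha2 i with hi' | hi' | hi' | hi' <;> rw [hi'] at hi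
    · -- `= x`
      refine ⟨2, _, ?_, rfl⟩
      apply key _ (Subgroup.mul_mem _ (Subgroup.pow_mem _ hcN 2) hv)
      left
      rw [hconj2 _ 1, hi, mul_one, pow_two]
      have : c * c * x * (c * c)⁻¹ = c * (c * x * c⁻¹) * c⁻¹ := by group
      rw [this, hcx, hcax]
    · -- `= -x`
      refine ⟨2, _, ?_, rfl⟩
      apply key _ (Subgroup.mul_mem _ (Subgroup.pow_mem _ hcN 2) hv)
      right
      have hx' : x * -1 = -x := by rw [← neg_one_comm, ← neg_eq_neg_one_mul]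
      rw [hconj2 _ 1, hi, hx', conj_neg, pow_two]
      have : c * c * x * (c * c)⁻¹ = c * (c * x * c⁻¹) * c⁻¹ := by group
      rw [this, hcx, hcax]
    · -- `= x a = -(a x)`
      refine ⟨1, _, ?_, rfl⟩
      apply key _ (Subgroup.mul_mem _ (Subgroup.pow_mem _ hcN 1) hv)
      right
      rw [hconj2 _ 1, hi, pow_one, hxa', conj_neg, hcax]
    · -- `= x (-a) = a x`
      refine ⟨1, _, ?_, rfl⟩
      apply key _ (Subgroup.mul_mem _ (Subgroup.pow_mem _ hcN 1) hv)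
      left
      have hx' : x * -a = a * x := by
        rw [neg_eq_neg_one_mul a, ← mul_assoc, ← neg_one_comm, mul_assoc, hxa',
          neg_eq_neg_one_mul (a * x), ← mul_assoc, neg_one_mul_neg_one, one_mul]
      rw [hconj2 _ 1, hi, pow_one, hx', hcax]

end Cfsg.Agent.Lib.Helper26.PSp4F
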