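import Mathlib
import Cfsg.Agent.Lib.Helper26.PSp4FG

/-!
helper26: Clifford-type relations between `e = (a, a)`, `f = (x, x)`, `D = (-1, 1)` and the swap
`T`; the two elements `u1 = (1 + e)(1 + DT)/2`, `u2 = (1 + TD)(1 + f)/2` of `Sp_4(F)`, whose squares
lie in `St Q`, which normalize the extraspecial group generated by `e, f, D, T` and whose product is
`(hh, hh)`.
-/

set_option autoImplicit false
set_option linter.unusedSectionVars false
set_option linter.style.haveILetI false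

namespace Cfsg.Agent.Lib.Helper26.PSp4F

section cliff

variable {R : Type*} [Ring R]

/-- the relations between `e = (a, a)`, `f = (x, x)`, `D = (-1, 1)` and the swap `T` -/
structure Cliff (e f D T : R) : Prop where
  he : e * e = -1
  hf : f * f = -1
  hfe : f * e = -(e * f)
  hD : D * D = 1
  hT : T * T = 1
  hTD : T * D = -(D * T)
  hDe : D * e = e * D
  hDf : D * f = f * D
  hTe : T * e = e * T
  hTf : T * f = f * T

theorem hp_mul_aux {s t r r' r'' : R} (h1 : (1 + t) * r = r' * (1 + t))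
    (h2 : (1 + s) * r' = r'' * (1 + s)) :
    (1 + s) * (1 + t) * r = r'' * ((1 + s) * (1 + t)) := by
  rw [mul_assoc, h1, ← mul_assoc, h2, mul_assoc]

namespace Cliff

variable {e f D T : R}

theorem symm (h : Cliff e f D T) : Cliff e f T D where
  he := h.he
  hf := h.hf
  hfe := h.hfe
  hD := h.hT
  hT := h.hD
  hTD := by rw [h.hTD, neg_neg]
  hDe := h.hTe
  hDf := h.hTf
  hTe := h.hDe
  hTf := h.hDf

theorem g_sq (h : Cliff e f D T) : (D * T) * (D * T) = -1 := by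
  linear_combination (norm := noncomm_ring) D * h.hTD * T - h.hD * T * T - h.hT

theorem e_g (h : Cliff e f D T) : e * (D * T) = (D * T) * e := by
  linear_combination (norm := noncomm_ring) -(h.hDe * T) - D * h.hTe

theorem f_g (h : Cliff e f D T) : f * (D * T) = (D * T) * f := by
  linear_combination (norm := noncomm_ring) -(h.hDf * T) - D * h.hTf

theorem g_D (h : Cliff e f D T) : (D * T) * D = -T := by
  linear_combination (norm := noncomm_ring) D * h.hTD - h.hD * T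

theorem D_g (h : Cliff e f D T) : D * (D * T) = -((D * T) * D) := by
  rw [h.g_D, neg_neg, ← mul_assoc, h.hD, one_mul]

theorem g_T (h : Cliff e f D T) : (D * T) * T = D := by
  rw [mul_assoc, h.hT, mul_one]

theorem T_g (h : Cliff e f D T) : T * (D * T) = -((D * T) * T) := by
  rw [h.g_T, ← mul_assoc, h.hTD, neg_mul, mul_assoc, h.hT, mul_one]

/-! the element `P1 = (1 + e)(1 + DT)` -/

theorem p1_e (h : Cliff e f D T) :
    (1 + e) * (1 + D * T) * e = e * ((1 + e) * (1 + D * T)) :=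
  hp_mul_aux (one_add_mul_of_comm h.e_g) (one_add_mul_of_comm rfl)

theorem p1_f (h : Cliff e f D T) :
    (1 + e) * (1 + D * T) * f = (e * f) * ((1 + e) * (1 + D * T)) :=
  hp_mul_aux (one_add_mul_of_comm h.f_g) (one_add_mul_of_anticomm h.he h.hfe)

theorem p1_D (h : Cliff e f D T) :
    (1 + e) * (1 + D * T) * D = (-T) * ((1 + e) * (1 + D * T)) := by
  have h1 : (1 + D * T) * D = (-T) * (1 + D * T) := by
    rw [one_add_mul_of_anticomm h.g_sq h.D_g, h.g_D]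
  have h2 : (1 + e) * (-T) = (-T) * (1 + e) := by
    apply one_add_mul_of_comm
    rw [neg_mul, mul_neg, h.hTe]
  exact hp_mul_aux h1 h2

theorem p1_T (h : Cliff e f D T) :
    (1 + e) * (1 + D * T) * T = D * ((1 + e) * (1 + D * T)) := by
  have h1 : (1 + D * T) * T = D * (1 + D * T) := by
    rw [one_add_mul_of_anticomm h.g_sq h.T_g, h.g_T]
  exact hp_mul_aux h1 (one_add_mul_of_comm h.hDe)

/-! the element `P2 = (1 + TD)(1 + f)` -/

theorem p2_e (h : Cliff e f D T) :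
    (1 + T * D) * (1 + f) * e = (f * e) * ((1 + T * D) * (1 + f)) := by
  have hef : e * f = -(f * e) := by rw [h.hfe, neg_neg]
  have h1 : (1 + f) * e = (f * e) * (1 + f) := one_add_mul_of_anticomm h.hf hef
  have h2 : (1 + T * D) * (f * e) = (f * e) * (1 + T * D) := by
    apply one_add_mul_of_comm
    rw [mul_assoc, h.symm.e_g, ← mul_assoc, h.symm.f_g, mul_assoc]
  exact hp_mul_aux h1 h2

theorem p2_f (h : Cliff e f D T) :
    (1 + T * D) * (1 + f) * f = f * ((1 + T * D) * (1 + f)) :=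
  hp_mul_aux (one_add_mul_of_comm rfl) (one_add_mul_of_comm h.symm.f_g)

theorem p2_D (h : Cliff e f D T) :
    (1 + T * D) * (1 + f) * D = T * ((1 + T * D) * (1 + f)) := by
  have h2 : (1 + T * D) * D = T * (1 + T * D) := by
    rw [one_add_mul_of_anticomm h.symm.g_sq h.symm.T_g, h.symm.g_T]
  exact hp_mul_aux (one_add_mul_of_comm h.hDf) h2

theorem p2_T (h : Cliff e f D T) :
    (1 + T * D) * (1 + f) * T = (-D) * ((1 + T * D) * (1 + f)) := by
  have h2 : (1 + T * D) * T = (-D) * (1 + T * D) := by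
    rw [one_add_mul_of_anticomm h.symm.g_sq h.symm.D_g, h.symm.g_D]
  exact hp_mul_aux (one_add_mul_of_comm h.hTf) h2

theorem p1_mul_p2 (h : Cliff e f D T) :
    (1 + e) * (1 + D * T) * ((1 + T * D) * (1 + f)) = 2 * ((1 + e) * (1 + f)) := by
  have h1' : (1 + D * T) * (1 + T * D) = 1 + 1 := by
    linear_combination (norm := noncomm_ring) h.hTD + D * h.hT * D + h.hD
  have h1 : (1 + D * T) * (1 + T * D) = 2 := h1'.trans one_add_one_eq_two
  calc (1 + e) * (1 + D * T) * ((1 + T * D) * (1 + f))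
      = (1 + e) * ((1 + D * T) * (1 + T * D)) * (1 + f) := by simp only [mul_assoc]
    _ = 2 * ((1 + e) * (1 + f)) := by rw [h1]; noncomm_ring

theorem p1_sq (h : Cliff e f D T) :
    (1 + e) * (1 + D * T) * ((1 + e) * (1 + D * T)) = (2 * e) * (2 * (D * T)) := by
  have h1 : (1 + D * T) * (1 + e) = (1 + e) * (1 + D * T) := by
    linear_combination (norm := noncomm_ring) -h.e_g
  calc (1 + e) * (1 + D * T) * ((1 + e) * (1 + D * T))
      = (1 + e) * ((1 + D * T) * (1 + e)) * (1 + D * T) := by simp only [mul_assoc]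
    _ = ((1 + e) * (1 + e)) * ((1 + D * T) * (1 + D * T)) := by rw [h1]; simp only [mul_assoc]
    _ = (2 * e) * (2 * (D * T)) := by rw [one_add_mul_self h.he, one_add_mul_self h.g_sq]

theorem p2_sq (h : Cliff e f D T) :
    (1 + T * D) * (1 + f) * ((1 + T * D) * (1 + f)) = (2 * (T * D)) * (2 * f) := by
  have h1 : (1 + f) * (1 + T * D) = (1 + T * D) * (1 + f) := by
    linear_combination (norm := noncomm_ring) h.symm.f_g
  calc (1 + T * D) * (1 + f) * ((1 + T * D) * (1 + f))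
      = (1 + T * D) * ((1 + f) * (1 + T * D)) * (1 + f) := by simp only [mul_assoc]
    _ = ((1 + T * D) * (1 + T * D)) * ((1 + f) * (1 + f)) := by rw [h1]; simp only [mul_assoc]
    _ = (2 * (T * D)) * (2 * f) := by rw [one_add_mul_self h.symm.g_sq, one_add_mul_self h.hf]

end Cliff

end cliff

open Matrix Cfsg.Agent.Lib.Helper18.PSpAut

variable {F : Type*} [Field F]

theorem cliff_inst {Q : Subgroup (L2 F)} {a x : L2 F} {k : ℕ} (h : QData Q a x k)
    (ha2 : a * a = -1) :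
    Cliff (bm a.1 a.1) (bm x.1 x.1) (bm (-1) 1) (tm : Matrix (Fin 2 ⊕ Fin 2) (Fin 2 ⊕ Fin 2) F) := by
  obtain ⟨hA, hX, hXA⟩ := h.mat_relations ha2
  refine ⟨?_, ?_, ?_, ?_, tm_mul_tm, ?_, ?_, ?_, ?_, ?_⟩
  · rw [← bm_mul, hA, bm_neg, bm_one]
  · rw [← bm_mul, hX, bm_neg, bm_one]
  · rw [← bm_mul, ← bm_mul, hXA, bm_neg]
  · rw [← bm_mul]; simp [bm_one]
  · rw [tm_mul_bm, ← Matrix.neg_mul, ← bm_neg, neg_neg]
  · rw [← bm_mul, ← bm_mul]; simp
  · rw [← bm_mul, ← bm_mul]; simp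
  · exact tm_mul_bm _ _
  · exact tm_mul_bm _ _

/-- `1 + s` is a similitude with multiplier `2` when `s` is symplectic with `s * s = -1` -/
theorem one_add_J {s : Matrix (Fin 2 ⊕ Fin 2) (Fin 2 ⊕ Fin 2) F}
    (hs : s ∈ symplecticGroup (Fin 2) F) (hss : s * s = -1) :
    (1 + s) * J (Fin 2) F * (1 + s)ᵀ = (2 : F) • J (Fin 2) F := by
  rw [SymplecticGroup.mem_iff] at hs
  have h1 : J (Fin 2) F * sᵀ = -(s * J (Fin 2) F) := by
    calc J (Fin 2) F * sᵀ = -((s * s) * J (Fin 2) F * sᵀ) := by rw [hss]; simp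
      _ = -(s * (s * J (Fin 2) F * sᵀ)) := by simp only [Matrix.mul_assoc]
      _ = -(s * J (Fin 2) F) := by rw [hs]
  have h3 : (1 + s) * J (Fin 2) F * (1 + s)ᵀ =
      J (Fin 2) F + J (Fin 2) F * sᵀ + s * J (Fin 2) F + s * J (Fin 2) F * sᵀ := by
    rw [Matrix.transpose_add, Matrix.transpose_one]
    noncomm_ring
  rw [h3, hs, h1, two_smul]
  abel

/-- `(1 + s)(1 + t)/2` -/
def hpm (s t : Matrix (Fin 2 ⊕ Fin 2) (Fin 2 ⊕ Fin 2) F) : Matrix (Fin 2 ⊕ Fin 2) (Fin 2 ⊕ Fin 2) F :=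
  (2 : F)⁻¹ • ((1 + s) * (1 + t))

theorem hpm_mem (h2 : (2 : F) ≠ 0) {s t : Matrix (Fin 2 ⊕ Fin 2) (Fin 2 ⊕ Fin 2) F}
    (hs : s ∈ symplecticGroup (Fin 2) F) (hss : s * s = -1)
    (ht : t ∈ symplecticGroup (Fin 2) F) (htt : t * t = -1) :
    hpm s t ∈ symplecticGroup (Fin 2) F := by
  rw [SymplecticGroup.mem_iff]
  unfold hpm
  rw [Matrix.transpose_smul, Matrix.transpose_mul, Matrix.smul_mul, Matrix.smul_mul,
    Matrix.mul_smul, smul_smul]
  have h1 : (1 + s) * (1 + t) * J (Fin 2) F * ((1 + t)ᵀ * (1 + s)ᵀ) =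
      (1 + s) * ((1 + t) * J (Fin 2) F * (1 + t)ᵀ) * (1 + s)ᵀ := by
    simp only [Matrix.mul_assoc]
  rw [h1, one_add_J ht htt, Matrix.mul_smul, Matrix.smul_mul, one_add_J hs hss, smul_smul,
    smul_smul]
  have h3 : (2 : F)⁻¹ * 2⁻¹ * 2 * 2 = 1 := by field_simp
  rw [h3, one_smul]

theorem hpm_mul {s t r r'' : Matrix (Fin 2 ⊕ Fin 2) (Fin 2 ⊕ Fin 2) F}
    (hm : (1 + s) * (1 + t) * r = r'' * ((1 + s) * (1 + t))) : hpm s t * r = r'' * hpm s t := by
  unfold hpm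
  rw [Matrix.smul_mul, Matrix.mul_smul, hm]

theorem dd_tau_coe : ((dd * tau : Sp4 F) : Matrix _ _ F) = bm (-1) 1 * tm := by
  rw [← dd_coe]; rfl

theorem tau_dd_coe : ((tau * dd : Sp4 F) : Matrix _ _ F) = tm * bm (-1) 1 := by
  rw [← dd_coe]; rfl

section elems

variable {Q : Subgroup (L2 F)} {a x : L2 F} {k : ℕ}

/-- the first `2`-element `(1 + e)(1 + DT)/2` -/
def u1 (h2 : (2 : F) ≠ 0) (h : QData Q a x k) (ha2 : a * a = -1) : Sp4 F :=
  ⟨hpm (bm a.1 a.1) (bm (-1) 1 * tm), hpm_mem h2 (io (a, a)).2 (cliff_inst h ha2).he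
    (by rw [← dd_tau_coe]; exact (dd * tau : Sp4 F).2) (cliff_inst h ha2).g_sq⟩

/-- the second `2`-element `(1 + TD)(1 + f)/2` -/
def u2 (h2 : (2 : F) ≠ 0) (h : QData Q a x k) (ha2 : a * a = -1) : Sp4 F :=
  ⟨hpm (tm * bm (-1) 1) (bm x.1 x.1), hpm_mem h2
    (by rw [← tau_dd_coe]; exact (tau * dd : Sp4 F).2) (cliff_inst h ha2).symm.g_sq
    (io (x, x)).2 (cliff_inst h ha2).hf⟩

theorem u1_mul_e (h2 : (2 : F) ≠ 0) (h : QData Q a x k) (ha2 : a * a = -1) :
    u1 h2 h ha2 * io (a, a) = io (a, a) * u1 h2 h ha2 := by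
  apply Subtype.ext
  exact hpm_mul (cliff_inst h ha2).p1_e

theorem u1_mul_f (h2 : (2 : F) ≠ 0) (h : QData Q a x k) (ha2 : a * a = -1) :
    u1 h2 h ha2 * io (x, x) = io (a * x, a * x) * u1 h2 h ha2 := by
  apply Subtype.ext
  have := hpm_mul (cliff_inst h ha2).p1_f
  rw [← bm_mul] at this
  exact this

theorem u1_mul_dd (h2 : (2 : F) ≠ 0) (h : QData Q a x k) (ha2 : a * a = -1) :
    u1 h2 h ha2 * dd = (negOne * tau) * u1 h2 h ha2 := by
  apply Subtype.ext
  have := hpm_mul (cliff_inst h ha2).p1_D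
  show (u1 h2 h ha2).1 * (dd : Sp4 F).1 = ((-1 : Matrix _ _ F) * tm) * (u1 h2 h ha2).1
  rw [dd_coe, Matrix.neg_mul, Matrix.one_mul]
  exact this

theorem u1_mul_tau (h2 : (2 : F) ≠ 0) (h : QData Q a x k) (ha2 : a * a = -1) :
    u1 h2 h ha2 * tau = dd * u1 h2 h ha2 := by
  apply Subtype.ext
  have := hpm_mul (cliff_inst h ha2).p1_T
  show (u1 h2 h ha2).1 * tm = (dd : Sp4 F).1 * (u1 h2 h ha2).1
  rw [dd_coe]
  exact this

theorem u2_mul_e (h2 : (2 : F) ≠ 0) (h : QData Q a x k) (ha2 : a * a = -1) :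
    u2 h2 h ha2 * io (a, a) = io (x * a, x * a) * u2 h2 h ha2 := by
  apply Subtype.ext
  have := hpm_mul (cliff_inst h ha2).p2_e
  rw [← bm_mul] at this
  exact this

theorem u2_mul_f (h2 : (2 : F) ≠ 0) (h : QData Q a x k) (ha2 : a * a = -1) :
    u2 h2 h ha2 * io (x, x) = io (x, x) * u2 h2 h ha2 := by
  apply Subtype.ext
  exact hpm_mul (cliff_inst h ha2).p2_f

theorem u2_mul_dd (h2 : (2 : F) ≠ 0) (h : QData Q a x k) (ha2 : a * a = -1) :
    u2 h2 h ha2 * dd = tau * u2 h2 h ha2 := by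
  apply Subtype.ext
  have := hpm_mul (cliff_inst h ha2).p2_D
  show (u2 h2 h ha2).1 * (dd : Sp4 F).1 = tm * (u2 h2 h ha2).1
  rw [dd_coe]
  exact this

theorem u2_mul_tau (h2 : (2 : F) ≠ 0) (h : QData Q a x k) (ha2 : a * a = -1) :
    u2 h2 h ha2 * tau = (negOne * dd) * u2 h2 h ha2 := by
  apply Subtype.ext
  have := hpm_mul (cliff_inst h ha2).p2_T
  show (u2 h2 h ha2).1 * tm = ((-1 : Matrix _ _ F) * (dd : Sp4 F).1) * (u2 h2 h ha2).1
  rw [dd_coe, Matrix.neg_mul, Matrix.one_mul]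
  exact this

theorem two_mul_mat (m : Matrix (Fin 2 ⊕ Fin 2) (Fin 2 ⊕ Fin 2) F) : 2 * m = (2 : F) • m := by
  rw [two_mul, two_smul]

theorem u1_mul_u2 (h2 : (2 : F) ≠ 0) (h : QData Q a x k) (ha2 : a * a = -1) :
    u1 h2 h ha2 * u2 h2 h ha2 = io (hh h2 a x ha2 h.hxx, hh h2 a x ha2 h.hxx) := by
  apply Subtype.ext
  show hpm (bm a.1 a.1) (bm (-1) 1 * tm) * hpm (tm * bm (-1) 1) (bm x.1 x.1) =
    bm (hmat a x) (hmat a x)
  unfold hpm hmat
  rw [Matrix.smul_mul, Matrix.mul_smul, (cliff_inst h ha2).p1_mul_p2, two_mul_mat, smul_smul,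
    smul_smul, bm_smul, bm_mul, bm_add, bm_add, bm_one]
  congr 1
  field_simp

theorem u1_sq (h2 : (2 : F) ≠ 0) (h : QData Q a x k) (ha2 : a * a = -1) :
    u1 h2 h ha2 * u1 h2 h ha2 = io (a, a) * (dd * tau) := by
  apply Subtype.ext
  show hpm (bm a.1 a.1) (bm (-1) 1 * tm) * hpm (bm a.1 a.1) (bm (-1) 1 * tm) =
    bm a.1 a.1 * ((dd * tau : Sp4 F) : Matrix _ _ F)
  rw [dd_tau_coe]
  unfold hpm
  rw [Matrix.smul_mul, Matrix.mul_smul, (cliff_inst h ha2).p1_sq, two_mul_mat, two_mul_mat,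
    Matrix.smul_mul, Matrix.mul_smul, smul_smul, smul_smul, smul_smul]
  have h3 : (2 : F)⁻¹ * 2⁻¹ * 2 * 2 = 1 := by field_simp
  rw [h3, one_smul]

theorem u2_sq (h2 : (2 : F) ≠ 0) (h : QData Q a x k) (ha2 : a * a = -1) :
    u2 h2 h ha2 * u2 h2 h ha2 = (tau * dd) * io (x, x) := by
  apply Subtype.ext
  show hpm (tm * bm (-1) 1) (bm x.1 x.1) * hpm (tm * bm (-1) 1) (bm x.1 x.1) =
    ((tau * dd : Sp4 F) : Matrix _ _ F) * bm x.1 x.1
  rw [tau_dd_coe]
  unfold hpm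
  rw [Matrix.smul_mul, Matrix.mul_smul, (cliff_inst h ha2).p2_sq, two_mul_mat, two_mul_mat,
    Matrix.smul_mul, Matrix.mul_smul, smul_smul, smul_smul, smul_smul]
  have h3 : (2 : F)⁻¹ * 2⁻¹ * 2 * 2 = 1 := by field_simp
  rw [h3, one_smul]

end elems

end Cfsg.Agent.Lib.Helper26.PSp4F
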