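import Mathlib
import Cfsg.Agent.Lib.Helper26.PSp4FH

/-!
helper26: the quaternion case `a * a = -1`: the elementary abelian subgroup `EE` of order `16` of
`S0 Q`, which is normal and self-centralizing in `S0 Q` and normalized by the two `2`-elements
`pi u1`, `pi u2`.
-/

set_option autoImplicit false
set_option linter.unusedSectionVars false
set_option linter.style.haveILetI false

namespace Cfsg.Agent.Lib.Helper26.PSp4F

open Matrix Cfsg.Agent.Lib.Helper18.PSpAut Cfsg.Agent.Lib.Helper3.Fus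
  Cfsg.Agent.Lib.Helper16.FusGen

variable {F : Type*} [Field F]

namespace QData

variable {Q : Subgroup (L2 F)} {a x : L2 F} {k : ℕ}

theorem sq_cases (h : QData Q a x k) (ha2 : a * a = -1) {w : L2 F} (hw : w ∈ Q) :
    w * w = 1 ∨ w * w = -1 := by
  rcases h.hall w hw with ⟨i, rfl⟩ | ⟨i, rfl⟩
  · rcases a_pow_cases ha2 i with hi | hi | hi | hi <;> rw [hi]
    · left; rw [one_mul]
    · left; rw [neg_mul_neg, one_mul]
    · right; exact ha2
    · right; rw [neg_mul_neg]; exact ha2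
  · right; exact h.xa_sq i

theorem inv_cases (h : QData Q a x k) (ha2 : a * a = -1) {w : L2 F} (hw : w ∈ Q) :
    w⁻¹ = w ∨ w⁻¹ = -w := by
  rcases h.sq_cases ha2 hw with h1 | h1
  · left; exact inv_eq_of_mul_eq_one_right h1
  · right
    apply inv_eq_of_mul_eq_one_right
    rw [mul_neg, h1, neg_neg]

theorem conj_cases (h : QData Q a x k) (ha2 : a * a = -1) {u w : L2 F} (hu : u ∈ Q) (hw : w ∈ Q) :
    u * w * u⁻¹ = w ∨ u * w * u⁻¹ = -w := by
  have hmul : ∀ u u' : L2 F, (∀ w ∈ Q, u * w * u⁻¹ = w ∨ u * w * u⁻¹ = -w) →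
      (∀ w ∈ Q, u' * w * u'⁻¹ = w ∨ u' * w * u'⁻¹ = -w) →
      ∀ w ∈ Q, (u * u') * w * (u * u')⁻¹ = w ∨ (u * u') * w * (u * u')⁻¹ = -w := by
    intro u u' hu hu' w hw
    have e1 : (u * u') * w * (u * u')⁻¹ = u * (u' * w * u'⁻¹) * u⁻¹ := by group
    rw [e1]
    rcases hu' w hw with h1 | h1 <;> rw [h1]
    · exact hu w hw
    · rw [conj_neg]
      rcases hu w hw with h3 | h3 <;> rw [h3]
      · right; rfl
      · left; rw [neg_neg]
  have hax : a * x = -(x * a) := by rw [h.x_mul_a ha2, neg_neg]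
  have hPa : ∀ w ∈ Q, a * w * a⁻¹ = w ∨ a * w * a⁻¹ = -w := by
    intro w hw
    have hcomm : ∀ j : ℕ, a * a ^ j * a⁻¹ = a ^ j := by
      intro j
      rw [(Commute.pow_right (Commute.refl a) j).eq, mul_inv_cancel_right]
    rcases h.hall w hw with ⟨j, rfl⟩ | ⟨j, rfl⟩
    · left; exact hcomm j
    · right
      have e1 : a * (x * a ^ j) * a⁻¹ = (a * x * a⁻¹) * (a * a ^ j * a⁻¹) := by group
      rw [e1, hcomm, hax, neg_mul, mul_inv_cancel_right, neg_mul]
  have hPx : ∀ w ∈ Q, x * w * x⁻¹ = w ∨ x * w * x⁻¹ = -w := by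
    intro w hw
    rcases h.hall w hw with ⟨j, rfl⟩ | ⟨j, rfl⟩
    · rw [h.x_conj_pow]
      exact h.inv_cases ha2 (Q.pow_mem h.ha j)
    · have e1 : x * (x * a ^ j) * x⁻¹ = x * (x * a ^ j * x⁻¹) := by group
      rw [e1, h.x_conj_pow]
      rcases h.inv_cases ha2 (Q.pow_mem h.ha j) with h3 | h3 <;> rw [h3]
      · left; rfl
      · right; rw [mul_neg]
  have hPpow : ∀ i : ℕ, ∀ w ∈ Q, a ^ i * w * (a ^ i)⁻¹ = w ∨ a ^ i * w * (a ^ i)⁻¹ = -w := by
    intro i
    induction i with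
    | zero => intro w _; left; simp
    | succ i ih =>
      rw [pow_succ]
      exact hmul _ _ ih hPa
  rcases h.hall u hu with ⟨i, rfl⟩ | ⟨i, rfl⟩
  · exact hPpow i w hw
  · exact hmul _ _ hPx (hPpow i) w hw

end QData

/-- the elementary abelian subgroup of order `16` -/
def EE (a x : L2 F) : Subgroup (Cfsg.PSp 2 F) :=
  Subgroup.closure {pi (io (a, a)), pi (io (x, x)), zz, pi tau}

theorem pi_aa_mem_EE (a x : L2 F) : pi (io (a, a)) ∈ EE a x :=
  Subgroup.subset_closure (by simp)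

theorem pi_xx_mem_EE (a x : L2 F) : pi (io (x, x)) ∈ EE a x :=
  Subgroup.subset_closure (by simp)

theorem zz_mem_EE (a x : L2 F) : (zz : Cfsg.PSp 2 F) ∈ EE a x :=
  Subgroup.subset_closure (by simp)

theorem pi_tau_mem_EE (a x : L2 F) : pi (tau : Sp4 F) ∈ EE a x :=
  Subgroup.subset_closure (by simp)

namespace QData

variable {Q : Subgroup (L2 F)} {a x : L2 F} {k : ℕ}

theorem pi_diag_mem_EE (h : QData Q a x k) {w : L2 F} (hw : w ∈ Q) : pi (io (w, w)) ∈ EE a x := by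
  have hpow : ∀ i : ℕ, pi (io (a ^ i, a ^ i)) ∈ EE a x := by
    intro i
    rw [← Prod.pow_mk, map_pow, map_pow]
    exact Subgroup.pow_mem _ (pi_aa_mem_EE a x) i
  rcases h.hall w hw with ⟨i, rfl⟩ | ⟨i, rfl⟩
  · exact hpow i
  · rw [← io_mul, map_mul]
    exact Subgroup.mul_mem _ (pi_xx_mem_EE a x) (hpow i)

theorem mem_EE (h : QData Q a x k) {w w' : L2 F} (hw : w ∈ Q) (hw' : w' = w ∨ w' = -w) :
    pi (io (w, w')) ∈ EE a x := by
  rcases hw' with rfl | rfl
  · exact h.pi_diag_mem_EE hw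
  · have e1 : io (w, -w) = io (w, w) * io (1, -1) := by
      rw [io_mul, mul_one, mul_neg_one]
    rw [e1, map_mul, pi_io_one_neg]
    exact Subgroup.mul_mem _ (h.pi_diag_mem_EE hw) (zz_mem_EE a x)

theorem mem_EE_tau (h : QData Q a x k) {w w' : L2 F} (hw : w ∈ Q) (hw' : w' = w ∨ w' = -w) :
    pi (io (w, w') * tau) ∈ EE a x := by
  rw [map_mul]
  exact Subgroup.mul_mem _ (h.mem_EE hw hw') (pi_tau_mem_EE a x)

theorem EE_le_S0 (h : QData Q a x k) : EE a x ≤ S0 Q := by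
  unfold EE
  rw [Subgroup.closure_le]
  intro g hg
  simp only [Set.mem_insert_iff, Set.mem_singleton_iff] at hg
  rcases hg with rfl | rfl | rfl | rfl
  · exact pi_mem_S0 Q (io_mem_St Q h.ha h.ha)
  · exact pi_mem_S0 Q (io_mem_St Q h.hx h.hx)
  · exact zz_mem_S0 Q h.neg_one_mem
  · exact pi_mem_S0 Q (tau_mem_St Q)

end QData

/-- an element conjugating the four generators of `EE` into `EE` normalizes `EE` -/
theorem mem_normalizer_EE [Finite (Cfsg.PSp 2 F)] (a x : L2 F) (g : Cfsg.PSp 2 F)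
    (h1 : g * pi (io (a, a)) * g⁻¹ ∈ EE a x) (h2 : g * pi (io (x, x)) * g⁻¹ ∈ EE a x)
    (h3 : g * zz * g⁻¹ ∈ EE a x) (h4 : g * pi (tau : Sp4 F) * g⁻¹ ∈ EE a x) :
    g ∈ Subgroup.normalizer (EE a x : Set (Cfsg.PSp 2 F)) := by
  apply mem_normalizer_of_conj_mem
  have hle : EE a x ≤ (EE a x).comap (MulAut.conj g).toMonoidHom := by
    conv_lhs => unfold EE
    rw [Subgroup.closure_le]
    intro y hy
    simp only [Set.mem_insert_iff, Set.mem_singleton_iff] at hy
    rw [SetLike.mem_coe, Subgroup.mem_comap]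
    rcases hy with rfl | rfl | rfl | rfl
    · exact h1
    · exact h2
    · exact h3
    · exact h4
  intro y hy
  exact hle hy

/-- conjugation in `PSp` from a commutation relation in `Sp` -/
theorem pi_conj_eq {s r r' : Sp4 F} (hm : s * r = r' * s) : pi s * pi r * (pi s)⁻¹ = pi r' := by
  rw [← map_mul pi, hm, map_mul pi, mul_inv_cancel_right]

end Cfsg.Agent.Lib.Helper26.PSp4F
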