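import Mathlib
import Cfsg.Agent.Lib.Helper26.PSp4FI

/-!
helper26: the quaternion case `a * a = -1`: `EE` is normal and self-centralizing in `S0 Q`, the
`2`-elements `pi u1`, `pi u2` normalize `EE`, hence `pi (io (hh, hh)) ∈ GenSet 2 (S0 Q)`; the final
simplicity theorem for the `2`-fusion system of `PSp_4(F)`, `|F|` odd.
-/

set_option autoImplicit false
set_option linter.unusedSectionVars false
set_option linter.style.haveILetI false

namespace Cfsg.Agent.Lib.Helper26.PSp4F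

open Matrix Cfsg.Agent.Lib.Helper18.PSpAut Cfsg.Agent.Lib.Helper3.Fus
  Cfsg.Agent.Lib.Helper16.FusGen

variable {F : Type*} [Field F]

/-- an element whose square lies in a `2`-subgroup has `2`-power order -/
theorem exists_orderOf_of_sq_mem {G : Type*} [Group G] (S : Subgroup G) (hS : IsPGroup 2 S) (g : G)
    (hg : g * g ∈ S) : ∃ k : ℕ, orderOf g = 2 ^ k := by
  obtain ⟨m, hm⟩ := hS ⟨g * g, hg⟩
  have h1 : (g * g) ^ (2 ^ m) = 1 := by
    have := congrArg Subtype.val hm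
    simpa using this
  have h3 : g ^ (2 ^ (m + 1)) = 1 := by
    rw [pow_succ, mul_comm, pow_mul, pow_two, h1]
  obtain ⟨k, -, hk⟩ := (Nat.dvd_prime_pow Nat.prime_two).mp (orderOf_dvd_of_pow_eq_one h3)
  exact ⟨k, hk⟩

namespace QData

variable {Q : Subgroup (L2 F)} {a x : L2 F} {k : ℕ}

/-- `EE` is self-centralizing in `S0 Q` -/
theorem centralizerIn_EE_le (h : QData Q a x k) :
    Cfsg.FusionSystem.centralizerIn (S0 Q) (EE a x) ≤ EE a x := by
  intro y hy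
  rw [Cfsg.Agent.Lib.Helper26.mem_centralizerIn_iff] at hy
  obtain ⟨hyS, hyc⟩ := hy
  have hct := hyc _ (pi_tau_mem_EE a x)
  obtain ⟨s, hs, rfl⟩ := hyS
  have key : ∀ u v : L2 F, u ∈ Q → pi (tau : Sp4 F) * pi (io (u, v)) = pi (io (u, v)) * pi tau →
      v = u ∨ v = -u := by
    intro u v _ hc
    rw [← map_mul pi, ← map_mul pi, tau_mul_io, pi_io_tau_eq_iff] at hc
    rcases hc with hc | hc
    · left; exact hc.2
    · right; exact hc.2
  obtain ⟨u, hu, v, hv, rfl | rfl⟩ := (mem_St_iff Q s).mp hs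
  · exact h.mem_EE hu (key u v hu hct)
  · apply h.mem_EE_tau hu
    apply key u v hu
    rw [map_mul, ← mul_assoc] at hct
    exact mul_right_cancel hct

theorem pi_io_mem_normalizer_EE [Finite (Cfsg.PSp 2 F)] (h : QData Q a x k) (ha2 : a * a = -1)
    {u v : L2 F} (hu : u ∈ Q) (hv : v ∈ Q) :
    pi (io (u, v)) ∈ Subgroup.normalizer (EE a x : Set (Cfsg.PSp 2 F)) := by
  have hdiag : ∀ c ∈ Q, pi (io (u, v)) * pi (io (c, c)) * (pi (io (u, v)))⁻¹ ∈ EE a x := by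
    intro c hc
    have hm : io (u, v) * io (c, c) = io (u * c * u⁻¹, v * c * v⁻¹) * io (u, v) := by
      rw [io_mul, io_mul, inv_mul_cancel_right, inv_mul_cancel_right]
    rw [pi_conj_eq hm]
    have hcu : u * c * u⁻¹ ∈ Q := Q.mul_mem (Q.mul_mem hu hc) (Q.inv_mem hu)
    apply h.mem_EE hcu
    rcases h.conj_cases ha2 hu hc with h1 | h1 <;> rcases h.conj_cases ha2 hv hc with h3 | h3 <;>
      rw [h1, h3]
    · left; rfl
    · right; rfl
    · right; rw [neg_neg]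
    · left; rfl
  apply mem_normalizer_EE a x _ (hdiag a h.ha) (hdiag x h.hx)
  · rw [← zz_comm_io, mul_inv_cancel_right]
    exact zz_mem_EE a x
  · have hm : io (u, v) * tau = (io (u * v⁻¹, v * u⁻¹) * tau) * io (u, v) := by
      rw [mul_assoc, tau_mul_io, ← mul_assoc, io_mul, inv_mul_cancel_right, inv_mul_cancel_right]
    rw [pi_conj_eq hm]
    have hw : u * v⁻¹ ∈ Q := Q.mul_mem hu (Q.inv_mem hv)
    apply h.mem_EE_tau hw
    have e1 : v * u⁻¹ = (u * v⁻¹)⁻¹ := by rw [_root_.mul_inv_rev, inv_inv]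
    rw [e1]
    exact h.inv_cases ha2 hw

theorem S0_le_normalizer_EE [Finite (Cfsg.PSp 2 F)] (h : QData Q a x k) (ha2 : a * a = -1) :
    S0 Q ≤ Subgroup.normalizer (EE a x : Set (Cfsg.PSp 2 F)) := by
  rintro _ ⟨s, hs, rfl⟩
  obtain ⟨u, hu, v, hv, rfl | rfl⟩ := (mem_St_iff Q s).mp hs
  · exact h.pi_io_mem_normalizer_EE ha2 hu hv
  · rw [map_mul]
    exact Subgroup.mul_mem _ (h.pi_io_mem_normalizer_EE ha2 hu hv)
      (Subgroup.le_normalizer (pi_tau_mem_EE a x))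

theorem pi_u1_mem_normalizer_EE [Finite (Cfsg.PSp 2 F)] (h2 : (2 : F) ≠ 0) (h : QData Q a x k)
    (ha2 : a * a = -1) :
    pi (u1 h2 h ha2) ∈ Subgroup.normalizer (EE a x : Set (Cfsg.PSp 2 F)) := by
  apply mem_normalizer_EE a x
  · rw [pi_conj_eq (u1_mul_e h2 h ha2)]
    exact pi_aa_mem_EE a x
  · rw [pi_conj_eq (u1_mul_f h2 h ha2)]
    exact h.pi_diag_mem_EE (Q.mul_mem h.ha h.hx)
  · unfold zz
    rw [pi_conj_eq (u1_mul_dd h2 h ha2), map_mul, pi_negOne, one_mul]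
    exact pi_tau_mem_EE a x
  · rw [pi_conj_eq (u1_mul_tau h2 h ha2)]
    exact zz_mem_EE a x

theorem pi_u2_mem_normalizer_EE [Finite (Cfsg.PSp 2 F)] (h2 : (2 : F) ≠ 0) (h : QData Q a x k)
    (ha2 : a * a = -1) :
    pi (u2 h2 h ha2) ∈ Subgroup.normalizer (EE a x : Set (Cfsg.PSp 2 F)) := by
  apply mem_normalizer_EE a x
  · rw [pi_conj_eq (u2_mul_e h2 h ha2)]
    exact h.pi_diag_mem_EE (Q.mul_mem h.hx h.ha)
  · rw [pi_conj_eq (u2_mul_f h2 h ha2)]
    exact pi_xx_mem_EE a x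
  · unfold zz
    rw [pi_conj_eq (u2_mul_dd h2 h ha2)]
    exact pi_tau_mem_EE a x
  · rw [pi_conj_eq (u2_mul_tau h2 h ha2), map_mul, pi_negOne, one_mul]
    exact zz_mem_EE a x

theorem orderOf_pi_u1 (h2 : (2 : F) ≠ 0) (h : QData Q a x k) (ha2 : a * a = -1)
    (hS0p : IsPGroup 2 (S0 Q)) : ∃ m : ℕ, orderOf (pi (u1 h2 h ha2)) = 2 ^ m := by
  apply exists_orderOf_of_sq_mem (S0 Q) hS0p
  rw [← map_mul pi, u1_sq]
  apply pi_mem_S0
  exact (St Q).mul_mem (io_mem_St Q h.ha h.ha)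
    ((St Q).mul_mem (io_mem_St Q h.neg_one_mem (one_mem _)) (tau_mem_St Q))

theorem orderOf_pi_u2 (h2 : (2 : F) ≠ 0) (h : QData Q a x k) (ha2 : a * a = -1)
    (hS0p : IsPGroup 2 (S0 Q)) : ∃ m : ℕ, orderOf (pi (u2 h2 h ha2)) = 2 ^ m := by
  apply exists_orderOf_of_sq_mem (S0 Q) hS0p
  rw [← map_mul pi, u2_sq]
  apply pi_mem_S0
  exact (St Q).mul_mem
    ((St Q).mul_mem (tau_mem_St Q) (io_mem_St Q h.neg_one_mem (one_mem _)))
    (io_mem_St Q h.hx h.hx)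

/-- diagonal elements over `N(Q)` normalize `S0 Q` -/
theorem pi_diag_mem_normalizer_S0 [Finite (Cfsg.PSp 2 F)] (_h : QData Q a x k) {v : L2 F}
    (hv : v ∈ Subgroup.normalizer (Q : Set (L2 F))) :
    pi (io (v, v)) ∈ Subgroup.normalizer (S0 Q : Set (Cfsg.PSp 2 F)) := by
  apply mem_normalizer_of_conj_mem
  rintro _ ⟨s, hs, rfl⟩
  have hc : ∀ u ∈ Q, v * u * v⁻¹ ∈ Q := fun u hu => (Subgroup.mem_normalizer_iff.mp hv u).mp hu
  obtain ⟨u, hu, w, hw, rfl | rfl⟩ := (mem_St_iff Q s).mp hs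
  · have hm : io (v, v) * io (u, w) = io (v * u * v⁻¹, v * w * v⁻¹) * io (v, v) := by
      rw [io_mul, io_mul, inv_mul_cancel_right, inv_mul_cancel_right]
    show pi (io (v, v)) * pi (io (u, w)) * (pi (io (v, v)))⁻¹ ∈ S0 Q
    rw [pi_conj_eq hm]
    exact pi_mem_S0 Q (io_mem_St Q (hc u hu) (hc w hw))
  · have hm : io (v, v) * (io (u, w) * tau) =
        (io (v * u * v⁻¹, v * w * v⁻¹) * tau) * io (v, v) := by
      rw [mul_assoc, tau_mul_io, ← mul_assoc, ← mul_assoc, io_mul, io_mul, inv_mul_cancel_right,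
        inv_mul_cancel_right]
    show pi (io (v, v)) * pi (io (u, w) * tau) * (pi (io (v, v)))⁻¹ ∈ S0 Q
    rw [pi_conj_eq hm]
    exact pi_mem_S0 Q ((St Q).mul_mem (io_mem_St Q (hc u hu) (hc w hw)) (tau_mem_St Q))

/-- `pi (io (hh, hh)) ∈ GenSet 2 (S0 Q)` -/
theorem pi_hh_mem_genSet [Fintype F] (hodd : Fintype.card F % 2 = 1) (h2 : (2 : F) ≠ 0)
    (h : QData Q a x k) (hQ : Nat.card Q = 2 ^ (Nat.card (L2 F)).factorization 2)
    (ha2 : a * a = -1) :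
    pi (io (hh h2 a x ha2 h.hxx, hh h2 a x ha2 h.hxx)) ∈ GenSet 2 (S0 Q) := by
  haveI : Finite (Cfsg.PSp 2 F) := by
    unfold Cfsg.PSp
    infer_instance
  haveI : Finite Q := Nat.finite_of_card_ne_zero (by rw [hQ]; positivity)
  have hS0p : IsPGroup 2 (S0 Q) := h.isPGroup_S0 hodd hQ
  refine ⟨h.pi_diag_mem_normalizer_S0 (hh_mem_normalizer h2 h ha2), EE a x, h.EE_le_S0,
    h.S0_le_normalizer_EE ha2, h.centralizerIn_EE_le, ?_⟩
  rw [← u1_mul_u2 h2 h ha2, map_mul]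
  apply Subgroup.mul_mem
  · apply Subgroup.subset_closure
    exact ⟨h.pi_u1_mem_normalizer_EE h2 ha2, h.orderOf_pi_u1 h2 ha2 hS0p⟩
  · apply Subgroup.subset_closure
    exact ⟨h.pi_u2_mem_normalizer_EE h2 ha2, h.orderOf_pi_u2 h2 ha2 hS0p⟩

/-- the exceptional case of `mem_closure_genSet` -/
theorem hex_holds [Fintype F] (hodd : Fintype.card F % 2 = 1) (h : QData Q a x k)
    (hQ : Nat.card Q = 2 ^ (Nat.card (L2 F)).factorization 2) (ha2 : a * a = -1) (v : L2 F)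
    (hv : v ∈ Subgroup.normalizer (Q : Set (L2 F))) :
    pi (io (v, v)) ∈ Subgroup.closure (GenSet 2 (S0 Q)) := by
  have h2 : (2 : F) ≠ 0 := two_ne_zero_of_odd hodd
  have hS0p : IsPGroup 2 (S0 Q) := h.isPGroup_S0 hodd hQ
  obtain ⟨j, y, hy, hjy⟩ := exists_pow_mul_of_mem_normalizer h2 h hQ ha2 v hv
  have hgen := h.pi_hh_mem_genSet hodd h2 hQ ha2
  obtain ⟨c, hc⟩ : ∃ c, c = hh h2 a x ha2 h.hxx := ⟨_, rfl⟩
  rw [← hc] at hjy hgen
  have e1 : io (v, v) = (io (c, c) ^ j)⁻¹ * io (y, y) := by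
    rw [← map_pow, Prod.pow_mk, io_inv, io_mul, ← hjy, inv_mul_cancel_left]
  rw [e1, map_mul, map_inv, map_pow]
  apply Subgroup.mul_mem
  · exact Subgroup.inv_mem _ (Subgroup.pow_mem _ (Subgroup.subset_closure hgen) j)
  · exact Subgroup.subset_closure
      (mem_genSet_of_mem_S0 Q hS0p (pi_mem_S0 Q (io_mem_St Q hy hy)))

end QData

/-- **the `2`-fusion system of `PSp_4(F)`, `|F|` odd, is simple** -/
theorem main [Fintype F] (hodd : Fintype.card F % 2 = 1) (S : Sylow 2 (Cfsg.PSp 2 F)) :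
    (Cfsg.groupFusionSystem (S : Subgroup (Cfsg.PSp 2 F))).IsSimple 2 := by
  have h2 : (2 : F) ≠ 0 := two_ne_zero_of_odd hodd
  haveI : Fact (Nat.Prime 2) := ⟨Nat.prime_two⟩
  haveI : Finite (Cfsg.PSp 2 F) := by
    unfold Cfsg.PSp
    infer_instance
  obtain ⟨Q, a, x, k, h, hQ⟩ := exists_qdata hodd
  haveI : Finite Q := Nat.finite_of_card_ne_zero (by rw [hQ]; positivity)
  apply isSimple_of_subgroup_gen (S0 Q)
  · rw [card_S0 hodd Q h.neg_one_mem, hQ, fact_card_PSp hodd, ← pow_add, two_mul]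
  · intro hbot
    have := zz_mem_S0 Q h.neg_one_mem
    rw [hbot, Subgroup.mem_bot] at this
    exact zz_ne_one h2 this
  · intro g hg
    exact h.mem_closure_genSet hodd hQ (fun ha2 v hv => h.hex_holds hodd hQ ha2 v hv) hg
  · intro T hTS hT hcl
    exact h.eq_S0_of_fclosed hodd hQ T hTS hT hcl

end Cfsg.Agent.Lib.Helper26.PSp4F
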