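import Cfsg.Agent.Lib.Helper26.FSPStable
import Cfsg.Agent.Lib.Helper26.FSKNorm
import Cfsg.Agent.Lib.Helper26.FSEssential

/-!
`p`-stability of a saturated fusion system is detected on the normalizer systems of the centric radical
fully normalized subgroups (S5281): the extension lemma.
-/

set_option autoImplicit false
set_option linter.unusedSectionVars false
set_option linter.style.haveILetI false

namespace Cfsg.Agent.Lib.Helper26.PStab

open Cfsg Cfsg.FusionSystem Cfsg.Agent.Lib.Helper26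

variable {Ω : Type*} [Group Ω] {S : Subgroup Ω}

/-- A map of the system from a finite subgroup into itself is an automorphism of the system. -/
theorem exists_aut_of_hom [Finite S] (F : FusionSystem S) {P : Subgroup Ω} {ψ : P →* Ω} (hψ : ψ ∈ F.Hom P)
    (hval : ∀ x, ψ x ∈ P) : ∃ γ : MulAut P, γ ∈ F.autGroup P ∧ ∀ x : P, ((γ x : P) : Ω) = ψ x := by
  have hPS := hom_le F hψ
  haveI : Finite P := finite_of_le hPS
  have hr : ψ.range = P := by
    apply le_antisymm
    · rintro _ ⟨x, rfl⟩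
      exact hval x
    · intro b hb
      obtain ⟨a, ha⟩ := surj_of_inj_of_card_le ψ (F.injective_of_mem hψ) hval le_rfl b hb
      exact ⟨a, ha⟩
  refine ⟨homEquiv F hψ hr, ?_, fun x => rfl⟩
  rw [mem_autGroup_iff_isFIso F hPS]
  exact homEquiv_isFIso F hψ hr

/-- Extension of the automorphisms of a fully normalized subgroup `R` to `N_S^K(R)`, for a group `K` of
automorphisms induced by `S` and normalized by `Aut_F(R)`. -/
theorem exists_ext_NK [Finite S] {p : ℕ} [Fact p.Prime] (hS : IsPGroup p S) (F : FusionSystem S)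
    (hF : F.IsSaturated p) {R : Subgroup Ω} (hR : F.IsFullyNormalized R) (K : Subgroup (MulAut R))
    (hKS : K ≤ autInducedBy S R) (hKn : ∀ β ∈ F.autGroup R, ∀ κ ∈ K, β * κ * β⁻¹ ∈ K)
    (hRK : R ≤ NK S R K) {β : MulAut R} (hβ : β ∈ F.autGroup R) :
    ∃ γ : MulAut (NK S R K), γ ∈ F.autGroup (NK S R K) ∧
      ∀ x : R, ((γ (Subgroup.inclusion hRK x) : NK S R K) : Ω) = β x := by
  have hRS := hR.1
  haveI : Finite R := finite_of_le hRS
  have hrec := saturated_fn_receptive hS F hF hR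
  have hβF : equivHom (β : R ≃* R) ∈ F.Hom R := (mem_autGroup_iff_isFIso F hRS β).mp hβ
  obtain ⟨ψ, hψ, hψe⟩ := hrec.2 R _ hβF (equivHom_range _)
  -- the conjugation action of `s ∈ N_S^K(R)` transported by `β`
  have hact : ∀ s ∈ NK S R K, ∃ h ∈ S, ∃ κ ∈ K, (∀ t : R, ((κ t : R) : Ω) = h * t * h⁻¹) ∧
      ∀ (t : R) (ht : s * (t : Ω) * s⁻¹ ∈ R), ((β ⟨s * t * s⁻¹, ht⟩ : R) : Ω) = h * ((β t : R) : Ω) * h⁻¹ := by
    intro s hs
    have hsN : s ∈ Subgroup.normalizer (R : Set Ω) := (NK_le_normalizerIn S R K hs).2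
    have hcs := normalizerMonoidHom_mem_of_mem_NK hs hsN
    have h0 := hKn β hβ _ hcs
    obtain ⟨h, hhS, hh⟩ := (mem_autInducedBy_iff S R _).mp (hKS h0)
    refine ⟨h, hhS, _, h0, hh, fun t ht => ?_⟩
    have h2 := hh (β t)
    rw [← h2]
    simp only [MulAut.mul_apply, MulAut.inv_apply_self]
    rfl
  have hle : NK S R K ≤ extender S R (equivHom (β : R ≃* R)) := by
    intro s hs
    have hsN : s ∈ Subgroup.normalizer (R : Set Ω) := (NK_le_normalizerIn S R K hs).2
    obtain ⟨h, hhS, -, -, -, hh⟩ := hact s hs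
    rw [mem_extender_iff]
    exact ⟨hs.1, hsN, h, hhS, fun t ht => hh t ht⟩
  have hψ' := inclusion_comp_mem F hle hψ
  have hψR : ∀ x : R, (ψ.comp (Subgroup.inclusion hle)) (Subgroup.inclusion hRK x) = β x := by
    intro x
    exact hψe x x.2 (hle (hRK x.2))
  have hval : ∀ s : NK S R K, (ψ.comp (Subgroup.inclusion hle)) s ∈ NK S R K := by
    intro s
    set ψ' := ψ.comp (Subgroup.inclusion hle) with hψ'def
    obtain ⟨h, hhS, κ, hκ, hκh, hh⟩ := hact s s.2
    have hsN : (s : Ω) ∈ Subgroup.normalizer (R : Set Ω) := (NK_le_normalizerIn S R K s.2).2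
    refine ⟨hom_apply_mem F hψ' s, κ, hκ, fun y => ?_⟩
    -- `y = β t`
    obtain ⟨t, rfl⟩ : ∃ t : R, β t = y := ⟨β⁻¹ y, by simp⟩
    have hst : (s : Ω) * t * (s : Ω)⁻¹ ∈ R := (Subgroup.mem_normalizer_iff.mp hsN _).mp t.2
    have h1 : ψ' (s * Subgroup.inclusion hRK t * s⁻¹) = ψ' s * ψ' (Subgroup.inclusion hRK t) * (ψ' s)⁻¹ := by
      rw [map_mul, map_mul, map_inv]
    have h2 : s * Subgroup.inclusion hRK t * s⁻¹ = Subgroup.inclusion hRK ⟨(s : Ω) * t * (s : Ω)⁻¹, hst⟩ :=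
      Subtype.ext rfl
    rw [h2, hψR, hψR] at h1
    rw [← h1, hκh, hh t hst]
  obtain ⟨γ, hγ, hγe⟩ := exists_aut_of_hom F hψ' hval
  exact ⟨γ, hγ, fun x => (hγe _).trans (hψR x)⟩

end Cfsg.Agent.Lib.Helper26.PStab
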