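import Cfsg.Agent.Lib.Helper26.PStabA

/-!
`p`-stability of a saturated fusion system is detected on the normalizer systems of the centric radical
fully normalized subgroups (S5281): the maximal extension pair.
-/

set_option autoImplicit false
set_option linter.unusedSectionVars false
set_option linter.style.haveILetI false

namespace Cfsg.Agent.Lib.Helper26.PStab

open Cfsg Cfsg.FusionSystem Cfsg.Agent.Lib.Helper26

variable {Ω : Type*} [Group Ω] {S : Subgroup Ω}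

/-- `O_p(Aut_F(R))` as a subgroup of `Aut(R)`. -/
def coreK (p : ℕ) (F : FusionSystem S) (R : Subgroup Ω) : Subgroup (MulAut R) :=
  (pCore p (F.autGroup R)).map (F.autGroup R).subtype

theorem coreK_le_autGroup (p : ℕ) (F : FusionSystem S) (R : Subgroup Ω) : coreK p F R ≤ F.autGroup R := by
  rintro _ ⟨a, -, rfl⟩
  exact a.2

theorem coreK_conj {p : ℕ} [Fact p.Prime] (F : FusionSystem S) {R : Subgroup Ω} {β κ : MulAut R}
    (hβ : β ∈ F.autGroup R) (hκ : κ ∈ coreK p F R) : β * κ * β⁻¹ ∈ coreK p F R := by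
  obtain ⟨a, ha, rfl⟩ := hκ
  have hn : (pCore p (F.autGroup R)).Normal := Subgroup.normal_of_characteristic _
  exact ⟨⟨β, hβ⟩ * a * ⟨β, hβ⟩⁻¹, hn.conj_mem a ha ⟨β, hβ⟩, rfl⟩

theorem coreK_le_autS [Finite S] {p : ℕ} [Fact p.Prime] (hS : IsPGroup p S) (F : FusionSystem S)
    (hF : F.IsSaturated p) {R : Subgroup Ω} (hR : F.IsFullyNormalized R) :
    coreK p F R ≤ autInducedBy S R := by
  obtain ⟨-, T, hT⟩ := (saturated_fn hS F hF hR).2
  rintro _ ⟨a, ha, rfl⟩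
  have h1 : a ∈ (T : Subgroup (F.autGroup R)) := Cfsg.Agent.Lib.Helper16.pCore_le_sylow T ha
  rw [hT, Subgroup.mem_subgroupOf] at h1
  exact h1

theorem inn_normal_conj {H : Type*} [Group H] (α : MulAut H) {κ : MulAut H} (hκ : κ ∈ Inn H) :
    α * κ * α⁻¹ ∈ Inn H := by
  obtain ⟨g, rfl⟩ := hκ
  refine ⟨α g, ?_⟩
  ext x
  simp [MulAut.conj_apply]

theorem inn_le_coreK {p : ℕ} [Fact p.Prime] (hS : IsPGroup p S) (F : FusionSystem S) {R : Subgroup Ω}
    (hRS : R ≤ S) : Inn R ≤ coreK p F R := by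
  have hle := inn_le_autGroup F hRS
  have hn : ((Inn R).subgroupOf (F.autGroup R)).Normal := by
    constructor
    intro n hn g
    rw [Subgroup.mem_subgroupOf] at hn ⊢
    exact inn_normal_conj (g : MulAut R) hn
  have hp : IsPGroup p ((Inn R).subgroupOf (F.autGroup R)) := (inn_isPGroup hS hRS).comap_subtype
  intro κ hκ
  exact ⟨⟨κ, hle hκ⟩, Cfsg.Agent.Lib.Helper16.le_pCore hn hp hκ, rfl⟩

theorem le_NK_coreK {p : ℕ} [Fact p.Prime] (hS : IsPGroup p S) (F : FusionSystem S) {R : Subgroup Ω}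
    (hRS : R ≤ S) : R ≤ NK S R (coreK p F R) := by
  intro x hx
  exact ⟨hRS hx, MulAut.conj ⟨x, hx⟩, inn_le_coreK hS F hRS ⟨⟨x, hx⟩, rfl⟩, fun t => rfl⟩

/-- If `N_S^K(R) = R` for `K = O_p(Aut_F(R))` and `R` fully normalized, then `R` is centric and radical. -/
theorem centric_radical_of_NK_eq [Finite S] {p : ℕ} [Fact p.Prime] (hS : IsPGroup p S) (F : FusionSystem S)
    (hF : F.IsSaturated p) {R : Subgroup Ω} (hR : F.IsFullyNormalized R)
    (h : NK S R (coreK p F R) = R) : F.IsCentric R ∧ F.IsRadical p R := by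
  have hRS := hR.1
  refine ⟨centric_of_fullyCentralized F R (saturated_fn hS F hF hR).1
    ((centralizerIn_le_NK S R _).trans h.le), hRS, le_antisymm ?_ (inn_le_coreK hS F hRS)⟩
  intro κ hκ
  obtain ⟨s, hsS, hsN, rfl⟩ := (mem_autInducedBy_iff' _ _ _).mp (coreK_le_autS hS F hF hR hκ)
  have hsK : s ∈ NK S R (coreK p F R) := mem_NK_of_normalizerMonoidHom_mem hsS hsN hκ
  rw [h] at hsK
  refine ⟨⟨s, hsK⟩, ?_⟩
  ext y
  rfl

/-- Every automorphism of `Q` in the system, transported along `φ : Q → R`, extends to an automorphism of `R` in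
the system. -/
def Ext (F : FusionSystem S) (Q R : Subgroup Ω) (φ : Q →* Ω) : Prop :=
  φ ∈ F.Hom Q ∧ R ≤ S ∧ ∃ hφR : ∀ x, φ x ∈ R, ∀ α ∈ F.autGroup Q, ∃ β ∈ F.autGroup R,
    ∀ x : Q, ((β ⟨φ x, hφR x⟩ : R) : Ω) = φ (α x)

theorem ext_refl (F : FusionSystem S) {Q : Subgroup Ω} (hQS : Q ≤ S) : Ext F Q Q Q.subtype :=
  ⟨subtype_mem F hQS, hQS, fun x => x.2, fun α hα => ⟨α, hα, fun _ => rfl⟩⟩

theorem ext_congr (F : FusionSystem S) {Q R R₁ : Subgroup Ω} {φ : Q →* Ω} (h : Ext F Q R φ) (θ : R ≃* R₁)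
    (hθ : IsFIso F θ) : ∃ φ₁ : Q →* Ω, Ext F Q R₁ φ₁ := by
  obtain ⟨hφ, hRS, hφR, hext⟩ := h
  refine ⟨(equivHom θ).comp (φ.codRestrict R hφR), F.comp_mem hφ hθ hφR, hθ.le_right, fun x => (θ _).2,
    fun α hα => ?_⟩
  obtain ⟨β, hβ, hβe⟩ := hext α hα
  refine ⟨MulAut.congr θ β, congr_mem_autGroup F hθ hβ, fun x => ?_⟩
  show ((θ (β (θ.symm ⟨(θ ⟨φ x, hφR x⟩ : R₁), _⟩)) : R₁) : Ω) = ((θ ⟨φ (α x), hφR (α x)⟩ : R₁) : Ω)
  have h1 : θ.symm ⟨((θ ⟨φ x, hφR x⟩ : R₁) : Ω), (θ ⟨φ x, hφR x⟩).2⟩ = ⟨φ x, hφR x⟩ := by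
    simp
  rw [h1]
  have h2 : β ⟨φ x, hφR x⟩ = ⟨φ (α x), hφR (α x)⟩ := Subtype.ext (hβe x)
  rw [h2]

theorem ext_extend [Finite S] {p : ℕ} [Fact p.Prime] (hS : IsPGroup p S) (F : FusionSystem S)
    (hF : F.IsSaturated p) {Q R : Subgroup Ω} {φ : Q →* Ω} (h : Ext F Q R φ) (hR : F.IsFullyNormalized R) :
    Ext F Q (NK S R (coreK p F R)) φ := by
  obtain ⟨hφ, hRS, hφR, hext⟩ := h
  have hRK := le_NK_coreK (p := p) hS F hRS
  refine ⟨hφ, NK_le S R _, fun x => hRK (hφR x), fun α hα => ?_⟩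
  obtain ⟨β, hβ, hβe⟩ := hext α hα
  obtain ⟨γ, hγ, hγe⟩ := exists_ext_NK hS F hF hR (coreK p F R) (coreK_le_autS hS F hF hR)
    (fun β hβ κ hκ => coreK_conj F hβ hκ) hRK hβ
  refine ⟨γ, hγ, fun x => ?_⟩
  have := hγe ⟨φ x, hφR x⟩
  rw [hβe x] at this
  exact this

/-- One step: either `R` can be replaced by a centric radical fully normalized subgroup of the same order, or
by a larger subgroup. -/
theorem ext_step [Finite S] {p : ℕ} [Fact p.Prime] (hS : IsPGroup p S) (F : FusionSystem S)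
    (hF : F.IsSaturated p) {Q R : Subgroup Ω} {φ : Q →* Ω} (h : Ext F Q R φ) :
    (∃ (R' : Subgroup Ω) (φ' : Q →* Ω), Ext F Q R' φ' ∧ F.IsFullyNormalized R' ∧ F.IsCentric R' ∧
      F.IsRadical p R') ∨
    (∃ (R' : Subgroup Ω) (φ' : Q →* Ω), Ext F Q R' φ' ∧ Nat.card R < Nat.card R') := by
  obtain ⟨R₁, hconj, hR₁⟩ := exists_fullyNormalized_conj F h.2.1
  obtain ⟨θ, hθ⟩ := (isConj_iff_exists_isFIso F).mp hconj
  obtain ⟨φ₁, h₁⟩ := ext_congr F h θ hθ
  have hcard : Nat.card R = Nat.card R₁ := Nat.card_congr θ.toEquiv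
  by_cases hNK : NK S R₁ (coreK p F R₁) = R₁
  · left
    obtain ⟨hc, hr⟩ := centric_radical_of_NK_eq hS F hF hR₁ hNK
    exact ⟨R₁, φ₁, h₁, hR₁, hc, hr⟩
  · right
    refine ⟨NK S R₁ (coreK p F R₁), φ₁, ext_extend hS F hF h₁ hR₁, ?_⟩
    rw [hcard]
    have hle := le_NK_coreK (p := p) hS F hR₁.1
    haveI : Finite ↥(NK S R₁ (coreK p F R₁)) := finite_of_le (NK_le S R₁ _)
    by_contra hlt
    exact hNK (Subgroup.eq_of_le_of_card_ge hle (not_lt.mp hlt)).symm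

/-- There is a centric radical fully normalized `R` to which all automorphisms of (a conjugate of) `Q` extend. -/
theorem exists_frc [Finite S] {p : ℕ} [Fact p.Prime] (hS : IsPGroup p S) (F : FusionSystem S)
    (hF : F.IsSaturated p) {Q : Subgroup Ω} (hQS : Q ≤ S) :
    ∃ (R : Subgroup Ω) (φ : Q →* Ω), Ext F Q R φ ∧ F.IsFullyNormalized R ∧ F.IsCentric R ∧ F.IsRadical p R := by
  have key : ∀ n : ℕ, ∀ (R : Subgroup Ω) (φ : Q →* Ω), Ext F Q R φ → Nat.card S - Nat.card R ≤ n →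
      ∃ (R' : Subgroup Ω) (φ' : Q →* Ω), Ext F Q R' φ' ∧ F.IsFullyNormalized R' ∧ F.IsCentric R' ∧
        F.IsRadical p R' := by
    intro n
    induction n with
    | zero =>
      intro R φ h hn
      rcases ext_step hS F hF h with h1 | ⟨R', φ', h', hlt⟩
      · exact h1
      · have : Nat.card R' ≤ Nat.card S := Subgroup.card_le_of_le h'.2.1
        omega
    | succ n ih =>
      intro R φ h hn
      rcases ext_step hS F hF h with h1 | ⟨R', φ', h', hlt⟩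
      · exact h1
      · have : Nat.card R' ≤ Nat.card S := Subgroup.card_le_of_le h'.2.1
        exact ih R' φ' h' (by omega)
  exact key _ Q Q.subtype (ext_refl F hQS) le_rfl

end Cfsg.Agent.Lib.Helper26.PStab
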