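import Cfsg.Agent.Lib.Helper26.PStabB

/-!
`p`-stability of a saturated fusion system is detected on the normalizer systems of the centric radical
fully normalized subgroups (S5281): the theorem.
-/

set_option autoImplicit false
set_option linter.unusedSectionVars false
set_option linter.style.haveILetI false

namespace Cfsg.Agent.Lib.Helper26.PStab

open Cfsg Cfsg.FusionSystem Cfsg.Agent.Lib.Helper26

variable {Ω : Type*} [Group Ω] {S : Subgroup Ω}

/-- If every automorphism of `Q` extends (along `φ`) to `R`, then `Aut_{N_F(R)}(φ(Q)) = Aut_F(φ(Q))`. -/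
theorem autGroup_normalizer_eq_of_ext (F : FusionSystem S) {Q R : Subgroup Ω} {φ : Q →* Ω} (h : Ext F Q R φ)
    (N : FusionSystem (normalizerIn S R)) (hN : F.IsNormalizerSystem R N) :
    N.autGroup φ.range = F.autGroup φ.range := by
  obtain ⟨hφ, hRS, hφR, hext⟩ := h
  have hQ'R : φ.range ≤ R := by
    rintro _ ⟨x, rfl⟩
    exact hφR x
  have hRN : R ≤ normalizerIn S R := le_normalizerIn hRS
  have hQ'N : φ.range ≤ normalizerIn S R := hQ'R.trans hRN
  have hQ'S : φ.range ≤ S := hQ'R.trans hRS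
  ext α'
  rw [mem_autGroup_iff N hQ'N, mem_autGroup_iff F hQ'S, hN φ.range]
  constructor
  · intro h
    exact h.1
  · intro hα'
    -- transport to `Q`
    have he := homEquiv_isFIso F hφ rfl
    set e : Q ≃* φ.range := homEquiv F hφ rfl with hedef
    have hα'F : α' ∈ F.autGroup φ.range := (mem_autGroup_iff F hQ'S α').mpr hα'
    have hα : MulAut.congr e.symm α' ∈ F.autGroup Q := congr_mem_autGroup F he.symm hα'F
    obtain ⟨β, hβ, hβe⟩ := hext _ hα
    have hβF := (mem_autGroup_iff F hRS β).mp hβ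
    have hle : φ.range ⊔ R ≤ R := sup_le hQ'R le_rfl
    have hβy : ∀ (y : φ.range), ((β ⟨y, hQ'R y.2⟩ : R) : Ω) = (α' y : φ.range) := by
      intro y
      obtain ⟨x, hx⟩ : ∃ x : Q, e x = y := ⟨e.symm y, by simp⟩
      have h1 := hβe x
      have h2 : (⟨φ x, hφR x⟩ : R) = ⟨y, hQ'R y.2⟩ := by
        apply Subtype.ext
        show φ x = y
        rw [← hx]
        rfl
      rw [h2] at h1
      rw [h1]
      show φ (e.symm (α' (e.symm.symm x))) = _
      have h3 : e.symm.symm x = y := by rw [MulEquiv.symm_symm]; exact hx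
      rw [h3]
      show ((e (e.symm (α' y)) : φ.range) : Ω) = _
      rw [MulEquiv.apply_symm_apply]
    refine ⟨hα', hQ'N, fun x => hQ'N (α' x).2, (R.subtype.comp β.toMonoidHom).comp (Subgroup.inclusion hle),
      inclusion_comp_mem F hle hβF, fun y => ?_, ?_⟩
    · exact hβy y
    · rw [map_subgroupOf_eq_iff]
      refine ⟨fun y _ => (β _).2, fun z hz => ?_⟩
      refine ⟨⟨((β⁻¹ ⟨z, hz⟩ : R) : Ω), le_sup_right (a := φ.range) (β⁻¹ ⟨z, hz⟩).2⟩, (β⁻¹ ⟨z, hz⟩).2, ?_⟩
      show ((β (Subgroup.inclusion hle ⟨((β⁻¹ ⟨z, hz⟩ : R) : Ω), _⟩) : R) : Ω) = z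
      have : (Subgroup.inclusion hle ⟨((β⁻¹ ⟨z, hz⟩ : R) : Ω),
          le_sup_right (a := φ.range) (β⁻¹ ⟨z, hz⟩).2⟩ : R) = β⁻¹ ⟨z, hz⟩ := Subtype.ext rfl
      rw [this]
      simp

/-- S5281. -/
theorem pstable_iff_frc_normalizers [Finite S] {p : ℕ} [Fact p.Prime] (hS : IsPGroup p S) (F : FusionSystem S)
    (hF : F.IsSaturated p) :
    (∀ Q : Subgroup Ω, F.IsFullyNormalized Q → ∀ χ : MulAut ↥Q, χ ∈ F.autGroup Q →
      (∀ a : ↥Q, (χ a⁻¹) * a * (χ a⁻¹) * (χ (χ a)) = 1) →
        χ ∈ ((pCore p ↥(F.autGroup Q)).map (F.autGroup Q).subtype : Subgroup (MulAut ↥Q))) ↔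
    ∀ R : Subgroup Ω, F.IsFullyNormalized R → F.IsCentric R → F.IsRadical p R →
      ∀ N : FusionSystem (normalizerIn S R), F.IsNormalizerSystem R N →
        (∀ Q : Subgroup Ω, N.IsFullyNormalized Q → ∀ χ : MulAut ↥Q, χ ∈ N.autGroup Q →
          (∀ a : ↥Q, (χ a⁻¹) * a * (χ a⁻¹) * (χ (χ a)) = 1) →
            χ ∈ ((pCore p ↥(N.autGroup Q)).map (N.autGroup Q).subtype : Subgroup (MulAut ↥Q))) := by
  constructor
  · intro h R hR _ _ N hN Q hQ χ hχ hq
    have hQN : Q ≤ normalizerIn S R := hQ.1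
    have hQS : Q ≤ S := hQN.trans (normalizerIn_le S R)
    have hle : N.autGroup Q ≤ F.autGroup Q := by
      intro β hβ
      rw [mem_autGroup_iff N hQN, hN Q] at hβ
      rw [mem_autGroup_iff F hQS]
      exact hβ.1
    exact mem_pCore_of_le hle hχ (pstable_all F h hQS (hle hχ) hq)
  · intro h Q hQ χ hχ hq
    have hQS := hQ.1
    obtain ⟨R, φ, hExt, hRfn, hRc, hRr⟩ := exists_frc hS F hF hQS
    have hRS := hRfn.1
    have hN := normalizerSystem_isNormalizerSystem F R hRS
    have hauteq := autGroup_normalizer_eq_of_ext F hExt _ hN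
    have hφ := hExt.1
    have he := homEquiv_isFIso F hφ rfl
    set e : Q ≃* φ.range := homEquiv F hφ rfl with hedef
    have hQ'N : φ.range ≤ normalizerIn S R := by
      obtain ⟨-, -, hφR, -⟩ := hExt
      rintro _ ⟨x, rfl⟩
      exact le_normalizerIn hRS (hφR x)
    haveI : Finite ↥(normalizerIn S R) := finite_of_le (normalizerIn_le S R)
    have hχ' : MulAut.congr e χ ∈ (normalizerSystem F R hRS).autGroup φ.range := by
      rw [hauteq]
      exact congr_mem_autGroup F he hχ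
    have h1 := pstable_all (normalizerSystem F R hRS) (h R hRfn hRc hRr _ hN) hQ'N hχ' (quad_congr e hq)
    rw [hauteq] at h1
    have h2 := congr_mem_pCore_autGroup (p := p) F he.symm h1
    have e1 : MulAut.congr e.symm (MulAut.congr e χ) = χ := by
      ext x
      simp [MulAut.congr]
    rwa [e1] at h2

end Cfsg.Agent.Lib.Helper26.PStab
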