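import Mathlib
import Cfsg.Prelude.Def_RootSubgroups

set_option autoImplicit false

namespace Cfsg.Agent.Lib.Helper26

open Cfsg

section
variable {k : Type*} [Field k] {M : Type*} [AddCommGroup M] [Module k M]

/-- The unit `1 + n` for a square-zero endomorphism `n`. -/
def sqZeroUnit (n : M →ₗ[k] M) (h : n * n = 0) : LinearMap.GeneralLinearGroup k M :=
  ⟨1 + n, 1 - n, by
    rw [mul_sub, mul_one, add_mul, one_mul, h, add_zero]; abel, by
    rw [mul_add, mul_one, sub_mul, one_mul, h, sub_zero]; abel⟩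

@[simp] theorem sqZeroUnit_val (n : M →ₗ[k] M) (h : n * n = 0) :
    ((sqZeroUnit n h : LinearMap.GeneralLinearGroup k M) : M →ₗ[k] M) = 1 + n := rfl

theorem smul_sq_zero {n : M →ₗ[k] M} (h : n * n = 0) (c : k) : (c • n) * (c • n) = 0 := by
  rw [smul_mul_smul_comm, h, smul_zero]

theorem one_add_pow_of_sq_zero {n : M →ₗ[k] M} (h : n * n = 0) (m : ℕ) :
    (1 + n) ^ m = 1 + m • n := by
  induction m with
  | zero => simp
  | succ m ih =>
    rw [pow_succ, ih, mul_add, mul_one, add_mul, one_mul, smul_mul_assoc, h, smul_zero, add_zero,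
      succ_nsmul]
    abel

/-- product of two square-zero units with `n * n' = 0`. -/
theorem mul_val_of_mul_zero {τ τ' : LinearMap.GeneralLinearGroup k M}
    (h : ((τ : M →ₗ[k] M) - 1) * ((τ' : M →ₗ[k] M) - 1) = 0) :
    ((τ * τ' : LinearMap.GeneralLinearGroup k M) : M →ₗ[k] M) - 1 =
      ((τ : M →ₗ[k] M) - 1) + ((τ' : M →ₗ[k] M) - 1) := by
  have : ((τ * τ' : LinearMap.GeneralLinearGroup k M) : M →ₗ[k] M) =
      (τ : M →ₗ[k] M) * (τ' : M →ₗ[k] M) := rfl
  rw [this]
  have h2 : (τ : M →ₗ[k] M) * (τ' : M →ₗ[k] M) =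
      (1 + ((τ : M →ₗ[k] M) - 1)) * (1 + ((τ' : M →ₗ[k] M) - 1)) := by
    congr 1 <;> abel
  rw [h2, add_mul, mul_add, mul_add, h, one_mul, mul_one, one_mul]
  abel

theorem mul_zero_of_range_le_ker {f g : M →ₗ[k] M} (h : LinearMap.range g ≤ LinearMap.ker f) :
    f * g = 0 := by
  ext x
  have : g x ∈ LinearMap.ker f := h ⟨x, rfl⟩
  simpa using this

theorem range_le_ker_of_sq_zero {f : M →ₗ[k] M} (h : f * f = 0) :
    LinearMap.range f ≤ LinearMap.ker f := by
  rintro _ ⟨x, rfl⟩
  have := LinearMap.congr_fun h x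
  simpa using this

end

section
set_option linter.unusedSectionVars false
variable {k : Type*} [Field k] {M : Type*} [AddCommGroup M] [Module k M] [FiniteDimensional k M]
variable {G : Subgroup (LinearMap.GeneralLinearGroup k M)} {σ : LinearMap.GeneralLinearGroup k M}

theorem sameAction_mul_zero (hσ : σ ∈ minimalQuadraticElements G)
    {τ τ' : LinearMap.GeneralLinearGroup k M}
    (hτ : τ ∈ sameActionClass G σ) (hτ' : τ' ∈ sameActionClass G σ) :
    ((τ : M →ₗ[k] M) - 1) * ((τ' : M →ₗ[k] M) - 1) = 0 := by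
  apply mul_zero_of_range_le_ker
  rw [hτ'.2.2, hτ.2.1]
  exact range_le_ker_of_sq_zero hσ.1.2.1.1

theorem sameAction_self (hσ : σ ∈ minimalQuadraticElements G) : σ ∈ sameActionClass G σ :=
  ⟨hσ, rfl, rfl⟩

/-- Membership in the scalar family of `τ` in terms of square-zero units. -/
theorem scalar_mem (G : Subgroup (LinearMap.GeneralLinearGroup k M))
    {τ : LinearMap.GeneralLinearGroup k M} (hτ : τ ∈ quadraticElements G) (c : k) :
    sqZeroUnit (c • ((τ : M →ₗ[k] M) - 1)) (smul_sq_zero hτ.2.1.1 c) ∈ G :=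
  hτ.2.2 ⟨c, rfl⟩

theorem sameAction_mul (hσ : σ ∈ minimalQuadraticElements G)
    {τ τ' : LinearMap.GeneralLinearGroup k M}
    (hτ : τ ∈ sameActionClass G σ) (hτ' : τ' ∈ sameActionClass G σ) :
    τ * τ' = 1 ∨ τ * τ' ∈ sameActionClass G σ := by
  have h0 := sameAction_mul_zero hσ hτ hτ'
  have h0' := sameAction_mul_zero hσ hτ' hτ
  have hn := sameAction_mul_zero hσ hτ hτ
  have hn' := sameAction_mul_zero hσ hτ' hτ'
  have hval := mul_val_of_mul_zero h0
  by_cases hz : ((τ : M →ₗ[k] M) - 1) + ((τ' : M →ₗ[k] M) - 1) = 0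
  · left
    apply Units.ext
    rw [hz, sub_eq_zero] at hval
    exact hval
  · right
    have hq : τ * τ' ∈ quadraticElements G := by
      refine ⟨G.mul_mem hτ.1.1.1 hτ'.1.1.1, ⟨?_, ?_⟩, ?_⟩
      · rw [hval, add_mul, mul_add, mul_add, hn, hn', h0, h0']; simp
      · rw [hval]; exact hz
      · rintro ρ ⟨c, hc⟩
        have h1 := scalar_mem G hτ.1.1 c
        have h2 := scalar_mem G hτ'.1.1 c
        have : ρ = sqZeroUnit (c • ((τ : M →ₗ[k] M) - 1)) (smul_sq_zero hτ.1.1.2.1.1 c) *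
            sqZeroUnit (c • ((τ' : M →ₗ[k] M) - 1)) (smul_sq_zero hτ'.1.1.2.1.1 c) := by
          apply Units.ext
          rw [hc, hval]
          show _ = (1 + c • ((τ : M →ₗ[k] M) - 1)) * (1 + c • ((τ' : M →ₗ[k] M) - 1))
          rw [add_mul, mul_add, mul_add, smul_mul_smul_comm, h0, smul_zero, one_mul, mul_one,
            one_mul, smul_add]
          abel
        rw [this]
        exact G.mul_mem h1 h2
    have hrange_le : LinearMap.range ((τ * τ' : LinearMap.GeneralLinearGroup k M) - 1 : M →ₗ[k] M) ≤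
        LinearMap.range ((σ : M →ₗ[k] M) - 1) := by
      rw [hval]
      rintro _ ⟨x, rfl⟩
      rw [LinearMap.add_apply]
      refine Submodule.add_mem _ ?_ ?_
      · rw [← hτ.2.2]; exact ⟨x, rfl⟩
      · rw [← hτ'.2.2]; exact ⟨x, rfl⟩
    have hrank_ge : commutatorRank σ ≤ commutatorRank (τ * τ') := hσ.2 _ hq
    have hrange : LinearMap.range ((τ * τ' : LinearMap.GeneralLinearGroup k M) - 1 : M →ₗ[k] M) =
        LinearMap.range ((σ : M →ₗ[k] M) - 1) :=
      Submodule.eq_of_le_of_finrank_le hrange_le hrank_ge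
    have hker_le : LinearMap.ker ((σ : M →ₗ[k] M) - 1) ≤
        LinearMap.ker ((τ * τ' : LinearMap.GeneralLinearGroup k M) - 1 : M →ₗ[k] M) := by
      rw [hval]
      intro x hx
      rw [LinearMap.mem_ker, LinearMap.add_apply]
      have h1 : x ∈ LinearMap.ker ((τ : M →ₗ[k] M) - 1) := by rw [hτ.2.1]; exact hx
      have h2 : x ∈ LinearMap.ker ((τ' : M →ₗ[k] M) - 1) := by rw [hτ'.2.1]; exact hx
      rw [LinearMap.mem_ker] at h1 h2
      rw [h1, h2, add_zero]
    have hker : LinearMap.ker ((τ * τ' : LinearMap.GeneralLinearGroup k M) - 1 : M →ₗ[k] M) =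
        LinearMap.ker ((σ : M →ₗ[k] M) - 1) := by
      symm
      apply Submodule.eq_of_le_of_finrank_eq hker_le
      have e1 := LinearMap.finrank_range_add_finrank_ker ((σ : M →ₗ[k] M) - 1)
      have e2 := LinearMap.finrank_range_add_finrank_ker
        ((τ * τ' : LinearMap.GeneralLinearGroup k M) - 1 : M →ₗ[k] M)
      rw [hrange] at e2
      omega
    refine ⟨⟨hq, fun ψ hψ => ?_⟩, hker, hrange⟩
    have : commutatorRank (τ * τ') = commutatorRank σ := by
      unfold commutatorRank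
      rw [hrange]
    rw [this]
    exact hσ.2 ψ hψ

theorem inv_val_sub_one {τ : LinearMap.GeneralLinearGroup k M}
    (h : ((τ : M →ₗ[k] M) - 1) * ((τ : M →ₗ[k] M) - 1) = 0) :
    ((τ⁻¹ : LinearMap.GeneralLinearGroup k M) : M →ₗ[k] M) - 1 = -((τ : M →ₗ[k] M) - 1) := by
  have h1 : τ⁻¹ = sqZeroUnit (-((τ : M →ₗ[k] M) - 1)) (by rw [neg_mul_neg]; exact h) := by
    rw [inv_eq_iff_mul_eq_one]
    apply Units.ext
    show (τ : M →ₗ[k] M) * (1 + -((τ : M →ₗ[k] M) - 1)) = 1
    generalize hn : (τ : M →ₗ[k] M) - 1 = n at h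
    have : (τ : M →ₗ[k] M) = 1 + n := by rw [← hn]; abel
    rw [this, mul_add, mul_one, mul_neg, add_mul, one_mul, h, add_zero]; abel
  rw [h1]
  simp

theorem sameAction_inv (hσ : σ ∈ minimalQuadraticElements G)
    {τ : LinearMap.GeneralLinearGroup k M} (hτ : τ ∈ sameActionClass G σ) :
    τ⁻¹ ∈ sameActionClass G σ := by
  have hn := sameAction_mul_zero hσ hτ hτ
  have hval := inv_val_sub_one hn
  have hrange : LinearMap.range ((τ⁻¹ : LinearMap.GeneralLinearGroup k M) - 1 : M →ₗ[k] M) =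
      LinearMap.range ((σ : M →ₗ[k] M) - 1) := by
    rw [hval, LinearMap.range_neg, hτ.2.2]
  have hker : LinearMap.ker ((τ⁻¹ : LinearMap.GeneralLinearGroup k M) - 1 : M →ₗ[k] M) =
      LinearMap.ker ((σ : M →ₗ[k] M) - 1) := by
    rw [hval, LinearMap.ker_neg, hτ.2.1]
  have hq : τ⁻¹ ∈ quadraticElements G := by
    refine ⟨G.inv_mem hτ.1.1.1, ⟨?_, ?_⟩, ?_⟩
    · rw [hval, neg_mul_neg]; exact hn
    · rw [hval, neg_ne_zero]; exact hτ.1.1.2.1.2
    · rintro ρ ⟨c, hc⟩
      apply hτ.1.1.2.2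
      refine ⟨-c, ?_⟩
      rw [hc, hval, smul_neg, neg_smul]
  refine ⟨⟨hq, fun ψ hψ => ?_⟩, hker, hrange⟩
  have : commutatorRank τ⁻¹ = commutatorRank σ := by
    unfold commutatorRank
    rw [hrange]
  rw [this]
  exact hσ.2 ψ hψ

/-- The subgroup with carrier `E_σ ∪ {1}`. -/
def sameActionSub (hσ : σ ∈ minimalQuadraticElements G) :
    Subgroup (LinearMap.GeneralLinearGroup k M) where
  carrier := sameActionClass G σ ∪ {1}
  one_mem' := Or.inr rfl
  mul_mem' := by
    rintro a b (ha | ha) (hb | hb)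
    · rcases sameAction_mul hσ ha hb with h | h
      · exact Or.inr h
      · exact Or.inl h
    · rw [Set.mem_singleton_iff] at hb; rw [hb, mul_one]; exact Or.inl ha
    · rw [Set.mem_singleton_iff] at ha; rw [ha, one_mul]; exact Or.inl hb
    · rw [Set.mem_singleton_iff] at ha hb; rw [ha, hb, mul_one]; exact Or.inr rfl
  inv_mem' := by
    rintro a (ha | ha)
    · exact Or.inl (sameAction_inv hσ ha)
    · rw [Set.mem_singleton_iff] at ha; rw [ha, inv_one]; exact Or.inr rfl

theorem sameActionSubgroup_coe (hσ : σ ∈ minimalQuadraticElements G) :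
    (sameActionSubgroup G σ : Set (LinearMap.GeneralLinearGroup k M)) =
      sameActionClass G σ ∪ {1} := by
  apply Set.Subset.antisymm
  · have : sameActionSubgroup G σ ≤ sameActionSub hσ :=
      (Subgroup.closure_le _).mpr (fun x hx => Or.inl hx)
    exact this
  · rintro x (hx | hx)
    · exact Subgroup.subset_closure hx
    · rw [Set.mem_singleton_iff] at hx; rw [hx]; exact Subgroup.one_mem _

theorem sameAction_comm (hσ : σ ∈ minimalQuadraticElements G)
    {τ τ' : LinearMap.GeneralLinearGroup k M}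
    (hτ : τ ∈ sameActionClass G σ) (hτ' : τ' ∈ sameActionClass G σ) : τ * τ' = τ' * τ := by
  have h1 := mul_val_of_mul_zero (sameAction_mul_zero hσ hτ hτ')
  have h2 := mul_val_of_mul_zero (sameAction_mul_zero hσ hτ' hτ)
  apply Units.ext
  have : ((τ * τ' : LinearMap.GeneralLinearGroup k M) : M →ₗ[k] M) - 1 =
      ((τ' * τ : LinearMap.GeneralLinearGroup k M) : M →ₗ[k] M) - 1 := by
    rw [h1, h2, add_comm]
  exact sub_left_injective this

theorem quadratic_main (hσ : σ ∈ minimalQuadraticElements G) :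
    (sameActionSubgroup G σ : Set (LinearMap.GeneralLinearGroup k M)) = sameActionClass G σ ∪ {1} ∧
    IsMulCommutative ↥(sameActionSubgroup G σ) ∧
    (∀ p : ℕ, p.Prime → ringChar k = p → ∀ x ∈ sameActionSubgroup G σ, x ^ p = 1) := by
  have hcoe := sameActionSubgroup_coe hσ
  have hmem : ∀ x, x ∈ sameActionSubgroup G σ → x ∈ sameActionClass G σ ∨ x = 1 := by
    intro x hx
    have : x ∈ (sameActionSubgroup G σ : Set (LinearMap.GeneralLinearGroup k M)) := hx
    rw [hcoe] at this
    exact this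
  refine ⟨hcoe, ⟨⟨fun a b => ?_⟩⟩, ?_⟩
  · apply Subtype.ext
    show (a : LinearMap.GeneralLinearGroup k M) * b = b * a
    rcases hmem a a.2 with ha | ha <;> rcases hmem b b.2 with hb | hb
    · exact sameAction_comm hσ ha hb
    · rw [hb, mul_one, one_mul]
    · rw [ha, mul_one, one_mul]
    · rw [ha, hb]
  · intro p hp hchar x hx
    rcases hmem x hx with h | h
    · have hn := sameAction_mul_zero hσ h h
      apply Units.ext
      rw [Units.val_pow_eq_pow_val]
      have : (x : M →ₗ[k] M) = 1 + ((x : M →ₗ[k] M) - 1) := by abel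
      rw [this, one_add_pow_of_sq_zero hn]
      have hp0 : (p : k) = 0 := by
        have := ringChar.charP k
        rw [← hchar]
        exact CharP.cast_eq_zero k (ringChar k)
      have : p • ((x : M →ₗ[k] M) - 1) = (p : k) • ((x : M →ₗ[k] M) - 1) := by
        rw [Nat.cast_smul_eq_nsmul]
      rw [this, hp0, zero_smul, add_zero]
      rfl
    · rw [h, one_pow]

end

end Cfsg.Agent.Lib.Helper26
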