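import Mathlib
import Cfsg.Prelude.Def_CaseTheorems
import Cfsg.Prelude.Def_OddOrderLocal
import Cfsg.Agent.Lib.Helper26.EssChain
import Cfsg.Agent.Lib.Helper26.R5Defs
import Cfsg.Agent.Lib.Helper29.R5JTools
import Cfsg.Agent.Lib.Helper20.R5G
import Cfsg.Agent.Lib.Helper8.R5B
import Cfsg.Agent.Lib.Helper10.PGroupBasic
import Cfsg.Agent.Lib.Helper1.OmegaQuot
import Cfsg.Agent.Lib.Helper27.Blackburn2
set_option autoImplicit false
open scoped commutatorElement

/-!
helper26: Case I, first half, for S5289: `Ω₁(E)` abelian forces `E ≅ C_p × C_p`.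
-/

namespace Cfsg.Agent.Lib.Helper26.R5

open Cfsg Cfsg.Agent.Lib.Helper26

section

variable {E : Type*} [Group E] [Finite E] {p : ℕ} [Fact p.Prime]

/-- the stabilizer of the chain `1 ≤ L ≤ D` in `X` (as a subgroup of `X`) -/
def chainStabIn (X : Subgroup (MulAut E)) (L : Subgroup E) : Subgroup X where
  carrier := {γ | (∀ x ∈ L, (γ : MulAut E) x = x) ∧ ∀ x : E, x ^ p = 1 → x⁻¹ * (γ : MulAut E) x ∈ L}
  one_mem' := ⟨fun _ _ => rfl, fun x _ => by simp⟩
  mul_mem' := by
    rintro a b ⟨ha1, ha2⟩ ⟨hb1, hb2⟩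
    refine ⟨fun x hx => ?_, fun x hx => ?_⟩
    · show (a : MulAut E) ((b : MulAut E) x) = x
      rw [hb1 x hx, ha1 x hx]
    · show x⁻¹ * (a : MulAut E) ((b : MulAut E) x) ∈ L
      have h1 := hb2 x hx
      have h2 := ha2 x hx
      have e : (b : MulAut E) x = x * (x⁻¹ * (b : MulAut E) x) := by group
      rw [e, map_mul, ha1 _ h1]
      have : x⁻¹ * ((a : MulAut E) x * (x⁻¹ * (b : MulAut E) x)) =
          (x⁻¹ * (a : MulAut E) x) * (x⁻¹ * (b : MulAut E) x) := by group
      rw [this]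
      exact L.mul_mem h2 h1
  inv_mem' := by
    rintro a ⟨ha1, ha2⟩
    have hinv : ∀ x ∈ L, ((a : MulAut E)⁻¹) x = x := by
      intro x hx
      have := ha1 x hx
      calc ((a : MulAut E)⁻¹) x = ((a : MulAut E)⁻¹) ((a : MulAut E) x) := by rw [this]
        _ = x := by simp
    refine ⟨fun x hx => hinv x hx, fun x hx => ?_⟩
    show x⁻¹ * ((a : MulAut E)⁻¹) x ∈ L
    have hx' : (((a : MulAut E)⁻¹) x) ^ p = 1 := by rw [← map_pow, hx, map_one]
    have h2 := ha2 _ hx'
    rw [MulAut.apply_inv_self] at h2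
    -- `h2 : (a⁻¹ x)⁻¹ * x ∈ L`
    have h3 := L.inv_mem h2
    have e : ((((a : MulAut E)⁻¹) x)⁻¹ * x)⁻¹ = x⁻¹ * ((a : MulAut E)⁻¹) x := by group
    rwa [e] at h3

theorem chainStabIn_normal (X : Subgroup (MulAut E)) (L : Subgroup E)
    (hL : ∀ γ ∈ X, ∀ x, x ∈ L ↔ γ x ∈ L) : (chainStabIn (p := p) X L).Normal := by
  constructor
  rintro a ⟨ha1, ha2⟩ g
  have hg := g.2
  refine ⟨fun x hx => ?_, fun x hx => ?_⟩
  · show (g : MulAut E) ((a : MulAut E) (((g : MulAut E)⁻¹) x)) = x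
    have hx' : ((g : MulAut E)⁻¹) x ∈ L := (hL _ (X.inv_mem hg) x).mp hx
    rw [ha1 _ hx']
    simp
  · show x⁻¹ * (g : MulAut E) ((a : MulAut E) (((g : MulAut E)⁻¹) x)) ∈ L
    have hx' : (((g : MulAut E)⁻¹) x) ^ p = 1 := by rw [← map_pow, hx, map_one]
    have h2 := ha2 _ hx'
    have h3 := (hL _ hg _).mp h2
    rw [map_mul, map_inv, MulAut.apply_inv_self] at h3
    exact h3

theorem chainStabIn_isPGroup (hp2 : p ≠ 2) (hE : IsPGroup p E) (X : Subgroup (MulAut E)) (L : Subgroup E)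
    (hLexp : ∀ x ∈ L, x ^ p = 1) : IsPGroup p (chainStabIn (p := p) X L) := by
  rintro ⟨γ, hγ1, hγ2⟩
  obtain ⟨j, hj⟩ := Cfsg.Agent.Lib.Helper29.R5Leaf.exists_pow_eq_one_of_stab hp2 hE (γ : MulAut E) L hLexp
    hγ1 hγ2
  refine ⟨j, ?_⟩
  apply Subtype.ext
  apply Subtype.ext
  exact hj

/-- no `X`-invariant chain `1 ≤ L ≤ D` with steps of order at most `p` -/
theorem no_chain_aux (hp2 : p ≠ 2) (hE : IsPGroup p E) (X : Subgroup (MulAut E)) (hd : EssData p E X)
    (D L : Subgroup E) (hD : ∀ x, x ∈ D ↔ x ^ p = 1)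
    (hDcomm : ∀ x ∈ D, ∀ y ∈ D, x * y = y * x) (hLD : L ≤ D)
    (hL : ∀ γ ∈ X, ∀ x, x ∈ L ↔ γ x ∈ L)
    (hc1 : L = ⊥ ∨ Nat.card L = p) (hc2 : Nat.card D = p * Nat.card L) : False := by
  obtain ⟨α, hαX, hαInn, j, hαj⟩ := hd.out
  have hDinv : ∀ γ : MulAut E, ∀ x, x ∈ D ↔ γ x ∈ D := by
    intro γ x
    rw [hD, hD, ← map_pow]
    constructor
    · intro h; rw [h, map_one]
    · intro h
      exact γ.injective (by rw [h, map_one])
  have hLexp : ∀ x ∈ L, x ^ p = 1 := fun x hx => (hD x).mp (hLD hx)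
  have h1 : ∀ x ∈ L, α x = x := by
    rcases hc1 with h | h
    · intro x hx
      rw [h, Subgroup.mem_bot] at hx
      rw [hx, map_one]
    · intro x hx
      have hn : ((⊥ : Subgroup E).subgroupOf L).Normal := by
        rw [Subgroup.bot_subgroupOf]
        infer_instance
      have := triv_on_section' L ⊥ bot_le hn (by rw [Subgroup.card_bot, mul_one, h]) α (hL α hαX)
        (fun y => by simp) hαj x hx
      rw [Subgroup.mem_bot, inv_mul_eq_one] at this
      exact this.symm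
  have h2 : ∀ x : E, x ^ p = 1 → x⁻¹ * α x ∈ L := by
    intro x hx
    have hn : (L.subgroupOf D).Normal := by
      constructor
      rintro ⟨a, ha⟩ haL ⟨g, hg⟩
      rw [Subgroup.mem_subgroupOf] at haL ⊢
      show g * a * g⁻¹ ∈ L
      rw [hDcomm g hg a ha, mul_inv_cancel_right]
      exact haL
    exact triv_on_section' D L hLD hn hc2 α (hDinv α) (hL α hαX) hαj x ((hD x).mpr hx)
  have hmem : (⟨α, hαX⟩ : X) ∈ chainStabIn (p := p) X L := ⟨h1, h2⟩
  exact hαInn (hd.core _ (chainStabIn_normal X L hL) (chainStabIn_isPGroup hp2 hE X L hLexp) _ hmem)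

/-- a subgroup of order dividing `p²`, nontrivial, not of order `p`, has order `p²` -/
theorem card_eq_sq_of (hpp : p.Prime) {n : ℕ} (hdvd : n ∣ p ^ 2) (h1 : n ≠ 1) (hp : n ≠ p) : n = p ^ 2 := by
  obtain ⟨i, hi, rfl⟩ := (Nat.dvd_prime_pow hpp).mp hdvd
  interval_cases i
  · exact absurd (pow_zero p) h1
  · exact absurd (pow_one p) hp
  · rfl

theorem caseI_abelian_backup (hp : 3 < p)
    (hE : IsPGroup p E) (hrk : Cfsg.PRankLE p 2 E)
    (X : Subgroup (MulAut E)) (hd : EssData p E X)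
    (hab : ∀ x y : E, x ^ p = 1 → y ^ p = 1 → x * y = y * x) :
    (∀ x y : E, x * y = y * x) ∧ (∀ x : E, x ^ p = 1) ∧ Nat.card E = p ^ 2 := by
  classical
  have hpp : p.Prime := Fact.out
  have hp2 : p ≠ 2 := by omega
  have hD : ∀ x, x ∈ omegaSub p E ↔ x ^ p = 1 :=
    fun x => Cfsg.Agent.Lib.Helper20.R5Leaf.mem_omegaSub_iff hp hE hrk x
  have hDcomm : ∀ x ∈ omegaSub p E, ∀ y ∈ omegaSub p E, x * y = y * x :=
    fun x hx y hy => hab x y ((hD x).mp hx) ((hD y).mp hy)
  have hinvpow : ∀ γ : MulAut E, ∀ x : E, x ^ p = 1 ↔ (γ x) ^ p = 1 := by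
    intro γ x
    rw [← map_pow]
    constructor
    · intro h; rw [h, map_one]
    · intro h
      exact γ.injective (by rw [h, map_one])
  have hDinv : ∀ γ : MulAut E, ∀ x, x ∈ omegaSub p E ↔ γ x ∈ omegaSub p E := by
    intro γ x
    rw [hD, hD]
    exact hinvpow γ x
  -- `|D| ≤ p²`
  have hDle : Nat.card ↥(omegaSub p E) ≤ p ^ 2 := by
    apply hrk
    · constructor
      constructor
      rintro ⟨a, ha⟩ ⟨b, hb⟩
      exact Subtype.ext (hDcomm a ha b hb)
    · intro a ha
      exact (hD a).mp ha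
  -- `E` is nontrivial, `D ≠ ⊥`
  obtain ⟨α, hαX, hαInn, j, hαj⟩ := hd.out
  have hEnt : Nontrivial E := by
    by_contra h
    rw [not_nontrivial_iff_subsingleton] at h
    apply hαInn
    refine ⟨1, ?_⟩
    ext x
    exact Subsingleton.elim _ _
  have hDne : omegaSub p E ≠ ⊥ := by
    have hdvd : p ∣ Nat.card E := by
      rcases hE.card_eq_or_dvd with h | h
      · exact absurd (Finite.one_lt_card (α := E)) (by rw [h]; exact lt_irrefl 1)
      · exact h
    obtain ⟨x, hx⟩ := exists_prime_orderOf_dvd_card' p hdvd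
    intro h
    have hxD : x ∈ omegaSub p E := (hD x).mpr (by rw [← hx]; exact pow_orderOf_eq_one x)
    rw [h, Subgroup.mem_bot] at hxD
    rw [hxD, orderOf_one] at hx
    exact hpp.one_lt.ne hx
  have hDdvd : Nat.card ↥(omegaSub p E) ∣ p ^ 2 := by
    obtain ⟨i, hi⟩ := (hE.to_subgroup (omegaSub p E)).exists_card_eq
    rw [hi] at hDle ⊢
    exact pow_dvd_pow p ((Nat.pow_le_pow_iff_right hpp.one_lt).mp hDle)
  have hDne1 : Nat.card ↥(omegaSub p E) ≠ 1 := fun h => hDne (Subgroup.card_eq_one.mp h)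
  -- `|D| = p²`
  have hDcard : Nat.card ↥(omegaSub p E) = p ^ 2 := by
    apply card_eq_sq_of hpp hDdvd hDne1
    intro h
    exact no_chain_aux hp2 hE X hd (omegaSub p E) ⊥ hD hDcomm bot_le (fun γ _ x => by simp) (Or.inl rfl)
      (by rw [Subgroup.card_bot, mul_one, h])
  -- no invariant subgroup of order `p`
  have hirr : ∀ L : Subgroup E, L ≤ omegaSub p E → (∀ γ ∈ X, ∀ x, x ∈ L ↔ γ x ∈ L) → Nat.card L ≠ p := by
    intro L hLD hL hLc
    exact no_chain_aux hp2 hE X hd (omegaSub p E) L hD hDcomm hLD hL (Or.inr hLc)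
      (by rw [hDcard, hLc, sq])
  have hirr' : ∀ L : Subgroup E, L ≤ omegaSub p E → (∀ γ ∈ X, ∀ x, x ∈ L ↔ γ x ∈ L) → L ≠ ⊥ →
      L = omegaSub p E := by
    intro L hLD hL hLne
    have hdvd : Nat.card L ∣ p ^ 2 := by
      rw [← hDcard]
      exact Subgroup.card_dvd_of_le hLD
    have := card_eq_sq_of hpp hdvd (fun h => hLne (Subgroup.card_eq_one.mp h)) (hirr L hLD hL)
    exact Subgroup.eq_of_le_of_card_ge hLD (by rw [this, hDcard])
  -- `D ≤ Z(E)`
  have hDcen : omegaSub p E ≤ Subgroup.center E := by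
    have hLne : omegaSub p E ⊓ Subgroup.center E ≠ ⊥ := by
      obtain ⟨x, hxD, hxZ, hx1⟩ := Cfsg.Agent.Lib.Helper10.exists_mem_center_of_normal_ne_bot p hE
        (omegaSub p E) hDne
      intro h
      have : x ∈ omegaSub p E ⊓ Subgroup.center E := ⟨hxD, hxZ⟩
      rw [h, Subgroup.mem_bot] at this
      exact hx1 this
    have hL : ∀ γ ∈ X, ∀ x, x ∈ omegaSub p E ⊓ Subgroup.center E ↔ γ x ∈ omegaSub p E ⊓ Subgroup.center E := by
      intro γ _ x
      rw [Subgroup.mem_inf, Subgroup.mem_inf, ← hDinv γ x]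
      have hc : x ∈ Subgroup.center E ↔ γ x ∈ Subgroup.center E := by
        rw [Subgroup.mem_center_iff, Subgroup.mem_center_iff]
        constructor
        · intro h g
          obtain ⟨g', rfl⟩ := γ.surjective g
          rw [← map_mul, ← map_mul, h g']
        · intro h g
          apply γ.injective
          rw [map_mul, map_mul, h (γ g)]
      rw [hc]
    have := hirr' _ inf_le_left hL hLne
    rw [← this]
    exact inf_le_right
  -- `E` is metacyclic
  have hmeta : Cfsg.IsMetacyclic E := by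
    apply Cfsg.Agent.Lib.Helper27.Blackburn.isMetacyclic_of_index_agemo_le hp2 hE
    have hΩ : Nat.card (Cfsg.omegaOne p (⊤ : Subgroup E)) ≤ p ^ 2 := by
      rw [Cfsg.Agent.Lib.Helper1.OmegaQuot.omegaOne_top_eq]
      exact hDle
    have h1 := Cfsg.Agent.Lib.Helper1.OmegaQuot.small_omega_quotient hp hE hΩ
      (Cfsg.Agent.Lib.Helper22.RankTwoChar.agemo p E)
    have h2 : Cfsg.omegaOne p (⊤ : Subgroup (E ⧸ Cfsg.Agent.Lib.Helper22.RankTwoChar.agemo p E)) = ⊤ := by
      rw [Cfsg.Agent.Lib.Helper1.OmegaQuot.omegaOne_top_eq, eq_top_iff]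
      intro q _
      apply Subgroup.subset_closure
      induction q using QuotientGroup.induction_on with
      | H x =>
        show ((x : E ⧸ Cfsg.Agent.Lib.Helper22.RankTwoChar.agemo p E)) ^ p = 1
        rw [← QuotientGroup.mk_pow, QuotientGroup.eq_one_iff]
        exact Cfsg.Agent.Lib.Helper22.RankTwoChar.pow_mem_agemo p x
    rw [h2, Subgroup.card_top] at h1
    rw [Subgroup.index_eq_card]
    exact h1
  -- `E` is abelian
  have hcomm : ∀ x y : E, x * y = y * x := by
    obtain ⟨N, hNn, hNcyc, hQcyc⟩ := hmeta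
    have hCN : commutator E ≤ N := by
      haveI := hNn
      haveI := hQcyc
      have : IsMulCommutative (E ⧸ N) := ⟨⟨fun a b => (IsCyclic.commGroup (α := E ⧸ N)).mul_comm a b⟩⟩
      exact (Subgroup.Normal.quotient_commutative_iff_commutator_le (N := N)).mp this
    have hCbot : commutator E = ⊥ := by
      by_contra hC
      have hL : ∀ γ ∈ X, ∀ x, x ∈ commutator E ⊓ omegaSub p E ↔ γ x ∈ commutator E ⊓ omegaSub p E := by
        intro γ _ x
        rw [Subgroup.mem_inf, Subgroup.mem_inf, ← hDinv γ x]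
        have hc : x ∈ commutator E ↔ γ x ∈ commutator E := by
          have hchar : (commutator E).Characteristic := inferInstance
          have h1 := Subgroup.characteristic_iff_comap_eq.mp hchar γ
          constructor
          · intro h
            rw [← h1] at h
            exact h
          · intro h
            rw [← h1]
            exact h
        rw [hc]
      have hLne : commutator E ⊓ omegaSub p E ≠ ⊥ := by
        have hCp : IsPGroup p ↥(commutator E) := hE.to_subgroup _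
        have hdvd : p ∣ Nat.card ↥(commutator E) := by
          rcases hCp.card_eq_or_dvd with h | h
          · exact absurd (Subgroup.card_eq_one.mp h) hC
          · exact h
        obtain ⟨x, hx⟩ := exists_prime_orderOf_dvd_card' p hdvd
        intro h
        have hx1 : ((x : E)) ^ p = 1 := by
          have := pow_orderOf_eq_one x
          rw [hx] at this
          have h2 := congrArg Subtype.val this
          simpa using h2
        have hmem : (x : E) ∈ commutator E ⊓ omegaSub p E := ⟨x.2, (hD _).mpr hx1⟩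
        rw [h, Subgroup.mem_bot] at hmem
        have : x = 1 := Subtype.ext hmem
        rw [this, orderOf_one] at hx
        exact hpp.one_lt.ne hx
      have hLcard : Nat.card ↥(commutator E ⊓ omegaSub p E) = p := by
        haveI := hNcyc
        have hLN : commutator E ⊓ omegaSub p E ≤ N := inf_le_left.trans hCN
        haveI : IsCyclic ↥(commutator E ⊓ omegaSub p E) := Subgroup.isCyclic_of_le hLN
        have h1 : Monoid.exponent ↥(commutator E ⊓ omegaSub p E) ∣ p := by
          apply Monoid.exponent_dvd_of_forall_pow_eq_one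
          rintro ⟨x, hx⟩
          apply Subtype.ext
          rw [Subgroup.coe_pow, Subgroup.coe_one]
          exact (hD x).mp hx.2
        rw [IsCyclic.exponent_eq_card] at h1
        rcases (Nat.dvd_prime hpp).mp h1 with h | h
        · exact absurd (Subgroup.card_eq_one.mp h) hLne
        · exact h
      exact hirr _ inf_le_right hL hLcard
    intro x y
    have h1 : ⁅x, y⁆ ∈ commutator E :=
      Subgroup.commutator_mem_commutator (Subgroup.mem_top x) (Subgroup.mem_top y)
    rw [hCbot, Subgroup.mem_bot, commutatorElement_eq_one_iff_mul_comm] at h1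
    exact h1
  refine ⟨hcomm, ?_⟩
  -- the exponent
  have hexists : ∃ e : ℕ, ∀ x : E, x ^ p ^ e = 1 := by
    obtain ⟨e, he⟩ := hE.exists_card_eq
    exact ⟨e, fun x => by rw [← he]; exact pow_card_eq_one'⟩
  have hemin : ∀ m, m < Nat.find hexists → ¬ ∀ x : E, x ^ p ^ m = 1 := fun m hm => Nat.find_min hexists hm
  have hespec := Nat.find_spec hexists
  obtain ⟨e, he⟩ : ∃ e, e = Nat.find hexists := ⟨_, rfl⟩
  rw [← he] at hemin hespec
  have he0 : e ≠ 0 := by
    intro h0
    rw [h0] at hespec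
    obtain ⟨a, b, hab'⟩ := hEnt
    apply hab'
    have ha := hespec a
    have hb := hespec b
    rw [pow_zero, pow_one] at ha hb
    rw [ha, hb]
  obtain ⟨k, rfl⟩ : ∃ k, e = k + 1 := Nat.exists_eq_succ_of_ne_zero he0
  have hk1 : ∀ x : E, (x ^ p ^ k) ^ p = 1 := by
    intro x
    rw [← pow_mul, ← pow_succ]
    exact hespec x
  obtain ⟨x₀, hx₀⟩ : ∃ x₀ : E, x₀ ^ p ^ k ≠ 1 := by
    have := hemin k (Nat.lt_succ_self k)
    push Not at this
    exact this
  -- the image of the `p^k`-power map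
  let P : E →* E :=
    { toFun := fun x => x ^ p ^ k
      map_one' := one_pow _
      map_mul' := fun a b => (Commute.mul_pow (hcomm a b) _) }
  have hPle : P.range ≤ omegaSub p E := by
    rintro _ ⟨x, rfl⟩
    exact (hD _).mpr (hk1 x)
  have hPinv : ∀ γ ∈ X, ∀ x, x ∈ P.range ↔ γ x ∈ P.range := by
    intro γ _ x
    constructor
    · rintro ⟨y, rfl⟩
      exact ⟨γ y, (map_pow γ y _).symm⟩
    · rintro ⟨y, hy⟩
      refine ⟨γ⁻¹ y, ?_⟩
      apply γ.injective
      show γ ((γ⁻¹ y) ^ p ^ k) = γ x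
      rw [map_pow, MulAut.apply_inv_self]
      exact hy
  have hPne : P.range ≠ ⊥ := by
    intro h
    have : P x₀ ∈ P.range := ⟨x₀, rfl⟩
    rw [h, Subgroup.mem_bot] at this
    exact hx₀ this
  have hPeq := hirr' _ hPle hPinv hPne
  have hk2 : ∀ d : E, d ^ p = 1 → ∃ x : E, x ^ p ^ k = d := by
    intro d hd'
    have : d ∈ P.range := by rw [hPeq]; exact (hD d).mpr hd'
    obtain ⟨x, hx⟩ := this
    exact ⟨x, hx⟩
  -- an element of order `p` of `X`
  have hInn1 : ∀ γ : MulAut E, γ ∈ Inn E → γ = 1 := by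
    rintro _ ⟨e, rfl⟩
    ext x
    show e * x * e⁻¹ = x
    rw [hcomm e x, mul_inv_cancel_right]
  have hα1 : α ≠ 1 := fun h => hαInn (h ▸ (Inn E).one_mem)
  obtain ⟨t, htj, hot⟩ := (Nat.dvd_prime_pow hpp).mp (orderOf_dvd_of_pow_eq_one hαj)
  have ht0 : t ≠ 0 := by
    intro h0
    rw [h0, pow_zero, orderOf_eq_one_iff] at hot
    exact hα1 hot
  obtain ⟨s', rfl⟩ : ∃ s', t = s' + 1 := Nat.exists_eq_succ_of_ne_zero ht0
  have hβp : (α ^ p ^ s') ^ p = 1 := by
    rw [← pow_mul, ← pow_succ, ← hot]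
    exact pow_orderOf_eq_one α
  have hβ1 : α ^ p ^ s' ≠ 1 := by
    intro h
    have h1 := orderOf_dvd_of_pow_eq_one h
    rw [hot] at h1
    have := (Nat.pow_dvd_pow_iff_le_right hpp.one_lt).mp h1
    omega
  have hβX : α ^ p ^ s' ∈ X := X.pow_mem hαX _
  obtain ⟨d₀, hd₀, hβd⟩ : ∃ d₀ : E, d₀ ^ p = 1 ∧ (α ^ p ^ s') d₀ ≠ d₀ := by
    by_contra hcon
    push Not at hcon
    apply hβ1
    apply hInn1
    have hmem : (⟨α ^ p ^ s', hβX⟩ : X) ∈ chainStabIn (p := p) X ⊥ := by
      refine ⟨fun x hx => ?_, fun x hx => ?_⟩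
      · rw [Subgroup.mem_bot] at hx
        rw [hx, map_one]
      · show x⁻¹ * (α ^ p ^ s') x ∈ (⊥ : Subgroup E)
        rw [hcon x hx, inv_mul_cancel]
        exact Subgroup.one_mem _
    exact hd.core _ (chainStabIn_normal X ⊥ (fun γ _ x => by simp))
      (chainStabIn_isPGroup hp2 hE X ⊥ (fun x hx => by rw [Subgroup.mem_bot] at hx; rw [hx, one_pow])) _ hmem
  have hΩ : Nat.card {x : E // x ^ p = 1} = p ^ 2 := by
    rw [← hDcard]
    exact Nat.card_congr (Equiv.subtypeEquivRight (fun x => (hD x).symm))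
  have hk0 : k = 0 := Cfsg.Agent.Lib.Helper8.R5Leaf.abelian_exponent hp hcomm hE hΩ k hk1 hk2
    (α ^ p ^ s') hβp d₀ hd₀ hβd
  subst hk0
  have hall : ∀ x : E, x ^ p = 1 := by
    intro x
    have := hk1 x
    rwa [pow_zero, pow_one] at this
  refine ⟨hall, ?_⟩
  rw [← hDcard]
  have htop : omegaSub p E = ⊤ := by
    rw [eq_top_iff]
    intro x _
    exact (hD x).mpr (hall x)
  rw [htop, Subgroup.card_top]

end

end Cfsg.Agent.Lib.Helper26.R5
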