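import Cfsg.Agent.Lib.Helper26.OliverB
import Cfsg.Agent.Lib.Helper26.CenSD
import Cfsg.Agent.Lib.Helper26.FSNormalCrit
import Cfsg.Agent.Lib.Helper26.R5Defs
set_option autoImplicit false

/-!
helper26: fusion-system glue for S5289, part A: the conjugation action `N_S(P) → Aut(P)`, the extension
property from receptivity, normal `p`-subgroups of `Aut_F(P)` inside `Aut_S(P)`, rank transfer.
-/

namespace Cfsg.Agent.Lib.Helper26.R5

open Cfsg Cfsg.FusionSystem Cfsg.Agent.Lib.Helper26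

variable {Ω : Type*} [Group Ω] {S : Subgroup Ω}

/-- the conjugation action of `N_S(P)` on `P` -/
def conjAct (S P : Subgroup Ω) : ↥(normalizerIn S P) →* MulAut ↥P :=
  P.normalizerMonoidHom.comp (Subgroup.inclusion (inf_le_right : normalizerIn S P ≤ Subgroup.normalizer (P : Set Ω)))

theorem conjAct_apply_coe (S P : Subgroup Ω) (t : ↥(normalizerIn S P)) (x : ↥P) :
    ((conjAct S P t x : ↥P) : Ω) = (t : Ω) * (x : Ω) * (t : Ω)⁻¹ := rfl

theorem incl_conjAct (S P : Subgroup Ω) (hP : P ≤ S) (t : ↥(normalizerIn S P)) (x : ↥P) :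
    Subgroup.inclusion (le_normalizerIn hP) (conjAct S P t x) =
      t * Subgroup.inclusion (le_normalizerIn hP) x * t⁻¹ := Subtype.ext rfl

theorem conjAct_mem_autGroup (F : FusionSystem S) {P : Subgroup Ω} (hP : P ≤ S) (t : ↥(normalizerIn S P)) :
    conjAct S P t ∈ F.autGroup P :=
  autInducedBy_le_autGroup F hP (normalizerMonoidHom_mem_autInducedBy t.2.1 t.2.2)

/-- elements of `Aut_F(P)` normalizing `Aut_S(P)` extend to `N_S(P)` when `P` is receptive -/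
theorem exists_extension_of_normalizes [Finite S] (F : FusionSystem S) {P : Subgroup Ω} (hrec : F.IsReceptive P)
    (τ : MulAut ↥P) (hτ : τ ∈ F.autGroup P)
    (hn : ∀ t : ↥(normalizerIn S P), ∃ t' : ↥(normalizerIn S P), τ * conjAct S P t * τ⁻¹ = conjAct S P t') :
    ∃ τ' ∈ F.autGroup (normalizerIn S P), ∀ e : ↥P,
      τ' (Subgroup.inclusion (le_normalizerIn hrec.1) e) = Subgroup.inclusion (le_normalizerIn hrec.1) (τ e) := by
  have hN : normalizerIn S P ≤ extender S P (equivHom (τ : ↥P ≃* ↥P)) := by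
    intro g hg
    rw [mem_extender_iff]
    refine ⟨hg.1, hg.2, ?_⟩
    obtain ⟨t', ht'⟩ := hn ⟨g, hg⟩
    refine ⟨(t' : Ω), t'.2.1, ?_⟩
    intro x hx
    have h1 := DFunLike.congr_fun ht' (τ x)
    have h2 : (τ * conjAct S P ⟨g, hg⟩ * τ⁻¹) (τ x) = τ (conjAct S P ⟨g, hg⟩ x) := by
      simp [MulAut.mul_apply]
    rw [h2] at h1
    have h3 : conjAct S P ⟨g, hg⟩ x = ⟨g * x * g⁻¹, hx⟩ := Subtype.ext rfl
    rw [h3] at h1
    have h4 := congrArg Subtype.val h1
    rw [conjAct_apply_coe] at h4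
    exact h4
  obtain ⟨β, hβ, hβx⟩ := CenS.exists_extension_normalizer F hrec τ hτ hN
  exact ⟨β, hβ, hβx⟩

/-- normal `p`-subgroups of `Aut_F(P)` lie in `Aut_S(P)` when `P` is fully automized -/
theorem mem_conjAct_range_of_normal [Finite S] (F : FusionSystem S) {p : ℕ} [Fact p.Prime] {P : Subgroup Ω}
    (hFA : F.IsFullyAutomized p P) (N : Subgroup ↥(F.autGroup P)) (hN : N.Normal) (hNp : IsPGroup p N)
    (γ : ↥(F.autGroup P)) (hγ : γ ∈ N) : ∃ t : ↥(normalizerIn S P), (γ : MulAut ↥P) = conjAct S P t := by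
  have hBp : IsPGroup p ↥(N.map (F.autGroup P).subtype) := hNp.map _
  have hB : N.map (F.autGroup P).subtype ≤ F.autGroup P := by
    rintro _ ⟨x, _, rfl⟩
    exact x.2
  obtain ⟨χ, hχ, h⟩ := exists_conj_mem_autInducedBy F hFA _ hB hBp
  -- `χ⁻¹ γ χ ∈ N`
  have h1 : (⟨χ, hχ⟩ : ↥(F.autGroup P))⁻¹ * γ * (⟨χ, hχ⟩ : ↥(F.autGroup P))⁻¹⁻¹ ∈ N :=
    hN.conj_mem γ hγ _
  have h2 := h _ ⟨_, h1, rfl⟩
  have h3 : χ * ((F.autGroup P).subtype ((⟨χ, hχ⟩ : ↥(F.autGroup P))⁻¹ * γ *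
      (⟨χ, hχ⟩ : ↥(F.autGroup P))⁻¹⁻¹)) * χ⁻¹ = (γ : MulAut ↥P) := by
    simp [mul_assoc]
  rw [h3] at h2
  obtain ⟨g, hgS, hgN, hg⟩ := (mem_autInducedBy_iff' S P _).mp h2
  exact ⟨⟨g, hgS, hgN⟩, hg⟩

/-- the rank hypothesis of S5289 gives `PRankLE p 2` for every subgroup of `S` -/
theorem pRankLE_of_le {p : ℕ} (hrank3 : ∀ E : Subgroup Ω, E ≤ S → Cfsg.IsElementaryAbelian p E → Nat.card E ≤ p ^ 2)
    {Q : Subgroup Ω} (hQ : Q ≤ S) : Cfsg.PRankLE p 2 ↥Q := by
  intro A hA hAe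
  have h1 := hrank3 (A.map Q.subtype) (by
      rintro _ ⟨a, _, rfl⟩
      exact hQ a.2) ⟨inferInstance, by
      rintro _ ⟨a, ha, rfl⟩
      have h2 := congrArg Subtype.val (hAe a ha)
      simpa using h2⟩
  rwa [Subgroup.card_map_of_injective Q.subtype_injective] at h1

/-- `PRankLE` along an injective hom -/
theorem pRankLE_of_injective {p k : ℕ} {G H : Type*} [Group G] [Group H] (f : G →* H) (hf : Function.Injective f)
    (h : Cfsg.PRankLE p k H) : Cfsg.PRankLE p k G := by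
  intro A hA hAe
  have h1 := h (A.map f) inferInstance (by
    rintro _ ⟨a, ha, rfl⟩
    rw [← map_pow, hAe a ha, map_one])
  rwa [Subgroup.card_map_of_injective hf] at h1

end Cfsg.Agent.Lib.Helper26.R5
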