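import Cfsg.Agent.Lib.Helper26.R5GlueA
import Cfsg.Agent.Lib.Helper1.OmegaRankTwo
import Cfsg.Agent.Lib.Helper8.R5C
set_option autoImplicit false

/-!
helper26: fusion-system glue for S5289, part B: in a `p`-group of rank two (`p > 3`) there is at most one
subgroup of order `p³` and exponent `p`.
-/

namespace Cfsg.Agent.Lib.Helper26.R5

open Cfsg Cfsg.FusionSystem Cfsg.Agent.Lib.Helper26

/-- type-level: a subgroup of order `p³` and exponent `p` equals `Ω₁`. -/
theorem eq_omegaSub_of_card_cube {R : Type*} [Group R] [Finite R] {p : ℕ} [Fact p.Prime] (hp : 3 < p)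
    (hR : IsPGroup p R) (hrk : Cfsg.PRankLE p 2 R) (U : Subgroup R) (hUc : Nat.card U = p ^ 3)
    (hUe : ∀ x ∈ U, x ^ p = 1) : U = omegaSub p R := by
  have hOexp : ∀ g ∈ omegaSub p R, g ^ p = 1 :=
    fun g hg => Cfsg.Agent.Lib.Helper1.omega_exponent_of_rank_two hp hR hrk g hg
  have hOcard : Nat.card ↥(omegaSub p R) ≤ p ^ 3 := by
    apply Cfsg.Agent.Lib.Helper8.R5Leaf.card_le_of_exp_rank_two
    · intro x
      exact Subtype.ext (by simpa using hOexp x.1 x.2)
    · exact pRankLE_of_injective (omegaSub p R).subtype (omegaSub p R).subtype_injective hrk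
  have hle : U ≤ omegaSub p R := fun x hx => mem_omegaSub_of_pow (hUe x hx)
  exact Subgroup.eq_of_le_of_card_ge hle (by rw [hUc]; exact hOcard)

variable {Ω : Type*} [Group Ω] {S : Subgroup Ω}

/-- in `S` of rank two, `p > 3`, two subgroups of order `p³` and exponent `p` coincide -/
theorem eq_of_card_cube_exp [Finite S] {p : ℕ} [Fact p.Prime] (hp : 3 < p) (hS : IsPGroup p S)
    (hrank3 : ∀ E : Subgroup Ω, E ≤ S → Cfsg.IsElementaryAbelian p E → Nat.card E ≤ p ^ 2)
    {U V : Subgroup Ω} (hU : U ≤ S) (hV : V ≤ S) (hUc : Nat.card U = p ^ 3) (hVc : Nat.card V = p ^ 3)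
    (hUe : ∀ x ∈ U, x ^ p = 1) (hVe : ∀ x ∈ V, x ^ p = 1) : U = V := by
  have hrk : Cfsg.PRankLE p 2 ↥S := pRankLE_of_le hrank3 le_rfl
  have key : ∀ W : Subgroup Ω, W ≤ S → Nat.card W = p ^ 3 → (∀ x ∈ W, x ^ p = 1) →
      W.subgroupOf S = omegaSub p ↥S := by
    intro W hW hWc hWe
    apply eq_omegaSub_of_card_cube hp hS hrk
    · rw [← hWc]
      exact Nat.card_congr (Subgroup.subgroupOfEquivOfLe hW).toEquiv
    · intro x hx
      exact Subtype.ext (by simpa using hWe x.1 hx)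
  have h1 := key U hU hUc hUe
  have h2 := key V hV hVc hVe
  have h3 : U.subgroupOf S = V.subgroupOf S := h1.trans h2.symm
  rw [Subgroup.subgroupOf_inj] at h3
  rwa [inf_of_le_left hU, inf_of_le_left hV] at h3

end Cfsg.Agent.Lib.Helper26.R5
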