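import Cfsg.Agent.Lib.Helper26.R5GlueB
import Cfsg.Agent.Lib.Helper26.R5FBackup
import Cfsg.Agent.Lib.Helper23.R5I
import Cfsg.Agent.Lib.Helper29.R5J
import Cfsg.Agent.Lib.Helper2.R5H
set_option autoImplicit false

/-!
helper26: fusion-system glue for S5289, part C: no essential subgroups.
-/

namespace Cfsg.Agent.Lib.Helper26.R5

open Cfsg Cfsg.FusionSystem Cfsg.Agent.Lib.Helper26

/-- local analysis = (F) + (I) + (J) -/
theorem local_analysis {E 𝕋 : Type*} [Group E] [Group 𝕋] [Finite 𝕋] {p : ℕ} [Fact p.Prime] (hp : 3 < p)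
    (h𝕋 : IsPGroup p 𝕋) (hrk : Cfsg.PRankLE p 2 𝕋)
    (ι : E →* 𝕋) (hι : Function.Injective ι)
    (hcen : ∀ t : 𝕋, (∀ e : E, t * ι e = ι e * t) → t ∈ ι.range)
    (hne : ∃ t : 𝕋, t ∉ ι.range)
    (X : Subgroup (MulAut E)) (hd : EssData p E X)
    (c : 𝕋 →* MulAut E) (hc : ∀ t e, ι (c t e) = t * ι e * t⁻¹) (hcX : ∀ t, c t ∈ X)
    (Y : Subgroup (MulAut 𝕋))
    (hext : ∀ τ ∈ X, (∀ t, ∃ t', τ * c t * τ⁻¹ = c t') → ∃ τ' ∈ Y, ∀ e, τ' (ι e) = ι (τ e)) :
    Nat.card 𝕋 = p ^ 3 ∧ (∀ t : 𝕋, t ^ p = 1) ∧ Nat.card E = p ^ 2 ∧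
      ∃ τ' ∈ Y, ∃ w₁ w₂ : E, w₁ ≠ 1 ∧ (∀ e : E, ∃ i j : ℕ, e = w₁ ^ i * w₂ ^ j) ∧
        (∀ t : 𝕋, t * ι w₁ = ι w₁ * t) ∧ (∃ t : 𝕋, t * ι w₂ ≠ ι w₂ * t) ∧
        τ' (ι w₁) = ι w₁ ^ 2 ∧ τ' (ι w₂) = ι w₂ ^ ((p + 1) / 2) := by
  have hfinE : Finite E := Finite.of_injective ι hι
  have hEp : IsPGroup p E := h𝕋.of_injective ι hι
  have hrkE : Cfsg.PRankLE p 2 E := by
    intro A hA hAe
    have h1 := hrk (A.map ι) (by
      constructor
      constructor
      rintro ⟨_, a, ha, rfl⟩ ⟨_, b, hb, rfl⟩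
      apply Subtype.ext
      show ι a * ι b = ι b * ι a
      rw [← map_mul, ← map_mul]
      have := hA.is_comm.comm ⟨a, ha⟩ ⟨b, hb⟩
      exact congrArg ι (congrArg Subtype.val this)) (by
      rintro _ ⟨a, ha, rfl⟩
      rw [← map_pow, hAe a ha, map_one])
    rwa [Subgroup.card_map_of_injective hι] at h1
  by_cases hab : ∀ x y : E, x ^ p = 1 → y ^ p = 1 → x * y = y * x
  · obtain ⟨h1, h2, h3⟩ := caseI_abelian_backup hp hEp hrkE X hd hab
    obtain ⟨h4, h5, h6⟩ := Cfsg.Agent.Lib.Helper23.R5Leaf.caseI_torus hp h𝕋 ι hι hcen hne h1 h2 h3 X hd c hc hcX Y hext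
    exact ⟨h4, h5, h3, h6⟩
  · exfalso
    push Not at hab
    obtain ⟨x, y, hx, hy, hxy⟩ := hab
    apply Cfsg.Agent.Lib.Helper29.R5Leaf.caseII_false hp h𝕋 hrk ι hι hcen hne ⟨x, y, hx, hy, hxy⟩ X hd c hc hcX
    intro τ hτ hn
    obtain ⟨τ', _, h⟩ := hext τ hτ hn
    exact ⟨τ', h⟩


variable {Ω : Type*} [Group Ω] {S : Subgroup Ω}

theorem no_essential [Finite S] (p : ℕ) [Fact p.Prime] (hS : IsPGroup p S)
    (F : Cfsg.FusionSystem S) (hF : F.IsSaturated p) (hp : 3 < p)
    (hrank3 : ∀ E : Subgroup Ω, E ≤ S → Cfsg.IsElementaryAbelian p E → Nat.card E ≤ p ^ 2)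
    (hnotE : ¬ (Nat.card S = p ^ 3 ∧ Monoid.exponent ↥S = p))
    (E : Subgroup Ω) (hE : F.IsEssential p E) : False := by
  have hpp : p.Prime := Fact.out
  have hES : E ≤ S := hE.1.1
  have hfn : F.IsFullyNormalized E := hE.2.1
  have hrec : F.IsReceptive E := saturated_fn_receptive hS F hF hfn
  have hTS : normalizerIn S E ≤ S := normalizerIn_le S E
  have hfinT : Finite ↥(normalizerIn S E) := finite_of_le hTS
  have hTp : IsPGroup p ↥(normalizerIn S E) := hS.to_le hTS
  have hrkT : Cfsg.PRankLE p 2 ↥(normalizerIn S E) := pRankLE_of_le hrank3 hTS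
  have hd := essData_of_essential hS F hE
  -- centric
  have hcen : ∀ t : ↥(normalizerIn S E),
      (∀ e : ↥E, t * Subgroup.inclusion (le_normalizerIn hES) e = Subgroup.inclusion (le_normalizerIn hES) e * t) →
      t ∈ (Subgroup.inclusion (le_normalizerIn hES)).range := by
    intro t ht
    have h1 : (t : Ω) ∈ centralizerIn S E := by
      rw [mem_centralizerIn_iff]
      refine ⟨t.2.1, fun x hx => ?_⟩
      have := congrArg Subtype.val (ht ⟨x, hx⟩)
      exact this.symm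
    have h2 : (t : Ω) ∈ E := hE.1.2 E (isConj_refl F hES) h1
    exact ⟨⟨t, h2⟩, Subtype.ext rfl⟩
  have hne : ∃ t : ↥(normalizerIn S E), t ∉ (Subgroup.inclusion (le_normalizerIn hES)).range := by
    obtain ⟨g, hg, hgE⟩ := exists_mem_normalizerIn_not_mem_of_essential hS F hF hE
    refine ⟨⟨g, hg⟩, ?_⟩
    rintro ⟨e, he⟩
    apply hgE
    have := congrArg Subtype.val he
    rw [← show ((Subgroup.inclusion (le_normalizerIn hES) e : ↥(normalizerIn S E)) : Ω) = g from this]
    exact e.2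
  obtain ⟨hT3, hTexp, hE2, τ', hτ'Y, w₁, w₂, hw₁, hgen, hw₁c, hw₂c, hτ₁, hτ₂⟩ :=
    local_analysis hp hTp hrkT (Subgroup.inclusion (le_normalizerIn hES)) (Subgroup.inclusion_injective _)
      hcen hne (F.autGroup E) hd (conjAct S E) (incl_conjAct S E hES) (conjAct_mem_autGroup F hES)
      (F.autGroup (normalizerIn S E)) (exists_extension_of_normalizes F hrec)
  by_cases hTeq : normalizerIn S E = S
  · -- `S` itself has order `p³` and exponent `p`
    apply hnotE
    have hcardS : Nat.card S = p ^ 3 := by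
      rw [← hT3]
      exact congrArg (fun Q : Subgroup Ω => Nat.card Q) hTeq.symm
    refine ⟨hcardS, ?_⟩
    have hexpS : ∀ s : ↥S, s ^ p = 1 := by
      intro s
      have hs : (s : Ω) ∈ normalizerIn S E := by rw [hTeq]; exact s.2
      have := congrArg Subtype.val (hTexp ⟨s, hs⟩)
      exact Subtype.ext (by simpa using this)
    have hdvd : Monoid.exponent ↥S ∣ p := Monoid.exponent_dvd_of_forall_pow_eq_one hexpS
    rcases (Nat.dvd_prime hpp).mp hdvd with h1 | h1
    · exfalso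
      have hsub : Subsingleton ↥S := Monoid.exp_eq_one_iff.mp h1
      have : Nat.card ↥S = 1 := Nat.card_unique
      rw [hcardS] at this
      have h2 : 1 < p ^ 3 := Nat.one_lt_pow (by norm_num) hpp.one_lt
      omega
    · exact h1
  · -- `T = N_S(E)` is weakly closed
    have hTexp' : ∀ x ∈ normalizerIn S E, x ^ p = 1 := by
      intro x hx
      have := congrArg Subtype.val (hTexp ⟨x, hx⟩)
      simpa using this
    have hwc : ∀ φ ∈ F.Hom (normalizerIn S E), φ.range = normalizerIn S E := by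
      intro φ hφ
      have hinj := F.injective_of_mem hφ
      apply eq_of_card_cube_exp hp hS hrank3 _ hTS _ hT3 _ hTexp'
      · rintro _ ⟨x, rfl⟩
        exact (F.le_of_mem hφ).2 x
      · rw [← hT3]
        exact (Nat.card_congr (Equiv.ofInjective φ hinj)).symm
      · rintro _ ⟨x, rfl⟩
        rw [← map_pow, hTexp x, map_one]
    have hfnT : F.IsFullyNormalized (normalizerIn S E) := by
      refine ⟨hTS, ?_⟩
      rintro Q ⟨φ, hφ, rfl⟩
      rw [hwc φ hφ]
    have hrecT : F.IsReceptive (normalizerIn S E) := saturated_fn_receptive hS F hF hfnT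
    have hFAT : F.IsFullyAutomized p (normalizerIn S E) := (saturated_fn hS F hF hfnT).2
    have hS'S : normalizerIn S (normalizerIn S E) ≤ S := normalizerIn_le S _
    have hfinS' : Finite ↥(normalizerIn S (normalizerIn S E)) := finite_of_le hS'S
    have hne₂ : ∃ s : ↥(normalizerIn S (normalizerIn S E)),
        s ∉ (Subgroup.inclusion (le_normalizerIn hTS)).range := by
      obtain ⟨g, hg, hgT⟩ := exists_mem_normalizerIn_not_mem hS hTS hTeq
      refine ⟨⟨g, hg⟩, ?_⟩
      rintro ⟨e, he⟩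
      apply hgT
      have := congrArg Subtype.val he
      rw [← show ((Subgroup.inclusion (le_normalizerIn hTS) e :
        ↥(normalizerIn S (normalizerIn S E))) : Ω) = g from this]
      exact e.2
    have hιw₁ : Subgroup.inclusion (le_normalizerIn hES) w₁ ≠ 1 := by
      intro h
      apply hw₁
      apply Subgroup.inclusion_injective (le_normalizerIn hES)
      rw [h, map_one]
    refine Cfsg.Agent.Lib.Helper2.R5Leaf.global_analysis hp (hS.to_le hS'S) (pRankLE_of_le hrank3 hS'S)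
      (Subgroup.inclusion (le_normalizerIn hTS)) (Subgroup.inclusion_injective _) hne₂ hT3 hTexp
      (F.autGroup (normalizerIn S E)) (conjAct S (normalizerIn S E)) (incl_conjAct S _ hTS)
      (conjAct_mem_autGroup F hTS) ?_ ?_
      (Subgroup.inclusion (le_normalizerIn hES) w₁) (Subgroup.inclusion (le_normalizerIn hES) w₂)
      hιw₁ hw₁c hw₂c ?_ τ' hτ'Y hτ₁ hτ₂
    · intro N hN hNp γ hγ
      exact mem_conjAct_range_of_normal F hFAT N hN hNp γ hγ
    · intro τ hτ hn
      obtain ⟨σ, _, hσ⟩ := exists_extension_of_normalizes F hrecT τ hτ hn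
      exact ⟨σ, hσ⟩
    · -- the normalizer condition
      rintro s ⟨i₁, j₁, h1⟩ ⟨i₂, j₂, h2⟩
      have hfinE : Finite ↥E := finite_of_le hES
      have hsN : (s : Ω) ∈ normalizerIn S E := by
        refine ⟨s.2.1, ?_⟩
        apply mem_normalizer_of_conj_mem_finite
        intro y hy
        obtain ⟨i, j, hij⟩ := hgen ⟨y, hy⟩
        have hy' : y = (w₁ : Ω) ^ i * (w₂ : Ω) ^ j := by
          have := congrArg Subtype.val hij
          simpa using this
        have e1 : (s : Ω) * (w₁ : Ω) * (s : Ω)⁻¹ ∈ E := by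
          have := congrArg (fun z : ↥(normalizerIn S (normalizerIn S E)) => (z : Ω)) h1
          simp only [Subgroup.coe_mul, Subgroup.coe_inv, Subgroup.coe_inclusion] at this
          rw [this]
          simp only [Subgroup.coe_pow]
          exact E.mul_mem (E.pow_mem w₁.2 _) (E.pow_mem w₂.2 _)
        have e2 : (s : Ω) * (w₂ : Ω) * (s : Ω)⁻¹ ∈ E := by
          have := congrArg (fun z : ↥(normalizerIn S (normalizerIn S E)) => (z : Ω)) h2
          simp only [Subgroup.coe_mul, Subgroup.coe_inv, Subgroup.coe_inclusion] at this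
          rw [this]
          simp only [Subgroup.coe_pow]
          exact E.mul_mem (E.pow_mem w₁.2 _) (E.pow_mem w₂.2 _)
        have e3 : (s : Ω) * y * (s : Ω)⁻¹ =
            ((s : Ω) * (w₁ : Ω) * (s : Ω)⁻¹) ^ i * ((s : Ω) * (w₂ : Ω) * (s : Ω)⁻¹) ^ j := by
          rw [hy', conj_pow, conj_pow]
          group
        rw [e3]
        exact E.mul_mem (E.pow_mem e1 _) (E.pow_mem e2 _)
      exact ⟨⟨s, hsN⟩, Subtype.ext rfl⟩

end Cfsg.Agent.Lib.Helper26.R5
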