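import Cfsg.Agent.Lib.Helper26.CravG
import Cfsg.Agent.Lib.Helper27.FSWeaklyNormal
import Cfsg.Agent.Lib.Helper27.FSPPowerExt
import Cfsg.Agent.Lib.Helper26.FSSolvableConstrained
import Cfsg.Agent.Lib.Helper26.FSStronglyClosedProd
import Cfsg.Agent.Lib.Helper26.FSHyperfocal
import Cfsg.Agent.Lib.Helper16.PCore

/-!
S5156, part A: a saturated fusion system whose `p'`-residual (resp. `p`-residual) subsystem is constrained is
itself constrained.
-/

set_option autoImplicit false

namespace Cfsg.Agent.Lib.Helper26.RSer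

open Cfsg Cfsg.FusionSystem Cfsg.Agent.Lib.Helper26 Cfsg.Agent.Lib.Helper27

variable {Ω : Type*} [Group Ω] {S : Subgroup Ω}

/-- A fusion system is invariant under its own automorphisms of `S`. -/
theorem autInv_self (F : FusionSystem S) : AutInv F F := by
  intro P hPS φ hφ α hα
  have he : FSTr.toHom (α : S ≃* S) ∈ F.Hom S := (mem_autGroup_iff F le_rfl α).mp hα
  have hφS : ∀ x, φ x ∈ S := hom_apply_mem F hφ
  refine ⟨FSTr.mapH (α : S ≃* S) hPS φ hφS, ?_, fun x hφx hαx => ?_⟩
  · exact FSTr.conj_mem_of_mem F (α : S ≃* S) he hφ hPS hφS (FSTr.ind_mapH _ hPS φ hφS)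
  · exact FSTr.ind_mapH (α : S ≃* S) hPS φ hφS x (hPS x.2) hφx hαx

theorem isInvariantIn_self (F : FusionSystem S) : F.IsInvariantIn F :=
  ⟨fun _ _ h => h, stronglyClosed_top F, autInv_self F, fun _ _ _ hφ => dec_of_mem hφ⟩

theorem isWeaklyNormalIn_self {p : ℕ} (F : FusionSystem S) (hF : F.IsSaturated p) : F.IsWeaklyNormalIn F p :=
  ⟨hF, hF, isInvariantIn_self F⟩

/-- In a constrained system the core contains its centralizer. -/
theorem centralizerIn_core_le {p : ℕ} (E : FusionSystem S) (hE : E.IsConstrained p) :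
    centralizerIn S E.core ≤ E.core := by
  obtain ⟨-, Q₀, hQ₀n, hQ₀c⟩ := hE
  have h1 : Q₀ ≤ E.core := le_sSup hQ₀n
  have h2 : centralizerIn S Q₀ ≤ Q₀ := hQ₀c.2 Q₀ (isConj_refl E hQ₀c.1)
  intro x hx
  apply h1
  apply h2
  rw [mem_centralizerIn_iff] at hx ⊢
  exact ⟨hx.1, fun y hy => hx.2 y (h1 hy)⟩

section

variable [Finite S] {p : ℕ} [Fact p.Prime]

/-- If the `p'`-residual subsystem of `F` is constrained, so is `F`. -/
theorem constrained_of_pPrimeResidual (hS : IsPGroup p S) (F : FusionSystem S) (hF : F.IsSaturated p)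
    (E : FusionSystem S) (hE : F.IsPPrimeResidual p E) (hEc : E.IsConstrained p) : F.IsConstrained p := by
  have hEwn : E.IsWeaklyNormalIn F p :=
    Crav.weaklyNormal_pPrimeResidual hS F F (isWeaklyNormalIn_self F hF) E hE
  have hQF : F.IsNormal E.core := core_isNormal_of_isWeaklyNormalIn hS F E hEwn
  exact ⟨hF, E.core, hQF, isCentric_of_isNormal_of_centralizerIn_le F hQF (centralizerIn_core_le E hEc)⟩

/-- The automorphisms of `P` fixing every element of `Q` (lying in `P`). -/
def fixAut (P Q : Subgroup Ω) : Subgroup (MulAut P) where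
  carrier := {β | ∀ x : P, (x : Ω) ∈ Q → β x = x}
  one_mem' := fun _ _ => rfl
  mul_mem' := by
    intro a b ha hb x hx
    rw [MulAut.mul_apply, hb x hx, ha x hx]
  inv_mem' := by
    intro a ha x hx
    have := ha x hx
    calc a⁻¹ x = a⁻¹ (a x) := by rw [this]
      _ = x := MulAut.inv_apply_self _ a x

theorem mem_fixAut {P Q : Subgroup Ω} {β : MulAut P} :
    β ∈ fixAut P Q ↔ ∀ x : P, (x : Ω) ∈ Q → β x = x := Iff.rfl

theorem aut_pow_apply_of_fixed {P : Subgroup Ω} (γ : MulAut P) (x z : P) (hz : γ x = x * z) (hγz : γ z = z) (n : ℕ) :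
    (γ ^ n) x = x * z ^ n := by
  induction n with
  | zero => simp
  | succ n ih =>
    rw [pow_succ', MulAut.mul_apply, ih, map_mul, map_pow, hz, hγz, pow_succ', mul_assoc]

/-- If the `p`-residual subsystem of `E` is constrained, so is `E`. -/
theorem constrained_of_pResidual (hS : IsPGroup p S) (E : FusionSystem S) (hE : E.IsSaturated p)
    (D : FusionSystem (E.hyperfocalSubgroup p)) (hD : E.IsPResidual p D) (hDc : D.IsConstrained p) :
    E.IsConstrained p := by
  have hTsc : E.StronglyClosed (E.hyperfocalSubgroup p) := hyperfocal_stronglyClosed hS E hE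
  have hTS : E.hyperfocalSubgroup p ≤ S := hTsc.1
  have hTn : ((E.hyperfocalSubgroup p).subgroupOf S).Normal :=
    Subgroup.normal_subgroupOf_of_le_normalizer (le_normalizer_of_stronglyClosed E hTsc)
  have hDn : D.IsNormalIn E p := isNormalIn_of_ppower_index hS E hE hTS hTn le_rfl D hD.1 hD.2
  have hQ₁E : E.IsNormal D.core := core_isNormal_of_isWeaklyNormalIn hS E D hDn.1
  have hfinT : Finite (E.hyperfocalSubgroup p) := finite_of_le hTS
  have hcT : centralizerIn (E.hyperfocalSubgroup p) D.core ≤ D.core := centralizerIn_core_le D hDc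
  have hQ₁sc := stronglyClosed_of_isNormal E hQ₁E
  have hCsc := centralizerIn_stronglyClosed_of_isNormal E hQ₁E
  have hRsc : E.StronglyClosed (D.core ⊔ centralizerIn S D.core) :=
    stronglyClosed_sup hS E hE _ _ hQ₁sc hCsc
  have hSQ₁ : S ≤ Subgroup.normalizer (D.core : Set Ω) := le_normalizer_of_stronglyClosed E hQ₁sc
  have key : ∀ P : Subgroup Ω, E.IsCentric P → E.IsRadical p P → centralizerIn S D.core ≤ P := by
    intro P hc hr
    have hPS : P ≤ S := hc.1
    have hfinP : Finite P := finite_of_le hPS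
    have hPp : IsPGroup p P := hS.to_le hPS
    have hQ₁P : D.core ≤ P := le_of_isNormal_of_centric_radical hS E hQ₁E hc hr
    apply le_of_centric_radical_of_aut_mem hS E hc hr (centralizerIn_le S D.core)
      (le_normalizer_of_stronglyClosed E hCsc) (E.autGroup P ⊓ fixAut P D.core) inf_le_left
    · -- normal
      constructor
      intro β hβ γ
      rw [Subgroup.mem_subgroupOf] at hβ ⊢
      refine ⟨(γ * β * γ⁻¹).2, fun x hx => ?_⟩
      have hγi : ((γ⁻¹ : E.autGroup P) : MulAut P) ∈ E.autGroup P := (γ⁻¹).2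
      have h1 : (((γ⁻¹ : E.autGroup P) : MulAut P) x : Ω) ∈ D.core :=
        (mem_iff_aut_mem_of_stronglyClosed E hQ₁sc hPS hγi x).mp hx
      have h2 := hβ.2 _ h1
      show (γ : MulAut P) ((β : MulAut P) (((γ⁻¹ : E.autGroup P) : MulAut P) x)) = x
      rw [h2]
      show (γ : MulAut P) (((γ : MulAut P)⁻¹) x) = x
      exact MulAut.apply_inv_self _ _ x
    · -- a `p`-group
      apply Cfsg.Agent.Lib.Helper16.isPGroup_of_coprime_trivial
      rintro γ ⟨hγE, hγfix⟩ hcop
      have hγfix' : ∀ x : P, (x : Ω) ∈ D.core → γ x = x := hγfix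
      ext x
      show ((γ x : P) : Ω) = x
      have ha : (⟨γ, hγE⟩ : E.autGroup P) ∈ pResidual p (E.autGroup P) := by
        apply Cfsg.Agent.Lib.Helper16.mem_pResidual_of_coprime
        rwa [Subgroup.orderOf_mk]
      have hzT := mem_hyperfocal_of E p hPS ⟨γ, hγE⟩ ha x
      have hzT' : (x : Ω)⁻¹ * ((γ x : P) : Ω) ∈ E.hyperfocalSubgroup p := hzT
      -- `z = x⁻¹ γ(x)` centralizes `Q₁`
      have hzc : ∀ q ∈ D.core, q * ((x : Ω)⁻¹ * ((γ x : P) : Ω)) = (x : Ω)⁻¹ * ((γ x : P) : Ω) * q := by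
        intro q hq
        have hxq : (x : Ω) * q * (x : Ω)⁻¹ ∈ D.core :=
          (Subgroup.mem_normalizer_iff.mp (hSQ₁ (hPS x.2)) q).mp hq
        have e1 := hγfix' (x * ⟨q, hQ₁P hq⟩ * x⁻¹) hxq
        have e2 := hγfix' ⟨q, hQ₁P hq⟩ hq
        rw [map_mul, map_mul, map_inv, e2] at e1
        have e3 := congrArg Subtype.val e1
        simp only [Subgroup.coe_mul, Subgroup.coe_inv] at e3
        -- e3 : γx * q * (γx)⁻¹ = x * q * x⁻¹
        have e4 : ((γ x : P) : Ω) * q = (x : Ω) * q * (x : Ω)⁻¹ * ((γ x : P) : Ω) := by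
          rw [← e3]; group
        calc q * ((x : Ω)⁻¹ * ((γ x : P) : Ω))
            = (x : Ω)⁻¹ * ((x : Ω) * q * (x : Ω)⁻¹ * ((γ x : P) : Ω)) := by group
          _ = (x : Ω)⁻¹ * (((γ x : P) : Ω) * q) := by rw [e4]
          _ = (x : Ω)⁻¹ * ((γ x : P) : Ω) * q := by group
      have hzQ : (x : Ω)⁻¹ * ((γ x : P) : Ω) ∈ D.core := by
        apply hcT
        rw [mem_centralizerIn_iff]
        exact ⟨hzT', hzc⟩
      set z : P := x⁻¹ * γ x with hz
      have hzv : (z : Ω) = (x : Ω)⁻¹ * ((γ x : P) : Ω) := rfl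
      have hγz : γ z = z := hγfix' z (by rw [hzv]; exact hzQ)
      have hγx : γ x = x * z := by rw [hz]; group
      have hpow := aut_pow_apply_of_fixed γ x z hγx hγz (orderOf γ)
      rw [pow_orderOf_eq_one, MulAut.one_apply] at hpow
      have hz1 : z ^ orderOf γ = 1 := by
        have : x * z ^ orderOf γ = x * 1 := by rw [mul_one]; exact hpow.symm
        exact mul_left_cancel this
      obtain ⟨k, hk⟩ := hPp z
      have hd1 : orderOf z ∣ orderOf γ := orderOf_dvd_of_pow_eq_one hz1
      have hd2 : orderOf z ∣ p ^ k := orderOf_dvd_of_pow_eq_one hk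
      have hcop' : Nat.Coprime (orderOf γ) (p ^ k) := Nat.Coprime.pow_right k hcop
      have hd3 : orderOf z ∣ 1 := by
        have := Nat.dvd_gcd hd1 hd2
        rwa [hcop'] at this
      have hz_one : z = 1 := orderOf_eq_one_iff.mp (Nat.dvd_one.mp hd3)
      rw [hγx, hz_one, mul_one]
    · -- `N_C(P)` acts inside
      intro q hq hqN
      obtain ⟨hqS, hqc⟩ := mem_centralizerIn_iff.mp hq
      refine ⟨autInducedBy_le_autGroup E hPS (normalizerMonoidHom_mem_autInducedBy hqS hqN), fun x hx => ?_⟩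
      apply Subtype.ext
      show q * (x : Ω) * q⁻¹ = x
      rw [← hqc x hx]
      group
  have hR : E.IsNormal (D.core ⊔ centralizerIn S D.core) :=
    (isNormal_iff_stronglyClosed_le_centric_radical hS E hE _).mpr
      ⟨hRsc, fun P hc hr => sup_le (le_of_isNormal_of_centric_radical hS E hQ₁E hc hr) (key P hc hr)⟩
  refine ⟨hE, _, hR, isCentric_of_isNormal_of_centralizerIn_le E hR ?_⟩
  intro x hx
  apply le_sup_right (a := D.core)
  rw [mem_centralizerIn_iff] at hx ⊢
  exact ⟨hx.1, fun y hy => hx.2 y ((le_sup_left : D.core ≤ D.core ⊔ centralizerIn S D.core) hy)⟩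

end

end Cfsg.Agent.Lib.Helper26.RSer
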