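import Cfsg.Agent.Lib.Helper26.FSTrG
import Cfsg.Agent.Lib.Helper26.FSSubsystem
import Cfsg.Agent.Lib.Helper26.FSGroup

/-!
S5156, part B: transport along an isomorphism of the index conditions and of the residual subsystems; a system
realized by a homomorphism is the image of the group fusion system.
-/

set_option autoImplicit false
set_option linter.style.haveILetI false

namespace Cfsg.Agent.Lib.Helper26.FSTr

open Cfsg Cfsg.FusionSystem Cfsg.Agent.Lib.Helper26

variable {Ω Ω' : Type*} [Group Ω] [Group Ω'] {U : Subgroup Ω} {U' : Subgroup Ω'}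
variable {e : U ≃* U'} {S : Subgroup Ω} {F : FusionSystem S} {S' : Subgroup Ω'} {F' : FusionSystem S'}

/-- The homomorphism `Aut_{F'}(P') → Aut_F(P)` induced by `e⁻¹`. -/
noncomputable def autBack (h : Img e F F') {P : Subgroup Ω} (hPS : P ≤ S) {P' : Subgroup Ω'}
    (hPP' : mapS e P = P') : F'.autGroup P' →* F.autGroup P :=
  (((autMap e (hPS.trans h.le) hPP').symm.toMonoidHom).comp (F'.autGroup P').subtype).codRestrict (F.autGroup P)
    (fun a => by
      apply (h.autMap_mem_iff hPS hPP' _).mp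
      show autMap e (hPS.trans h.le) hPP' ((autMap e (hPS.trans h.le) hPP').symm (a : MulAut P')) ∈ _
      rw [MulEquiv.apply_symm_apply]
      exact a.2)

theorem autMap_autBack (h : Img e F F') {P : Subgroup Ω} (hPS : P ≤ S) {P' : Subgroup Ω'}
    (hPP' : mapS e P = P') (a : F'.autGroup P') :
    autMap e (hPS.trans h.le) hPP' (autBack h hPS hPP' a : MulAut P) = (a : MulAut P') := by
  show autMap e (hPS.trans h.le) hPP' ((autMap e (hPS.trans h.le) hPP').symm (a : MulAut P')) = _
  rw [MulEquiv.apply_symm_apply]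

theorem autBack_injective (h : Img e F F') {P : Subgroup Ω} (hPS : P ≤ S) {P' : Subgroup Ω'}
    (hPP' : mapS e P = P') : Function.Injective (autBack h hPS hPP') := by
  intro a b hab
  apply Subtype.ext
  rw [← autMap_autBack h hPS hPP' a, ← autMap_autBack h hPS hPP' b, hab]

theorem map_closure_ppow_le_of_injective {A B : Type*} [Group A] [Group B] (p : ℕ) (f : A →* B)
    (hf : Function.Injective f) :
    (Subgroup.closure {a : A | ∃ k : ℕ, orderOf a = p ^ k}).map f ≤
      Subgroup.closure {b : B | ∃ k : ℕ, orderOf b = p ^ k} := by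
  rw [MonoidHom.map_closure, Subgroup.closure_le]
  rintro _ ⟨a, ⟨k, hk⟩, rfl⟩
  apply Subgroup.subset_closure
  exact ⟨k, by rw [orderOf_injective f hf, hk]⟩

variable {T : Subgroup Ω} {E : FusionSystem T} {T' : Subgroup Ω'} {E' : FusionSystem T'}

theorem subsystem_le {E : FusionSystem T} {F : FusionSystem S} (h : E.IsSubsystemOf F) : T ≤ S :=
  hom_le F (h T (subtype_mem E le_rfl))

theorem Img.hasPPowerIndexIn [Finite S] {p : ℕ} [Fact p.Prime] (hS : IsPGroup p S) (hE : Img e E E')
    (hF : Img e F F') (hFsat : F.IsSaturated p) (h : E.HasPPowerIndexIn F p) : E'.HasPPowerIndexIn F' p := by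
  obtain ⟨hsub, hhyp, haut⟩ := h
  have hTS : T ≤ S := subsystem_le hsub
  refine ⟨hE.isSubsystemOf hF hsub, ?_, fun P' hP'T' => ?_⟩
  · rw [hF.hyperfocal hS hFsat, hE.eq]
    exact mapS_mono e hhyp
  · have hPP' : mapS e (mapS e.symm P') = P' := mapS_mapS_symm e (hP'T'.trans hE.le')
    have hPT : mapS e.symm P' ≤ T := by
      have h1 := mapS_mono e.symm hP'T'
      rwa [hE.eq, mapS_symm_mapS e hE.le] at h1
    rintro _ ⟨a, ha, rfl⟩
    have h1 : autBack hF (hPT.trans hTS) hPP' a ∈ pResidual p (F.autGroup (mapS e.symm P')) :=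
      map_pResidual_le_of_injective p _ (autBack_injective hF (hPT.trans hTS) hPP') ⟨a, ha, rfl⟩
    have h2 : ((autBack hF (hPT.trans hTS) hPP' a : F.autGroup (mapS e.symm P')) : MulAut _) ∈
        E.autGroup (mapS e.symm P') := haut _ hPT ⟨_, h1, rfl⟩
    have h3 := (hE.autMap_mem_iff hPT hPP' _).mpr h2
    have h4 := autMap_autBack hF (hPT.trans hTS) hPP' a
    show (a : MulAut P') ∈ E'.autGroup P'
    rw [← h4]
    exact h3

theorem Img.hasPrimeToPIndexIn {E : FusionSystem S} {E' : FusionSystem S'} {p : ℕ} (hE : Img e E E')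
    (hF : Img e F F') (h : E.HasPrimeToPIndexIn F p) : E'.HasPrimeToPIndexIn F' p := by
  obtain ⟨hsub, haut⟩ := h
  refine ⟨hE.isSubsystemOf hF hsub, fun P' hP'S' => ?_⟩
  have hPP' : mapS e (mapS e.symm P') = P' := mapS_mapS_symm e (hP'S'.trans hE.le')
  have hPS : mapS e.symm P' ≤ S := by
    have h1 := mapS_mono e.symm hP'S'
    rwa [hE.eq, mapS_symm_mapS e hE.le] at h1
  rintro _ ⟨a, ha, rfl⟩
  have h1 : autBack hF hPS hPP' a ∈
      Subgroup.closure {α : F.autGroup (mapS e.symm P') | ∃ k : ℕ, orderOf α = p ^ k} :=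
    map_closure_ppow_le_of_injective p _ (autBack_injective hF hPS hPP') ⟨a, ha, rfl⟩
  have h2 : ((autBack hF hPS hPP' a : F.autGroup (mapS e.symm P')) : MulAut _) ∈
      E.autGroup (mapS e.symm P') := haut _ hPS ⟨_, h1, rfl⟩
  have h3 := (hE.autMap_mem_iff hPS hPP' _).mpr h2
  have h4 := autMap_autBack hF hPS hPP' a
  show (a : MulAut P') ∈ E'.autGroup P'
  rw [← h4]
  exact h3

/-- The image of a system over the hyperfocal subgroup, as a system over the hyperfocal subgroup of the image. -/
theorem exists_img_hyperfocal [Finite S] {p : ℕ} [Fact p.Prime] (hS : IsPGroup p S) (hF : Img e F F')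
    (hFsat : F.IsSaturated p) (D : FusionSystem (F.hyperfocalSubgroup p)) :
    ∃ D' : FusionSystem (F'.hyperfocalSubgroup p), Img e D D' := by
  have hle : F.hyperfocalSubgroup p ≤ S := hyperfocal_le F p
  haveI : Finite (F.hyperfocalSubgroup p) := finite_of_le hle
  rw [hF.hyperfocal hS hFsat]
  exact exists_img e (hle.trans hF.le) D

theorem Img.isPResidual [Finite S] {p : ℕ} [Fact p.Prime] (hS : IsPGroup p S) (hF : Img e F F')
    (hFsat : F.IsSaturated p) {D : FusionSystem (F.hyperfocalSubgroup p)}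
    {D' : FusionSystem (F'.hyperfocalSubgroup p)} (hD : Img e D D') (h : F.IsPResidual p D) :
    F'.IsPResidual p D' := by
  have hle : F.hyperfocalSubgroup p ≤ S := hyperfocal_le F p
  haveI : Finite (F.hyperfocalSubgroup p) := finite_of_le hle
  exact ⟨hD.isSaturated (hS.to_le hle) h.1, hD.hasPPowerIndexIn hS hF hFsat h.2⟩

/-- The image of a system over `S`, as a system over `S'`. -/
theorem exists_img_over [Finite S] (hF : Img e F F') (E : FusionSystem S) :
    ∃ E' : FusionSystem S', Img e E E' := by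
  rw [hF.eq]
  exact exists_img e hF.le E

theorem Img.isPPrimeResidual [Finite S] {p : ℕ} [Fact p.Prime] (hS : IsPGroup p S) {E : FusionSystem S}
    {E' : FusionSystem S'} (hE : Img e E E') (hF : Img e F F') (h : F.IsPPrimeResidual p E) :
    F'.IsPPrimeResidual p E' := by
  obtain ⟨hsat, hidx, hmin⟩ := h
  haveI : Finite S' := hF.finite'
  have hS' : IsPGroup p S' := hF.isPGroup' hS
  refine ⟨hE.isSaturated hS hsat, hE.hasPrimeToPIndexIn hF hidx, fun D' hD'sat hD'idx => ?_⟩
  obtain ⟨D, hD⟩ := exists_img_over hF.symm D'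
  have hDsat : D.IsSaturated p := hD.isSaturated hS' hD'sat
  have hDidx : D.HasPrimeToPIndexIn F p := hD.hasPrimeToPIndexIn hF.symm hD'idx
  have hsub := hmin D hDsat hDidx
  exact hE.isSubsystemOf (Img.symm_iff.mp hD) hsub

end Cfsg.Agent.Lib.Helper26.FSTr
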