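import Cfsg.Agent.Lib.Helper26.RSerB

/-!
S5156, part C: a system realized by `ι : S →* G` is the image under `ι` of the fusion system of `G` on `ι(S)`;
conversely a system whose image is the fusion system of a subgroup `N` on `T'` is realized by the restriction of
`ι` to a map into `N`.
-/

set_option autoImplicit false

namespace Cfsg.Agent.Lib.Helper26.FSTr

open Cfsg Cfsg.FusionSystem Cfsg.Agent.Lib.Helper26

variable {Ω : Type*} [Group Ω] {S : Subgroup Ω} {G : Type*} [Group G]

/-- The isomorphism `S ≃ ι(S)`. -/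
noncomputable def realEquiv (ι : S →* G) (hinj : Function.Injective ι) : S ≃* ι.range :=
  MonoidHom.ofInjective hinj

theorem realEquiv_apply (ι : S →* G) (hinj : Function.Injective ι) (s : S) :
    ((realEquiv ι hinj s : ι.range) : G) = ι s := rfl

theorem img_of_isRealizedBy (F : FusionSystem S) (ι : S →* G) (hreal : F.IsRealizedBy ι) :
    Img (realEquiv ι hreal.1) F (groupFusionSystem ι.range) := by
  obtain ⟨hinj, hreal⟩ := hreal
  refine ⟨le_rfl, (mapS_self _).symm, fun P' φ' => ?_⟩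
  rw [mem_groupFS_hom]
  constructor
  · rintro ⟨hP', hφ'U, g, hg⟩
    have hPS : mapS (realEquiv ι hinj).symm P' ≤ S := mapS_le _ P'
    have hPP' : mapS (realEquiv ι hinj) (mapS (realEquiv ι hinj).symm P') = P' := mapS_mapS_symm _ hP'
    have hind' := ind_mapH (realEquiv ι hinj).symm hP' φ' hφ'U
    have hind : Ind (realEquiv ι hinj) (mapH (realEquiv ι hinj).symm hP' φ' hφ'U) φ' := by
      have := hind'.symm hφ'U
      simpa using this
    have hφS : ∀ x, mapH (realEquiv ι hinj).symm hP' φ' hφ'U x ∈ S := fun x => by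
      show (((realEquiv ι hinj).symm _ : S) : Ω) ∈ S
      exact SetLike.coe_mem _
    refine ⟨_, mapH (realEquiv ι hinj).symm hP' φ' hφ'U, ?_, hPP', hind⟩
    rw [hreal _ hPS _ hφS]
    refine ⟨g, fun x => ?_⟩
    have hx' : ((realEquiv ι hinj ⟨x, hPS x.2⟩ : ι.range) : G) ∈ P' := by
      have h0 := apply_mem_mapS (realEquiv ι hinj) ⟨x, hPS x.2⟩ x.2
      rw [hPP'] at h0
      exact h0
    have h1 := hind x (hPS x.2) (hφS x) hx'
    rw [← realEquiv_apply ι hinj, ← h1, hg]
    rfl
  · rintro ⟨P, φ, hφ, rfl, hind⟩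
    have hPS : P ≤ S := hom_le F hφ
    have hφS : ∀ x, φ x ∈ S := hom_apply_mem F hφ
    obtain ⟨g, hg⟩ := (hreal P hPS φ hφS).mp hφ
    have key : ∀ y : mapS (realEquiv ι hinj) P, φ' y = g * (y : G) * g⁻¹ ∧ φ' y ∈ ι.range := by
      intro y
      obtain ⟨x, rfl⟩ := (eqvS (realEquiv ι hinj) hPS).surjective y
      have e1 : eqvS (realEquiv ι hinj) hPS x =
          (⟨((realEquiv ι hinj ⟨x, hPS x.2⟩ : ι.range) : G),
            apply_mem_mapS (realEquiv ι hinj) ⟨x, hPS x.2⟩ x.2⟩ :
            mapS (realEquiv ι hinj) P) := Subtype.ext rfl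
      rw [e1, hind x (hPS x.2) (hφS x)]
      refine ⟨?_, SetLike.coe_mem _⟩
      rw [realEquiv_apply, hg x]
      rfl
    exact ⟨mapS_le _ P, fun y => (key y).2, g, fun y => (key y).1⟩

/-- A system whose image under `e` is the fusion system of `N` on `T'` is realized by a homomorphism into `N`
compatible with `e`. -/
theorem isRealizedBy_of_img {U : Subgroup Ω} {U' : Subgroup G} (e : U ≃* U') {T : Subgroup Ω}
    (E : FusionSystem T) {T' : Subgroup G} (E' : FusionSystem T') (hE : Img e E E') (N : Subgroup G)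
    (hT'N : T' ≤ N) (hhom : ∀ P : Subgroup G, E'.Hom P = (fusionSystemOfSubgroup N T' hT'N).Hom P)
    (ι : T →* N) (hι : ∀ t : T, ((ι t : N) : G) = ((e ⟨t, hE.le t.2⟩ : U') : G)) : E.IsRealizedBy ι := by
  have hTU : T ≤ U := hE.le
  constructor
  · intro a b hab
    have h1 : ((e ⟨a, hTU a.2⟩ : U') : G) = ((e ⟨b, hTU b.2⟩ : U') : G) := by
      rw [← hι a, ← hι b, hab]
    have h2 := e.injective (Subtype.ext h1)
    exact Subtype.ext (congrArg (fun z : U => (z : Ω)) h2)
  · intro P hPT φ hφT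
    have hPU : P ≤ U := hPT.trans hTU
    have hφU : ∀ x, φ x ∈ U := fun x => hTU (hφT x)
    have hval : ∀ x : P, mapH e hPU φ hφU (eqvS e hPU x) = ((ι ⟨φ x, hφT x⟩ : N) : G) := fun x => by
      rw [mapH_eqvS, hι]
    have hsrc : ∀ x : P, ((eqvS e hPU x : mapS e P) : G) = ((ι ⟨x, hPT x.2⟩ : N) : G) := fun x => by
      rw [hι]; rfl
    constructor
    · intro hφ
      have h1 : mapH e hPU φ hφU ∈ E'.Hom (mapS e P) := hE.mem_of_ind hφ (ind_mapH e hPU φ hφU)
      rw [hhom] at h1
      obtain ⟨-, -, g, hgN, hg⟩ := h1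
      refine ⟨⟨g, hgN⟩, fun x => ?_⟩
      apply Subtype.ext
      rw [← hval x, hg, hsrc]
      rfl
    · rintro ⟨g, hg⟩
      have h1 : mapH e hPU φ hφU ∈ (fusionSystemOfSubgroup N T' hT'N).Hom (mapS e P) := by
        refine ⟨hE.eq ▸ mapS_mono e hPT, fun y => ?_, (g : G), g.2, fun y => ?_⟩
        · obtain ⟨x, rfl⟩ := (eqvS e hPU).surjective y
          rw [mapH_eqvS, hE.eq]
          exact apply_mem_mapS e ⟨φ x, hφU x⟩ (hφT x)
        · obtain ⟨x, rfl⟩ := (eqvS e hPU).surjective y
          rw [hval, hsrc, hg x]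
          rfl
      rw [← hhom] at h1
      obtain ⟨P₁, φ₁, hφ₁, hP₁, hind₁⟩ := hE.exists_lift h1
      have hP₁U : P₁ ≤ U := (hom_le E hφ₁).trans hTU
      have hPP₁ : P₁ = P := mapS_injective e hP₁U hPU hP₁
      subst hPP₁
      have := Ind.source_unique hP₁U (fun x => hTU (hom_apply_mem E hφ₁ x)) hφU hP₁.le hind₁
        (ind_mapH e hP₁U φ hφU)
      rw [← this]
      exact hφ₁

/-- Variant of `isRealizedBy_of_img` where the subgroup system is given over a (propositionally equal) subgroup. -/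
theorem isRealizedBy_of_img' {U : Subgroup Ω} {U' : Subgroup G} (e : U ≃* U') {T : Subgroup Ω}
    (E : FusionSystem T) {T' : Subgroup G} (E' : FusionSystem T') (hE : Img e E E') (N T'' : Subgroup G)
    (hT''N : T'' ≤ N) (hhom : ∀ P : Subgroup G, E'.Hom P = (fusionSystemOfSubgroup N T'' hT''N).Hom P)
    (ι : T →* N) (hι : ∀ t : T, ((ι t : N) : G) = ((e ⟨t, hE.le t.2⟩ : U') : G)) : E.IsRealizedBy ι := by
  have hTT : T'' = T' := by
    apply le_antisymm
    · have h1 : T''.subtype ∈ (fusionSystemOfSubgroup N T'' hT''N).Hom T'' := subtype_mem _ le_rfl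
      rw [← hhom] at h1
      exact hom_le E' h1
    · have h1 : T'.subtype ∈ E'.Hom T' := subtype_mem _ le_rfl
      rw [hhom] at h1
      exact hom_le _ h1
  subst hTT
  exact isRealizedBy_of_img e E E' hE N hT''N hhom ι hι

/-- A realized system, with the range of the realizing map replaced by a given equal subgroup. -/
theorem exists_equiv_img_of_isRealizedBy (F : FusionSystem S) (ι : S →* G) (hreal : F.IsRealizedBy ι)
    (R : Subgroup G) (hR : R = ι.range) :
    ∃ e : S ≃* R, (∀ s : S, ((e s : R) : G) = ι s) ∧ Img e F (groupFusionSystem R) := by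
  subst hR
  exact ⟨realEquiv ι hreal.1, fun s => rfl, img_of_isRealizedBy F ι hreal⟩

end Cfsg.Agent.Lib.Helper26.FSTr
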