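import Cfsg.Agent.Lib.Helper24.PSolvable
import Cfsg.Agent.Lib.Helper25.PSolvableOfSolvable
import Cfsg.Agent.Lib.Helper25.PSolvableSub
import Cfsg.Agent.Lib.Helper12.PNilpotent
import Cfsg.Agent.Lib.Helper12.Cores
import Cfsg.Agent.Lib.Helper8.PResidual

/-!
S5156, part D: `p`-solvable groups: extension by a normal subgroup of `p`-power or `p'` index, and existence of a
proper normal subgroup of such index.
-/

set_option autoImplicit false
set_option linter.style.haveILetI false

namespace Cfsg.Agent.Lib.Helper26.RSer

open Cfsg

universe u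

/-- A finite group with a `p`-solvable normal subgroup of index a power of `p` or prime to `p` is `p`-solvable. -/
theorem isPSolvable_of_normal_of_index (p : ℕ) [hp : Fact p.Prime] :
    ∀ (n : ℕ) (G : Type u) [Group G] [Finite G], Nat.card G = n → ∀ N : Subgroup G, N.Normal →
      IsPSolvable p N → ((∃ m : ℕ, N.index = p ^ m) ∨ N.index.Coprime p) → IsPSolvable p G := by
  intro n
  induction n using Nat.strong_induction_on with
  | _ n ih =>
    intro G _ _ hcard N hN hNs hidx
    by_cases hbot : N = ⊥
    · -- `G` is a `p`-group or a `p'`-group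
      subst hbot
      rw [Subgroup.index_bot] at hidx
      haveI : (⊤ : Subgroup G).Normal := inferInstance
      apply Cfsg.Agent.Lib.Helper25.isPSolvable_of_quotient p (⊤ : Subgroup G)
      · rwa [Subgroup.card_top]
      · haveI : Subsingleton (G ⧸ (⊤ : Subgroup G)) := QuotientGroup.subsingleton_quotient_top
        exact Cfsg.Agent.Lib.Helper12.isPSolvable_of_subsingleton
    · haveI : Nontrivial N := (Subgroup.nontrivial_iff_ne_bot N).mpr hbot
      obtain ⟨M, hMn, hMne, hM⟩ := Cfsg.Agent.Lib.Helper24.exists_normal_of_isPSolvable p hNs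
      -- a nontrivial characteristic subgroup `K₀` of `N`, a `p`-group or a `p'`-group
      obtain ⟨K₀, hK₀c, hK₀ne, hK₀⟩ : ∃ K₀ : Subgroup N, K₀.Characteristic ∧ K₀ ≠ ⊥ ∧
          ((∃ m : ℕ, Nat.card K₀ = p ^ m) ∨ (Nat.card K₀).Coprime p) := by
        rcases hM with hMp | hMc
        · refine ⟨Cfsg.pCore p N, Cfsg.Agent.Lib.Helper12.pCore_characteristic' p, ?_, Or.inl ?_⟩
          · intro h
            apply hMne
            have := Cfsg.Agent.Lib.Helper12.le_pCore' p M hMn hMp
            rw [h] at this
            exact le_bot_iff.mp this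
          · exact IsPGroup.iff_card.mp (Cfsg.Agent.Lib.Helper12.pCore_isPGroup' p)
        · refine ⟨Cfsg.pPrimeCore p N, Cfsg.Agent.Lib.Helper12.pPrimeCore_characteristic p, ?_, Or.inr ?_⟩
          · intro h
            apply hMne
            have := Cfsg.Agent.Lib.Helper12.le_pPrimeCore p M hMn hMc
            rw [h] at this
            exact le_bot_iff.mp this
          · exact Cfsg.Agent.Lib.Helper12.pPrimeCore_coprime p
      haveI := hN
      haveI := hK₀c
      have hKn : (K₀.map N.subtype).Normal := ConjAct.normal_of_characteristic_of_normal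
      have hKcard : Nat.card (K₀.map N.subtype) = Nat.card K₀ :=
        Subgroup.card_map_of_injective N.subtype_injective
      have hKne : K₀.map N.subtype ≠ ⊥ := by
        intro h
        apply hK₀ne
        rw [← Subgroup.card_eq_one] at h ⊢
        rw [← hKcard]; exact h
      have hKN : K₀.map N.subtype ≤ N := Subgroup.map_subtype_le K₀
      set K := K₀.map N.subtype with hK
      apply Cfsg.Agent.Lib.Helper25.isPSolvable_of_quotient p K (by rw [hKcard]; exact hK₀)
      -- the quotient
      have hlt : Nat.card (G ⧸ K) < n := by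
        rw [← hcard, ← Subgroup.index_eq_card, ← Subgroup.index_mul_card K]
        have h1 : 1 < Nat.card K := by
          rcases Nat.lt_or_ge 1 (Nat.card K) with h | h
          · exact h
          · exfalso
            apply hKne
            rw [← Subgroup.card_eq_one]
            have hpos : 0 < Nat.card K := Nat.card_pos
            omega
        have h2 : 0 < K.index := Nat.pos_of_ne_zero (Subgroup.index_ne_zero_of_finite)
        nlinarith
      have hker : (QuotientGroup.mk' K).ker ≤ N := by rw [QuotientGroup.ker_mk']; exact hKN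
      refine ih _ hlt (G ⧸ K) rfl (N.map (QuotientGroup.mk' K)) ?_ ?_ ?_
      · exact Subgroup.Normal.map hN _ (QuotientGroup.mk'_surjective K)
      · exact Cfsg.Agent.Lib.Helper24.isPSolvable_of_surjective p ((QuotientGroup.mk' K).subgroupMap N)
          ((QuotientGroup.mk' K).subgroupMap_surjective N) hNs
      · rw [Subgroup.index_map_eq _ (QuotientGroup.mk'_surjective K) hker]
        exact hidx

/-- A nontrivial finite `p`-solvable group has a proper normal subgroup of index a power of `p` or prime to `p`. -/
theorem exists_proper_normal_of_isPSolvable {G : Type u} [Group G] [Nontrivial G] (p : ℕ)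
    (h : IsPSolvable p G) :
    ∃ M : Subgroup G, M.Normal ∧ M ≠ ⊤ ∧ ((∃ m : ℕ, M.index = p ^ m) ∨ M.index.Coprime p) := by
  obtain ⟨n, H, h0, hlast, hmono, hnorm, hstep⟩ := h
  have key : ∀ i : Fin (n + 1), H i = ⊤ → ∃ j : Fin n, H j.castSucc ≠ ⊤ ∧ H j.succ = ⊤ := by
    intro i
    induction i using Fin.induction with
    | zero =>
      intro h
      rw [h0] at h
      exact absurd h bot_ne_top
    | succ i ih =>
      intro h
      by_cases hi : H i.castSucc = ⊤
      · exact ih hi
      · exact ⟨i, hi, h⟩
  obtain ⟨j, hj1, hj2⟩ := key (Fin.last n) hlast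
  refine ⟨H j.castSucc, hnorm _, hj1, ?_⟩
  have := hstep j
  rw [hj2, Subgroup.relIndex_top_right] at this
  exact this

end Cfsg.Agent.Lib.Helper26.RSer
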