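import Cfsg.Agent.Lib.Helper27.FSSubgroupSat
import Cfsg.Agent.Lib.Helper26.FSSylow

/-!
S5156, part E: the fusion system of a normal subgroup of index prime to `p` has index prime to `p` in the fusion
system of the group.
-/

set_option autoImplicit false
set_option linter.style.haveILetI false

namespace Cfsg.Agent.Lib.Helper26.RSer

open Cfsg Cfsg.FusionSystem Cfsg.Agent.Lib.Helper26 Cfsg.Agent.Lib.Helper27

variable {G : Type*} [Group G]

/-- Elements of `p`-power order lie in every normal subgroup of index prime to `p`. -/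
theorem mem_of_ppow_of_coprime_index [Finite G] {p : ℕ} (M : Subgroup G) [hM : M.Normal]
    (hidx : M.index.Coprime p) {x : G} {a : ℕ} (hx : x ^ (p ^ a) = 1) : x ∈ M := by
  rw [← QuotientGroup.eq_one_iff]
  have h1 : (QuotientGroup.mk x : G ⧸ M) ^ (p ^ a) = 1 := by
    rw [← QuotientGroup.mk_pow, hx]; rfl
  have d1 : orderOf (QuotientGroup.mk x : G ⧸ M) ∣ p ^ a := orderOf_dvd_of_pow_eq_one h1
  have d2 : orderOf (QuotientGroup.mk x : G ⧸ M) ∣ M.index := by
    rw [Subgroup.index_eq_card]
    exact orderOf_dvd_natCard _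
  have hc : Nat.Coprime M.index (p ^ a) := Nat.Coprime.pow_right a hidx
  have d3 := Nat.dvd_gcd d2 d1
  rw [hc] at d3
  exact orderOf_eq_one_iff.mp (Nat.dvd_one.mp d3)

theorem le_of_isPGroup_of_coprime_index [Finite G] {p : ℕ} (M : Subgroup G) [hM : M.Normal]
    (hidx : M.index.Coprime p) {T : Subgroup G} (hT : IsPGroup p T) : T ≤ M := by
  intro t ht
  obtain ⟨k, hk⟩ := hT ⟨t, ht⟩
  have hk' : t ^ (p ^ k) = 1 := by simpa using congrArg Subtype.val hk
  exact mem_of_ppow_of_coprime_index M hidx hk'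

/-- The fusion system of a normal subgroup `M` of index prime to `p` has index prime to `p` in that of `G`. -/
theorem subFS_hasPrimeToPIndexIn [Finite G] {p : ℕ} [hp : Fact p.Prime] (M : Subgroup G) [hM : M.Normal]
    (hidx : M.index.Coprime p) (T : Subgroup G) (hTM : T ≤ M) :
    (fusionSystemOfSubgroup M T hTM).HasPrimeToPIndexIn (groupFusionSystem T) p := by
  constructor
  · rintro P φ ⟨hP, hφ, g, -, hg⟩
    exact ⟨hP, hφ, g, hg⟩
  · intro P hPT
    rw [subFS_autGroup_eq hTM hPT, MonoidHom.map_closure, Subgroup.closure_le]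
    rintro _ ⟨α, ⟨k, hk⟩, rfl⟩
    show (α : MulAut P) ∈ autInducedBy M P
    have hα : (α : MulAut P) ∈ autInducedBy ⊤ P := by
      rw [← groupFS_autGroup_eq hPT]
      exact α.2
    obtain ⟨g, -, hg⟩ := (mem_autInducedBy_iff _ _ _).mp hα
    have hord : orderOf (α : MulAut P) = p ^ k := by rw [Subgroup.orderOf_coe]; exact hk
    obtain ⟨a, r, hr, hgo⟩ := Nat.exists_eq_pow_mul_and_not_dvd (orderOf_pos g).ne' p hp.out.ne_one
    have hrcop : Nat.Coprime r (orderOf (α : MulAut P)) := by
      rw [hord]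
      exact Nat.Coprime.pow_right k ((hp.out.coprime_iff_not_dvd.mpr hr).symm)
    obtain ⟨j, hj⟩ := exists_pow_eq_self_of_coprime hrcop
    have hgr : (g ^ r) ^ (p ^ a) = 1 := by
      rw [← pow_mul, mul_comm, ← hgo]
      exact pow_orderOf_eq_one g
    have hgrM : g ^ r ∈ M := mem_of_ppow_of_coprime_index M hidx hgr
    rw [mem_autInducedBy_iff]
    refine ⟨(g ^ r) ^ j, M.pow_mem hgrM j, fun x => ?_⟩
    have h1 := aut_pow_apply_of_conj (α : MulAut P) g hg (r * j) x
    rw [pow_mul, hj] at h1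
    rw [h1, pow_mul]

end Cfsg.Agent.Lib.Helper26.RSer
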