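import Cfsg.Agent.Lib.Helper26.RSerA
import Cfsg.Agent.Lib.Helper26.RSerC
import Cfsg.Agent.Lib.Helper26.RSerE
import Cfsg.Agent.Lib.Helper26.NSubG
import Cfsg.Agent.Lib.Helper26.FSTrD
import Cfsg.Agent.Lib.Helper26.FSPResidualGroup
import Cfsg.Agent.Lib.Helper16.PCore

/-!
S5156, part F: models of the `p'`-residual and of the `p`-residual subsystems inside a model.
-/

set_option autoImplicit false
set_option linter.style.haveILetI false

namespace Cfsg.Agent.Lib.Helper26.RSer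

open Cfsg Cfsg.FusionSystem Cfsg.Agent.Lib.Helper26 Cfsg.Agent.Lib.Helper27 Cfsg.Agent.Lib.Helper26.FSTr

variable {Ω : Type*} [Group Ω] {S : Subgroup Ω} [Finite S] {p : ℕ} [Fact p.Prime]

/-- In a model `G` of `F`, the `p'`-residual subsystem of `F` has as model a normal subgroup `N` of `G` of index
prime to `p`; if `N = G` then `G` has no proper normal subgroup of index prime to `p`. -/
theorem exists_normal_model (hS : IsPGroup p S) (F : FusionSystem S) (hF : F.IsSaturated p)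
    (E : FusionSystem S) (hE : F.IsPPrimeResidual p E) {G : Type*} [Group G] (ι : S →* G)
    (hM : F.IsModel p G ι) :
    ∃ N : Subgroup G, N.Normal ∧ N.index.Coprime p ∧ ∃ hN : ∀ s : S, ι s ∈ N,
      E.IsModel p ↥N (ι.codRestrict N hN) ∧
      (N = ⊤ → ∀ M : Subgroup G, M.Normal → M.index.Coprime p → M = ⊤) := by
  obtain ⟨hfin, hreal, ⟨Syl, hSyl⟩, hcent⟩ := hM
  haveI := hfin
  obtain ⟨e, he, hImgF⟩ := exists_equiv_img_of_isRealizedBy F ι hreal (Syl : Subgroup G) hSyl
  obtain ⟨E', hImgE⟩ := exists_img_over hImgF E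
  have hEn : E.IsNormalIn F p :=
    Crav.normal_pPrimeResidual hS F hF F (isWeaklyNormalIn_self F hF) E hE
  have hE'n : E'.IsNormalIn (groupFusionSystem (Syl : Subgroup G)) p := hImgE.isNormalIn hS hImgF hEn
  obtain ⟨N, ⟨hTN, hNn, hNsyl, hhom⟩, huniq⟩ :=
    NSub.normal_subsystems_of_constrained p Syl hcent (Syl : Subgroup G) E' hE'n
  have hN : ∀ s : S, ι s ∈ N := fun s => hTN (by rw [← he s]; exact (e s).2)
  have hidx : N.index.Coprime p := by
    have h1 : N.index ∣ (Syl : Subgroup G).index := Subgroup.index_dvd_of_le hTN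
    have h2 : ¬ p ∣ (Syl : Subgroup G).index := Syl.not_dvd_index
    have h3 : ¬ p ∣ N.index := fun h => h2 (h.trans h1)
    exact ((Fact.out : p.Prime).coprime_iff_not_dvd.mpr h3).symm
  refine ⟨N, hNn, hidx, hN, ⟨inferInstance, ?_, ?_, ?_⟩, ?_⟩
  · exact isRealizedBy_of_img e E E' hImgE N hTN hhom (ι.codRestrict N hN) (fun t => (he t).symm)
  · obtain ⟨R, hR⟩ := hNsyl
    refine ⟨R, ?_⟩
    rw [hR]
    ext y
    rw [Subgroup.mem_subgroupOf]
    constructor
    · intro hy
      refine ⟨e.symm ⟨y, hy⟩, ?_⟩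
      apply Subtype.ext
      show ι (e.symm ⟨y, hy⟩) = y
      rw [← he, MulEquiv.apply_symm_apply]
    · rintro ⟨s, rfl⟩
      show ι s ∈ (Syl : Subgroup G)
      rw [← he s]
      exact (e s).2
  · haveI := hNn
    exact Cfsg.Agent.Lib.Helper16.charP_of_normal hcent N
  · intro hNtop M hMn hMidx
    haveI := hMn
    have hTM : (Syl : Subgroup G) ≤ M := le_of_isPGroup_of_coprime_index M hMidx Syl.isPGroup'
    have hMsyl : ∃ R : Sylow p M, (R : Subgroup M) = (Syl : Subgroup G).subgroupOf M :=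
      exists_sylow_inf_normal Syl M
    have hE'res : (groupFusionSystem (Syl : Subgroup G)).IsPPrimeResidual p E' :=
      hImgE.isPPrimeResidual hS hImgF hE
    have hsub : E'.IsSubsystemOf (fusionSystemOfSubgroup M (Syl : Subgroup G) hTM) :=
      hE'res.2.2 _ (subFS_saturated hTM hMsyl) (subFS_hasPrimeToPIndexIn M hMidx _ hTM)
    have hMN : M = N := by
      apply huniq M
      refine ⟨hTM, hMn, hMsyl, fun P => Set.Subset.antisymm (hsub P) ?_⟩
      rintro φ ⟨h1, h2, g, -, h3⟩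
      rw [hhom]
      exact ⟨h1, h2, g, hNtop ▸ Subgroup.mem_top g, h3⟩
    rw [hMN, hNtop]

/-- In a model `H` of `E`, the subgroup `O^p(H)` is a model of the `p`-residual subsystem of `E`. -/
theorem model_pResidual (hS : IsPGroup p S) (E : FusionSystem S) (hE : E.IsSaturated p)
    (D : FusionSystem (E.hyperfocalSubgroup p)) (hD : E.IsPResidual p D) {H : Type*} [Group H]
    (ι₁ : S →* H) (hM : E.IsModel p H ι₁) :
    ∃ ι₂ : ↥(E.hyperfocalSubgroup p) →* ↥(pResidual p H), D.IsModel p ↥(pResidual p H) ι₂ := by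
  obtain ⟨hfin, hreal, ⟨Syl, hSyl⟩, hcent⟩ := hM
  haveI := hfin
  obtain ⟨e, he, hImgE⟩ := exists_equiv_img_of_isRealizedBy E ι₁ hreal (Syl : Subgroup H) hSyl
  obtain ⟨D', hImgD⟩ := exists_img_hyperfocal hS hImgE hE D
  have hD' : (groupFusionSystem (Syl : Subgroup H)).IsPResidual p D' := hImgE.isPResidual hS hE hImgD hD
  obtain ⟨hle, hhom⟩ := pResidual_groupFS_eq p Syl D' hD'
  have hhyp : mapS e (E.hyperfocalSubgroup p) = (Syl : Subgroup H) ⊓ pResidual p H := by
    rw [← hImgE.hyperfocal hS hE, groupFS_hyperfocal_eq p Syl]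
  have hTS : E.hyperfocalSubgroup p ≤ S := hyperfocal_le E p
  have hmem : ∀ t : ↥(E.hyperfocalSubgroup p),
      (ι₁.comp (Subgroup.inclusion hTS)) t ∈ pResidual p H := by
    intro t
    have h1 : ((e ⟨t, hTS t.2⟩ : (Syl : Subgroup H)) : H) ∈ mapS e (E.hyperfocalSubgroup p) :=
      apply_mem_mapS e ⟨t, hTS t.2⟩ t.2
    rw [hhyp] at h1
    show ι₁ ⟨t, hTS t.2⟩ ∈ _
    rw [← he]
    exact h1.2
  haveI hKn : (pResidual p H).Normal := Cfsg.Agent.Lib.Helper8.pResidual_normal p H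
  refine ⟨(ι₁.comp (Subgroup.inclusion hTS)).codRestrict (pResidual p H) hmem, inferInstance, ?_, ?_, ?_⟩
  · exact isRealizedBy_of_img' e D D' hImgD (pResidual p H) _ hle hhom _ (fun t => (he _).symm)
  · obtain ⟨R, hR⟩ := exists_sylow_inf_normal Syl (pResidual p H)
    refine ⟨R, ?_⟩
    rw [hR]
    ext y
    rw [Subgroup.mem_subgroupOf]
    constructor
    · intro hy
      have h1 : (y : H) ∈ mapS e (E.hyperfocalSubgroup p) := by
        rw [hhyp]; exact ⟨hy, y.2⟩
      obtain ⟨x, hx, hxy⟩ := mem_mapS.mp h1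
      refine ⟨⟨x, hx⟩, ?_⟩
      apply Subtype.ext
      show ι₁ ⟨(x : Ω), _⟩ = y
      rw [← hxy, ← he]
    · rintro ⟨t, rfl⟩
      show ι₁ ⟨t, hTS t.2⟩ ∈ (Syl : Subgroup H)
      rw [← he]
      exact (e _).2
  · exact Cfsg.Agent.Lib.Helper16.charP_of_normal hcent (pResidual p H)

end Cfsg.Agent.Lib.Helper26.RSer
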