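import Cfsg.Agent.Lib.Helper26.RSerF
import Cfsg.Agent.Lib.Helper26.RSerD
import Cfsg.Agent.Lib.Helper26.FSPPrimeResidual
import Cfsg.Agent.Lib.Helper26.PPI11
import Cfsg.Agent.Lib.Helper26.FSModel

/-!
S5156, part G: a saturated fusion system has a terminating residual series iff it is constrained with
`p`-solvable models.
-/

set_option autoImplicit false
set_option linter.style.haveILetI false

namespace Cfsg.Agent.Lib.Helper26.RSer

open Cfsg Cfsg.FusionSystem Cfsg.Agent.Lib.Helper26 Cfsg.Agent.Lib.Helper27 Cfsg.Agent.Lib.Helper26.FSTr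

universe u

theorem index_pResidual (p : ℕ) [Fact p.Prime] (H : Type*) [Group H] [Finite H] :
    ∃ m : ℕ, (pResidual p H).index = p ^ m := by
  haveI : (pResidual p H).Normal := Cfsg.Agent.Lib.Helper8.pResidual_normal p H
  have hq : IsPGroup p (H ⧸ pResidual p H) :=
    Cfsg.Agent.Lib.Helper8.isPGroup_quotient_pResidual p (pResidual p H) le_rfl
  obtain ⟨m, hm⟩ := IsPGroup.iff_card.mp hq
  exact ⟨m, by rw [Subgroup.index_eq_card, hm]⟩

/-- A system with a terminating residual series is constrained, with `p`-solvable models. -/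
theorem constrained_of_terminating {Ω : Type u} [Group Ω] {p : ℕ} {S : Subgroup Ω} {F : FusionSystem S}
    (h : F.HasTerminatingResidualSeries p) :
    Fact p.Prime → Finite S → IsPGroup p S → F.IsSaturated p →
      (F.IsConstrained p ∧ ∀ (G : Type u) [Group G] (ι : S →* G), F.IsModel p G ι → IsPSolvable p G) := by
  induction h with
  | @trivial S F p hS0 =>
    intro hp hfin hS hF
    have hSbot : ∀ x ∈ S, x = 1 := fun x hx => by
      rw [hS0] at hx
      exact Subgroup.mem_bot.mp hx
    refine ⟨⟨hF, ⊥, isNormal_bot F, bot_le, fun Q _ => ?_⟩, fun G _ ι hM => ?_⟩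
    · intro x hx
      rw [hSbot x ((centralizerIn_le _ Q) hx)]
      exact Q.one_mem
    · obtain ⟨hfinG, hreal, ⟨Syl, hSyl⟩, hcent⟩ := hM
      have hrange : ι.range = ⊥ := by
        rw [eq_bot_iff]
        rintro _ ⟨s, rfl⟩
        have : s = 1 := Subtype.ext (hSbot s s.2)
        rw [this, map_one]
        exact Subgroup.one_mem _
      have hcore : pCore p G = ⊥ := by
        rw [eq_bot_iff, ← hrange, ← hSyl]
        exact Cfsg.Agent.Lib.Helper16.pCore_le_sylow Syl
      rw [hcore] at hcent
      have htop : (⊤ : Subgroup G) = ⊥ := by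
        rw [eq_bot_iff]
        refine le_trans ?_ hcent
        intro g _
        rw [Subgroup.mem_centralizer_iff]
        intro x hx
        rw [SetLike.mem_coe, Subgroup.mem_bot] at hx
        rw [hx, one_mul, mul_one]
      haveI : Subsingleton G := by
        constructor
        intro a b
        have ha : a ∈ (⊤ : Subgroup G) := Subgroup.mem_top a
        have hb : b ∈ (⊤ : Subgroup G) := Subgroup.mem_top b
        rw [htop, Subgroup.mem_bot] at ha hb
        rw [ha, hb]
      exact Cfsg.Agent.Lib.Helper12.isPSolvable_of_subsingleton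
  | @step S F E p D hE hD _ ih =>
    intro hp hfin hS hF
    haveI := hp
    haveI := hfin
    have hTS : E.hyperfocalSubgroup p ≤ _ := hyperfocal_le E p
    obtain ⟨hDc, hDm⟩ := ih hp (finite_of_le hTS) (hS.to_le hTS) hD.1
    have hEc := constrained_of_pResidual hS E hE.1 D hD hDc
    have hFc := constrained_of_pPrimeResidual hS F hF E hE hEc
    refine ⟨hFc, fun G _ ι hM => ?_⟩
    haveI : Finite G := hM.1
    obtain ⟨N, hNn, hNidx, hN, hEM, -⟩ := exists_normal_model hS F hF E hE ι hM
    obtain ⟨ι₂, hDM⟩ := model_pResidual hS E hE.1 D hD (ι.codRestrict N hN) hEM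
    have h1 : IsPSolvable p ↥(pResidual p ↥N) := hDm _ ι₂ hDM
    have h2 : IsPSolvable p ↥N :=
      isPSolvable_of_normal_of_index p _ ↥N rfl (pResidual p ↥N)
        (Cfsg.Agent.Lib.Helper8.pResidual_normal p ↥N) h1 (Or.inl (index_pResidual p ↥N))
    exact isPSolvable_of_normal_of_index p _ G rfl N hNn h2 (Or.inr hNidx)

/-- A system with a `p`-solvable model has a terminating residual series. -/
theorem terminating_of_model (p : ℕ) [Fact p.Prime] :
    ∀ (n : ℕ) {Ω : Type u} [Group Ω] {S : Subgroup Ω} [Finite S], IsPGroup p S → ∀ (F : FusionSystem S)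
      (G : Type u) [Group G] (ι : S →* G), F.IsModel p G ι → Nat.card G = n → IsPSolvable p G →
      F.HasTerminatingResidualSeries p := by
  intro n
  induction n using Nat.strong_induction_on with
  | _ n ih =>
    intro Ω _ S _ hS F G _ ι hM hcard hsol
    by_cases hS0 : S = ⊥
    · exact .trivial F p hS0
    haveI hfin : Finite G := hM.1
    have hFsat : F.IsSaturated p := (constrained_of_model p F ι hM).1
    obtain ⟨E, hE⟩ := exists_pPrimeResidual hS F hFsat
    obtain ⟨N, hNn, hNidx, hN, hEM, htop⟩ := exists_normal_model hS F hFsat E hE ι hM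
    have hTS : E.hyperfocalSubgroup p ≤ S := hyperfocal_le E p
    obtain ⟨D, hD, -⟩ := PPI.exists_unique_ppower_index hS E hE.1 (E.hyperfocalSubgroup p) hTS le_rfl
    obtain ⟨ι₂, hDM⟩ := model_pResidual hS E hE.1 D hD (ι.codRestrict N hN) hEM
    have hsolN : IsPSolvable p ↥N := Cfsg.Agent.Lib.Helper25.isPSolvable_subgroup p hsol N
    have hsolK : IsPSolvable p ↥(pResidual p ↥N) := Cfsg.Agent.Lib.Helper25.isPSolvable_subgroup p hsolN _
    have hlt : Nat.card ↥(pResidual p ↥N) < n := by
      have h1 : Nat.card ↥(pResidual p ↥N) ≤ Nat.card ↥N := Subgroup.card_le_card_group _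
      have h2 : Nat.card ↥N ≤ Nat.card G := Subgroup.card_le_card_group _
      by_contra hge
      have e1 : Nat.card ↥(pResidual p ↥N) = Nat.card ↥N := by omega
      have e2 : Nat.card ↥N = Nat.card G := by omega
      have hNtop : N = ⊤ := (Subgroup.card_eq_iff_eq_top N).mp e2
      have hKtop : pResidual p ↥N = ⊤ := (Subgroup.card_eq_iff_eq_top _).mp e1
      -- `G` is nontrivial
      haveI : Nontrivial G := by
        have hne : ∃ s ∈ S, s ≠ 1 := by
          by_contra hcon
          push Not at hcon
          apply hS0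
          rw [eq_bot_iff]
          intro s hs
          exact Subgroup.mem_bot.mpr (hcon s hs)
        obtain ⟨s, hs, hs1⟩ := hne
        refine ⟨ι ⟨s, hs⟩, 1, fun h => hs1 ?_⟩
        have h3 : (⟨s, hs⟩ : S) = 1 := hM.2.1.1 (by rw [h, map_one])
        exact congrArg Subtype.val h3
      obtain ⟨M, hMn, hMne, hMidx⟩ := exists_proper_normal_of_isPSolvable p hsol
      rcases hMidx with ⟨m, hm⟩ | hc
      · haveI := hMn
        have hq : IsPGroup p (G ⧸ M) := IsPGroup.of_card (by rw [← Subgroup.index_eq_card, hm])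
        have hker := pResidual_le_ker' hq ((QuotientGroup.mk' M).comp N.subtype)
        rw [hKtop] at hker
        apply hMne
        rw [eq_top_iff]
        intro g _
        have hg : g ∈ N := hNtop ▸ Subgroup.mem_top g
        have h3 := hker (Subgroup.mem_top ⟨g, hg⟩)
        rw [MonoidHom.mem_ker] at h3
        exact (QuotientGroup.eq_one_iff g).mp h3
      · exact hMne (htop hNtop M hMn hc)
    haveI : Finite ↥(E.hyperfocalSubgroup p) := finite_of_le hTS
    have hDterm := ih _ hlt (hS.to_le hTS) D ↥(pResidual p ↥N) ι₂ hDM rfl hsolK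
    exact .step F E p D hE hD hDterm

end Cfsg.Agent.Lib.Helper26.RSer
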