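/-
helper26: S2281, the case `n = 2`, `q` odd.  At `m = 2` there is a one-step third conjugate as well:
the short root element `gS a = x_{e0+e1}(a)` satisfies `gS a * u0 2 c * (gS a)⁻¹ = Tr e_0 (-2a) * u0 2 c`
(any field).  With it helper13's `core_odd` assembly (`SpOddAsm`) runs verbatim at `m = 2`
(`b = e_0`, `b' = -e_1`, `b'' = e_1 + f_1`; field generation = `SpOdd.odd_core`, endgame =
helper19's `endgame_u0w0`).
-/
import Mathlib
import Cfsg.Agent.Lib.Helper13.SpOddAsm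

set_option autoImplicit false

namespace Cfsg.Agent.Lib.Helper26.RegSp

open Matrix Cfsg.Agent.Lib.Helper5 Cfsg.Agent.Lib.Helper14 Cfsg.Agent.Lib.Helper14.SpPerfect
open Cfsg.Agent.Lib.Helper6.SpGen Cfsg.Agent.Lib.Helper19.RegSpG Cfsg.Agent.Lib.Helper13.SpOdd

variable {F : Type*} [Field F]

/-- the short root element `x_{e0+e1}(a)` of `Sp_4`: fixes `e_0, e_1`, `f_0 ↦ f_0 + a e_1`,
`f_1 ↦ f_1 + a e_0`. -/
def gS (a : F) : Matrix.symplecticGroup (Fin 2) F :=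
  Tr (eV 0 + eV 1) a * Tr (eV 0) (-a) * Tr (eV 1) (-a)

theorem ap_gS (a : F) (x : Fin 2 ⊕ Fin 2 → F) :
    ap (gS a) x = x + (a * x (Sum.inr 1)) • eV 0 + (a * x (Sum.inr 0)) • eV 1 := by
  unfold gS
  rw [ap_mul, ap_mul, ap_Tr_eV, ap_Tr_eV, ap_Tr_eV_add]
  funext k
  rcases k with k | k
  · simp only [Pi.add_apply, Pi.smul_apply, eV_inl, eV_inr, smul_eq_mul]
    ring
  · simp only [Pi.add_apply, Pi.smul_apply, eV_inr, smul_eq_mul]
    ring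

/-- **the one-step third conjugate at `m = 2`** -/
theorem gS_mul_u0 (a c : F) :
    gS a * u0 2 c = Tr (eV 0) (-2 * a) * u0 2 c * gS a := by
  apply ap_ext
  intro x
  rw [ap_mul, ap_mul, ap_mul, ap_gS, ap_gS, ap_Tr_eV]
  funext k
  rcases k with k | k
  · fin_cases k
    · simp [ap_u0_inl, ap_u0_inr, Fin.sum_univ_two]
      ring
    · simp [ap_u0_inl, ap_u0_inr, Fin.sum_univ_two]
      ring
  · fin_cases k
    · simp [ap_u0_inr]
    · simp [ap_u0_inr]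

theorem gS_conj (a c : F) :
    gS a * u0 2 c * (gS a)⁻¹ = Tr (eV 0) (-2 * a) * u0 2 c := by
  rw [gS_mul_u0, mul_inv_cancel_right]

/-- the long root element is in any subgroup containing `u0 c` and its `gS a`-conjugate. -/
theorem Tr_e0_mem_two (a c : F) (M : Subgroup (Matrix.symplecticGroup (Fin 2) F))
    (hu : u0 2 c ∈ M) (hg : gS a * u0 2 c * (gS a)⁻¹ ∈ M) :
    Tr (eV 0) (-2 * a) ∈ M := by
  have h := M.mul_mem hg (M.inv_mem hu)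
  rwa [gS_conj, mul_inv_cancel_right] at h

/-- **S2281 for odd `q` and `n = 2`** (the frozen conclusion at `n = 2`): `u = u0 2 1`,
`g = gS (ζ/4)` (`ζ` a generator of `Fˣ`), `h = J`; the rest is helper13's `core_odd` assembly at
`m = 2` (`b = e_0`, `b' = -e_1`, `b'' = e_1 + f_1`). -/
theorem sp4_odd [Fintype F] (h2 : (2 : F) ≠ 0) :
    ∃ u g h : Matrix.symplecticGroup (Fin 2) F,
      IsNilpotent ((u : Matrix (Fin 2 ⊕ Fin 2) (Fin 2 ⊕ Fin 2) F) - 1) ∧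
      ((u : Matrix (Fin 2 ⊕ Fin 2) (Fin 2 ⊕ Fin 2) F) - 1) ^ (2 * 2 - 1) ≠ 0 ∧
      Subgroup.closure ({u, g * u * g⁻¹, h * u * h⁻¹} :
        Set (Matrix.symplecticGroup (Fin 2) F)) = ⊤ := by
  classical
  have hm0 : 0 < 2 := by omega
  obtain ⟨ζu, hζu⟩ := IsCyclic.exists_monoid_generator (α := Fˣ)
  obtain ⟨ζ, hζdef⟩ : ∃ ζ : F, ζ = (ζu : F) := ⟨_, rfl⟩
  have hζ : ∀ y : F, y ≠ 0 → ∃ k : ℕ, y = ζ ^ (k + 1) := by
    intro y hy
    obtain ⟨k, hk⟩ := (Submonoid.mem_powers_iff _ _).1 (hζu (ζu⁻¹ * Units.mk0 y hy))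
    refine ⟨k, ?_⟩
    rw [hζdef, pow_succ', ← Units.val_pow_eq_pow_val, hk, Units.val_mul,
      Units.val_inv_eq_inv_val, Units.val_mk0, mul_inv_cancel_left₀ ζu.ne_zero]
  obtain ⟨g0, hg0def⟩ : ∃ g0 : F, g0 = -ζ / 2 := ⟨_, rfl⟩
  have hg0 : 2 * (-1 : F) * g0 = ζ := by
    rw [hg0def]
    field_simp
  obtain ⟨a0, ha0def⟩ : ∃ a0 : F, a0 = ζ / 4 := ⟨_, rfl⟩
  have h4 : (4 : F) ≠ 0 := by
    have : (4 : F) = 2 * 2 := by norm_num
    rw [this]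
    exact mul_ne_zero h2 h2
  have ha0 : -2 * a0 = g0 := by
    rw [ha0def, hg0def]
    field_simp
    ring
  refine ⟨u0 2 1, gS a0, Jsp 2 F, (u0_regular hm0 one_ne_zero).1,
    (u0_regular hm0 one_ne_zero).2, ?_⟩
  obtain ⟨M, hM⟩ : ∃ M : Subgroup (Matrix.symplecticGroup (Fin 2) F), M =
    Subgroup.closure ({u0 2 1, gS a0 * u0 2 1 * (gS a0)⁻¹,
      Jsp 2 F * u0 2 1 * (Jsp 2 F)⁻¹} : Set (Matrix.symplecticGroup (Fin 2) F)) := ⟨_, rfl⟩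
  rw [← hM]
  have hu : u0 2 (1 : F) ∈ M := by rw [hM]; exact Subgroup.subset_closure (by simp)
  have hg : gS a0 * u0 2 (1 : F) * (gS a0)⁻¹ ∈ M := by
    rw [hM]; exact Subgroup.subset_closure (by simp)
  have hw : w0 2 (1 : F) ∈ M := by rw [hM]; exact Subgroup.subset_closure (by simp [w0])
  have hT : Tr (eV (0 : Fin 2)) g0 ∈ M := by
    have := Tr_e0_mem_two a0 1 M hu hg
    rwa [ha0] at this
  -- indices
  have hl : ((1 : Fin 2) : ℕ) + 1 = 2 := rfl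
  have hp : ((1 : Fin 2) : ℕ) = ((0 : Fin 2) : ℕ) + 1 := rfl
  have hne : (1 : Fin 2) ≠ 0 := by decide
  have chain := Apar_chain hm0 hu hw
  have cl : Apar M (eV (1 : Fin 2) : Fin 2 ⊕ Fin 2 → F) = Apar M (eV ⟨0, hm0⟩) :=
    chain 1 1 rfl
  -- forms
  have h1 : Cfsg.sympForm 2 F (eV (0 : Fin 2) : Fin 2 ⊕ Fin 2 → F) (-eV 1) = 0 := by
    rw [sympForm_neg_right, form_eV_eV, neg_zero]
  have h2' : Cfsg.sympForm 2 F (eV (0 : Fin 2) : Fin 2 ⊕ Fin 2 → F) (eV 1 + fV 1) = 0 := by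
    rw [sympForm_add_right, form_eV_eV, form_eV_fV, if_neg hne, neg_zero, add_zero]
  have hc : Cfsg.sympForm 2 F (eV (1 : Fin 2) + fV 1 : Fin 2 ⊕ Fin 2 → F) (-eV 1) = -1 := by
    rw [sympForm_neg_right, sympForm_add_left, form_eV_eV, form_fV_eV, if_pos rfl, zero_add]
  -- parameter groups
  have p1 : Apar M (-eV (1 : Fin 2) : Fin 2 ⊕ Fin 2 → F) = Apar M (eV (0 : Fin 2)) := by
    rw [Apar_neg_vec, cl]
    rfl
  have p2 : Apar M (eV (1 : Fin 2) + fV 1 : Fin 2 ⊕ Fin 2 → F) = Apar M (eV (0 : Fin 2)) := by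
    rw [← Apar_ap hw (eV 1 + fV 1), w0_last_sum 1 hl, cl]
    rfl
  have p3 : Apar M (eV (0 : Fin 2) + -eV 1 : Fin 2 ⊕ Fin 2 → F) = Apar M (eV (0 : Fin 2)) := by
    rw [← sub_eq_add_neg, ← w0_eV_succ 1 0 1 hp, Apar_ap hw]
  have p4 : Apar M (eV (0 : Fin 2) + (eV 1 + fV 1) : Fin 2 ⊕ Fin 2 → F) =
      Apar M (eV (0 : Fin 2)) := by
    have e : ap (w0 2 (1 : F)) (eV 0 + (eV 1 + fV 1)) = (eV 0 : Fin 2 ⊕ Fin 2 → F) := by
      rw [ap_add, w0_eV_succ 1 0 1 hp, w0_last_sum 1 hl, sub_add_cancel]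
    rw [← Apar_ap hw (eV 0 + (eV 1 + fV 1)), e]
  have hRt : (eV (0 : Fin 2) : Fin 2 ⊕ Fin 2 → F) ∈ Rt M :=
    odd_core h2 h1 h2' hc (by norm_num) p1 p2 p3 p4 ζ hζ g0 hg0 hT
  exact endgame_u0w0 hm0 hu hw hRt

end Cfsg.Agent.Lib.Helper26.RegSp
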