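/-
helper26: S2281 part (0), file C: regularity of block upper triangular matrices
`fromBlocks A B 0 D` (Siegel parabolic shape): if `(A - 1) ^ n = 0 = (D - 1) ^ n` and
`(A - 1) ^ (n - 1) * B * (D - 1) ^ (n - 1) ≠ 0` then `M - 1` is nilpotent and `(M - 1) ^ (2 n - 1) ≠ 0`.
-/
import Mathlib

set_option autoImplicit false

namespace Cfsg.Agent.Lib.Helper26.RegSp

open Matrix

variable {F : Type*} [Field F] {n : ℕ}

/-- powers of a block upper triangular matrix -/
theorem fromBlocks_upper_pow (a B d : Matrix (Fin n) (Fin n) F) (k : ℕ) :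
    (fromBlocks a B 0 d) ^ k =
      fromBlocks (a ^ k) (∑ i ∈ Finset.range k, a ^ i * B * d ^ (k - 1 - i)) 0 (d ^ k) := by
  induction k with
  | zero =>
    rw [pow_zero, pow_zero, pow_zero, Finset.range_zero, Finset.sum_empty, fromBlocks_one]
  | succ k ih =>
    rw [pow_succ, ih, fromBlocks_multiply]
    congr 1
    · rw [Matrix.mul_zero, add_zero, pow_succ]
    · rw [Finset.sum_range_succ, Finset.sum_mul, add_comm]
      congr 1
      · apply Finset.sum_congr rfl
        intro i hi
        have hi' := Finset.mem_range.1 hi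
        have : k + 1 - 1 - i = (k - 1 - i) + 1 := by omega
        rw [this, pow_succ, Matrix.mul_assoc]
      · have : k + 1 - 1 - k = 0 := by omega
        rw [this, pow_zero, Matrix.mul_one]
    · rw [Matrix.zero_mul, Matrix.mul_zero, add_zero]
    · rw [Matrix.zero_mul, zero_add, pow_succ]

/-- **regularity criterion, block form** -/
theorem regular_of_blocks (hn : 0 < n) (A B D : Matrix (Fin n) (Fin n) F)
    (hA : (A - 1) ^ n = 0) (hD : (D - 1) ^ n = 0)
    (hne : (A - 1) ^ (n - 1) * B * (D - 1) ^ (n - 1) ≠ 0) :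
    IsNilpotent (fromBlocks A B 0 D - 1) ∧ (fromBlocks A B 0 D - 1) ^ (2 * n - 1) ≠ 0 := by
  have hsub : fromBlocks A B 0 D - 1 = fromBlocks (A - 1) B 0 (D - 1) := by
    rw [← fromBlocks_one, sub_eq_add_neg, fromBlocks_neg, fromBlocks_add, neg_zero, add_zero,
      add_zero, ← sub_eq_add_neg, ← sub_eq_add_neg]
  have hAk : ∀ k, n ≤ k → (A - 1) ^ k = 0 := by
    intro k hk
    obtain ⟨j, rfl⟩ := Nat.exists_eq_add_of_le hk
    rw [pow_add, hA, Matrix.zero_mul]
  have hDk : ∀ k, n ≤ k → (D - 1) ^ k = 0 := by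
    intro k hk
    obtain ⟨j, rfl⟩ := Nat.exists_eq_add_of_le hk
    rw [pow_add, hD, Matrix.zero_mul]
  rw [hsub]
  constructor
  · refine ⟨2 * n, ?_⟩
    rw [fromBlocks_upper_pow, hAk (2 * n) (by omega), hDk (2 * n) (by omega)]
    have : ∑ i ∈ Finset.range (2 * n), (A - 1) ^ i * B * (D - 1) ^ (2 * n - 1 - i) = 0 := by
      apply Finset.sum_eq_zero
      intro i hi
      have hi' := Finset.mem_range.1 hi
      by_cases h : n ≤ i
      · rw [hAk i h, Matrix.zero_mul, Matrix.zero_mul]
      · rw [hDk (2 * n - 1 - i) (by omega), Matrix.mul_zero]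
    rw [this, fromBlocks_zero]
  · rw [fromBlocks_upper_pow]
    intro h
    have h12 := congrArg Matrix.toBlocks₁₂ h
    rw [toBlocks_fromBlocks₁₂] at h12
    have hz : (0 : Matrix (Fin n ⊕ Fin n) (Fin n ⊕ Fin n) F).toBlocks₁₂ = 0 := by
      ext i j
      rfl
    rw [hz] at h12
    apply hne
    rw [← h12]
    symm
    rw [Finset.sum_eq_single (n - 1)]
    · have : 2 * n - 1 - 1 - (n - 1) = n - 1 := by omega
      rw [this]
    · intro i hi hne'
      have hi' := Finset.mem_range.1 hi
      by_cases h : n ≤ i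
      · rw [hAk i h, Matrix.zero_mul, Matrix.zero_mul]
      · rw [hDk (2 * n - 1 - 1 - i) (by omega), Matrix.mul_zero]
    · intro h
      exfalso
      apply h
      rw [Finset.mem_range]
      omega

end Cfsg.Agent.Lib.Helper26.RegSp
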