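/-
helper26: S2281 part (0), file F: the columns of `u0 c`, `w0 c` in `eV`/`fV` form, the inverse actions
used by the cores, and helper25's endgame instantiated at the pair `u0 1`, `w0 1`.
-/
import Mathlib
import Cfsg.Agent.Lib.Helper6.SpGenB
import Cfsg.Agent.Lib.Helper25.SpRegEnd
import Cfsg.Agent.Lib.Helper26.RegSpE

set_option autoImplicit false

namespace Cfsg.Agent.Lib.Helper26.RegSp

open Matrix Cfsg.Agent.Lib.Helper5 Cfsg.Agent.Lib.Helper14 Cfsg.Agent.Lib.Helper6.SpGen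

variable {F : Type*} [Field F] {m : ℕ}

/-! ### `u0 c` -/

theorem ap_u0_eV_zero (c : F) (i : Fin m) (hi : i.val = 0) :
    ap (u0 m c) (eV i) = (eV i : Fin m ⊕ Fin m → F) := by
  rw [ap_u0_eV]
  funext a
  rcases a with k | k
  · simp only [colE_inl, eV_inl, Fin.le_def, Fin.ext_iff]
    split_ifs <;> first | rfl | (exfalso; omega)
  · simp only [colE_inr, eV_inr]

theorem ap_u0_eV_sub (c : F) (i j : Fin m) (hj : j.val = i.val + 1) :
    ap (u0 m c) (eV i - eV j) = (-eV j : Fin m ⊕ Fin m → F) := by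
  rw [ap_sub, ap_u0_eV, ap_u0_eV]
  funext a
  rcases a with k | k
  · simp only [Pi.sub_apply, Pi.neg_apply, colE_inl, eV_inl, Fin.le_def, Fin.ext_iff]
    split_ifs <;> first | (exfalso; omega) | simp
  · simp only [Pi.sub_apply, Pi.neg_apply, colE_inr, eV_inr, sub_self, neg_zero]

theorem ap_u0_eV_succ (c : F) (i j : Fin m) (hj : j.val = i.val + 1) :
    ap (u0 m c) (eV j) = ap (u0 m c) (eV i) + (eV j : Fin m ⊕ Fin m → F) := by
  have h := ap_u0_eV_sub c i j hj
  rw [ap_sub] at h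
  have : ap (u0 m c) (eV j) = ap (u0 m c) (eV i) - (-eV j : Fin m ⊕ Fin m → F) := by
    rw [← h]; abel
  rw [this, sub_neg_eq_add]

theorem ap_u0_inv_eV_zero (c : F) (i : Fin m) (hi : i.val = 0) :
    ap (u0 m c)⁻¹ (eV i) = (eV i : Fin m ⊕ Fin m → F) :=
  ap_inv_eq (ap_u0_eV_zero c i hi)

theorem ap_u0_inv_eV_succ (c : F) (i j : Fin m) (hj : j.val = i.val + 1) :
    ap (u0 m c)⁻¹ (eV j) = (eV j - eV i : Fin m ⊕ Fin m → F) := by
  apply ap_inv_eq
  have h := ap_u0_eV_sub c i j hj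
  have e : (eV j - eV i : Fin m ⊕ Fin m → F) = -(eV i - eV j) := by abel
  rw [e, ap_neg, h, neg_neg]

theorem ap_u0_fV_of_lt (c : F) (i j : Fin m) (hj : j.val = i.val + 1) :
    ap (u0 m c) (fV i) = (fV i - fV j : Fin m ⊕ Fin m → F) := by
  rw [ap_u0_fV]
  funext a
  have := j.2
  rcases a with k | k
  · simp only [colF_inl, Pi.sub_apply, fV_inl, sub_self]
    rw [if_neg (by omega)]
  · simp only [colF_inr, phiF, Pi.sub_apply, fV_inr, Fin.ext_iff]
    split_ifs <;> first | (exfalso; omega) | simp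

theorem ap_u0_fV_last (c : F) (il : Fin m) (hl : il.val + 1 = m) :
    ap (u0 m c) (fV il) = (fV il + c • ap (u0 m c) (eV il) : Fin m ⊕ Fin m → F) := by
  rw [ap_u0_fV, ap_u0_eV]
  funext a
  rcases a with k | k
  · have := k.2
    simp only [colF_inl, Pi.add_apply, Pi.smul_apply, fV_inl, colE_inl, smul_eq_mul, Fin.le_def]
    rw [if_pos hl, if_pos (by omega), mul_one, zero_add]
  · have := k.2
    simp only [colF_inr, phiF, Pi.add_apply, Pi.smul_apply, fV_inr, colE_inr, smul_eq_mul,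
      mul_zero, add_zero, Fin.ext_iff]
    split_ifs <;> first | (exfalso; omega) | rfl

theorem ap_u0_inv_fV_last (c : F) (il : Fin m) (hl : il.val + 1 = m) :
    ap (u0 m c)⁻¹ (fV il) = (fV il - c • eV il : Fin m ⊕ Fin m → F) := by
  apply ap_inv_eq
  rw [ap_sub, ap_smul, ap_u0_fV_last c il hl, add_sub_cancel_right]

/-! ### `w0 c` -/

theorem ap_w0_eV_of_lt (c : F) (i j : Fin m) (hj : j.val = i.val + 1) :
    ap (w0 m c) (eV i) = (eV i - eV j : Fin m ⊕ Fin m → F) := by
  rw [ap_w0_eV]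
  funext a
  have := j.2
  rcases a with k | k
  · show phiF i k = _
    simp only [phiF, Pi.sub_apply, eV_inl, Fin.ext_iff]
    split_ifs <;> first | (exfalso; omega) | simp
  · show (if (i : ℕ) + 1 = m then -c else 0) = _
    simp only [Pi.sub_apply, eV_inr, sub_self]
    rw [if_neg (by omega)]

theorem ap_w0_fV_zero (c : F) (i : Fin m) (hi : i.val = 0) :
    ap (w0 m c) (fV i) = (fV i : Fin m ⊕ Fin m → F) := by
  rw [ap_w0_fV]
  funext a
  rcases a with k | k
  · show (0 : F) = _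
    simp only [fV_inl]
  · show (if k ≤ i then (1 : F) else 0) = _
    simp only [fV_inr, Fin.le_def, Fin.ext_iff]
    split_ifs <;> first | rfl | (exfalso; omega)

theorem ap_w0_fV_sub (c : F) (i j : Fin m) (hj : j.val = i.val + 1) :
    ap (w0 m c) (fV i - fV j) = (-fV j : Fin m ⊕ Fin m → F) := by
  rw [ap_sub, ap_w0_fV, ap_w0_fV]
  funext a
  rcases a with k | k
  · show (0 : F) - 0 = _
    simp only [Pi.neg_apply, fV_inl, sub_self, neg_zero]
  · show (if k ≤ i then (1 : F) else 0) - (if k ≤ j then (1 : F) else 0) = _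
    simp only [Pi.neg_apply, fV_inr, Fin.le_def, Fin.ext_iff]
    split_ifs <;> first | (exfalso; omega) | simp

theorem ap_w0_inv_fV_succ (c : F) (i j : Fin m) (hj : j.val = i.val + 1) :
    ap (w0 m c)⁻¹ (fV j) = (fV j - fV i : Fin m ⊕ Fin m → F) := by
  apply ap_inv_eq
  have h := ap_w0_fV_sub c i j hj
  have e : (fV j - fV i : Fin m ⊕ Fin m → F) = -(fV i - fV j) := by abel
  rw [e, ap_neg, h, neg_neg]

theorem ap_w0_eV_last (c : F) (il : Fin m) (hl : il.val + 1 = m) :
    ap (w0 m c) (eV il) = (eV il - c • ap (w0 m c) (fV il) : Fin m ⊕ Fin m → F) := by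
  rw [ap_w0_eV, ap_w0_fV]
  funext a
  rcases a with k | k
  · have := k.2
    show phiF il k = _
    simp only [phiF, Pi.sub_apply, Pi.smul_apply, eV_inl, smul_eq_mul, Fin.ext_iff]
    show _ = _ - c * (0 : F)
    rw [mul_zero, sub_zero]
    split_ifs <;> first | (exfalso; omega) | rfl
  · have := k.2
    show (if (il : ℕ) + 1 = m then -c else 0) = _
    simp only [Pi.sub_apply, Pi.smul_apply, eV_inr, smul_eq_mul, zero_sub]
    show _ = -(c * (if k ≤ il then (1 : F) else 0))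
    rw [if_pos hl, if_pos (by rw [Fin.le_def]; omega), mul_one]

theorem ap_w0_inv_eV_last (c : F) (il : Fin m) (hl : il.val + 1 = m) :
    ap (w0 m c)⁻¹ (eV il) = (eV il + c • fV il : Fin m ⊕ Fin m → F) := by
  apply ap_inv_eq
  rw [ap_add, ap_smul, ap_w0_eV_last c il hl, sub_add_cancel]

/-! ### the product `u0 * w0` on the last `e`, and the endgame -/

theorem rowF_zero (i : Fin m) (hi : i.val = 0) : (rowF i : Fin m ⊕ Fin m → F) = fV i := by
  funext a
  rcases a with k | k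
  · show (0 : F) = _
    simp only [fV_inl]
  · show (if k ≤ i then (1 : F) else 0) = _
    simp only [fV_inr, Fin.le_def, Fin.ext_iff]
    split_ifs <;> first | rfl | (exfalso; omega)

theorem rowF_succ (i j : Fin m) (hj : j.val = i.val + 1) :
    (rowF j : Fin m ⊕ Fin m → F) = rowF i + fV j := by
  funext a
  rcases a with k | k
  · show (0 : F) = (0 : F) + _
    simp only [fV_inl, add_zero]
  · show (if k ≤ j then (1 : F) else 0) = (if k ≤ i then (1 : F) else 0) + _
    simp only [fV_inr, Fin.le_def, Fin.ext_iff]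
    split_ifs <;> first | (exfalso; omega) | simp

theorem ap_u0_rowF (c : F) : ∀ (n : ℕ) (i j i0 : Fin m), i.val = n → j.val = n + 1 → i0.val = 0 →
    ap (u0 m c) (rowF i) = (fV i0 - fV j : Fin m ⊕ Fin m → F) := by
  intro n
  induction n with
  | zero =>
    intro i j i0 hi hj h0
    have : i = i0 := Fin.ext (by rw [hi, h0])
    subst this
    rw [rowF_zero i hi, ap_u0_fV_of_lt c i j (by rw [hj, hi])]
  | succ n ih =>
    intro i j i0 hi hj h0
    have hn : n < m := by have := i.2; omega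
    rw [rowF_succ ⟨n, hn⟩ i (by rw [hi]), ap_add, ih ⟨n, hn⟩ i i0 rfl hi h0,
      ap_u0_fV_of_lt c i j (by rw [hj, hi])]
    abel

theorem ap_u0_rowF_last (c : F) (i0 il : Fin m) (h0 : i0.val = 0) (hl : il.val + 1 = m) :
    ap (u0 m c) (rowF il) = (fV i0 + c • ap (u0 m c) (eV il) : Fin m ⊕ Fin m → F) := by
  rcases Nat.eq_zero_or_pos il.val with h | h
  · have : il = i0 := Fin.ext (by rw [h, h0])
    subst this
    rw [rowF_zero il h, ap_u0_fV_last c il hl]
  · obtain ⟨n, hn⟩ := Nat.exists_eq_succ_of_ne_zero (Nat.pos_iff_ne_zero.1 h)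
    have hn' : n < m := by have := il.2; omega
    rw [rowF_succ ⟨n, hn'⟩ il (by rw [hn]), ap_add, ap_u0_rowF c n ⟨n, hn'⟩ il i0 rfl (by rw [hn]) h0,
      ap_u0_fV_last c il hl]
    abel

/-- `u0 c (w0 c e_{m-1}) = (1 - c²) u0 c e_{m-1} - c f_0` -/
theorem ap_u0_w0_eV_last (c : F) (i0 il : Fin m) (h0 : i0.val = 0) (hl : il.val + 1 = m) :
    ap (u0 m c) (ap (w0 m c) (eV il)) =
      ((1 - c ^ 2) • ap (u0 m c) (eV il) - c • fV i0 : Fin m ⊕ Fin m → F) := by
  rw [ap_w0_eV_last c il hl, ap_w0_fV, ap_sub, ap_smul, ap_u0_rowF_last c i0 il h0 hl]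
  module

/-- **helper25's endgame for the concrete pair** `u0 1`, `w0 1`: a subgroup containing both and one
full long root group `Tr e_0 F` is everything -/
theorem endgame_u0 (hm : 0 < m) {M : Subgroup (Matrix.symplecticGroup (Fin m) F)}
    (hu : u0 m (1 : F) ∈ M) (hw : w0 m (1 : F) ∈ M)
    (h0 : (eV ⟨0, hm⟩ : Fin m ⊕ Fin m → F) ∈ Rt M) : M = ⊤ := by
  refine Cfsg.Agent.Lib.Helper25.SpReg.endgame hm hu hw ?_ ?_ ?_ ?_ ?_ h0
  · intro i j hj
    exact ap_w0_eV_of_lt 1 i j hj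
  · intro i j hj
    exact ap_u0_eV_sub 1 i j hj
  · intro i0 il h0' hl
    rw [ap_u0_w0_eV_last 1 i0 il h0' hl]
    module
  · intro i j hj
    exact ap_u0_fV_of_lt 1 i j hj
  · intro i j hj
    exact ap_w0_fV_sub 1 i j hj

end Cfsg.Agent.Lib.Helper26.RegSp
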