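import Cfsg.Agent.Lib.Helper1.Coprime
import Cfsg.Agent.Lib.Helper26.PPI11
import Cfsg.Agent.Lib.Helper26.FSFactorHyp
import Cfsg.Agent.Lib.Helper26.FSNormal
set_option autoImplicit false

/-!
Coprime action: `x = c w` with `c` fixed and `w ∈ [H, g]`; the hyperfocal subgroup of a subsystem of `p`-power index.
-/

namespace Cfsg.Agent.Lib.Helper26.ResLim

open Cfsg Cfsg.FusionSystem Cfsg.Agent.Lib.Helper26

universe u

section Abstract

variable {H : Type u} [Group H]

/-- the subgroup `[H, g]` generated by the `y⁻¹ g(y)` -/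
def commSub (g : MulAut H) : Subgroup H := Subgroup.closure {z | ∃ y : H, z = y⁻¹ * g y}

theorem commSub_mem (g : MulAut H) (y : H) : y⁻¹ * g y ∈ commSub g := Subgroup.subset_closure ⟨y, rfl⟩

theorem commSub_inv (g : MulAut H) : ∀ z ∈ commSub g, g z ∈ commSub g := by
  intro z hz
  unfold commSub at hz
  induction hz using Subgroup.closure_induction with
  | mem z hz =>
    obtain ⟨y, rfl⟩ := hz
    have : g (y⁻¹ * g y) = (g y)⁻¹ * g (g y) := by simp
    rw [this]; exact commSub_mem g _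
  | one => simp
  | mul a b _ _ ha hb => rw [map_mul]; exact (commSub g).mul_mem ha hb
  | inv a _ ha => rw [map_inv]; exact (commSub g).inv_mem ha

theorem commSub_inv' (g : MulAut H) : ∀ z ∈ commSub g, g⁻¹ z ∈ commSub g := by
  intro z hz
  unfold commSub at hz
  induction hz using Subgroup.closure_induction with
  | mem z hz =>
    obtain ⟨y, rfl⟩ := hz
    have : g⁻¹ (y⁻¹ * g y) = (g⁻¹ y)⁻¹ * g (g⁻¹ y) := by simp
    rw [this]; exact commSub_mem g _
  | one => simp
  | mul a b _ _ ha hb => rw [map_mul]; exact (commSub g).mul_mem ha hb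
  | inv a _ ha => rw [map_inv]; exact (commSub g).inv_mem ha

theorem commSub_zpow (g : MulAut H) (k : ℤ) : (∀ z ∈ commSub g, (g ^ k) z ∈ commSub g) ∧
    ∀ y : H, y⁻¹ * (g ^ k) y ∈ commSub g := by
  induction k using Int.induction_on with
  | zero => simp
  | succ i ih =>
    have e : g ^ ((i : ℤ) + 1) = g * g ^ (i : ℤ) := by rw [zpow_add_one]; exact (Commute.zpow_self g _).symm.eq ▸ rfl
    refine ⟨fun z hz => ?_, fun y => ?_⟩
    · rw [e, MulAut.mul_apply]; exact commSub_inv g _ (ih.1 z hz)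
    · rw [e, MulAut.mul_apply]
      have : y⁻¹ * g ((g ^ (i : ℤ)) y) = (y⁻¹ * (g ^ (i : ℤ)) y) * (((g ^ (i : ℤ)) y)⁻¹ * g ((g ^ (i : ℤ)) y)) := by
        group
      rw [this]; exact (commSub g).mul_mem (ih.2 y) (commSub_mem g _)
  | pred i ih =>
    have e : g ^ (-(i : ℤ) - 1) = g⁻¹ * g ^ (-(i : ℤ)) := by
      rw [zpow_sub_one]; exact ((Commute.zpow_self g _).inv_right).symm.eq ▸ rfl
    refine ⟨fun z hz => ?_, fun y => ?_⟩
    · rw [e, MulAut.mul_apply]; exact commSub_inv' g _ (ih.1 z hz)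
    · rw [e, MulAut.mul_apply]
      set w := (g ^ (-(i : ℤ))) y with hw
      have h1 : w⁻¹ * g⁻¹ w ∈ commSub g := by
        have h2 := commSub_mem g (g⁻¹ w)
        have h3 : (g⁻¹ w)⁻¹ * g (g⁻¹ w) = (w⁻¹ * g⁻¹ w)⁻¹ := by simp
        rw [h3] at h2
        exact (Subgroup.inv_mem_iff _).mp h2
      have : y⁻¹ * g⁻¹ w = (y⁻¹ * w) * (w⁻¹ * g⁻¹ w) := by group
      rw [this]; exact (commSub g).mul_mem (ih.2 y) h1

theorem grp_aux1 {G : Type*} [Group G] (u v : G) : u⁻¹ * (u * v * u⁻¹) * (u⁻¹)⁻¹ = v := by group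

theorem grp_aux2 {G : Type*} [Group G] (u v : G) : u⁻¹ * v * u * v⁻¹ = u⁻¹ * (v * u * v⁻¹) := by group

/-- **Coprime action**: every element is a product of a fixed point and an element of `[H, g]`. -/
theorem coprime_decomp [Finite H] {p : ℕ} [Fact p.Prime] (hH : IsPGroup p H)
    (g : MulAut H) (hcop : (orderOf g).Coprime p) (x : H) :
    ∃ c w : H, x = c * w ∧ g c = c ∧ w ∈ commSub g := by
  classical
  let A : Subgroup (MulAut H) := Subgroup.zpowers g
  let φ : ↥A →* MulAut H := A.subtype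
  let Γ := H ⋊[φ] ↥A
  have hAfin : Finite ↥A := by
    have : Finite (MulAut H) := inferInstance
    infer_instance
  have : Finite Γ := Finite.of_equiv _ (SemidirectProduct.equivProd (N := H) (G := ↥A) (φ := φ)).symm
  let il : H →* Γ := SemidirectProduct.inl
  let ir : ↥A →* Γ := SemidirectProduct.inr
  have hil_inj : Function.Injective il := SemidirectProduct.inl_injective
  have hir_inj : Function.Injective ir := SemidirectProduct.inr_injective
  have haut : ∀ (a : ↥A) (n : H), il ((a : MulAut H) n) = ir a * il n * (ir a)⁻¹ := by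
    intro a n
    have := SemidirectProduct.inl_aut (φ := φ) a n
    rw [map_inv] at this
    exact this
  let N : Subgroup Γ := (commSub g).map il
  let A' : Subgroup Γ := ir.range
  have hAmem : ∀ a : ↥A, ∃ k : ℤ, (a : MulAut H) = g ^ k := by
    intro a
    obtain ⟨k, hk⟩ := Subgroup.mem_zpowers_iff.mp a.2
    exact ⟨k, hk.symm⟩
  have hnorm : A' ≤ Subgroup.normalizer (N : Set Γ) := by
    rintro _ ⟨a, rfl⟩
    rw [Subgroup.mem_normalizer_iff]
    intro γ
    obtain ⟨k, hk⟩ := hAmem a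
    constructor
    · rintro ⟨z, hz, rfl⟩
      refine ⟨(a : MulAut H) z, ?_, haut a z⟩
      rw [hk]; exact (commSub_zpow g k).1 z hz
    · rintro ⟨z, hz, hzγ⟩
      refine ⟨(a⁻¹ : ↥A).1 z, ?_, ?_⟩
      · have : ((a⁻¹ : ↥A) : MulAut H) = g ^ (-k) := by
          rw [zpow_neg, ← hk]; rfl
        rw [this]; exact (commSub_zpow g (-k)).1 z hz
      · rw [haut, hzγ, map_inv]
        exact grp_aux1 _ _
  have hcardA : Nat.card A' = orderOf g := by
    have h1 : Nat.card A' = Nat.card ↥A := by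
      rw [Nat.card_congr (MonoidHom.ofInjective hir_inj).toEquiv.symm]
    rw [h1]; exact Nat.card_zpowers g
  have hNp : IsPGroup p N := (hH.to_subgroup _).map il
  have hcop' : Nat.Coprime (Nat.card A') (Nat.card N) := by
    obtain ⟨n, hn⟩ := hNp.exists_card_eq
    rw [hcardA, hn]
    exact Nat.Coprime.pow_right _ hcop
  have hsolv : Group.IsSolvable A' ∨ Group.IsSolvable N := by
    left
    apply Group.isSolvable_of_comm
    rintro ⟨_, a, rfl⟩ ⟨_, b, rfl⟩
    apply Subtype.ext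
    show ir a * ir b = ir b * ir a
    obtain ⟨i, hi⟩ := hAmem a
    obtain ⟨j, hj⟩ := hAmem b
    have : a * b = b * a := by
      apply Subtype.ext
      show (a : MulAut H) * (b : MulAut H) = (b : MulAut H) * (a : MulAut H)
      rw [hi, hj, ← zpow_add, ← zpow_add, add_comm]
    rw [← map_mul, ← map_mul, this]
  have hx : ∀ a ∈ A', (il x)⁻¹ * a * il x * a⁻¹ ∈ N := by
    rintro _ ⟨a, rfl⟩
    obtain ⟨k, hk⟩ := hAmem a
    have e : (il x)⁻¹ * ir a * il x * (ir a)⁻¹ = il (x⁻¹ * (a : MulAut H) x) := by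
      rw [map_mul, haut, map_inv]
      exact grp_aux2 _ _
    rw [e]
    refine ⟨_, ?_, rfl⟩
    rw [hk]; exact (commSub_zpow g k).2 x
  obtain ⟨n, hn, hc⟩ := Cfsg.Agent.Lib.Helper1.exists_mul_mem_centralizer hnorm hcop' hsolv (il x) hx
  obtain ⟨m, hm, rfl⟩ := hn
  refine ⟨x * m, m⁻¹, by group, ?_, (commSub g).inv_mem hm⟩
  have hgA : g ∈ A := Subgroup.mem_zpowers g
  have h1 := Subgroup.mem_centralizer_iff.mp hc (ir ⟨g, hgA⟩) ⟨_, rfl⟩
  have h2 : il (g (x * m)) = ir ⟨g, hgA⟩ * il (x * m) * (ir ⟨g, hgA⟩)⁻¹ := haut ⟨g, hgA⟩ (x * m)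
  rw [map_mul il x m, h1, mul_inv_cancel_right, ← map_mul] at h2
  exact hil_inj h2

/-- `x⁻¹ g(x) = w⁻¹ g(w)` for some `w ∈ [H, g]`. -/
theorem coprime_comm_eq [Finite H] {p : ℕ} [Fact p.Prime] (hH : IsPGroup p H)
    (g : MulAut H) (hcop : (orderOf g).Coprime p) (x : H) :
    ∃ w ∈ commSub g, x⁻¹ * g x = w⁻¹ * g w := by
  obtain ⟨c, w, rfl, hc, hw⟩ := coprime_decomp hH g hcop x
  refine ⟨w, hw, ?_⟩
  rw [map_mul, hc]; group

end Abstract

section Fusion

variable {Ω : Type u} [Group Ω] {S : Subgroup Ω}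

theorem restrictAut_pow {R Q : Subgroup Ω} (g : MulAut R) (hQR : Q ≤ R)
    (h : (Q.subgroupOf R).map (R.subtype.comp g.toMonoidHom) = Q)
    (hinj : Function.Injective (R.subtype.comp g.toMonoidHom)) (n : ℕ) (q : Q) :
    (((restrictAut (R.subtype.comp g.toMonoidHom) hinj hQR h) ^ n) q : Ω) =
      (((g ^ n) (Subgroup.inclusion hQR q) : R) : Ω) := by
  induction n generalizing q with
  | zero => simp
  | succ k ih =>
    rw [pow_succ, pow_succ, MulAut.mul_apply, MulAut.mul_apply, ih]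
    congr 2

/-- A subsystem of `p`-power index has the same hyperfocal subgroup. -/
theorem hyperfocal_eq_of_ppower_index [Finite S] {p : ℕ} [Fact p.Prime] (hS : IsPGroup p S) (F : FusionSystem S)
    {T : Subgroup Ω} (E : FusionSystem T) (hidx : E.HasPPowerIndexIn F p) :
    E.hyperfocalSubgroup p = F.hyperfocalSubgroup p := by
  apply le_antisymm (PPI.hyperfocal_le_of_subsystem E F hidx.1)
  have hTS : T ≤ S := hom_le F (hidx.1 T (subtype_mem E le_rfl))
  have hmain : ∀ (P : Subgroup Ω), P ≤ S → ∀ α ∈ pResidual p (F.autGroup P), ∀ x : P,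
      (x : Ω)⁻¹ * (((α : MulAut P) x : P) : Ω) ∈ E.hyperfocalSubgroup p := by
    intro P hP
    apply pResidual_induction (F.autGroup P) (E.hyperfocalSubgroup p)
    intro g hg x
    haveI : Finite ↥P := Finite.of_injective _ (Subgroup.inclusion_injective hP)
    have hPp : IsPGroup p ↥P := hS.to_le hP
    have hcop : (orderOf (g : MulAut P)).Coprime p := by rw [Subgroup.orderOf_coe]; exact hg
    obtain ⟨w, hw, hxw⟩ := coprime_comm_eq hPp (g : MulAut P) hcop x
    have hgres : g ∈ pResidual p (F.autGroup P) := Subgroup.subset_closure hg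
    set H₀ := F.hyperfocalSubgroup p with hH₀
    have hcomm : commSub (g : MulAut P) ≤ H₀.subgroupOf P := by
      unfold commSub
      rw [Subgroup.closure_le]
      rintro _ ⟨y, rfl⟩
      show ((y⁻¹ * (g : MulAut P) y : P) : Ω) ∈ H₀
      exact mem_hyperfocal_of F p hP g hgres y
    have hginv : ∀ y : P, (y : Ω) ∈ H₀ → (((g : MulAut P) y : P) : Ω) ∈ H₀ := by
      intro y hy
      have h1 := mem_hyperfocal_of F p hP g hgres y
      have h2 := H₀.mul_mem hy h1
      rwa [mul_inv_cancel_left] at h2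
    have hginv' : ∀ y : P, (y : Ω) ∈ H₀ → ((((g : MulAut P)⁻¹) y : P) : Ω) ∈ H₀ := by
      intro y hy
      have h1 := mem_hyperfocal_of F p hP g hgres (((g : MulAut P)⁻¹) y)
      have e : (g : MulAut P) (((g : MulAut P)⁻¹) y) = y := by simp
      rw [e] at h1
      -- h1 : (g⁻¹ y)⁻¹ * y ∈ H₀
      have h2 := H₀.mul_mem hy (H₀.inv_mem h1)
      have e2 : (y : Ω) * ((((((g : MulAut P)⁻¹) y : P)) : Ω)⁻¹ * (y : Ω))⁻¹ = ((((g : MulAut P)⁻¹) y : P) : Ω) := by
        group
      rwa [e2] at h2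
    set Q : Subgroup Ω := P ⊓ H₀ with hQ
    have hQP : Q ≤ P := inf_le_left
    have hQT : Q ≤ T := inf_le_right.trans hidx.2.1
    set ψ : P →* Ω := P.subtype.comp (g : MulAut P).toMonoidHom with hψ
    have hψF : ψ ∈ F.Hom P := (mem_autGroup_iff F hP _).mp g.2
    have hinj : Function.Injective ψ := F.injective_of_mem hψF
    have hmap : (Q.subgroupOf P).map ψ = Q := by
      ext z
      constructor
      · rintro ⟨y, hy, rfl⟩
        have hy' : (y : Ω) ∈ Q := hy
        exact ⟨((g : MulAut P) y).2, hginv y hy'.2⟩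
      · intro hz
        refine ⟨((g : MulAut P)⁻¹) ⟨z, hz.1⟩, ?_, ?_⟩
        · show ((((g : MulAut P)⁻¹) ⟨z, hz.1⟩ : P) : Ω) ∈ Q
          exact ⟨(((g : MulAut P)⁻¹) ⟨z, hz.1⟩).2, hginv' ⟨z, hz.1⟩ hz.2⟩
        · show (((g : MulAut P) (((g : MulAut P)⁻¹) ⟨z, hz.1⟩) : P) : Ω) = z
          simp
    set β : MulAut Q := restrictAut ψ hinj hQP hmap with hβ
    have hβF : β ∈ F.autGroup Q := by
      rw [mem_autGroup_iff F (hQP.trans hP)]
      have : Q.subtype.comp β.toMonoidHom = ψ.comp (Subgroup.inclusion hQP) := by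
        ext q; rfl
      rw [this]
      exact inclusion_comp_mem F hQP hψF
    have hβord : orderOf β ∣ orderOf (g : MulAut P) := by
      apply orderOf_dvd_of_pow_eq_one
      ext q
      rw [restrictAut_pow (g : MulAut P) hQP hmap hinj, pow_orderOf_eq_one]
      rfl
    have hβcop : (orderOf β).Coprime p := Nat.Coprime.coprime_dvd_left hβord hcop
    have hβres : β ∈ (pResidual p (F.autGroup Q)).map (F.autGroup Q).subtype := by
      refine ⟨⟨β, hβF⟩, Subgroup.subset_closure ?_, rfl⟩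
      show (orderOf (⟨β, hβF⟩ : F.autGroup Q)).Coprime p
      rw [Subgroup.orderOf_mk]; exact hβcop
    have hβE : β ∈ E.autGroup Q := hidx.2.2 Q hQT hβres
    have hβEres : (⟨β, hβE⟩ : E.autGroup Q) ∈ pResidual p (E.autGroup Q) := by
      apply Subgroup.subset_closure
      show (orderOf (⟨β, hβE⟩ : E.autGroup Q)).Coprime p
      rw [Subgroup.orderOf_mk]; exact hβcop
    have hwQ : (w : Ω) ∈ Q := ⟨w.2, hcomm hw⟩
    have h3 := mem_hyperfocal_of E p hQT ⟨β, hβE⟩ hβEres ⟨(w : Ω), hwQ⟩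
    have h4 : (x : Ω)⁻¹ * (((g : MulAut P) x : P) : Ω) = (w : Ω)⁻¹ * (((g : MulAut P) w : P) : Ω) := by
      have := congrArg (Subtype.val) hxw
      simpa using this
    rw [h4]
    exact h3
  unfold hyperfocalSubgroup
  rw [Subgroup.closure_le]
  rintro _ ⟨P, α, x, hP, hα, rfl⟩
  exact hmain P hP α hα x

end Fusion

end Cfsg.Agent.Lib.Helper26.ResLim
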