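import Cfsg.Prelude.Def_FusionReduction
import Cfsg.Agent.Lib.Helper26.ResLimA
import Cfsg.Agent.Lib.Helper27.FSPPowerIndex
set_option autoImplicit false

/-!
Residual limits of fusion systems are determined up to equality of the sets of maps; the residual limit of a normal
subsystem of `p`-power index (S5203).
-/

namespace Cfsg.Agent.Lib.Helper26.ResLim

open Cfsg Cfsg.FusionSystem Cfsg.Agent.Lib.Helper26

universe u

variable {Ω : Type u} [Group Ω]

/-- two fusion systems (over possibly different subgroups) with the same maps -/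
def HomEq {A B : Subgroup Ω} (X : FusionSystem A) (Y : FusionSystem B) : Prop := ∀ P : Subgroup Ω, X.Hom P = Y.Hom P

theorem HomEq.refl {A : Subgroup Ω} (X : FusionSystem A) : HomEq X X := fun _ => rfl

theorem HomEq.symm {A B : Subgroup Ω} {X : FusionSystem A} {Y : FusionSystem B} (h : HomEq X Y) : HomEq Y X :=
  fun P => (h P).symm

theorem HomEq.trans {A B C : Subgroup Ω} {X : FusionSystem A} {Y : FusionSystem B} {Z : FusionSystem C}
    (h : HomEq X Y) (h' : HomEq Y Z) : HomEq X Z := fun P => (h P).trans (h' P)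

theorem HomEq.subgroup_eq {A B : Subgroup Ω} {X : FusionSystem A} {Y : FusionSystem B} (h : HomEq X Y) : A = B := by
  apply le_antisymm
  · have h1 : A.subtype ∈ X.Hom A := subtype_mem X le_rfl
    rw [h A] at h1
    exact hom_le Y h1
  · have h1 : B.subtype ∈ Y.Hom B := subtype_mem Y le_rfl
    rw [← h B] at h1
    exact hom_le X h1

theorem HomEq.elim {A B : Subgroup Ω} {X : FusionSystem A} {Y : FusionSystem B} (h : HomEq X Y)
    {motive : ∀ (B : Subgroup Ω), FusionSystem B → Prop} (hm : motive A X) : motive B Y := by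
  have hAB := h.subgroup_eq
  subst hAB
  have : X = Y := PPI.fusionSystem_eq_of_hom X Y h
  subst this
  exact hm

variable {p : ℕ}

theorem ppi_homEq {S : Subgroup Ω} [Finite S] [Fact p.Prime] (hS : IsPGroup p S) (F : FusionSystem S)
    {T T' : Subgroup Ω} (hTT' : T = T') (E : FusionSystem T) (E' : FusionSystem T')
    (hE : E.IsSaturated p) (hE' : E'.IsSaturated p) (h : E.HasPPowerIndexIn F p)
    (h' : E'.HasPPowerIndexIn F p) : HomEq E E' := by
  subst hTT'
  exact Cfsg.Agent.Lib.Helper27.ppower_index_unique hS F E E' hE hE' h h'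

theorem pprime_residual_unique {B : Subgroup Ω} (D D₁ D₂ : FusionSystem B)
    (h₁ : D.IsPPrimeResidual p D₁) (h₂ : D.IsPPrimeResidual p D₂) : D₁ = D₂ :=
  PPI.fusionSystem_eq_of_hom _ _
    (fun P => Set.Subset.antisymm (h₁.2.2 D₂ h₂.1 h₂.2.1 P) (h₂.2.2 D₁ h₁.1 h₁.2.1 P))

theorem hasPPowerIndexIn_self {S : Subgroup Ω} (F : FusionSystem S) (p : ℕ) : F.HasPPowerIndexIn F p := by
  refine ⟨fun P => subset_rfl, hyperfocal_le F p, fun P _ => ?_⟩
  rintro _ ⟨a, _, rfl⟩
  exact a.2

theorem homEq_of_stable [Fact p.Prime] {A B : Subgroup Ω} (X : FusionSystem A) [Finite A] (hA : IsPGroup p A)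
    (hX1 : X.hyperfocalSubgroup p = A) (hX2 : X.IsPPrimeResidual p X) (Y : FusionSystem B) (hYX : HomEq Y X)
    (D D' : FusionSystem (Y.hyperfocalSubgroup p)) (h1 : Y.IsPResidual p D) (h2 : D.IsPPrimeResidual p D') :
    HomEq D' X := by
  revert D D'
  refine hYX.symm.elim (motive := fun B Y => ∀ (D D' : FusionSystem (Y.hyperfocalSubgroup p)),
    Y.IsPResidual p D → D.IsPPrimeResidual p D' → HomEq D' X) ?_
  intro D D' h1 h2
  have hDX : HomEq D X := ppi_homEq hA X hX1 D X h1.1 hX2.1 h1.2 (hasPPowerIndexIn_self X p)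
  revert D'
  refine hDX.symm.elim (motive := fun B D => ∀ D' : FusionSystem B, D.IsPPrimeResidual p D' → HomEq D' X) ?_
  intro D' h2
  rw [pprime_residual_unique X D' X h2 hX2]
  exact HomEq.refl X

/-- every residual limit of a system with the same maps as a stable system `X` has the same maps as `X` -/
theorem stable_unique {V B : Subgroup Ω} (L : FusionSystem V) (Y : FusionSystem B)
    (hL : IsResidualLimitOf L Y p) : Fact p.Prime → ∀ {A : Subgroup Ω} (X : FusionSystem A), Finite A → IsPGroup p A →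
      X.hyperfocalSubgroup p = A → X.IsPPrimeResidual p X → HomEq Y X → HomEq L X := by
  induction hL with
  | stable F p h1 h2 => intro _ A X _ _ _ _ h; exact h
  | step F p D D' h1 h2 h3 ih =>
    intro hpf A X hfin hp hX1 hX2 hYX
    exact ih hpf X hfin hp hX1 hX2 (homEq_of_stable X hp hX1 hX2 F hYX D D' h1 h2)

/-- **Determinism of the residual limit.** -/
theorem limit_unique {U A : Subgroup Ω} (L₁ : FusionSystem U) (X : FusionSystem A)
    (h₁ : IsResidualLimitOf L₁ X p) : Fact p.Prime → Finite A → IsPGroup p A →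
      ∀ {V : Subgroup Ω} (L₂ : FusionSystem V), IsResidualLimitOf L₂ X p → HomEq L₁ L₂ := by
  induction h₁ with
  | stable F p h1 h2 =>
    intro hpf hfin hp V L₂ hL₂
    exact (stable_unique L₂ F hL₂ hpf F hfin hp h1 h2 (HomEq.refl F)).symm
  | step F p D D' g1 g2 g3 ih =>
    intro hpf hfin hp V L₂ hL₂
    have hfin' : Finite (F.hyperfocalSubgroup p) :=
      Finite.of_injective _ (Subgroup.inclusion_injective (hyperfocal_le F p))
    have hp' : IsPGroup p (F.hyperfocalSubgroup p) := hp.to_le (hyperfocal_le F p)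
    cases hL₂ with
    | stable _ _ k1 k2 =>
      exact stable_unique _ F (IsResidualLimitOf.step F p D D' g1 g2 g3) hpf F hfin hp k1 k2 (HomEq.refl F)
    | step _ _ D₂ D₂' k1 k2 k3 =>
      have e1 : D = D₂ := PPI.fusionSystem_eq_of_hom _ _
        (Cfsg.Agent.Lib.Helper27.ppower_index_unique hp F D D₂ g1.1 k1.1 g1.2 k1.2)
      subst e1
      have e2 : D' = D₂' := pprime_residual_unique D D' D₂' g2 k2
      subst e2
      exact ih hpf hfin' hp' L₂ k3

theorem pprime_homEq {B B' : Subgroup Ω} (D : FusionSystem B) (E : FusionSystem B') (h : HomEq D E)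
    (D' : FusionSystem B) (E' : FusionSystem B') (hD' : D.IsPPrimeResidual p D')
    (hE' : E.IsPPrimeResidual p E') : HomEq D' E' := by
  revert E'
  refine h.elim (motive := fun B' E => ∀ E' : FusionSystem B', E.IsPPrimeResidual p E' → HomEq D' E') ?_
  intro E' hE'
  rw [pprime_residual_unique D D' E' hD' hE']
  exact HomEq.refl _

theorem limit_homEq [hpf : Fact p.Prime] {A B : Subgroup Ω} (X : FusionSystem A) (Y : FusionSystem B) (h : HomEq X Y)
    [hfin : Finite A] (hp : IsPGroup p A) {U V : Subgroup Ω} (L₁ : FusionSystem U) (L₂ : FusionSystem V)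
    (h₁ : IsResidualLimitOf L₁ X p) (h₂ : IsResidualLimitOf L₂ Y p) : HomEq L₁ L₂ := by
  revert h₂
  revert L₂
  revert V
  refine h.elim (motive := fun B Y => ∀ {V : Subgroup Ω} (L₂ : FusionSystem V),
    IsResidualLimitOf L₂ Y p → HomEq L₁ L₂) ?_
  intro V L₂ h₂
  exact limit_unique L₁ X h₁ hpf hfin hp L₂ h₂

/-- **S5203**: a saturated subsystem of `p`-power index has the same residual limits. -/
theorem residual_limit_ppower_index {S : Subgroup Ω} [Finite S] [hpf : Fact p.Prime] (hS : IsPGroup p S)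
    (F : FusionSystem S) (hF : F.IsSaturated p) {T : Subgroup Ω} (E : FusionSystem T) (hEsat : E.IsSaturated p)
    (hidx : E.HasPPowerIndexIn F p) {U V : Subgroup Ω} (Finf : FusionSystem U)
    (hFinf : IsResidualLimitOf Finf F p) (Einf : FusionSystem V) (hEinf : IsResidualLimitOf Einf E p) :
    HomEq Finf Einf := by
  have hTS : T ≤ S := hom_le F (hidx.1 T (subtype_mem E le_rfl))
  have hyp : E.hyperfocalSubgroup p = F.hyperfocalSubgroup p := hyperfocal_eq_of_ppower_index hS F E hidx
  have hfinT : Finite T := Finite.of_injective _ (Subgroup.inclusion_injective hTS)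
  have hTp : IsPGroup p T := hS.to_le hTS
  have hfinS : Finite S := inferInstance
  cases hFinf with
  | stable _ _ k1 k2 =>
    have hTeq : T = S := le_antisymm hTS (by rw [← k1]; exact hidx.2.1)
    have hEF : HomEq E F := ppi_homEq hS F hTeq E F hEsat hF hidx (hasPPowerIndexIn_self F p)
    exact (stable_unique Einf E hEinf hpf F hfinS hS k1 k2 hEF).symm
  | step _ _ D D' g1 g2 g3 =>
    cases hEinf with
    | stable _ _ k1 k2 =>
      have hDE : HomEq D E := ppi_homEq hS F (hyp.symm.trans k1) D E g1.1 hEsat g1.2 hidx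
      have hD'E : HomEq D' E := pprime_homEq D E hDE D' E g2 k2
      exact stable_unique Finf D' g3 hpf E hfinT hTp k1 k2 hD'E
    | step _ _ DE DE' k1 k2 k3 =>
      have hDE_F : DE.HasPPowerIndexIn F p := by
        refine ⟨fun P φ hφ => hidx.1 P (k1.2.1 P hφ), by rw [hyp], fun P hP => ?_⟩
        have h_a := hidx.2.2 P (hP.trans (hyperfocal_le E p))
        exact (PPI.map_pResidual_le_of_le h_a).trans (k1.2.2.2 P hP)
      have hDD : HomEq D DE := ppi_homEq hS F hyp.symm D DE g1.1 k1.1 g1.2 hDE_F
      have hD'D' : HomEq D' DE' := pprime_homEq D DE hDD D' DE' g2 k2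
      haveI : Finite (F.hyperfocalSubgroup p) :=
        Finite.of_injective _ (Subgroup.inclusion_injective (hyperfocal_le F p))
      have hp' : IsPGroup p (F.hyperfocalSubgroup p) := hS.to_le (hyperfocal_le F p)
      exact limit_homEq D' DE' hD'D' hp' Finf Einf g3 k3

end Cfsg.Agent.Lib.Helper26.ResLim
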