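import Cfsg.Agent.Lib.Helper26.EssChain

/-!
Strongly closed metacyclic subgroups (part A): two `p`-power order automorphisms of a group of order `p ^ 2` with
different fixed subgroups generate the inversion; metacyclic groups have no quotient of exponent `p` and
order more than `p ^ 2`; the norm of a quadratic automorphism.
-/

set_option autoImplicit false
set_option linter.unusedSectionVars false
universe u

namespace Cfsg.Agent.Lib.Helper26.SCM

open Cfsg

section Inv

variable {V : Type u} [Group V]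

/-- The subgroup of fixed points of an automorphism. -/
def fixSub (t : MulAut V) : Subgroup V where
  carrier := {v | t v = v}
  one_mem' := map_one t
  mul_mem' := by
    intro a b ha hb
    simp only [Set.mem_ofPred_eq] at *
    rw [map_mul, ha, hb]
  inv_mem' := by
    intro a ha
    simp only [Set.mem_ofPred_eq] at *
    rw [map_inv, ha]

theorem mem_fixSub (t : MulAut V) (v : V) : v ∈ fixSub t ↔ t v = v := Iff.rfl

/-- The subgroup of elements inverted by an automorphism of an abelian group. -/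
def invSub (hab : ∀ a b : V, a * b = b * a) (s : MulAut V) : Subgroup V where
  carrier := {v | s v = v⁻¹}
  one_mem' := by
    show s 1 = 1⁻¹
    rw [map_one, inv_one]
  mul_mem' := by
    intro a b ha hb
    simp only [Set.mem_ofPred_eq] at *
    rw [map_mul, ha, hb, mul_inv_rev, hab]
  inv_mem' := by
    intro a ha
    simp only [Set.mem_ofPred_eq] at *
    rw [map_inv, ha]

theorem mem_invSub (hab : ∀ a b : V, a * b = b * a) (s : MulAut V) (v : V) : v ∈ invSub hab s ↔ s v = v⁻¹ := Iff.rfl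

variable [Finite V] {p : ℕ} [Fact p.Prime]

theorem exists_fixed_ne_one (hdvd : p ∣ Nat.card V) (t : MulAut V) {j : ℕ} (ht : t ^ (p ^ j) = 1) :
    ∃ v : V, v ≠ 1 ∧ t v = v := by
  have hG : IsPGroup p (Subgroup.zpowers t) := by
    rintro ⟨g, hg⟩
    obtain ⟨i, rfl⟩ := Subgroup.mem_zpowers_iff.mp hg
    refine ⟨j, Subtype.ext ?_⟩
    show (t ^ i) ^ (p ^ j) = 1
    rw [← zpow_natCast, ← zpow_mul, mul_comm, zpow_mul, zpow_natCast, ht, one_zpow]
  have h1 : (1 : V) ∈ MulAction.fixedPoints (Subgroup.zpowers t) V := by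
    intro g
    show (g : MulAut V) (1 : V) = 1
    exact map_one _
  obtain ⟨b, hb, hne⟩ := hG.exists_fixed_point_of_prime_dvd_card_of_fixed_point V hdvd h1
  refine ⟨b, hne.symm, ?_⟩
  exact hb ⟨t, Subgroup.mem_zpowers t⟩

theorem card_fixSub (hcard : Nat.card V = p ^ 2) (t : MulAut V) {j : ℕ} (ht : t ^ (p ^ j) = 1) (ht1 : t ≠ 1) :
    Nat.card (fixSub t) = p := by
  have hpp : p.Prime := Fact.out
  have hdvd : p ∣ Nat.card V := by rw [hcard]; exact dvd_pow_self p two_ne_zero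
  obtain ⟨v, hv1, hv⟩ := exists_fixed_ne_one hdvd t ht
  have h1 : Nat.card (fixSub t) ∣ p ^ 2 := hcard ▸ Subgroup.card_subgroup_dvd_card _
  obtain ⟨i, hi2, hi⟩ := (Nat.dvd_prime_pow hpp).mp h1
  interval_cases i
  · exfalso
    rw [pow_zero, Subgroup.card_eq_one] at hi
    have : v ∈ fixSub t := hv
    rw [hi, Subgroup.mem_bot] at this
    exact hv1 this
  · simpa using hi
  · exfalso
    have : fixSub t = ⊤ := Subgroup.eq_top_of_card_eq _ (hi.trans hcard.symm)
    apply ht1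
    ext x
    have hx : x ∈ fixSub t := this ▸ Subgroup.mem_top x
    exact hx

/-- A `p`-power order automorphism of a group of order `p ^ 2` is quadratic. -/
theorem quad (hab : ∀ a b : V, a * b = b * a) (hcard : Nat.card V = p ^ 2) (t : MulAut V) {j : ℕ}
    (ht : t ^ (p ^ j) = 1) (ht1 : t ≠ 1) (v : V) : v⁻¹ * t v ∈ fixSub t := by
  have hF := card_fixSub hcard t ht ht1
  have hn : ((fixSub t).subgroupOf ⊤).Normal := by
    constructor
    intro n hn g
    rw [Subgroup.mem_subgroupOf] at hn ⊢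
    have : ((g * n * g⁻¹ : (⊤ : Subgroup V)) : V) = (n : V) := by
      show (g : V) * n * (g : V)⁻¹ = n
      rw [hab (g : V) n, mul_inv_cancel_right]
    rw [this]
    exact hn
  have hc : Nat.card (⊤ : Subgroup V) = p * Nat.card (fixSub t) := by
    rw [Subgroup.card_top, hcard, hF, sq]
  have := triv_on_section' (⊤ : Subgroup V) (fixSub t) le_top hn hc t (fun x => by simp)
    (fun x => by
      rw [mem_fixSub, mem_fixSub]
      constructor
      · intro h; rw [h, h]
      · intro h; exact t.injective h) ht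
  exact this v (Subgroup.mem_top v)

theorem pow_eq_of_card_eq_prime {K : Subgroup V} (hK : Nat.card K = p) {e g : V} (he : e ∈ K) (he1 : e ≠ 1)
    (hg : g ∈ K) : ∃ i : ℕ, e ^ i = g := by
  have hne : (⟨e, he⟩ : K) ≠ 1 := fun h => he1 (congrArg Subtype.val h)
  have h3 := mem_zpowers_of_prime_card (G := K) hK hne (g' := ⟨g, hg⟩)
  rw [← mem_powers_iff_mem_zpowers, Submonoid.mem_powers_iff] at h3
  obtain ⟨k, hk⟩ := h3
  refine ⟨k, ?_⟩
  have := congrArg Subtype.val hk
  rwa [Subgroup.coe_pow] at this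

/-- Two `p`-power order automorphisms of a group of order `p ^ 2` with different fixed subgroups generate the inversion. -/
theorem exists_pow_inverting (hab : ∀ a b : V, a * b = b * a) (hcard : Nat.card V = p ^ 2) (t t' : MulAut V)
    {j j' : ℕ} (ht : t ^ (p ^ j) = 1) (ht' : t' ^ (p ^ j') = 1) (ht'1 : t' ≠ 1) (v₀ : V) (h0' : t' v₀ = v₀)
    (h0 : t v₀ ≠ v₀) : ∃ k : ℕ, ∀ v : V, ((t * t' ^ k * t) ^ 2) v = v⁻¹ := by
  have hpp : p.Prime := Fact.out
  have ht1 : t ≠ 1 := fun h => h0 (by rw [h]; rfl)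
  have hF' : Nat.card (fixSub t') = p := card_fixSub hcard t' ht' ht'1
  obtain ⟨e₁, he₁def⟩ : ∃ e₁, e₁ = v₀⁻¹ * t v₀ := ⟨_, rfl⟩
  have hte₁ : t e₁ = e₁ := he₁def ▸ quad hab hcard t ht ht1 v₀
  have he₁1 : e₁ ≠ 1 := by
    intro e
    rw [e] at he₁def
    exact h0 (inv_mul_eq_one.mp he₁def.symm).symm
  have hte₂ : t v₀ = v₀ * e₁ := by rw [he₁def]; group
  have he₁F' : t' e₁ ≠ e₁ := by
    intro h
    obtain ⟨i, hi⟩ := pow_eq_of_card_eq_prime hF' (show e₁ ∈ fixSub t' from h) he₁1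
      (show v₀ ∈ fixSub t' from h0')
    apply h0
    rw [← hi, map_pow, hte₁]
  obtain ⟨u, hudef⟩ : ∃ u, u = e₁⁻¹ * t' e₁ := ⟨_, rfl⟩
  have huF' : u ∈ fixSub t' := hudef ▸ quad hab hcard t' ht' ht'1 e₁
  have hu1 : u ≠ 1 := by
    intro e
    rw [e] at hudef
    exact he₁F' (inv_mul_eq_one.mp hudef.symm).symm
  obtain ⟨k, hk⟩ : ∃ k : ℕ, u ^ k = v₀⁻¹ :=
    pow_eq_of_card_eq_prime hF' huF' hu1 ((fixSub t').inv_mem h0')
  have ht'u : t' u = u := huF'
  have ht'e₁ : t' e₁ = e₁ * u := by rw [hudef]; group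
  have hY₁ : ∀ n : ℕ, (t' ^ n) e₁ = e₁ * u ^ n := by
    intro n
    induction n with
    | zero => simp
    | succ n ih =>
      rw [pow_succ', MulAut.mul_apply, ih, map_mul, map_pow, ht'e₁, ht'u, pow_succ', mul_assoc]
  have hY₂ : ∀ n : ℕ, (t' ^ n) v₀ = v₀ := by
    intro n
    induction n with
    | zero => simp
    | succ n ih => rw [pow_succ', MulAut.mul_apply, ih, h0']
  refine ⟨k, ?_⟩
  obtain ⟨w, hwdef⟩ : ∃ w, w = t * t' ^ k * t := ⟨_, rfl⟩
  rw [← hwdef]
  have hw₁ : w e₁ = v₀⁻¹ := by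
    rw [hwdef]
    show t ((t' ^ k) (t e₁)) = _
    rw [hte₁, hY₁, hk, map_mul, map_inv, hte₁, hte₂, mul_inv_rev]
    group
  have hw₂ : w v₀ = e₁ := by
    rw [hwdef]
    show t ((t' ^ k) (t v₀)) = _
    rw [hte₂, map_mul, hY₂, hY₁, hk, hab v₀ (e₁ * v₀⁻¹), inv_mul_cancel_right, hte₁]
  have h1 : e₁ ∈ invSub hab (w ^ 2) := by
    show (w ^ 2) e₁ = e₁⁻¹
    rw [sq, MulAut.mul_apply, hw₁, map_inv, hw₂]
  have h2 : v₀ ∈ invSub hab (w ^ 2) := by
    show (w ^ 2) v₀ = v₀⁻¹
    rw [sq, MulAut.mul_apply, hw₂, hw₁]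
  have hv₀1 : v₀ ≠ 1 := fun h => h0 (by rw [h, map_one])
  have hle : fixSub t' ≤ invSub hab (w ^ 2) := by
    intro g hg
    obtain ⟨i, hi⟩ := pow_eq_of_card_eq_prime hF' (show v₀ ∈ fixSub t' from h0') hv₀1 hg
    rw [← hi]
    exact Subgroup.pow_mem _ h2 i
  have hd : Nat.card (invSub hab (w ^ 2)) ∣ p ^ 2 := hcard ▸ Subgroup.card_subgroup_dvd_card _
  obtain ⟨i, hi2, hi⟩ := (Nat.dvd_prime_pow hpp).mp hd
  have hd' : p ∣ Nat.card (invSub hab (w ^ 2)) := hF' ▸ Subgroup.card_dvd_of_le hle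
  have htop : invSub hab (w ^ 2) = ⊤ := by
    interval_cases i
    · exfalso
      rw [hi, pow_zero, Nat.dvd_one] at hd'
      exact hpp.one_lt.ne' hd'
    · exfalso
      have := Subgroup.eq_of_le_of_card_ge hle (by rw [hi, hF', pow_one])
      apply he₁F'
      have h3 : e₁ ∈ fixSub t' := this ▸ h1
      exact h3
    · exact Subgroup.eq_top_of_card_eq _ (hi.trans hcard.symm)
  intro v
  have : v ∈ invSub hab (w ^ 2) := htop ▸ Subgroup.mem_top v
  exact this

end Inv

end Cfsg.Agent.Lib.Helper26.SCM
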