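import Cfsg.Agent.Lib.Helper26.SCMetaA
import Cfsg.Prelude.Def_OddOrderLocal

/-!
Strongly closed metacyclic subgroups (part B): a group `A` acting on a group `V` of order dividing `p ^ 2` such that a
`p`-element `a` of a normal subgroup `C` lies in no normal subgroup of `A` inside `C` acting as a `p`-group: then
`|V| = p ^ 2`, `a` acts quadratically and some element of `C` inverts `V`.
-/

set_option autoImplicit false
set_option linter.unusedSectionVars false
universe u v

namespace Cfsg.Agent.Lib.Helper26.SCM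

open Cfsg

section Act

variable {A : Type v} [Group A] {V : Type u} [Group V]

/-- The elements of `C` acting trivially on `K` and on `V / K`. -/
def stabSub (ρ : A →* MulAut V) (C : Subgroup A) (K : Subgroup V) : Subgroup A where
  carrier := {x | x ∈ C ∧ (∀ v ∈ K, ρ x v = v) ∧ ∀ v, v⁻¹ * ρ x v ∈ K}
  one_mem' := by
    refine ⟨C.one_mem, fun v _ => ?_, fun v => ?_⟩
    · rw [map_one]; rfl
    · rw [map_one]
      show v⁻¹ * v ∈ K
      rw [inv_mul_cancel]
      exact K.one_mem
  mul_mem' := by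
    rintro x y ⟨hxC, hx1, hx2⟩ ⟨hyC, hy1, hy2⟩
    refine ⟨C.mul_mem hxC hyC, fun v hv => ?_, fun v => ?_⟩
    · rw [map_mul, MulAut.mul_apply, hy1 v hv, hx1 v hv]
    · rw [map_mul, MulAut.mul_apply]
      have : v⁻¹ * ρ x (ρ y v) = (v⁻¹ * ρ y v) * ((ρ y v)⁻¹ * ρ x (ρ y v)) := by group
      rw [this]
      exact K.mul_mem (hy2 v) (hx2 _)
  inv_mem' := by
    rintro x ⟨hxC, hx1, hx2⟩
    refine ⟨C.inv_mem hxC, fun v hv => ?_, fun v => ?_⟩
    · rw [map_inv]
      have h := hx1 v hv
      have h2 : (ρ x)⁻¹ (ρ x v) = v := MulAut.inv_apply_self _ _ _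
      rw [h] at h2
      exact h2
    · rw [map_inv]
      have h := hx2 ((ρ x)⁻¹ v)
      rw [MulAut.apply_inv_self] at h
      have := K.inv_mem h
      rwa [mul_inv_rev, inv_inv] at this

theorem mem_stabSub (ρ : A →* MulAut V) (C : Subgroup A) (K : Subgroup V) (x : A) :
    x ∈ stabSub ρ C K ↔ x ∈ C ∧ (∀ v ∈ K, ρ x v = v) ∧ ∀ v, v⁻¹ * ρ x v ∈ K := Iff.rfl

theorem stabSub_normal (ρ : A →* MulAut V) (C : Subgroup A) [hC : C.Normal] (K : Subgroup V)
    (hK : ∀ g : A, ∀ v ∈ K, ρ g v ∈ K) : (stabSub ρ C K).Normal := by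
  constructor
  rintro x ⟨hxC, hx1, hx2⟩ g
  have hgg : ∀ v, ρ g (ρ g⁻¹ v) = v := by
    intro v
    rw [← MulAut.mul_apply, ← map_mul, mul_inv_cancel, map_one]
    rfl
  refine ⟨hC.conj_mem x hxC g, fun v hv => ?_, fun v => ?_⟩
  · rw [map_mul, map_mul, MulAut.mul_apply, MulAut.mul_apply, hx1 _ (hK g⁻¹ v hv), hgg]
  · rw [map_mul, map_mul, MulAut.mul_apply, MulAut.mul_apply]
    have h1 := hK g _ (hx2 (ρ g⁻¹ v))
    rw [map_mul, map_inv, hgg] at h1
    exact h1

theorem stabSub_pow [Finite V] (ρ : A →* MulAut V) (C : Subgroup A) (K : Subgroup V) {x : A}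
    (hx : x ∈ stabSub ρ C K) : (ρ x) ^ (Nat.card K) = 1 := by
  obtain ⟨-, hx1, hx2⟩ := hx
  have := stab_step (α := ρ x) (N := K) (M := ⊤) le_top (fun v _ => hx2 v) 1
    (fun v hv => by rw [pow_one]; exact hx1 v hv)
  ext v
  have h := this v (Subgroup.mem_top v)
  rw [one_mul] at h
  exact h

variable [Finite V] {p : ℕ} [Fact p.Prime]

/-- The main lemma on the action on the Frattini quotient. -/
theorem exists_inverting (hab : ∀ a b : V, a * b = b * a) (hcard : Nat.card V ∣ p ^ 2)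
    (ρ : A →* MulAut V) (C : Subgroup A) [hC : C.Normal] (a : A) (haC : a ∈ C) {j : ℕ} (hap : a ^ (p ^ j) = 1)
    (hcore : ∀ X : Subgroup A, X.Normal → X ≤ C → (∀ x ∈ X, ∃ k : ℕ, (ρ x) ^ (p ^ k) = 1) → a ∉ X) :
    Nat.card V = p ^ 2 ∧ (∀ v : V, ρ a (v⁻¹ * ρ a v) = v⁻¹ * ρ a v) ∧ ∃ h ∈ C, ∀ v : V, ρ h v = v⁻¹ := by
  have hpp : p.Prime := Fact.out
  have h1 : ρ a ≠ 1 := by
    intro h
    refine hcore (C ⊓ ρ.ker) inferInstance inf_le_left ?_ ⟨haC, h⟩
    rintro x ⟨-, hx⟩
    exact ⟨0, by rw [MonoidHom.mem_ker.mp hx, one_pow]⟩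
  have htj : (ρ a) ^ (p ^ j) = 1 := by rw [← map_pow, hap, map_one]
  have hcard2 : Nat.card V = p ^ 2 := by
    obtain ⟨i, hi2, hi⟩ := (Nat.dvd_prime_pow hpp).mp hcard
    interval_cases i
    · exfalso
      apply h1
      rw [pow_zero] at hi
      have : Subsingleton V := (Nat.card_eq_one_iff_unique.mp hi).1
      ext v
      exact Subsingleton.elim _ _
    · exfalso
      apply h1
      have hn : ((⊥ : Subgroup V).subgroupOf ⊤).Normal := by
        rw [Subgroup.bot_subgroupOf]
        infer_instance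
      have hc : Nat.card (⊤ : Subgroup V) = p * Nat.card (⊥ : Subgroup V) := by
        rw [Subgroup.card_top, hi, Subgroup.card_bot, pow_one, mul_one]
      have := triv_on_section' (⊤ : Subgroup V) ⊥ bot_le hn hc (ρ a) (fun x => by simp)
        (fun x => by
          rw [Subgroup.mem_bot, Subgroup.mem_bot]
          constructor
          · intro h; rw [h, map_one]
          · intro h
            have := (ρ a).injective (h.trans (map_one (ρ a)).symm)
            exact this) htj
      ext v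
      have h2 := this v (Subgroup.mem_top v)
      rw [Subgroup.mem_bot] at h2
      exact (inv_mul_eq_one.mp h2).symm
    · exact hi
  have hF : Nat.card (fixSub (ρ a)) = p := card_fixSub hcard2 _ htj h1
  have hquad : ∀ v, v⁻¹ * ρ a v ∈ fixSub (ρ a) := quad hab hcard2 _ htj h1
  refine ⟨hcard2, fun v => hquad v, ?_⟩
  have hninv : ∃ g : A, ∃ v ∈ fixSub (ρ a), ρ g v ∉ fixSub (ρ a) := by
    by_contra hcon
    push Not at hcon
    refine hcore (stabSub ρ C (fixSub (ρ a))) (stabSub_normal ρ C _ hcon) (fun x hx => hx.1) ?_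
      ⟨haC, fun v hv => hv, hquad⟩
    intro x hx
    refine ⟨1, ?_⟩
    have := stabSub_pow ρ C _ hx
    rwa [hF, ← pow_one p] at this
  obtain ⟨g, v₁, hv₁, hgv⟩ := hninv
  obtain ⟨a₂, ha₂⟩ : ∃ a₂, a₂ = g * a * g⁻¹ := ⟨_, rfl⟩
  have ha₂C : a₂ ∈ C := ha₂ ▸ hC.conj_mem a haC g
  have ha₂j : (ρ a₂) ^ (p ^ j) = 1 := by
    rw [← map_pow, ha₂, conj_pow, hap, mul_one, mul_inv_cancel, map_one]
  have ha₂1 : ρ a₂ ≠ 1 := by
    intro h
    apply h1
    have : a = g⁻¹ * a₂ * g := by rw [ha₂]; group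
    rw [this, map_mul, map_mul, h, mul_one, ← map_mul, inv_mul_cancel, map_one]
  have hgg : ∀ v, ρ g⁻¹ (ρ g v) = v := by
    intro v
    rw [← MulAut.mul_apply, ← map_mul, inv_mul_cancel, map_one]
    rfl
  have h0' : ρ a₂ (ρ g v₁) = ρ g v₁ := by
    rw [ha₂, map_mul, map_mul, MulAut.mul_apply, MulAut.mul_apply, hgg]
    congr 1
  obtain ⟨k, hk⟩ := exists_pow_inverting hab hcard2 (ρ a) (ρ a₂) htj ha₂j ha₂1 (ρ g v₁) h0' hgv
  refine ⟨(a * a₂ ^ k * a) ^ 2, C.pow_mem (C.mul_mem (C.mul_mem haC (C.pow_mem ha₂C k)) haC) 2, ?_⟩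
  intro v
  rw [map_pow, map_mul, map_mul, map_pow]
  exact hk v

end Act

section Norm

variable {V : Type u} [Group V]

/-- Powers of a quadratic automorphism. -/
theorem quad_pow_apply (s : MulAut V) (v : V) (hq : s (v⁻¹ * s v) = v⁻¹ * s v) (n : ℕ) :
    (s ^ n) v = v * (v⁻¹ * s v) ^ n := by
  induction n with
  | zero => simp
  | succ n ih =>
    rw [pow_succ', MulAut.mul_apply, ih, map_mul, map_pow, hq, pow_succ', ← mul_assoc, mul_inv_cancel_left]

/-- The norm of a quadratic automorphism of an elementary abelian `p`-group, `p` odd, is trivial. -/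
theorem quad_norm {p : ℕ} [Fact p.Prime] (hp2 : p ≠ 2) (hab : ∀ a b : V, a * b = b * a)
    (hexp : ∀ v : V, v ^ p = 1) (s : MulAut V) (v : V) (hq : s (v⁻¹ * s v) = v⁻¹ * s v) :
    ((List.range p).map (fun k => (s ^ k) v)).prod = 1 := by
  have hpp : p.Prime := Fact.out
  obtain ⟨c, hc⟩ : ∃ c, c = v⁻¹ * s v := ⟨_, rfl⟩
  have key : ∀ n : ℕ, ((List.range n).map (fun k => (s ^ k) v)).prod = v ^ n * c ^ (n * (n - 1) / 2) := by
    intro n
    induction n with
    | zero => simp
    | succ n ih =>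
      rw [List.range_succ, List.map_append, List.prod_append, ih]
      simp only [List.map_cons, List.map_nil, List.prod_cons, List.prod_nil, mul_one]
      rw [quad_pow_apply s v hq n, ← hc]
      have e : (n + 1) * (n + 1 - 1) / 2 = n * (n - 1) / 2 + n := by
        rw [Nat.add_sub_cancel]
        have h2 : (n + 1) * n = n * (n - 1) + 2 * n := by
          cases n with
          | zero => simp
          | succ m => simp only [Nat.add_sub_cancel]; ring
        rw [h2, Nat.add_mul_div_left _ _ (by norm_num : 0 < 2)]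
      rw [e, pow_succ v n, pow_add c]
      have hcomm : ∀ x y z w : V, x * y * (z * w) = x * z * (y * w) := by
        intro x y z w
        rw [mul_assoc, ← mul_assoc y z w, hab y z, mul_assoc, ← mul_assoc]
      rw [hcomm]
  rw [key p, hexp, one_mul]
  obtain ⟨q, hq2⟩ : ∃ q, p - 1 = 2 * q := by
    have hodd := hpp.eq_two_or_odd'.resolve_left hp2
    obtain ⟨m, hm⟩ := hodd
    exact ⟨m, by omega⟩
  rw [hq2, ← mul_assoc, mul_comm p 2, mul_assoc, Nat.mul_div_cancel_left _ (by norm_num : 0 < 2), pow_mul, hexp,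
    one_pow]

end Norm

section Meta

variable {G : Type u} [Group G]

theorem card_dvd_of_cyclic_exp {X : Type*} [Group X] [IsCyclic X] {n : ℕ} (h : ∀ x : X, x ^ n = 1) :
    Nat.card X ∣ n := by
  rw [← IsCyclic.exponent_eq_card]
  exact Monoid.exponent_dvd_of_forall_pow_eq_one h

/-- A quotient of exponent `p` of a metacyclic group has order at most `p ^ 2`. -/
theorem index_le_of_isMetacyclic [Finite G] {p : ℕ} [Fact p.Prime] (hm : Cfsg.IsMetacyclic G)
    (N : Subgroup G) [hN : N.Normal] (hexp : ∀ g : G, g ^ p ∈ N) : N.index ≤ p ^ 2 := by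
  have hpp : p.Prime := Fact.out
  obtain ⟨C, hCn, hCc, hQc⟩ := hm
  have h1 : N.relIndex (N ⊔ C) * (N ⊔ C).index = N.index := Subgroup.relIndex_mul_index le_sup_left
  have h2 : N.relIndex (N ⊔ C) ∣ p := by
    rw [Subgroup.relIndex_sup_left]
    show (N.subgroupOf C).index ∣ p
    rw [Subgroup.index_eq_card]
    have hcyc : IsCyclic (↥C ⧸ N.subgroupOf C) :=
      isCyclic_of_surjective (QuotientGroup.mk' (N.subgroupOf C)) (QuotientGroup.mk'_surjective _)
    apply card_dvd_of_cyclic_exp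
    intro x
    induction x using QuotientGroup.induction_on with
    | H c =>
      rw [← QuotientGroup.mk_pow, QuotientGroup.eq_one_iff, Subgroup.mem_subgroupOf]
      exact hexp c
  have h3 : (N ⊔ C).index ∣ p := by
    rw [Subgroup.index_eq_card]
    have hle : C ≤ (N ⊔ C).comap (MonoidHom.id G) := by
      intro c hc
      exact Subgroup.mem_sup_right hc
    have hcyc : IsCyclic (G ⧸ (N ⊔ C)) := by
      apply isCyclic_of_surjective (QuotientGroup.map C (N ⊔ C) (MonoidHom.id G) hle)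
      intro x
      induction x using QuotientGroup.induction_on with
      | H g => exact ⟨QuotientGroup.mk g, rfl⟩
    apply card_dvd_of_cyclic_exp
    intro x
    induction x using QuotientGroup.induction_on with
    | H g =>
      rw [← QuotientGroup.mk_pow, QuotientGroup.eq_one_iff]
      exact Subgroup.mem_sup_left (hexp g)
  rw [← h1, sq]
  exact Nat.mul_le_mul (Nat.le_of_dvd hpp.pos h2) (Nat.le_of_dvd hpp.pos h3)

/-- Subgroup form. -/
theorem card_le_of_isMetacyclic {p : ℕ} [Fact p.Prime] (R N : Subgroup G) [Finite R] (hm : Cfsg.IsMetacyclic ↥R)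
    (hNR : N ≤ R) (hn : R ≤ Subgroup.normalizer (N : Set G)) (hexp : ∀ r ∈ R, r ^ p ∈ N) :
    Nat.card R ≤ p ^ 2 * Nat.card N := by
  have hnorm : (N.subgroupOf R).Normal := Subgroup.normal_subgroupOf_of_le_normalizer hn
  have h1 := index_le_of_isMetacyclic (p := p) hm (N.subgroupOf R) (fun g => by
    rw [Subgroup.mem_subgroupOf]
    exact hexp g g.2)
  have h2 := Subgroup.index_mul_card (N.subgroupOf R)
  rw [Nat.card_congr (Subgroup.subgroupOfEquivOfLe hNR).toEquiv] at h2
  rw [← h2]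
  exact Nat.mul_le_mul_right _ h1

end Meta

end Cfsg.Agent.Lib.Helper26.SCM
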