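import Cfsg.Agent.Lib.Helper26.SCMetaC
import Cfsg.Agent.Lib.Helper26.FSNormalCrit
import Cfsg.Agent.Lib.Helper26.FSSatCrit
import Cfsg.Agent.Lib.Helper26.FSAlperin
import Cfsg.Agent.Lib.Helper1.MetaCoprime

/-!
Strongly closed metacyclic subgroups (part D): a strongly closed metacyclic subgroup of a saturated fusion system
(`p` odd) is contained in every essential subgroup, hence is normal in the system.
-/

set_option autoImplicit false
set_option linter.unusedSectionVars false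
universe u

namespace Cfsg.Agent.Lib.Helper26.SCM

open Cfsg Cfsg.FusionSystem

section Abs

variable {Ω : Type u} [Group Ω]

/-- Powers of a quadratic automorphism are quadratic. -/
theorem quad_pow {V : Type*} [Group V] (s : MulAut V) (hs : ∀ v, s (v⁻¹ * s v) = v⁻¹ * s v) (i : ℕ) (v : V) :
    (s ^ i) (v⁻¹ * (s ^ i) v) = v⁻¹ * (s ^ i) v := by
  obtain ⟨c, hc⟩ : ∃ c, c = v⁻¹ * s v := ⟨_, rfl⟩
  have hsc : s c = c := hc ▸ hs v
  have h1 : (s ^ i) v = v * c ^ i := hc ▸ quad_pow_apply s v (hs v) i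
  have h2 : (s ^ i) c = c := by
    rw [quad_pow_apply s c (hs c) i, hsc, inv_mul_cancel, one_pow, mul_one]
  rw [h1, inv_mul_cancel_left, map_pow, h2]

/-- The `p`-th power of `m y` when conjugation by `y` induces a quadratic automorphism on a quotient of exponent `p`. -/
theorem pow_mul_of_quad {V : Type*} [Group V] {p : ℕ} [Fact p.Prime] (hp2 : p ≠ 2)
    (hab : ∀ a b : V, a * b = b * a) (hexp : ∀ v : V, v ^ p = 1)
    (T : Subgroup Ω) (c : ↥T →* V) (s : MulAut V) (hs : ∀ v, s (v⁻¹ * s v) = v⁻¹ * s v) (y : Ω)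
    (hy : ∀ n (hn : n ∈ T), ∃ hn' : y * n * y⁻¹ ∈ T, c ⟨y * n * y⁻¹, hn'⟩ = s (c ⟨n, hn⟩))
    (m : Ω) (hm : m ∈ T) : ∃ u, ∃ hu : u ∈ T, (m * y) ^ p = u * y ^ p ∧ c ⟨u, hu⟩ = 1 := by
  have h1 : ∀ k : ℕ, ∀ z, z = y ^ k * m * (y ^ k)⁻¹ → ∃ hz : z ∈ T, c ⟨z, hz⟩ = (s ^ k) (c ⟨m, hm⟩) := by
    intro k
    induction k with
    | zero =>
      intro z hz
      have : z = m := by rw [hz]; simp
      subst this
      exact ⟨hm, by simp⟩
    | succ k ih =>
      intro z hz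
      obtain ⟨hz', hc⟩ := ih _ rfl
      obtain ⟨hn', hc'⟩ := hy _ hz'
      have : z = y * (y ^ k * m * (y ^ k)⁻¹) * y⁻¹ := by rw [hz, pow_succ']; group
      subst this
      refine ⟨hn', ?_⟩
      rw [hc', hc, pow_succ', MulAut.mul_apply]
  have h2 : ∀ n : ℕ, ∃ u, ∃ hu : u ∈ T, (m * y) ^ n = u * y ^ n ∧
      c ⟨u, hu⟩ = ((List.range n).map (fun k => (s ^ k) (c ⟨m, hm⟩))).prod := by
    intro n
    induction n with
    | zero =>
      refine ⟨1, T.one_mem, by simp, ?_⟩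
      have : (⟨1, T.one_mem⟩ : ↥T) = 1 := rfl
      rw [this, map_one]
      simp
    | succ n ih =>
      obtain ⟨u, hu, hun, hcu⟩ := ih
      obtain ⟨hz, hcz⟩ := h1 n _ rfl
      refine ⟨u * (y ^ n * m * (y ^ n)⁻¹), T.mul_mem hu hz, ?_, ?_⟩
      · rw [pow_succ, hun, pow_succ]; group
      · have : (⟨u * (y ^ n * m * (y ^ n)⁻¹), T.mul_mem hu hz⟩ : ↥T) = ⟨u, hu⟩ * ⟨_, hz⟩ := rfl
        rw [this, map_mul, hcu, hcz, List.range_succ, List.map_append, List.prod_append]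
        simp
  obtain ⟨u, hu, hup, hcu⟩ := h2 p
  exact ⟨u, hu, hup, by rw [hcu]; exact quad_norm hp2 hab hexp s _ (hs _)⟩

/-- The explicit isomorphism from `P ⊓ Q` to `P.subgroupOf Q`, as a homomorphism. -/
def toSub (P Q : Subgroup Ω) : ↥(P ⊓ Q) →* ↥(P.subgroupOf Q) where
  toFun y := ⟨⟨y.1, y.2.2⟩, y.2.1⟩
  map_one' := rfl
  map_mul' _ _ := rfl

theorem toSub_surjective (P Q : Subgroup Ω) : Function.Surjective (toSub P Q) := by
  rintro ⟨⟨y, hyQ⟩, hyP⟩
  exact ⟨⟨y, hyP, hyQ⟩, rfl⟩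

/-- The class of an element of `P ⊓ Q` in the Frattini quotient of `P.subgroupOf Q`. -/
noncomputable def cls (P Q : Subgroup Ω) :
    ↥(P ⊓ Q) →* (↥(P.subgroupOf Q) ⧸ frattini ↥(P.subgroupOf Q)) :=
  (QuotientGroup.mk' _).comp (toSub P Q)

theorem cls_surjective (P Q : Subgroup Ω) : Function.Surjective (cls P Q) :=
  (QuotientGroup.mk'_surjective _).comp (toSub_surjective P Q)

/-- The Frattini subgroup of `P ⊓ Q` as a subgroup of the ambient group. -/
noncomputable def phiSub (P Q : Subgroup Ω) : Subgroup Ω := (cls P Q).ker.map (P ⊓ Q).subtype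

theorem mem_phiSub (P Q : Subgroup Ω) (y : Ω) :
    y ∈ phiSub P Q ↔ ∃ h : y ∈ P ⊓ Q, cls P Q ⟨y, h⟩ = 1 := by
  constructor
  · rintro ⟨⟨z, hz⟩, hzk, rfl⟩
    exact ⟨hz, hzk⟩
  · rintro ⟨h, hk⟩
    exact ⟨⟨y, h⟩, hk, rfl⟩

theorem phiSub_le (P Q : Subgroup Ω) : phiSub P Q ≤ P ⊓ Q := by
  intro y hy
  exact ((mem_phiSub P Q y).mp hy).1

theorem card_inf_eq (P Q : Subgroup Ω) [Finite ↥(P ⊓ Q)] :
    Nat.card ↥(P ⊓ Q) =
      Nat.card (↥(P.subgroupOf Q) ⧸ frattini ↥(P.subgroupOf Q)) * Nat.card (phiSub P Q) := by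
  have h1 := Subgroup.card_eq_card_quotient_mul_card_subgroup (cls P Q).ker
  have e := QuotientGroup.quotientKerEquivOfSurjective (cls P Q) (cls_surjective P Q)
  rw [Nat.card_congr e.toEquiv] at h1
  have h2 : Nat.card (phiSub P Q) = Nat.card (cls P Q).ker :=
    Subgroup.card_map_of_injective (Subgroup.subtype_injective _)
  rw [h2]
  exact h1

end Abs

section Fus

variable {Ω : Type u} [Group Ω] {S : Subgroup Ω}

theorem mem_subgroupOf_iff_of_sc [Finite S] (F : FusionSystem S) {P Q : Subgroup Ω} (hP : F.StronglyClosed P)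
    (hQS : Q ≤ S) : ∀ γ ∈ F.autGroup Q, ∀ y, y ∈ P.subgroupOf Q ↔ γ y ∈ P.subgroupOf Q := by
  intro γ hγ y
  have h1 := map_aut_eq_of_stronglyClosed F hP hQS hγ
  constructor
  · intro hy
    rw [← h1]
    exact ⟨y, hy, rfl⟩
  · intro hy
    rw [← h1] at hy
    obtain ⟨z, hz, hzy⟩ := hy
    have : z = y := γ.injective hzy
    rw [← this]
    exact hz

end Fus

end Cfsg.Agent.Lib.Helper26.SCM
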