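import Cfsg.Agent.Lib.Helper26.SCMetaD
import Cfsg.Agent.Lib.Helper26.FSSatEquiv

/-!
Strongly closed metacyclic subgroups (part E): the main argument.
-/

set_option autoImplicit false
set_option linter.unusedSectionVars false
set_option maxHeartbeats 1600000
universe u

namespace Cfsg.Agent.Lib.Helper26.SCM

open Cfsg Cfsg.FusionSystem

section Fus

variable {Ω : Type u} [Group Ω] {S : Subgroup Ω}

theorem exists_nat_pow_of_mem_zpowers {x g : Ω} (hx : IsOfFinOrder x) (hg : g ∈ Subgroup.zpowers x) :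
    ∃ i : ℕ, x ^ i = g := by
  rw [← hx.mem_powers_iff_mem_zpowers, Submonoid.mem_powers_iff] at hg
  exact hg

/-- A strongly closed metacyclic subgroup (`p` odd) lies in every essential subgroup. -/
theorem le_of_essential [Finite S] {p : ℕ} [Fact p.Prime] (hS : IsPGroup p S) (F : FusionSystem S)
    (hF : F.IsSaturated p) (hp2 : p ≠ 2) {P : Subgroup Ω} (hP : F.StronglyClosed P)
    (hm : Cfsg.IsMetacyclic ↥P) {Q : Subgroup Ω} (hQ : F.IsEssential p Q) : P ≤ Q := by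
  by_contra hPQ
  have hpp : p.Prime := Fact.out
  have hPS : P ≤ S := hP.1
  have hc : F.IsCentric Q := hQ.1
  have hfn : F.IsFullyNormalized Q := hQ.2.1
  have hQS : Q ≤ S := hc.1
  have hfinQ : Finite Q := finite_of_le hQS
  have hfinT : Finite ↥(P ⊓ Q) := finite_of_le (inf_le_right.trans hQS)
  have hrec : F.IsReceptive Q := saturated_fn_receptive hS F hF hfn
  have hQp : IsPGroup p Q := hS.to_le hQS
  have hPn : S ≤ Subgroup.normalizer (P : Set Ω) := le_normalizer_of_stronglyClosed F hP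
  -- Step 1: the element `x`
  obtain ⟨x, hxP, hxN, hxQ⟩ : ∃ x ∈ P, x ∈ Subgroup.normalizer (Q : Set Ω) ∧ x ∉ Q := by
    have hTS : Q ⊔ P ≤ S := sup_le hQS hPS
    have hfinQP : Finite ↥(Q ⊔ P) := finite_of_le hTS
    have hne : Q ≠ Q ⊔ P := by
      intro h
      apply hPQ
      rw [h]
      exact le_sup_right
    obtain ⟨g, hgN, hgQ⟩ := exists_mem_normalizerIn_not_mem (hS.to_le hTS) (le_sup_left : Q ≤ Q ⊔ P) hne
    have hLE : Q ≤ Subgroup.normalizer (P : Set Ω) := hQS.trans hPn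
    have hg : g ∈ ((Q ⊔ P : Subgroup Ω) : Set Ω) := hgN.1
    rw [Subgroup.coe_mul_of_left_le_normalizer_right Q P hLE] at hg
    obtain ⟨q, hq, x, hx, rfl⟩ := Set.mem_mul.mp hg
    refine ⟨x, hx, ?_, fun h => hgQ (Q.mul_mem hq h)⟩
    have h1 : x = q⁻¹ * (q * x) := by group
    rw [h1]
    exact Subgroup.mul_mem _ (Subgroup.inv_mem _ (Subgroup.le_normalizer hq)) hgN.2
  have hxS : x ∈ S := hPS hxP
  -- Step 2: the abstract data
  have hd : EssData p ↥Q (F.autGroup Q) := essData_of_essential hS F hQ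
  have hM := mem_subgroupOf_iff_of_sc F hP hQS
  have hconjA : ∀ y (_ : y ∈ S) (hyN : y ∈ Subgroup.normalizer (Q : Set Ω)),
      Q.normalizerMonoidHom ⟨y, hyN⟩ ∈ F.autGroup Q := fun y hyS hyN =>
    autInducedBy_le_autGroup F hQS (normalizerMonoidHom_mem_autInducedBy hyS hyN)
  obtain ⟨a, hadef⟩ : ∃ a : ↥(F.autGroup Q), a = ⟨Q.normalizerMonoidHom ⟨x, hxN⟩, hconjA x hxS hxN⟩ :=
    ⟨_, rfl⟩
  have ha1 : a.1 = Q.normalizerMonoidHom ⟨x, hxN⟩ := by rw [hadef]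
  have ha_apply : ∀ y : Q, ((a.1 y : Q) : Ω) = x * y * x⁻¹ := by
    intro y
    rw [ha1]
    rfl
  have haC : a ∈ cenQ (F.autGroup Q) (P.subgroupOf Q) := by
    intro y
    rw [Subgroup.mem_subgroupOf]
    show ((y⁻¹ * a.1 y : Q) : Ω) ∈ P
    rw [Subgroup.coe_mul, ha_apply, Subgroup.coe_inv]
    have hyS : (y : Ω)⁻¹ ∈ S := S.inv_mem (hQS y.2)
    have h1 := (Subgroup.mem_normalizer_iff.mp (hPn hyS) x).mp hxP
    have : (y : Ω)⁻¹ * (x * y * x⁻¹) = ((y : Ω)⁻¹ * x * (y : Ω)⁻¹⁻¹) * x⁻¹ := by group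
    rw [this]
    exact P.mul_mem h1 (P.inv_mem hxP)
  have haI : a.1 ∉ Inn ↥Q := by
    intro h
    apply hxQ
    rw [ha1] at h
    exact mem_of_normalizerMonoidHom_mem_inn F hc hxS hxN h
  obtain ⟨j, haj⟩ : ∃ j : ℕ, a ^ (p ^ j) = 1 := by
    obtain ⟨j, hj⟩ := autInducedBy_isPGroup hS Q
      ⟨a.1, ha1 ▸ normalizerMonoidHom_mem_autInducedBy hxS hxN⟩
    have h1 := congrArg Subtype.val hj
    exact ⟨j, Subtype.ext h1⟩
  have hMp : IsPGroup p ↥(P.subgroupOf Q) := hQp.to_subgroup _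
  have hmM : Cfsg.IsMetacyclic ↥(P.subgroupOf Q) := by
    have h1 : Cfsg.IsMetacyclic ↥(P ⊓ Q) := Cfsg.Agent.Lib.Helper1.MetaCoprime.isMetacyclic_of_le inf_le_left hm
    exact Cfsg.Agent.Lib.Helper1.isMetacyclic_of_surjective (toSub P Q) (toSub_surjective P Q) h1
  have hcard : Nat.card (↥(P.subgroupOf Q) ⧸ frattini ↥(P.subgroupOf Q)) ∣ p ^ 2 := by
    have h1 := index_le_of_isMetacyclic (p := p) hmM (frattini ↥(P.subgroupOf Q))
      (fun g => Cfsg.Agent.Lib.Helper1.IsPGroup.pow_mem_frattini hMp g)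
    rw [Subgroup.index_eq_card] at h1
    have h2 : IsPGroup p (↥(P.subgroupOf Q) ⧸ frattini ↥(P.subgroupOf Q)) := hMp.to_quotient _
    obtain ⟨i, hi⟩ := h2.exists_card_eq
    rw [hi] at h1 ⊢
    have : i ≤ 2 := (Nat.pow_le_pow_iff_right hpp.one_lt).mp h1
    exact pow_dvd_pow p this
  obtain ⟨hK0, hV, hquad, h, hhC, hhinv⟩ := main_H hQp hd (P.subgroupOf Q) hM hcard a haC haI haj
  have hab := fq_comm hMp
  have hexp := fq_pow hMp
  obtain ⟨ρ, hρdef⟩ : ∃ ρ, ρ = rhoV (F.autGroup Q) (P.subgroupOf Q) hM := ⟨_, rfl⟩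
  rw [← hρdef] at hK0 hquad hhinv
  -- conjugations and classes
  have hconj_cls : ∀ y (hyS : y ∈ S) (hyN : y ∈ Subgroup.normalizer (Q : Set Ω)),
      ∀ n (hn : n ∈ P ⊓ Q), ∃ hn' : y * n * y⁻¹ ∈ P ⊓ Q,
        cls P Q ⟨y * n * y⁻¹, hn'⟩ = ρ ⟨Q.normalizerMonoidHom ⟨y, hyN⟩, hconjA y hyS hyN⟩ (cls P Q ⟨n, hn⟩) := by
    intro y hyS hyN n hn
    have h1 := (hM _ (hconjA y hyS hyN) ⟨n, hn.2⟩).mp hn.1
    have h2 : y * n * y⁻¹ ∈ Q := (Q.normalizerMonoidHom ⟨y, hyN⟩ ⟨n, hn.2⟩).2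
    refine ⟨⟨h1, h2⟩, ?_⟩
    rw [hρdef]
    rfl
  -- `x ^ p ∈ Q`
  have hρa_pow : (ρ a) ^ p = 1 := by
    ext v
    rw [quad_pow_apply (ρ a) v (hquad v) p, hexp, mul_one]
    rfl
  have hxpN : x ^ p ∈ Subgroup.normalizer (Q : Set Ω) := Subgroup.pow_mem _ hxN p
  have hxpQ : x ^ p ∈ Q := by
    have h1 : (a ^ p).1 ∈ Inn ↥Q :=
      hK0 (a ^ p) (Subgroup.pow_mem _ haC p) (by rw [map_pow, hρa_pow])
    have h2 : (a ^ p).1 = Q.normalizerMonoidHom ⟨x ^ p, hxpN⟩ := by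
      show a.1 ^ p = _
      rw [ha1, ← map_pow]
      rfl
    rw [h2] at h1
    exact mem_of_normalizerMonoidHom_mem_inn F hc (S.pow_mem hxS p) hxpN h1
  have hxpT : x ^ p ∈ P ⊓ Q := ⟨P.pow_mem hxP p, hxpQ⟩
  -- the commutator of `h` and `a` is inner
  have hιt : ρ h * ρ a = ρ a * ρ h := by
    ext v
    rw [MulAut.mul_apply, MulAut.mul_apply, hhinv, hhinv, map_inv]
  have hcomm : (h * a * h⁻¹ * a⁻¹).1 ∈ Inn ↥Q := by
    apply hK0
    · exact Subgroup.mul_mem _ (Subgroup.mul_mem _ (Subgroup.mul_mem _ hhC haC) (Subgroup.inv_mem _ hhC))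
        (Subgroup.inv_mem _ haC)
    · rw [map_mul, map_mul, map_mul, map_inv, map_inv, hιt, mul_inv_cancel_right, mul_inv_cancel]
  have hconj_mem : h.1 * Q.normalizerMonoidHom ⟨x, hxN⟩ * h.1⁻¹ ∈ autInducedBy S Q := by
    have h1 : h.1 * a.1 * h.1⁻¹ = (h * a * h⁻¹ * a⁻¹).1 * a.1 := by
      show h.1 * a.1 * h.1⁻¹ = h.1 * a.1 * h.1⁻¹ * a.1⁻¹ * a.1
      rw [inv_mul_cancel_right]
    rw [← ha1, h1]
    exact Subgroup.mul_mem _ (inn_le_autInducedBy hQS hcomm)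
      (ha1 ▸ normalizerMonoidHom_mem_autInducedBy hxS hxN)
  have hxE := mem_extender_of_conj_mem h.1 hxS hxN hconj_mem
  obtain ⟨φ, hφdef⟩ : ∃ φ : Q →* Ω, φ = Q.subtype.comp (h.1 : Q ≃* Q).toMonoidHom := ⟨_, rfl⟩
  rw [← hφdef] at hxE
  have hφF : φ ∈ F.Hom Q := by
    rw [hφdef]
    exact (mem_autGroup_iff F hQS h.1).mp h.2
  have hφr : φ.range = Q := by
    rw [hφdef]
    ext z
    constructor
    · rintro ⟨y, rfl⟩
      exact (h.1 y).2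
    · intro hz
      refine ⟨h.1⁻¹ ⟨z, hz⟩, ?_⟩
      show ((h.1 (h.1⁻¹ ⟨z, hz⟩) : Q) : Ω) = z
      rw [MulAut.apply_inv_self]
  obtain ⟨ψ, hψF, hψ⟩ := hrec.2 Q φ hφF hφr
  have hQE : Q ≤ extender S Q φ := le_extender hQS φ (F.le_of_mem hφF).2
  obtain ⟨x', hx'def⟩ : ∃ x', x' = ψ ⟨x, hxE⟩ := ⟨_, rfl⟩
  have hx'S : x' ∈ S := hx'def ▸ (F.le_of_mem hψF).2 _
  have hx'P : x' ∈ P := by
    have hzE : Subgroup.zpowers x ≤ extender S Q φ := (Subgroup.zpowers_le).mpr hxE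
    have hres := inclusion_comp_mem F hzE hψF
    have := hP.2 (Subgroup.zpowers x) ((Subgroup.zpowers_le).mpr hxP) _ hres ⟨x, Subgroup.mem_zpowers x⟩
    rw [hx'def]
    exact this
  have hψQ : ∀ y : Q, ψ ⟨y, hQE y.2⟩ = ((h.1 y : Q) : Ω) := by
    intro y
    rw [hψ y.1 y.2 (hQE y.2), hφdef]
    rfl
  have hx'conj : ∀ y : Q, (((h.1 * a.1 * h.1⁻¹) y : Q) : Ω) = x' * y * x'⁻¹ := by
    intro y
    obtain ⟨y₀, hy₀⟩ : ∃ y₀, y₀ = h.1⁻¹ y := ⟨_, rfl⟩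
    have hy : y = h.1 y₀ := by rw [hy₀, MulAut.apply_inv_self]
    show ((h.1 (a.1 (h.1⁻¹ y)) : Q) : Ω) = _
    rw [← hy₀, ← hψQ (a.1 y₀)]
    have h1 : (⟨((a.1 y₀ : Q) : Ω), hQE (a.1 y₀).2⟩ : extender S Q φ) =
        ⟨x, hxE⟩ * ⟨y₀, hQE y₀.2⟩ * ⟨x, hxE⟩⁻¹ := by
      apply Subtype.ext
      exact ha_apply y₀
    rw [h1, map_mul, map_mul, map_inv, ← hx'def, hψQ y₀, ← hy]
  have hx'N : x' ∈ Subgroup.normalizer (Q : Set Ω) := mem_normalizer_of_aut _ x' hx'conj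
  obtain ⟨q', hq'def⟩ : ∃ q', q' = x' * x⁻¹ := ⟨_, rfl⟩
  have hq'Q : q' ∈ Q := by
    have hq'N : q' ∈ Subgroup.normalizer (Q : Set Ω) :=
      hq'def ▸ Subgroup.mul_mem _ hx'N (Subgroup.inv_mem _ hxN)
    have hq'S : q' ∈ S := hq'def ▸ S.mul_mem hx'S (S.inv_mem hxS)
    refine mem_of_normalizerMonoidHom_mem_inn F hc hq'S hq'N ?_
    have : Q.normalizerMonoidHom ⟨q', hq'N⟩ = (h * a * h⁻¹ * a⁻¹).1 := by
      ext y
      show q' * y * q'⁻¹ = (((h.1 * a.1 * h.1⁻¹) (a.1⁻¹ y) : Q) : Ω)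
      rw [hx'conj]
      have h3 : ((a.1⁻¹ y : Q) : Ω) = x⁻¹ * y * x := by
        have := ha_apply (a.1⁻¹ y)
        rw [MulAut.apply_inv_self] at this
        rw [this]
        group
      rw [h3, hq'def]
      group
    rw [this]
    exact hcomm
  have hq'T : q' ∈ P ⊓ Q := ⟨hq'def ▸ P.mul_mem hx'P (P.inv_mem hxP), hq'Q⟩
  have hx'eq : x' = q' * x := by rw [hq'def]; group
  have hx'p : x' ^ p = ((h.1 ⟨x ^ p, hxpQ⟩ : Q) : Ω) := by
    rw [← hψQ ⟨x ^ p, hxpQ⟩, hx'def, ← map_pow]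
    rfl
  -- the norm computation for `q' x`
  have hconj_x : ∀ n (hn : n ∈ P ⊓ Q), ∃ hn' : x * n * x⁻¹ ∈ P ⊓ Q,
      cls P Q ⟨x * n * x⁻¹, hn'⟩ = ρ a (cls P Q ⟨n, hn⟩) := by
    intro n hn
    obtain ⟨hn', hc'⟩ := hconj_cls x hxS hxN n hn
    refine ⟨hn', ?_⟩
    rw [hc', hadef]
  obtain ⟨u, hu, hup, hcu⟩ := pow_mul_of_quad hp2 hab hexp (P ⊓ Q) (cls P Q) (ρ a) hquad x hconj_x q' hq'T
  have hw : cls P Q ⟨x ^ p, hxpT⟩ = 1 := by
    have h1 : ((h.1 ⟨x ^ p, hxpQ⟩ : Q) : Ω) ∈ P ⊓ Q :=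
      ⟨(hM h.1 h.2 ⟨x ^ p, hxpQ⟩).mp hxpT.1, (h.1 _).2⟩
    have h2 : cls P Q ⟨_, h1⟩ = (cls P Q ⟨x ^ p, hxpT⟩)⁻¹ := by
      rw [← hhinv, hρdef]
      rfl
    have h3 : (⟨((h.1 ⟨x ^ p, hxpQ⟩ : Q) : Ω), h1⟩ : ↥(P ⊓ Q)) = ⟨u, hu⟩ * ⟨x ^ p, hxpT⟩ := by
      apply Subtype.ext
      show _ = u * x ^ p
      rw [← hup, ← hx'eq, hx'p]
    rw [h3, map_mul, hcu, one_mul] at h2
    have h4 : (cls P Q ⟨x ^ p, hxpT⟩) ^ 2 = 1 := by
      rw [sq]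
      nth_rewrite 1 [h2]
      exact inv_mul_cancel _
    have h5 := hexp (cls P Q ⟨x ^ p, hxpT⟩)
    have h6 : (cls P Q ⟨x ^ p, hxpT⟩) ^ (Nat.gcd 2 p) = 1 := pow_gcd_eq_one.mpr ⟨h4, h5⟩
    have h7 : Nat.gcd 2 p = 1 := (Nat.coprime_primes Nat.prime_two hpp).mpr (Ne.symm hp2)
    rwa [h7, pow_one] at h6
  have hxpΦ : x ^ p ∈ phiSub P Q := (mem_phiSub P Q _).mpr ⟨hxpT, hw⟩
  -- the subgroup `R₁`
  obtain ⟨R₁, hR₁def⟩ : ∃ R₁, R₁ = (P ⊓ Q) ⊔ Subgroup.zpowers x := ⟨_, rfl⟩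
  have hR₁P : R₁ ≤ P := hR₁def ▸ sup_le inf_le_left ((Subgroup.zpowers_le).mpr hxP)
  have hfinR : Finite R₁ := finite_of_le (hR₁P.trans hPS)
  have hmR : Cfsg.IsMetacyclic ↥R₁ := Cfsg.Agent.Lib.Helper1.MetaCoprime.isMetacyclic_of_le hR₁P hm
  have hTR : P ⊓ Q ≤ R₁ := hR₁def ▸ le_sup_left
  have hNR : phiSub P Q ≤ R₁ := (phiSub_le P Q).trans hTR
  have hfinΦ : Finite ↥(phiSub P Q) := finite_of_le (hNR.trans (hR₁P.trans hPS))
  have hconj_phi : ∀ y (_ : y ∈ S) (_ : y ∈ Subgroup.normalizer (Q : Set Ω)),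
      y ∈ Subgroup.normalizer (phiSub P Q : Set Ω) := by
    intro y hyS hyN
    apply mem_normalizer_of_conj_mem_finite
    intro n hn
    obtain ⟨hnT, hcn⟩ := (mem_phiSub P Q n).mp hn
    obtain ⟨hn', hcn'⟩ := hconj_cls y hyS hyN n hnT
    exact (mem_phiSub P Q _).mpr ⟨hn', by rw [hcn', hcn, map_one]⟩
  have hn : R₁ ≤ Subgroup.normalizer (phiSub P Q : Set Ω) := by
    rw [hR₁def]
    apply sup_le
    · intro m hm
      exact hconj_phi m (hQS hm.2) (Subgroup.le_normalizer hm.2)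
    · rw [Subgroup.zpowers_le]
      exact hconj_phi x hxS hxN
  have hxfin : IsOfFinOrder x := by
    have : IsOfFinOrder (⟨x, hxS⟩ : S) := isOfFinOrder_of_finite _
    obtain ⟨n, hn0, hn⟩ := isOfFinOrder_iff_pow_eq_one.mp this
    exact isOfFinOrder_iff_pow_eq_one.mpr ⟨n, hn0, congrArg Subtype.val hn⟩
  have hexpR : ∀ r ∈ R₁, r ^ p ∈ phiSub P Q := by
    intro r hr
    rw [hR₁def] at hr
    have hzN : Subgroup.zpowers x ≤ Subgroup.normalizer ((P ⊓ Q : Subgroup Ω) : Set Ω) := by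
      rw [Subgroup.zpowers_le, Subgroup.mem_normalizer_iff]
      intro z
      have h1 := Subgroup.mem_normalizer_iff.mp (hPn hxS) z
      have h2 := Subgroup.mem_normalizer_iff.mp hxN z
      exact and_congr h1 h2
    have hr' : r ∈ (((P ⊓ Q) ⊔ Subgroup.zpowers x : Subgroup Ω) : Set Ω) := hr
    rw [Subgroup.coe_mul_of_right_le_normalizer_left (P ⊓ Q) (Subgroup.zpowers x) hzN] at hr'
    obtain ⟨m, hm, g, hg, rfl⟩ := Set.mem_mul.mp hr'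
    obtain ⟨i, rfl⟩ := exists_nat_pow_of_mem_zpowers hxfin hg
    have hxiS : x ^ i ∈ S := S.pow_mem hxS i
    have hxiN : x ^ i ∈ Subgroup.normalizer (Q : Set Ω) := Subgroup.pow_mem _ hxN i
    have hai : (⟨Q.normalizerMonoidHom ⟨x ^ i, hxiN⟩, hconjA (x ^ i) hxiS hxiN⟩ : ↥(F.autGroup Q)) = a ^ i := by
      apply Subtype.ext
      show _ = a.1 ^ i
      rw [ha1, ← map_pow]
      rfl
    have hconj_xi : ∀ n (hn : n ∈ P ⊓ Q), ∃ hn' : x ^ i * n * (x ^ i)⁻¹ ∈ P ⊓ Q,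
        cls P Q ⟨x ^ i * n * (x ^ i)⁻¹, hn'⟩ = (ρ a ^ i) (cls P Q ⟨n, hn⟩) := by
      intro n hn
      obtain ⟨hn', hc'⟩ := hconj_cls (x ^ i) hxiS hxiN n hn
      refine ⟨hn', ?_⟩
      rw [hc', hai, map_pow]
    obtain ⟨u', hu', hup', hcu'⟩ := pow_mul_of_quad hp2 hab hexp (P ⊓ Q) (cls P Q) (ρ a ^ i)
      (quad_pow (ρ a) hquad i) (x ^ i) hconj_xi m hm
    rw [hup']
    refine Subgroup.mul_mem _ ((mem_phiSub P Q _).mpr ⟨hu', hcu'⟩) ?_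
    rw [← pow_mul, mul_comm, pow_mul]
    exact Subgroup.pow_mem _ hxpΦ i
  have hle := card_le_of_isMetacyclic (p := p) R₁ (phiSub P Q) hmR hNR hn hexpR
  have hcardT := card_inf_eq P Q
  rw [hV] at hcardT
  have hEq := Subgroup.eq_of_le_of_card_ge hTR (by rw [hcardT]; exact hle)
  apply hxQ
  have hxR : x ∈ R₁ := hR₁def ▸ Subgroup.mem_sup_right (Subgroup.mem_zpowers x)
  rw [← hEq] at hxR
  exact hxR.2

/-- A strongly closed metacyclic subgroup of a saturated fusion system, `p` odd, is normal in the system. -/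
theorem isNormal_of_stronglyClosed_of_isMetacyclic [Finite S] {p : ℕ} [Fact p.Prime] (hS : IsPGroup p S)
    (F : FusionSystem S) (hF : F.IsSaturated p) (hp2 : p ≠ 2) {P : Subgroup Ω} (hP : F.StronglyClosed P)
    (hm : Cfsg.IsMetacyclic ↥P) : F.IsNormal P := by
  apply isNormal_of_forall_aut hS F hF P
  intro R hR
  have hRS : R ≤ S := by
    rcases hR with rfl | hR
    · exact le_rfl
    · exact hR.1.1
  refine ⟨?_, fun α hα => map_aut_eq_of_stronglyClosed F hP hRS hα⟩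
  rcases hR with rfl | hR
  · exact hP.1
  · exact le_of_essential hS F hF hp2 hP hm hR

end Fus

end Cfsg.Agent.Lib.Helper26.SCM
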