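import Cfsg.Agent.Lib.Helper26.MetacyclicTwoFusion

/-!
Metacyclic `2`-groups containing a nonabelian subgroup of order eight are of maximal class
(dihedral, semidihedral or generalized quaternion).
-/

set_option autoImplicit false
set_option linter.unusedSectionVars false
set_option maxHeartbeats 1600000
universe u

namespace Cfsg.Agent.Lib.Helper26.SCM2

open Cfsg

section Grp

variable {G : Type u} [Group G] [Finite G]

/-- In a cyclic subgroup `Z`, a subgroup `I` of order four contains every element of `Z` with `c ^ 4 = 1`. -/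
theorem mem_of_pow_four_eq_one {Z I : Subgroup G} (hZc : IsCyclic ↥Z) (hIZ : I ≤ Z) (hI4 : Nat.card I = 4)
    {c : G} (hcZ : c ∈ Z) (hc : c ^ 4 = 1) : c ∈ I := by
  classical
  have : Fintype ↥Z := Fintype.ofFinite _
  have h := IsCyclic.card_pow_eq_one_le (α := ↥Z) (n := 4) (by norm_num)
  have hsub : (Finset.univ.filter fun a : ↥Z => (a : G) ∈ I) ⊆ (Finset.univ.filter fun a : ↥Z => a ^ 4 = 1) := by
    intro a ha
    rw [Finset.mem_filter] at ha ⊢
    refine ⟨Finset.mem_univ _, ?_⟩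
    have h1 : (⟨(a : G), ha.2⟩ : ↥I) ^ Nat.card I = 1 := pow_card_eq_one'
    rw [hI4] at h1
    apply Subtype.ext
    have := congrArg Subtype.val h1
    exact this
  have hcardI : (Finset.univ.filter fun a : ↥Z => (a : G) ∈ I).card = 4 := by
    rw [← hI4, ← Nat.card_congr (Subgroup.subgroupOfEquivOfLe hIZ).toEquiv, Nat.card_eq_fintype_card,
      Fintype.card_subtype]
    rfl
  have heq := Finset.eq_of_subset_of_card_le hsub (by rw [hcardI]; exact h)
  have hmem : (⟨c, hcZ⟩ : ↥Z) ∈ (Finset.univ.filter fun a : ↥Z => a ^ 4 = 1) := by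
    rw [Finset.mem_filter]
    exact ⟨Finset.mem_univ _, Subtype.ext hc⟩
  rw [← heq, Finset.mem_filter] at hmem
  exact hmem.2

/-- The elements of a cyclic group of order four generated by `i` with nontrivial square are `i` and `i⁻¹`. -/
theorem eq_or_eq_inv_of_sq_ne_one {i y : G} (hi : orderOf i = 4) (hy : y ∈ Subgroup.zpowers i) (hy2 : y ^ 2 ≠ 1) :
    y = i ∨ y = i⁻¹ := by
  rw [← mem_powers_iff_mem_zpowers, Submonoid.mem_powers_iff] at hy
  obtain ⟨n, rfl⟩ := hy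
  have h4 : i ^ 4 = 1 := by rw [← hi]; exact pow_orderOf_eq_one i
  have hmod : i ^ (n % 4) = i ^ n := by rw [← hi]; exact pow_mod_orderOf i n
  have hlt : n % 4 < 4 := Nat.mod_lt _ (by norm_num)
  rw [← hmod] at hy2 ⊢
  interval_cases (n % 4)
  · exact absurd (by simp) hy2
  · left; simp
  · exfalso
    apply hy2
    rw [← pow_mul]
    exact h4
  · right
    rw [eq_inv_iff_mul_eq_one, ← pow_succ]
    exact h4

/-- The centralizer of a nonabelian subgroup of order eight of a metacyclic `2`-group lies in it. -/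
theorem centralizer_le_of_nonabelian_eight (hG : IsPGroup 2 G) (hm : Cfsg.IsMetacyclic G) (B : Subgroup G)
    (hB8 : Nat.card B = 8) (hBna : ∃ a ∈ B, ∃ b ∈ B, a * b ≠ b * a) :
    Subgroup.centralizer (B : Set G) ≤ B := by
  classical
  have : Fact (Nat.Prime 2) := ⟨Nat.prime_two⟩
  obtain ⟨Z, hZn, hZc, hQc⟩ := hm
  have hZab : ∀ u ∈ Z, ∀ w ∈ Z, u * w = w * u := fun u hu w hw => by
    have := (IsCyclic.commGroup (α := ↥Z)).mul_comm ⟨u, hu⟩ ⟨w, hw⟩
    exact congrArg Subtype.val this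
  obtain ⟨I, hIdef⟩ : ∃ I, I = B ⊓ Z := ⟨_, rfl⟩
  have hIB : I ≤ B := hIdef ▸ inf_le_left
  have hIZ : I ≤ Z := hIdef ▸ inf_le_right
  have hmemI : ∀ y, y ∈ I ↔ y ∈ B ∧ y ∈ Z := by
    intro y
    rw [hIdef]
    exact Subgroup.mem_inf
  obtain ⟨f, hfdef⟩ : ∃ f : ↥B →* G ⧸ Z, f = (QuotientGroup.mk' Z).comp B.subtype := ⟨_, rfl⟩
  have hker : ∀ b : ↥B, f b = 1 ↔ (b : G) ∈ I := by
    intro b
    rw [hfdef]
    show (QuotientGroup.mk (b : G) : G ⧸ Z) = 1 ↔ _
    rw [QuotientGroup.eq_one_iff, hmemI]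
    exact ⟨fun h => ⟨b.2, h⟩, fun h => h.2⟩
  -- a non-central pair
  obtain ⟨b₀, hb₀I, j, hjB, hjb⟩ : ∃ b₀ ∈ I, ∃ j ∈ B, j * b₀ * j⁻¹ ≠ b₀ := by
    by_contra hcon
    push Not at hcon
    have hkc : f.ker ≤ Subgroup.center ↥B := by
      intro b hb
      have hbI : (b : G) ∈ I := (hker b).mp hb
      rw [Subgroup.mem_center_iff]
      intro g
      apply Subtype.ext
      have := hcon b hbI g g.2
      show (g : G) * b = b * g
      calc (g : G) * b = ((g : G) * b * (g : G)⁻¹) * g := by group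
        _ = b * g := by rw [this]
    obtain ⟨a, ha, b, hb, hab⟩ := hBna
    have hcomm := MonoidHom.isMulCommutative_of_isCyclic_of_ker_le_center f hkc
    have := hcomm.is_comm.comm (⟨a, ha⟩ : ↥B) ⟨b, hb⟩
    exact hab (congrArg Subtype.val this)
  have hb₀1 : b₀ ≠ 1 := by
    rintro rfl
    apply hjb
    group
  have hjI : j ∉ I := by
    intro hj
    apply hjb
    rw [hZab j (hIZ hj) b₀ (hIZ hb₀I), mul_inv_cancel_right]
  have hjZ : j ∉ Z := fun h => hjI ((hmemI j).mpr ⟨hjB, h⟩)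
  have hconjI : ∀ g ∈ B, ∀ y ∈ I, g * y * g⁻¹ ∈ I := by
    intro g hg y hy
    rw [hmemI] at hy ⊢
    exact ⟨B.mul_mem (B.mul_mem hg hy.1) (B.inv_mem hg), hZn.conj_mem y hy.2 g⟩
  -- `|I| = 4`
  have hI4 : Nat.card I = 4 := by
    have hdvd : Nat.card I ∣ 8 := hB8 ▸ Subgroup.card_dvd_of_le hIB
    have h8 : Nat.card I ∈ Nat.divisors 8 := by
      rw [Nat.mem_divisors]
      exact ⟨hdvd, by norm_num⟩
    have hdiv : Nat.divisors 8 = {1, 2, 4, 8} := by decide
    rw [hdiv] at h8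
    simp only [Finset.mem_insert, Finset.mem_singleton] at h8
    rcases h8 with h | h | h | h
    · exfalso
      rw [Subgroup.card_eq_one] at h
      rw [h, Subgroup.mem_bot] at hb₀I
      exact hb₀1 hb₀I
    · exfalso
      obtain ⟨y, -, hy⟩ := (Nat.card_eq_two_iff' (1 : ↥I)).mp h
      have h1 := hy ⟨b₀, hb₀I⟩ (fun e => hb₀1 (congrArg Subtype.val e))
      have h2 := hy ⟨j * b₀ * j⁻¹, hconjI j hjB b₀ hb₀I⟩ (fun e => by
        have e' : j * b₀ * j⁻¹ = 1 := congrArg Subtype.val e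
        apply hb₀1
        have : b₀ = j⁻¹ * (j * b₀ * j⁻¹) * j := by group
        rw [this, e']
        group)
      apply hjb
      have := h2.trans h1.symm
      exact congrArg Subtype.val this
    · exact h
    · exfalso
      have hIeq : I = B := Subgroup.eq_of_le_of_card_ge hIB (by rw [h, hB8])
      apply hjI
      rw [hIeq]
      exact hjB
  -- a generator `i` of `I`
  have hIc : IsCyclic ↥I := isCyclic_of_injective (Subgroup.inclusion hIZ) (Subgroup.inclusion_injective hIZ)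
  obtain ⟨⟨i, hiI⟩, hgen⟩ := IsCyclic.exists_generator (α := ↥I)
  have hi4 : orderOf i = 4 := by
    have h1 := orderOf_eq_card_of_forall_mem_zpowers hgen
    rw [hI4, Subgroup.orderOf_mk] at h1
    exact h1
  have hIz : ∀ y ∈ I, y ∈ Subgroup.zpowers i := by
    intro y hy
    obtain ⟨k, hk⟩ := Subgroup.mem_zpowers_iff.mp (hgen ⟨y, hy⟩)
    refine Subgroup.mem_zpowers_iff.mpr ⟨k, ?_⟩
    have := congrArg Subtype.val hk
    rwa [Subgroup.coe_zpow] at this
  have hi2 : i ^ 2 ≠ 1 := by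
    intro h
    have := orderOf_dvd_of_pow_eq_one h
    rw [hi4] at this
    omega
  have hi4' : i ^ 4 = 1 := by rw [← hi4]; exact pow_orderOf_eq_one i
  -- `j` does not centralize `i`
  have hji : j * i * j⁻¹ ≠ i := by
    intro h
    apply hjb
    obtain ⟨k, hk⟩ := Subgroup.mem_zpowers_iff.mp (hIz b₀ hb₀I)
    rw [← hk]
    have : j * i ^ k * j⁻¹ = (j * i * j⁻¹) ^ k := by
      rw [conj_zpow]
    rw [this, h]
  -- conjugation by any element of `G` maps `i` to `i` or `i⁻¹`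
  have hconj_i : ∀ g : G, g * i * g⁻¹ = i ∨ g * i * g⁻¹ = i⁻¹ := by
    intro g
    apply eq_or_eq_inv_of_sq_ne_one hi4
    · apply hIz
      apply mem_of_pow_four_eq_one hZc hIZ hI4 (hZn.conj_mem i (hIZ hiI) g)
      rw [conj_pow, hi4', mul_one, mul_inv_cancel]
    · rw [conj_pow]
      intro h
      apply hi2
      have : i ^ 2 = g⁻¹ * (g * i ^ 2 * g⁻¹) * g := by group
      rw [this, h]
      group
  have hsq_conj : ∀ g : G, g ^ 2 * i * (g ^ 2)⁻¹ = i := by
    intro g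
    have e : g ^ 2 * i * (g ^ 2)⁻¹ = g * (g * i * g⁻¹) * g⁻¹ := by
      rw [sq]
      group
    rw [e]
    rcases hconj_i g with h | h
    · rw [h, h]
    · rw [h]
      have : g * i⁻¹ * g⁻¹ = (g * i * g⁻¹)⁻¹ := by group
      rw [this, h, inv_inv]
  -- `j² ∈ I`
  have hidx : (I.subgroupOf B).index = 2 := by
    have h1 := Subgroup.index_mul_card (I.subgroupOf B)
    rw [Nat.card_congr (Subgroup.subgroupOfEquivOfLe hIB).toEquiv, hI4, hB8] at h1
    omega
  have hj2 : j ^ 2 ∈ I := by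
    have := Subgroup.sq_mem_of_index_two hidx ⟨j, hjB⟩
    rw [Subgroup.mem_subgroupOf] at this
    exact this
  -- `Z` has index two in `G`
  obtain ⟨γ, hγ⟩ := IsCyclic.exists_generator (α := G ⧸ Z)
  obtain ⟨g₀, rfl⟩ := QuotientGroup.mk_surjective γ
  have hQ2 : IsPGroup 2 (G ⧸ Z) := hG.to_quotient Z
  have hZidx : Z.index = 2 := by
    have hjmem := hγ (QuotientGroup.mk j)
    rw [← mem_powers_iff_mem_zpowers, Submonoid.mem_powers_iff] at hjmem
    obtain ⟨n, hn⟩ := hjmem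
    rcases Nat.even_or_odd n with ⟨b, hb⟩ | hodd
    · exfalso
      -- `j = (g₀ ^ b)² z₀`
      have h1 : (QuotientGroup.mk ((g₀ ^ b) ^ 2) : G ⧸ Z) = QuotientGroup.mk j := by
        rw [QuotientGroup.mk_pow, QuotientGroup.mk_pow, ← pow_mul, ← hn, hb, mul_two]
      have h2 : ((g₀ ^ b) ^ 2)⁻¹ * j ∈ Z := QuotientGroup.eq.mp h1
      obtain ⟨z₀, hz₀⟩ : ∃ z₀, z₀ = ((g₀ ^ b) ^ 2)⁻¹ * j := ⟨_, rfl⟩
      have hj : j = (g₀ ^ b) ^ 2 * z₀ := by rw [hz₀]; group
      apply hji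
      have e : j * i * j⁻¹ = (g₀ ^ b) ^ 2 * (z₀ * i * z₀⁻¹) * ((g₀ ^ b) ^ 2)⁻¹ := by
        rw [hj]
        group
      rw [e, hZab z₀ (hz₀ ▸ h2) i (hIZ hiI), mul_inv_cancel_right, hsq_conj]
    · -- `mk j` generates `G ⧸ Z`
      obtain ⟨m, hm⟩ := (IsPGroup.iff_orderOf.mp hQ2) (QuotientGroup.mk g₀ : G ⧸ Z)
      have hcop : (orderOf (QuotientGroup.mk g₀ : G ⧸ Z)).Coprime n := by
        rw [hm]
        exact Nat.Coprime.pow_left m (Nat.coprime_two_left.mpr hodd)
      have h1 : orderOf (QuotientGroup.mk j : G ⧸ Z) = Nat.card (G ⧸ Z) := by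
        rw [← hn, hcop.orderOf_pow]
        exact orderOf_eq_card_of_forall_mem_zpowers hγ
      have h2 : (QuotientGroup.mk j : G ⧸ Z) ^ 2 = 1 := by
        rw [← QuotientGroup.mk_pow, QuotientGroup.eq_one_iff]
        exact hIZ hj2
      have h3 : orderOf (QuotientGroup.mk j : G ⧸ Z) ∣ 2 := orderOf_dvd_of_pow_eq_one h2
      have h4 : (QuotientGroup.mk j : G ⧸ Z) ≠ 1 := by
        intro h
        rw [QuotientGroup.eq_one_iff] at h
        exact hjZ h
      have h5 : orderOf (QuotientGroup.mk j : G ⧸ Z) ≠ 1 := by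
        intro h
        exact h4 (orderOf_eq_one_iff.mp h)
      have h6 : orderOf (QuotientGroup.mk j : G ⧸ Z) = 2 := by
        have := Nat.le_of_dvd (by norm_num) h3
        have hpos := orderOf_pos (QuotientGroup.mk j : G ⧸ Z)
        omega
      rw [Subgroup.index_eq_card, ← h1, h6]
  -- the centralizer
  intro c hc
  have hci : c * i = i * c := (Subgroup.mem_centralizer_iff.mp hc i (hIB hiI)).symm
  have hcj : c * j = j * c := (Subgroup.mem_centralizer_iff.mp hc j hjB).symm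
  have hcZ : c ∈ Z := by
    by_contra hcZ
    have h1 : j⁻¹ * c ∈ Z := by
      rw [Subgroup.mul_mem_iff_of_index_two hZidx]
      constructor
      · intro h
        exact absurd (by simpa using Z.inv_mem h) hjZ
      · intro h
        exact absurd h hcZ
    obtain ⟨z₁, hz₁⟩ : ∃ z₁, z₁ = j⁻¹ * c := ⟨_, rfl⟩
    have hcjz : c = j * z₁ := by rw [hz₁]; group
    apply hji
    have e : j * i * j⁻¹ = c * (z₁⁻¹ * i * z₁) * c⁻¹ := by
      rw [hcjz]
      group
    have hz₁Z : z₁ ∈ Z := hz₁ ▸ h1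
    rw [e, hZab z₁⁻¹ (Z.inv_mem hz₁Z) i (hIZ hiI), inv_mul_cancel_right, hci, mul_inv_cancel_right]
  apply hIB
  by_contra hcI
  have hc4 : c ^ 4 ≠ 1 := fun h => hcI (mem_of_pow_four_eq_one hZc hIZ hI4 hcZ h)
  obtain ⟨e, he⟩ := (IsPGroup.iff_orderOf.mp hG) c
  have he3 : 3 ≤ e := by
    by_contra hlt
    push Not at hlt
    apply hc4
    apply orderOf_dvd_iff_pow_eq_one.mp
    rw [he]
    exact pow_dvd_pow 2 (by omega : e ≤ 2)
  obtain ⟨d, hd⟩ : ∃ d, d = c ^ (2 ^ (e - 2)) := ⟨_, rfl⟩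
  have hdZ : d ∈ Z := hd ▸ Z.pow_mem hcZ _
  have hd4 : d ^ 4 = 1 := by
    rw [hd, ← pow_mul]
    have : 2 ^ (e - 2) * 4 = 2 ^ e := by
      have : e = (e - 2) + 2 := by omega
      conv_rhs => rw [this, pow_add]
      norm_num
    rw [this, ← he]
    exact pow_orderOf_eq_one c
  have hd2 : d ^ 2 ≠ 1 := by
    rw [hd, ← pow_mul]
    intro h
    have h1 := orderOf_dvd_of_pow_eq_one h
    rw [he] at h1
    have : 2 ^ (e - 2) * 2 = 2 ^ (e - 1) := by
      have : e - 1 = (e - 2) + 1 := by omega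
      rw [this, pow_succ]
    rw [this] at h1
    have := (Nat.pow_dvd_pow_iff_le_right (by norm_num : 1 < 2)).mp h1
    omega
  have hdI : d ∈ I := mem_of_pow_four_eq_one hZc hIZ hI4 hdZ hd4
  have hdj : d * j = j * d := by
    rw [hd]
    exact (Commute.pow_left (show Commute c j from hcj) _).eq
  apply hji
  rcases eq_or_eq_inv_of_sq_ne_one hi4 (hIz d hdI) hd2 with h | h
  · rw [← h, ← hdj, mul_inv_cancel_right]
  · have h' : i = d⁻¹ := by rw [h, inv_inv]
    have hdj' : d⁻¹ * j = j * d⁻¹ := by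
      have h1 : d⁻¹ * (d * j) * d⁻¹ = d⁻¹ * (j * d) * d⁻¹ := by rw [hdj]
      rw [show d⁻¹ * (d * j) * d⁻¹ = j * d⁻¹ by group, show d⁻¹ * (j * d) * d⁻¹ = d⁻¹ * j by group] at h1
      exact h1.symm
    rw [h', ← hdj', mul_inv_cancel_right]

end Grp

end Cfsg.Agent.Lib.Helper26.SCM2

namespace Cfsg.Agent.Lib.Helper26.SCM2

open Cfsg

section Sub

variable {Ω : Type u} [Group Ω]

/-- A metacyclic `2`-group with a nonabelian subgroup of order eight is dihedral, semidihedral or generalized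
quaternion. -/
theorem maxClass_of_nonabelian_eight {P : Subgroup Ω} [Finite P] (hP : IsPGroup 2 P) (hm : Cfsg.IsMetacyclic ↥P)
    {B : Subgroup Ω} (hBP : B ≤ P) (hB8 : Nat.card B = 8) (hBna : ∃ a ∈ B, ∃ b ∈ B, a * b ≠ b * a) :
    (∃ m : ℕ, Nonempty (↥P ≃* DihedralGroup m)) ∨ Cfsg.IsQuasiDihedral ↥P ∨
      (∃ m : ℕ, Nonempty (↥P ≃* QuaternionGroup m)) := by
  have : Fact (Nat.Prime 2) := ⟨Nat.prime_two⟩
  obtain ⟨m, hm'⟩ := IsPGroup.iff_card.mp hP
  have hcardB : Nat.card (B.subgroupOf P) = 8 := by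
    rw [Nat.card_congr (Subgroup.subgroupOfEquivOfLe hBP).toEquiv, hB8]
  have hna' : ∃ a ∈ B.subgroupOf P, ∃ b ∈ B.subgroupOf P, a * b ≠ b * a := by
    obtain ⟨a, ha, b, hb, hab⟩ := hBna
    refine ⟨⟨a, hBP ha⟩, Subgroup.mem_subgroupOf.mpr ha, ⟨b, hBP hb⟩, Subgroup.mem_subgroupOf.mpr hb, ?_⟩
    intro h
    exact hab (congrArg Subtype.val h)
  have hcen := centralizer_le_of_nonabelian_eight hP hm (B.subgroupOf P) hcardB hna'
  have hm3 : 3 ≤ m := by
    have h1 : Nat.card (B.subgroupOf P) ∣ Nat.card P := Subgroup.card_subgroup_dvd_card _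
    rw [hcardB, hm'] at h1
    have : (2 : ℕ) ^ 3 ∣ 2 ^ m := by norm_num; exact h1
    exact (Nat.pow_dvd_pow_iff_le_right (by norm_num : 1 < 2)).mp this
  have hclass : Group.nilpotencyClass ↥P = m - 1 := by
    apply Cfsg.Agent.Lib.Helper1.nilpotencyClass_of_selfCentralizing (p := 2) m ↥P hm'
    right
    refine ⟨B.subgroupOf P, by rw [hcardB]; norm_num, ?_, hcen⟩
    intro hcomm
    obtain ⟨a, ha, b, hb, hab⟩ := hna'
    exact hab (congrArg Subtype.val (hcomm.is_comm.comm (⟨a, ha⟩ : B.subgroupOf P) ⟨b, hb⟩))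
  have hidx := Cfsg.Agent.Lib.Helper1.index_commutator_of_maximal_class m hm3 ↥P hm' hclass
  rcases Cfsg.Agent.Lib.Helper1.classify_of_index_commutator m hm3 ↥P hm' hidx with
    ⟨k, hk⟩ | ⟨k, hcard, a, b, ha, hb, hrel⟩ | ⟨k, hk⟩
  · exact Or.inl ⟨_, hk⟩
  · right; left
    exact ⟨k + 3, by omega, hcard, a, b, ha, hb, hrel⟩
  · exact Or.inr (Or.inr ⟨_, hk⟩)

end Sub

end Cfsg.Agent.Lib.Helper26.SCM2
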