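import Cfsg.Agent.Lib.Helper26.SCMetaTwoA
import Cfsg.Agent.Lib.Helper26.SCMetaE

/-!
Strongly closed metacyclic subgroups at the prime `2`: a strongly closed metacyclic subgroup which is not dihedral,
semidihedral or generalized quaternion lies in every essential subgroup, hence is normal in the system.
-/

set_option autoImplicit false
set_option linter.unusedSectionVars false
set_option maxHeartbeats 1600000
universe u

namespace Cfsg.Agent.Lib.Helper26.SCM

open Cfsg Cfsg.FusionSystem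

section HLevel2

variable {H : Type u} [Group H] [Finite H] {p : ℕ} [Fact p.Prime]

theorem mem_inn_of_rhoV_eq_one (hH : IsPGroup p H) {A : Subgroup (MulAut H)} (hd : EssData p H A) (M : Subgroup H)
    (hM : ∀ γ ∈ A, ∀ x, x ∈ M ↔ γ x ∈ M) (α : ↥A) (hα : α ∈ cenQ A M) (hα1 : rhoV A M hM α = 1) :
    α.1 ∈ Inn H := by
  have hCn : (cenQ A M).Normal := cenQ_normal A M hM
  have hn : (cenQ A M ⊓ (rhoV A M hM).ker).Normal := inferInstance
  refine hd.core _ hn ?_ α ⟨hα, hα1⟩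
  rintro ⟨y, hy⟩
  obtain ⟨k, hk⟩ := exists_pow_of_rhoV_eq_one hH A M hM y hy.1 hy.2
  exact ⟨k, Subtype.ext hk⟩

/-- Some element of `A` centralizing `H / M` does not act as a `p`-element on `M / Φ(M)`. -/
theorem exists_not_pow (hH : IsPGroup p H) {A : Subgroup (MulAut H)} (hd : EssData p H A) (M : Subgroup H)
    (hM : ∀ γ ∈ A, ∀ x, x ∈ M ↔ γ x ∈ M) (a : ↥A) (ha : a ∈ cenQ A M) (haI : a.1 ∉ Inn H) :
    ∃ θ ∈ cenQ A M, ∀ k : ℕ, (rhoV A M hM θ) ^ (p ^ k) ≠ 1 := by
  by_contra hcon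
  push Not at hcon
  apply haI
  have hCn := cenQ_normal A M hM
  refine hd.core (cenQ A M) hCn ?_ a ha
  rintro ⟨y, hy⟩
  obtain ⟨k, hk⟩ := hcon y hy
  have hyk : y ^ (p ^ k) ∈ cenQ A M := (cenQ A M).pow_mem hy _
  obtain ⟨i, hi⟩ := exists_pow_of_rhoV_eq_one hH A M hM (y ^ (p ^ k)) hyk (by rw [map_pow, hk])
  refine ⟨k + i, Subtype.ext ?_⟩
  show y ^ (p ^ (k + i)) = 1
  rw [pow_add, pow_mul]
  exact hi

end HLevel2

section Fus

variable {Ω : Type u} [Group Ω] {S : Subgroup Ω}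

theorem toSub_injective (P Q : Subgroup Ω) : Function.Injective (toSub P Q) := by
  intro a b h
  apply Subtype.ext
  have := congrArg (fun z : ↥(P.subgroupOf Q) => ((z : ↥Q) : Ω)) h
  exact this

theorem card_inf_eq_card_subgroupOf (P Q : Subgroup Ω) : Nat.card ↥(P ⊓ Q) = Nat.card ↥(P.subgroupOf Q) :=
  Nat.card_congr (Equiv.ofBijective (toSub P Q) ⟨toSub_injective P Q, toSub_surjective P Q⟩)

theorem card_extByElt {E : Subgroup Ω} {t : Ω} (ht : t ∈ Subgroup.normalizer (E : Set Ω)) (ht2 : t * t ∈ E)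
    (htE : t ∉ E) [Finite ↥(extByElt E t ht ht2)] : Nat.card ↥(extByElt E t ht ht2) = 2 * Nat.card E := by
  have hle := le_extByElt E t ht ht2
  have hidx : (E.subgroupOf (extByElt E t ht ht2)).index = 2 := by
    rw [Subgroup.index_eq_two_iff]
    refine ⟨⟨t, self_mem_extByElt E t ht ht2⟩, ?_⟩
    rintro ⟨b, hb⟩
    rw [Subgroup.mem_subgroupOf, Subgroup.mem_subgroupOf]
    show Xor (b * t ∈ E) (b ∈ E)
    rcases mem_extByElt.mp hb with h | ⟨e, he, rfl⟩
    · right
      refine ⟨h, fun h2 => htE ?_⟩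
      have : t = b⁻¹ * (b * t) := by group
      rw [this]
      exact E.mul_mem (E.inv_mem h) h2
    · left
      refine ⟨?_, fun h2 => htE ?_⟩
      · rw [mul_assoc]
        exact E.mul_mem he ht2
      · have : t = e⁻¹ * (e * t) := by group
        rw [this]
        exact E.mul_mem (E.inv_mem he) h2
  have h1 := Subgroup.index_mul_card (E.subgroupOf (extByElt E t ht ht2))
  rw [hidx, Nat.card_congr (Subgroup.subgroupOfEquivOfLe hle).toEquiv] at h1
  exact h1.symm

/-- If a strongly closed metacyclic subgroup (at the prime `2`) does not lie in some essential subgroup, then it is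
dihedral, semidihedral or generalized quaternion. -/
theorem maxClass_of_not_le_essential [Finite S] (hS : IsPGroup 2 S) (F : FusionSystem S)
    {P : Subgroup Ω} (hP : F.StronglyClosed P)
    (hm : Cfsg.IsMetacyclic ↥P) {Q : Subgroup Ω} (hQ : F.IsEssential 2 Q) (hPQ : ¬ P ≤ Q) :
    (∃ m : ℕ, Nonempty (↥P ≃* DihedralGroup m)) ∨ Cfsg.IsQuasiDihedral ↥P ∨
      (∃ m : ℕ, Nonempty (↥P ≃* QuaternionGroup m)) := by
  have : Fact (Nat.Prime 2) := ⟨Nat.prime_two⟩
  have hPS : P ≤ S := hP.1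
  have hc : F.IsCentric Q := hQ.1
  have hQS : Q ≤ S := hc.1
  have hfinQ : Finite Q := finite_of_le hQS
  have hfinP : Finite P := finite_of_le hPS
  have hfinT : Finite ↥(P ⊓ Q) := finite_of_le (inf_le_right.trans hQS)
  have hQp : IsPGroup 2 Q := hS.to_le hQS
  have hPp : IsPGroup 2 P := hS.to_le hPS
  have hPn : S ≤ Subgroup.normalizer (P : Set Ω) := le_normalizer_of_stronglyClosed F hP
  -- Step 1: the element `x`
  obtain ⟨x, hxP, hxN, hxQ⟩ : ∃ x ∈ P, x ∈ Subgroup.normalizer (Q : Set Ω) ∧ x ∉ Q := by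
    have hTS : Q ⊔ P ≤ S := sup_le hQS hPS
    have hfinQP : Finite ↥(Q ⊔ P) := finite_of_le hTS
    have hne : Q ≠ Q ⊔ P := by
      intro h
      apply hPQ
      rw [h]
      exact le_sup_right
    obtain ⟨g, hgN, hgQ⟩ := exists_mem_normalizerIn_not_mem (hS.to_le hTS) (le_sup_left : Q ≤ Q ⊔ P) hne
    have hLE : Q ≤ Subgroup.normalizer (P : Set Ω) := hQS.trans hPn
    have hg : g ∈ ((Q ⊔ P : Subgroup Ω) : Set Ω) := hgN.1
    rw [Subgroup.coe_mul_of_left_le_normalizer_right Q P hLE] at hg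
    obtain ⟨q, hq, x, hx, rfl⟩ := Set.mem_mul.mp hg
    refine ⟨x, hx, ?_, fun h => hgQ (Q.mul_mem hq h)⟩
    have h1 : x = q⁻¹ * (q * x) := by group
    rw [h1]
    exact Subgroup.mul_mem _ (Subgroup.inv_mem _ (Subgroup.le_normalizer hq)) hgN.2
  -- the element `t` with `t² ∈ Q`
  have hex : ∃ k : ℕ, x ^ 2 ^ k ∈ Q := by
    obtain ⟨k, hk⟩ := (IsPGroup.iff_orderOf.mp hS) ⟨x, hPS hxP⟩
    refine ⟨k, ?_⟩
    have h1 : (⟨x, hPS hxP⟩ : S) ^ 2 ^ k = 1 := by
      rw [← hk]
      exact pow_orderOf_eq_one _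
    have h2 : x ^ 2 ^ k = 1 := by
      have := congrArg Subtype.val h1
      rwa [Subgroup.coe_pow] at this
    rw [h2]
    exact Q.one_mem
  classical
  obtain ⟨k, hk⟩ : ∃ k, k = Nat.find hex := ⟨_, rfl⟩
  have hkQ : x ^ 2 ^ k ∈ Q := hk ▸ Nat.find_spec hex
  have hk0 : k ≠ 0 := by
    rintro rfl
    rw [pow_zero, pow_one] at hkQ
    exact hxQ hkQ
  obtain ⟨t, ht⟩ : ∃ t, t = x ^ 2 ^ (k - 1) := ⟨_, rfl⟩
  have htQ : t ∉ Q := by
    rw [ht]
    have hlt : k - 1 < Nat.find hex := by omega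
    exact Nat.find_min hex hlt
  have ht2 : t * t ∈ Q := by
    have : t * t = x ^ 2 ^ k := by
      rw [ht, ← pow_add, ← two_mul, ← pow_succ']
      congr 2
      omega
    rw [this]
    exact hkQ
  have htP : t ∈ P := ht ▸ P.pow_mem hxP _
  have htN : t ∈ Subgroup.normalizer (Q : Set Ω) := ht ▸ Subgroup.pow_mem _ hxN _
  have htS : t ∈ S := hPS htP
  -- Step 2: the abstract data
  have hd : EssData 2 ↥Q (F.autGroup Q) := essData_of_essential hS F hQ
  have hM := mem_subgroupOf_iff_of_sc F hP hQS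
  have hconjA : ∀ y (_ : y ∈ S) (hyN : y ∈ Subgroup.normalizer (Q : Set Ω)),
      Q.normalizerMonoidHom ⟨y, hyN⟩ ∈ F.autGroup Q := fun y hyS hyN =>
    autInducedBy_le_autGroup F hQS (normalizerMonoidHom_mem_autInducedBy hyS hyN)
  obtain ⟨a, hadef⟩ : ∃ a : ↥(F.autGroup Q), a = ⟨Q.normalizerMonoidHom ⟨t, htN⟩, hconjA t htS htN⟩ :=
    ⟨_, rfl⟩
  have ha1 : a.1 = Q.normalizerMonoidHom ⟨t, htN⟩ := by rw [hadef]
  have ha_apply : ∀ y : Q, ((a.1 y : Q) : Ω) = t * y * t⁻¹ := by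
    intro y
    rw [ha1]
    rfl
  have haC : a ∈ cenQ (F.autGroup Q) (P.subgroupOf Q) := by
    intro y
    rw [Subgroup.mem_subgroupOf]
    show ((y⁻¹ * a.1 y : Q) : Ω) ∈ P
    rw [Subgroup.coe_mul, ha_apply, Subgroup.coe_inv]
    have hyS : (y : Ω)⁻¹ ∈ S := S.inv_mem (hQS y.2)
    have h1 := (Subgroup.mem_normalizer_iff.mp (hPn hyS) t).mp htP
    have : (y : Ω)⁻¹ * (t * y * t⁻¹) = ((y : Ω)⁻¹ * t * (y : Ω)⁻¹⁻¹) * t⁻¹ := by group
    rw [this]
    exact P.mul_mem h1 (P.inv_mem htP)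
  have haI : a.1 ∉ Inn ↥Q := by
    intro h
    apply htQ
    rw [ha1] at h
    exact mem_of_normalizerMonoidHom_mem_inn F hc htS htN h
  have hMp : IsPGroup 2 ↥(P.subgroupOf Q) := hQp.to_subgroup _
  have hmM : Cfsg.IsMetacyclic ↥(P.subgroupOf Q) := by
    have h1 : Cfsg.IsMetacyclic ↥(P ⊓ Q) := Cfsg.Agent.Lib.Helper1.MetaCoprime.isMetacyclic_of_le inf_le_left hm
    exact Cfsg.Agent.Lib.Helper1.isMetacyclic_of_surjective (toSub P Q) (toSub_surjective P Q) h1
  -- if `t` acts trivially modulo squares, it is inner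
  have hkey : (∀ y ∈ P ⊓ Q, ∃ f ∈ P ⊓ Q, y⁻¹ * (t * y * t⁻¹) = f * f) → False := by
    intro hall
    apply haI
    apply mem_inn_of_rhoV_eq_one hQp hd (P.subgroupOf Q) hM a haC
    ext v
    induction v using QuotientGroup.induction_on with
    | H m =>
      rw [rhoV_mk, MulAut.one_apply]
      apply QuotientGroup.eq.mpr
      obtain ⟨f, hf, hff⟩ := hall (m : ↥Q) ⟨m.2, (m : ↥Q).2⟩
      have e : m⁻¹ * resM (F.autGroup Q) (P.subgroupOf Q) hM a m = (toSub P Q ⟨f, hf⟩) ^ 2 := by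
        apply Subtype.ext
        apply Subtype.ext
        show ((m : ↥Q) : Ω)⁻¹ * ((a.1 (m : ↥Q) : ↥Q) : Ω) = _
        rw [ha_apply, hff, sq]
        rfl
      have h2 : (resM (F.autGroup Q) (P.subgroupOf Q) hM a m)⁻¹ * m =
          (m⁻¹ * resM (F.autGroup Q) (P.subgroupOf Q) hM a m)⁻¹ := by group
      rw [h2, e]
      exact Subgroup.inv_mem _ (Cfsg.Agent.Lib.Helper1.IsPGroup.pow_mem_frattini hMp _)
  -- an automorphism of `M` of order not a power of `2`
  obtain ⟨θ, hθC, hθ⟩ := exists_not_pow hQp hd (P.subgroupOf Q) hM a haC haI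
  have hAM : ¬ IsPGroup 2 (MulAut ↥(P.subgroupOf Q)) := by
    intro h
    obtain ⟨k', hk'⟩ := h (resM (F.autGroup Q) (P.subgroupOf Q) hM θ)
    apply hθ k'
    show (fqHom (resM (F.autGroup Q) (P.subgroupOf Q) hM θ)) ^ (2 ^ k') = 1
    rw [← map_pow, hk', map_one]
  have htNT : t ∈ Subgroup.normalizer ((P ⊓ Q : Subgroup Ω) : Set Ω) := by
    rw [Subgroup.mem_normalizer_iff]
    intro z
    have h1 := Subgroup.mem_normalizer_iff.mp (hPn htS) z
    have h2 := Subgroup.mem_normalizer_iff.mp htN z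
    exact and_congr h1 h2
  have ht2T : t * t ∈ P ⊓ Q := ⟨P.mul_mem htP htP, ht2⟩
  have htT : t ∉ P ⊓ Q := fun h => htQ h.2
  rcases Cfsg.Agent.S1896.result hMp hmM hAM with ⟨⟨e⟩⟩ | ⟨n, ⟨e⟩⟩
  · -- quaternion of order eight
    apply SCM2.maxClass_of_nonabelian_eight hPp hm (inf_le_left : P ⊓ Q ≤ P)
    · rw [card_inf_eq_card_subgroupOf, Nat.card_congr e.toEquiv, Nat.card_eq_fintype_card, QuaternionGroup.card]
    · refine ⟨_, ⟨(e.symm (QuaternionGroup.a 1)).2, (e.symm (QuaternionGroup.a 1) : ↥Q).2⟩, _,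
        ⟨(e.symm (QuaternionGroup.xa 0)).2, (e.symm (QuaternionGroup.xa 0) : ↥Q).2⟩, fun hc' => ?_⟩
      have h1 : e.symm (QuaternionGroup.a 1) * e.symm (QuaternionGroup.xa 0) =
          e.symm (QuaternionGroup.xa 0) * e.symm (QuaternionGroup.a 1) := Subtype.ext (Subtype.ext hc')
      rw [← map_mul, ← map_mul] at h1
      have h2 := e.symm.injective h1
      revert h2
      decide
  · -- homocyclic
    have hab : ∀ u ∈ P ⊓ Q, ∀ w ∈ P ⊓ Q, u * w = w * u := by
      intro u hu w hw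
      have h1 : e (toSub P Q ⟨u, hu⟩) * e (toSub P Q ⟨w, hw⟩) = e (toSub P Q ⟨w, hw⟩) * e (toSub P Q ⟨u, hu⟩) :=
        mul_comm _ _
      rw [← map_mul, ← map_mul, ← map_mul, ← map_mul] at h1
      have h2 := toSub_injective P Q (e.injective h1)
      exact congrArg Subtype.val h2
    by_cases hn : n = 1
    · -- Klein four-group
      subst hn
      obtain ⟨y, hy, hty⟩ : ∃ y ∈ P ⊓ Q, t * y * t⁻¹ ≠ y := by
        by_contra hcon
        push Not at hcon
        apply hkey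
        intro y hy
        refine ⟨1, Subgroup.one_mem _, ?_⟩
        rw [hcon y hy, inv_mul_cancel, mul_one]
      have hBP : extByElt (P ⊓ Q) t htNT ht2T ≤ P := extByElt_le htNT ht2T inf_le_left htP
      have hfinB : Finite ↥(extByElt (P ⊓ Q) t htNT ht2T) := finite_of_le (hBP.trans hPS)
      apply SCM2.maxClass_of_nonabelian_eight hPp hm hBP
      · rw [card_extByElt htNT ht2T htT, card_inf_eq_card_subgroupOf, Nat.card_congr e.toEquiv, Nat.card_prod]
        have : Nat.card (Multiplicative (ZMod (2 ^ 1))) = 2 := by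
          rw [Nat.card_congr Multiplicative.toAdd, Nat.card_zmod]
          norm_num
        rw [this]
      · refine ⟨t, self_mem_extByElt _ t htNT ht2T, y, le_extByElt _ t htNT ht2T hy, fun h => hty ?_⟩
        rw [h, mul_inv_cancel_right]
    · -- the swap lemma
      exfalso
      have hΩ : ∀ u ∈ P ⊓ Q, u * u = 1 → ∃ f ∈ P ⊓ Q, f * f = u := by
        intro u hu huu
        have h1 : e (toSub P Q ⟨u, hu⟩) * e (toSub P Q ⟨u, hu⟩) = 1 := by
          rw [← map_mul, ← map_mul]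
          have : (⟨u, hu⟩ : ↥(P ⊓ Q)) * ⟨u, hu⟩ = 1 := Subtype.ext huu
          rw [this, map_one, map_one]
        obtain ⟨f, hf⟩ := homocyclic_omega_le_agemo hn _ h1
        obtain ⟨f', hf'⟩ := toSub_surjective P Q (e.symm f)
        refine ⟨f', f'.2, ?_⟩
        have h2 : toSub P Q (f' * f') = toSub P Q ⟨u, hu⟩ := by
          rw [map_mul, hf', ← map_mul, hf, MulEquiv.symm_apply_apply]
        exact congrArg Subtype.val (toSub_injective P Q h2)
      have hnot : ¬ ∀ y ∈ P ⊓ Q, ∃ f ∈ P ⊓ Q, y⁻¹ * (t * y * t⁻¹) = f * f := fun h => hkey h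
      push Not at hnot
      obtain ⟨y, hy, hyf⟩ := hnot
      have hG₁P : extByElt (P ⊓ Q) t htNT ht2T ≤ P := extByElt_le htNT ht2T inf_le_left htP
      have hfinG : Finite ↥(extByElt (P ⊓ Q) t htNT ht2T) := finite_of_le (hG₁P.trans hPS)
      exact not_isMetacyclic_of_swap (hPp.to_le hG₁P) (le_extByElt _ t htNT ht2T) hab hΩ
        (self_mem_extByElt _ t htNT ht2T) (fun u hu => (Subgroup.mem_normalizer_iff.mp htNT u).mp hu) ht2T
        (fun g hg => mem_extByElt.mp hg) hy hyf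
        (Cfsg.Agent.Lib.Helper1.MetaCoprime.isMetacyclic_of_le hG₁P hm)

/-- A strongly closed metacyclic subgroup of a saturated fusion system at the prime `2` which is not dihedral,
semidihedral or generalized quaternion is normal in the system. -/
theorem isNormal_of_stronglyClosed_of_isMetacyclic_two [Finite S] (hS : IsPGroup 2 S)
    (F : FusionSystem S) (hF : F.IsSaturated 2) {P : Subgroup Ω} (hP : F.StronglyClosed P)
    (hm : Cfsg.IsMetacyclic ↥P) (hd : ¬ ∃ m : ℕ, Nonempty (↥P ≃* DihedralGroup m))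
    (hq : ¬ ∃ m : ℕ, Nonempty (↥P ≃* QuaternionGroup m)) (hsd : ¬ Cfsg.IsQuasiDihedral ↥P) :
    F.IsNormal P := by
  have : Fact (Nat.Prime 2) := ⟨Nat.prime_two⟩
  apply isNormal_of_forall_aut hS F hF P
  intro R hR
  have hRS : R ≤ S := by
    rcases hR with rfl | hR
    · exact le_rfl
    · exact hR.1.1
  refine ⟨?_, fun α hα => map_aut_eq_of_stronglyClosed F hP hRS hα⟩
  rcases hR with rfl | hR
  · exact hP.1
  · by_contra hPQ
    rcases maxClass_of_not_le_essential hS F hP hm hR hPQ with h | h | h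
    · exact hd h
    · exact hsd h
    · exact hq h

end Fus

end Cfsg.Agent.Lib.Helper26.SCM
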