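import Mathlib
import Cfsg.Statements.S2752
import Cfsg.Agent.Lib.Helper16.SFDefs
import Cfsg.Agent.Lib.Helper26.SFpslAutOf
import Cfsg.Agent.Lib.Helper15.SFpslOuter
import Cfsg.Agent.Lib.Helper14.SFpslTorus

/-!
# S2752 (market "SF"): leaf `pslAut`, EXACT (patched statement, msg 8950), over `pslAut_of`, `pslOuter`, `pslTorus`
-/

set_option autoImplicit false
universe u v
open Cfsg Cfsg.Agent.Lib.Helper16.SF

namespace Cfsg.Agent.Lib.Helper26.SFLeaf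

/-- **pslAut** (market SF, S2752), the patched statement with `β ≠ 1`. -/
theorem pslAut {Q : Type*} [Group Q] [Finite Q] (hQ : Cfsg.IsQuasisimple Q)
    (hZ : Odd (Nat.card ↥(Subgroup.center Q)))
    {F : Type} [Field F] [Fintype F] (n : ℕ) (hF : Fintype.card F = 3 ^ (2 * n + 1))
    (e : Nonempty (Q ⧸ Subgroup.center Q ≃* Matrix.ProjectiveSpecialLinearGroup (Fin 2) F))
    (E : Subgroup (MulAut Q)) (hE : Cfsg.IsElementaryAbelian 2 E) (h4 : 4 ≤ Nat.card E) :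
    (∃ β ∈ E, ∃ u : Q, orderOf u = 3 ∧ β u = u⁻¹) ∨
      (Nat.card E = 4 ∧ ∃ β ∈ E, ∃ β' ∈ E, ∃ x : Q, β ≠ 1 ∧ x ≠ 1 ∧ Odd (orderOf x) ∧ β x = x ∧ β' x = x⁻¹) :=
  pslAut_of hQ hZ n hF
    (fun hn α h2 => Cfsg.Agent.Lib.Helper15.SFLeaf.pslOuter n hn hF α h2)
    (fun hn s t hs ht hs1 ht1 hst hc =>
      Cfsg.Agent.Lib.Helper14.SFLeaf.pslTorus n hn hF s t hs ht hs1 ht1 hst hc)
    e E hE h4

end Cfsg.Agent.Lib.Helper26.SFLeaf
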