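import Mathlib
import Cfsg.Prelude.Def_GeometricClasses
import Cfsg.Agent.Lib.Helper11.MonoTrans
import Cfsg.Agent.Lib.Helper18.C2Main
import Cfsg.Agent.Lib.Helper11.SL6LNoSmallTorus
import Cfsg.Agent.Lib.Helper19.SL6LL2

/-!
S5798 (sl6_geometric_types_maximal, owner helper24), block (L) = LINES: the stabiliser of a decomposition of `F^n` into
`n` lines is maximal in `SL_n(q)` for `6 ≤ n`, `5 ≤ q` (sub-planner helper26; plan `notes/S5798_L_plan.md`).
Re-run of helper11's monomial tower (S5634, case `m = 1`) with the bound `10 ≤ n` of `Helper1.LowDimMono` relaxed to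
`6 ≤ n`, on the two new leaves `no_small_torus_six` (helper11) and `false_of_dense_prop_five` (helper19).
-/

set_option autoImplicit false
set_option linter.unusedSectionVars false
set_option linter.unusedVariables false

namespace Cfsg.Agent.Lib.Helper26.SL6L
open Matrix Cfsg.Agent.Lib.Helper11.Mono Cfsg.Agent.Lib.Helper6.MonoLeaf

section std
variable {F : Type*} [Field F] [Fintype F] {ι : Type} [Fintype ι] [DecidableEq ι]



/-- MWb: two columns of a non-monomial `B ∈ M` are proportional on their common support. -/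
theorem prop_of_worldW_six (h6 : 6 ≤ Fintype.card ι) (hq : 5 ≤ Fintype.card F)
    (M : Subgroup (GL ι F)) (hH : ContainsH M) (hW : WorldW M) (B : GL ι F) (hB : B ∈ M)
    (hnm : ¬ IsMono (B : Matrix ι ι F))
    (hdense : ∀ j c c', c ≠ c' → (B : Matrix ι ι F) c j = 0 → (B : Matrix ι ι F) c' j = 0 → False)
    (l m a b : ι) (hal : (B : Matrix ι ι F) a l ≠ 0) (ham : (B : Matrix ι ι F) a m ≠ 0)
    (hbl : (B : Matrix ι ι F) b l ≠ 0) (hbm : (B : Matrix ι ι F) b m ≠ 0) :
    (B : Matrix ι ι F) a l * (B : Matrix ι ι F) b m =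
      (B : Matrix ι ι F) b l * (B : Matrix ι ι F) a m := by
  by_contra hne
  have hab : a ≠ b := by
    rintro rfl
    exact hne rfl
  obtain ⟨c, hca, hcb, hcl, hcm⟩ := exists_common_row (by omega) (B : Matrix ι ι F) hdense l m a b
  set u : ι → F := Matrix.col (B : Matrix ι ι F) l with hu
  set w : ι → F := Matrix.col (B : Matrix ι ι F) m with hw
  have hua : u a ≠ 0 := hal
  have hub : u b ≠ 0 := hbl
  have huc : u c ≠ 0 := hcl
  have hwa : w a ≠ 0 := ham
  have hwb : w b ≠ 0 := hbm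
  have hwc : w c ≠ 0 := hcm
  obtain ⟨g₁, hg₁mono, hg₁sl, hg₁fix, hg₁f⟩ :=
    Cfsg.Agent.Lib.Helper29.MonoLeaf.exists_twist u a b c hab (Ne.symm hca) (Ne.symm hcb) hua hub huc
  obtain ⟨g₂, hg₂mono, hg₂sl, hg₂fix, hg₂f⟩ :=
    Cfsg.Agent.Lib.Helper29.MonoLeaf.exists_twist w a b c hab (Ne.symm hca) (Ne.symm hcb) hwa hwb hwc
  have hg₁M : g₁ ∈ M := hH g₁ hg₁mono hg₁sl
  have hg₂M : g₂ ∈ M := hH g₂ hg₂mono hg₂sl
  have perm₁ := perm_frame M hW B g₁ hB hg₁M l 1 (by rw [one_smul]; exact hg₁fix)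
  have hg₂inv : ((g₂⁻¹ : GL ι F) : Matrix ι ι F) *ᵥ w = w := by
    have := inv_mulVec_mulVec g₂ w
    rwa [hg₂fix] at this
  have perm₂ := perm_frame M hW B g₂⁻¹ hB (M.inv_mem hg₂M) m 1 (by rw [one_smul]; exact hg₂inv)
  -- the diagonal element
  have hsb : u b / u a / (w b / w a) ≠ 0 := div_ne_zero (div_ne_zero hub hua) (div_ne_zero hwb hwa)
  have hsc : u c / u b / (w c / w b) ≠ 0 := div_ne_zero (div_ne_zero huc hub) (div_ne_zero hwc hwb)
  have hsa : u a / u c / (w a / w c) ≠ 0 := div_ne_zero (div_ne_zero hua huc) (div_ne_zero hwa hwc)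
  set s : ι → Fˣ := fun x =>
    if x = b then Units.mk0 _ hsb else if x = c then Units.mk0 _ hsc
    else if x = a then Units.mk0 _ hsa else 1 with hs
  have hs_b : s b = Units.mk0 _ hsb := by simp [hs]
  have hs_c : s c = Units.mk0 _ hsc := by simp [hs, hcb]
  have hs_a : s a = Units.mk0 _ hsa := by simp [hs, hab, Ne.symm hca]
  have hs_o : ∀ x, x ≠ a → x ≠ b → x ≠ c → s x = 1 := by
    intro x hxa hxb hxc
    simp [hs, hxa, hxb, hxc]
  have key : ∀ v : ι → F, ((dg s : GL ι F) : Matrix ι ι F) *ᵥ ((g₂ : Matrix ι ι F) *ᵥ v) =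
      (g₁ : Matrix ι ι F) *ᵥ v := by
    intro v
    rw [dg_mulVec, hg₂f, hg₁f]
    ext x
    by_cases hxb : x = b
    · subst hxb
      rw [hs_b]
      simp only [if_true, Units.val_mk0]
      field_simp
    · by_cases hxc : x = c
      · subst hxc
        rw [hs_c]
        simp only [if_neg hxb, if_true, Units.val_mk0]
        field_simp
      · by_cases hxa : x = a
        · subst hxa
          rw [hs_a]
          simp only [if_neg hxb, if_neg hxc, if_true, Units.val_mk0]
          field_simp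
        · rw [hs_o x hxa hxb hxc]
          simp only [if_neg hxb, if_neg hxc, if_neg hxa, Units.val_one, one_mul]
  have hperm : ∀ k, ∃ k' : ι, ∃ c' : F,
      ((dg s : GL ι F) : Matrix ι ι F) *ᵥ Matrix.col (B : Matrix ι ι F) k =
        c' • Matrix.col (B : Matrix ι ι F) k' := by
    intro k
    obtain ⟨k₁, c₁, e₁⟩ := perm₂ k
    obtain ⟨k₂, c₂, e₂⟩ := perm₁ k₁
    refine ⟨k₂, c₁ * c₂, ?_⟩
    have h0 : Matrix.col (B : Matrix ι ι F) k = (g₂ : Matrix ι ι F) *ᵥ
        (((g₂⁻¹ : GL ι F) : Matrix ι ι F) *ᵥ Matrix.col (B : Matrix ι ι F) k) :=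
      (mulVec_inv_mulVec g₂ _).symm
    rw [h0, key, e₁, Matrix.mulVec_smul, e₂, smul_smul]
  have hprod : s a * s b * s c = 1 := by
    rw [hs_a, hs_b, hs_c]
    apply Units.ext
    simp only [Units.val_mul, Units.val_mk0, Units.val_one]
    field_simp
  have hs1 := Cfsg.Agent.Lib.Helper11.SL6LLeaf.no_small_torus_six h6 B hdense s a b c hab (Ne.symm hca) (Ne.symm hcb) hs_o hprod hperm
  have hb1 : s b = 1 := by rw [hs1]; rfl
  rw [hs_b] at hb1
  have hb2 := congrArg Units.val hb1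
  rw [Units.val_mk0, Units.val_one] at hb2
  apply hne
  have hb3 : u b * w a = u a * w b := by
    field_simp at hb2
    linear_combination hb2
  change u a * w b = u b * w a
  exact hb3.symm



/-- MZ: the standard frame, `6 ≤ card ι`. -/
theorem std_main_six (h6 : 6 ≤ Fintype.card ι) (hq : 5 ≤ Fintype.card F)
    (M : Subgroup (GL ι F)) (hMS : M ≤ Cfsg.Geo.specialLinear ι F) (hH : ContainsH M)
    (B : GL ι F) (hB : B ∈ M) (hnm : ¬ IsMono (B : Matrix ι ι F)) :
    Cfsg.Geo.specialLinear ι F ≤ M := by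
  by_contra hns
  have hnoT : ¬ HasTransv M := fun hT => hns (Cfsg.Agent.Lib.Helper2.MonoLeaf.sl_le_of_hasTransv (by omega) M hH hT)
  have hW : WorldW M := by
    rcases worldW_or_hasTransv (by omega) hq M hMS hH with h | h
    · exact absurd h hnoT
    · exact h
  have hdenseAll : ∀ X : GL ι F, X ∈ M → ¬ IsMono (X : Matrix ι ι F) → ∀ j c c', c ≠ c' →
      (X : Matrix ι ι F) c j = 0 → (X : Matrix ι ι F) c' j = 0 → False :=
    fun X hX hXnm j c c' hcc h1 h2 =>
      dense_of_worldW (by omega) hq M hH hW X hX hXnm j c c' hcc h1 h2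
  have hprop := prop_of_worldW_six h6 hq M hH hW B hB hnm (hdenseAll B hB hnm)
  exact Cfsg.Agent.Lib.Helper19.SL6LLeaf.false_of_dense_prop_five (by omega) hq M hH B hB hnm hdenseAll hprop

end std

section Transport
variable {F : Type*} [Field F] [Fintype F] {n : ℕ}

/-- MT: the interface for S5634, case `m = 1`. -/
theorem m1_core_six (hn : 6 ≤ n) (hq : 5 ≤ Fintype.card F) {t : ℕ}
    (D : Fin t → Submodule F (Fin n → F)) (hD : Cfsg.Geo.IsMDecomposition 1 D)
    (M : Subgroup (GL (Fin n) F))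
    (hHM : Cfsg.Geo.decompositionStabilizer D ⊓ Cfsg.Geo.specialLinear (Fin n) F ≤ M)
    (hMS : M ≤ Cfsg.Geo.specialLinear (Fin n) F)
    (hne : M ≠ Cfsg.Geo.decompositionStabilizer D ⊓ Cfsg.Geo.specialLinear (Fin n) F) :
    M = Cfsg.Geo.specialLinear (Fin n) F := by
  classical
  -- generators of the lines
  have hgen : ∀ i, ∃ x : Fin n → F, x ≠ 0 ∧ D i = Submodule.span F {x} := by
    intro i
    have h1 := hD.finrank_eq i
    obtain ⟨v, hv0, hv⟩ := finrank_eq_one_iff'.mp h1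
    refine ⟨v, fun h => hv0 (Subtype.ext h), ?_⟩
    apply le_antisymm
    · intro w hw
      obtain ⟨c, hc⟩ := hv ⟨w, hw⟩
      rw [Submodule.mem_span_singleton]
      exact ⟨c, by simpa using congrArg Subtype.val hc⟩
    · rw [Submodule.span_singleton_le_iff_mem]
      exact v.2
  choose x hx0 hxD using hgen
  have hli : LinearIndependent F x :=
    hD.indep.linearIndependent D (fun i => by rw [hxD i]; exact Submodule.mem_span_singleton_self _)
      hx0
  have hsp : ⊤ ≤ Submodule.span F (Set.range x) := by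
    rw [Submodule.span_range_eq_iSup, ← hD.iSup_eq_top]
    exact le_of_eq (iSup_congr fun i => hxD i)
  let b : Module.Basis (Fin t) F (Fin n → F) := Module.Basis.mk hli hsp
  have ht : t = n := by
    have h1 := Module.finrank_eq_card_basis b
    rw [Module.finrank_fin_fun, Fintype.card_fin] at h1
    exact h1.symm
  subst ht
  have hb : ∀ i, b i = x i := fun i => Module.Basis.mk_apply hli hsp i
  -- the change of basis
  let φ : (Fin t → F) ≃ₗ[F] (Fin t → F) := b.equivFun.symm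
  have hφ : ∀ j, φ (Pi.single j (1 : F)) = x j := by
    intro j
    change b.equivFun.symm (Pi.single j 1) = x j
    rw [Module.Basis.equivFun_symm_apply]
    simp [Pi.single_apply, hb]
  let P : GL (Fin t) F :=
    ⟨LinearMap.toMatrix' (φ : (Fin t → F) →ₗ[F] (Fin t → F)),
      LinearMap.toMatrix' (φ.symm : (Fin t → F) →ₗ[F] (Fin t → F)),
      by rw [← LinearMap.toMatrix'_comp]; simp,
      by rw [← LinearMap.toMatrix'_comp]; simp⟩
  have hPv : ∀ v, (P : Matrix (Fin t) (Fin t) F) *ᵥ v = φ v := by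
    intro v
    change LinearMap.toMatrix' (φ : (Fin t → F) →ₗ[F] (Fin t → F)) *ᵥ v = φ v
    rw [LinearMap.toMatrix'_mulVec]
    rfl
  have hP : ∀ j, D j = Submodule.span F
      {(P : Matrix (Fin t) (Fin t) F) *ᵥ (Pi.single j (1 : F))} := by
    intro j
    rw [hPv, hφ, hxD j]
  -- the conjugated group
  let ψ : GL (Fin t) F →* GL (Fin t) F := (MulAut.conj P).toMonoidHom
  have hψ : ∀ h, ψ h = P * h * P⁻¹ := fun h => rfl
  let M' : Subgroup (GL (Fin t) F) := M.comap ψ
  have hSLn : (Cfsg.Geo.specialLinear (Fin t) F).Normal := by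
    unfold Cfsg.Geo.specialLinear
    infer_instance
  have hM'S : M' ≤ Cfsg.Geo.specialLinear (Fin t) F := by
    intro h hh
    have h1 : P * h * P⁻¹ ∈ Cfsg.Geo.specialLinear (Fin t) F := hMS hh
    have h2 := hSLn.conj_mem _ h1 P⁻¹
    have h3 : P⁻¹ * (P * h * P⁻¹) * P⁻¹⁻¹ = h := by group
    rwa [h3] at h2
  have hH' : ContainsH M' := by
    intro h hmono hsl
    change ψ h ∈ M
    rw [hψ]
    apply hHM
    exact ⟨conj_mem_stab D P hP h hmono, hSLn.conj_mem _ hsl P⟩
  -- a non-monomial element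
  have hex : ∃ g ∈ M, g ∉ Cfsg.Geo.decompositionStabilizer D := by
    by_contra hno
    push Not at hno
    apply hne
    apply le_antisymm
    · intro g hg
      exact ⟨hno g hg, hMS hg⟩
    · exact hHM
  obtain ⟨g, hgM, hgD⟩ := hex
  have hB'M : P⁻¹ * g * P ∈ M' := by
    change ψ (P⁻¹ * g * P) ∈ M
    rw [hψ]
    have : P * (P⁻¹ * g * P) * P⁻¹ = g := by group
    rwa [this]
  have hB'nm : ¬ IsMono ((P⁻¹ * g * P : GL (Fin t) F) : Matrix (Fin t) (Fin t) F) := by
    intro hmono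
    apply hgD
    have := conj_mem_stab D P hP (P⁻¹ * g * P) hmono
    have h2 : P * (P⁻¹ * g * P) * P⁻¹ = g := by group
    rwa [h2] at this
  have hmain := std_main_six (ι := Fin t) (by rw [Fintype.card_fin]; exact hn) hq M' hM'S hH'
    (P⁻¹ * g * P) hB'M hB'nm
  apply le_antisymm hMS
  intro y hy
  have h1 : P⁻¹ * y * P⁻¹⁻¹ ∈ Cfsg.Geo.specialLinear (Fin t) F := hSLn.conj_mem _ hy P⁻¹
  have h2 : P⁻¹ * y * P⁻¹⁻¹ ∈ M' := hmain h1
  change ψ (P⁻¹ * y * P⁻¹⁻¹) ∈ M at h2
  rw [hψ] at h2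
  have h3 : P * (P⁻¹ * y * P⁻¹⁻¹) * P⁻¹ = y := by group
  rwa [h3] at h2

end Transport



/-- (L) the lines conjunct: S5634 for blocks of dimension one, `6 ≤ n`, `5 ≤ q`. -/
theorem decomp_maximal_one_six {F : Type*} [Field F] [Fintype F] (n : ℕ) (hn : 6 ≤ n) {t : ℕ}
    (D : Fin t → Submodule F (Fin n → F)) (hD : Cfsg.Geo.IsMDecomposition 1 D) (hq : 5 ≤ Fintype.card F) :
    Cfsg.Geo.IsMaximalIn (Cfsg.Geo.specialLinear (Fin n) F)
      (Cfsg.Geo.decompositionStabilizer D ⊓ Cfsg.Geo.specialLinear (Fin n) F) := by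
  refine ⟨Cfsg.Agent.Lib.Helper18.C2Leaf.stab_lt_sl hD, fun M hHM hMS => ?_⟩
  by_cases hMH : M = Cfsg.Geo.decompositionStabilizer D ⊓ Cfsg.Geo.specialLinear (Fin n) F
  · left; exact hMH
  · right
    exact m1_core_six hn hq D hD M hHM hMS hMH

end Cfsg.Agent.Lib.Helper26.SL6L
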