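import Mathlib
import Cfsg.Prelude.Def_LieClassical
import Cfsg.Agent.Lib.Helper4.SU6FDefs
import Cfsg.Agent.Lib.Helper27.AschKF3
import Cfsg.Agent.Lib.Helper1.AFAdj

/-!
helper26: SUnMax stage 2, sub-market SU6F (helper4, `notes/SUnMax_E3d_leaves.lean`): the generic leaves
F12 `exists_F2`, F10 `det_eq_one_of_rational`, F11 `mem_subfieldSubgroup_of_rational`.
-/

set_option autoImplicit false
set_option linter.unusedSectionVars false
set_option linter.unusedVariables false

namespace Cfsg.Agent.Lib.Helper26.SU6FLeaf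
open Matrix Cfsg.Agent.Lib.Helper4.SU6F

universe u
variable {F : Type u} [Field F] [Fintype F]

/-- characteristic two -/
theorem two_eq_zero26 (hcF : Fintype.card F = 4) : (2 : F) = 0 := by
  have h4 : ((4 : ℕ) : F) = 0 := by rw [← hcF]; exact Nat.cast_card_eq_zero F
  have h4' : (2 : F) * 2 = 0 := by
    have : ((4 : ℕ) : F) = 2 * 2 := by norm_num
    rw [← this]; exact h4
  rcases mul_eq_zero.mp h4' with h | h <;> exact h

/-- (F12) the prime subfield of `F_4` -/
theorem exists_F2 (hcF : Fintype.card F = 4) :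
    ∃ F₀ : Subfield F, (∀ a : F, a ∈ F₀ ↔ a ^ 2 = a) ∧ Nat.card F₀ = 2 := by
  have h2 := two_eq_zero26 hcF
  have hadd : ∀ a b : F, (a + b) ^ 2 = a ^ 2 + b ^ 2 := by
    intro a b; linear_combination (a * b) * h2
  let F₀ : Subfield F :=
    { carrier := {a | a ^ 2 = a}
      mul_mem' := by
        intro a b ha hb
        simp only [Set.mem_ofPred_eq] at *
        rw [mul_pow, ha, hb]
      one_mem' := by simp
      add_mem' := by
        intro a b ha hb
        simp only [Set.mem_ofPred_eq] at *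
        rw [hadd, ha, hb]
      zero_mem' := by simp
      neg_mem' := by
        intro a ha
        simp only [Set.mem_ofPred_eq] at *
        rw [neg_sq, ha]
        linear_combination a * h2
      inv_mem' := by
        intro a ha
        simp only [Set.mem_ofPred_eq] at *
        rw [inv_pow, ha] }
  have hmem : ∀ a : F, a ∈ F₀ ↔ a ^ 2 = a := fun a => Iff.rfl
  refine ⟨F₀, hmem, ?_⟩
  rw [Nat.card_eq_two_iff]
  refine ⟨⟨0, (hmem 0).mpr (by simp)⟩, ⟨1, (hmem 1).mpr (by simp)⟩, ?_, ?_⟩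
  · intro h
    have := congrArg Subtype.val h
    exact zero_ne_one this
  · ext ⟨a, ha⟩
    simp only [Set.mem_insert_iff, Set.mem_singleton_iff, Set.mem_univ, iff_true, Subtype.mk.injEq]
    have ha' : a ^ 2 = a := (hmem a).mp ha
    have : a * (a - 1) = 0 := by linear_combination ha'
    rcases mul_eq_zero.mp this with h | h
    · exact Or.inl h
    · exact Or.inr (sub_eq_zero.mp h)

/-- the unit vectors are rational -/
theorem rat_single26 (j : Fin 6) : Rat (Pi.single j (1 : F) : Fin 6 → F) := by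
  intro i
  by_cases hij : i = j
  · subst hij; simp
  · simp [Pi.single_eq_of_ne hij]

/-- (F10) a matrix preserving the `F_2`-span of the columns of `P` has determinant in `F_2` -/
theorem det_eq_one_of_rational (hcF : Fintype.card F = 4) (P : GL (Fin 6) F) (g : Matrix (Fin 6) (Fin 6) F)
    (hdet : g.det ≠ 0)
    (hg : ∀ r : Fin 6 → F, Rat r → ∃ r' : Fin 6 → F, Rat r' ∧
      g *ᵥ ((P : Matrix (Fin 6) (Fin 6) F) *ᵥ r) = (P : Matrix (Fin 6) (Fin 6) F) *ᵥ r') :
    g.det = 1 := by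
  classical
  have h2 := two_eq_zero26 hcF
  have hPinv : ((P⁻¹ : GL (Fin 6) F) : Matrix (Fin 6) (Fin 6) F) * (P : Matrix (Fin 6) (Fin 6) F) = 1 := by
    rw [← Units.val_mul, inv_mul_cancel, Units.val_one]
  set A : Matrix (Fin 6) (Fin 6) F :=
    ((P⁻¹ : GL (Fin 6) F) : Matrix (Fin 6) (Fin 6) F) * g * (P : Matrix (Fin 6) (Fin 6) F) with hA
  have hArat : ∀ i j, A i j ^ 2 = A i j := by
    intro i j
    obtain ⟨r', hr', hgr⟩ := hg _ (rat_single26 j)
    have h1 : A *ᵥ (Pi.single j (1 : F)) = r' := by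
      rw [hA, ← Matrix.mulVec_mulVec, ← Matrix.mulVec_mulVec, hgr, Matrix.mulVec_mulVec, hPinv,
        Matrix.one_mulVec]
    have h2 : A i j = r' i := by
      rw [← h1, Matrix.mulVec_single_one]
      rfl
    rw [h2]; exact hr' i
  have hdetA : A.det = g.det := by
    rw [hA, Matrix.det_mul, Matrix.det_mul, mul_comm, ← mul_assoc, ← Matrix.det_mul]
    have : (P : Matrix (Fin 6) (Fin 6) F) * ((P⁻¹ : GL (Fin 6) F) : Matrix (Fin 6) (Fin 6) F) = 1 := by
      rw [← Units.val_mul, mul_inv_cancel, Units.val_one]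
    rw [this, Matrix.det_one, one_mul]
  -- the Frobenius
  let φ : F →+* F :=
    { toFun := fun a => a ^ 2
      map_one' := by simp
      map_mul' := by intro a b; exact mul_pow a b 2
      map_zero' := by simp
      map_add' := by intro a b; linear_combination (a * b) * h2 }
  have hφA : φ.mapMatrix A = A := by
    ext i j
    exact hArat i j
  have h3 : A.det ^ 2 = A.det := by
    have := RingHom.map_det φ A
    rw [hφA] at this
    exact this
  rw [hdetA] at h3
  have h4 : g.det * (g.det - 1) = 0 := by linear_combination h3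
  rcases mul_eq_zero.mp h4 with h | h
  · exact absurd h hdet
  · exact sub_eq_zero.mp h

/-- (F11) membership in the subfield group -/
theorem mem_subfieldSubgroup_of_rational (F₀ : Subfield F) (hF₀ : ∀ a : F, a ∈ F₀ ↔ a ^ 2 = a) (P g : GL (Fin 6) F)
    (l : F) (hl : l ≠ 0)
    (hg : ∀ r : Fin 6 → F, Rat r → ∃ r' : Fin 6 → F, Rat r' ∧
      (g : Matrix (Fin 6) (Fin 6) F) *ᵥ ((P : Matrix (Fin 6) (Fin 6) F) *ᵥ r) =
        l • ((P : Matrix (Fin 6) (Fin 6) F) *ᵥ r')) :
    g ∈ Cfsg.Geo.subfieldSubgroup F₀ P := by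
  classical
  have hPinv : ((P⁻¹ : GL (Fin 6) F) : Matrix (Fin 6) (Fin 6) F) * (P : Matrix (Fin 6) (Fin 6) F) = 1 := by
    rw [← Units.val_mul, inv_mul_cancel, Units.val_one]
  -- the conjugate
  set A : GL (Fin 6) F := P⁻¹ * g * P with hA
  have hAval : (A : Matrix (Fin 6) (Fin 6) F) =
      ((P⁻¹ : GL (Fin 6) F) : Matrix (Fin 6) (Fin 6) F) * (g : Matrix (Fin 6) (Fin 6) F) *
        (P : Matrix (Fin 6) (Fin 6) F) := by
    rw [hA, Units.val_mul, Units.val_mul]
  -- entries of `l⁻¹ • A` lie in `F₀`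
  have hent : ∀ i j, l⁻¹ * (A : Matrix (Fin 6) (Fin 6) F) i j ∈ F₀ := by
    intro i j
    obtain ⟨r', hr', hgr⟩ := hg _ (rat_single26 j)
    have h1 : (A : Matrix (Fin 6) (Fin 6) F) *ᵥ (Pi.single j (1 : F)) = l • r' := by
      rw [hAval, ← Matrix.mulVec_mulVec, ← Matrix.mulVec_mulVec, hgr, Matrix.mulVec_smul,
        Matrix.mulVec_mulVec, hPinv, Matrix.one_mulVec]
    have h2 : (A : Matrix (Fin 6) (Fin 6) F) i j = l * r' i := by
      have := congrFun h1 i
      rw [Matrix.mulVec_single_one] at this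
      exact this
    rw [h2, ← mul_assoc, inv_mul_cancel₀ hl, one_mul, hF₀]
    exact hr' i
  let B₀ : Matrix (Fin 6) (Fin 6) F₀ := fun i j => ⟨l⁻¹ * (A : Matrix (Fin 6) (Fin 6) F) i j, hent i j⟩
  have hB₀map : B₀.map (F₀.subtype : F₀ →+* F) = l⁻¹ • (A : Matrix (Fin 6) (Fin 6) F) := by
    ext i j
    rfl
  have hdetB : B₀.det ≠ 0 := by
    intro h0
    have h1 := RingHom.map_det (F₀.subtype : F₀ →+* F) B₀
    rw [h0, map_zero] at h1
    have h2 : ((F₀.subtype : F₀ →+* F).mapMatrix B₀) = l⁻¹ • (A : Matrix (Fin 6) (Fin 6) F) := hB₀map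
    rw [h2, Matrix.det_smul] at h1
    have hdA : (A : Matrix (Fin 6) (Fin 6) F).det ≠ 0 := by
      have := (Matrix.isUnit_iff_isUnit_det _).mp (Units.isUnit A)
      exact this.ne_zero
    have hl' : l⁻¹ ^ Fintype.card (Fin 6) ≠ 0 := pow_ne_zero _ (inv_ne_zero hl)
    exact (mul_ne_zero hl' hdA) h1.symm
  let B : GL (Fin 6) F₀ := Matrix.GeneralLinearGroup.mkOfDetNeZero B₀ hdetB
  let s : GL (Fin 6) F := Matrix.GeneralLinearGroup.mkOfDetNeZero (l • (1 : Matrix (Fin 6) (Fin 6) F)) (by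
    rw [Matrix.det_smul, Matrix.det_one, mul_one]
    exact pow_ne_zero _ hl)
  have hs : s ∈ Cfsg.Geo.scalars (Fin 6) F := by
    rw [Cfsg.Geo.mem_scalars_iff]
    exact ⟨Units.mk0 l hl, rfl⟩
  have hAeq : A = Matrix.GeneralLinearGroup.map (F₀.subtype : F₀ →+* F) B * s := by
    apply Units.ext
    rw [Units.val_mul]
    change (A : Matrix (Fin 6) (Fin 6) F) = B₀.map (F₀.subtype : F₀ →+* F) * (l • (1 : Matrix (Fin 6) (Fin 6) F))
    rw [hB₀map, Matrix.mul_smul, Matrix.mul_one, smul_smul, mul_inv_cancel₀ hl, one_smul]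
  unfold Cfsg.Geo.subfieldSubgroup
  refine ⟨A, ?_, ?_⟩
  · rw [hAeq]
    exact Subgroup.mul_mem_sup ⟨B, rfl⟩ hs
  · change P * A * P⁻¹ = g
    rw [hA]
    group

end Cfsg.Agent.Lib.Helper26.SU6FLeaf
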