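import Mathlib
import Cfsg.Prelude.Def_LieClassical
import Cfsg.Agent.Lib.Helper4.SU6FDefs
import Cfsg.Agent.Lib.Helper27.AschKF3
import Cfsg.Agent.Lib.Helper1.AFAdj

/-!
helper26: SUnMax stage 2, sub-market SU6F (helper4, `notes/SUnMax_E3d_leaves.lean`): the leaves
F9a `det_rho` (`det (ρ μ) = N(μ)²`) and F9b `decomp_of_norm` (`N(μ)² = 1 ⟹ μ ∈ F^× E₀^×`).
By-products: `Phi26` (the parametrisation `E × E → V`), `Phi_bijective26`, `coords26` (= F4).
-/

set_option autoImplicit false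
set_option linter.unusedSectionVars false
set_option linter.unusedVariables false
set_option linter.style.haveILetI false

namespace Cfsg.Agent.Lib.Helper26.SU6FLeaf
open Matrix Cfsg.Agent.Lib.Helper4.SU6F

universe u
variable {F : Type u} [Field F] [Fintype F]

variable {E : Type*} [Field E] [Algebra F E] {ρ : E →ₐ[F] Matrix (Fin 6) (Fin 6) F}
  {h : (Fin 6 → F) → (Fin 6 → F) → E} {u w : Fin 6 → F}

/-! ## F9b -/

/-- the fixed points of `x ↦ x ^ |F|` in an extension are the elements of `F` -/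
theorem mem_range_of_pow_card26 (x : E) (hx : x ^ Fintype.card F = x) :
    ∃ c : F, algebraMap F E c = x := by
  classical
  by_contra hcon
  have hcon' : ∀ c : F, algebraMap F E c ≠ x := fun c hc => hcon ⟨c, hc⟩
  set Q := Fintype.card F with hQ
  have hQ1 : 1 < Q := Fintype.one_lt_card
  set P : Polynomial E := Polynomial.X ^ Q - Polynomial.X with hP
  have hP0 : P ≠ 0 := FiniteField.X_pow_card_sub_X_ne_zero E hQ1
  have hdeg : P.natDegree = Q := FiniteField.X_pow_card_sub_X_natDegree_eq E hQ1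
  set S : Finset E := insert x (Finset.image (algebraMap F E) Finset.univ) with hS
  have hx_notin : x ∉ Finset.image (algebraMap F E) Finset.univ := by
    intro h
    obtain ⟨c, _, hc⟩ := Finset.mem_image.mp h
    exact hcon' c hc
  have hcardS : S.card = Q + 1 := by
    rw [hS, Finset.card_insert_of_notMem hx_notin,
      Finset.card_image_of_injective _ (algebraMap F E).injective, Finset.card_univ]
  have hsub : S ⊆ P.roots.toFinset := by
    intro y hy
    rw [Multiset.mem_toFinset, Polynomial.mem_roots hP0, Polynomial.IsRoot, hP, Polynomial.eval_sub,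
      Polynomial.eval_pow, Polynomial.eval_X]
    rw [hS, Finset.mem_insert] at hy
    rcases hy with rfl | hy
    · rw [hx, sub_self]
    · obtain ⟨c, _, rfl⟩ := Finset.mem_image.mp hy
      rw [← map_pow, hQ, FiniteField.pow_card, sub_self]
  have h1 : S.card ≤ Q := by
    calc S.card ≤ P.roots.toFinset.card := Finset.card_le_card hsub
      _ ≤ Multiset.card P.roots := Multiset.toFinset_card_le _
      _ ≤ P.natDegree := Polynomial.card_roots' P
      _ = Q := hdeg
  omega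

/-- (F9b) `N(μ)² = 1 ⟹ μ ∈ F^× E₀^×` -/
theorem decomp_of_norm (hcF : Fintype.card F = 4) (hcE : Nat.card E = 64) (μ : E) (hμ : Algebra.norm F μ ^ 2 = 1) :
    ∃ (l : F) (κ : E), l ≠ 0 ∧ κ ≠ 0 ∧ κ ^ 8 = κ ∧ μ = algebraMap F E l * κ := by
  classical
  haveI : Finite E := Nat.finite_of_card_ne_zero (by rw [hcE]; norm_num)
  have hN : algebraMap F E (Algebra.norm F μ) = μ ^ 21 := by
    rw [FiniteField.algebraMap_norm_eq_pow, hcE, Nat.card_eq_fintype_card, hcF]
  have h42 : μ ^ 42 = 1 := by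
    have := congrArg (algebraMap F E) hμ
    rw [map_pow, hN, map_one, ← pow_mul] at this
    exact this
  have hμ0 : μ ≠ 0 := by
    rintro rfl
    rw [zero_pow (by norm_num)] at h42
    exact zero_ne_one h42
  have h63 : μ ^ 63 = 1 := by
    letI : Fintype E := Fintype.ofFinite E
    have := FiniteField.pow_card_sub_one_eq_one μ hμ0
    rw [← Nat.card_eq_fintype_card, hcE] at this
    exact this
  have h21 : μ ^ 21 = 1 := by
    have : μ ^ 63 = μ ^ 42 * μ ^ 21 := by rw [← pow_add]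
    rw [h63, h42, one_mul] at this
    exact this.symm
  have h7 : (μ ^ 7) ^ Fintype.card F = μ ^ 7 := by
    rw [hcF, ← pow_mul]
    calc μ ^ (7 * 4) = μ ^ 21 * μ ^ 7 := by rw [← pow_add]
      _ = μ ^ 7 := by rw [h21, one_mul]
  obtain ⟨l, hl⟩ := mem_range_of_pow_card26 (F := F) (μ ^ 7) h7
  refine ⟨l, μ ^ 15, ?_, pow_ne_zero _ hμ0, ?_, ?_⟩
  · rintro rfl
    rw [map_zero] at hl
    exact pow_ne_zero _ hμ0 hl.symm
  · rw [← pow_mul]
    calc μ ^ (15 * 8) = (μ ^ 21) ^ 5 * μ ^ 15 := by rw [← pow_mul, ← pow_add]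
      _ = μ ^ 15 := by rw [h21, one_pow, one_mul]
  · rw [hl, ← pow_add]
    calc μ = μ ^ 21 * μ := by rw [h21, one_mul]
      _ = μ ^ (7 + 15) := by rw [← pow_succ]

/-! ## F9a -/

/-- the parametrisation `E × E → V`, `(a, b) ↦ ρ a u + ρ b w` -/
def Phi26 (ρ : E →ₐ[F] Matrix (Fin 6) (Fin 6) F) (u w : Fin 6 → F) : (E × E) →ₗ[F] (Fin 6 → F) where
  toFun p := ρ p.1 *ᵥ u + ρ p.2 *ᵥ w
  map_add' p q := by
    simp only [Prod.fst_add, Prod.snd_add, map_add, Matrix.add_mulVec]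
    abel
  map_smul' c p := by
    simp only [Prod.smul_fst, Prod.smul_snd, map_smul, Matrix.smul_mulVec, RingHom.id_apply, smul_add]

omit [Fintype F] in
theorem Phi26_apply (p : E × E) : Phi26 ρ u w p = ρ p.1 *ᵥ u + ρ p.2 *ᵥ w := rfl

omit [Fintype F] in
theorem h_Phi_w26 (hh : HForm ρ h) (hy : Hyp h u w) (p : E × E) : h (Phi26 ρ u w p) w = p.1 := by
  rw [Phi26_apply, hh.add_left, hh.smul_left, hh.smul_left, hy.uw, hy.ww, mul_one, mul_zero, add_zero]

omit [Fintype F] in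
theorem h_Phi_u26 (hh : HForm ρ h) (hy : Hyp h u w) (p : E × E) : h (Phi26 ρ u w p) u = p.2 := by
  rw [Phi26_apply, hh.add_left, hh.smul_left, hh.smul_left, hy.uu, hh.herm u w, hy.uw, one_pow, mul_zero,
    zero_add, mul_one]

omit [Fintype F] in
theorem Phi_injective26 (hh : HForm ρ h) (hy : Hyp h u w) : Function.Injective (Phi26 ρ u w) := by
  intro p q hpq
  apply Prod.ext
  · rw [← h_Phi_w26 hh hy p, ← h_Phi_w26 hh hy q, hpq]
  · rw [← h_Phi_u26 hh hy p, ← h_Phi_u26 hh hy q, hpq]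

theorem Phi_bijective26 (hc : FCtx ρ) (hh : HForm ρ h) (hy : Hyp h u w) :
    Function.Bijective (Phi26 ρ u w) := by
  rw [Nat.bijective_iff_injective_and_card]
  refine ⟨Phi_injective26 hh hy, ?_⟩
  rw [Nat.card_prod, hc.cardE, Nat.card_eq_fintype_card, Fintype.card_fun, hc.cardF, Fintype.card_fin]
  norm_num

/-- (F4) COORDINATES (by-product) -/
theorem coords26 (hc : FCtx ρ) (hh : HForm ρ h) (hy : Hyp h u w) (v : Fin 6 → F) :
    v = ρ (h v w) *ᵥ u + ρ (h v u) *ᵥ w := by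
  obtain ⟨p, rfl⟩ := (Phi_bijective26 hc hh hy).2 v
  rw [h_Phi_w26 hh hy, h_Phi_u26 hh hy]
  rfl

/-- (F9a) `det (ρ μ) = N_{E/F}(μ)²` -/
theorem det_rho (hc : FCtx ρ) (hh : HForm ρ h) (hy : Hyp h u w) (μ : E) :
    (ρ μ).det = Algebra.norm F μ ^ 2 := by
  classical
  haveI : Finite E := Nat.finite_of_card_ne_zero (by rw [hc.cardE]; norm_num)
  have hbij : Function.Bijective (Phi26 ρ u w) := Phi_bijective26 hc hh hy
  let e : (E × E) ≃ₗ[F] (Fin 6 → F) := LinearEquiv.ofBijective (Phi26 ρ u w) hbij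
  have hconj : Matrix.toLin' (ρ μ) =
      (e : (E × E) →ₗ[F] (Fin 6 → F)) ∘ₗ
        ((Algebra.lmul F E μ).prodMap (Algebra.lmul F E μ)) ∘ₗ (e.symm : (Fin 6 → F) →ₗ[F] (E × E)) := by
    apply LinearMap.ext
    intro v
    obtain ⟨p, rfl⟩ := e.surjective v
    simp only [LinearMap.comp_apply, LinearEquiv.coe_coe, LinearEquiv.symm_apply_apply]
    change ρ μ *ᵥ (ρ p.1 *ᵥ u + ρ p.2 *ᵥ w) = ρ (μ * p.1) *ᵥ u + ρ (μ * p.2) *ᵥ w
    rw [Matrix.mulVec_add, Matrix.mulVec_mulVec, Matrix.mulVec_mulVec, map_mul, map_mul]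
  rw [← LinearMap.det_toLin', hconj, LinearMap.det_conj, LinearMap.det_prodMap, Algebra.norm_apply, sq]

end Cfsg.Agent.Lib.Helper26.SU6FLeaf
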