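import Cfsg.Agent.Lib.Helper4.SUMDefs
import Cfsg.Agent.Lib.Helper4.SUMT

/-!
helper26: SUnMax market (helper4, `notes/SUnMax_leaves.lean`), leaf P2 `not_su_le_dec`.
A "line element" `g` (`g w - w ∈ F v` for all `w`, e.g. a transvection) of the stabiliser of a decomposition induces
the identity or a transposition; a perfect subgroup of the stabiliser induces even permutations only; so a perfect
group generated by line elements fixes every `D i`.
Generic: `evenStab26`, `commutator_decStab_le26`, `perm_eq_one_of_line26`, `mapFix26`.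
-/

set_option autoImplicit false
set_option linter.unusedSectionVars false
set_option linter.unusedVariables false

namespace Cfsg.Agent.Lib.Helper26.SUMLeaf

open Cfsg.Geo Matrix Module Cfsg.Agent.Lib.Helper4.SUM

section generic
variable {F : Type*} [Field F] {ι : Type} [Fintype ι] [DecidableEq ι] {t : ℕ}

/-- `σ` is a valid permutation for `g` on the family `D` -/
def Valid26 (D : Fin t → Submodule F (ι → F)) (g : GL ι F) (σ : Equiv.Perm (Fin t)) : Prop :=
  ∀ i, (D i).map (Matrix.toLin' (g : Matrix ι ι F)) = D (σ i)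

lemma valid26_mul {D : Fin t → Submodule F (ι → F)} {a b : GL ι F} {σ τ : Equiv.Perm (Fin t)}
    (ha : Valid26 D a σ) (hb : Valid26 D b τ) : Valid26 D (a * b) (σ * τ) := by
  intro i
  rw [Units.val_mul, Matrix.toLin'_mul, Submodule.map_comp, hb, ha]
  rfl

lemma valid26_one (D : Fin t → Submodule F (ι → F)) : Valid26 D 1 1 := by
  intro i
  simp

lemma valid26_inv {D : Fin t → Submodule F (ι → F)} {a : GL ι F} {σ : Equiv.Perm (Fin t)}
    (ha : Valid26 D a σ) : Valid26 D a⁻¹ σ⁻¹ := by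
  intro i
  have h := ha (σ⁻¹ i)
  have hσi : σ (σ⁻¹ i) = i := by rw [Equiv.Perm.inv_def, Equiv.apply_symm_apply]
  rw [hσi] at h
  rw [← h, ← Submodule.map_comp, ← Matrix.toLin'_mul, ← Units.val_mul, inv_mul_cancel, Units.val_one,
    Matrix.toLin'_one, Submodule.map_id]

/-- the elements of the stabiliser inducing an even permutation -/
def evenStab26 (D : Fin t → Submodule F (ι → F)) : Subgroup (GL ι F) where
  carrier := {g | ∃ σ : Equiv.Perm (Fin t), Valid26 D g σ ∧ Equiv.Perm.sign σ = 1}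
  mul_mem' := by
    rintro a b ⟨σ, hσ, hs⟩ ⟨τ, hτ, ht⟩
    exact ⟨σ * τ, valid26_mul hσ hτ, by rw [map_mul, hs, ht, one_mul]⟩
  one_mem' := ⟨1, valid26_one D, map_one _⟩
  inv_mem' := by
    rintro a ⟨σ, hσ, hs⟩
    exact ⟨σ⁻¹, valid26_inv hσ, by rw [map_inv, hs, inv_one]⟩

/-- commutators of the stabiliser induce even permutations -/
theorem commutator_decStab_le26 (D : Fin t → Submodule F (ι → F)) :
    ⁅decompositionStabilizer D, decompositionStabilizer D⁆ ≤ evenStab26 D := by
  rw [Subgroup.commutator_le]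
  rintro g ⟨σ, hσ⟩ h ⟨τ, hτ⟩
  rw [commutatorElement_def]
  refine ⟨σ * τ * σ⁻¹ * τ⁻¹, valid26_mul (valid26_mul (valid26_mul hσ hτ) (valid26_inv hσ)) (valid26_inv hτ), ?_⟩
  rw [map_mul, map_mul, map_mul, map_inv, map_inv, mul_comm (Equiv.Perm.sign σ) (Equiv.Perm.sign τ),
    mul_inv_cancel_right, mul_inv_cancel]

/-- a perfect subgroup of the stabiliser induces even permutations -/
theorem le_evenStab26 {G : Subgroup (GL ι F)} (hperf : ⁅G, G⁆ = G) {D : Fin t → Submodule F (ι → F)}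
    (hle : G ≤ decompositionStabilizer D) : G ≤ evenStab26 D := by
  rw [← hperf]
  exact le_trans (Subgroup.commutator_mono hle hle) (commutator_decStab_le26 D)

lemma exists_ne_zero_of_mdec26' {k : ℕ} {D : Fin t → Submodule F (ι → F)} (hD : IsMDecomposition k D)
    (i : Fin t) : ∃ d ∈ D i, d ≠ 0 := by
  have hpos : 0 < Module.finrank F (D i) := by rw [hD.finrank_eq i]; exact hD.pos
  rw [Module.finrank_pos_iff_exists_ne_zero] at hpos
  obtain ⟨⟨d, hd⟩, hne⟩ := hpos
  exact ⟨d, hd, fun h => hne (Subtype.ext h)⟩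

/-- a line element moving `D i` fixes every `D l`, `l ≠ i, σ i` -/
theorem line_moves_two26 {k : ℕ} {D : Fin t → Submodule F (ι → F)} (hD : IsMDecomposition k D) (g : GL ι F)
    (v : ι → F) (hline : ∀ w : ι → F, ∃ c : F, (g : Matrix ι ι F) *ᵥ w - w = c • v)
    (σ : Equiv.Perm (Fin t)) (hσ : Valid26 D g σ) (i : Fin t) (hi : σ i ≠ i) (l : Fin t) (hli : l ≠ i)
    (hlj : l ≠ σ i) : σ l = l := by
  by_contra hl
  have hmap : ∀ (j : Fin t) (x : ι → F), x ∈ D j → (g : Matrix ι ι F) *ᵥ x ∈ D (σ j) := by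
    intro j x hx
    rw [← hσ j]
    exact ⟨x, hx, by rw [Matrix.toLin'_apply]⟩
  have hdisj : ∀ j : Fin t, ∀ x ∈ D j, ∀ l' : Fin t, l' ≠ j → x ∈ D l' → x = 0 := by
    intro j x hxj l' hlj' hxl
    have := (hD.indep.pairwiseDisjoint hlj'.symm)
    exact (Submodule.disjoint_def.mp this) x hxj hxl
  -- `v ∈ D i ⊔ D (σ i)`
  obtain ⟨x, hx, hx0⟩ := exists_ne_zero_of_mdec26' hD i
  obtain ⟨c, hc⟩ := hline x
  have hc0 : c ≠ 0 := by
    rintro rfl
    rw [zero_smul, sub_eq_zero] at hc
    have h1 := hmap i x hx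
    rw [hc] at h1
    exact hx0 (hdisj i x hx (σ i) hi h1)
  have hv : v = c⁻¹ • ((g : Matrix ι ι F) *ᵥ x) - c⁻¹ • x := by
    rw [← smul_sub, hc, smul_smul, inv_mul_cancel₀ hc0, one_smul]
  -- a non-zero vector of `D l`
  obtain ⟨y, hy, hy0⟩ := exists_ne_zero_of_mdec26' hD l
  obtain ⟨c', hc'⟩ := hline y
  have hy' : y = (g : Matrix ι ι F) *ᵥ y - c' • v := by rw [← hc']; abel
  have hmem : y ∈ ⨆ l', ⨆ (_ : l' ≠ l), D l' := by
    rw [hy', hv]
    refine Submodule.sub_mem _ ?_ (Submodule.smul_mem _ _ (Submodule.sub_mem _ ?_ ?_))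
    · exact Submodule.mem_iSup_of_mem (σ l) (Submodule.mem_iSup_of_mem hl (hmap l y hy))
    · exact Submodule.smul_mem _ _
        (Submodule.mem_iSup_of_mem (σ i) (Submodule.mem_iSup_of_mem (Ne.symm hlj) (hmap i x hx)))
    · exact Submodule.smul_mem _ _ (Submodule.mem_iSup_of_mem i (Submodule.mem_iSup_of_mem (Ne.symm hli) hx))
  exact hy0 (Submodule.disjoint_def.mp (hD.indep l) y hy hmem)

/-- an even permutation moving at most two points is the identity -/
lemma perm_eq_one_of_two26 (σ : Equiv.Perm (Fin t))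
    (h : ∀ i, σ i ≠ i → ∀ l, l ≠ i → l ≠ σ i → σ l = l) (hs : Equiv.Perm.sign σ = 1) : σ = 1 := by
  by_contra hne
  obtain ⟨i, hi⟩ : ∃ i, σ i ≠ i := by
    by_contra hh
    apply hne
    ext l
    by_contra hl
    exact hh ⟨l, fun h' => hl (by rw [h']; rfl)⟩
  have hσσ : σ (σ i) = i := by
    by_contra h1
    have h2 : σ (σ i) ≠ σ i := fun h' => hi (σ.injective h')
    have h3 := h i hi (σ (σ i)) h1 h2
    exact h2 (σ.injective h3)
  have : σ = Equiv.swap i (σ i) := by
    ext l
    by_cases hli : l = i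
    · subst hli
      rw [Equiv.swap_apply_left]
    · by_cases hlj : l = σ i
      · rw [hlj, Equiv.swap_apply_right, hσσ]
      · rw [Equiv.swap_apply_of_ne_of_ne hli hlj, h i hi l hli hlj]
  rw [this, Equiv.Perm.sign_swap (Ne.symm hi)] at hs
  exact absurd hs (by decide)

/-- a line element with an even valid permutation fixes every `D i` -/
theorem perm_eq_one_of_line26 {k : ℕ} {D : Fin t → Submodule F (ι → F)} (hD : IsMDecomposition k D) (g : GL ι F)
    (v : ι → F) (hline : ∀ w : ι → F, ∃ c : F, (g : Matrix ι ι F) *ᵥ w - w = c • v)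
    (σ : Equiv.Perm (Fin t)) (hσ : Valid26 D g σ) (hs : Equiv.Perm.sign σ = 1) : σ = 1 :=
  perm_eq_one_of_two26 σ (fun i hi l hli hlj => line_moves_two26 hD g v hline σ hσ i hi l hli hlj) hs

/-- the elements mapping `W` onto itself -/
def mapFix26 (W : Submodule F (ι → F)) : Subgroup (GL ι F) where
  carrier := {g | W.map (Matrix.toLin' (g : Matrix ι ι F)) = W}
  mul_mem' := by
    intro a b ha hb
    change W.map _ = W
    rw [Units.val_mul, Matrix.toLin'_mul, Submodule.map_comp, hb, ha]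
  one_mem' := by
    change W.map _ = W
    simp
  inv_mem' := by
    intro a ha
    change W.map _ = W
    have ha' : W.map (Matrix.toLin' (a : Matrix ι ι F)) = W := ha
    conv_lhs => rw [← ha']
    rw [← Submodule.map_comp, ← Matrix.toLin'_mul, ← Units.val_mul, inv_mul_cancel, Units.val_one,
      Matrix.toLin'_one, Submodule.map_id]

end generic

section su
variable {n : ℕ} {F : Type*} [Field F] [Fintype F] {q : ℕ}

/-- P2 (exact signature of `notes/SUnMax_leaves.lean`) -/
theorem not_su_le_dec (hF : Fintype.card F = q ^ 2) (hn : 3 ≤ n) (h32 : ¬ (n = 3 ∧ q = 2)) {t m : ℕ}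
    {D : Fin t → Submodule F (Fin n → F)} (hD : IsMDecomposition m D) :
    ¬ SUg n F q ≤ decompositionStabilizer D := by
  intro hle
  have ht := hD.two_le
  set i0 : Fin t := ⟨0, by omega⟩ with hi0
  set i1 : Fin t := ⟨1, by omega⟩ with hi1
  have h01 : i0 ≠ i1 := by
    intro h
    have := congrArg Fin.val h
    simp [hi0, hi1] at this
  have hE := le_evenStab26 (Cfsg.Agent.Lib.Helper4.SUMLeaf.su_perfect hF hn h32) hle
  have hM : SUg n F q ≤ mapFix26 (D i0) := by
    refine Cfsg.Agent.Lib.Helper4.SUMLeaf.su_le_of_tv hF hn h32 _ ?_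
    intro g hg v c hv hc hgv
    obtain ⟨σ, hσ, hs⟩ := hE hg
    have hline : ∀ w : Fin n → F, ∃ c' : F, (g : Matrix (Fin n) (Fin n) F) *ᵥ w - w = c' • v := by
      intro w
      refine ⟨c * Cfsg.hermForm n F q w v, ?_⟩
      rw [hgv, Cfsg.Agent.Lib.Helper4.SUMLeaf.ut_mulVec]
      abel
    have h1 := perm_eq_one_of_line26 hD g v hline σ hσ hs
    change (D i0).map _ = D i0
    rw [hσ i0, h1]
    rfl
  have hirr := (Cfsg.Agent.Lib.Helper4.SUMLeaf.su_absIrr (q := q) hF hn).1 (D i0) (by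
    rintro s ⟨g, hg, rfl⟩
    exact le_of_eq (hM hg))
  obtain ⟨d₀, hd₀, hd₀0⟩ := exists_ne_zero_of_mdec26' hD i0
  obtain ⟨d₁, hd₁, hd₁0⟩ := exists_ne_zero_of_mdec26' hD i1
  rcases hirr with h | h
  · rw [h, Submodule.mem_bot] at hd₀
    exact hd₀0 hd₀
  · have h1 : d₁ ∈ D i0 := by rw [h]; trivial
    have := (hD.indep.pairwiseDisjoint h01)
    exact hd₁0 ((Submodule.disjoint_def.mp this) d₁ h1 hd₁)

end su

end Cfsg.Agent.Lib.Helper26.SUMLeaf
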