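import Cfsg.Agent.Lib.Helper4.SUMDefs
import Cfsg.Agent.Lib.Helper4.SUMT
import Cfsg.Agent.Lib.Helper28.SLMDec
import Cfsg.Agent.Lib.Helper27.SpMT4
import Cfsg.Agent.Lib.Helper26.SpMP47

/-!
helper26: SUnMax market (helper4, `notes/SUnMax_leaves.lean`), leaf P4 `not_su_le_tensor`: a Kronecker product `a ⊗ b`
(`n₁, n₂ ≥ 2`) is never of the form `1 + (rank one)`; `SU` contains a transvection.
Generic core: `kron_eq_one_of_line26`, `not_le_tensor_of_line26`.
-/

set_option autoImplicit false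
set_option linter.unusedSectionVars false
set_option linter.unusedVariables false

namespace Cfsg.Agent.Lib.Helper26.SUMLeaf

open Cfsg.Geo Matrix Module Cfsg.Agent.Lib.Helper4.SUM
open Cfsg.Agent.Lib.Helper28.SLMLeaf
open scoped Kronecker

section core
variable {K : Type*} [Field K] [Fintype K] {n₁ n₂ : ℕ}

/-- the pure tensor `x ⊗ y` -/
def pt26 (x : Fin n₁ → K) (y : Fin n₂ → K) : Fin n₁ × Fin n₂ → K := fun p => x p.1 * y p.2

lemma pt26_add_right (x : Fin n₁ → K) (y y' : Fin n₂ → K) : pt26 x (y + y') = pt26 x y + pt26 x y' := by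
  funext p; simp only [pt26, Pi.add_apply]; ring

lemma pt26_smul_right (x : Fin n₁ → K) (c : K) (y : Fin n₂ → K) : pt26 x (c • y) = c • pt26 x y := by
  funext p; simp only [pt26, Pi.smul_apply, smul_eq_mul]; ring

lemma kron_mulVec_pt26 (a : Matrix (Fin n₁) (Fin n₁) K) (b : Matrix (Fin n₂) (Fin n₂) K)
    (x : Fin n₁ → K) (y : Fin n₂ → K) :
    (Matrix.kroneckerMap (· * ·) a b) *ᵥ pt26 x y = pt26 (a *ᵥ x) (b *ᵥ y) :=
  kron_mulVec_dec a b x y

/-- if `a x` is not a multiple of `x`, then `(a ⊗ b)(x ⊗ y) = x ⊗ y` forces `b y = 0` -/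
lemma by_eq_zero_of_fix26 (a : Matrix (Fin n₁) (Fin n₁) K) (b : Matrix (Fin n₂) (Fin n₂) K)
    (x : Fin n₁ → K) (hx : ∀ c : K, a *ᵥ x ≠ c • x) (y : Fin n₂ → K)
    (h : pt26 (a *ᵥ x) (b *ᵥ y) = pt26 x y) : b *ᵥ y = 0 := by
  classical
  have hx0 : x ≠ 0 := by
    rintro rfl
    apply hx 0
    rw [Matrix.mulVec_zero, smul_zero]
  obtain ⟨i₀, hi₀⟩ : ∃ i, x i ≠ 0 := by
    by_contra hh
    apply hx0
    funext i
    by_contra hi
    exact hh ⟨i, hi⟩
  set c : K := (a *ᵥ x) i₀ / x i₀ with hc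
  have hz : a *ᵥ x - c • x ≠ 0 := fun hh => hx c (sub_eq_zero.1 hh)
  obtain ⟨i₁, hi₁⟩ : ∃ i, (a *ᵥ x - c • x) i ≠ 0 := by
    by_contra hh
    apply hz
    funext i
    by_contra hi
    exact hh ⟨i, hi⟩
  funext j
  have e1 := congrFun h (i₁, j)
  have e0 := congrFun h (i₀, j)
  simp only [pt26] at e1 e0
  -- `e1 - (x i₁ / x i₀) e0`
  have hkey : ((a *ᵥ x) i₁ - c * x i₁) * (b *ᵥ y) j = 0 := by
    have h1 : (a *ᵥ x) i₀ = c * x i₀ := by rw [hc]; field_simp
    have : ((a *ᵥ x) i₁ - c * x i₁) * (b *ᵥ y) j =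
        ((a *ᵥ x) i₁ * (b *ᵥ y) j) - (x i₁ / x i₀) * ((a *ᵥ x) i₀ * (b *ᵥ y) j) := by
      rw [h1]; field_simp
    rw [this, e1, e0]
    field_simp
    ring
  have hne : (a *ᵥ x) i₁ - c * x i₁ ≠ 0 := by
    simpa [Pi.sub_apply, Pi.smul_apply, smul_eq_mul] using hi₁
  rcases mul_eq_zero.1 hkey with h0 | h0
  · exact absurd h0 hne
  · simpa using h0

/-- a Kronecker product whose difference with `1` has its range in a line is `1` -/
theorem kron_eq_one_of_line26 (h1 : 2 ≤ n₁) (h2 : 2 ≤ n₂) (a : Matrix (Fin n₁) (Fin n₁) K)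
    (b : Matrix (Fin n₂) (Fin n₂) K) (hb : ∀ y : Fin n₂ → K, b *ᵥ y = 0 → y = 0)
    (v₀ : Fin n₁ × Fin n₂ → K)
    (hline : ∀ w : Fin n₁ × Fin n₂ → K, ∃ c : K, (Matrix.kroneckerMap (· * ·) a b) *ᵥ w - w = c • v₀) :
    Matrix.kroneckerMap (· * ·) a b = 1 := by
  classical
  let i0 : Fin n₁ := ⟨0, by omega⟩
  let i1 : Fin n₁ := ⟨1, by omega⟩
  let j0 : Fin n₂ := ⟨0, by omega⟩
  let j1 : Fin n₂ := ⟨1, by omega⟩
  have hi : i0 ≠ i1 := by intro h; have := congrArg Fin.val h; simp [i0, i1] at this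
  have hj : j0 ≠ j1 := by intro h; have := congrArg Fin.val h; simp [j0, j1] at this
  set M : Matrix (Fin n₁ × Fin n₂) (Fin n₁ × Fin n₂) K := Matrix.kroneckerMap (· * ·) a b with hM
  -- Step 1: every vector is an eigenvector of `a`
  have hstep1 : ∀ x : Fin n₁ → K, ∃ c : K, a *ᵥ x = c • x := by
    intro x
    by_contra hcon
    have hx : ∀ c : K, a *ᵥ x ≠ c • x := fun c hc => hcon ⟨c, hc⟩
    have hinj : ∀ y : Fin n₂ → K, M *ᵥ pt26 x y - pt26 x y = 0 → y = 0 := by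
      intro y hy
      rw [hM, kron_mulVec_pt26, sub_eq_zero] at hy
      exact hb y (by_eq_zero_of_fix26 a b x hx y hy)
    obtain ⟨c₁, hc₁⟩ := hline (pt26 x (Pi.single j0 1))
    obtain ⟨c₂, hc₂⟩ := hline (pt26 x (Pi.single j1 1))
    have hcomb : M *ᵥ pt26 x (c₂ • Pi.single j0 1 - c₁ • Pi.single j1 1) -
        pt26 x (c₂ • Pi.single j0 1 - c₁ • Pi.single j1 1) = 0 := by
      have e : pt26 x (c₂ • Pi.single j0 1 - c₁ • Pi.single j1 1) =
          c₂ • pt26 x (Pi.single j0 1) - c₁ • pt26 x (Pi.single j1 1) := by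
        rw [sub_eq_add_neg, pt26_add_right, ← neg_smul, pt26_smul_right, pt26_smul_right, neg_smul,
          ← sub_eq_add_neg]
      rw [e, Matrix.mulVec_sub, Matrix.mulVec_smul, Matrix.mulVec_smul]
      have : c₂ • M *ᵥ pt26 x (Pi.single j0 1) - c₁ • M *ᵥ pt26 x (Pi.single j1 1) -
          (c₂ • pt26 x (Pi.single j0 1) - c₁ • pt26 x (Pi.single j1 1)) =
          c₂ • (M *ᵥ pt26 x (Pi.single j0 1) - pt26 x (Pi.single j0 1)) -
          c₁ • (M *ᵥ pt26 x (Pi.single j1 1) - pt26 x (Pi.single j1 1)) := by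
        rw [smul_sub, smul_sub]; abel
      rw [this, hc₁, hc₂, smul_smul, smul_smul, mul_comm, sub_self]
    have h0 := hinj _ hcomb
    have hc₂0 : c₂ = 0 := by
      have := congrFun h0 j0
      simpa [Pi.single_eq_of_ne hj] using this
    have hc₁0 : c₁ = 0 := by
      have := congrFun h0 j1
      simpa [Pi.single_eq_of_ne hj.symm] using this
    rw [hc₁0, zero_smul] at hc₁
    have := hinj _ hc₁
    have := congrFun this j0
    simp at this
  -- Step 2: `a` is scalar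
  obtain ⟨lam, hlam⟩ := Cfsg.Agent.Lib.Helper27.SpMLeaf.scalar_of_forall_eigen a hstep1
  have hB : ∀ y : Fin n₂ → K, lam • (b *ᵥ y) - y = 0 := by
    intro y
    by_contra hne
    obtain ⟨j, hjne⟩ : ∃ j, (lam • (b *ᵥ y) - y) j ≠ 0 := by
      by_contra hh
      apply hne
      funext j
      by_contra hj'
      exact hh ⟨j, hj'⟩
    have hMe : ∀ i : Fin n₁, M *ᵥ pt26 (Pi.single i 1) y - pt26 (Pi.single i 1) y =
        pt26 (Pi.single i 1) (lam • (b *ᵥ y) - y) := by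
      intro i
      rw [hM, kron_mulVec_pt26, hlam, Matrix.smul_mulVec, Matrix.one_mulVec]
      funext p
      simp only [pt26, Pi.sub_apply, Pi.smul_apply, smul_eq_mul]
      ring
    obtain ⟨c₁, hc₁⟩ := hline (pt26 (Pi.single i0 1) y)
    obtain ⟨c₂, hc₂⟩ := hline (pt26 (Pi.single i1 1) y)
    rw [hMe] at hc₁ hc₂
    have hcomb : c₂ • pt26 (Pi.single i0 (1 : K)) (lam • (b *ᵥ y) - y) =
        c₁ • pt26 (Pi.single i1 (1 : K)) (lam • (b *ᵥ y) - y) := by
      rw [hc₁, hc₂, smul_smul, smul_smul, mul_comm]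
    have hc₂0 : c₂ = 0 := by
      have := congrFun hcomb (i0, j)
      simp only [pt26, Pi.smul_apply, smul_eq_mul, Pi.single_eq_same, Pi.single_eq_of_ne hi, one_mul,
        zero_mul, mul_zero] at this
      rcases mul_eq_zero.1 this with h0 | h0
      · exact h0
      · exact absurd h0 hjne
    have hc₁0 : c₁ = 0 := by
      have := congrFun hcomb (i1, j)
      simp only [pt26, Pi.smul_apply, smul_eq_mul, Pi.single_eq_same, Pi.single_eq_of_ne hi.symm, one_mul,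
        zero_mul, mul_zero] at this
      rcases mul_eq_zero.1 this.symm with h0 | h0
      · exact h0
      · exact absurd h0 hjne
    rw [hc₁0, zero_smul] at hc₁
    have := congrFun hc₁ (i0, j)
    simp only [pt26, Pi.single_eq_same, one_mul, Pi.zero_apply] at this
    exact hjne this
  have hlb : lam • b = 1 := by
    apply Matrix.toLin'.injective
    apply LinearMap.ext
    intro y
    rw [Matrix.toLin'_apply, Matrix.toLin'_one, LinearMap.id_apply, Matrix.smul_mulVec]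
    exact sub_eq_zero.1 (hB y)
  rw [hM, hlam]
  change (lam • (1 : Matrix (Fin n₁) (Fin n₁) K)) ⊗ₖ b = 1
  rw [Matrix.smul_kronecker, ← Matrix.kronecker_smul, hlb, Matrix.one_kronecker_one]

end core

section transport
variable {F : Type*} [Field F] [Fintype F]
variable {ι : Type} [Fintype ι] [DecidableEq ι] {κ : Type} [Fintype κ] [DecidableEq κ]

open Cfsg.Agent.Lib.Helper26.SpMLeaf

lemma tau26_sub (e : ι ≃ κ) (P : GL ι F) (w w' : κ → F) : tau26 e P (w - w') = tau26 e P w - tau26 e P w' := by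
  unfold tau26
  rw [← Matrix.mulVec_sub]
  rfl

lemma tau26_smul (e : ι ≃ κ) (P : GL ι F) (c : F) (w : κ → F) : tau26 e P (c • w) = c • tau26 e P w := by
  unfold tau26
  rw [← Matrix.mulVec_smul]
  rfl

lemma tau26_surj (e : ι ≃ κ) (P : GL ι F) (v : ι → F) : ∃ v₀ : κ → F, tau26 e P v₀ = v := by
  refine ⟨fun k => (((P⁻¹ : GL ι F) : Matrix ι ι F) *ᵥ v) (e.symm k), ?_⟩
  unfold tau26
  have h2 : (P : Matrix ι ι F) * ((P⁻¹ : GL ι F) : Matrix ι ι F) = 1 := by
    rw [← Units.val_mul, mul_inv_cancel, Units.val_one]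
  have : (fun i => (((P⁻¹ : GL ι F) : Matrix ι ι F) *ᵥ v) (e.symm (e i))) = ((P⁻¹ : GL ι F) : Matrix ι ι F) *ᵥ v := by
    funext i
    rw [Equiv.symm_apply_apply]
  rw [this, Matrix.mulVec_mulVec, h2, Matrix.one_mulVec]

/-- GENERIC: a subgroup containing a non-identity element `g` with `g w - w` in a fixed line for all `w` (e.g. a
transvection) is contained in no tensor product subgroup with both factors of dimension `≥ 2`. -/
theorem not_le_tensor_of_line26 {G : Subgroup (GL ι F)} {g : GL ι F} (hg : g ∈ G) (hg1 : g ≠ 1) (v : ι → F)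
    (hline : ∀ w : ι → F, ∃ c : F, (g : Matrix ι ι F) *ᵥ w - w = c • v)
    {n₁ n₂ : ℕ} (e : ι ≃ Fin n₁ × Fin n₂) (P : GL ι F) (h1 : 2 ≤ n₁) (h2 : 2 ≤ n₂) :
    ¬ G ≤ tensorProductSubgroup n₁ n₂ e P := by
  classical
  intro hle
  obtain ⟨g₁, ⟨g₀, hg₀, rfl⟩, hgg⟩ := hle hg
  have hconj : ((MulAut.conj P).toMonoidHom ((glReindex e.symm).toMonoidHom g₀)) =
      P * glReindex e.symm g₀ * P⁻¹ := rfl
  rw [hconj] at hgg
  obtain ⟨a, b, hab⟩ := hg₀
  obtain ⟨v₀, hv₀⟩ := tau26_surj e P v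
  have hline' : ∀ w : Fin n₁ × Fin n₂ → F, ∃ c : F,
      (Matrix.kroneckerMap (· * ·) (a : Matrix (Fin n₁) (Fin n₁) F) (b : Matrix (Fin n₂) (Fin n₂) F)) *ᵥ w - w =
        c • v₀ := by
    intro w
    obtain ⟨c, hc⟩ := hline (tau26 e P w)
    refine ⟨c, ?_⟩
    apply tau26_injective e P
    rw [tau26_sub, tau26_smul, hv₀, ← hc, ← hgg, conj_mulVec_tau26, hab]
  have hg0inj : ∀ w : Fin n₁ × Fin n₂ → F,
      (g₀ : Matrix (Fin n₁ × Fin n₂) (Fin n₁ × Fin n₂) F) *ᵥ w = 0 → w = 0 := by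
    intro w hw
    have h2 : ((g₀⁻¹ : GL (Fin n₁ × Fin n₂) F) : Matrix (Fin n₁ × Fin n₂) (Fin n₁ × Fin n₂) F) *
        (g₀ : Matrix (Fin n₁ × Fin n₂) (Fin n₁ × Fin n₂) F) = 1 := by
      rw [← Units.val_mul, inv_mul_cancel, Units.val_one]
    have := congrArg (fun x =>
      ((g₀⁻¹ : GL (Fin n₁ × Fin n₂) F) : Matrix (Fin n₁ × Fin n₂) (Fin n₁ × Fin n₂) F) *ᵥ x) hw
    simpa [Matrix.mulVec_mulVec, h2] using this
  have hb : ∀ y : Fin n₂ → F, (b : Matrix (Fin n₂) (Fin n₂) F) *ᵥ y = 0 → y = 0 := by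
    intro y hy
    let i0 : Fin n₁ := ⟨0, by omega⟩
    have h0 : (g₀ : Matrix (Fin n₁ × Fin n₂) (Fin n₁ × Fin n₂) F) *ᵥ pt26 (Pi.single i0 1) y = 0 := by
      rw [hab]
      change (Matrix.kroneckerMap (· * ·) _ _) *ᵥ _ = 0
      rw [kron_mulVec_pt26, hy]
      funext p
      simp [pt26]
    have := hg0inj _ h0
    funext j
    have := congrFun this (i0, j)
    simpa [pt26] using this
  have hone := kron_eq_one_of_line26 h1 h2 (a : Matrix (Fin n₁) (Fin n₁) F) (b : Matrix (Fin n₂) (Fin n₂) F) hb v₀ hline'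
  have hg₀1 : g₀ = 1 := by
    apply Units.ext
    rw [hab, Units.val_one]
    exact hone
  apply hg1
  rw [← hgg, hg₀1, map_one, mul_one, mul_inv_cancel]

end transport

section su
variable {n : ℕ} {F : Type*} [Field F] [Fintype F] {q : ℕ}

/-- P4 (exact signature of `notes/SUnMax_leaves.lean`) -/
theorem not_su_le_tensor (hF : Fintype.card F = q ^ 2) (hn : 2 ≤ n) {n₁ n₂ : ℕ} (e : Fin n ≃ Fin n₁ × Fin n₂)
    (P : GL (Fin n) F) (h1 : 2 ≤ n₁) (h2 : 2 ≤ n₂) : ¬ SUg n F q ≤ tensorProductSubgroup n₁ n₂ e P := by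
  classical
  obtain ⟨v, hv0, hv⟩ := Cfsg.Agent.Lib.Helper4.SUMLeaf.exists_isotropic (q := q) hF hn
  obtain ⟨c, hc0, hc⟩ := Cfsg.Agent.Lib.Helper4.SUMLeaf.exists_skew (F := F) (q := q) hF
  obtain ⟨g, hg, hgv⟩ := Cfsg.Agent.Lib.Helper4.SUMLeaf.tv_mem hF hv hc
  have hq0 : q ≠ 0 := by
    rintro rfl
    have : 1 < Fintype.card F := Fintype.one_lt_card
    rw [hF] at this
    simp at this
  refine not_le_tensor_of_line26 hg ?_ v ?_ e P h1 h2
  · intro h1'
    obtain ⟨j, hj⟩ : ∃ j, v j ≠ 0 := by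
      by_contra hh
      apply hv0
      funext j
      by_contra hj
      exact hh ⟨j, hj⟩
    have hx := Cfsg.Agent.Lib.Helper4.SUMLeaf.ut_mulVec (q := q) v (Pi.single j 1) c
    rw [← hgv, h1', Units.val_one, Matrix.one_mulVec] at hx
    have hz : (c * Cfsg.hermForm n F q (Pi.single j 1) v) • v = 0 := by
      have := congrArg (fun z => z - Pi.single j (1 : F)) hx
      simpa using this.symm
    have hf : Cfsg.hermForm n F q (Pi.single j 1) v = v j ^ q := by
      unfold Cfsg.hermForm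
      rw [Finset.sum_eq_single j]
      · simp
      · intro i _ hij
        simp [Pi.single_eq_of_ne hij]
      · intro h; exact absurd (Finset.mem_univ j) h
    rw [hf] at hz
    have := congrFun hz j
    simp only [Pi.smul_apply, smul_eq_mul, Pi.zero_apply] at this
    exact mul_ne_zero (mul_ne_zero hc0 (pow_ne_zero _ hj)) hj this
  · intro w
    refine ⟨c * Cfsg.hermForm n F q w v, ?_⟩
    rw [hgv, Cfsg.Agent.Lib.Helper4.SUMLeaf.ut_mulVec]
    abel

end su

end Cfsg.Agent.Lib.Helper26.SUMLeaf
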