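import Cfsg.Agent.Lib.Helper4.SUMDefs
import Cfsg.Agent.Lib.Helper4.SUMT
import Cfsg.Agent.Lib.Helper6.TWQ1
import Cfsg.Agent.Lib.Helper12.TWTS
import Cfsg.Agent.Lib.Helper26.SUMP4

/-!
helper26: SUnMax market (helper4, `notes/SUnMax_leaves.lean`), leaf P7 `not_su_le_tensorWreath_two`: for `t = 2` the pure
tensors contain all commutators of the tensor-wreath group; a perfect group inside the tensor-wreath subgroup lies in the
tensor product subgroup `k ⊗ k`; then P4.
Generic: `pureSub26`, `comm_mem_of_half26`, `commutator_tw_two_le26`, `tensorWreath_two_le_tensor26`.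
-/

set_option autoImplicit false
set_option linter.unusedSectionVars false
set_option linter.unusedVariables false

namespace Cfsg.Agent.Lib.Helper26.SUMLeaf

open Cfsg.Geo Matrix Module Cfsg.Agent.Lib.Helper4.SUM
open Cfsg.Agent.Lib.Helper18.AschA89 Cfsg.Agent.Lib.Helper20.AschLeaf
open scoped Kronecker

section grp

/-- a subgroup `N` which together with one coset `s N` (`s` normalising `N`, `s² ∈ N`) covers `g` and `h` contains the
commutator of `g` and `h` -/
lemma comm_mem_of_half26 {G : Type*} [Group G] (N : Subgroup G) (s : G) (hs : ∀ a ∈ N, s * a * s⁻¹ ∈ N)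
    (hs2 : s * s ∈ N) (g h : G) (hg : g ∈ N ∨ ∃ a ∈ N, g = s * a) (hh : h ∈ N ∨ ∃ a ∈ N, h = s * a) :
    g * h * g⁻¹ * h⁻¹ ∈ N := by
  have hs' : ∀ a ∈ N, s⁻¹ * a * s ∈ N := by
    intro a ha
    -- `s⁻¹ a s = (s s)⁻¹ (s a s⁻¹) (s s)`
    have h1 := hs a ha
    have h2 := N.mul_mem (N.mul_mem (N.inv_mem hs2) h1) hs2
    have : (s * s)⁻¹ * (s * a * s⁻¹) * (s * s) = s⁻¹ * a * s := by group
    rwa [this] at h2
  rcases hg with hg | ⟨a, ha, rfl⟩
  · rcases hh with hh | ⟨b, hb, rfl⟩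
    · exact N.mul_mem (N.mul_mem (N.mul_mem hg hh) (N.inv_mem hg)) (N.inv_mem hh)
    · -- `g (s b) g⁻¹ (s b)⁻¹ = g * (s (b g⁻¹ b⁻¹) s⁻¹)`
      have h1 := hs _ (N.mul_mem (N.mul_mem hb (N.inv_mem hg)) (N.inv_mem hb))
      have h2 := N.mul_mem hg h1
      have : g * (s * (b * g⁻¹ * b⁻¹) * s⁻¹) = g * (s * b) * g⁻¹ * (s * b)⁻¹ := by group
      rwa [this] at h2
  · rcases hh with hh | ⟨b, hb, rfl⟩
    · have h1 := hs _ (N.mul_mem (N.mul_mem ha hh) (N.inv_mem ha))
      have h2 := N.mul_mem h1 (N.inv_mem hh)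
      have : s * (a * h * a⁻¹) * s⁻¹ * h⁻¹ = s * a * h * (s * a)⁻¹ * h⁻¹ := by group
      rwa [this] at h2
    · -- `(s a)(s b)(s a)⁻¹(s b)⁻¹ = (s a s⁻¹) (s s) (b a⁻¹) (s s)⁻¹ (s b⁻¹ s⁻¹)`
      have h1 := hs a ha
      have h2 := hs _ (N.inv_mem hb)
      have h3 := N.mul_mem hb (N.inv_mem ha)
      have h4 := hs _ (hs _ h3)
      have h5 := N.mul_mem (N.mul_mem h1 h4) h2
      have : s * a * s⁻¹ * (s * (s * (b * a⁻¹) * s⁻¹) * s⁻¹) * (s * b⁻¹ * s⁻¹) =
          s * a * (s * b) * (s * a)⁻¹ * (s * b)⁻¹ := by group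
      rwa [this] at h5

end grp

section pure
variable {F : Type*} [Field F] {k t : ℕ}

/-- the subgroup of pure tensors of invertible matrices -/
def pureSub26 (k t : ℕ) (F : Type*) [Field F] : Subgroup (GL (Fin t → Fin k) F) where
  carrier := {g | ∃ gs : Fin t → GL (Fin k) F,
    (g : Matrix (Fin t → Fin k) (Fin t → Fin k) F) = ptens k t (fun i => ((gs i : GL (Fin k) F) : Matrix (Fin k) (Fin k) F))}
  mul_mem' := by
    rintro a b ⟨as, ha⟩ ⟨bs, hb⟩
    refine ⟨fun i => as i * bs i, ?_⟩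
    rw [Units.val_mul, ha, hb, ptens_mul]
    rfl
  one_mem' := by
    refine ⟨fun _ => 1, ?_⟩
    rw [Units.val_one]
    exact (ptens_one k t).symm
  inv_mem' := by
    rintro a ⟨as, ha⟩
    refine ⟨fun i => (as i)⁻¹, ?_⟩
    apply Units.inv_eq_of_mul_eq_one_right
    rw [ha, ptens_mul]
    have : (fun i => ((as i : GL (Fin k) F) : Matrix (Fin k) (Fin k) F) *
        (((as i)⁻¹ : GL (Fin k) F) : Matrix (Fin k) (Fin k) F)) = fun _ => 1 := by
      funext i
      rw [← Units.val_mul, mul_inv_cancel, Units.val_one]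
    rw [this, ptens_one]

lemma mem_pureSub26 (g : GL (Fin t → Fin k) F) : g ∈ pureSub26 k t F ↔ ∃ gs : Fin t → GL (Fin k) F,
    (g : Matrix (Fin t → Fin k) (Fin t → Fin k) F) =
      ptens k t (fun i => ((gs i : GL (Fin k) F) : Matrix (Fin k) (Fin k) F)) := Iff.rfl

/-- the factor permutation as a unit -/
def fpermGL26 (k t : ℕ) (F : Type*) [Field F] (σ : Equiv.Perm (Fin t)) : GL (Fin t → Fin k) F :=
  ⟨fperm k t σ, fperm k t σ⁻¹, wr_fperm_mul_inv k t σ, wr_fperm_inv_mul k t σ⟩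

lemma fpermGL26_val (σ : Equiv.Perm (Fin t)) :
    ((fpermGL26 k t F σ : GL (Fin t → Fin k) F) : Matrix (Fin t → Fin k) (Fin t → Fin k) F) = fperm k t σ := rfl

lemma fpermGL26_inv_val (σ : Equiv.Perm (Fin t)) :
    (((fpermGL26 k t F σ)⁻¹ : GL (Fin t → Fin k) F) : Matrix (Fin t → Fin k) (Fin t → Fin k) F) = fperm k t σ⁻¹ := rfl

/-- factor permutations normalise the pure tensors -/
lemma fpermGL26_conj_mem (σ : Equiv.Perm (Fin t)) (a : GL (Fin t → Fin k) F) (ha : a ∈ pureSub26 k t F) :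
    fpermGL26 k t F σ * a * (fpermGL26 k t F σ)⁻¹ ∈ pureSub26 k t F := by
  obtain ⟨as, ha⟩ := ha
  refine ⟨fun j => as (σ⁻¹ j), ?_⟩
  rw [Units.val_mul, Units.val_mul, fpermGL26_val, fpermGL26_inv_val, ha,
    Cfsg.Agent.Lib.Helper12.TWLeaf.fperm_conj_ptens]

lemma perm_fin_two26 : ∀ σ : Equiv.Perm (Fin 2), σ = 1 ∨ σ = Equiv.swap 0 1 := by decide

/-- for two factors every element of the tensor-wreath group is pure or (swap) · pure -/
lemma tw_two_cases26 (g : GL (Fin 2 → Fin k) F) (hg : g ∈ tensorWreathStandard k 2 F) :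
    g ∈ pureSub26 k 2 F ∨ ∃ a ∈ pureSub26 k 2 F, g = fpermGL26 k 2 F (Equiv.swap 0 1) * a := by
  obtain ⟨σ, gs, hgs⟩ := Cfsg.Agent.Lib.Helper6.TWQ.exists_fperm_ptens g hg
  rcases perm_fin_two26 σ with rfl | rfl
  · left
    refine ⟨gs, ?_⟩
    rw [hgs, wr_fperm_one, one_mul]
  · right
    -- `a := s⁻¹ g`
    refine ⟨(fpermGL26 k 2 F (Equiv.swap 0 1))⁻¹ * g, ⟨gs, ?_⟩, by group⟩
    rw [Units.val_mul, fpermGL26_inv_val, hgs, ← mul_assoc, wr_fperm_inv_mul, one_mul]

/-- for two factors the pure tensors contain the commutator subgroup of the tensor-wreath group -/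
theorem commutator_tw_two_le26 :
    ⁅tensorWreathStandard k 2 F, tensorWreathStandard k 2 F⁆ ≤ pureSub26 k 2 F := by
  rw [Subgroup.commutator_le]
  intro g hg h hh
  rw [commutatorElement_def]
  refine comm_mem_of_half26 (pureSub26 k 2 F) (fpermGL26 k 2 F (Equiv.swap 0 1))
    (fun a ha => fpermGL26_conj_mem _ a ha) ?_ g h (tw_two_cases26 g hg) (tw_two_cases26 h hh)
  have : fpermGL26 k 2 F (Equiv.swap 0 1) * fpermGL26 k 2 F (Equiv.swap 0 1) = 1 := by
    apply Units.ext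
    rw [Units.val_mul, fpermGL26_val, wr_fperm_mul, Equiv.swap_mul_self, wr_fperm_one, Units.val_one]
  rw [this]
  exact Subgroup.one_mem _

end pure

section transport
variable {F : Type*} [Field F] [Fintype F] {ι : Type} [Fintype ι] [DecidableEq ι] {k : ℕ}

/-- the two-factor pure tensors, transported, lie in the tensor product subgroup `k ⊗ k` -/
theorem pure_two_le_tensor26 (e : ι ≃ (Fin 2 → Fin k)) (P : GL ι F) :
    ((pureSub26 k 2 F).map (glReindex e.symm).toMonoidHom).map (MulAut.conj P).toMonoidHom ≤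
      tensorProductSubgroup k k (e.trans (piFinTwoEquiv (fun _ => Fin k))) P := by
  unfold tensorProductSubgroup
  apply Subgroup.map_mono
  rintro x ⟨g, ⟨gs, hgs⟩, rfl⟩
  refine ⟨glReindex (piFinTwoEquiv (fun _ => Fin k)) g, ⟨gs 0, gs 1, ?_⟩, ?_⟩
  · ext p p'
    change (g : Matrix (Fin 2 → Fin k) (Fin 2 → Fin k) F) ((piFinTwoEquiv (fun _ => Fin k)).symm p)
      ((piFinTwoEquiv (fun _ => Fin k)).symm p') = _
    rw [hgs, ptens_apply, Fin.prod_univ_two, Matrix.kroneckerMap_apply]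
    rfl
  · apply Units.ext
    ext i j
    change (g : Matrix (Fin 2 → Fin k) (Fin 2 → Fin k) F)
      ((piFinTwoEquiv (fun _ => Fin k)).symm ((e.trans (piFinTwoEquiv (fun _ => Fin k))) i))
      ((piFinTwoEquiv (fun _ => Fin k)).symm ((e.trans (piFinTwoEquiv (fun _ => Fin k))) j)) =
      (g : Matrix (Fin 2 → Fin k) (Fin 2 → Fin k) F) (e i) (e j)
    rw [Equiv.trans_apply, Equiv.symm_apply_apply, Equiv.trans_apply, Equiv.symm_apply_apply]

/-- GENERIC: a perfect subgroup of a two-factor tensor-wreath subgroup lies in the tensor product subgroup `k ⊗ k` -/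
theorem tensorWreath_two_le_tensor26 {G : Subgroup (GL ι F)} (hperf : ⁅G, G⁆ = G) (e : ι ≃ (Fin 2 → Fin k))
    (P : GL ι F) (hle : G ≤ tensorWreathSubgroup k 2 e P) :
    G ≤ tensorProductSubgroup k k (e.trans (piFinTwoEquiv (fun _ => Fin k))) P := by
  refine le_trans ?_ (pure_two_le_tensor26 e P)
  rw [← hperf]
  refine le_trans (Subgroup.commutator_mono hle hle) ?_
  unfold tensorWreathSubgroup
  rw [← Subgroup.map_commutator, ← Subgroup.map_commutator]
  exact Subgroup.map_mono (Subgroup.map_mono commutator_tw_two_le26)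

end transport

section su
variable {n : ℕ} {F : Type*} [Field F] [Fintype F] {q : ℕ}

/-- P7 (two factors; exact signature of `notes/SUnMax_leaves.lean`) -/
theorem not_su_le_tensorWreath_two (hF : Fintype.card F = q ^ 2) (hn : 3 ≤ n) (h32 : ¬ (n = 3 ∧ q = 2)) {k : ℕ}
    (e : Fin n ≃ (Fin 2 → Fin k)) (P : GL (Fin n) F) (hk : 2 ≤ k) :
    ¬ SUg n F q ≤ tensorWreathSubgroup k 2 e P := by
  intro hle
  exact not_su_le_tensor hF (by omega) _ P hk hk
    (tensorWreath_two_le_tensor26 (Cfsg.Agent.Lib.Helper4.SUMLeaf.su_perfect hF hn h32) e P hle)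

end su

end Cfsg.Agent.Lib.Helper26.SUMLeaf
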