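/-
helper26: Siegel transvection groups of a quadratic form with nondegenerate polar form, part A:
the group `fixS p r` of isometries fixing every vector orthogonal to `p` and `r`, vectors with
prescribed polar values, and the parametrisation `fixS p r = {siegG p r c}` for a singular line.
-/
import Cfsg.Agent.Lib.Helper25.Siegel
import Cfsg.Agent.Lib.Helper25.RootSet

set_option autoImplicit false
set_option linter.unusedSectionVars false

namespace Cfsg.Agent.Lib.Helper26.Sieg

open Module QuadraticMap Matrix Cfsg.Agent.Lib.Helper25.CD Cfsg.Agent.Lib.Helper25.Siegel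

section linalg

variable {F : Type*} [Field F] {V : Type*} [AddCommGroup V] [Module F V]

/-- a linear functional with prescribed values on a linearly independent family. -/
theorem exists_dual_eq {κ : Type*} (w : κ → V) (hw : LinearIndependent F w) (c : κ → F) :
    ∃ f : V →ₗ[F] F, ∀ i, f (w i) = c i := by
  obtain ⟨g, hg⟩ := LinearMap.exists_extend ((Module.Basis.span hw).constr F c)
  refine ⟨g, fun i => ?_⟩
  have h1 : g (w i) = (g.comp (Submodule.subtype _)) (Module.Basis.span hw i) := by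
    rw [LinearMap.comp_apply, Submodule.subtype_apply, Module.Basis.span_apply]
  rw [h1, hg, Module.Basis.constr_basis]

theorem linIndep_three {x y z : V}
    (h : ∀ a b c : F, a • x + b • y + c • z = 0 → a = 0 ∧ b = 0 ∧ c = 0) :
    LinearIndependent F ![x, y, z] := by
  rw [Fintype.linearIndependent_iff]
  intro g hg
  rw [Fin.sum_univ_three] at hg
  obtain ⟨h0, h1, h2⟩ := h (g 0) (g 1) (g 2) (by simpa [add_assoc] using hg)
  intro i
  fin_cases i
  · exact h0
  · exact h1
  · exact h2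

theorem linIndep_four {x y z t : V}
    (h : ∀ a b c d : F, a • x + b • y + c • z + d • t = 0 → a = 0 ∧ b = 0 ∧ c = 0 ∧ d = 0) :
    LinearIndependent F ![x, y, z, t] := by
  rw [Fintype.linearIndependent_iff]
  intro g hg
  rw [Fin.sum_univ_four] at hg
  obtain ⟨h0, h1, h2, h3⟩ := h (g 0) (g 1) (g 2) (g 3) (by simpa [add_assoc] using hg)
  intro i
  fin_cases i
  · exact h0
  · exact h1
  · exact h2
  · exact h3

theorem linIndep_two {x y : V}
    (h : ∀ a b : F, a • x + b • y = 0 → a = 0 ∧ b = 0) :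
    LinearIndependent F ![x, y] := by
  rw [LinearIndependent.pair_iff]
  exact h

end linalg

section general

variable {F : Type*} [Field F] {V : Type*} [AddCommGroup V] [Module F V] [FiniteDimensional F V]
  (Q : QuadraticForm F V)

/-- vectors with prescribed polar values against a linearly independent family. -/
theorem exists_polar_eq (hQ : (polarBilin Q).Nondegenerate) {κ : Type*} (w : κ → V)
    (hw : LinearIndependent F w) (c : κ → F) : ∃ y : V, ∀ i, polar Q y (w i) = c i := by
  obtain ⟨f, hf⟩ := exists_dual_eq w hw c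
  refine ⟨(LinearMap.BilinForm.toDual (polarBilin Q) hQ).symm f, fun i => ?_⟩
  rw [← polarBilin_apply_apply, LinearMap.BilinForm.apply_toDual_symm_apply, hf]

end general

section matrix

variable {ι : Type} [Fintype ι] [DecidableEq ι] {F : Type*} [Field F]
  (Q : QuadraticForm F (ι → F))

/-- A singular line: two linearly independent singular vectors orthogonal to each other. -/
structure IsSL (p r : ι → F) : Prop where
  indep : LinearIndependent F ![p, r]
  qp : Q p = 0
  qr : Q r = 0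
  pr : polar Q p r = 0

/-- The isometries fixing every vector orthogonal to `p` and `r`. -/
def fixS (p r : ι → F) : Subgroup ↥(Cfsg.isometryGroup F ⇑Q) where
  carrier := {σ | ∀ x : ι → F, polar Q x p = 0 → polar Q x r = 0 → toOG Q σ x = x}
  mul_mem' := by
    intro a b ha hb x h1 h2
    rw [map_mul, LinearEquiv.mul_apply, hb x h1 h2, ha x h1 h2]
  one_mem' := by
    intro x _ _
    rw [map_one]
    rfl
  inv_mem' := by
    intro a ha x h1 h2
    have h3 := ha x h1 h2
    rw [map_inv]
    conv_lhs => rw [← h3]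
    exact inv_apply_self' _ _

theorem mem_fixS {p r : ι → F} {σ : ↥(Cfsg.isometryGroup F ⇑Q)} :
    σ ∈ fixS Q p r ↔ ∀ x : ι → F, polar Q x p = 0 → polar Q x r = 0 → toOG Q σ x = x := Iff.rfl

/-- The generating set of the statement generates `fixS`. -/
theorem closure_eq_fixS (p r : ι → F) :
    Subgroup.closure {σ : ↥(Cfsg.isometryGroup F ⇑Q) | ∀ v : ι → F,
      Q (v + p) - Q v - Q p = 0 → Q (v + r) - Q v - Q r = 0 →
        ((σ : Matrix.GeneralLinearGroup ι F) : Matrix ι ι F) *ᵥ v = v} = fixS Q p r :=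
  Subgroup.closure_eq (fixS Q p r)

theorem fixS_le_of_perp {p r p' r' : ι → F}
    (h : ∀ x : ι → F, polar Q x p' = 0 → polar Q x r' = 0 → polar Q x p = 0 ∧ polar Q x r = 0) :
    fixS Q p r ≤ fixS Q p' r' := by
  intro σ hσ x h1 h2
  exact hσ x (h x h1 h2).1 (h x h1 h2).2

theorem fixS_swap (p r : ι → F) : fixS Q p r = fixS Q r p :=
  le_antisymm (fixS_le_of_perp Q fun _ h1 h2 => ⟨h2, h1⟩) (fixS_le_of_perp Q fun _ h1 h2 => ⟨h2, h1⟩)

theorem siegG_mem_fixS (p r : ι → F) (c : F) (hp : Q p = 0) (hr : Q r = 0)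
    (hpr : polar Q p r = 0) : siegG Q p r c hp hr hpr ∈ fixS Q p r := by
  intro x h1 h2
  rw [toOG_siegG]
  unfold siegF
  rw [polar_comm Q p x, polar_comm Q r x, h1, h2, zero_smul, zero_smul, sub_zero, smul_zero,
    add_zero]

theorem siegG_mul (p r : ι → F) (c d : F) (hp : Q p = 0) (hr : Q r = 0)
    (hpr : polar Q p r = 0) :
    siegG Q p r c hp hr hpr * siegG Q p r d hp hr hpr = siegG Q p r (c + d) hp hr hpr := by
  apply toOG_injective
  ext1 x
  rw [map_mul, LinearEquiv.mul_apply, toOG_siegG, toOG_siegG, toOG_siegG, siegF_siegF Q hp hr hpr]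

theorem siegG_zero (p r : ι → F) (hp : Q p = 0) (hr : Q r = 0) (hpr : polar Q p r = 0) :
    siegG Q p r 0 hp hr hpr = 1 := by
  apply toOG_injective
  ext1 x
  rw [toOG_siegG, siegF_zero, map_one]
  rfl

theorem siegG_inv (p r : ι → F) (c : F) (hp : Q p = 0) (hr : Q r = 0) (hpr : polar Q p r = 0) :
    (siegG Q p r c hp hr hpr)⁻¹ = siegG Q p r (-c) hp hr hpr := by
  rw [inv_eq_iff_mul_eq_one, siegG_mul, add_neg_cancel, siegG_zero]

/-- decomposition of a vector along dual vectors of `p`, `r`. -/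
theorem perp_decomp {p r ps rs : ι → F} (h1 : polar Q ps p = 1) (h2 : polar Q ps r = 0)
    (h3 : polar Q rs p = 0) (h4 : polar Q rs r = 1) (x : ι → F) :
    polar Q (x - polar Q x p • ps - polar Q x r • rs) p = 0 ∧
      polar Q (x - polar Q x p • ps - polar Q x r • rs) r = 0 := by
  constructor
  · rw [polar_sub_left, polar_sub_left, polar_smul_left, polar_smul_left, h1, h3]
    simp
  · rw [polar_sub_left, polar_sub_left, polar_smul_left, polar_smul_left, h2, h4]
    simp

/-- `(ℓ^⊥)^⊥ = ℓ`, with explicit coefficients. -/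
theorem perp_perp (hQ : (polarBilin Q).Nondegenerate) {p r ps rs : ι → F}
    (h1 : polar Q ps p = 1) (h2 : polar Q ps r = 0)
    (h3 : polar Q rs p = 0) (h4 : polar Q rs r = 1) {z : ι → F}
    (hz : ∀ y : ι → F, polar Q y p = 0 → polar Q y r = 0 → polar Q z y = 0) :
    z = polar Q ps z • p + polar Q rs z • r := by
  rw [← sub_eq_zero]
  apply hQ.1
  intro x
  rw [polarBilin_apply_apply]
  obtain ⟨e1, e2⟩ := perp_decomp Q h1 h2 h3 h4 x
  have hy := hz _ e1 e2
  obtain ⟨a, ha⟩ : ∃ a, a = polar Q x p := ⟨_, rfl⟩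
  obtain ⟨b, hb⟩ : ∃ b, b = polar Q x r := ⟨_, rfl⟩
  rw [← ha, ← hb] at e1 e2 hy
  obtain ⟨y, hy'⟩ : ∃ y, y = x - a • ps - b • rs := ⟨_, rfl⟩
  rw [← hy'] at e1 e2 hy
  have hx : x = y + a • ps + b • rs := by rw [hy']; abel
  rw [polar_comm Q _ p] at e1
  rw [polar_comm Q _ r] at e2
  rw [hx]
  simp only [polar_add_right, polar_sub_left, polar_add_left, polar_smul_left, polar_smul_right,
    smul_eq_mul, hy, e1, e2, polar_comm Q p ps, polar_comm Q r ps, polar_comm Q p rs,
    polar_comm Q r rs, h1, h2, h3, h4, polar_comm Q z ps, polar_comm Q z rs]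
  ring

theorem exists_dual_pair (hQ : (polarBilin Q).Nondegenerate) {p r : ι → F}
    (h : LinearIndependent F ![p, r]) :
    ∃ ps rs : ι → F, polar Q ps p = 1 ∧ polar Q ps r = 0 ∧ polar Q rs p = 0 ∧ polar Q rs r = 1 := by
  obtain ⟨ps, hps⟩ := exists_polar_eq Q hQ ![p, r] h ![1, 0]
  obtain ⟨rs, hrs⟩ := exists_polar_eq Q hQ ![p, r] h ![0, 1]
  exact ⟨ps, rs, hps 0, hps 1, hrs 0, hrs 1⟩

theorem Q_line {p r : ι → F} (h : IsSL Q p r) (s t : F) : Q (s • p + t • r) = 0 := by
  rw [Cfsg.Agent.Lib.Helper25.ReflClass.Q_lin, h.qp, h.qr, h.pr]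
  ring

/-- The elements of `fixS p r` for a singular line are the Siegel transformations. -/
theorem exists_eq_siegG (hQ : (polarBilin Q).Nondegenerate) {p r : ι → F} (h : IsSL Q p r)
    {σ : ↥(Cfsg.isometryGroup F ⇑Q)} (hσ : σ ∈ fixS Q p r) :
    ∃ c : F, σ = siegG Q p r c h.qp h.qr h.pr := by
  obtain ⟨ps, rs, h1, h2, h3, h4⟩ := exists_dual_pair Q hQ h.indep
  have hg : ∀ x, Q (toOG Q σ x) = Q x := toOG_mem_OG Q σ
  have hpol := polar_of_iso Q hg
  obtain ⟨g, hgdef⟩ : ∃ g, g = toOG Q σ := ⟨_, rfl⟩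
  rw [← hgdef] at hg hpol
  have hfix : ∀ y : ι → F, polar Q y p = 0 → polar Q y r = 0 → g y = y := by
    intro y hy1 hy2
    rw [hgdef]
    exact hσ y hy1 hy2
  have key1 : ∀ x, g x = x + polar Q x p • (g ps - ps) + polar Q x r • (g rs - rs) := by
    intro x
    obtain ⟨e1, e2⟩ := perp_decomp Q h1 h2 h3 h4 x
    have h5 := hfix _ e1 e2
    rw [map_sub, map_sub, map_smul, map_smul] at h5
    have e : g x = (g x - polar Q x p • g ps - polar Q x r • g rs) + polar Q x p • g ps +
        polar Q x r • g rs := by abel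
    rw [e, h5]
    module
  have hperp : ∀ x y : ι → F, polar Q y p = 0 → polar Q y r = 0 → polar Q (g x - x) y = 0 := by
    intro x y hy1 hy2
    have hy : g y = y := hfix y hy1 hy2
    have h5 := hpol x y
    rw [hy] at h5
    rw [polar_sub_left, h5, sub_self]
  have ha := perp_perp Q hQ h1 h2 h3 h4 (hperp ps)
  have hb := perp_perp Q hQ h1 h2 h3 h4 (hperp rs)
  obtain ⟨a1, ha1⟩ : ∃ a1, a1 = polar Q ps (g ps - ps) := ⟨_, rfl⟩
  obtain ⟨a2, ha2⟩ : ∃ a2, a2 = polar Q rs (g ps - ps) := ⟨_, rfl⟩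
  obtain ⟨b1, hb1⟩ : ∃ b1, b1 = polar Q ps (g rs - rs) := ⟨_, rfl⟩
  obtain ⟨b2, hb2⟩ : ∃ b2, b2 = polar Q rs (g rs - rs) := ⟨_, rfl⟩
  rw [← ha1, ← ha2] at ha
  rw [← hb1, ← hb2] at hb
  have ea : g ps = ps + (a1 • p + a2 • r) := by rw [← ha]; abel
  have eb : g rs = rs + (b1 • p + b2 • r) := by rw [← hb]; abel
  have c1 : a1 = 0 := by
    have h5 := hg ps
    rw [ea, QuadraticMap.map_add (⇑Q), Q_line Q h, polar_add_right, polar_smul_right,
      polar_smul_right, h1, h2] at h5
    simpa using h5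
  have c2 : b2 = 0 := by
    have h5 := hg rs
    rw [eb, QuadraticMap.map_add (⇑Q), Q_line Q h, polar_add_right, polar_smul_right,
      polar_smul_right, h3, h4] at h5
    simpa using h5
  have c3 : b1 = -a2 := by
    have h5 := hg (ps + rs)
    have e : g (ps + rs) = (ps + rs) + ((a1 + b1) • p + (a2 + b2) • r) := by
      rw [map_add, ea, eb]
      module
    rw [e, QuadraticMap.map_add (⇑Q), Q_line Q h, polar_add_right, polar_smul_right,
      polar_smul_right, polar_add_left, polar_add_left, h1, h2, h3, h4, c1, c2] at h5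
    have h6 : b1 + a2 = 0 := by simpa using h5
    linear_combination h6
  refine ⟨a2, ?_⟩
  apply toOG_injective
  ext1 x
  rw [toOG_siegG, ← hgdef, key1 x, ha, hb, c1, c2, c3]
  unfold siegF
  rw [polar_comm Q p x, polar_comm Q r x]
  module

theorem mem_fixS_iff (hQ : (polarBilin Q).Nondegenerate) {p r : ι → F} (h : IsSL Q p r)
    {σ : ↥(Cfsg.isometryGroup F ⇑Q)} :
    σ ∈ fixS Q p r ↔ ∃ c : F, σ = siegG Q p r c h.qp h.qr h.pr := by
  constructor
  · exact exists_eq_siegG Q hQ h
  · rintro ⟨c, rfl⟩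
    exact siegG_mem_fixS Q p r c h.qp h.qr h.pr

end matrix

end Cfsg.Agent.Lib.Helper26.Sieg
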