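/-
helper26: Siegel transvection groups, part B: commutativity, non-triviality, conjugates,
change of basis of a singular line, and the commuting case.
-/
import Cfsg.Agent.Lib.Helper26.SiegA

set_option autoImplicit false
set_option linter.unusedSectionVars false

namespace Cfsg.Agent.Lib.Helper26.Sieg

open Module QuadraticMap Matrix Cfsg Cfsg.Agent.Lib.Helper25 Cfsg.Agent.Lib.Helper25.CD
  Cfsg.Agent.Lib.Helper25.Siegel

variable {ι : Type} [Fintype ι] [DecidableEq ι] {F : Type*} [Field F]
  (Q : QuadraticForm F (ι → F))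

variable {Q} in
theorem IsSL.ne_zero_left {p r : ι → F} (h : IsSL Q p r) : p ≠ 0 := h.indep.ne_zero 0

variable {Q} in
theorem IsSL.ne_zero_right {p r : ι → F} (h : IsSL Q p r) : r ≠ 0 := h.indep.ne_zero 1

variable {Q} in
theorem IsSL.swap {p r : ι → F} (h : IsSL Q p r) : IsSL Q r p := by
  refine ⟨?_, h.qr, h.qp, by rw [polar_comm]; exact h.pr⟩
  apply linIndep_two
  intro a b hab
  have := LinearIndependent.pair_iff.1 h.indep b a (by rw [add_comm]; exact hab)
  exact ⟨this.2, this.1⟩

variable {Q} in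
theorem IsSL.pp {p r : ι → F} (h : IsSL Q p r) : polar Q p p = 0 := by
  rw [polar_self'', h.qp, mul_zero]

variable {Q} in
theorem IsSL.rr {p r : ι → F} (h : IsSL Q p r) : polar Q r r = 0 := by
  rw [polar_self'', h.qr, mul_zero]

variable {Q} in
theorem IsSL.rp {p r : ι → F} (h : IsSL Q p r) : polar Q r p = 0 := by
  rw [polar_comm]; exact h.pr

theorem siegG_eq_one_iff (hQ : (polarBilin Q).Nondegenerate) {p r : ι → F} (h : IsSL Q p r)
    (c : F) : siegG Q p r c h.qp h.qr h.pr = 1 ↔ c = 0 := by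
  constructor
  · intro hc
    obtain ⟨ps, rs, h1, h2, h3, h4⟩ := exists_dual_pair Q hQ h.indep
    have h5 : toOG Q (siegG Q p r c h.qp h.qr h.pr) ps = ps := by rw [hc, map_one]; rfl
    rw [toOG_siegG] at h5
    unfold siegF at h5
    rw [polar_comm Q p ps, polar_comm Q r ps, h1, h2, zero_smul, sub_zero, one_smul,
      add_eq_left, smul_eq_zero] at h5
    exact h5.resolve_right h.ne_zero_right
  · rintro rfl
    exact siegG_zero Q p r h.qp h.qr h.pr

theorem siegG_injective (hQ : (polarBilin Q).Nondegenerate) {p r : ι → F} (h : IsSL Q p r)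
    {c d : F} (hcd : siegG Q p r c h.qp h.qr h.pr = siegG Q p r d h.qp h.qr h.pr) : c = d := by
  have h1 : siegG Q p r (c + -d) h.qp h.qr h.pr = 1 := by
    rw [← siegG_mul, ← siegG_inv, hcd, mul_inv_cancel]
  have := (siegG_eq_one_iff Q hQ h _).1 h1
  linear_combination this

theorem fixS_comm (hQ : (polarBilin Q).Nondegenerate) {p r : ι → F} (h : IsSL Q p r) :
    IsMulCommutative (fixS Q p r) := by
  rw [isMulCommutative_iff]
  rintro ⟨a, ha⟩ ⟨b, hb⟩
  apply Subtype.ext
  obtain ⟨c, rfl⟩ := exists_eq_siegG Q hQ h ha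
  obtain ⟨d, rfl⟩ := exists_eq_siegG Q hQ h hb
  show siegG Q p r c h.qp h.qr h.pr * siegG Q p r d h.qp h.qr h.pr =
    siegG Q p r d h.qp h.qr h.pr * siegG Q p r c h.qp h.qr h.pr
  rw [siegG_mul, siegG_mul, add_comm]

theorem fixS_ne_bot (hQ : (polarBilin Q).Nondegenerate) {p r : ι → F} (h : IsSL Q p r) :
    fixS Q p r ≠ ⊥ := by
  intro hbot
  have h1 : siegG Q p r 1 h.qp h.qr h.pr ∈ fixS Q p r := siegG_mem_fixS Q p r 1 h.qp h.qr h.pr
  rw [hbot, Subgroup.mem_bot, siegG_eq_one_iff Q hQ h] at h1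
  exact one_ne_zero h1

variable {Q} in
/-- the image of a singular line under an isometry. -/
theorem IsSL.map {p r : ι → F} (h : IsSL Q p r) (g : ↥(Cfsg.isometryGroup F ⇑Q)) :
    IsSL Q (toOG Q g p) (toOG Q g r) := by
  have hg : ∀ x, Q (toOG Q g x) = Q x := toOG_mem_OG Q g
  refine ⟨?_, by rw [hg, h.qp], by rw [hg, h.qr], by rw [polar_of_iso Q hg, h.pr]⟩
  apply linIndep_two
  intro a b hab
  rw [← map_smul, ← map_smul, ← map_add] at hab
  have h0 : a • p + b • r = 0 := (toOG Q g).injective (hab.trans (map_zero _).symm)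
  exact LinearIndependent.pair_iff.1 h.indep a b h0

theorem conj_mem_fixS {p r : ι → F} (g : ↥(Cfsg.isometryGroup F ⇑Q))
    {σ : ↥(Cfsg.isometryGroup F ⇑Q)} (hσ : σ ∈ fixS Q p r) :
    g * σ * g⁻¹ ∈ fixS Q (toOG Q g p) (toOG Q g r) := by
  have hg : ∀ x, Q (toOG Q g x) = Q x := toOG_mem_OG Q g
  intro x h1 h2
  have e1 : polar Q ((toOG Q g)⁻¹ x) p = 0 := by
    have := polar_of_iso Q hg ((toOG Q g)⁻¹ x) p
    rw [apply_inv_self'] at this
    rw [← this, h1]
  have e2 : polar Q ((toOG Q g)⁻¹ x) r = 0 := by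
    have := polar_of_iso Q hg ((toOG Q g)⁻¹ x) r
    rw [apply_inv_self'] at this
    rw [← this, h2]
  rw [map_mul, map_mul, map_inv, LinearEquiv.mul_apply, LinearEquiv.mul_apply, hσ _ e1 e2,
    apply_inv_self']

theorem conjBy_fixS (p r : ι → F) (g : ↥(Cfsg.isometryGroup F ⇑Q)) :
    conjBy (fixS Q p r) g = fixS Q (toOG Q g p) (toOG Q g r) := by
  apply le_antisymm
  · rintro _ ⟨σ, hσ, rfl⟩
    exact conj_mem_fixS Q g hσ
  · intro τ hτ
    rw [mem_conjBy]
    have := conj_mem_fixS Q g⁻¹ hτ
    rwa [map_inv, inv_apply_self', inv_apply_self', inv_inv] at this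

variable {Q} in
/-- change of basis of a singular line. -/
theorem IsSL.change {p r : ι → F} (h : IsSL Q p r) {a b c d : F} (hdet : a * d - b * c ≠ 0) :
    IsSL Q (a • p + b • r) (c • p + d • r) := by
  refine ⟨?_, Q_line Q h a b, Q_line Q h c d, ?_⟩
  · apply linIndep_two
    intro s t hst
    have e : s • (a • p + b • r) + t • (c • p + d • r) = (s * a + t * c) • p + (s * b + t * d) • r := by
      module
    rw [e] at hst
    obtain ⟨h1, h2⟩ := LinearIndependent.pair_iff.1 h.indep _ _ hst
    constructor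
    · have : s * (a * d - b * c) = 0 := by linear_combination d * h1 - c * h2
      exact (mul_eq_zero.1 this).resolve_right hdet
    · have : t * (a * d - b * c) = 0 := by linear_combination a * h2 - b * h1
      exact (mul_eq_zero.1 this).resolve_right hdet
  · simp only [polar_add_left, polar_add_right, polar_smul_left, polar_smul_right, h.pp, h.rr,
      h.pr, h.rp, smul_eq_mul]
    ring

theorem fixS_change {p r : ι → F} {a b c d : F} (hdet : a * d - b * c ≠ 0) :
    fixS Q (a • p + b • r) (c • p + d • r) = fixS Q p r := by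
  apply le_antisymm
  · apply fixS_le_of_perp
    intro x h1 h2
    simp only [polar_add_right, polar_smul_right, h1, h2, smul_eq_mul, mul_zero, add_zero,
      and_self]
  · apply fixS_le_of_perp
    intro x h1 h2
    simp only [polar_add_right, polar_smul_right, smul_eq_mul] at h1 h2
    constructor
    · have : (a * d - b * c) * polar Q x p = 0 := by linear_combination d * h1 - b * h2
      exact (mul_eq_zero.1 this).resolve_left hdet
    · have : (a * d - b * c) * polar Q x r = 0 := by linear_combination a * h2 - c * h1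
      exact (mul_eq_zero.1 this).resolve_left hdet

/-- the commuting case: two singular lines orthogonal to each other. -/
theorem siegG_comm_of_perp {u v u' v' : ι → F} (hu : Q u = 0) (hv : Q v = 0)
    (huv : polar Q u v = 0) (hu' : Q u' = 0) (hv' : Q v' = 0) (huv' : polar Q u' v' = 0)
    (h1 : polar Q u u' = 0) (h2 : polar Q u v' = 0) (h3 : polar Q v u' = 0)
    (h4 : polar Q v v' = 0) (c d : F) :
    siegG Q u v c hu hv huv * siegG Q u' v' d hu' hv' huv' =
      siegG Q u' v' d hu' hv' huv' * siegG Q u v c hu hv huv := by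
  apply toOG_injective
  ext1 x
  rw [map_mul, map_mul, LinearEquiv.mul_apply, LinearEquiv.mul_apply, toOG_siegG, toOG_siegG,
    toOG_siegG, toOG_siegG]
  unfold siegF
  simp only [polar_add_right, polar_sub_right, polar_smul_right, h1, h2, h3, h4,
    polar_comm Q u' u, polar_comm Q v' u, polar_comm Q u' v, polar_comm Q v' v, smul_eq_mul,
    mul_zero, sub_zero, add_zero]
  abel

theorem commutator_fixS_eq_bot (hQ : (polarBilin Q).Nondegenerate) {u v u' v' : ι → F}
    (h : IsSL Q u v) (h' : IsSL Q u' v')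
    (h1 : polar Q u u' = 0) (h2 : polar Q u v' = 0) (h3 : polar Q v u' = 0)
    (h4 : polar Q v v' = 0) : ⁅fixS Q u v, fixS Q u' v'⁆ = ⊥ := by
  rw [commutator_eq_bot_iff_commute]
  intro a ha b hb
  obtain ⟨c, rfl⟩ := exists_eq_siegG Q hQ h ha
  obtain ⟨d, rfl⟩ := exists_eq_siegG Q hQ h' hb
  exact siegG_comm_of_perp Q _ _ _ _ _ _ h1 h2 h3 h4 c d

end Cfsg.Agent.Lib.Helper26.Sieg
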