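/-
helper26: Siegel transvection groups, part C: the commutator case (Gram matrix of rank one).
-/
import Cfsg.Agent.Lib.Helper26.SiegB

set_option autoImplicit false
set_option linter.unusedSectionVars false

namespace Cfsg.Agent.Lib.Helper26.Sieg

open Module QuadraticMap Matrix Cfsg Cfsg.Agent.Lib.Helper25 Cfsg.Agent.Lib.Helper25.CD
  Cfsg.Agent.Lib.Helper25.Siegel

variable {ι : Type} [Fintype ι] [DecidableEq ι] {F : Type*} [Field F]
  (Q : QuadraticForm F (ι → F))

/-- the commutator formula in the normal form of the rank one case. -/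
theorem siegG_mul_rank_one {u v u' v' : ι → F} (hu : Q u = 0) (hv : Q v = 0)
    (huv : polar Q u v = 0) (hu' : Q u' = 0) (hv' : Q v' = 0) (huv' : polar Q u' v' = 0)
    (h1 : polar Q u u' = 0) (h2 : polar Q u v' = 0) (h3 : polar Q v u' = 0) (c d : F) :
    siegG Q u v c hu hv huv * siegG Q u' v' d hu' hv' huv' =
      siegG Q u u' (c * d * polar Q v v') hu hu' h1 * siegG Q u' v' d hu' hv' huv' *
        siegG Q u v c hu hv huv := by
  have huu : polar Q u u = 0 := by rw [polar_self'', hu, mul_zero]
  have huu' : polar Q u' u' = 0 := by rw [polar_self'', hu', mul_zero]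
  apply toOG_injective
  ext1 x
  rw [map_mul, map_mul, map_mul, LinearEquiv.mul_apply, LinearEquiv.mul_apply,
    LinearEquiv.mul_apply, toOG_siegG, toOG_siegG, toOG_siegG, toOG_siegG, toOG_siegG]
  unfold siegF
  simp only [polar_add_right, polar_sub_right, polar_smul_right, h1, h2, h3, huv, huv', huu, huu',
    polar_comm Q u' u, polar_comm Q v' u, polar_comm Q u' v, polar_comm Q v' v,
    smul_eq_mul, mul_zero, sub_zero, add_zero, sub_self]
  module

theorem siegG_commutator_rank_one {u v u' v' : ι → F} (hu : Q u = 0) (hv : Q v = 0)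
    (huv : polar Q u v = 0) (hu' : Q u' = 0) (hv' : Q v' = 0) (huv' : polar Q u' v' = 0)
    (h1 : polar Q u u' = 0) (h2 : polar Q u v' = 0) (h3 : polar Q v u' = 0) (c d : F) :
    siegG Q u v c hu hv huv * siegG Q u' v' d hu' hv' huv' * (siegG Q u v c hu hv huv)⁻¹ *
      (siegG Q u' v' d hu' hv' huv')⁻¹ = siegG Q u u' (c * d * polar Q v v') hu hu' h1 := by
  rw [siegG_mul_rank_one Q hu hv huv hu' hv' huv' h1 h2 h3]
  group

theorem siegG_dep_eq_one {u : ι → F} (hu : Q u = 0) (a t : F) (hu' : Q (a • u) = 0)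
    (h1 : polar Q u (a • u) = 0) : siegG Q u (a • u) t hu hu' h1 = 1 := by
  apply toOG_injective
  ext1 x
  rw [toOG_siegG, map_one]
  unfold siegF
  rw [polar_smul_left, smul_eq_mul, LinearEquiv.coe_one, id_eq, add_eq_left]
  module

variable {Q}

/-- the rank one case in normal form: either the groups commute or they are in the commutator
case. -/
theorem rank_one_normal (hQ : (polarBilin Q).Nondegenerate) {u v u' v' : ι → F}
    (h : IsSL Q u v) (h' : IsSL Q u' v')
    (h1 : polar Q u u' = 0) (h2 : polar Q u v' = 0) (h3 : polar Q v u' = 0)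
    (h4 : polar Q v v' ≠ 0) (S : Set (Subgroup ↥(Cfsg.isometryGroup F ⇑Q)))
    (hS : ∀ p r : ι → F, IsSL Q p r → fixS Q p r ∈ S) :
    ⁅fixS Q u v, fixS Q u' v'⁆ = ⊥ ∨ RootCommutatorCase S (fixS Q u v) (fixS Q u' v') := by
  by_cases hind : LinearIndependent F ![u, u']
  · right
    have hl : IsSL Q u u' := ⟨hind, h.qp, h'.qp, h1⟩
    have hcomm : ⁅fixS Q u v, fixS Q u' v'⁆ = fixS Q u u' := by
      apply le_antisymm
      · rw [Subgroup.commutator_le]
        intro a ha b hb
        obtain ⟨c, rfl⟩ := exists_eq_siegG Q hQ h ha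
        obtain ⟨d, rfl⟩ := exists_eq_siegG Q hQ h' hb
        rw [commutatorElement_def, siegG_commutator_rank_one Q h.qp h.qr h.pr h'.qp h'.qr h'.pr
          h1 h2 h3]
        exact siegG_mem_fixS Q _ _ _ _ _ _
      · intro σ hσ
        obtain ⟨t, rfl⟩ := exists_eq_siegG Q hQ hl hσ
        have e := siegG_commutator_rank_one Q h.qp h.qr h.pr h'.qp h'.qr h'.pr h1 h2 h3 1
          (t / polar Q v v')
        have e2 : 1 * (t / polar Q v v') * polar Q v v' = t := by field_simp
        have hmem := Subgroup.commutator_mem_commutator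
          (siegG_mem_fixS Q u v 1 h.qp h.qr h.pr)
          (siegG_mem_fixS Q u' v' (t / polar Q v v') h'.qp h'.qr h'.pr)
        rw [commutatorElement_def, e] at hmem
        convert hmem using 2
        exact e2.symm
    refine ⟨?_, ?_, ?_, ?_⟩
    · rw [hcomm]
      exact hS _ _ hl
    · intro c hc x hx
      rw [hcomm] at hc
      obtain ⟨t, rfl⟩ := exists_eq_siegG Q hQ hl hc
      have hle : fixS Q u v ⊔ fixS Q u' v' ≤
          Subgroup.centralizer {siegG Q u u' t hl.qp hl.qr hl.pr} := by
        apply sup_le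
        · intro a ha
          obtain ⟨s, rfl⟩ := exists_eq_siegG Q hQ h ha
          rw [Subgroup.mem_centralizer_iff]
          intro m hm
          rw [Set.mem_singleton_iff] at hm
          subst hm
          exact siegG_comm_of_perp Q _ _ _ _ _ _ h.pp h.pr (by rw [polar_comm]; exact h1)
            (by rw [polar_comm]; exact h3) t s
        · intro b hb
          obtain ⟨s, rfl⟩ := exists_eq_siegG Q hQ h' hb
          rw [Subgroup.mem_centralizer_iff]
          intro m hm
          rw [Set.mem_singleton_iff] at hm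
          subst hm
          exact siegG_comm_of_perp Q _ _ _ _ _ _ h1 h2 h'.pp h'.pr t s
      have := hle hx
      rw [Subgroup.mem_centralizer_iff] at this
      exact this _ rfl
    · intro a ha ha1
      obtain ⟨c, rfl⟩ := exists_eq_siegG Q hQ h ha
      have hc : c ≠ 0 := fun e => ha1 ((siegG_eq_one_iff Q hQ h c).2 e)
      rw [hcomm]
      have himg : (fun b => siegG Q u v c h.qp h.qr h.pr * b * (siegG Q u v c h.qp h.qr h.pr)⁻¹ *
          b⁻¹) '' (fixS Q u' v' : Set ↥(Cfsg.isometryGroup F ⇑Q)) = (fixS Q u u' : Set _) := by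
        ext σ
        constructor
        · rintro ⟨b, hb, rfl⟩
          obtain ⟨d, rfl⟩ := exists_eq_siegG Q hQ h' hb
          beta_reduce
          rw [SetLike.mem_coe, siegG_commutator_rank_one Q h.qp h.qr h.pr h'.qp h'.qr h'.pr h1 h2 h3]
          exact siegG_mem_fixS Q _ _ _ _ _ _
        · intro hσ
          obtain ⟨t, rfl⟩ := exists_eq_siegG Q hQ hl hσ
          refine ⟨siegG Q u' v' (t / (c * polar Q v v')) h'.qp h'.qr h'.pr,
            siegG_mem_fixS Q _ _ _ _ _ _, ?_⟩
          beta_reduce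
          rw [siegG_commutator_rank_one Q h.qp h.qr h.pr h'.qp h'.qr h'.pr h1 h2 h3]
          congr 1
          field_simp
      rw [himg, Subgroup.closure_eq]
    · intro b hb hb1
      obtain ⟨d, rfl⟩ := exists_eq_siegG Q hQ h' hb
      have hd : d ≠ 0 := fun e => hb1 ((siegG_eq_one_iff Q hQ h' d).2 e)
      rw [hcomm]
      have himg : (fun a => a * siegG Q u' v' d h'.qp h'.qr h'.pr * a⁻¹ *
          (siegG Q u' v' d h'.qp h'.qr h'.pr)⁻¹) '' (fixS Q u v : Set ↥(Cfsg.isometryGroup F ⇑Q)) =
            (fixS Q u u' : Set _) := by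
        ext σ
        constructor
        · rintro ⟨a, ha, rfl⟩
          obtain ⟨c, rfl⟩ := exists_eq_siegG Q hQ h ha
          beta_reduce
          rw [SetLike.mem_coe, siegG_commutator_rank_one Q h.qp h.qr h.pr h'.qp h'.qr h'.pr h1 h2 h3]
          exact siegG_mem_fixS Q _ _ _ _ _ _
        · intro hσ
          obtain ⟨t, rfl⟩ := exists_eq_siegG Q hQ hl hσ
          refine ⟨siegG Q u v (t / (d * polar Q v v')) h.qp h.qr h.pr,
            siegG_mem_fixS Q _ _ _ _ _ _, ?_⟩
          beta_reduce
          rw [siegG_commutator_rank_one Q h.qp h.qr h.pr h'.qp h'.qr h'.pr h1 h2 h3]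
          congr 1
          field_simp
      rw [himg, Subgroup.closure_eq]
  · left
    rw [LinearIndependent.pair_iff' h.ne_zero_left] at hind
    push Not at hind
    obtain ⟨a, rfl⟩ := hind
    rw [commutator_eq_bot_iff_commute]
    intro x hx y hy
    obtain ⟨c, rfl⟩ := exists_eq_siegG Q hQ h hx
    obtain ⟨d, rfl⟩ := exists_eq_siegG Q hQ h' hy
    rw [siegG_mul_rank_one Q h.qp h.qr h.pr h'.qp h'.qr h'.pr h1 h2 h3, siegG_dep_eq_one, one_mul]

end Cfsg.Agent.Lib.Helper26.Sieg
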