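/-
helper26: Siegel transvection groups, part D: two opposite singular lines; the homomorphism from
`SL₂(F)` and the rank one pair.
-/
import Cfsg.Agent.Lib.Helper26.SiegC
import Cfsg.Agent.Lib.Helper25.SLRoot4
import Cfsg.Agent.Lib.Helper25.RootTransfer

set_option autoImplicit false
set_option linter.unusedSectionVars false

namespace Cfsg.Agent.Lib.Helper26.Sieg

open Module QuadraticMap Matrix Cfsg Cfsg.Agent.Lib.Helper25 Cfsg.Agent.Lib.Helper25.CD
  Cfsg.Agent.Lib.Helper25.Siegel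

section sl2

variable (F : Type*) [Field F]

/-- the unitriangular subgroups of `SL₂(F)` form a rank one pair. -/
theorem sl2_rankOnePair : IsRankOnePair (upperUnipotentSL2 F) (lowerUnipotentSL2 F) := by
  have hv : (![0, 1] : Fin 2 → F) ⬝ᵥ ![1, 0] = 0 := by simp
  have hw : (![1, 0] : Fin 2 → F) ⬝ᵥ ![0, 1] = 0 := by simp
  have h1 : (![0, 1] : Fin 2 → F) ⬝ᵥ ![0, 1] ≠ 0 := by simp
  have h2 : (![1, 0] : Fin 2 → F) ⬝ᵥ ![1, 0] ≠ 0 := by simp
  have h10 : (![1, 0] : Fin 2 → F) ≠ 0 := by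
    intro e
    have := congrFun e 0
    simp at this
  have h01 : (![0, 1] : Fin 2 → F) ≠ 0 := by
    intro e
    have := congrFun e 1
    simp at this
  have h := SLRoot.rankOnePair_of hv hw h10 h01 h01 h10 h1 h2
  rw [← SLRoot.emb_map_upper hv hw h1 h2, ← SLRoot.emb_map_lower hv hw h1 h2] at h
  exact rankOnePair_of_map_injective _ (SLRoot.embSL_injective _ _ _) h

end sl2

variable {ι : Type} [Fintype ι] [DecidableEq ι] {F : Type*} [Field F]
  (Q : QuadraticForm F (ι → F))

/-- two singular lines in opposite position, with dual bases. -/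
structure IsOpp (u v u' v' : ι → F) : Prop where
  hl : IsSL Q u v
  hl' : IsSL Q u' v'
  g11 : polar Q u u' = 1
  g12 : polar Q u v' = 0
  g21 : polar Q v u' = 0
  g22 : polar Q v v' = 1

/-- the action of the matrix `[[a, b], [c, d]]`. -/
noncomputable def phiL (u v u' v' : ι → F) (a b c d : F) : (ι → F) →ₗ[F] (ι → F) :=
  LinearMap.id + (polarBilin Q u').smulRight ((a - 1) • u + c • v') +
    (polarBilin Q u).smulRight ((d - 1) • u' - b • v) +
    (polarBilin Q v').smulRight ((a - 1) • v - c • u') +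
    (polarBilin Q v).smulRight (b • u + (d - 1) • v')

theorem phiL_apply (u v u' v' : ι → F) (a b c d : F) (x : ι → F) :
    phiL Q u v u' v' a b c d x = x + polar Q u' x • ((a - 1) • u + c • v') +
      polar Q u x • ((d - 1) • u' - b • v) + polar Q v' x • ((a - 1) • v - c • u') +
      polar Q v x • (b • u + (d - 1) • v') := by
  simp only [phiL, LinearMap.add_apply, LinearMap.id_coe, id_eq, LinearMap.smulRight_apply,
    polarBilin_apply_apply]

theorem phiL_one (u v u' v' : ι → F) : phiL Q u v u' v' 1 0 0 1 = 1 := by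
  apply LinearMap.ext
  intro x
  rw [phiL_apply]
  simp

variable {Q}

theorem phiL_comp {u v u' v' : ι → F} (h : IsOpp Q u v u' v') (a b c d a' b' c' d' : F)
    (x : ι → F) :
    phiL Q u v u' v' a b c d (phiL Q u v u' v' a' b' c' d' x) =
      phiL Q u v u' v' (a * a' + b * c') (a * b' + b * d') (c * a' + d * c') (c * b' + d * d')
        x := by
  have e1 : polar Q u' u = 1 := by rw [polar_comm]; exact h.g11
  have e2 : polar Q v' u = 0 := by rw [polar_comm]; exact h.g12
  have e3 : polar Q u' v = 0 := by rw [polar_comm]; exact h.g21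
  have e4 : polar Q v' v = 1 := by rw [polar_comm]; exact h.g22
  rw [phiL_apply, phiL_apply, phiL_apply]
  simp only [polar_add_right, polar_sub_right, polar_smul_right, h.g11, h.g12, h.g21, h.g22,
    e1, e2, e3, e4, h.hl.pp, h.hl.rr, h.hl.pr, h.hl.rp, h.hl'.pp, h.hl'.rr, h.hl'.pr, h.hl'.rp,
    smul_eq_mul, mul_zero, mul_one, sub_zero, add_zero, zero_add, zero_sub]
  module

/-- the monoid homomorphism to the endomorphism ring. -/
noncomputable def phiM {u v u' v' : ι → F} (h : IsOpp Q u v u' v') :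
    Matrix.SpecialLinearGroup (Fin 2) F →* Module.End F (ι → F) where
  toFun g := phiL Q u v u' v' (g.1 0 0) (g.1 0 1) (g.1 1 0) (g.1 1 1)
  map_one' := by
    show phiL Q u v u' v' ((1 : Matrix (Fin 2) (Fin 2) F) 0 0) ((1 : Matrix (Fin 2) (Fin 2) F) 0 1)
      ((1 : Matrix (Fin 2) (Fin 2) F) 1 0) ((1 : Matrix (Fin 2) (Fin 2) F) 1 1) = 1
    simp only [Matrix.one_apply_eq, ne_eq, zero_ne_one, not_false_eq_true, Matrix.one_apply_ne,
      one_ne_zero]
    exact phiL_one Q u v u' v'
  map_mul' g k := by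
    apply LinearMap.ext
    intro x
    rw [Module.End.mul_apply, phiL_comp h]
    show phiL Q u v u' v' ((g.1 * k.1) 0 0) ((g.1 * k.1) 0 1) ((g.1 * k.1) 1 0) ((g.1 * k.1) 1 1) x = _
    simp only [Matrix.mul_apply, Fin.sum_univ_two]

theorem phiM_apply {u v u' v' : ι → F} (h : IsOpp Q u v u' v')
    (g : Matrix.SpecialLinearGroup (Fin 2) F) (x : ι → F) :
    phiM h g x = phiL Q u v u' v' (g.1 0 0) (g.1 0 1) (g.1 1 0) (g.1 1 1) x := rfl

/-- the homomorphism to the linear automorphisms. -/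
noncomputable def phiE {u v u' v' : ι → F} (h : IsOpp Q u v u' v') :
    Matrix.SpecialLinearGroup (Fin 2) F →* ((ι → F) ≃ₗ[F] (ι → F)) :=
  (LinearMap.GeneralLinearGroup.generalLinearEquiv F (ι → F)).toMonoidHom.comp (phiM h).toHomUnits

theorem phiE_apply {u v u' v' : ι → F} (h : IsOpp Q u v u' v')
    (g : Matrix.SpecialLinearGroup (Fin 2) F) (x : ι → F) :
    phiE h g x = phiL Q u v u' v' (g.1 0 0) (g.1 0 1) (g.1 1 0) (g.1 1 1) x := rfl

theorem phiL_upper (u v u' v' : ι → F) (b : F) (x : ι → F) :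
    phiL Q u v u' v' 1 b 0 1 x = siegF Q u v (-b) x := by
  rw [phiL_apply]
  unfold siegF
  module

theorem phiL_lower (u v u' v' : ι → F) (c : F) (x : ι → F) :
    phiL Q u v u' v' 1 0 c 1 x = siegF Q u' v' c x := by
  rw [phiL_apply]
  unfold siegF
  module

theorem phiE_upper {u v u' v' : ι → F} (h : IsOpp Q u v u' v')
    (g : Matrix.SpecialLinearGroup (Fin 2) F) (h00 : g.1 0 0 = 1) (h10 : g.1 1 0 = 0)
    (h11 : g.1 1 1 = 1) :
    phiE h g = toOG Q (siegG Q u v (-(g.1 0 1)) h.hl.qp h.hl.qr h.hl.pr) := by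
  ext1 x
  rw [phiE_apply, h00, h10, h11, phiL_upper, toOG_siegG]

theorem phiE_lower {u v u' v' : ι → F} (h : IsOpp Q u v u' v')
    (g : Matrix.SpecialLinearGroup (Fin 2) F) (h00 : g.1 0 0 = 1) (h01 : g.1 0 1 = 0)
    (h11 : g.1 1 1 = 1) :
    phiE h g = toOG Q (siegG Q u' v' (g.1 1 0) h.hl'.qp h.hl'.qr h.hl'.pr) := by
  ext1 x
  rw [phiE_apply, h00, h01, h11, phiL_lower, toOG_siegG]

theorem phiE_mem_OG {u v u' v' : ι → F} (h : IsOpp Q u v u' v')
    (g : Matrix.SpecialLinearGroup (Fin 2) F) : phiE h g ∈ OG Q := by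
  refine Cfsg.Agent.Lib.Helper2.sl_transvection_induction (fun g => phiE h g ∈ OG Q) ?_ ?_ g
  · intro i j hij c
    have hcases : (i = 0 ∧ j = 1) ∨ (i = 1 ∧ j = 0) := by
      fin_cases i <;> fin_cases j <;> simp_all
    rcases hcases with ⟨rfl, rfl⟩ | ⟨rfl, rfl⟩
    · rw [phiE_upper h _ (by simp [Matrix.SpecialLinearGroup.transvection, Matrix.transvection])
        (by simp [Matrix.SpecialLinearGroup.transvection, Matrix.transvection])
        (by simp [Matrix.SpecialLinearGroup.transvection, Matrix.transvection])]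
      exact toOG_mem_OG Q _
    · rw [phiE_lower h _ (by simp [Matrix.SpecialLinearGroup.transvection, Matrix.transvection])
        (by simp [Matrix.SpecialLinearGroup.transvection, Matrix.transvection])
        (by simp [Matrix.SpecialLinearGroup.transvection, Matrix.transvection])]
      exact toOG_mem_OG Q _
  · intro a b ha hb
    rw [map_mul]
    exact mul_mem ha hb

/-- the homomorphism from `SL₂(F)` to the isometry group. -/
noncomputable def phiG {u v u' v' : ι → F} (h : IsOpp Q u v u' v') :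
    Matrix.SpecialLinearGroup (Fin 2) F →* ↥(Cfsg.isometryGroup F ⇑Q) :=
  MonoidHom.mk' (fun g => ofOG Q (phiE h g) (phiE_mem_OG h g)) (by
    intro a b
    apply toOG_injective
    rw [toOG_ofOG, (toOG Q).map_mul, toOG_ofOG, toOG_ofOG, (phiE h).map_mul])

theorem toOG_phiG {u v u' v' : ι → F} (h : IsOpp Q u v u' v')
    (g : Matrix.SpecialLinearGroup (Fin 2) F) : toOG Q (phiG h g) = phiE h g :=
  toOG_ofOG Q (phiE h g) (phiE_mem_OG h g)

theorem phiG_upper {u v u' v' : ι → F} (h : IsOpp Q u v u' v')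
    (g : Matrix.SpecialLinearGroup (Fin 2) F) (h00 : g.1 0 0 = 1) (h10 : g.1 1 0 = 0)
    (h11 : g.1 1 1 = 1) :
    phiG h g = siegG Q u v (-(g.1 0 1)) h.hl.qp h.hl.qr h.hl.pr := by
  apply toOG_injective
  rw [toOG_phiG, phiE_upper h g h00 h10 h11]

theorem phiG_lower {u v u' v' : ι → F} (h : IsOpp Q u v u' v')
    (g : Matrix.SpecialLinearGroup (Fin 2) F) (h00 : g.1 0 0 = 1) (h01 : g.1 0 1 = 0)
    (h11 : g.1 1 1 = 1) :
    phiG h g = siegG Q u' v' (g.1 1 0) h.hl'.qp h.hl'.qr h.hl'.pr := by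
  apply toOG_injective
  rw [toOG_phiG, phiE_lower h g h00 h01 h11]

end Cfsg.Agent.Lib.Helper26.Sieg
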