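/-
helper26: Siegel transvection groups, part E: opposite singular lines give a rank one pair which
is an image of `SL₂(F)`.
-/
import Cfsg.Agent.Lib.Helper26.SiegD

set_option autoImplicit false
set_option linter.unusedSectionVars false
set_option linter.unusedSimpArgs false

namespace Cfsg.Agent.Lib.Helper26.Sieg

open Module QuadraticMap Matrix Cfsg Cfsg.Agent.Lib.Helper25 Cfsg.Agent.Lib.Helper25.CD
  Cfsg.Agent.Lib.Helper25.Siegel

variable {ι : Type} [Fintype ι] [DecidableEq ι] {F : Type*} [Field F]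
  {Q : QuadraticForm F (ι → F)}

theorem phiG_injective {u v u' v' : ι → F} (h : IsOpp Q u v u' v') :
    Function.Injective (phiG h) := by
  rw [injective_iff_map_eq_one]
  intro g hg
  have hE : ∀ x, phiE h g x = x := by
    intro x
    rw [← toOG_phiG, hg, map_one]
    rfl
  have e1 : polar Q u' u = 1 := by rw [polar_comm]; exact h.g11
  have e2 : polar Q v' u = 0 := by rw [polar_comm]; exact h.g12
  have e3 : polar Q u' v = 0 := by rw [polar_comm]; exact h.g21
  have e4 : polar Q v' v = 1 := by rw [polar_comm]; exact h.g22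
  have hu := hE u
  have hv' := hE v'
  rw [phiE_apply, phiL_apply] at hu hv'
  simp only [e1, e2, e3, e4, h.hl.pp, h.hl.rr, h.hl.pr, h.hl.rp, h.hl'.pp, h.hl'.rr, h.hl'.pr,
    h.hl'.rp, h.g11, h.g12, h.g21, h.g22, zero_smul, one_smul, add_zero] at hu hv'
  have a1 := congrArg (fun y => polar Q u' y) hu
  have a2 := congrArg (fun y => polar Q v y) hu
  have a3 := congrArg (fun y => polar Q u' y) hv'
  have a4 := congrArg (fun y => polar Q v y) hv'
  simp only [polar_add_right, polar_smul_right, e1, e2, e3, e4, h.hl.pp, h.hl.rr, h.hl.pr,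
    h.hl.rp, h.hl'.pp, h.hl'.rr, h.hl'.pr, h.hl'.rp, h.g11, h.g12, h.g21, h.g22, smul_eq_mul,
    mul_zero, mul_one, add_zero, zero_add] at a1 a2 a3 a4
  apply Subtype.ext
  ext i j
  fin_cases i <;> fin_cases j
  · show g.1 0 0 = (1 : Matrix (Fin 2) (Fin 2) F) 0 0
    rw [Matrix.one_apply_eq]
    linear_combination a1
  · show g.1 0 1 = (1 : Matrix (Fin 2) (Fin 2) F) 0 1
    rw [Matrix.one_apply_ne (by decide)]
    linear_combination a3
  · show g.1 1 0 = (1 : Matrix (Fin 2) (Fin 2) F) 1 0
    rw [Matrix.one_apply_ne (by decide)]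
    linear_combination a2
  · show g.1 1 1 = (1 : Matrix (Fin 2) (Fin 2) F) 1 1
    rw [Matrix.one_apply_eq]
    linear_combination a4

theorem map_upper_phiG (hQ : (polarBilin Q).Nondegenerate) {u v u' v' : ι → F}
    (h : IsOpp Q u v u' v') : (upperUnipotentSL2 F).map (phiG h) = fixS Q u v := by
  unfold upperUnipotentSL2
  rw [MonoidHom.map_closure]
  have himg : (phiG h) '' {g : Matrix.SpecialLinearGroup (Fin 2) F |
      (g : Matrix (Fin 2) (Fin 2) F) 1 0 = 0 ∧ (g : Matrix (Fin 2) (Fin 2) F) 0 0 = 1 ∧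
        (g : Matrix (Fin 2) (Fin 2) F) 1 1 = 1} =
      (fixS Q u v : Set ↥(Cfsg.isometryGroup F ⇑Q)) := by
    ext σ
    constructor
    · rintro ⟨g, ⟨h10, h00, h11⟩, rfl⟩
      rw [SetLike.mem_coe, phiG_upper h g h00 h10 h11]
      exact siegG_mem_fixS Q _ _ _ _ _ _
    · intro hσ
      obtain ⟨c, rfl⟩ := exists_eq_siegG Q hQ h.hl hσ
      have hdet : (!![1, -c; 0, 1] : Matrix (Fin 2) (Fin 2) F).det = 1 := by
        simp [Matrix.det_fin_two]
      obtain ⟨g, hg⟩ : ∃ g : Matrix.SpecialLinearGroup (Fin 2) F, g.1 = !![1, -c; 0, 1] :=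
        ⟨⟨_, hdet⟩, rfl⟩
      have g00 : g.1 0 0 = 1 := by rw [hg]; rfl
      have g01 : g.1 0 1 = -c := by rw [hg]; rfl
      have g10 : g.1 1 0 = 0 := by rw [hg]; rfl
      have g11 : g.1 1 1 = 1 := by rw [hg]; rfl
      refine ⟨g, ⟨g10, g00, g11⟩, ?_⟩
      rw [phiG_upper h g g00 g10 g11]
      congr 1
      rw [g01, neg_neg]
  rw [himg, Subgroup.closure_eq]

theorem map_lower_phiG (hQ : (polarBilin Q).Nondegenerate) {u v u' v' : ι → F}
    (h : IsOpp Q u v u' v') : (lowerUnipotentSL2 F).map (phiG h) = fixS Q u' v' := by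
  unfold lowerUnipotentSL2
  rw [MonoidHom.map_closure]
  have himg : (phiG h) '' {g : Matrix.SpecialLinearGroup (Fin 2) F |
      (g : Matrix (Fin 2) (Fin 2) F) 0 1 = 0 ∧ (g : Matrix (Fin 2) (Fin 2) F) 0 0 = 1 ∧
        (g : Matrix (Fin 2) (Fin 2) F) 1 1 = 1} =
      (fixS Q u' v' : Set ↥(Cfsg.isometryGroup F ⇑Q)) := by
    ext σ
    constructor
    · rintro ⟨g, ⟨h01, h00, h11⟩, rfl⟩
      rw [SetLike.mem_coe, phiG_lower h g h00 h01 h11]
      exact siegG_mem_fixS Q _ _ _ _ _ _
    · intro hσ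
      obtain ⟨c, rfl⟩ := exists_eq_siegG Q hQ h.hl' hσ
      have hdet : (!![1, 0; c, 1] : Matrix (Fin 2) (Fin 2) F).det = 1 := by
        simp [Matrix.det_fin_two]
      obtain ⟨g, hg⟩ : ∃ g : Matrix.SpecialLinearGroup (Fin 2) F, g.1 = !![1, 0; c, 1] :=
        ⟨⟨_, hdet⟩, rfl⟩
      have g00 : g.1 0 0 = 1 := by rw [hg]; rfl
      have g01 : g.1 0 1 = 0 := by rw [hg]; rfl
      have g10 : g.1 1 0 = c := by rw [hg]; rfl
      have g11 : g.1 1 1 = 1 := by rw [hg]; rfl
      refine ⟨g, ⟨g01, g00, g11⟩, ?_⟩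
      rw [phiG_lower h g g00 g01 g11]
      congr 1
  rw [himg, Subgroup.closure_eq]

theorem range_phiG (hQ : (polarBilin Q).Nondegenerate) {u v u' v' : ι → F}
    (h : IsOpp Q u v u' v') : (phiG h).range = fixS Q u v ⊔ fixS Q u' v' := by
  apply le_antisymm
  · rintro _ ⟨g, rfl⟩
    refine Cfsg.Agent.Lib.Helper2.sl_transvection_induction
      (fun g => phiG h g ∈ fixS Q u v ⊔ fixS Q u' v') ?_ ?_ g
    · intro i j hij c
      have hcases : (i = 0 ∧ j = 1) ∨ (i = 1 ∧ j = 0) := by
        fin_cases i <;> fin_cases j <;> simp_all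
      rcases hcases with ⟨rfl, rfl⟩ | ⟨rfl, rfl⟩
      · apply Subgroup.mem_sup_left
        rw [phiG_upper h _ (by simp [Matrix.SpecialLinearGroup.transvection, Matrix.transvection])
          (by simp [Matrix.SpecialLinearGroup.transvection, Matrix.transvection])
          (by simp [Matrix.SpecialLinearGroup.transvection, Matrix.transvection])]
        exact siegG_mem_fixS Q _ _ _ _ _ _
      · apply Subgroup.mem_sup_right
        rw [phiG_lower h _ (by simp [Matrix.SpecialLinearGroup.transvection, Matrix.transvection])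
          (by simp [Matrix.SpecialLinearGroup.transvection, Matrix.transvection])
          (by simp [Matrix.SpecialLinearGroup.transvection, Matrix.transvection])]
        exact siegG_mem_fixS Q _ _ _ _ _ _
    · intro a b ha hb
      rw [map_mul]
      exact mul_mem ha hb
  · rw [sup_le_iff]
    constructor
    · rw [← map_upper_phiG hQ h]
      exact Subgroup.map_le_range _ _
    · rw [← map_lower_phiG hQ h]
      exact Subgroup.map_le_range _ _

theorem fixS_ne_of_opp (_hQ : (polarBilin Q).Nondegenerate) {u v u' v' : ι → F}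
    (h : IsOpp Q u v u' v') : fixS Q u v ≠ fixS Q u' v' := by
  intro e
  have h1 : siegG Q u v 1 h.hl.qp h.hl.qr h.hl.pr ∈ fixS Q u' v' :=
    e ▸ siegG_mem_fixS Q u v 1 h.hl.qp h.hl.qr h.hl.pr
  have h2 := h1 u' (by rw [h.hl'.pp]) (by rw [h.hl'.pr])
  rw [toOG_siegG] at h2
  unfold siegF at h2
  rw [h.g11, h.g21, one_smul, zero_smul, sub_zero, one_smul, add_eq_left] at h2
  exact h.hl.ne_zero_right h2

theorem opp_psl2 (hQ : (polarBilin Q).Nondegenerate) {u v u' v' : ι → F}
    (h : IsOpp Q u v u' v') : IsPSL2PairOver F (fixS Q u v) (fixS Q u' v') := by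
  refine ⟨phiG h, range_phiG hQ h, ?_, map_upper_phiG hQ h, map_lower_phiG hQ h⟩
  rw [(MonoidHom.ker_eq_bot_iff _).2 (phiG_injective h)]
  exact bot_le

theorem opp_rankOnePair (hQ : (polarBilin Q).Nondegenerate) {u v u' v' : ι → F}
    (h : IsOpp Q u v u' v') : IsRankOnePair (fixS Q u v) (fixS Q u' v') := by
  have := rankOnePair_map (phiG h) (sl2_rankOnePair F) (by
    rw [map_upper_phiG hQ h, map_lower_phiG hQ h]
    exact fixS_ne_of_opp hQ h)
  rwa [map_upper_phiG hQ h, map_lower_phiG hQ h] at this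

/-- two singular lines with invertible Gram matrix: rank one pair and image of `SL₂`. -/
theorem rank_two (hQ : (polarBilin Q).Nondegenerate) {p r p' r' : ι → F}
    (h : IsSL Q p r) (h' : IsSL Q p' r')
    (hdet : polar Q p p' * polar Q r r' - polar Q p r' * polar Q r p' ≠ 0) :
    IsRankOnePair (fixS Q p r) (fixS Q p' r') ∧ IsPSL2PairOver F (fixS Q p r) (fixS Q p' r') := by
  obtain ⟨D, hD⟩ : ∃ D, D = polar Q p p' * polar Q r r' - polar Q p r' * polar Q r p' := ⟨_, rfl⟩
  rw [← hD] at hdet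
  have hdet' : (polar Q r r' / D) * (polar Q p p' / D) -
      (-(polar Q r p') / D) * (-(polar Q p r') / D) ≠ 0 := by
    have : (polar Q r r' / D) * (polar Q p p' / D) -
      (-(polar Q r p') / D) * (-(polar Q p r') / D) = 1 / D := by
      field_simp
      rw [hD]
      ring
    rw [this]
    exact one_div_ne_zero hdet
  have hl' := h'.change (a := polar Q r r' / D) (b := -(polar Q r p') / D)
    (c := -(polar Q p r') / D) (d := polar Q p p' / D) hdet'
  have hf := fixS_change Q (p := p') (r := r') (a := polar Q r r' / D) (b := -(polar Q r p') / D)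
    (c := -(polar Q p r') / D) (d := polar Q p p' / D) hdet'
  have hopp : IsOpp Q p r ((polar Q r r' / D) • p' + (-(polar Q r p') / D) • r')
      ((-(polar Q p r') / D) • p' + (polar Q p p' / D) • r') := by
    refine ⟨h, hl', ?_, ?_, ?_, ?_⟩
    · rw [polar_add_right, polar_smul_right, polar_smul_right, smul_eq_mul, smul_eq_mul]
      field_simp
      rw [hD]
      ring
    · rw [polar_add_right, polar_smul_right, polar_smul_right, smul_eq_mul, smul_eq_mul]
      field_simp
      ring
    · rw [polar_add_right, polar_smul_right, polar_smul_right, smul_eq_mul, smul_eq_mul]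
      field_simp
      ring
    · rw [polar_add_right, polar_smul_right, polar_smul_right, smul_eq_mul, smul_eq_mul]
      field_simp
      rw [hD]
      ring
  rw [← hf]
  exact ⟨opp_rankOnePair hQ hopp, opp_psl2 hQ hopp⟩

end Cfsg.Agent.Lib.Helper26.Sieg
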