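/-
helper26: Siegel transvection groups, part F: the trichotomy for two singular lines and the
properties of the set of all Siegel transvection groups inside the full isometry group.
-/
import Cfsg.Agent.Lib.Helper26.SiegE

set_option autoImplicit false
set_option linter.unusedSectionVars false
set_option linter.unusedSimpArgs false

namespace Cfsg.Agent.Lib.Helper26.Sieg

open Module QuadraticMap Matrix Cfsg Cfsg.Agent.Lib.Helper25 Cfsg.Agent.Lib.Helper25.CD
  Cfsg.Agent.Lib.Helper25.Siegel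

variable {ι : Type} [Fintype ι] [DecidableEq ι] {F : Type*} [Field F]
  {Q : QuadraticForm F (ι → F)}

/-- Gram matrix of rank one with nonzero last entry. -/
theorem rank_one_aux (hQ : (polarBilin Q).Nondegenerate) {p r p' r' : ι → F}
    (h : IsSL Q p r) (h' : IsSL Q p' r') (hm : polar Q r r' ≠ 0)
    (hdet : polar Q p p' * polar Q r r' - polar Q p r' * polar Q r p' = 0)
    (S : Set (Subgroup ↥(Cfsg.isometryGroup F ⇑Q)))
    (hS : ∀ p r : ι → F, IsSL Q p r → fixS Q p r ∈ S) :
    ⁅fixS Q p r, fixS Q p' r'⁆ = ⊥ ∨ RootCommutatorCase S (fixS Q p r) (fixS Q p' r') := by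
  have d1 : (1 : F) * 1 - (-(polar Q p r') / polar Q r r') * 0 ≠ 0 := by simp
  have d2 : (1 : F) * 1 - (-(polar Q r p') / polar Q r r') * 0 ≠ 0 := by simp
  have hl := h.change (a := 1) (b := -(polar Q p r') / polar Q r r') (c := 0) (d := 1) d1
  have hl' := h'.change (a := 1) (b := -(polar Q r p') / polar Q r r') (c := 0) (d := 1) d2
  have hf := fixS_change Q (p := p) (r := r) (a := 1) (b := -(polar Q p r') / polar Q r r')
    (c := 0) (d := 1) d1
  have hf' := fixS_change Q (p := p') (r := r') (a := 1) (b := -(polar Q r p') / polar Q r r')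
    (c := 0) (d := 1) d2
  rw [← hf, ← hf']
  apply rank_one_normal hQ hl hl' ?_ ?_ ?_ ?_ S hS
  · simp only [polar_add_left, polar_add_right, polar_smul_left, polar_smul_right, smul_eq_mul]
    field_simp
    linear_combination hdet
  · simp only [polar_add_left, polar_add_right, polar_smul_left, polar_smul_right, smul_eq_mul]
    field_simp
    ring
  · simp only [polar_add_left, polar_add_right, polar_smul_left, polar_smul_right, smul_eq_mul]
    field_simp
    ring
  · simp only [polar_add_left, polar_add_right, polar_smul_left, polar_smul_right, smul_eq_mul]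
    simpa using hm

/-- Gram matrix of rank one. -/
theorem rank_one (hQ : (polarBilin Q).Nondegenerate) {p r p' r' : ι → F}
    (h : IsSL Q p r) (h' : IsSL Q p' r')
    (hm : ¬ (polar Q p p' = 0 ∧ polar Q p r' = 0 ∧ polar Q r p' = 0 ∧ polar Q r r' = 0))
    (hdet : polar Q p p' * polar Q r r' - polar Q p r' * polar Q r p' = 0)
    (S : Set (Subgroup ↥(Cfsg.isometryGroup F ⇑Q)))
    (hS : ∀ p r : ι → F, IsSL Q p r → fixS Q p r ∈ S) :
    ⁅fixS Q p r, fixS Q p' r'⁆ = ⊥ ∨ RootCommutatorCase S (fixS Q p r) (fixS Q p' r') := by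
  by_cases h22 : polar Q r r' = 0
  · by_cases h11 : polar Q p p' = 0
    · by_cases h12 : polar Q p r' = 0
      · have h21 : polar Q r p' ≠ 0 := fun e => hm ⟨h11, h12, e, h22⟩
        have := rank_one_aux hQ h h'.swap h21 (by linear_combination -hdet) S hS
        rwa [fixS_swap Q r' p'] at this
      · have := rank_one_aux hQ h.swap h' h12 (by linear_combination -hdet) S hS
        rwa [fixS_swap Q r p] at this
    · have := rank_one_aux hQ h.swap h'.swap h11 (by linear_combination hdet) S hS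
      rwa [fixS_swap Q r p, fixS_swap Q r' p'] at this
  · exact rank_one_aux hQ h h' h22 hdet S hS

/-- The set of Siegel transvection groups, as in the statement. -/
def sigmaSet (Q : QuadraticForm F (ι → F)) : Set (Subgroup ↥(Cfsg.isometryGroup F ⇑Q)) :=
  {A | ∃ p r : ι → F, LinearIndependent F ![p, r] ∧ Q p = 0 ∧ Q r = 0 ∧ Q (p + r) = 0 ∧
    A = Subgroup.closure {σ : ↥(Cfsg.isometryGroup F ⇑Q) | ∀ v : ι → F,
      Q (v + p) - Q v - Q p = 0 → Q (v + r) - Q v - Q r = 0 →
        ((σ : Matrix.GeneralLinearGroup ι F) : Matrix ι ι F) *ᵥ v = v}}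

theorem mem_sigmaSet {A : Subgroup ↥(Cfsg.isometryGroup F ⇑Q)} :
    A ∈ sigmaSet Q ↔ ∃ p r : ι → F, IsSL Q p r ∧ A = fixS Q p r := by
  constructor
  · rintro ⟨p, r, hi, hp, hr, hpr, rfl⟩
    refine ⟨p, r, ⟨hi, hp, hr, ?_⟩, closure_eq_fixS Q p r⟩
    unfold polar
    rw [hpr, hp, hr]
    simp
  · rintro ⟨p, r, h, rfl⟩
    refine ⟨p, r, h.indep, h.qp, h.qr, ?_, (closure_eq_fixS Q p r).symm⟩
    have := h.pr
    unfold polar at this
    rw [h.qp, h.qr] at this
    simpa using this

theorem fixS_mem_sigmaSet {p r : ι → F} (h : IsSL Q p r) : fixS Q p r ∈ sigmaSet Q :=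
  mem_sigmaSet.2 ⟨p, r, h, rfl⟩

/-- the trichotomy in the full isometry group. -/
theorem sigma_pair (hQ : (polarBilin Q).Nondegenerate) :
    ∀ A ∈ sigmaSet Q, ∀ B ∈ sigmaSet Q, ⁅A, B⁆ = ⊥ ∨
      (IsRankOnePair A B ∧ IsPSL2PairOver F A B) ∨ RootCommutatorCase (sigmaSet Q) A B := by
  intro A hA B hB
  obtain ⟨p, r, h, rfl⟩ := mem_sigmaSet.1 hA
  obtain ⟨p', r', h', rfl⟩ := mem_sigmaSet.1 hB
  by_cases hdet : polar Q p p' * polar Q r r' - polar Q p r' * polar Q r p' = 0
  · by_cases hm : polar Q p p' = 0 ∧ polar Q p r' = 0 ∧ polar Q r p' = 0 ∧ polar Q r r' = 0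
    · left
      exact commutator_fixS_eq_bot Q hQ h h' hm.1 hm.2.1 hm.2.2.1 hm.2.2.2
    · rcases rank_one hQ h h' hm hdet (sigmaSet Q) (fun _ _ hl => fixS_mem_sigmaSet hl) with h1 | h1
      · exact Or.inl h1
      · exact Or.inr (Or.inr h1)
  · right; left
    exact rank_two hQ h h' hdet

theorem sigma_comm (hQ : (polarBilin Q).Nondegenerate) :
    ∀ A ∈ sigmaSet Q, IsMulCommutative A := by
  intro A hA
  obtain ⟨p, r, h, rfl⟩ := mem_sigmaSet.1 hA
  exact fixS_comm Q hQ h

theorem sigma_ne_bot (hQ : (polarBilin Q).Nondegenerate) :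
    ∀ A ∈ sigmaSet Q, A ≠ ⊥ := by
  intro A hA
  obtain ⟨p, r, h, rfl⟩ := mem_sigmaSet.1 hA
  exact fixS_ne_bot Q hQ h

theorem sigma_conj : ∀ A ∈ sigmaSet Q, ∀ g : ↥(Cfsg.isometryGroup F ⇑Q),
    conjBy A g ∈ sigmaSet Q := by
  intro A hA g
  obtain ⟨p, r, h, rfl⟩ := mem_sigmaSet.1 hA
  rw [conjBy_fixS]
  exact fixS_mem_sigmaSet (h.map g)

end Cfsg.Agent.Lib.Helper26.Sieg
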