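/-
helper26: a set `S` of subgroups of a group `G` satisfying the axioms of a set of abstract
`k`-root subgroups except generation is a set of `k`-root subgroups of the subgroup it generates.
-/
import Mathlib
import Cfsg.Prelude.Def_RootSubgroups
import Cfsg.Agent.Lib.Helper25.RootTransfer
import Cfsg.Agent.Lib.Helper25.RootSet
import Cfsg.Agent.Lib.Helper25.UnitaryRoot2

set_option autoImplicit false

namespace Cfsg.Agent.Lib.Helper26.Sieg

open Cfsg Cfsg.Agent.Lib.Helper25

variable {G H : Type*} [Group G] [Group H]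

/-- pulling back the commutator case along an injective homomorphism. -/
theorem rootCommutatorCase_of_map_injective (f : G →* H) (hf : Function.Injective f)
    {S' : Set (Subgroup G)} {S : Set (Subgroup H)}
    (hS : ∀ C ∈ S, ∃ C' ∈ S', C'.map f = C) {A B : Subgroup G}
    (h : RootCommutatorCase S (A.map f) (B.map f)) : RootCommutatorCase S' A B := by
  obtain ⟨hmem, hcen, hA, hB⟩ := h
  have hcomm : ⁅A.map f, B.map f⁆ = (⁅A, B⁆).map f := (Subgroup.map_commutator A B f).symm
  refine ⟨?_, ?_, ?_, ?_⟩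
  · obtain ⟨C', hC', hC'e⟩ := hS _ hmem
    rw [hcomm] at hC'e
    rw [← Subgroup.map_injective hf hC'e]
    exact hC'
  · intro c hc x hx
    apply hf
    rw [map_mul, map_mul]
    apply hcen
    · rw [hcomm]
      exact Subgroup.mem_map_of_mem f hc
    · rw [← Subgroup.map_sup]
      exact Subgroup.mem_map_of_mem f hx
  · intro a ha ha1
    have hfa1 : f a ≠ 1 := fun e => ha1 (hf (e.trans (map_one f).symm))
    have h1 := hA (f a) (Subgroup.mem_map_of_mem f ha) hfa1
    apply Subgroup.map_injective hf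
    rw [← hcomm, ← h1, MonoidHom.map_closure]
    congr 1
    ext x
    simp only [Set.mem_image, Subgroup.coe_map, SetLike.mem_coe]
    constructor
    · rintro ⟨_, ⟨b, hb, rfl⟩, rfl⟩
      exact ⟨_, ⟨b, hb, rfl⟩, by simp⟩
    · rintro ⟨_, ⟨b, hb, rfl⟩, rfl⟩
      exact ⟨_, ⟨b, hb, rfl⟩, by simp⟩
  · intro b hb hb1
    have hfb1 : f b ≠ 1 := fun e => hb1 (hf (e.trans (map_one f).symm))
    have h1 := hB (f b) (Subgroup.mem_map_of_mem f hb) hfb1
    apply Subgroup.map_injective hf
    rw [← hcomm, ← h1, MonoidHom.map_closure]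
    congr 1
    ext x
    simp only [Set.mem_image, Subgroup.coe_map, SetLike.mem_coe]
    constructor
    · rintro ⟨_, ⟨a, ha, rfl⟩, rfl⟩
      exact ⟨_, ⟨a, ha, rfl⟩, by simp⟩
    · rintro ⟨_, ⟨a, ha, rfl⟩, rfl⟩
      exact ⟨_, ⟨a, ha, rfl⟩, by simp⟩

/-- A set of subgroups with the local properties of a set of `k`-root subgroups is a set of
`k`-root subgroups of the subgroup it generates. -/
theorem kRootSet_subgroupOf {k : Type*} [Field k] (S : Set (Subgroup G))
    (hcomm : ∀ A ∈ S, IsMulCommutative A) (hne : ∀ A ∈ S, A ≠ ⊥)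
    (hconj : ∀ A ∈ S, ∀ g : G, conjBy A g ∈ S)
    (hpair : ∀ A ∈ S, ∀ B ∈ S, ⁅A, B⁆ = ⊥ ∨ (IsRankOnePair A B ∧ IsPSL2PairOver k A B) ∨
      RootCommutatorCase S A B) :
    IsKRootSubgroupSet k ((fun A : Subgroup G => A.subgroupOf (⨆ B ∈ S, B)) '' S) := by
  obtain ⟨K, hK⟩ : ∃ K : Subgroup G, K = ⨆ B ∈ S, B := ⟨_, rfl⟩
  rw [← hK]
  have hle : ∀ A ∈ S, A ≤ K := fun A hA => by
    rw [hK]
    exact le_iSup₂ (f := fun (B : Subgroup G) (_ : B ∈ S) => B) A hA
  have hf : Function.Injective K.subtype := Subgroup.subtype_injective K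
  have hmap : ∀ A ∈ S, (A.subgroupOf K).map K.subtype = A := fun A hA =>
    Subgroup.map_subgroupOf_eq_of_le (hle A hA)
  have hsurj : ∀ C ∈ S, ∃ C' ∈ (fun A : Subgroup G => A.subgroupOf K) '' S,
      C'.map K.subtype = C := fun C hC => ⟨_, ⟨C, hC, rfl⟩, hmap C hC⟩
  have hroot : IsRootSubgroupSet ((fun A : Subgroup G => A.subgroupOf K) '' S) := by
    refine ⟨?_, ?_, ?_, ?_, ?_⟩
    · rintro _ ⟨A, hA, rfl⟩
      apply isMulCommutative_of_map_injective K.subtype hf
      rw [hmap A hA]
      exact hcomm A hA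
    · rintro _ ⟨A, hA, rfl⟩ e
      apply hne A hA
      have e' : A.subgroupOf K = ⊥ := e
      rw [← hmap A hA, e', Subgroup.map_bot]
    · rw [hK]
      exact UnitaryRoot.iSup_subgroupOf_eq_top S
    · rintro _ ⟨A, hA, rfl⟩ g
      refine ⟨conjBy A (g : G), hconj A hA g, ?_⟩
      apply Subgroup.map_injective hf
      rw [hmap _ (hconj A hA g), map_conjBy, hmap A hA]
      rfl
    · rintro _ ⟨A, hA, rfl⟩ _ ⟨B, hB, rfl⟩
      rcases hpair A hA B hB with h | h | h
      · left
        apply commutator_eq_bot_of_map_injective K.subtype hf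
        rw [hmap A hA, hmap B hB]
        exact h
      · right; left
        apply rankOnePair_of_map_injective K.subtype hf
        rw [hmap A hA, hmap B hB]
        exact h.1
      · right; right
        apply rootCommutatorCase_of_map_injective K.subtype hf hsurj
        rw [hmap A hA, hmap B hB]
        exact h
  refine ⟨hroot, ?_⟩
  rintro _ ⟨A, hA, rfl⟩ _ ⟨B, hB, rfl⟩ hAB
  have hAB' : IsRankOnePair A B := by
    have := rankOnePair_map K.subtype hAB (by
      intro e
      exact hAB.ne (Subgroup.map_injective hf e))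
    rwa [hmap A hA, hmap B hB] at this
  apply psl2Pair_of_map_injective K.subtype hf
  rw [hmap A hA, hmap B hB]
  rcases hpair A hA B hB with h | h | h
  · exact absurd h (rankOne_commutator_ne_bot hAB')
  · exact h.2
  · exact absurd h (rankOne_not_commutatorCase hAB')

end Cfsg.Agent.Lib.Helper26.Sieg
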