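/-
helper26: Siegel transvection groups, part H: connectedness of the graph of rank one pairs when
the Witt index is at least three.
-/
import Cfsg.Agent.Lib.Helper26.SiegF

set_option autoImplicit false
set_option linter.unusedSectionVars false
set_option linter.unusedSimpArgs false

namespace Cfsg.Agent.Lib.Helper26.Sieg

open Module QuadraticMap Matrix Cfsg Cfsg.Agent.Lib.Helper25 Cfsg.Agent.Lib.Helper25.CD
  Cfsg.Agent.Lib.Helper25.Siegel

variable {ι : Type} [Fintype ι] [DecidableEq ι] {F : Type*} [Field F]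
  {Q : QuadraticForm F (ι → F)}

/-- connectedness relation on the set of Siegel transvection groups. -/
def Conn (Q : QuadraticForm F (ι → F)) (A B : Subgroup ↥(Cfsg.isometryGroup F ⇑Q)) : Prop :=
  Relation.ReflTransGen (FAdj (sigmaSet Q)) A B

theorem fadj_symm {A B : Subgroup ↥(Cfsg.isometryGroup F ⇑Q)} (h : FAdj (sigmaSet Q) A B) :
    FAdj (sigmaSet Q) B A := ⟨h.2.1, h.1, RankOnePair_symm h.2.2⟩

theorem Conn.symm {A B : Subgroup ↥(Cfsg.isometryGroup F ⇑Q)} (h : Conn Q A B) : Conn Q B A := by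
  induction h with
  | refl => exact Relation.ReflTransGen.refl
  | tail _ hbc ih => exact Relation.ReflTransGen.head (fadj_symm hbc) ih

theorem Conn.trans {A B C : Subgroup ↥(Cfsg.isometryGroup F ⇑Q)} (h : Conn Q A B)
    (h' : Conn Q B C) : Conn Q A C := Relation.ReflTransGen.trans h h'

theorem adj_of_det (hQ : (polarBilin Q).Nondegenerate) {p r p' r' : ι → F}
    (h : IsSL Q p r) (h' : IsSL Q p' r')
    (hdet : polar Q p p' * polar Q r r' - polar Q p r' * polar Q r p' ≠ 0) :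
    Conn Q (fixS Q p r) (fixS Q p' r') :=
  Relation.ReflTransGen.single
    ⟨fixS_mem_sigmaSet h, fixS_mem_sigmaSet h', (rank_two hQ h h' hdet).1⟩

theorem Q_add_smul (x u : ι → F) (c : F) :
    Q (x + c • u) = Q x + c * c * Q u + c * polar Q x u := by
  rw [QuadraticMap.map_add (⇑Q), QuadraticMap.map_smul, polar_smul_right, smul_eq_mul, smul_eq_mul]

/-- correcting two vectors dual to a singular line to a singular line. -/
theorem exists_correct {u₁ u₂ a b : ι → F} (h : IsSL Q u₁ u₂) (h1 : polar Q a u₁ = 1)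
    (h2 : polar Q a u₂ = 0) (h3 : polar Q b u₁ = 0) (h4 : polar Q b u₂ = 1) :
    ∃ a' b' : ι → F, IsSL Q a' b' ∧ ∀ y : ι → F, polar Q y u₁ = 0 → polar Q y u₂ = 0 →
      polar Q a' y = polar Q a y ∧ polar Q b' y = polar Q b y := by
  obtain ⟨a', ha'⟩ : ∃ a', a' = a + (-(Q a)) • u₁ := ⟨_, rfl⟩
  obtain ⟨b₁, hb₁⟩ : ∃ b₁, b₁ = b + (-(Q b)) • u₂ := ⟨_, rfl⟩
  obtain ⟨b', hb'⟩ : ∃ b', b' = b₁ + (-(polar Q a' b₁)) • u₁ := ⟨_, rfl⟩
  have A1 : polar Q a' u₁ = 1 := by
    rw [ha', polar_add_left, polar_smul_left, h.pp, h1]; simp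
  have A2 : polar Q a' u₂ = 0 := by
    rw [ha', polar_add_left, polar_smul_left, h.pr, h2]; simp
  have B1 : polar Q b₁ u₁ = 0 := by
    rw [hb₁, polar_add_left, polar_smul_left, h.rp, h3]; simp
  have B2 : polar Q b₁ u₂ = 1 := by
    rw [hb₁, polar_add_left, polar_smul_left, h.rr, h4]; simp
  have QA : Q a' = 0 := by
    rw [ha', Q_add_smul, h.qp, h1]; ring
  have QB1 : Q b₁ = 0 := by
    rw [hb₁, Q_add_smul, h.qr, h4]; ring
  have QB : Q b' = 0 := by
    rw [hb', Q_add_smul, h.qp, QB1, B1]; ring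
  have AB : polar Q a' b' = 0 := by
    rw [hb', polar_add_right, polar_smul_right, A1]; simp
  have B'1 : polar Q b' u₁ = 0 := by
    rw [hb', polar_add_left, polar_smul_left, h.pp, B1]; simp
  have B'2 : polar Q b' u₂ = 1 := by
    rw [hb', polar_add_left, polar_smul_left, h.pr, B2]; simp
  refine ⟨a', b', ⟨?_, QA, QB, AB⟩, ?_⟩
  · apply linIndep_two
    intro s t hst
    have e1 := congrArg (fun z => polar Q z u₁) hst
    have e2 := congrArg (fun z => polar Q z u₂) hst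
    simp only [polar_add_left, polar_smul_left, A1, A2, B'1, B'2, smul_eq_mul, mul_one, mul_zero,
      add_zero, zero_add, polar_zero_left] at e1 e2
    exact ⟨e1, e2⟩
  · intro y hy1 hy2
    rw [polar_comm Q y u₁] at hy1
    rw [polar_comm Q y u₂] at hy2
    constructor
    · rw [ha', polar_add_left, polar_smul_left, hy1]; simp
    · rw [hb', hb₁, polar_add_left, polar_add_left, polar_smul_left, polar_smul_left, hy1, hy2]
      simp

/-- two singular lines orthogonal to each other with a common "dual frame" are connected. -/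
theorem conn_of_common (hQ : (polarBilin Q).Nondegenerate) {u₁ u₂ w₁ w₂ a b : ι → F}
    (h : IsSL Q u₁ u₂) (hw : IsSL Q w₁ w₂)
    (p11 : polar Q w₁ u₁ = 0) (p12 : polar Q w₁ u₂ = 0) (p21 : polar Q w₂ u₁ = 0)
    (p22 : polar Q w₂ u₂ = 0)
    (h1 : polar Q a u₁ = 1) (h2 : polar Q a u₂ = 0) (h3 : polar Q b u₁ = 0)
    (h4 : polar Q b u₂ = 1)
    (hdet : polar Q a w₁ * polar Q b w₂ - polar Q a w₂ * polar Q b w₁ ≠ 0) :
    Conn Q (fixS Q u₁ u₂) (fixS Q w₁ w₂) := by
  obtain ⟨a', b', hl, hval⟩ := exists_correct h h1 h2 h3 h4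
  obtain ⟨v1, v2⟩ := hval u₁ h.pp h.pr
  obtain ⟨v3, v4⟩ := hval u₂ h.rp h.rr
  obtain ⟨v5, v6⟩ := hval w₁ p11 p12
  obtain ⟨v7, v8⟩ := hval w₂ p21 p22
  have adj1 : Conn Q (fixS Q u₁ u₂) (fixS Q a' b') := by
    apply adj_of_det hQ h hl
    rw [polar_comm Q u₁ a', polar_comm Q u₂ b', polar_comm Q u₁ b', polar_comm Q u₂ a', v1, v2,
      v3, v4, h1, h2, h3, h4]
    simp
  have adj2 : Conn Q (fixS Q a' b') (fixS Q w₁ w₂) := by
    apply adj_of_det hQ hl hw
    rw [v5, v6, v7, v8]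
    exact hdet
  exact adj1.trans adj2

/-- two singular lines in a singular plane are connected. -/
theorem conn_plane (hQ : (polarBilin Q).Nondegenerate) {u₁ u₂ u₃ : ι → F}
    (h12 : IsSL Q u₁ u₂) (h23 : IsSL Q u₂ u₃) (h13 : polar Q u₁ u₃ = 0)
    (hind : LinearIndependent F ![u₁, u₂, u₃]) : Conn Q (fixS Q u₁ u₂) (fixS Q u₂ u₃) := by
  obtain ⟨a, ha⟩ := exists_polar_eq Q hQ ![u₁, u₂, u₃] hind ![1, 0, 1]
  obtain ⟨b, hb⟩ := exists_polar_eq Q hQ ![u₁, u₂, u₃] hind ![0, 1, 0]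
  have a1 : polar Q a u₁ = 1 := ha 0
  have a2 : polar Q a u₂ = 0 := ha 1
  have a3 : polar Q a u₃ = 1 := ha 2
  have b1 : polar Q b u₁ = 0 := hb 0
  have b2 : polar Q b u₂ = 1 := hb 1
  have b3 : polar Q b u₃ = 0 := hb 2
  apply conn_of_common hQ h12 h23 h12.rp h12.rr (by rw [polar_comm]; exact h13) h23.rp a1 a2 b1 b2
  rw [a2, a3, b2, b3]
  simp

/-- a singular line orthogonal to two opposite lines is connected to each of them. -/
theorem conn_R0 (hQ : (polarBilin Q).Nondegenerate) {h₁ h₂ k₁ k₂ p r : ι → F}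
    (hh : IsSL Q h₁ h₂) (hp : IsSL Q p r)
    (e11 : polar Q h₁ k₁ = 1) (e12 : polar Q h₁ k₂ = 0) (e21 : polar Q h₂ k₁ = 0)
    (e22 : polar Q h₂ k₂ = 1)
    (ph1 : polar Q p h₁ = 0) (ph2 : polar Q p h₂ = 0) (rh1 : polar Q r h₁ = 0)
    (rh2 : polar Q r h₂ = 0)
    (pk1 : polar Q p k₁ = 0) (pk2 : polar Q p k₂ = 0) (rk1 : polar Q r k₁ = 0)
    (rk2 : polar Q r k₂ = 0) : Conn Q (fixS Q h₁ h₂) (fixS Q p r) := by
  have hind : LinearIndependent F ![h₁, h₂, p, r] := by
    apply linIndep_four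
    intro a b c d habcd
    have e1 := congrArg (fun z => polar Q z k₁) habcd
    have e2 := congrArg (fun z => polar Q z k₂) habcd
    simp only [polar_add_left, polar_smul_left, e11, e12, e21, e22, pk1, pk2, rk1, rk2,
      smul_eq_mul, mul_one, mul_zero, add_zero, zero_add, polar_zero_left] at e1 e2
    rw [e1, e2, zero_smul, zero_smul, zero_add, zero_add] at habcd
    obtain ⟨hc, hd⟩ := LinearIndependent.pair_iff.1 hp.indep c d habcd
    exact ⟨e1, e2, hc, hd⟩
  obtain ⟨a, ha⟩ := exists_polar_eq Q hQ ![h₁, h₂, p, r] hind ![1, 0, 1, 0]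
  obtain ⟨b, hb⟩ := exists_polar_eq Q hQ ![h₁, h₂, p, r] hind ![0, 1, 0, 1]
  have a1 : polar Q a h₁ = 1 := ha 0
  have a2 : polar Q a h₂ = 0 := ha 1
  have a3 : polar Q a p = 1 := ha 2
  have a4 : polar Q a r = 0 := ha 3
  have b1 : polar Q b h₁ = 0 := hb 0
  have b2 : polar Q b h₂ = 1 := hb 1
  have b3 : polar Q b p = 0 := hb 2
  have b4 : polar Q b r = 1 := hb 3
  apply conn_of_common hQ hh hp ph1 ph2 rh1 rh2 a1 a2 b1 b2
  rw [a3, a4, b3, b4]
  simp

end Cfsg.Agent.Lib.Helper26.Sieg
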