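/-
helper26: Siegel transvection groups, part I: normal form of a Gram matrix of rank one, lines
meeting a hub line, and the connectedness theorem.
-/
import Cfsg.Agent.Lib.Helper26.SiegH

set_option autoImplicit false
set_option linter.unusedSectionVars false
set_option linter.unusedSimpArgs false

namespace Cfsg.Agent.Lib.Helper26.Sieg

open Module QuadraticMap Matrix Cfsg Cfsg.Agent.Lib.Helper25 Cfsg.Agent.Lib.Helper25.CD
  Cfsg.Agent.Lib.Helper25.Siegel

variable {ι : Type} [Fintype ι] [DecidableEq ι] {F : Type*} [Field F]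
  {Q : QuadraticForm F (ι → F)}

theorem exists_normal_aux {p r p' r' : ι → F}
    (h : IsSL Q p r) (h' : IsSL Q p' r') (hm : polar Q r r' ≠ 0)
    (hdet : polar Q p p' * polar Q r r' - polar Q p r' * polar Q r p' = 0) :
    ∃ u v u' v' : ι → F, IsSL Q u v ∧ IsSL Q u' v' ∧ fixS Q u v = fixS Q p r ∧
      fixS Q u' v' = fixS Q p' r' ∧ polar Q u u' = 0 ∧ polar Q u v' = 0 ∧ polar Q v u' = 0 ∧
      polar Q v v' ≠ 0 ∧
      ∀ y : ι → F, polar Q y p' = 0 → polar Q y r' = 0 → polar Q y u' = 0 ∧ polar Q y v' = 0 := by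
  have d1 : (1 : F) * 1 - (-(polar Q p r') / polar Q r r') * 0 ≠ 0 := by simp
  have d2 : (1 : F) * 1 - (-(polar Q r p') / polar Q r r') * 0 ≠ 0 := by simp
  have hl := h.change (a := 1) (b := -(polar Q p r') / polar Q r r') (c := 0) (d := 1) d1
  have hl' := h'.change (a := 1) (b := -(polar Q r p') / polar Q r r') (c := 0) (d := 1) d2
  have hf := fixS_change Q (p := p) (r := r) (a := 1) (b := -(polar Q p r') / polar Q r r')
    (c := 0) (d := 1) d1
  have hf' := fixS_change Q (p := p') (r := r') (a := 1) (b := -(polar Q r p') / polar Q r r')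
    (c := 0) (d := 1) d2
  refine ⟨_, _, _, _, hl, hl', hf, hf', ?_, ?_, ?_, ?_, ?_⟩
  · simp only [polar_add_left, polar_add_right, polar_smul_left, polar_smul_right, smul_eq_mul]
    field_simp
    linear_combination hdet
  · simp only [polar_add_left, polar_add_right, polar_smul_left, polar_smul_right, smul_eq_mul]
    field_simp
    ring
  · simp only [polar_add_left, polar_add_right, polar_smul_left, polar_smul_right, smul_eq_mul]
    field_simp
    ring
  · simp only [polar_add_left, polar_add_right, polar_smul_left, polar_smul_right, smul_eq_mul]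
    simpa using hm
  · intro y h1 h2
    simp only [polar_add_right, polar_smul_right, h1, h2, smul_eq_mul, mul_zero, add_zero,
      and_self]

theorem exists_normal {p r p' r' : ι → F}
    (h : IsSL Q p r) (h' : IsSL Q p' r')
    (hm : ¬ (polar Q p p' = 0 ∧ polar Q p r' = 0 ∧ polar Q r p' = 0 ∧ polar Q r r' = 0))
    (hdet : polar Q p p' * polar Q r r' - polar Q p r' * polar Q r p' = 0) :
    ∃ u v u' v' : ι → F, IsSL Q u v ∧ IsSL Q u' v' ∧ fixS Q u v = fixS Q p r ∧
      fixS Q u' v' = fixS Q p' r' ∧ polar Q u u' = 0 ∧ polar Q u v' = 0 ∧ polar Q v u' = 0 ∧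
      polar Q v v' ≠ 0 ∧
      ∀ y : ι → F, polar Q y p' = 0 → polar Q y r' = 0 → polar Q y u' = 0 ∧ polar Q y v' = 0 := by
  by_cases h22 : polar Q r r' = 0
  · by_cases h11 : polar Q p p' = 0
    · by_cases h12 : polar Q p r' = 0
      · have h21 : polar Q r p' ≠ 0 := fun e => hm ⟨h11, h12, e, h22⟩
        obtain ⟨u, v, u', v', hl, hl', f1, f2, g1, g2, g3, g4, hperp⟩ :=
          exists_normal_aux h h'.swap h21 (by linear_combination -hdet)
        exact ⟨u, v, u', v', hl, hl', f1, by rw [f2, fixS_swap], g1, g2, g3, g4,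
          fun y h1 h2 => hperp y h2 h1⟩
      · obtain ⟨u, v, u', v', hl, hl', f1, f2, g1, g2, g3, g4, hperp⟩ :=
          exists_normal_aux h.swap h' h12 (by linear_combination -hdet)
        exact ⟨u, v, u', v', hl, hl', by rw [f1, fixS_swap], f2, g1, g2, g3, g4, hperp⟩
    · obtain ⟨u, v, u', v', hl, hl', f1, f2, g1, g2, g3, g4, hperp⟩ :=
        exists_normal_aux h.swap h'.swap h11 (by linear_combination hdet)
      exact ⟨u, v, u', v', hl, hl', by rw [f1, fixS_swap], by rw [f2, fixS_swap], g1, g2, g3, g4,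
        fun y h1 h2 => hperp y h2 h1⟩
  · exact exists_normal_aux h h' h22 hdet

/-- a singular line whose Gram matrix with a hub line has rank one is connected to the hub. -/
theorem conn_R1 (hQ : (polarBilin Q).Nondegenerate) {p r h₁ h₂ h₃ k₃ : ι → F}
    (hp : IsSL Q p r) (hh : IsSL Q h₁ h₂) (q3 : Q h₃ = 0)
    (a1 : polar Q h₃ h₁ = 0) (a2 : polar Q h₃ h₂ = 0) (b1 : polar Q k₃ h₁ = 0)
    (b2 : polar Q k₃ h₂ = 0) (c3 : polar Q h₃ k₃ = 1)
    (hm : ¬ (polar Q p h₁ = 0 ∧ polar Q p h₂ = 0 ∧ polar Q r h₁ = 0 ∧ polar Q r h₂ = 0))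
    (hdet : polar Q p h₁ * polar Q r h₂ - polar Q p h₂ * polar Q r h₁ = 0) :
    Conn Q (fixS Q p r) (fixS Q h₁ h₂) := by
  obtain ⟨u, v, u', v', hl, hl', f1, f2, g1, g2, g3, g4, hperp⟩ := exists_normal hp hh hm hdet
  rw [← f1, ← f2]
  obtain ⟨s1, s2⟩ := hperp h₃ a1 a2
  obtain ⟨t1, t2⟩ := hperp k₃ b1 b2
  by_cases hind : LinearIndependent F ![u, u']
  · have hl2 : IsSL Q u u' := ⟨hind, hl.qp, hl'.qp, g1⟩
    have i1 : LinearIndependent F ![v, u, u'] := by
      apply linIndep_three
      intro a b c habc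
      have e1 := congrArg (fun z => polar Q z v') habc
      simp only [polar_add_left, polar_smul_left, g2, hl'.pr, smul_eq_mul, mul_zero, add_zero,
        polar_zero_left] at e1
      have ha : a = 0 := (mul_eq_zero.1 e1).resolve_right g4
      rw [ha, zero_smul, zero_add] at habc
      obtain ⟨hb, hc⟩ := LinearIndependent.pair_iff.1 hind b c habc
      exact ⟨ha, hb, hc⟩
    have i2 : LinearIndependent F ![u, u', v'] := by
      apply linIndep_three
      intro a b c habc
      have e1 := congrArg (fun z => polar Q v z) habc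
      simp only [polar_add_right, polar_smul_right, g3, hl.rp, smul_eq_mul, mul_zero, zero_add,
        polar_zero_right] at e1
      have hc : c = 0 := (mul_eq_zero.1 e1).resolve_right g4
      rw [hc, zero_smul, add_zero] at habc
      obtain ⟨ha, hb⟩ := LinearIndependent.pair_iff.1 hind a b habc
      exact ⟨ha, hb, hc⟩
    have c1 := conn_plane hQ hl.swap hl2 g3 i1
    have c2 := conn_plane hQ hl2 hl' g2 i2
    rw [fixS_swap Q u v]
    exact c1.trans c2
  · rw [LinearIndependent.pair_iff' hl.ne_zero_left] at hind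
    push Not at hind
    obtain ⟨l, hlu⟩ := hind
    have hl0 : l ≠ 0 := by
      rintro rfl
      rw [zero_smul] at hlu
      exact hl'.ne_zero_left hlu.symm
    have hu3 : polar Q h₃ u = 0 := by
      rw [← hlu, polar_smul_right, smul_eq_mul] at s1
      exact (mul_eq_zero.1 s1).resolve_left hl0
    have ku : polar Q k₃ u = 0 := by
      rw [← hlu, polar_smul_right, smul_eq_mul] at t1
      exact (mul_eq_zero.1 t1).resolve_left hl0
    obtain ⟨c, hc⟩ : ∃ c, c = polar Q h₃ v / polar Q v v' := ⟨_, rfl⟩
    obtain ⟨s, hs⟩ : ∃ s, s = h₃ + (-c) • v' := ⟨_, rfl⟩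
    have Qs : Q s = 0 := by
      rw [hs, Q_add_smul, q3, hl'.qr, s2]; ring
    have su : polar Q s u = 0 := by
      rw [hs, polar_add_left, polar_smul_left, hu3, polar_comm Q v' u, g2]; simp
    have sv : polar Q s v = 0 := by
      rw [hs, polar_add_left, polar_smul_left, polar_comm Q v' v, hc, smul_eq_mul]
      field_simp
      ring
    have sv' : polar Q s v' = 0 := by
      rw [hs, polar_add_left, polar_smul_left, s2, hl'.rr]; simp
    have sk : polar Q s k₃ = 1 := by
      rw [hs, polar_add_left, polar_smul_left, c3, polar_comm Q v' k₃, t2]; simp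
    have uk : polar Q u k₃ = 0 := by rw [polar_comm]; exact ku
    have hl3 : IsSL Q u s := by
      refine ⟨?_, hl.qp, Qs, by rw [polar_comm]; exact su⟩
      apply linIndep_two
      intro a b hab
      have e1 := congrArg (fun z => polar Q z k₃) hab
      simp only [polar_add_left, polar_smul_left, uk, sk, smul_eq_mul, mul_zero, mul_one, zero_add,
        polar_zero_left] at e1
      rw [e1, zero_smul, add_zero, smul_eq_zero] at hab
      exact ⟨hab.resolve_right hl.ne_zero_left, e1⟩
    have hl4 : IsSL Q u v' := by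
      refine ⟨?_, hl.qp, hl'.qr, g2⟩
      apply linIndep_two
      intro a b hab
      have e1 := congrArg (fun z => polar Q v z) hab
      simp only [polar_add_right, polar_smul_right, hl.rp, smul_eq_mul, mul_zero, zero_add,
        polar_zero_right] at e1
      have hb : b = 0 := (mul_eq_zero.1 e1).resolve_right g4
      rw [hb, zero_smul, add_zero, smul_eq_zero] at hab
      exact ⟨hab.resolve_right hl.ne_zero_left, hb⟩
    have i1 : LinearIndependent F ![v, u, s] := by
      apply linIndep_three
      intro a b c' habc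
      have e1 := congrArg (fun z => polar Q z v') habc
      simp only [polar_add_left, polar_smul_left, g2, sv', smul_eq_mul, mul_zero, add_zero,
        polar_zero_left] at e1
      have ha : a = 0 := (mul_eq_zero.1 e1).resolve_right g4
      rw [ha, zero_smul, zero_add] at habc
      obtain ⟨hb, hc'⟩ := LinearIndependent.pair_iff.1 hl3.indep b c' habc
      exact ⟨ha, hb, hc'⟩
    have i2 : LinearIndependent F ![s, u, v'] := by
      apply linIndep_three
      intro a b c' habc
      have e1 := congrArg (fun z => polar Q z k₃) habc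
      simp only [polar_add_left, polar_smul_left, sk, uk, polar_comm Q v' k₃, t2, smul_eq_mul,
        mul_zero, mul_one, add_zero, polar_zero_left] at e1
      rw [e1, zero_smul, zero_add] at habc
      obtain ⟨hb, hc'⟩ := LinearIndependent.pair_iff.1 hl4.indep b c' habc
      exact ⟨e1, hb, hc'⟩
    have c1 := conn_plane hQ hl.swap hl3 (by rw [polar_comm]; exact sv) i1
    have c2 := conn_plane hQ hl3.swap hl4 sv' i2
    have e3 : fixS Q u' v' = fixS Q u v' := by
      have := fixS_change Q (p := u) (r := v') (a := l) (b := 0) (c := 0) (d := 1) (by simpa using hl0)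
      rw [zero_smul, zero_smul, one_smul, add_zero, zero_add, hlu] at this
      exact this
    rw [fixS_swap Q u v, e3]
    rw [fixS_swap Q s u] at c2
    exact c1.trans c2

/-- connectedness of the graph of rank one pairs when there is a hyperbolic system of three
pairs. -/
theorem conn_main (hQ : (polarBilin Q).Nondegenerate) (e f : Fin 3 → ι → F)
    (hE : ∀ i, Q (e i) = 0) (hF : ∀ i, Q (f i) = 0)
    (hEE : ∀ i j, polar Q (e i) (e j) = 0) (hFF : ∀ i j, polar Q (f i) (f j) = 0)
    (hEF : ∀ i j, polar Q (e i) (f j) = if i = j then 1 else 0) :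
    IsConnectedFamily (FAdj (sigmaSet Q)) (sigmaSet Q) := by
  have hFE : ∀ i j, polar Q (f i) (e j) = if i = j then 1 else 0 := by
    intro i j
    rw [polar_comm, hEF]
    simp only [eq_comm]
  have hle : IsSL Q (e 0) (e 1) := by
    refine ⟨?_, hE 0, hE 1, hEE 0 1⟩
    apply linIndep_two
    intro a b hab
    have e1 := congrArg (fun z => polar Q z (f 0)) hab
    have e2 := congrArg (fun z => polar Q z (f 1)) hab
    simp only [polar_add_left, polar_smul_left, hEF, smul_eq_mul, polar_zero_left] at e1 e2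
    simp at e1 e2
    exact ⟨e1, e2⟩
  have hlf : IsSL Q (f 0) (f 1) := by
    refine ⟨?_, hF 0, hF 1, hFF 0 1⟩
    apply linIndep_two
    intro a b hab
    have e1 := congrArg (fun z => polar Q z (e 0)) hab
    have e2 := congrArg (fun z => polar Q z (e 1)) hab
    simp only [polar_add_left, polar_smul_left, hFE, smul_eq_mul, polar_zero_left] at e1 e2
    simp at e1 e2
    exact ⟨e1, e2⟩
  have hfe : Conn Q (fixS Q (f 0) (f 1)) (fixS Q (e 0) (e 1)) := by
    apply adj_of_det hQ hlf hle
    rw [hFE, hFE, hFE, hFE]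
    simp
  have key : ∀ p r : ι → F, IsSL Q p r → Conn Q (fixS Q p r) (fixS Q (e 0) (e 1)) := by
    intro p r hp
    by_cases hdet : polar Q p (e 0) * polar Q r (e 1) - polar Q p (e 1) * polar Q r (e 0) = 0
    · by_cases hm : polar Q p (e 0) = 0 ∧ polar Q p (e 1) = 0 ∧ polar Q r (e 0) = 0 ∧
          polar Q r (e 1) = 0
      · by_cases hdet' : polar Q p (f 0) * polar Q r (f 1) - polar Q p (f 1) * polar Q r (f 0) = 0
        · by_cases hm' : polar Q p (f 0) = 0 ∧ polar Q p (f 1) = 0 ∧ polar Q r (f 0) = 0 ∧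
              polar Q r (f 1) = 0
          · apply Conn.symm
            apply conn_R0 hQ hle hp (k₁ := f 0) (k₂ := f 1) ?_ ?_ ?_ ?_ hm.1 hm.2.1 hm.2.2.1
              hm.2.2.2 hm'.1 hm'.2.1 hm'.2.2.1 hm'.2.2.2
            · rw [hEF]; simp
            · rw [hEF]; simp
            · rw [hEF]; simp
            · rw [hEF]; simp
          · refine (conn_R1 hQ hp hlf (h₃ := f 2) (k₃ := e 2) (hF 2) (hFF 2 0) (hFF 2 1)
              ?_ ?_ ?_ hm' hdet').trans hfe
            · rw [hEF]; simp
            · rw [hEF]; simp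
            · rw [hFE]; simp
        · exact (adj_of_det hQ hp hlf hdet').trans hfe
      · refine conn_R1 hQ hp hle (h₃ := e 2) (k₃ := f 2) (hE 2) (hEE 2 0) (hEE 2 1) ?_ ?_ ?_ hm hdet
        · rw [hFE]; simp
        · rw [hFE]; simp
        · rw [hEF]; simp
    · exact adj_of_det hQ hp hle hdet
  intro A hA B hB
  obtain ⟨p, r, h, rfl⟩ := mem_sigmaSet.1 hA
  obtain ⟨p', r', h', rfl⟩ := mem_sigmaSet.1 hB
  exact (key p r h).trans (key p' r' h').symm

end Cfsg.Agent.Lib.Helper26.Sieg
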