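/-
helper26: Siegel transvection groups, part J: the hyperbolic quadratic form `Σ xᵢ yᵢ` of Witt index
at least three; the final statement.
-/
import Cfsg.Agent.Lib.Helper26.SiegI
import Cfsg.Agent.Lib.Helper26.SiegG
import Cfsg.Agent.Lib.Helper14.OrthPlus

set_option autoImplicit false
set_option linter.unusedSectionVars false
set_option linter.unusedSimpArgs false

namespace Cfsg.Agent.Lib.Helper26.Sieg

open Module QuadraticMap Matrix Cfsg Cfsg.Agent.Lib.Helper25 Cfsg.Agent.Lib.Helper25.CD
  Cfsg.Agent.Lib.Helper25.Siegel Cfsg.Agent.Lib.Helper14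

section bridge

variable {F : Type*} [Field F] {ι : Type*}

/-- The Mathlib quadratic form attached to an abstract quadratic form with its polar form. -/
noncomputable def qfOf' {Q : (ι → F) → F} {B : (ι → F) → (ι → F) → F} (h : IsQF Q B) :
    QuadraticForm F (ι → F) where
  toFun := Q
  toFun_smul c u := by rw [h.q_smul, smul_eq_mul]
  exists_companion' :=
    ⟨LinearMap.mk₂ F B h.b_add (fun c u w => by rw [h.b_smul, smul_eq_mul]) h.b_add_right
      (fun c u w => by rw [h.b_smul_right, smul_eq_mul]), fun u v => by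
        rw [h.polar]; rfl⟩

theorem coe_qfOf' {Q : (ι → F) → F} {B : (ι → F) → (ι → F) → F} (h : IsQF Q B) :
    ⇑(qfOf' h) = Q := rfl

theorem polar_qfOf' {Q : (ι → F) → F} {B : (ι → F) → (ι → F) → F} (h : IsQF Q B) (u v : ι → F) :
    polar (qfOf' h) u v = B u v := by
  unfold polar
  rw [coe_qfOf', h.polar]
  ring

theorem qfOf'_nondeg {Q : (ι → F) → F} {B : (ι → F) → (ι → F) → F} (h : IsQF Q B) :
    (polarBilin (qfOf' h)).Nondegenerate := by
  constructor
  · intro x hx
    by_contra hne
    obtain ⟨v, hv⟩ := h.nondeg x hne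
    apply hv
    have := hx v
    rwa [polarBilin_apply_apply, polar_qfOf'] at this
  · intro x hx
    by_contra hne
    obtain ⟨v, hv⟩ := h.nondeg x hne
    apply hv
    have := hx v
    rwa [polarBilin_apply_apply, polar_qfOf', h.b_symm] at this

end bridge

section plus

variable (F : Type*) [Field F] (n : ℕ)

/-- the hyperbolic form as a Mathlib quadratic form. -/
noncomputable def QpF : QuadraticForm F (Fin n ⊕ Fin n → F) := qfOf' (isQF_plus (F := F) (m := n))

theorem QpF_apply (v : Fin n ⊕ Fin n → F) : QpF F n v = Cfsg.quadFormPlus n F v := rfl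

theorem polar_QpF (u v : Fin n ⊕ Fin n → F) : polar (QpF F n) u v = plusPolar n F u v :=
  polar_qfOf' _ u v

theorem QpF_nondeg : (polarBilin (QpF F n)).Nondegenerate := qfOf'_nondeg _

/-- the standard singular vectors. -/
def stdE (i : Fin n) : Fin n ⊕ Fin n → F := Pi.single (Sum.inl i) 1

def stdF (i : Fin n) : Fin n ⊕ Fin n → F := Pi.single (Sum.inr i) 1

theorem Q_stdE (i : Fin n) : QpF F n (stdE F n i) = 0 := by
  rw [QpF_apply]
  unfold Cfsg.quadFormPlus stdE
  apply Finset.sum_eq_zero
  intro k _
  simp [Pi.single_apply]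

theorem Q_stdF (i : Fin n) : QpF F n (stdF F n i) = 0 := by
  rw [QpF_apply]
  unfold Cfsg.quadFormPlus stdF
  apply Finset.sum_eq_zero
  intro k _
  simp [Pi.single_apply]

theorem polar_stdE_stdE (i j : Fin n) : polar (QpF F n) (stdE F n i) (stdE F n j) = 0 := by
  rw [polar_QpF]
  unfold plusPolar stdE
  apply Finset.sum_eq_zero
  intro k _
  simp [Pi.single_apply]

theorem polar_stdF_stdF (i j : Fin n) : polar (QpF F n) (stdF F n i) (stdF F n j) = 0 := by
  rw [polar_QpF]
  unfold plusPolar stdF
  apply Finset.sum_eq_zero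
  intro k _
  simp [Pi.single_apply]

theorem polar_stdE_stdF (i j : Fin n) :
    polar (QpF F n) (stdE F n i) (stdF F n j) = if i = j then 1 else 0 := by
  rw [polar_QpF]
  unfold plusPolar stdE stdF
  simp [Pi.single_apply, Finset.sum_ite_eq]
  simp only [eq_comm]

end plus

/-- the Siegel transvection groups of the hyperbolic form of Witt index at least three. -/
theorem siegel_main (F : Type*) [Field F] (m : ℕ) :
    IsKRootSubgroupSet F ((fun A : Subgroup ↥(Cfsg.isometryGroup F ⇑(QpF F (m + 3))) =>
      A.subgroupOf (⨆ B ∈ sigmaSet (QpF F (m + 3)), B)) '' sigmaSet (QpF F (m + 3))) ∧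
    IsConnectedFamily (FAdj (sigmaSet (QpF F (m + 3)))) (sigmaSet (QpF F (m + 3))) := by
  have hQ := QpF_nondeg F (m + 3)
  constructor
  · exact kRootSet_subgroupOf (sigmaSet (QpF F (m + 3))) (sigma_comm hQ) (sigma_ne_bot hQ)
      sigma_conj (sigma_pair hQ)
  · have hinj : Function.Injective (Fin.natAdd m : Fin 3 → Fin (m + 3)) := by
      intro a b hab
      have := congrArg Fin.val hab
      simp only [Fin.natAdd_mk, Fin.val_natAdd] at this
      exact Fin.ext (by omega)
    refine conn_main hQ (fun i => stdE F (m + 3) (Fin.natAdd m i))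
      (fun i => stdF F (m + 3) (Fin.natAdd m i)) (fun i => Q_stdE F _ _) (fun i => Q_stdF F _ _)
      (fun i j => polar_stdE_stdE F _ _ _) (fun i j => polar_stdF_stdF F _ _ _) ?_
    intro i j
    rw [polar_stdE_stdF]
    by_cases hij : i = j
    · rw [if_pos hij, if_pos (by rw [hij])]
    · rw [if_neg hij, if_neg (fun e => hij (hinj e))]

end Cfsg.Agent.Lib.Helper26.Sieg
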