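import Mathlib
import Cfsg.Prelude.Def_ClassicalGeometry
import Cfsg.Prelude.Def_GeometricClasses
import Cfsg.Agent.Lib.Helper5.SpMax
import Cfsg.Agent.Lib.Helper2.SpSubDefs
import Cfsg.Agent.Lib.Helper2.SpSubBasic
import Cfsg.Agent.Lib.Helper9.SpSubT
import Cfsg.Agent.Lib.Helper18.Sp4EDefs

/-!
helper26: S5789 leaf **SF-A** `sp_le_of_dag` (helper18's market, `notes/S5789_plan.md`):
in `Sp_4(F)`, `char F = 2`, `[F : F₀]` prime: an overgroup `M` of the standard subfield group `H0 2 F₀` containing a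
transvection with rational centre and irrational parameter is all of `Sp_4(F)`.
-/

set_option autoImplicit false
set_option linter.unusedSectionVars false
set_option linter.unusedVariables false
set_option linter.unnecessarySeqFocus false

namespace Cfsg.Agent.Lib.Helper26.Sp4ELeaf
open Cfsg Matrix Cfsg.Agent.Lib.Helper5 Cfsg.Agent.Lib.Helper5.SpMax Cfsg.Agent.Lib.Helper2.SpSub
  Cfsg.Agent.Lib.Helper18.Sp4E Cfsg.Agent.Lib.Helper9.SpSubLeaf

variable {F : Type*} [Field F] [Fintype F]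

/-- in a finite subfield of characteristic two every element is a square -/
lemma exists_sq_sfa (h2 : (2 : F) = 0) (F₀ : Subfield F) {x : F} (hx : x ∈ F₀) :
    ∃ y ∈ F₀, y ^ 2 = x := by
  classical
  have hinj : Function.Injective (fun y : F₀ => y ^ 2) := by
    intro y z hyz
    have h1 : (y : F) ^ 2 = (z : F) ^ 2 := by
      have := congrArg (fun w : F₀ => (w : F)) hyz
      simpa using this
    have h3 : ((y : F) - z) ^ 2 = 0 := by
      have : ((y : F) - z) ^ 2 = (y : F) ^ 2 + (z : F) ^ 2 - 2 * ((y : F) * z) := by ring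
      rw [this, h1, h2, zero_mul, sub_zero, ← two_mul, h2, zero_mul]
    have h4 : (y : F) - z = 0 := by
      exact pow_eq_zero_iff (two_ne_zero) |>.mp h3
    exact Subtype.ext (sub_eq_zero.mp h4)
  have hsurj : Function.Surjective (fun y : F₀ => y ^ 2) := Finite.injective_iff_surjective.mp hinj
  obtain ⟨y, hy⟩ := hsurj ⟨x, hx⟩
  refine ⟨y, y.2, ?_⟩
  have := congrArg (fun w : F₀ => (w : F)) hy
  simpa using this

/-- group bookkeeping: from `X = A * B * S` with `X, A, S ∈ M` get `B ∈ M` -/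
lemma mid_mem_sfa {G : Type*} [Group G] (M : Subgroup G) {X A B S : G} (h : X = A * B * S)
    (hX : X ∈ M) (hA : A ∈ M) (hS : S ∈ M) : B ∈ M := by
  have : B = A⁻¹ * X * S⁻¹ := by rw [h]; group
  rw [this]
  exact M.mul_mem (M.mul_mem (M.inv_mem hA) hX) (M.inv_mem hS)

theorem sp_le_of_dag (h2 : (2 : F) = 0) (F₀ : Subfield F) (hp : (Module.finrank F₀ F).Prime)
    {M : Subgroup (GL (Fin 2 ⊕ Fin 2) F)} (hHM : H0 2 F₀ ≤ M) (hMS : M ≤ spGL 2 F) (hd : Dag F₀ M) :
    spGL 2 F ≤ M := by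
  classical
  obtain ⟨a, ha, ha0, c₀, hc₀, hac⟩ := hd
  have hRg : Rg 2 F₀ ≤ M := (Rg_le_H0 F₀).trans hHM
  -- transfer between rational centres
  have transfer : ∀ {u v : Fin 2 ⊕ Fin 2 → F} (c : F), RatV F₀ u → RatV F₀ v → u ≠ 0 → v ≠ 0 →
      tvc u c ∈ M → tvc v c ∈ M := by
    intro u v c hu hv hu0 hv0 h
    obtain ⟨g, hg, hguv⟩ := exists_Rg_map F₀ hu hv hu0 hv0
    have key := conj_tvc hg.1 u c
    have hguv' : (g : Matrix (Fin 2 ⊕ Fin 2) (Fin 2 ⊕ Fin 2) F) *ᵥ u = v := hguv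
    rw [hguv'] at key
    rw [← key]
    exact M.mul_mem (M.mul_mem (hRg hg) h) (M.inv_mem (hRg hg))
  set e1 : Fin 2 ⊕ Fin 2 → F := ee 0 with he1
  set e2 : Fin 2 ⊕ Fin 2 → F := ee 1 with he2
  have he1r : RatV F₀ e1 := ratV_ee 0
  have he2r : RatV F₀ e2 := ratV_ee 1
  have he10 : e1 ≠ 0 := ee_ne_zero 0
  -- the set C
  let C : F → Prop := fun c => tvc e1 c ∈ M
  have C_add : ∀ c c', C c → C c' → C (c + c') := by
    intro c c' hc hc'
    change tvc e1 (c + c') ∈ M
    rw [← tvc_mul]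
    exact M.mul_mem hc hc'
  have C_zero : C 0 := by
    change tvc e1 0 ∈ M
    rw [tvc_zero]; exact M.one_mem
  have C_neg : ∀ c, C c → C (-c) := by
    intro c hc
    change tvc e1 (-c) ∈ M
    rw [← tvc_inv]
    exact M.inv_mem hc
  have C_F0 : ∀ c ∈ F₀, C c := fun c hc => hHM (tvc_mem_H0 he1r hc)
  have C_c0 : C c₀ := transfer c₀ ha he1r ha0 he10 hac
  -- rational centres
  have rat : ∀ c, C c → ∀ v : Fin 2 ⊕ Fin 2 → F, RatV F₀ v → tvc v c ∈ M := by
    intro c hc v hv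
    by_cases hv0 : v = 0
    · rw [hv0, tvc_zero_vec]; exact M.one_mem
    · exact transfer c he1r hv he10 hv0 hc
  have C_sq : ∀ l ∈ F₀, ∀ c, C c → C (l ^ 2 * c) := by
    intro l hl c hc
    change tvc e1 (l ^ 2 * c) ∈ M
    rw [← tvc_smul]
    exact rat c hc _ (ratV_smul hl he1r)
  have C_smul : ∀ l ∈ F₀, ∀ c, C c → C (l * c) := by
    intro l hl c hc
    obtain ⟨y, hy, hyl⟩ := exists_sq_sfa h2 F₀ hl
    rw [← hyl]
    exact C_sq y hy c hc
  have S_mem : ∀ c, C c → ∀ u v : Fin 2 ⊕ Fin 2 → F, RatV F₀ u → RatV F₀ v → Sab u v c ∈ M := by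
    intro c hc u v hu hv
    unfold Sab
    exact M.mul_mem (M.mul_mem (rat c hc _ (ratV_add hu hv)) (rat (-c) (C_neg c hc) _ hu))
      (rat (-c) (C_neg c hc) _ hv)
  -- (e)
  have step_e : ∀ c d, C c → C d → C (d * c) → C (d ^ 2 * c) := by
    intro c d hc hd hdc
    have h01 : sympForm 2 F e1 (ff 1) = 0 := by
      rw [he1, B_ee_ff]; simp
    have hSM : Sab e1 (ff 1) d ∈ M := S_mem d hd _ _ he1r (ratV_ff 1)
    have hSe2 : mv (Sab e1 (ff 1) d) e2 = e2 + (-d) • e1 := by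
      rw [Sab_mulVec h01, he2, he1, B_ee_ee, B_ee_ff]
      simp
    have h21 : sympForm 2 F e2 ((-d) • e1) = 0 := by
      rw [sympForm_smul_right, he2, he1, B_ee_ee, mul_zero]
    have h21' : sympForm 2 F e2 e1 = 0 := by rw [he2, he1, B_ee_ee]
    have hX : tvc (e2 + (-d) • e1) c ∈ M := by
      have key := conj_tvc (hMS hSM) e2 c
      have : ((Sab e1 (ff 1) d : GL (Fin 2 ⊕ Fin 2) F) : Matrix (Fin 2 ⊕ Fin 2) (Fin 2 ⊕ Fin 2) F) *ᵥ e2
          = e2 + (-d) • e1 := hSe2
      rw [this] at key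
      rw [← key]
      exact M.mul_mem (M.mul_mem hSM (rat c hc _ he2r)) (M.inv_mem hSM)
    have hdecomp : tvc (e2 + (-d) • e1) c = tvc e2 c * tvc e1 (d ^ 2 * c) * Sab e2 e1 (-(d * c)) := by
      rw [tvc_add_orth h21, tvc_smul, Sab_smul_right h21']
      have e1' : (-d) ^ 2 * c = d ^ 2 * c := by ring
      have e2' : -d * c = -(d * c) := by ring
      rw [e1', e2']
    exact mid_mem_sfa M hdecomp hX (rat c hc _ he2r) (S_mem _ (C_neg _ hdc) _ _ he2r he1r)
  -- powers of c₀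
  have C_pow : ∀ n : ℕ, C (c₀ ^ n) ∧ C (c₀ ^ (n + 1)) := by
    intro n
    induction n with
    | zero =>
      refine ⟨?_, ?_⟩
      · rw [pow_zero]; exact C_F0 1 F₀.one_mem
      · rw [zero_add, pow_one]; exact C_c0
    | succ n ih =>
      refine ⟨ih.2, ?_⟩
      have := step_e (c₀ ^ n) c₀ ih.1 C_c0 (by rw [← pow_succ']; exact ih.2)
      have e : c₀ ^ 2 * c₀ ^ n = c₀ ^ (n + 1 + 1) := by ring
      rwa [e] at this
  -- polynomials in c₀
  have C_poly : ∀ p : Polynomial F₀, C (Polynomial.aeval c₀ p) := by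
    intro p
    rw [Polynomial.aeval_eq_sum_range]
    apply Finset.sum_induction _ C C_add C_zero
    intro i _
    rw [Algebra.smul_def]
    exact C_smul _ (p.coeff i).2 _ (C_pow i).1
  have C_all : ∀ c : F, C c := by
    intro c
    have hso := Subalgebra.isSimpleOrder_of_finrank_prime F₀ F hp
    have hc : c ∈ Algebra.adjoin F₀ ({c₀} : Set F) := by
      rcases eq_bot_or_eq_top (Algebra.adjoin F₀ ({c₀} : Set F)) with hbot | htop
      · exfalso
        have h1 : c₀ ∈ Algebra.adjoin F₀ ({c₀} : Set F) := Algebra.subset_adjoin (Set.mem_singleton c₀)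
        rw [hbot, Algebra.mem_bot] at h1
        obtain ⟨y, rfl⟩ := h1
        exact hc₀ y.2
      · rw [htop]; exact Algebra.mem_top
    rw [Algebra.adjoin_singleton_eq_range_aeval] at hc
    obtain ⟨p, rfl⟩ := hc
    exact C_poly p
  -- all rational vectors are in `Sset M`; so are all short root elements with rational data
  have ratS : ∀ v : Fin 2 ⊕ Fin 2 → F, RatV F₀ v → v ∈ Sset M := fun v hv c => rat c (C_all c) v hv
  have SabM : ∀ (u v : Fin 2 ⊕ Fin 2 → F) (c : F), RatV F₀ u → RatV F₀ v → Sab u v c ∈ M :=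
    fun u v c hu hv => S_mem c (C_all c) u v hu hv
  -- vectors with first coordinate one
  have norm1 : ∀ v : Fin 2 ⊕ Fin 2 → F, v (Sum.inl 0) = 1 → v ∈ Sset M := by
    intro v hv1
    have hf1e2 : sympForm 2 F (ff 0 : Fin 2 ⊕ Fin 2 → F) (ee 1) = 0 := by
      rw [B_ff_ee]; simp
    have hf1f2 : sympForm 2 F (ff 0 : Fin 2 ⊕ Fin 2 → F) (ff 1) = 0 := B_ff_ff 0 1
    set g : GL (Fin 2 ⊕ Fin 2) F :=
      tvc (ff 0) (-(v (Sum.inr 0)) - v (Sum.inl 1) * v (Sum.inr 1)) *
        (Sab (ff 0) (ff 1) (-(v (Sum.inr 1))) * Sab (ff 0) (ee 1) (-(v (Sum.inl 1)))) with hg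
    have hgM : g ∈ M :=
      M.mul_mem (ratS _ (ratV_ff 0) _)
        (M.mul_mem (SabM _ _ _ (ratV_ff 0) (ratV_ff 1)) (SabM _ _ _ (ratV_ff 0) (ratV_ee 1)))
    have hgv : mv g e1 = v := by
      rw [hg, mv_mul, mv_mul, Sab_mulVec hf1e2, he1]
      rw [B_ee_ff, B_ee_ee]
      simp only [if_true, zero_smul, add_zero]
      rw [Sab_mulVec hf1f2]
      simp only [sympForm_add_left, sympForm_smul_left, B_ee_ff]
      rw [tvc_mv]
      simp only [sympForm_add_left, sympForm_smul_left, B_ee_ff, B_ff_ff]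
      funext k
      rcases k with k | k <;> fin_cases k <;> simp [ee, ff, hv1] <;>
        first
          | ring1
          | linear_combination (v (Sum.inr 1) * v (Sum.inl 1)) * h2
    rw [← hgv]
    exact Sset_mulVec_mem hMS hgM (ratS e1 he1r)
  apply le_of_forall_mem_Sset
  intro v
  by_cases hv0 : v = 0
  · intro c; rw [hv0, tvc_zero_vec]; exact M.one_mem
  · obtain ⟨x, hx, hvx⟩ := exists_partner F₀ hv0
    have hx0 : x ≠ 0 := by
      rintro rfl
      exact hvx (sympForm_zero_right' v)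
    obtain ⟨h, hh, hhx⟩ := exists_Rg_map F₀ (ratV_ff 0) hx (by
      intro h0
      have := congrFun h0 (Sum.inr 0)
      simp [ff] at this) hx0
    -- w := h⁻¹ v has non-zero first coordinate
    set w := mv h⁻¹ v with hw
    have hw1 : w (Sum.inl 0) ≠ 0 := by
      have : sympForm 2 F w (ff 0) = sympForm 2 F v x := by
        rw [← sp_form hh.1 w (ff 0), hw, mv_mv_inv, hhx]
      rw [B_right_ff] at this
      intro h0
      rw [h0, neg_zero] at this
      exact hvx this.symm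
    have hw' : ((w (Sum.inl 0))⁻¹ • w) ∈ Sset M := by
      apply norm1
      simp [hw1]
    -- scale back
    have hwS : w ∈ Sset M := by
      intro c
      have := hw' ((w (Sum.inl 0)) ^ 2 * c)
      rw [tvc_smul] at this
      have e : ((w (Sum.inl 0))⁻¹) ^ 2 * ((w (Sum.inl 0)) ^ 2 * c) = c := by
        field_simp
      rwa [e] at this
    have hv' : v = mv h w := by rw [hw, mv_mv_inv]
    rw [hv']
    exact Sset_mulVec_mem hMS (hRg hh) hwS

end Cfsg.Agent.Lib.Helper26.Sp4ELeaf
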