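import Cfsg.Agent.Lib.Helper27.SpMDefs

/-!
helper26: SpnMax market (helper27, `notes/SpnMax_leaves.lean`), GENERIC properness leaves P1 `not_le_subspace`,
P2 `not_le_dec` (any index type, any subgroup transitive on the non-zero vectors).  Ports of helper1's `SLMP12`.
-/

set_option autoImplicit false
set_option linter.unusedSectionVars false
set_option linter.unusedVariables false

namespace Cfsg.Agent.Lib.Helper26.SpMLeaf

open Cfsg Cfsg.Geo Matrix Module Cfsg.Agent.Lib.Helper27.SpM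

variable {m : ℕ} {F : Type*} [Field F] [Fintype F]

section generic
variable {ι : Type} [Fintype ι] [DecidableEq ι] {G : Subgroup (GL ι F)}

lemma mem_subspaceStabilizer_iff26 (W : Submodule F (ι → F)) (g : GL ι F) :
    g ∈ subspaceStabilizer W ↔ ∀ v, v ∈ W ↔ (g : Matrix ι ι F) *ᵥ v ∈ W := Iff.rfl

/-- P1.  `u ∈ W`, `v ∉ W` non-zero. -/
theorem not_le_subspace (hG : TransNZ G) {W : Submodule F (ι → F)} (h0 : W ≠ ⊥) (h1 : W ≠ ⊤) :
    ¬ G ≤ subspaceStabilizer W := by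
  intro hle
  obtain ⟨u, huW, hu⟩ := (Submodule.ne_bot_iff W).mp h0
  obtain ⟨v, hvW⟩ : ∃ v, v ∉ W := by
    by_contra hcon
    simp only [not_exists, not_not] at hcon
    exact h1 (eq_top_iff.mpr fun x _ => hcon x)
  have hv : v ≠ 0 := fun h => hvW (h ▸ W.zero_mem)
  obtain ⟨g, hg, hguv⟩ := hG u v hu hv
  have := (mem_subspaceStabilizer_iff26 W g).mp (hle hg) u
  rw [hguv] at this
  exact hvW (this.mp huW)

lemma exists_ne_zero_of_mdec26 {t k : ℕ} {D : Fin t → Submodule F (ι → F)} (hD : IsMDecomposition k D)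
    (i : Fin t) : ∃ d ∈ D i, d ≠ 0 := by
  have hpos : 0 < Module.finrank F (D i) := by rw [hD.finrank_eq i]; exact hD.pos
  rw [Module.finrank_pos_iff_exists_ne_zero] at hpos
  obtain ⟨⟨d, hd⟩, hne⟩ := hpos
  exact ⟨d, hd, fun h => hne (Subtype.ext h)⟩

/-- P2.  `d₁ ∈ D 0`, `d₂ ∈ D 1` non-zero; an element of the stabiliser maps `d₁` into some `D j`; `d₁ + d₂` lies in no `D j`. -/
theorem not_le_dec (hG : TransNZ G) {t k : ℕ} {D : Fin t → Submodule F (ι → F)} (hD : IsMDecomposition k D) :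
    ¬ G ≤ decompositionStabilizer D := by
  intro hle
  have ht := hD.two_le
  set i0 : Fin t := ⟨0, by omega⟩ with hi0
  set i1 : Fin t := ⟨1, by omega⟩ with hi1
  have h01 : i0 ≠ i1 := by
    intro h
    have := congrArg Fin.val h
    simp [hi0, hi1] at this
  obtain ⟨d₁, hd₁, hd₁0⟩ := exists_ne_zero_of_mdec26 hD i0
  obtain ⟨d₂, hd₂, hd₂0⟩ := exists_ne_zero_of_mdec26 hD i1
  have hdisj : ∀ j : Fin t, ∀ x ∈ D j, ∀ l : Fin t, l ≠ j → x ∈ D l → x = 0 := by
    intro j x hxj l hlj hxl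
    have := (hD.indep.pairwiseDisjoint hlj.symm)
    exact (Submodule.disjoint_def.mp this) x hxj hxl
  have hnot : ∀ j : Fin t, d₁ + d₂ ∉ D j := by
    intro j hj
    by_cases hj0 : j = i0
    · subst hj0
      have h2 : d₂ ∈ D i0 := by
        have := (D i0).sub_mem hj hd₁
        simpa using this
      exact hd₂0 (hdisj i1 d₂ hd₂ i0 h01 h2)
    · have h1 : d₁ ∈ ⨆ l, ⨆ (_ : l ≠ i0), D l := by
        have e : d₁ = (d₁ + d₂) - d₂ := by simp
        rw [e]
        refine Submodule.sub_mem _ ?_ ?_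
        · exact Submodule.mem_iSup_of_mem j (Submodule.mem_iSup_of_mem hj0 hj)
        · exact Submodule.mem_iSup_of_mem i1 (Submodule.mem_iSup_of_mem (Ne.symm h01) hd₂)
      have := Submodule.disjoint_def.mp (hD.indep i0) d₁ hd₁ h1
      exact hd₁0 this
  have hsum : d₁ + d₂ ≠ 0 := by
    intro h
    exact hnot i0 (h ▸ (D i0).zero_mem)
  obtain ⟨g, hg, hgd⟩ := hG d₁ (d₁ + d₂) hd₁0 hsum
  obtain ⟨σ, hσ⟩ := hle hg
  have hmem : (g : Matrix ι ι F) *ᵥ d₁ ∈ D (σ i0) := by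
    rw [← hσ i0]
    exact ⟨d₁, hd₁, by rw [Matrix.toLin'_apply]⟩
  rw [hgd] at hmem
  exact hnot _ hmem

end generic

end Cfsg.Agent.Lib.Helper26.SpMLeaf
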