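import Cfsg.Agent.Lib.Helper27.SpMDefs

/-!
helper26: SpnMax market (helper27, `notes/SpnMax_leaves.lean`), GENERIC properness leaf P5 `not_le_subfield`
(any index type, any subgroup transitive on the non-zero vectors).  Port of helper27's `SLMP5`.
-/

set_option autoImplicit false
set_option linter.style.haveILetI false
set_option linter.unusedSectionVars false
set_option linter.unusedVariables false

namespace Cfsg.Agent.Lib.Helper26.SpMLeaf

open Cfsg Cfsg.Geo Matrix Module Cfsg.Agent.Lib.Helper27.SpM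

section anyfield
variable {ι : Type} [Fintype ι] [DecidableEq ι] {K : Type*} [Field K]

/-- elements of the subfield group, in matrix terms -/
theorem exists_of_mem_subfieldSubgroup26 (F₀ : Subfield K) (P g : GL ι K)
    (hg : g ∈ subfieldSubgroup F₀ P) :
    ∃ (a : GL ι F₀) (c : Kˣ), (g : Matrix ι ι K) =
      (P : Matrix ι ι K) *
        ((c : K) • (a : Matrix ι ι F₀).map (F₀.subtype : F₀ →+* K)) *
        ((P⁻¹ : GL ι K) : Matrix ι ι K) := by
  unfold subfieldSubgroup at hg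
  obtain ⟨h, hh, rfl⟩ := hg
  rw [SetLike.mem_coe, Subgroup.mem_sup_of_normal_right] at hh
  obtain ⟨y, ⟨a, rfl⟩, z, hz, rfl⟩ := hh
  rw [mem_scalars_iff] at hz
  obtain ⟨c, hc⟩ := hz
  refine ⟨a, c, ?_⟩
  change ((P * (_ * z) * P⁻¹ : GL ι K) : Matrix ι ι K) = _
  rw [Units.val_mul, Units.val_mul, Units.val_mul, hc, Matrix.mul_smul, Matrix.mul_one]
  rfl

/-- the core of P5: the subfield group preserves `{c • P v₀}`; any field -/
theorem not_le_subfield_core26 {G : Subgroup (GL ι K)} (hι : 2 ≤ Fintype.card ι) (F₀ : Subfield K)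
    (hF₀ : ∃ a : K, a ∉ F₀) (P : GL ι K)
    (htrans : ∀ u v : ι → K, u ≠ 0 → v ≠ 0 → ∃ g ∈ G, (g : Matrix ι ι K) *ᵥ u = v) :
    ¬ G ≤ subfieldSubgroup F₀ P := by
  intro hle
  obtain ⟨a, ha⟩ := hF₀
  obtain ⟨i0, i1, h01⟩ := Fintype.one_lt_card_iff.mp (by omega : 1 < Fintype.card ι)
  have hPinv : ((P⁻¹ : GL ι K) : Matrix ι ι K) * (P : Matrix ι ι K) = 1 := by
    rw [← Units.val_mul, inv_mul_cancel, Units.val_one]
  let u₀ : ι → K := Pi.single i0 1
  let w₀ : ι → K := Pi.single i0 1 + a • Pi.single i1 1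
  have hu₀ : u₀ ≠ 0 := by
    intro h
    have := congrFun h i0
    simp [u₀] at this
  have hw₀ : w₀ ≠ 0 := by
    intro h
    have := congrFun h i0
    simp [w₀, h01] at this
  have hPinj : ∀ x : ι → K, (P : Matrix ι ι K) *ᵥ x = 0 → x = 0 := by
    intro x hx
    have := congrArg (fun y => ((P⁻¹ : GL ι K) : Matrix ι ι K) *ᵥ y) hx
    simpa [Matrix.mulVec_mulVec, hPinv] using this
  have hu : (P : Matrix ι ι K) *ᵥ u₀ ≠ 0 := fun h => hu₀ (hPinj _ h)
  have hw : (P : Matrix ι ι K) *ᵥ w₀ ≠ 0 := fun h => hw₀ (hPinj _ h)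
  obtain ⟨g, hg, hgu⟩ := htrans _ _ hu hw
  obtain ⟨m, c, hm⟩ := exists_of_mem_subfieldSubgroup26 F₀ P g (hle hg)
  have h1 : ((c : K) • (m : Matrix ι ι F₀).map (F₀.subtype : F₀ →+* K)) *ᵥ u₀ = w₀ := by
    have h2 := congrArg (fun y => ((P⁻¹ : GL ι K) : Matrix ι ι K) *ᵥ y) hgu
    simp only [hm, Matrix.mulVec_mulVec] at h2
    have h3 : ((P⁻¹ : GL ι K) : Matrix ι ι K) *
        ((P : Matrix ι ι K) *
          ((c : K) • (m : Matrix ι ι F₀).map (F₀.subtype : F₀ →+* K)) *
          ((P⁻¹ : GL ι K) : Matrix ι ι K)) * (P : Matrix ι ι K) =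
        (c : K) • (m : Matrix ι ι F₀).map (F₀.subtype : F₀ →+* K) := by
      calc _ = (((P⁻¹ : GL ι K) : Matrix ι ι K) * (P : Matrix ι ι K)) *
            ((c : K) • (m : Matrix ι ι F₀).map (F₀.subtype : F₀ →+* K)) *
            (((P⁻¹ : GL ι K) : Matrix ι ι K) * (P : Matrix ι ι K)) := by
              simp only [mul_assoc]
        _ = _ := by rw [hPinv, one_mul, mul_one]
    rw [← mul_assoc, h3, hPinv, Matrix.one_mulVec] at h2
    exact h2
  have e0 := congrFun h1 i0
  have e1 := congrFun h1 i1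
  simp only [u₀, w₀, Matrix.mulVec_single_one, Matrix.col_apply, Matrix.smul_apply, Matrix.map_apply,
    Pi.add_apply, Pi.smul_apply, Pi.single_eq_same, Pi.single_eq_of_ne h01, Pi.single_eq_of_ne h01.symm,
    smul_eq_mul, mul_zero, add_zero, mul_one, zero_add, Subfield.coe_subtype] at e0 e1
  apply ha
  have hm00 : ((m : Matrix ι ι F₀) i0 i0 : K) ≠ 0 := by
    intro h0
    rw [h0, mul_zero] at e0
    exact zero_ne_one e0
  have hval : a = ((m : Matrix ι ι F₀) i1 i0 : K) / ((m : Matrix ι ι F₀) i0 i0 : K) := by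
    rw [eq_div_iff hm00, ← e1]
    have : (c : K) = 1 / ((m : Matrix ι ι F₀) i0 i0 : K) := by
      rw [eq_div_iff hm00]; exact e0
    rw [this]; field_simp
  rw [hval]
  exact F₀.div_mem (SetLike.coe_mem _) (SetLike.coe_mem _)

end anyfield

variable {m : ℕ} {F : Type*} [Field F] [Fintype F]

section generic
variable {ι : Type} [Fintype ι] [DecidableEq ι] {G : Subgroup (GL ι F)}

/-- P5.  The subfield group preserves the set `{c • P v₀ | v₀ with entries in F₀}`; for `|ι| ≥ 2` and `F₀ ≠ F` it is not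
everything. -/
theorem not_le_subfield (hG : TransNZ G) (hι : 2 ≤ Fintype.card ι) (F₀ : Subfield F) {r : ℕ} (hr : r.Prime)
    (hcard : Fintype.card F = Nat.card F₀ ^ r) (P : GL ι F) :
    ¬ G ≤ subfieldSubgroup F₀ P := by
  apply not_le_subfield_core26 hι F₀ ?_ P hG
  by_contra hcon
  push Not at hcon
  have htop : F₀ = ⊤ := by
    rw [eq_top_iff]; intro x _; exact hcon x
  rw [htop] at hcard
  have h1 : Nat.card (⊤ : Subfield F) = Fintype.card F := by
    rw [← Nat.card_eq_fintype_card]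
    exact Nat.card_congr (Subfield.topEquiv (K := F)).toEquiv
  rw [h1] at hcard
  have h2 : 1 < Fintype.card F := Fintype.one_lt_card
  have h3 : Fintype.card F ^ 1 < Fintype.card F ^ r := Nat.pow_lt_pow_right h2 hr.one_lt
  rw [pow_one] at h3
  omega

end generic

end Cfsg.Agent.Lib.Helper26.SpMLeaf
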