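import Cfsg.Agent.Lib.Helper27.SpMDefs
import Cfsg.Agent.Lib.Helper5.Symp

/-!
helper26: SpnMax stage 2 market (helper27, `notes/SpnMax_stage2_leaves.lean`), leaf S4a `lagr_pair_three`:
for `q = 3` the stabiliser in `Sp_4(3)` of a pair of complementary Lagrangians `W, W'` permutes the two graphs
`Γ_c = ⟨w₁ - c w₂', w₂ + c w₁'⟩`, `c = ±1`, a non-degenerate 2-decomposition.
Route: `S = {u + u' | u ∈ W, u' ∈ W', f u u' = 0}` is invariant; `S ⊆ W ∪ W' ∪ Γ₁ ∪ Γ₋₁` (only for `q = 3`).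
-/

set_option autoImplicit false
set_option linter.unusedSectionVars false
set_option linter.unusedVariables false

namespace Cfsg.Agent.Lib.Helper26.SpMLeaf

open Cfsg Cfsg.Geo Matrix Module Cfsg.Agent.Lib.Helper27.SpM
open Cfsg.Agent.Lib.Helper5

variable {F : Type*} [Field F] [Fintype F]

/-! ### the field with three elements -/

lemma three_eq_zero26 (hq : Fintype.card F = 3) : (3 : F) = 0 := by
  have := Nat.cast_card_eq_zero F
  rw [hq] at this
  exact_mod_cast this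

lemma two_ne_zero26 (hq : Fintype.card F = 3) : (2 : F) ≠ 0 := by
  intro h
  have h3 := three_eq_zero26 hq
  have : (1 : F) = 0 := by linear_combination h3 - h
  exact one_ne_zero this

lemma eq_one_or_neg_one26 (hq : Fintype.card F = 3) (c : F) (hc : c ≠ 0) : c = 1 ∨ c = -1 := by
  have h2 := FiniteField.pow_card_sub_one_eq_one c hc
  rw [hq] at h2
  have h : (c - 1) * (c + 1) = 0 := by
    have : c ^ 2 = 1 := h2
    linear_combination this
  rcases mul_eq_zero.1 h with h | h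
  · left; linear_combination h
  · right; linear_combination h

/-! ### a dual pair of bases of two complementary Lagrangians -/

/-- `w₁ w₂` span `W`, `w₁' w₂'` span `W'`, both totally isotropic, `f(w_i, w_j') = δ_ij` -/
structure LagrData26 (W W' : Submodule F (Fin 2 ⊕ Fin 2 → F)) (w₁ w₂ w₁' w₂' : Fin 2 ⊕ Fin 2 → F) : Prop where
  m1 : w₁ ∈ W
  m2 : w₂ ∈ W
  m1' : w₁' ∈ W'
  m2' : w₂' ∈ W'
  isoW : ∀ u ∈ W, ∀ v ∈ W, sympForm 2 F u v = 0
  isoW' : ∀ u ∈ W', ∀ v ∈ W', sympForm 2 F u v = 0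
  p11 : sympForm 2 F w₁ w₁' = 1
  p12 : sympForm 2 F w₁ w₂' = 0
  p21 : sympForm 2 F w₂ w₁' = 0
  p22 : sympForm 2 F w₂ w₂' = 1
  spanW : ∀ u ∈ W, u = sympForm 2 F u w₁' • w₁ + sympForm 2 F u w₂' • w₂
  spanW' : ∀ u' ∈ W', u' = sympForm 2 F w₁ u' • w₁' + sympForm 2 F w₂ u' • w₂'

/-- `w ↦ f(v, w)` as a linear functional -/
def phi26 (v : Fin 2 ⊕ Fin 2 → F) : (Fin 2 ⊕ Fin 2 → F) →ₗ[F] F where
  toFun w := sympForm 2 F v w
  map_add' x y := sympForm_add_right v x y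
  map_smul' c w := by simp [sympForm_smul_right]

lemma sup_eq_top_of_mdec26 {D : Fin 2 → Submodule F (Fin 2 ⊕ Fin 2 → F)} (hD : IsMDecomposition 2 D) :
    D 0 ⊔ D 1 = ⊤ := by
  apply le_antisymm le_top
  rw [← hD.iSup_eq_top]
  apply iSup_le
  intro i
  fin_cases i
  · exact le_sup_left
  · exact le_sup_right

theorem exists_lagrData26 {D : Fin 2 → Submodule F (Fin 2 ⊕ Fin 2 → F)}
    (hD : IsMDecomposition 2 D) (hts : ∀ i, IsTotallySingularFor (sympForm 2 F) (D i)) :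
    ∃ w₁ w₂ w₁' w₂', LagrData26 (D 0) (D 1) w₁ w₂ w₁' w₂' := by
  classical
  have hfr0 : finrank F (D 0) = 2 := hD.finrank_eq 0
  have hfr1 : finrank F (D 1) = 2 := hD.finrank_eq 1
  let b := Module.finBasisOfFinrankEq F (D 0) hfr0
  -- expansion in `D 0`
  have hexp : ∀ u ∈ D 0, ∃ r0 r1 : F, u = r0 • (b 0 : Fin 2 ⊕ Fin 2 → F) + r1 • (b 1 : Fin 2 ⊕ Fin 2 → F) := by
    intro u hu
    refine ⟨b.repr ⟨u, hu⟩ 0, b.repr ⟨u, hu⟩ 1, ?_⟩
    have h := b.sum_repr ⟨u, hu⟩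
    rw [Fin.sum_univ_two] at h
    have h2 := congrArg Subtype.val h
    simpa using h2.symm
  -- the pairing map `D 1 → F²`
  let L : (D 1) →ₗ[F] (Fin 2 → F) :=
    LinearMap.pi (fun i => (phi26 (b i : Fin 2 ⊕ Fin 2 → F)).comp (D 1).subtype)
  have hL : ∀ (x : D 1) (i : Fin 2), L x i = sympForm 2 F (b i : Fin 2 ⊕ Fin 2 → F) (x : Fin 2 ⊕ Fin 2 → F) := by
    intro x i
    rfl
  have hLinj : Function.Injective L := by
    rw [← LinearMap.ker_eq_bot, LinearMap.ker_eq_bot']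
    intro x hx
    have h0 : sympForm 2 F (b 0 : Fin 2 ⊕ Fin 2 → F) (x : Fin 2 ⊕ Fin 2 → F) = 0 := by
      rw [← hL x 0, hx]; rfl
    have h1 : sympForm 2 F (b 1 : Fin 2 ⊕ Fin 2 → F) (x : Fin 2 ⊕ Fin 2 → F) = 0 := by
      rw [← hL x 1, hx]; rfl
    by_contra hne
    have hx0 : (x : Fin 2 ⊕ Fin 2 → F) ≠ 0 := fun h => hne (Subtype.ext h)
    obtain ⟨a, ha⟩ := sympForm_nondeg (x : Fin 2 ⊕ Fin 2 → F) hx0
    apply ha
    have hmem : a ∈ D 0 ⊔ D 1 := by rw [sup_eq_top_of_mdec26 hD]; trivial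
    obtain ⟨y, hy, y', hy', rfl⟩ := Submodule.mem_sup.1 hmem
    obtain ⟨r0, r1, rfl⟩ := hexp y hy
    rw [sympForm_swap, sympForm_add_left, sympForm_add_left, sympForm_smul_left, sympForm_smul_left, h0, h1,
      hts 1 y' hy' x x.2]
    simp
  have hLsurj : Function.Surjective L := by
    have hfin : finrank F (D 1) = finrank F (Fin 2 → F) := by rw [hfr1, Module.finrank_fin_fun]
    exact (LinearMap.injective_iff_surjective_of_finrank_eq_finrank hfin).1 hLinj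
  obtain ⟨x1, hx1⟩ := hLsurj (Pi.single 0 1)
  obtain ⟨x2, hx2⟩ := hLsurj (Pi.single 1 1)
  have p11 : sympForm 2 F (b 0 : Fin 2 ⊕ Fin 2 → F) (x1 : Fin 2 ⊕ Fin 2 → F) = 1 := by
    rw [← hL x1 0, hx1]; simp
  have p21 : sympForm 2 F (b 1 : Fin 2 ⊕ Fin 2 → F) (x1 : Fin 2 ⊕ Fin 2 → F) = 0 := by
    rw [← hL x1 1, hx1]; simp
  have p12 : sympForm 2 F (b 0 : Fin 2 ⊕ Fin 2 → F) (x2 : Fin 2 ⊕ Fin 2 → F) = 0 := by
    rw [← hL x2 0, hx2]; simp
  have p22 : sympForm 2 F (b 1 : Fin 2 ⊕ Fin 2 → F) (x2 : Fin 2 ⊕ Fin 2 → F) = 1 := by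
    rw [← hL x2 1, hx2]; simp
  refine ⟨b 0, b 1, x1, x2, (b 0).2, (b 1).2, x1.2, x2.2, hts 0, hts 1, p11, p12, p21, p22, ?_, ?_⟩
  · intro u hu
    obtain ⟨r0, r1, rfl⟩ := hexp u hu
    simp only [sympForm_add_left, sympForm_smul_left, p11, p12, p21, p22]
    simp
  · intro u' hu'
    have : (⟨u', hu'⟩ : D 1) = sympForm 2 F (b 0 : Fin 2 ⊕ Fin 2 → F) u' • x1 +
        sympForm 2 F (b 1 : Fin 2 ⊕ Fin 2 → F) u' • x2 := by
      apply hLinj
      funext i
      rw [map_add, map_smul, map_smul, hx1, hx2]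
      fin_cases i
      · simp [hL]
      · simp [hL]
    have h2 := congrArg Subtype.val this
    simpa using h2

/-! ### the two graphs -/

section data
variable {W W' : Submodule F (Fin 2 ⊕ Fin 2 → F)} {w₁ w₂ w₁' w₂' : Fin 2 ⊕ Fin 2 → F}

namespace LagrData26

variable (h : LagrData26 W W' w₁ w₂ w₁' w₂')
include h

lemma s11 : sympForm 2 F w₁ w₁ = 0 := sympForm_self 2 w₁
lemma s12 : sympForm 2 F w₁ w₂ = 0 := h.isoW _ h.m1 _ h.m2
lemma s21 : sympForm 2 F w₂ w₁ = 0 := h.isoW _ h.m2 _ h.m1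
lemma s22 : sympForm 2 F w₂ w₂ = 0 := sympForm_self 2 w₂
lemma t11 : sympForm 2 F w₁' w₁' = 0 := sympForm_self 2 w₁'
lemma t12 : sympForm 2 F w₁' w₂' = 0 := h.isoW' _ h.m1' _ h.m2'
lemma t21 : sympForm 2 F w₂' w₁' = 0 := h.isoW' _ h.m2' _ h.m1'
lemma t22 : sympForm 2 F w₂' w₂' = 0 := sympForm_self 2 w₂'
lemma q11 : sympForm 2 F w₁' w₁ = -1 := by rw [sympForm_swap, h.p11]
lemma q12 : sympForm 2 F w₁' w₂ = 0 := by rw [sympForm_swap, h.p21, neg_zero]
lemma q21 : sympForm 2 F w₂' w₁ = 0 := by rw [sympForm_swap, h.p12, neg_zero]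
lemma q22 : sympForm 2 F w₂' w₂ = -1 := by rw [sympForm_swap, h.p22]

end LagrData26

/-- the graph `Γ_c = ⟨w₁ - c w₂', w₂ + c w₁'⟩` -/
def Gam26 (w₁ w₂ w₁' w₂' : Fin 2 ⊕ Fin 2 → F) (c : F) : Submodule F (Fin 2 ⊕ Fin 2 → F) :=
  Submodule.span F {w₁ - c • w₂', w₂ + c • w₁'}

lemma mem_Gam26 (c : F) (x : Fin 2 ⊕ Fin 2 → F) :
    x ∈ Gam26 w₁ w₂ w₁' w₂' c ↔ ∃ α β : F, α • (w₁ - c • w₂') + β • (w₂ + c • w₁') = x :=
  Submodule.mem_span_pair

/-- the form on two general combinations -/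
lemma form_comb26 (h : LagrData26 W W' w₁ w₂ w₁' w₂') (c c' α β α' β' : F) :
    sympForm 2 F (α • (w₁ - c • w₂') + β • (w₂ + c • w₁')) (α' • (w₁ - c' • w₂') + β' • (w₂ + c' • w₁')) =
      (c + c') * (α * β' - β * α') := by
  simp only [sympForm_add_left, sympForm_add_right, sympForm_sub_left, sympForm_sub_right, sympForm_smul_left,
    sympForm_smul_right, h.s11, h.s12, h.s21, h.s22, h.t11, h.t12, h.t21, h.t22, h.q11, h.q12, h.q21, h.q22,
    h.p11, h.p12, h.p21, h.p22]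
  ring

lemma orth_Gam26 (h : LagrData26 W W' w₁ w₂ w₁' w₂') (c : F) :
    AreOrthogonalFor (sympForm 2 F) (Gam26 w₁ w₂ w₁' w₂' c) (Gam26 w₁ w₂ w₁' w₂' (-c)) := by
  intro u hu v hv
  obtain ⟨α, β, rfl⟩ := (mem_Gam26 c u).1 hu
  obtain ⟨α', β', rfl⟩ := (mem_Gam26 (-c) v).1 hv
  rw [form_comb26 h]
  ring

lemma nondeg_Gam26 (h : LagrData26 W W' w₁ w₂ w₁' w₂') (h2 : (2 : F) ≠ 0) (c : F) (hc : c ≠ 0) :
    IsNondegenerateOn (sympForm 2 F) (Gam26 w₁ w₂ w₁' w₂' c) := by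
  have key : ∀ w ∈ Gam26 w₁ w₂ w₁' w₂' c, w ≠ 0 → ∃ x ∈ Gam26 w₁ w₂ w₁' w₂' c, sympForm 2 F x w ≠ 0 := by
    intro w hw hw0
    obtain ⟨α, β, rfl⟩ := (mem_Gam26 c w).1 hw
    by_cases hβ : β = 0
    · have hα : α ≠ 0 := by
        rintro rfl
        apply hw0
        rw [hβ]
        simp
      refine ⟨(0 : F) • (w₁ - c • w₂') + (1 : F) • (w₂ + c • w₁'), (mem_Gam26 c _).2 ⟨0, 1, rfl⟩, ?_⟩
      rw [form_comb26 h]
      have : (c + c) * (0 * β - 1 * α) = -(2 * c * α) := by ring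
      rw [this]
      exact neg_ne_zero.2 (mul_ne_zero (mul_ne_zero h2 hc) hα)
    · refine ⟨(1 : F) • (w₁ - c • w₂') + (0 : F) • (w₂ + c • w₁'), (mem_Gam26 c _).2 ⟨1, 0, rfl⟩, ?_⟩
      rw [form_comb26 h]
      have : (c + c) * (1 * β - 0 * α) = 2 * c * β := by ring
      rw [this]
      exact mul_ne_zero (mul_ne_zero h2 hc) hβ
  intro w hw hw0
  obtain ⟨x, hx, hxw⟩ := key w hw hw0
  refine ⟨⟨x, hx, hxw⟩, ⟨x, hx, ?_⟩⟩
  rw [sympForm_swap]
  exact neg_ne_zero.2 hxw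

lemma disjoint_Gam26 (h : LagrData26 W W' w₁ w₂ w₁' w₂') (h2 : (2 : F) ≠ 0) (c : F) (hc : c ≠ 0) :
    Disjoint (Gam26 w₁ w₂ w₁' w₂' c) (Gam26 w₁ w₂ w₁' w₂' (-c)) := by
  rw [Submodule.disjoint_def]
  intro x hx hx'
  by_contra hx0
  obtain ⟨⟨y, hy, hyx⟩, -⟩ := nondeg_Gam26 h h2 c hc x hx hx0
  exact hyx (orth_Gam26 h c y hy x hx')

lemma finrank_Gam26 (h : LagrData26 W W' w₁ w₂ w₁' w₂') (h2 : (2 : F) ≠ 0) (c : F) (hc : c ≠ 0) :
    finrank F (Gam26 w₁ w₂ w₁' w₂' c) = 2 := by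
  have hli : LinearIndependent F ![w₁ - c • w₂', w₂ + c • w₁'] := by
    rw [LinearIndependent.pair_iff]
    intro s t hst
    have h1 := form_comb26 h c c 1 0 s t
    have h3 := form_comb26 h c c 0 1 s t
    rw [hst, sympForm_swap, sympForm_zero_left, neg_zero] at h1 h3
    have hcc : c + c ≠ 0 := by
      have : c + c = 2 * c := by ring
      rw [this]
      exact mul_ne_zero h2 hc
    constructor
    · have : (c + c) * s = 0 := by linear_combination h3
      exact (mul_eq_zero.1 this).resolve_left hcc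
    · have : (c + c) * t = 0 := by linear_combination -h1
      exact (mul_eq_zero.1 this).resolve_left hcc
  have hr : Set.range ![w₁ - c • w₂', w₂ + c • w₁'] = {w₁ - c • w₂', w₂ + c • w₁'} := by
    ext x
    simp only [Set.mem_range, Set.mem_insert_iff, Set.mem_singleton_iff]
    constructor
    · rintro ⟨i, rfl⟩
      fin_cases i
      · left; rfl
      · right; rfl
    · rintro (rfl | rfl)
      · exact ⟨0, rfl⟩
      · exact ⟨1, rfl⟩
  have := finrank_span_eq_card hli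
  rw [hr] at this
  rw [Gam26, this]
  simp

/-- KEY (only for `q = 3`): a "singular" sum `u + u'` with both parts non-zero lies on one of the two graphs -/
lemma mem_Gam_of_sing26 (hq : Fintype.card F = 3) (h : LagrData26 W W' w₁ w₂ w₁' w₂')
    (u u' : Fin 2 ⊕ Fin 2 → F) (hu : u ∈ W) (hu' : u' ∈ W') (hu0 : u ≠ 0) (hu'0 : u' ≠ 0)
    (hf : sympForm 2 F u u' = 0) :
    u + u' ∈ Gam26 w₁ w₂ w₁' w₂' 1 ∨ u + u' ∈ Gam26 w₁ w₂ w₁' w₂' (-1) := by
  set α := sympForm 2 F u w₁' with hα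
  set β := sympForm 2 F u w₂' with hβ
  set γ := sympForm 2 F w₁ u' with hγ
  set δ := sympForm 2 F w₂ u' with hδ
  have eu : u = α • w₁ + β • w₂ := h.spanW u hu
  have eu' : u' = γ • w₁' + δ • w₂' := h.spanW' u' hu'
  have hrel : α * γ + β * δ = 0 := by
    have := hf
    rw [eu, sympForm_add_left, sympForm_smul_left, sympForm_smul_left] at this
    exact this
  have hαβ : ¬ (α = 0 ∧ β = 0) := by
    rintro ⟨h1, h2⟩
    apply hu0
    rw [eu, h1, h2]
    simp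
  have hγδ : ¬ (γ = 0 ∧ δ = 0) := by
    rintro ⟨h1, h2⟩
    apply hu'0
    rw [eu', h1, h2]
    simp
  obtain ⟨c, hc0, hc1, hc2⟩ : ∃ c : F, c ≠ 0 ∧ γ = c * β ∧ δ = -(c * α) := by
    by_cases hα0 : α = 0
    · have hβ0 : β ≠ 0 := fun hb => hαβ ⟨hα0, hb⟩
      have hδ0 : δ = 0 := by
        rw [hα0, zero_mul, zero_add] at hrel
        exact (mul_eq_zero.1 hrel).resolve_left hβ0
      have hγ0 : γ ≠ 0 := fun hg => hγδ ⟨hg, hδ0⟩
      refine ⟨γ / β, div_ne_zero hγ0 hβ0, ?_, ?_⟩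
      · field_simp
      · rw [hδ0, hα0]; simp
    · refine ⟨-δ / α, ?_, ?_, ?_⟩
      · intro hc
        have hδ0 : δ = 0 := by
          have := (div_eq_zero_iff.1 hc).resolve_right hα0
          simpa using this
        have hγ0 : γ = 0 := by
          rw [hδ0, mul_zero, add_zero] at hrel
          exact (mul_eq_zero.1 hrel).resolve_left hα0
        exact hγδ ⟨hγ0, hδ0⟩
      · field_simp
        linear_combination hrel
      · field_simp
  have hmem : ∀ c' : F, c' = c → u + u' ∈ Gam26 w₁ w₂ w₁' w₂' c' := by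
    rintro c' rfl
    refine (mem_Gam26 c' _).2 ⟨α, β, ?_⟩
    rw [eu, eu', hc1, hc2]
    module
  rcases eq_one_or_neg_one26 hq c hc0 with hc | hc
  · left; exact hmem 1 hc.symm
  · right; exact hmem (-1) hc.symm

end data

/-! ### generic: membership in the stabiliser of an injective family -/

section generic
variable {ι : Type} [Fintype ι] [DecidableEq ι]

lemma toLin'_injective26 (g : GL ι F) : Function.Injective (Matrix.toLin' (g : Matrix ι ι F)) := by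
  intro u v h
  have h2 := congrArg (Matrix.toLin' ((g⁻¹ : GL ι F) : Matrix ι ι F)) h
  rw [← LinearMap.comp_apply, ← LinearMap.comp_apply, ← Matrix.toLin'_mul, ← Units.val_mul, inv_mul_cancel,
    Units.val_one, Matrix.toLin'_one] at h2
  exact h2

theorem mem_decStab_of_maps26 {t : ℕ} {D : Fin t → Submodule F (ι → F)} (hinj : Function.Injective D) (g : GL ι F)
    (h : ∀ k, ∃ l, (D k).map (Matrix.toLin' (g : Matrix ι ι F)) = D l) : g ∈ decompositionStabilizer D := by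
  choose τ hτ using h
  have hτinj : Function.Injective τ := by
    intro k k' hkk
    apply hinj
    have h1 : (D k).map (Matrix.toLin' (g : Matrix ι ι F)) = (D k').map (Matrix.toLin' (g : Matrix ι ι F)) := by
      rw [hτ k, hτ k', hkk]
    exact Submodule.map_injective_of_injective (toLin'_injective26 g) h1
  refine ⟨Equiv.ofBijective τ (Finite.injective_iff_bijective.mp hτinj), fun i => ?_⟩
  rw [Equiv.ofBijective_apply]
  exact hτ i

end generic

/-- S4a (exact signature of `notes/SpnMax_stage2_leaves.lean`) -/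
theorem lagr_pair_three (hq : Fintype.card F = 3) {D : Fin 2 → Submodule F (Fin 2 ⊕ Fin 2 → F)}
    (hD : IsMDecomposition 2 D) (hts : ∀ i, IsTotallySingularFor (sympForm 2 F) (D i)) :
    ∃ D' : Fin 2 → Submodule F (Fin 2 ⊕ Fin 2 → F), IsNondegenerateMDecomposition (sympForm 2 F) 2 D' ∧
      decompositionStabilizer D ⊓ spGL 2 F ≤ decompositionStabilizer D' := by
  classical
  obtain ⟨w₁, w₂, w₁', w₂', h⟩ := exists_lagrData26 hD hts
  have h2 := two_ne_zero26 hq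
  have hm1 : (-1 : F) ≠ 0 := neg_ne_zero.2 one_ne_zero
  have hdisj : Disjoint (Gam26 w₁ w₂ w₁' w₂' 1) (Gam26 w₁ w₂ w₁' w₂' (-1)) := disjoint_Gam26 h h2 1 one_ne_zero
  have hfr1 := finrank_Gam26 h h2 1 one_ne_zero
  have hfr2 := finrank_Gam26 h h2 (-1) hm1
  have hne : Gam26 w₁ w₂ w₁' w₂' 1 ≠ Gam26 w₁ w₂ w₁' w₂' (-1) := by
    intro he
    rw [← he, disjoint_self] at hdisj
    rw [hdisj, finrank_bot] at hfr1
    omega
  refine ⟨![Gam26 w₁ w₂ w₁' w₂' 1, Gam26 w₁ w₂ w₁' w₂' (-1)], ⟨⟨le_refl 2, by norm_num, ?_, ?_, ?_⟩, ?_, ?_⟩, ?_⟩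
  · intro i
    fin_cases i
    · exact hfr1
    · exact hfr2
  · rw [iSupIndep_pair (i := (0 : Fin 2)) (j := (1 : Fin 2)) (by decide)
      (by intro k; fin_cases k; left; rfl; right; rfl)]
    exact hdisj
  · have hsup : Gam26 w₁ w₂ w₁' w₂' 1 ⊔ Gam26 w₁ w₂ w₁' w₂' (-1) = ⊤ := by
      apply Submodule.eq_top_of_finrank_eq
      have := Submodule.finrank_sup_add_finrank_inf_eq (Gam26 w₁ w₂ w₁' w₂' 1) (Gam26 w₁ w₂ w₁' w₂' (-1))
      rw [hdisj.eq_bot, finrank_bot, hfr1, hfr2] at this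
      rw [Module.finrank_fintype_fun_eq_card]
      simp only [Fintype.card_sum, Fintype.card_fin]
      omega
    apply le_antisymm le_top
    rw [← hsup]
    exact sup_le (le_iSup (![Gam26 w₁ w₂ w₁' w₂' 1, Gam26 w₁ w₂ w₁' w₂' (-1)]) 0)
      (le_iSup (![Gam26 w₁ w₂ w₁' w₂' 1, Gam26 w₁ w₂ w₁' w₂' (-1)]) 1)
  · intro i
    fin_cases i
    · exact nondeg_Gam26 h h2 1 one_ne_zero
    · exact nondeg_Gam26 h h2 (-1) hm1
  · intro i j hij
    fin_cases i <;> fin_cases j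
    · exact absurd rfl hij
    · exact orth_Gam26 h 1
    · have := orth_Gam26 h (-1)
      rw [neg_neg] at this
      exact this
    · exact absurd rfl hij
  · rintro g ⟨⟨σ, hσ⟩, hsp⟩
    have hiso : ∀ x y : Fin 2 ⊕ Fin 2 → F, sympForm 2 F ((g : Matrix (Fin 2 ⊕ Fin 2) (Fin 2 ⊕ Fin 2) F) *ᵥ x) ((g : Matrix (Fin 2 ⊕ Fin 2) (Fin 2 ⊕ Fin 2) F) *ᵥ y) =
        sympForm 2 F x y := hsp
    have hmap : ∀ (i : Fin 2) (x : Fin 2 ⊕ Fin 2 → F), x ∈ D i → (g : Matrix (Fin 2 ⊕ Fin 2) (Fin 2 ⊕ Fin 2) F) *ᵥ x ∈ D (σ i) := by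
      intro i x hx
      rw [← hσ i]
      exact ⟨x, hx, by rw [Matrix.toLin'_apply]⟩
    have hginj : ∀ x : Fin 2 ⊕ Fin 2 → F, (g : Matrix (Fin 2 ⊕ Fin 2) (Fin 2 ⊕ Fin 2) F) *ᵥ x = 0 → x = 0 := by
      intro x hx
      apply toLin'_injective26 g
      rw [Matrix.toLin'_apply, hx, map_zero]
    have hσ01 : (σ 0 = 0 ∧ σ 1 = 1) ∨ (σ 0 = 1 ∧ σ 1 = 0) := by
      have hne' : σ 0 ≠ σ 1 := fun h' => by
        have := σ.injective h'
        exact absurd this (by decide)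
      have h0 := (σ 0).isLt
      have h1 := (σ 1).isLt
      have hv : (σ 0).val ≠ (σ 1).val := fun h' => hne' (Fin.ext h')
      by_cases h00 : (σ 0).val = 0
      · left
        exact ⟨Fin.ext h00, Fin.ext (by simp only [Fin.val_one]; omega)⟩
      · right
        exact ⟨Fin.ext (by simp only [Fin.val_one]; omega), Fin.ext (by simp only [Fin.val_zero]; omega)⟩
    have key : ∀ c : F, c ≠ 0 → ∀ x ∈ Gam26 w₁ w₂ w₁' w₂' c,
        (g : Matrix (Fin 2 ⊕ Fin 2) (Fin 2 ⊕ Fin 2) F) *ᵥ x ∈ Gam26 w₁ w₂ w₁' w₂' 1 ∨ (g : Matrix (Fin 2 ⊕ Fin 2) (Fin 2 ⊕ Fin 2) F) *ᵥ x ∈ Gam26 w₁ w₂ w₁' w₂' (-1) := by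
      intro c hc x hx
      obtain ⟨α, β, rfl⟩ := (mem_Gam26 c x).1 hx
      by_cases hαβ : α = 0 ∧ β = 0
      · left
        rw [hαβ.1, hαβ.2, zero_smul, zero_smul, add_zero, Matrix.mulVec_zero]
        exact Submodule.zero_mem _
      have hxe : α • (w₁ - c • w₂') + β • (w₂ + c • w₁') =
          (α • w₁ + β • w₂) + ((c * β) • w₁' - (c * α) • w₂') := by module
      have hu : α • w₁ + β • w₂ ∈ D 0 :=
        Submodule.add_mem _ (Submodule.smul_mem _ _ h.m1) (Submodule.smul_mem _ _ h.m2)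
      have hu' : (c * β) • w₁' - (c * α) • w₂' ∈ D 1 :=
        Submodule.sub_mem _ (Submodule.smul_mem _ _ h.m1') (Submodule.smul_mem _ _ h.m2')
      have hu0 : α • w₁ + β • w₂ ≠ 0 := by
        intro h0
        have ha : sympForm 2 F (α • w₁ + β • w₂) w₁' = α := by
          rw [sympForm_add_left, sympForm_smul_left, sympForm_smul_left, h.p11, h.p21]; ring
        have hb : sympForm 2 F (α • w₁ + β • w₂) w₂' = β := by
          rw [sympForm_add_left, sympForm_smul_left, sympForm_smul_left, h.p12, h.p22]; ring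
        rw [h0, sympForm_zero_left] at ha hb
        exact hαβ ⟨ha.symm, hb.symm⟩
      have hu'0 : (c * β) • w₁' - (c * α) • w₂' ≠ 0 := by
        intro h0
        have ha : sympForm 2 F ((c * β) • w₁' - (c * α) • w₂') w₁ = -(c * β) := by
          rw [sympForm_sub_left, sympForm_smul_left, sympForm_smul_left, h.q11, h.q21]; ring
        have hb : sympForm 2 F ((c * β) • w₁' - (c * α) • w₂') w₂ = c * α := by
          rw [sympForm_sub_left, sympForm_smul_left, sympForm_smul_left, h.q12, h.q22]; ring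
        rw [h0, sympForm_zero_left] at ha hb
        apply hαβ
        constructor
        · exact (mul_eq_zero.1 hb.symm).resolve_left hc
        · have : c * β = 0 := by linear_combination ha
          exact (mul_eq_zero.1 this).resolve_left hc
      have hf : sympForm 2 F (α • w₁ + β • w₂) ((c * β) • w₁' - (c * α) • w₂') = 0 := by
        simp only [sympForm_add_left, sympForm_sub_right, sympForm_smul_left, sympForm_smul_right, h.p11, h.p12,
          h.p21, h.p22]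
        ring
      rw [hxe, Matrix.mulVec_add]
      rcases hσ01 with ⟨e0, e1⟩ | ⟨e0, e1⟩
      · have m0 := hmap 0 _ hu
        rw [e0] at m0
        have m1 := hmap 1 _ hu'
        rw [e1] at m1
        exact mem_Gam_of_sing26 hq h _ _ m0 m1 (fun e => hu0 (hginj _ e)) (fun e => hu'0 (hginj _ e))
          (by rw [hiso]; exact hf)
      · have m0 := hmap 0 _ hu
        rw [e0] at m0
        have m1 := hmap 1 _ hu'
        rw [e1] at m1
        rw [add_comm]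
        exact mem_Gam_of_sing26 hq h _ _ m1 m0 (fun e => hu'0 (hginj _ e)) (fun e => hu0 (hginj _ e))
          (by rw [hiso, sympForm_swap, hf, neg_zero])
    have heq : ∀ c : F, c ≠ 0 →
        (Gam26 w₁ w₂ w₁' w₂' c).map (Matrix.toLin' (g : Matrix (Fin 2 ⊕ Fin 2) (Fin 2 ⊕ Fin 2) F)) = Gam26 w₁ w₂ w₁' w₂' 1 ∨
        (Gam26 w₁ w₂ w₁' w₂' c).map (Matrix.toLin' (g : Matrix (Fin 2 ⊕ Fin 2) (Fin 2 ⊕ Fin 2) F)) = Gam26 w₁ w₂ w₁' w₂' (-1) := by
      intro c hc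
      have hfr : finrank F ((Gam26 w₁ w₂ w₁' w₂' c).map (Matrix.toLin' (g : Matrix (Fin 2 ⊕ Fin 2) (Fin 2 ⊕ Fin 2) F))) = 2 := by
        have e1 := (Submodule.equivMapOfInjective _ (toLin'_injective26 g) (Gam26 w₁ w₂ w₁' w₂' c)).finrank_eq
        rw [← e1]
        exact finrank_Gam26 h h2 c hc
      have hsub : (((Gam26 w₁ w₂ w₁' w₂' c).map (Matrix.toLin' (g : Matrix (Fin 2 ⊕ Fin 2) (Fin 2 ⊕ Fin 2) F)) :
          Submodule F (Fin 2 ⊕ Fin 2 → F)) : Set (Fin 2 ⊕ Fin 2 → F)) ⊆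
          (Gam26 w₁ w₂ w₁' w₂' 1 : Set (Fin 2 ⊕ Fin 2 → F)) ∪ (Gam26 w₁ w₂ w₁' w₂' (-1) : Set (Fin 2 ⊕ Fin 2 → F)) := by
        rintro y ⟨x, hx, rfl⟩
        rw [Matrix.toLin'_apply]
        exact key c hc x hx
      rcases AddSubgroupClass.subset_union.1 hsub with hl | hl
      · left
        exact Submodule.eq_of_le_of_finrank_eq hl (by rw [hfr, hfr1])
      · right
        exact Submodule.eq_of_le_of_finrank_eq hl (by rw [hfr, hfr2])
    apply mem_decStab_of_maps26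
    · intro i j hij
      fin_cases i <;> fin_cases j
      · rfl
      · exact absurd hij hne
      · exact absurd hij.symm hne
      · rfl
    · intro k
      fin_cases k
      · rcases heq 1 one_ne_zero with e | e
        · exact ⟨0, e⟩
        · exact ⟨1, e⟩
      · rcases heq (-1) hm1 with e | e
        · exact ⟨0, e⟩
        · exact ⟨1, e⟩

end Cfsg.Agent.Lib.Helper26.SpMLeaf
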