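import Mathlib
import Cfsg.Prelude.Def_ClassicalGeometry
import Cfsg.Prelude.Def_GeometricClasses
import Cfsg.Agent.Lib.Helper5.SpMax
import Cfsg.Agent.Lib.Helper2.SpSubDefs
import Cfsg.Agent.Lib.Helper26.SpSubN2Core
import Cfsg.Agent.Lib.Helper29.SpSubB
import Cfsg.Agent.Lib.Helper29.SpSubN1core
import Cfsg.Agent.Lib.Helper27.SpSubE23
import Cfsg.Agent.Lib.Helper9.SpSubT

/-!
# S5650 leaf N2 (helper26): `ratC` with the exact signature of `notes/S5650_leaves.lean`.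
-/

set_option autoImplicit false

open Cfsg Matrix Cfsg.Agent.Lib.Helper5 Cfsg.Agent.Lib.Helper5.SpMax Cfsg.Agent.Lib.Helper2.SpSub

namespace Cfsg.Agent.Lib.Helper26.SpSubLeaf

variable {F : Type*} [Field F] {m : ℕ}

/-- (N2) = (C) -/
theorem ratC [Fintype F] {F₀ : Subfield F} (hm : 3 ≤ m) {M : Subgroup (GL (Fin m ⊕ Fin m) F)}
    (h : Ctx F₀ M) {y : Fin m ⊕ Fin m → F} {c : F} (hc0 : c ≠ 0) (hT : tvc y c ∈ M)
    {a : Fin m ⊕ Fin m → F} (ha : RatV F₀ a) (ha0 : a ≠ 0) (hya : sympForm m F y a = 0) :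
    ∃ (μ : F) (r : Fin m ⊕ Fin m → F), RatV F₀ r ∧ y = μ • r :=
  ratC_core hm h
    (fun hab hay c => Cfsg.Agent.Lib.Helper29.SpSubLeaf.tvc_Sab_comm hab hay c)
    (fun ha ha0 haw _ hc => Cfsg.Agent.Lib.Helper29.SpSubLeaf.ratA_of h
      (fun ha hb hab hind _ _ hc =>
        Cfsg.Agent.Lib.Helper27.SpSubLeaf.nr_pair hm h ha hb hab hind hc) ha ha0 haw hc)
    (fun hij _ _ ha hd had hind =>
      Cfsg.Agent.Lib.Helper9.SpSubLeaf.exists_H0_map_pair F₀ hm hij ha hd had hind)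
    hc0 hT ha ha0 hya

end Cfsg.Agent.Lib.Helper26.SpSubLeaf
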