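import Cfsg.Agent.Lib.Helper26.FrobCharD
import Cfsg.Agent.Lib.Helper26.GT4
import Cfsg.Agent.Lib.Helper27.KL14

/-!
helper26: sparse fusion systems are constrained (S5221, Glesser), part A: auxiliary lemmas.
-/

set_option autoImplicit false
set_option linter.unusedSectionVars false
set_option linter.unusedVariables false

namespace Cfsg.Agent.Lib.Helper26.Sparse

open Cfsg Cfsg.FusionSystem Cfsg.Agent.Lib.Helper26 Cfsg.Agent.Lib.Helper26.FrobChar
  Cfsg.Agent.Lib.Helper27.KL Cfsg.Agent.Lib.Helper27.FM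

section General

variable {Ω : Type*} [Group Ω] {S : Subgroup Ω} {Ω' : Type*} [Group Ω'] {S' : Subgroup Ω'}

/-- In an inner system `S` is normal. -/
theorem isNormal_top_of_inner (F : FusionSystem S) (hin : ∀ P, F.Hom P ⊆ (innerFusionSystem S).Hom P) :
    F.IsNormal S := by
  refine ⟨le_rfl, fun P φ hφ => ?_⟩
  obtain ⟨hPS, g, hg, hgφ⟩ := hin P hφ
  refine ⟨conjHom (P ⊔ S) g, F.conj_mem (sup_le hPS le_rfl) hg, fun x => ?_, ?_⟩
  · rw [hgφ x]
    rfl
  · exact conjHom_map_eq_of_mem_normalizer le_sup_right (Subgroup.le_normalizer hg)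

theorem map_subgroupOf_eq_of_mapsTo_finite {R U : Subgroup Ω} [Finite U] (hUR : U ≤ R) (ψ : R →* Ω)
    (hinj : Function.Injective ψ) (hU : ∀ y : R, (y : Ω) ∈ U → ψ y ∈ U) : (U.subgroupOf R).map ψ = U := by
  rw [map_subgroupOf_eq_iff]
  refine ⟨hU, ?_⟩
  obtain ⟨f, hf⟩ : ∃ f : U → U, ∀ u : U, f u = ⟨ψ ⟨u, hUR u.2⟩, hU ⟨u, hUR u.2⟩ u.2⟩ := ⟨_, fun _ => rfl⟩
  have hfinj : Function.Injective f := by
    intro a b hab
    rw [hf, hf] at hab
    have h1 := hinj (congrArg Subtype.val hab)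
    have h2 : ((⟨(a : Ω), hUR a.2⟩ : R) : Ω) = ((⟨(b : Ω), hUR b.2⟩ : R) : Ω) := congrArg Subtype.val h1
    exact Subtype.ext h2
  have hsurj := Finite.surjective_of_injective hfinj
  intro z hz
  obtain ⟨u, hu⟩ := hsurj ⟨z, hz⟩
  rw [hf] at hu
  exact ⟨⟨u, hUR u.2⟩, u.2, congrArg Subtype.val hu⟩

/-- the full preimage of a subgroup normalized by `S'` is normalized by `S` -/
theorem le_normalizer_preimage [Finite S] (θ : S →* Ω') (hrange : θ.range = S') {U' : Subgroup Ω'}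
    (hU' : S' ≤ Subgroup.normalizer (U' : Set Ω')) : S ≤ Subgroup.normalizer (preimageAlong θ U' : Set Ω) := by
  intro s hs
  haveI : Finite ↥(preimageAlong θ U') := finite_of_le (preimageAlong_le θ U')
  apply mem_normalizer_of_conj_mem_finite
  intro u hu
  rw [mem_preimageAlong_iff] at hu ⊢
  obtain ⟨huS, hu⟩ := hu
  refine ⟨S.mul_mem (S.mul_mem hs huS) (S.inv_mem hs), ?_⟩
  have h1 : (⟨s * u * s⁻¹, S.mul_mem (S.mul_mem hs huS) (S.inv_mem hs)⟩ : S) =
      ⟨s, hs⟩ * ⟨u, huS⟩ * ⟨s, hs⟩⁻¹ := rfl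
  rw [h1, map_mul, map_mul, map_inv]
  have hsS' : θ ⟨s, hs⟩ ∈ S' := hrange ▸ ⟨_, rfl⟩
  exact (Subgroup.mem_normalizer_iff.mp (hU' hsS') _).mp hu

/-- If the normalizer system of the full preimage `U` of `U'` is inner then so is the normalizer system of `U'` in the
factor system. -/
theorem normalizerHom_factor_subset_inner [Finite S] (F : FusionSystem S) {Q : Subgroup Ω} (θ : S →* Ω')
    (E : FusionSystem S') (hE : F.IsFactorSystem Q θ E) {U' : Subgroup Ω'} (hU'S' : U' ≤ S')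
    (hUn : S ≤ Subgroup.normalizer (preimageAlong θ U' : Set Ω))
    (hin : ∀ P, F.normalizerHom (preimageAlong θ U') P ⊆ (innerFusionSystem S).Hom P) :
    ∀ P', E.normalizerHom U' P' ⊆ (innerFusionSystem S').Hom P' := by
  rintro P' φ' ⟨hφ', hP'N, hφ'N, ψ', hψ', hext, hmap⟩
  obtain ⟨hQS, hker, hrange, hhom⟩ := hE
  have hP'S' : P' ≤ S' := hom_le E hφ'
  obtain ⟨-, ψ, hψ, hRS, hψS, hR', hind⟩ := (hhom _ ψ').mp hψ'
  have hPR : preimageAlong θ P' ≤ preimageAlong θ (P' ⊔ U') := pre_mono θ le_sup_left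
  have hUR : preimageAlong θ U' ≤ preimageAlong θ (P' ⊔ U') := pre_mono θ le_sup_right
  have hPUR : preimageAlong θ P' ⊔ preimageAlong θ U' ≤ preimageAlong θ (P' ⊔ U') := sup_le hPR hUR
  have hPS : preimageAlong θ P' ≤ S := preimageAlong_le θ P'
  have hUS : preimageAlong θ U' ≤ S := preimageAlong_le θ U'
  haveI : Finite ↥(preimageAlong θ U') := finite_of_le hUS
  have hTU : normalizerIn S (preimageAlong θ U') = S := normalizerIn_eq_of_le_normalizer hUn
  have hψ₀ := inclusion_comp_mem F hPR hψ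
  have hχ := inclusion_comp_mem F hPUR hψ
  have hmem : ψ.comp (Subgroup.inclusion hPR) ∈ F.normalizerHom (preimageAlong θ U') (preimageAlong θ P') := by
    refine ⟨hψ₀, hTU.symm ▸ hPS, fun x => hTU.symm ▸ hψS _, ψ.comp (Subgroup.inclusion hPUR), hχ,
      fun x => rfl, ?_⟩
    apply map_subgroupOf_eq_of_mapsTo_finite le_sup_right _ (F.injective_of_mem hχ)
    intro y hy
    show ψ (Subgroup.inclusion hPUR y) ∈ preimageAlong θ U'
    rw [mem_preimageAlong_iff]
    refine ⟨hψS _, ?_⟩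
    rw [← hind]
    have hyU' : θ ⟨(y : Ω), hUS hy⟩ ∈ U' := by
      obtain ⟨h1, h2⟩ := (mem_preimageAlong_iff θ U' _).mp hy
      exact h2
    have h3 := ((map_subgroupOf_eq_iff ψ').mp hmap).1 ⟨θ ⟨(y : Ω), hUS hy⟩, hR' (Subgroup.inclusion hPUR y)⟩ hyU'
    exact h3
  obtain ⟨-, g, hg, hgψ⟩ := hin _ hmem
  refine ⟨hP'S', θ ⟨g, hg⟩, hrange ▸ ⟨_, rfl⟩, fun y => ?_⟩
  have hyS' : (y : Ω') ∈ θ.range := by rw [hrange]; exact hP'S' y.2
  obtain ⟨s, hs⟩ := hyS'
  have hsP : (s : Ω) ∈ preimageAlong θ P' := by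
    rw [mem_preimageAlong_iff]
    refine ⟨s.2, ?_⟩
    have : (⟨(s : Ω), s.2⟩ : S) = s := Subtype.ext rfl
    rw [this, hs]
    exact y.2
  have h1 := hind (Subgroup.inclusion hPR ⟨s, hsP⟩)
  have h2 := hgψ ⟨s, hsP⟩
  have h3 : (⟨θ ⟨((Subgroup.inclusion hPR ⟨(s : Ω), hsP⟩ : ↥(preimageAlong θ (P' ⊔ U'))) : Ω), hRS
      (Subgroup.inclusion hPR ⟨(s : Ω), hsP⟩).2⟩, hR' (Subgroup.inclusion hPR ⟨(s : Ω), hsP⟩)⟩ : ↥(P' ⊔ U')) =
      Subgroup.inclusion le_sup_left y := by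
    apply Subtype.ext
    show θ ⟨(s : Ω), _⟩ = y
    have : (⟨(s : Ω), hRS (Subgroup.inclusion hPR ⟨(s : Ω), hsP⟩).2⟩ : S) = s := Subtype.ext rfl
    rw [this, hs]
  rw [h3, hext] at h1
  rw [h1]
  have h4 : (⟨ψ (Subgroup.inclusion hPR ⟨(s : Ω), hsP⟩), hψS _⟩ : S) =
      ⟨g, hg⟩ * s * ⟨g, hg⟩⁻¹ := by
    apply Subtype.ext
    exact h2
  rw [h4, map_mul, map_mul, map_inv, hs]

end General

section Thompson

universe u
variable {Ω : Type u} [Group Ω] {S : Subgroup Ω}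

/-- Thompson's theorem in the form: if the normalizer systems of `Z(S)` and `J(S)` are inner, so is `F`. -/
theorem inner_of_ZJ_subset (p : ℕ) [Fact p.Prime] [Finite S] (hS : IsPGroup p S) (F : FusionSystem S)
    (hF : F.IsSaturated p) (hp : p ≠ 2 ∨ F.IsSectionFree p (Equiv.Perm (Fin 4)))
    (hZin : ∀ P, F.normalizerHom (S ⊓ Subgroup.centralizer (S : Set Ω)) P ⊆ (innerFusionSystem S).Hom P)
    (hJin : ∀ P, F.normalizerHom (Cfsg.thompsonSubgroupAOf S) P ⊆ (innerFusionSystem S).Hom P) :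
    ∀ P : Subgroup Ω, F.Hom P = (innerFusionSystem S).Hom P := by
  have hZS : S ⊓ Subgroup.centralizer (S : Set Ω) ≤ S := inf_le_left
  have hJS : Cfsg.thompsonSubgroupAOf S ≤ S := Subgroup.map_subtype_le _
  have hJsub : (Cfsg.thompsonSubgroupAOf S).subgroupOf S = Cfsg.thompsonSubgroupA ↥S :=
    Subgroup.comap_map_eq_self_of_injective S.subtype_injective _
  have hJc : ((Cfsg.thompsonSubgroupAOf S).subgroupOf S).Characteristic := by
    rw [hJsub, Subgroup.characteristic_iff_map_eq]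
    intro φ
    exact (Cfsg.Agent.Lib.Helper1.GlaubF.posChar_JA p).map_eq ↥S ↥S hS φ
  apply Cfsg.Agent.S5194.result p hS F hF hp
  · intro C hC P
    rw [hC P]
    ext φ
    constructor
    · rintro ⟨hφ, hPC, hφC, ψ, hψ, hψφ, hψfix⟩
      have hφN : φ ∈ F.normalizerHom (S ⊓ Subgroup.centralizer (S : Set Ω)) P :=
        ⟨hφ, hPC.trans (centralizerIn_le_normalizerIn S _),
          fun x => centralizerIn_le_normalizerIn S _ (hφC x), ψ, hψ, hψφ, map_subgroupOf_eq_of_fix ψ hψfix⟩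
      obtain ⟨hPS, g, hg, hgφ⟩ := hZin P hφN
      refine ⟨hPC, g, ?_, hgφ⟩
      rw [mem_centralizerIn_iff]
      refine ⟨hg, fun z hz => ?_⟩
      exact (Subgroup.mem_centralizer_iff.mp hz.2 g hg).symm
    · rintro ⟨hPC, g, hg, hgφ⟩
      have hgS : g ∈ S := centralizerIn_le S _ hg
      have hPS : P ≤ S := hPC.trans (centralizerIn_le S _)
      have hφ : φ = conjHom P g := by
        ext x
        exact hgφ x
      have hcS : centralizerIn S (S ⊓ Subgroup.centralizer (S : Set Ω)) = S := by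
        apply le_antisymm (centralizerIn_le S _)
        intro s hs
        rw [mem_centralizerIn_iff]
        refine ⟨hs, fun z hz => ?_⟩
        exact (Subgroup.mem_centralizer_iff.mp hz.2 s hs).symm
      refine ⟨hφ ▸ F.conj_mem hPS hgS, hPC, fun x => ?_,
        conjHom (P ⊔ (S ⊓ Subgroup.centralizer (S : Set Ω))) g, F.conj_mem (sup_le hPS hZS) hgS, ?_, ?_⟩
      · rw [hcS, hgφ]
        exact S.mul_mem (S.mul_mem hgS (hPS x.2)) (S.inv_mem hgS)
      · intro x
        rw [hgφ]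
        rfl
      · intro x
        have hx := (mem_centralizerIn_iff.mp hg).2 x x.2
        show g * (x : Ω) * g⁻¹ = x
        rw [← hx, mul_inv_cancel_right]
  · intro N hN P
    have hT : normalizerIn S (Cfsg.thompsonSubgroupAOf S) = S :=
      normalizerIn_eq_of_le_normalizer (le_normalizer_of_char hJS hJc)
    apply Set.Subset.antisymm _ (inner_hom_subset N P)
    rw [hN P, inner_hom_congr hT]
    exact hJin P

end Thompson

end Cfsg.Agent.Lib.Helper26.Sparse
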