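import Cfsg.Agent.Lib.Helper26.SparseA

/-!
helper26: sparse fusion systems are constrained (S5221, Glesser), part B: the main argument.
`F` sparse (saturated, not inner, no saturated subsystems over `S` other than `F` and the inner one), `p` odd or `F`
`S₄`-free.  With `Q = O_p(F)` not centric: either every map of `F` acts on `Q` as an element of `S`, and then Thompson's
theorem (S5194) in `F/Q` makes `F/Q` inner, whence `S` normal in `F`; or `S C_F(Q)` and `N_F(Q C_S(Q))` are both inner and
generate `F` (helper27, after Kessar–Linckelmann), whence again `S` is normal in `F`.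
-/

set_option autoImplicit false
set_option linter.unusedSectionVars false
set_option linter.unusedVariables false

namespace Cfsg.Agent.Lib.Helper26.Sparse

open Cfsg Cfsg.FusionSystem Cfsg.Agent.Lib.Helper26 Cfsg.Agent.Lib.Helper26.FrobChar
  Cfsg.Agent.Lib.Helper27.KL Cfsg.Agent.Lib.Helper27.FM

universe u
variable {Ω : Type u} [Group Ω] {S : Subgroup Ω}

/-- `Z(S)` and `J(S)` are nontrivial and normalized by `S`. -/
theorem ZJ_props (p : ℕ) [Fact p.Prime] [Finite S] (hS : IsPGroup p S) (hS1 : S ≠ ⊥) :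
    ((S ⊓ Subgroup.centralizer (S : Set Ω)) ≠ ⊥ ∧
      S ≤ Subgroup.normalizer ((S ⊓ Subgroup.centralizer (S : Set Ω) : Subgroup Ω) : Set Ω)) ∧
    (Cfsg.thompsonSubgroupAOf S ≠ ⊥ ∧ S ≤ Subgroup.normalizer ((Cfsg.thompsonSubgroupAOf S : Subgroup Ω) : Set Ω)) := by
  have hZS : S ⊓ Subgroup.centralizer (S : Set Ω) ≤ S := inf_le_left
  have hJS : Cfsg.thompsonSubgroupAOf S ≤ S := Subgroup.map_subtype_le _
  haveI : Nontrivial ↥S := (Subgroup.nontrivial_iff_ne_bot S).mpr hS1
  have hZc : ((S ⊓ Subgroup.centralizer (S : Set Ω)).subgroupOf S).Characteristic := by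
    rw [zS_subgroupOf]
    infer_instance
  have hZ1 : S ⊓ Subgroup.centralizer (S : Set Ω) ≠ ⊥ := by
    intro hbot
    have h1 : Nontrivial (Subgroup.center ↥S) := hS.center_nontrivial
    rw [← zS_subgroupOf, hbot] at h1
    rw [Subgroup.bot_subgroupOf] at h1
    exact not_nontrivial _ h1
  have hJsub : (Cfsg.thompsonSubgroupAOf S).subgroupOf S = Cfsg.thompsonSubgroupA ↥S :=
    Subgroup.comap_map_eq_self_of_injective S.subtype_injective _
  have hJc : ((Cfsg.thompsonSubgroupAOf S).subgroupOf S).Characteristic := by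
    rw [hJsub, Subgroup.characteristic_iff_map_eq]
    intro φ
    exact (Cfsg.Agent.Lib.Helper1.GlaubF.posChar_JA p).map_eq ↥S ↥S hS φ
  have hJ1 : Cfsg.thompsonSubgroupAOf S ≠ ⊥ :=
    (Cfsg.Agent.Lib.Helper1.GlaubF.posChar_JA p).WS_ne_bot hS hS1
  exact ⟨⟨hZ1, le_normalizer_of_char hZS hZc⟩, ⟨hJ1, le_normalizer_of_char hJS hJc⟩⟩

/-- In a sparse system a subgroup normal in `S` is normal in `F` or has inner normalizer system. -/
theorem sparse_normalizer (p : ℕ) [Fact p.Prime] [Finite S] (hS : IsPGroup p S) (F : FusionSystem S)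
    (hF : F.IsSaturated p)
    (hsparse : ∀ E : FusionSystem S, E.IsSaturated p → E.IsSubsystemOf F →
      (∀ P : Subgroup Ω, E.Hom P = F.Hom P) ∨ (∀ P : Subgroup Ω, E.Hom P = (innerFusionSystem S).Hom P))
    {U : Subgroup Ω} (hUS : U ≤ S) (hUn : S ≤ Subgroup.normalizer (U : Set Ω)) :
    F.IsNormal U ∨ ∀ P, F.normalizerHom U P ⊆ (innerFusionSystem S).Hom P := by
  have hT := normalizerIn_eq_of_le_normalizer hUn
  have hfn := GT.isFullyNormalized_of_normalizerIn_eq F hUS hT
  have hN := normalizerSystem_isNormalizerSystem F U hUS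
  have hNsat := normalizerSystem_saturated hS F hF hfn _ hN
  have hN'hom : ∀ P, (castSys hT (normalizerSystem F U hUS)).Hom P = F.normalizerHom U P := fun P => by
    rw [castSys_hom, hN P]
  rcases hsparse _ (castSys_saturated hT _ hNsat)
    (fun P φ hφ => by rw [hN'hom] at hφ; exact hφ.1) with h | h
  · left
    apply isNormal_of_forall_normalizerHom F hUS
    intro P φ hφ
    rw [hN P, ← hN'hom P, h P]
    exact hφ
  · right
    intro P
    rw [← hN'hom P, h P]

/-- **Sparse fusion systems are constrained** (for `p` odd or `S₄`-free systems). -/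
theorem sparse_constrained (p : ℕ) [Fact p.Prime] [Finite S] (hS : IsPGroup p S) (F : FusionSystem S)
    (hF : F.IsSaturated p)
    (hsparse : ∀ E : FusionSystem S, E.IsSaturated p → E.IsSubsystemOf F →
      (∀ P : Subgroup Ω, E.Hom P = F.Hom P) ∨ (∀ P : Subgroup Ω, E.Hom P = (innerFusionSystem S).Hom P))
    (hp : p ≠ 2 ∨ F.IsSectionFree p (Equiv.Perm (Fin 4))) : F.IsConstrained p := by
  have hQ : F.IsNormal F.core := core_isNormal F
  by_cases hQc : F.IsCentric F.core
  · exact ⟨hF, F.core, hQ, hQc⟩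
  suffices hSn : F.IsNormal S from ⟨hF, S, hSn, Cfsg.Agent.Lib.Helper27.isCentric_self F⟩
  have hQS : F.core ≤ S := hQ.1
  have hsc := stronglyClosed_of_isNormal F hQ
  haveI : Finite ↥F.core := finite_of_le hQS
  have hSN : S ≤ Subgroup.normalizer (F.core : Set Ω) := le_normalizer_of_stronglyClosed F hsc
  have hQn : ∀ s ∈ S, ∀ q ∈ F.core, s * q * s⁻¹ ∈ F.core := fun s hs q hq =>
    (Subgroup.mem_normalizer_iff.mp (hSN hs) q).mp hq
  have hle_core : ∀ U : Subgroup Ω, F.IsNormal U → U ≤ F.core := fun U hU => le_sSup hU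
  by_cases hD : ∀ P, F.Hom P ⊆ (scSystem F F.core hQS hQn).Hom P
  · -- every map acts on the core as an element of `S`: pass to the quotient
    have hall : ∀ (R : Subgroup Ω) (θ : Ω → Ω), IsFM F R θ → SC F F.core R θ := by
      intro R θ hθ
      obtain ⟨φ, hφ, h1⟩ := hθ
      exact (isFM_scSystem_iff F F.core hQS hQn).mp ⟨φ, hD R hφ, h1⟩
    haveI hnorm : (F.core.subgroupOf S).Normal := by
      constructor
      intro q hq s
      rw [Subgroup.mem_subgroupOf] at hq ⊢
      exact hQn s s.2 q hq
    obtain ⟨E, hE⟩ := exists_factorSystem_quotient F F.core hsc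
    have hθ := factorSystem_isSurjectiveMorphism hS F hF F.core hsc _ E hE
    have hEsat := surj_saturated p hS F hF E _ hθ
    have hpTop : IsPGroup p (⊤ : Subgroup (↥S ⧸ F.core.subgroupOf S)) :=
      (hS.to_quotient (F.core.subgroupOf S)).to_subgroup ⊤
    have hEp : p ≠ 2 ∨ E.IsSectionFree p (Equiv.Perm (Fin 4)) := by
      rcases hp with hp | hfree
      · exact Or.inl hp
      · exact Or.inr (sectionFree_factor hS F hF hQ _ hfree _ E hE)
    have key : ∀ U' : Subgroup (↥S ⧸ F.core.subgroupOf S), U' ≠ ⊥ →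
        (⊤ : Subgroup (↥S ⧸ F.core.subgroupOf S)) ≤ Subgroup.normalizer (U' : Set (↥S ⧸ F.core.subgroupOf S)) →
        ∀ P', E.normalizerHom U' P' ⊆ (innerFusionSystem (⊤ : Subgroup (↥S ⧸ F.core.subgroupOf S))).Hom P' := by
      intro U' hU'1 hU'n
      have hUn := le_normalizer_preimage (QuotientGroup.mk' (F.core.subgroupOf S)) hE.2.2.1 hU'n
      apply normalizerHom_factor_subset_inner F _ E hE le_top hUn
      rcases sparse_normalizer p hS F hF hsparse (preimageAlong_le _ U') hUn with h | h
      · exfalso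
        apply hU'1
        have h1 := hle_core _ h
        rw [eq_bot_iff]
        intro v' hv'
        obtain ⟨s, rfl⟩ := QuotientGroup.mk'_surjective (F.core.subgroupOf S) v'
        have hsU : (s : Ω) ∈ preimageAlong (QuotientGroup.mk' (F.core.subgroupOf S)) U' := by
          rw [mem_preimageAlong_iff]
          exact ⟨s.2, hv'⟩
        have hsQ := h1 hsU
        rw [Subgroup.mem_bot, QuotientGroup.mk'_apply, QuotientGroup.eq_one_iff]
        exact hsQ
      · exact h
    by_cases htop : (⊤ : Subgroup (↥S ⧸ F.core.subgroupOf S)) = ⊥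
    · have hcS : F.core = S := by
        apply le_antisymm hQS
        intro s hs
        have h1 : (QuotientGroup.mk' (F.core.subgroupOf S) ⟨s, hs⟩) ∈
            (⊤ : Subgroup (↥S ⧸ F.core.subgroupOf S)) := Subgroup.mem_top _
        rw [htop, Subgroup.mem_bot, QuotientGroup.mk'_apply, QuotientGroup.eq_one_iff] at h1
        exact h1
      exact Eq.subst (motive := fun X => F.IsNormal X) hcS hQ
    · obtain ⟨⟨hZ1, hZn⟩, ⟨hJ1, hJn⟩⟩ := ZJ_props p hpTop htop
      have hEin := inner_of_ZJ_subset p hpTop E hEsat hEp (key _ hZ1 hZn) (key _ hJ1 hJn)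
      have hV' : E.IsNormal (⊤ : Subgroup (↥S ⧸ F.core.subgroupOf S)) :=
        isNormal_top_of_inner E (fun P' => (hEin P').subset)
      have hV := isNormal_preimage_of_forall_sc hS F hF hQ hall hE hV'
      have hpre : preimageAlong (QuotientGroup.mk' (F.core.subgroupOf S))
          (⊤ : Subgroup (↥S ⧸ F.core.subgroupOf S)) = S := by
        apply le_antisymm (preimageAlong_le _ _)
        intro s hs
        rw [mem_preimageAlong_iff]
        exact ⟨hs, Subgroup.mem_top _⟩
      rw [hpre] at hV
      exact hV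
  · -- `S C_F(Q)` is inner
    have hDsat := scSystem_saturated hS F hF F.core hQS hQn
    rcases hsparse _ hDsat (scSystem_le F F.core hQS hQn) with h | h
    · exact absurd (fun P => (h P).symm.subset) hD
    · have hDn : (scSystem F F.core hQS hQn).IsNormal S := isNormal_top_of_inner _ (fun P => (h P).subset)
      have hRS : F.core ⊔ centralizerIn S F.core ≤ S := sup_le hQS (centralizerIn_le S F.core)
      have hRn : ∀ s ∈ S, ∀ r ∈ F.core ⊔ centralizerIn S F.core,
          s * r * s⁻¹ ∈ F.core ⊔ centralizerIn S F.core := fun s hs =>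
        conj_mem_sup_of_forall (hQn s hs) (fun c hc => conj_mem_centralizerIn hQn hs hc)
      haveI : Finite ↥(F.core ⊔ centralizerIn S F.core) := finite_of_le hRS
      have hRnorm : S ≤ Subgroup.normalizer ((F.core ⊔ centralizerIn S F.core : Subgroup Ω) : Set Ω) :=
        fun s hs => mem_normalizer_of_conj_mem_finite (hRn s hs)
      have hNR : normalizerIn S (F.core ⊔ centralizerIn S F.core) = S :=
        normalizerIn_eq_of_le_normalizer hRnorm
      rcases sparse_normalizer p hS F hF hsparse hRS hRnorm with h' | h'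
      · exfalso
        exact hQc (isCentric_of_isNormal_of_centralizerIn_le F hQ (le_sup_right.trans (hle_core _ h')))
      · have hN := normalizerSystem_isNormalizerSystem F _ hRS
        have hEn : (normalizerSystem F (F.core ⊔ centralizerIn S F.core) hRS).IsNormal S := by
          refine ⟨hNR.symm ▸ le_rfl, fun P φ hφ => ?_⟩
          rw [hN P] at hφ
          obtain ⟨hPS, g, hg, hgφ⟩ := h' P hφ
          refine ⟨conjHom (P ⊔ S) g, ?_, fun x => by rw [hgφ x]; rfl,
            conjHom_map_eq_of_mem_normalizer le_sup_right (Subgroup.le_normalizer hg)⟩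
          rw [hN (P ⊔ S)]
          have hPSS : P ⊔ S ≤ S := sup_le hPS le_rfl
          refine ⟨F.conj_mem hPSS hg, hNR.symm ▸ hPSS, fun x => ?_,
            conjHom (P ⊔ S ⊔ (F.core ⊔ centralizerIn S F.core)) g, F.conj_mem (sup_le hPSS hRS) hg,
            fun x => rfl, conjHom_map_eq_of_mem_normalizer le_sup_right (hRnorm hg)⟩
          rw [hNR]
          exact S.mul_mem (S.mul_mem hg (hPSS x.2)) (S.inv_mem hg)
        exact isNormal_of_gen hS F hF hQ hQn le_rfl
          (fun s hs u hu => S.mul_mem (S.mul_mem hs hu) (S.inv_mem hs)) hDn hRS hEn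

end Cfsg.Agent.Lib.Helper26.Sparse
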