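import Cfsg.Agent.Lib.Helper26.SubConB
import Cfsg.Agent.Lib.Helper27.FSSubgroupSat
set_option autoImplicit false

/-!
If the fusion system of a finite group on a Sylow `p`-subgroup is constrained, so is that of every subnormal subgroup.
-/

namespace Cfsg.Agent.Lib.Helper26.SubCon

open Cfsg Cfsg.FusionSystem Cfsg.Agent.Lib.Helper26 Cfsg.Agent.Lib.Helper27

variable {G : Type*} [Group G]

/-- `S ∩ K` is a Sylow `p`-subgroup of `K` -/
def SylIn (p : ℕ) (S K : Subgroup G) : Prop :=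
  ∃ R : Sylow p K, (R : Subgroup K) = (S ⊓ K).subgroupOf K

theorem conj_mem_of_normal_subgroupOf {H K : Subgroup G} (hHK : H ≤ K) (hN : (H.subgroupOf K).Normal)
    {k x : G} (hk : k ∈ K) (hx : x ∈ H) : k * x * k⁻¹ ∈ H := by
  have h1 : (⟨x, hHK hx⟩ : K) ∈ H.subgroupOf K := hx
  have := hN.conj_mem _ h1 ⟨k, hk⟩
  exact this

theorem sylIn_of_normal [Finite G] {p : ℕ} [Fact p.Prime] {S K H : Subgroup G} (hSp : IsPGroup p S)
    (hHK : H ≤ K) (hN : (H.subgroupOf K).Normal) (hK : SylIn p S K) : SylIn p S H := by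
  unfold SylIn
  rw [sylowIn_iff_card inf_le_right]
  refine ⟨hSp.to_le inf_le_left, fun B hBH hB => ?_⟩
  obtain ⟨k, hk, hkB⟩ := exists_conj_le_of_sylowIn hK (hBH.trans hHK) hB
  rw [← card_map_conj B k]
  apply Subgroup.card_le_of_le
  apply le_inf (hkB.trans inf_le_left)
  rintro _ ⟨x, hx, rfl⟩
  exact conj_mem_of_normal_subgroupOf hHK hN hk (hBH hx)

theorem step [Finite G] {p : ℕ} [Fact p.Prime] {S K H : Subgroup G} (hSp : IsPGroup p S)
    (hHK : H ≤ K) (hN : (H.subgroupOf K).Normal) (hK : SylIn p S K)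
    (hcon : (fusionSystemOfSubgroup K (S ⊓ K) inf_le_right).IsConstrained p) :
    SylIn p S H ∧ (fusionSystemOfSubgroup H (S ⊓ H) inf_le_right).IsConstrained p := by
  have hH : SylIn p S H := sylIn_of_normal hSp hHK hN hK
  refine ⟨hH, ?_⟩
  have hpK : IsPGroup p ↥(S ⊓ K) := hSp.to_le inf_le_left
  have hle : S ⊓ H ≤ S ⊓ K := inf_le_inf_left S hHK
  apply constrained_of_subsystem hpK (fusionSystemOfSubgroup K (S ⊓ K) inf_le_right) hcon (T := S ⊓ H)
  · refine ⟨hle, fun P hPT φ hφ x => ?_⟩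
    obtain ⟨-, hφS, g, hg, hgφ⟩ := hφ
    refine ⟨(hφS x).1, ?_⟩
    rw [hgφ]
    exact conj_mem_of_normal_subgroupOf hHK hN hg (hPT x.2).2
  · exact subFS_saturated inf_le_right hH
  · rintro P φ ⟨hP, hφS, g, hg, hgφ⟩
    exact ⟨hP.trans hle, fun x => hle (hφS x), g, hHK hg, hgφ⟩

theorem base [Finite G] {p : ℕ} [Fact p.Prime] (S : Sylow p G)
    (hcon : (groupFusionSystem (S : Subgroup G)).IsConstrained p) :
    SylIn p (S : Subgroup G) ⊤ ∧
      (fusionSystemOfSubgroup ⊤ ((S : Subgroup G) ⊓ ⊤) inf_le_right).IsConstrained p := by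
  have hH : SylIn p (S : Subgroup G) ⊤ := by
    unfold SylIn
    rw [sylowIn_iff_card inf_le_right]
    refine ⟨S.isPGroup'.to_le inf_le_left, fun B _ hB => ?_⟩
    obtain ⟨g, hg⟩ := exists_conj_le_sylow S hB
    rw [← card_map_conj B g]
    exact Subgroup.card_le_of_le (le_inf hg le_top)
  refine ⟨hH, ?_⟩
  apply constrained_of_subsystem S.isPGroup' (groupFusionSystem (S : Subgroup G)) hcon
    (T := (S : Subgroup G) ⊓ ⊤)
  · refine ⟨inf_le_left, fun P _ φ hφ x => ⟨hφ.2.1 x, Subgroup.mem_top _⟩⟩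
  · exact subFS_saturated inf_le_right hH
  · rintro P φ ⟨hP, hφS, g, -, hgφ⟩
    exact ⟨hP.trans inf_le_left, fun x => (hφS x).1, g, hgφ⟩

/-- **Constrained passes to subnormal subgroups** (inside the ambient group). -/
theorem subnormal_constrained [Finite G] {p : ℕ} [Fact p.Prime] (S : Sylow p G)
    (hcon : (groupFusionSystem (S : Subgroup G)).IsConstrained p) (H : Subgroup G) (hH : H.IsSubnormal) :
    SylIn p (S : Subgroup G) H ∧
      (fusionSystemOfSubgroup H ((S : Subgroup G) ⊓ H) inf_le_right).IsConstrained p := by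
  induction hH with
  | top => exact base S hcon
  | step H K hle _ hN ih => exact step S.isPGroup' hle hN ih.1 ih.2

end Cfsg.Agent.Lib.Helper26.SubCon
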