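import Cfsg.Agent.Lib.Helper26.SubConC
set_option autoImplicit false

/-!
Transport of "constrained" from `F_T(H)` inside an ambient group `G` to the fusion system of the group `H` on `T`.
-/

namespace Cfsg.Agent.Lib.Helper26.SubCon

open Cfsg Cfsg.FusionSystem Cfsg.Agent.Lib.Helper26 Cfsg.Agent.Lib.Helper27

variable {G : Type*} [Group G]

theorem constrained_subgroupOf {p : ℕ} [Fact p.Prime] (H T : Subgroup G) (hTH : T ≤ H) [Finite T]
    (hT : IsPGroup p T) (hcon : (fusionSystemOfSubgroup H T hTH).IsConstrained p) :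
    (groupFusionSystem (T.subgroupOf H)).IsConstrained p := by
  obtain ⟨Q₀, hfinQ₀, h, hM⟩ := ModelThm.exists_model hT (fusionSystemOfSubgroup H T hTH) hcon
  obtain ⟨hfin, ⟨hinj, hreal⟩, ⟨Syl, hSyl⟩, hcent⟩ := hM
  set ι₂ := ModelThm.mIota h with hι₂
  let e : ↥(T.subgroupOf H) ≃* ↥T := Subgroup.subgroupOfEquivOfLe hTH
  have he : ∀ x : ↥(T.subgroupOf H), ((e x : ↥T) : G) = ((x : ↥H) : G) := fun x => rfl
  let ι₁ : ↥(T.subgroupOf H) →* ModelThm.Mdl h := ι₂.comp e.toMonoidHom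
  haveI : Finite ↥(T.subgroupOf H) := Finite.of_equiv _ e.symm.toEquiv
  apply constrained_of_model p (groupFusionSystem (T.subgroupOf H)) ι₁
  refine ⟨hfin, ⟨hinj.comp e.injective, ?_⟩, ⟨Syl, ?_⟩, hcent⟩
  · intro P hP φ hφ
    -- the corresponding data in the ambient group
    have hP₂T : P.map H.subtype ≤ T := by
      rintro _ ⟨x, hx, rfl⟩
      exact hP hx
    let eP : ↥P ≃* ↥(P.map H.subtype) := P.equivMapOfInjective H.subtype H.subtype_injective
    have heP : ∀ x : ↥P, ((eP x : ↥(P.map H.subtype)) : G) = ((x : ↥H) : G) := fun x => rfl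
    let φ₂ : ↥(P.map H.subtype) →* G := (H.subtype.comp φ).comp eP.symm.toMonoidHom
    have hφ₂ : ∀ x : ↥P, φ₂ (eP x) = ((φ x : ↥H) : G) := by
      intro x
      show ((φ (eP.symm (eP x)) : ↥H) : G) = _
      rw [MulEquiv.symm_apply_apply]
    have hφ₂T : ∀ y : ↥(P.map H.subtype), φ₂ y ∈ T := by
      intro y
      obtain ⟨x, rfl⟩ := eP.surjective y
      rw [hφ₂]
      exact hφ x
    have key := hreal (P.map H.subtype) hP₂T φ₂ hφ₂T
    constructor
    · rintro ⟨-, -, k, hk⟩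
      have h2 : φ₂ ∈ (fusionSystemOfSubgroup H T hTH).Hom (P.map H.subtype) := by
        refine ⟨hP₂T, hφ₂T, (k : G), k.2, fun y => ?_⟩
        obtain ⟨x, rfl⟩ := eP.surjective y
        rw [hφ₂, hk x, heP]
        rfl
      obtain ⟨g, hg⟩ := key.mp h2
      refine ⟨g, fun x => ?_⟩
      have := hg (eP x)
      show ι₂ (e ⟨φ x, hφ x⟩) = g * ι₂ (e ⟨x, hP x.2⟩) * g⁻¹
      have e1 : (⟨φ₂ (eP x), hφ₂T (eP x)⟩ : ↥T) = e ⟨φ x, hφ x⟩ := Subtype.ext (hφ₂ x)
      have e2 : (⟨((eP x : ↥(P.map H.subtype)) : G), hP₂T (eP x).2⟩ : ↥T) = e ⟨x, hP x.2⟩ := Subtype.ext rfl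
      rw [e1, e2] at this
      exact this
    · rintro ⟨g, hg⟩
      have h2 : φ₂ ∈ (fusionSystemOfSubgroup H T hTH).Hom (P.map H.subtype) := by
        apply key.mpr
        refine ⟨g, fun y => ?_⟩
        obtain ⟨x, rfl⟩ := eP.surjective y
        have := hg x
        have e1 : (⟨φ₂ (eP x), hφ₂T (eP x)⟩ : ↥T) = e ⟨φ x, hφ x⟩ := Subtype.ext (hφ₂ x)
        have e2 : (⟨((eP x : ↥(P.map H.subtype)) : G), hP₂T (eP x).2⟩ : ↥T) = e ⟨x, hP x.2⟩ := Subtype.ext rfl
        rw [e1, e2]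
        exact this
      obtain ⟨-, -, k, hkH, hk⟩ := h2
      refine ⟨hP, hφ, ⟨k, hkH⟩, fun x => ?_⟩
      apply Subtype.ext
      have := hk (eP x)
      rw [hφ₂, heP] at this
      exact this
  · rw [hSyl]
    ext z
    constructor
    · rintro ⟨t, rfl⟩
      exact ⟨e.symm t, by show ι₂ (e (e.symm t)) = _; rw [MulEquiv.apply_symm_apply]⟩
    · rintro ⟨x, rfl⟩
      exact ⟨e x, rfl⟩

/-- **S5115 (general prime)**: if the fusion system of a finite group on a Sylow `p`-subgroup is constrained, so is that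
of every subnormal subgroup. -/
theorem constrained_of_subnormal [Finite G] {p : ℕ} [Fact p.Prime] (S : Sylow p G)
    (hcon : (groupFusionSystem (S : Subgroup G)).IsConstrained p) (H : Subgroup G) (hH : H.IsSubnormal) :
    (groupFusionSystem ((S : Subgroup G).subgroupOf H)).IsConstrained p := by
  obtain ⟨-, h2⟩ := subnormal_constrained S hcon H hH
  have hfin : Finite ↥((S : Subgroup G) ⊓ H) := inferInstance
  have h3 := constrained_subgroupOf H ((S : Subgroup G) ⊓ H) inf_le_right (S.isPGroup'.to_le inf_le_left) h2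
  have e : ((S : Subgroup G) ⊓ H).subgroupOf H = (S : Subgroup G).subgroupOf H := by
    ext x
    simp [Subgroup.mem_subgroupOf]
  rw [e] at h3
  exact h3

end Cfsg.Agent.Lib.Helper26.SubCon
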