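import Cfsg.Agent.Lib.Helper26.SubConD
set_option autoImplicit false

/-!
The normal centric subgroup `O_p` of a constrained system contains every element of `S` stabilizing a chain `1 ≤ K ≤ O_p`
with `K` normal in the system.  The quotient of a finite group by a central subgroup keeps a constrained fusion system.
-/

namespace Cfsg.Agent.Lib.Helper26.SubCon

open Cfsg Cfsg.FusionSystem Cfsg.Agent.Lib.Helper26
open scoped commutatorElement

section Good

variable {Ω : Type*} [Group Ω] {S : Subgroup Ω}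

theorem exists_good_normal [Finite S] {p : ℕ} [Fact p.Prime] (hS : IsPGroup p S) (F : FusionSystem S)
    (hF : F.IsConstrained p) :
    ∃ Q : Subgroup Ω, F.IsNormal Q ∧ F.IsCentric Q ∧
      ∀ K : Subgroup Ω, F.IsNormal K → K ≤ Q → ∀ c ∈ S, (∀ x ∈ K, x * c = c * x) →
        (∀ q ∈ Q, q * c * q⁻¹ * c⁻¹ ∈ K) → c ∈ Q := by
  obtain ⟨Q₀, hfinQ₀, h, hM⟩ := ModelThm.exists_model hS F hF
  have hM' := hM
  obtain ⟨hfin, hreal, ⟨Syl, hSyl⟩, hcent⟩ := hM
  have hOn : (pCore p (ModelThm.Mdl h)).Normal := Cfsg.Agent.Lib.Helper17.pCore_normal p _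
  have hOT : pCore p (ModelThm.Mdl h) ≤ (ModelThm.mIota h).range :=
    hSyl ▸ Cfsg.Agent.Lib.Helper16.pCore_le_sylow Syl
  set ι := ModelThm.mIota h with hι
  set O := pCore p (ModelThm.Mdl h) with hO
  set Q := pullSub ι O with hQdef
  have hQn : F.IsNormal Q := isNormal_pullSub_of_realized F ι hreal O hOT
  have hQc : F.IsCentric Q := isCentric_pullSub_of_realized F ι hreal O hOT hcent
  refine ⟨Q, hQn, hQc, ?_⟩
  intro K hKn hKQ c hcS hcK hcQ
  have hKS : K ≤ S := hKn.1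
  haveI hKhatN : ((K.subgroupOf S).map ι).Normal := ModelThm.map_normal_of_isNormal hM' hKn
  have hKhatO : (K.subgroupOf S).map ι ≤ O := by
    rintro _ ⟨x, hx, rfl⟩
    have hxK : (x : Ω) ∈ K := hx
    exact (mem_pullSub ι O x).mp (hKQ hxK)
  have hmem : ι ⟨c, hcS⟩ ∈ stabSub O ((K.subgroupOf S).map ι) := by
    rw [mem_stabSub]
    constructor
    · rintro _ ⟨x, hx, rfl⟩
      have hxK : (x : Ω) ∈ K := hx
      have := hcK x hxK
      rw [← map_mul, ← map_mul]
      congr 1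
      exact Subtype.ext this.symm
    · intro u hu
      obtain ⟨q, rfl⟩ := hOT hu
      have hqQ : (q : Ω) ∈ Q := (mem_pullSub ι O q).mpr hu
      have e : ⁅ι q, ι ⟨c, hcS⟩⁆ = ι ⁅q, ⟨c, hcS⟩⁆ := by
        simp only [commutatorElement_def, map_mul, map_inv]
      rw [e]
      refine ⟨⁅q, ⟨c, hcS⟩⁆, ?_, rfl⟩
      show ((⁅q, ⟨c, hcS⟩⁆ : ↥S) : Ω) ∈ K
      have e2 : ((⁅q, ⟨c, hcS⟩⁆ : ↥S) : Ω) = (q : Ω) * c * (q : Ω)⁻¹ * c⁻¹ := by
        simp [commutatorElement_def]
      rw [e2]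
      exact hcQ q hqQ
  have := stabSub_le_pCore hcent ((K.subgroupOf S).map ι) hKhatO hmem
  exact (mem_pullSub ι O ⟨c, hcS⟩).mpr this

end Good

section Quot

variable {H : Type*} [Group H]

/-- a `p`-element of `P Z` (`Z` central, `P` a Sylow `p`-subgroup) lies in `P` -/
theorem mem_sylow_of_map_mem [Finite H] {p : ℕ} [Fact p.Prime] (P : Sylow p H) (Z : Subgroup H) [Z.Normal]
    (hZ : Z ≤ Subgroup.center H) {y : H} (hy : ∃ k : ℕ, y ^ p ^ k = 1)
    (hmem : QuotientGroup.mk' Z y ∈ (P : Subgroup H).map (QuotientGroup.mk' Z)) : y ∈ (P : Subgroup H) := by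
  obtain ⟨s, hs, hsy⟩ := hmem
  have hz : s⁻¹ * y ∈ Z := by
    rw [← QuotientGroup.eq_one_iff, QuotientGroup.mk_mul, QuotientGroup.mk_inv]
    have : (QuotientGroup.mk s : H ⧸ Z) = QuotientGroup.mk y := hsy
    rw [this]; simp
  set z := s⁻¹ * y with hzdef
  have hzc : z ∈ Subgroup.center H := hZ hz
  have hcomm : ∀ g : H, g * z = z * g := fun g => Subgroup.mem_center_iff.mp hzc g
  -- `z` is a `p`-element
  obtain ⟨k, hk⟩ := hy
  obtain ⟨j, hj⟩ := P.isPGroup' ⟨s, hs⟩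
  have hsj : s ^ p ^ j = 1 := congrArg Subtype.val hj
  have hyz : y = s * z := by rw [hzdef]; group
  have hzp : z ^ p ^ (j + k) = 1 := by
    have hsz : Commute s z := hcomm s
    have h1 : y ^ p ^ (j + k) = s ^ p ^ (j + k) * z ^ p ^ (j + k) := by rw [hyz, hsz.mul_pow]
    have h2 : y ^ p ^ (j + k) = 1 := by rw [pow_add, mul_comm, pow_mul, hk, one_pow]
    have h3 : s ^ p ^ (j + k) = 1 := by rw [pow_add, pow_mul, hsj, one_pow]
    rw [h2, h3, one_mul] at h1
    exact h1.symm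
  have hzP : z ∈ (P : Subgroup H) := by
    have hn : (Subgroup.zpowers z).Normal := by
      constructor
      intro x hx g
      have hxc : x ∈ Subgroup.center H := by
        obtain ⟨i, rfl⟩ := Subgroup.mem_zpowers_iff.mp hx
        exact Subgroup.zpow_mem _ hzc i
      have : g * x * g⁻¹ = x := by
        rw [Subgroup.mem_center_iff.mp hxc g]; group
      rw [this]; exact hx
    have hpz : IsPGroup p (Subgroup.zpowers z) := by
      rintro ⟨x, hx⟩
      obtain ⟨i, rfl⟩ := Subgroup.mem_zpowers_iff.mp hx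
      refine ⟨j + k, Subtype.ext ?_⟩
      show (z ^ i) ^ p ^ (j + k) = 1
      rw [← zpow_natCast, ← zpow_mul, mul_comm, zpow_mul, zpow_natCast, hzp, one_zpow]
    exact hpz.le_sylow_of_normal P (Subgroup.mem_zpowers z)
  rw [hyz]
  exact (P : Subgroup H).mul_mem hs hzP

/-- **The quotient by a central subgroup keeps a constrained fusion system.** -/
theorem constrained_quotient_central [Finite H] {p : ℕ} [Fact p.Prime] (P : Sylow p H)
    (hcon : (groupFusionSystem (P : Subgroup H)).IsConstrained p) (Z : Subgroup H) [Z.Normal]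
    (hZ : Z ≤ Subgroup.center H) :
    (groupFusionSystem ((P : Subgroup H).map (QuotientGroup.mk' Z))).IsConstrained p := by
  classical
  set π := QuotientGroup.mk' Z with hπ
  have hπsurj : Function.Surjective π := QuotientGroup.mk'_surjective Z
  set F := groupFusionSystem (P : Subgroup H) with hFdef
  obtain ⟨Q, hQn, hQc, hgood⟩ := exists_good_normal P.isPGroup' F hcon
  have hQP : Q ≤ (P : Subgroup H) := hQn.1
  set Sb : Subgroup (H ⧸ Z) := (P : Subgroup H).map π with hSb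
  set Qb : Subgroup (H ⧸ Z) := Q.map π with hQb
  have hQbSb : Qb ≤ Sb := Subgroup.map_mono hQP
  have hSbp : IsPGroup p Sb := P.isPGroup'.map π
  -- `Sb` is a Sylow subgroup
  have hidx : ¬ p ∣ Sb.index := by
    intro h
    exact P.not_dvd_index (h.trans (Subgroup.index_map_dvd (P : Subgroup H) hπsurj))
  let Tb : Sylow p (H ⧸ Z) := hSbp.toSylow hidx
  have hTb : (Tb : Subgroup (H ⧸ Z)) = Sb := rfl
  have hsat : (groupFusionSystem Sb).IsSaturated p := groupFS_saturated Tb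
  have hfinSb : Finite ↥Sb := inferInstance
  -- lifting conjugations
  have hlift : ∀ (P₀ : Subgroup H), P₀ ≤ (P : Subgroup H) → ∀ h : H,
      (∀ x ∈ P₀, π (h * x * h⁻¹) ∈ Sb) → ∀ x ∈ P₀, h * x * h⁻¹ ∈ (P : Subgroup H) := by
    intro P₀ hP₀ h hh x hx
    apply mem_sylow_of_map_mem P Z hZ _ (hh x hx)
    obtain ⟨k, hk⟩ := P.isPGroup' ⟨x, hP₀ hx⟩
    refine ⟨k, ?_⟩
    have : x ^ p ^ k = 1 := congrArg Subtype.val hk
    rw [conj_pow, this]; group
  -- `Qb` is normal in the quotient system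
  have hQbn : (groupFusionSystem Sb).IsNormal Qb := by
    refine ⟨hQbSb, ?_⟩
    rintro Pb φb ⟨hPb, hφbS, gb, hgb⟩
    obtain ⟨h, rfl⟩ := hπsurj gb
    set P₀ : Subgroup H := (P : Subgroup H) ⊓ Pb.comap π with hP₀
    have hP₀P : P₀ ≤ (P : Subgroup H) := inf_le_left
    have hP₀map : P₀.map π = Pb := by
      apply le_antisymm
      · rintro _ ⟨x, hx, rfl⟩
        exact hx.2
      · intro xb hxb
        obtain ⟨s, hs, rfl⟩ := hPb hxb
        exact ⟨s, ⟨hs, hxb⟩, rfl⟩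
    have hconj : ∀ x ∈ P₀, h * x * h⁻¹ ∈ (P : Subgroup H) := by
      apply hlift P₀ hP₀P h
      intro x hx
      have h1 := hφbS ⟨π x, hx.2⟩
      rw [hgb] at h1
      have : π (h * x * h⁻¹) = π h * π x * (π h)⁻¹ := by simp
      rw [this]
      exact h1
    have hc₀ : conjHom P₀ h ∈ F.Hom P₀ := ⟨hP₀P, fun x => hconj x x.2, h, fun _ => rfl⟩
    obtain ⟨ψ, hψ, hψext, hψQ⟩ := hQn.2 P₀ _ hc₀
    obtain ⟨hle, hψS, h', hh'⟩ := hψ
    have hfinQ : Finite ↥Q := finite_of_le hQP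
    have hh'N : h' ∈ Subgroup.normalizer (Q : Set H) := by
      apply mem_normalizer_of_conj_mem_finite
      intro y hy
      have hy' : (⟨y, (le_sup_right : Q ≤ P₀ ⊔ Q) hy⟩ : ↥(P₀ ⊔ Q)) ∈ Q.subgroupOf (P₀ ⊔ Q) := hy
      have : ψ ⟨y, (le_sup_right : Q ≤ P₀ ⊔ Q) hy⟩ ∈ (Q.subgroupOf (P₀ ⊔ Q)).map ψ := ⟨_, hy', rfl⟩
      rw [hψQ, hh'] at this
      exact this
    have hsupmap : (P₀ ⊔ Q).map π = Pb ⊔ Qb := by rw [Subgroup.map_sup, hP₀map]
    have hπh'N : π h' ∈ Subgroup.normalizer (Qb : Set (H ⧸ Z)) := by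
      apply mem_normalizer_of_conj_mem_finite
      rintro _ ⟨q, hq, rfl⟩
      refine ⟨h' * q * h'⁻¹, (Subgroup.mem_normalizer_iff.mp hh'N q).mp hq, by simp⟩
    refine ⟨conjHom (Pb ⊔ Qb) (π h'), ⟨sup_le hPb hQbSb, ?_, π h', fun _ => rfl⟩, ?_, ?_⟩
    · rintro ⟨yb, hyb⟩
      rw [← hsupmap] at hyb
      obtain ⟨y, hy, rfl⟩ := hyb
      show π h' * π y * (π h')⁻¹ ∈ Sb
      have h1 := hψS ⟨y, hy⟩
      rw [hh'] at h1
      exact ⟨h' * y * h'⁻¹, h1, by simp⟩
    · rintro ⟨xb, hxb⟩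
      have hxb' := hxb
      rw [← hP₀map] at hxb'
      obtain ⟨x, hx, rfl⟩ := hxb'
      show π h' * π x * (π h')⁻¹ = φb ⟨π x, hxb⟩
      rw [hgb]
      have h1 := hψext ⟨x, hx⟩
      rw [hh'] at h1
      have h2 : h' * x * h'⁻¹ = h * x * h⁻¹ := h1
      have : π h' * π x * (π h')⁻¹ = π (h' * x * h'⁻¹) := by simp
      rw [this, h2]
      simp
    · exact conjHom_map_eq_of_mem_normalizer le_sup_right hπh'N
  refine ⟨hsat, Qb, hQbn, hQbSb, ?_⟩
  -- `Qb` is centric
  rintro Qb' ⟨φ, hφ, rfl⟩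
  have hQbsc := stronglyClosed_of_isNormal (groupFusionSystem Sb) hQbn
  have hfinQb : Finite ↥Qb := finite_of_le hQbSb
  have hrange : φ.range = Qb :=
    range_eq_of_le φ ((groupFusionSystem Sb).injective_of_mem hφ) (fun x => hQbsc.2 Qb le_rfl φ hφ x)
  rw [hrange]
  intro cb hcb
  obtain ⟨hcbS, hcbQ⟩ := mem_centralizerIn_iff.mp hcb
  obtain ⟨c, hcP, rfl⟩ := hcbS
  refine ⟨c, ?_, rfl⟩
  -- the subgroup `K = P ∩ Z`
  set K : Subgroup H := (P : Subgroup H) ⊓ Z with hK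
  have hKc : ∀ x ∈ K, ∀ g : H, g * x = x * g := fun x hx g => Subgroup.mem_center_iff.mp (hZ hx.2) g
  haveI hKn : K.Normal := by
    constructor
    intro x hx g
    have : g * x * g⁻¹ = x := by rw [hKc x hx g]; group
    rw [this]; exact hx
  have hKp : IsPGroup p K := P.isPGroup'.to_le inf_le_left
  have hKF : F.IsNormal K := groupFS_isNormal_of_normal P K hKp
  have hKQ : K ≤ Q := by
    intro x hx
    apply hQc.2 Q (isConj_refl F hQP)
    rw [mem_centralizerIn_iff]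
    exact ⟨hx.1, fun y _ => hKc x hx y⟩
  apply hgood K hKF hKQ c hcP (fun x hx => (hKc x hx c).symm)
  intro q hq
  refine ⟨(P : Subgroup H).mul_mem ((P : Subgroup H).mul_mem ((P : Subgroup H).mul_mem (hQP hq) hcP)
    ((P : Subgroup H).inv_mem (hQP hq))) ((P : Subgroup H).inv_mem hcP), ?_⟩
  show q * c * q⁻¹ * c⁻¹ ∈ Z
  rw [← QuotientGroup.eq_one_iff]
  have h1 := hcbQ (π q) ⟨q, hq, rfl⟩
  have : ((q * c * q⁻¹ * c⁻¹ : H) : H ⧸ Z) = π q * π c * (π q)⁻¹ * (π c)⁻¹ := by simp [hπ]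
  rw [this, h1]
  group

end Quot

section Component

variable {G : Type*} [Group G]

/-- **S5147 (general prime, any subnormal subgroup)**. -/
theorem constrained_subnormal_quotient_center [Finite G] {p : ℕ} [Fact p.Prime] (S : Sylow p G)
    (hcon : (groupFusionSystem (S : Subgroup G)).IsConstrained p) (L : Subgroup G) (hL : L.IsSubnormal) :
    (groupFusionSystem (((S : Subgroup G).subgroupOf L).map
      (QuotientGroup.mk' (Subgroup.center L)))).IsConstrained p := by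
  obtain ⟨⟨R, hR⟩, -⟩ := subnormal_constrained S hcon L hL
  have hconL := constrained_of_subnormal S hcon L hL
  have e : ((S : Subgroup G) ⊓ L).subgroupOf L = (S : Subgroup G).subgroupOf L := by
    ext x
    simp [Subgroup.mem_subgroupOf]
  rw [e] at hR
  rw [← hR] at hconL ⊢
  exact constrained_quotient_central R hconL (Subgroup.center L) le_rfl

end Component

end Cfsg.Agent.Lib.Helper26.SubCon
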