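import Cfsg.Agent.Lib.Helper26.FSResistant
import Cfsg.Agent.S1137

/-!
Suzuki `2`-groups are resistant, *given* that they have class two (Higman): reduction of S5214 to the class-two
part of S1138.
-/

set_option autoImplicit false
universe u

namespace Cfsg.Agent.Lib.Helper26

open Cfsg Cfsg.FusionSystem

variable {Ω : Type u} [Group Ω] {S : Subgroup Ω} [Finite S]

/-- A Suzuki `2`-group of class two is normal in every saturated fusion system over it. -/
theorem suzuki_isNormal_of_classTwo (hS : IsPGroup 2 S) (F : FusionSystem S) (hF : F.IsSaturated 2)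
    (hsz : Cfsg.IsSuzukiTwoGroup ↥S)
    (hc2 : ∀ x y : ↥S, x⁻¹ * y⁻¹ * x * y ∈ Subgroup.center ↥S) : F.IsNormal S := by
  have : Fact (Nat.Prime 2) := ⟨Nat.prime_two⟩
  obtain ⟨h1, h2⟩ := Cfsg.Agent.S1137.result hsz
  apply isNormal_of_omega_central hS F hF
  · intro x hx hx2 s hs
    by_cases hx1 : x = 1
    · rw [hx1, mul_one, one_mul]
    · have hmem : (⟨x, hx⟩ : S) ∈ Subgroup.center ↥S := by
        refine ((h1 ⟨x, hx⟩).mp ⟨fun h => hx1 (congrArg Subtype.val h), ?_⟩).1
        apply Subtype.ext
        rw [← pow_two]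
        exact hx2
      have := Subgroup.mem_center_iff.mp hmem ⟨s, hs⟩
      exact congrArg Subtype.val this
  · intro a ha b hb
    have := h2 _ (hc2 ⟨a, ha⟩ ⟨b, hb⟩)
    rw [pow_two]
    exact congrArg Subtype.val this

end Cfsg.Agent.Lib.Helper26
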