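import Cfsg.Agent.Lib.Helper26.PPI11
import Cfsg.Agent.Lib.Helper27.FSInner
import Cfsg.Agent.Lib.Helper27.FSProdSat

/-!
# Tate's theorem for fusion systems, part 1 (helper26)

The transfer of a characteristic biset on a subgroup where the character is constant on classes; the fibre product
`Γ = S ×_{S/R} S` and the character `(a, b) ↦ θ (a⁻¹ b)`.
-/

set_option autoImplicit false
set_option linter.unusedSectionVars false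
set_option linter.unusedVariables false
set_option linter.style.haveILetI false

namespace Cfsg.Agent.Lib.Helper26.TT

open Cfsg Cfsg.FusionSystem Cfsg.Agent.Lib.Helper26 Cfsg.Agent.Lib.Helper27.FM
open Cfsg.Agent.Lib.Helper27.BS MulAction

universe u

section Transfer

variable {Ω : Type u} [Group Ω] {S : Subgroup Ω}
variable {X : Type*} [MulAction ↥(S.prod S) X] [MulAction ↥S X]
variable {A : Type*} [CommGroup A]

/-- the transfer on a subgroup where `π` is constant on the classes of the system -/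
theorem trfFun_stableOn (hcomp : ∀ (b : ↥S) (x : X), b • x = pair 1 b • x) {F : FusionSystem S}
    (hst : ∀ x : X, IsGr F (stabilizer ↥(S.prod S) x)) [Finite X] (π : ↥S →* A) (Z : Subgroup ↥S)
    (hZ : ∀ (P : Subgroup Ω) (θ : Ω → Ω), IsFM F P θ → ∀ w : ↥S, w ∈ Z → (w : Ω) ∈ P →
      ∀ w' : ↥S, (w' : Ω) = θ w → π w' = π w)
    (z : ↥S) (hz : z ∈ Z) : trfFun X π z = (π z)⁻¹ ^ Nat.card (Orb ↥S X) := by
  let j : ↥Z × ↥S →* ↥(S.prod S) := MonoidHom.mk' (fun n => pair n.1.1 n.2) (fun a b => rfl)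
  letI : MulAction (↥Z × ↥S) X := MulAction.compHom X j
  have hj : ∀ (n : ↥Z × ↥S) (x : X), n • x = pair n.1.1 n.2 • x := fun _ _ => rfl
  let χ : ↥Z × ↥S →* A :=
    ((π.comp Z.subtype).comp (MonoidHom.fst ↥Z ↥S))⁻¹ * π.comp (MonoidHom.snd ↥Z ↥S)
  have hχ : ∀ n : ↥Z × ↥S, χ n = (π n.1.1)⁻¹ * π n.2 := fun n => rfl
  have hχ1 : ∀ (x : X) (n : ↥Z × ↥S), n • x = x → χ n = 1 := by
    intro x n hn
    rw [hj] at hn
    have h1 : pair n.1.1 n.2 ∈ stabilizer ↥(S.prod S) x := hn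
    obtain ⟨P, θ, hθ, hg⟩ := hst x
    have h2 : ((pair n.1.1 n.2 : ↥(S.prod S)) : Ω × Ω) ∈ up (stabilizer ↥(S.prod S) x) := coe_mem_up.mpr h1
    obtain ⟨h3, h4⟩ := (hg _).mp h2
    have h5 : θ ((n.1.1 : ↥S) : Ω) = ((n.2 : ↥S) : Ω) := h4
    have h6 : ((n.1.1 : ↥S) : Ω) ∈ P := h3
    have h7 : π n.2 = π n.1.1 := hZ P θ hθ n.1.1 n.1.2 h6 n.2 h5.symm
    rw [hχ, h7, inv_mul_cancel]
  obtain ⟨f, hf⟩ := exists_equivariant_fun χ hχ1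
  have hf1 : ∀ (b : ↥S) (x : X), f (b • x) = π b * f x := by
    intro b x
    have h1 := hf ((1 : ↥Z), b) x
    rw [hj, hχ] at h1
    rw [hcomp]
    simpa using h1
  have hf2 : ∀ x : X, f (lam X z x) = (π z)⁻¹ * f x := by
    intro x
    have h1 := hf ((⟨z, hz⟩ : ↥Z), (1 : ↥S)) x
    rw [hj, hχ] at h1
    rw [lam_apply]
    simpa using h1
  unfold trfFun
  rw [@det_eq_pow ↥S _ X _ A _ (Fintype.ofFinite _) π (lam X z) (lam_rEq hcomp z) f hf1 _ hf2,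
    @Nat.card_eq_fintype_card _ (Fintype.ofFinite _)]

end Transfer

section Gam

variable {Ω : Type u} [Group Ω]

/-- the fibre product `S ×_{S/R} S` -/
def gam (S R : Subgroup Ω) (hRn : ∀ s ∈ S, ∀ r ∈ R, s * r * s⁻¹ ∈ R) : Subgroup (Ω × Ω) where
  carrier := {g | g.1 ∈ S ∧ g.2 ∈ S ∧ g.1⁻¹ * g.2 ∈ R}
  one_mem' := ⟨S.one_mem, S.one_mem, by simp [R.one_mem]⟩
  mul_mem' := by
    rintro g h ⟨hg1, hg2, hg⟩ ⟨hh1, hh2, hh⟩
    refine ⟨S.mul_mem hg1 hh1, S.mul_mem hg2 hh2, ?_⟩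
    have e : (g * h).1⁻¹ * (g * h).2 = (h.1⁻¹ * (g.1⁻¹ * g.2) * h.1⁻¹⁻¹) * (h.1⁻¹ * h.2) := by
      simp only [Prod.fst_mul, Prod.snd_mul]
      group
    rw [e]
    exact R.mul_mem (hRn _ (S.inv_mem hh1) _ hg) hh
  inv_mem' := by
    rintro g ⟨hg1, hg2, hg⟩
    refine ⟨S.inv_mem hg1, S.inv_mem hg2, ?_⟩
    have e : (g⁻¹).1⁻¹ * (g⁻¹).2 = g.1 * (g.1⁻¹ * g.2)⁻¹ * g.1⁻¹ := by
      simp only [Prod.fst_inv, Prod.snd_inv]
      group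
    rw [e]
    exact hRn _ hg1 _ (R.inv_mem hg)

variable {S R : Subgroup Ω} {hRn : ∀ s ∈ S, ∀ r ∈ R, s * r * s⁻¹ ∈ R}

theorem mem_gam {g : Ω × Ω} : g ∈ gam S R hRn ↔ g.1 ∈ S ∧ g.2 ∈ S ∧ g.1⁻¹ * g.2 ∈ R := Iff.rfl

theorem gam_le : gam S R hRn ≤ S.prod S := fun g hg => ⟨hg.1, hg.2.1⟩

theorem diag_mem_gam {s : Ω} (hs : s ∈ S) : ((s, s) : Ω × Ω) ∈ gam S R hRn :=
  ⟨hs, hs, by simp [R.one_mem]⟩

theorem left_mem_gam (hRS : R ≤ S) {x : Ω} (hx : x ∈ R) : ((x, 1) : Ω × Ω) ∈ gam S R hRn :=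
  ⟨hRS hx, S.one_mem, by simpa using R.inv_mem hx⟩

theorem right_mem_gam (hRS : R ≤ S) {x : Ω} (hx : x ∈ R) : ((1, x) : Ω × Ω) ∈ gam S R hRn :=
  ⟨S.one_mem, hRS hx, by simpa using hx⟩

variable {A : Type*} [CommGroup A]

/-- the character `(a, b) ↦ θ (a⁻¹ b)` -/
def piHom (hRn : ∀ s ∈ S, ∀ r ∈ R, s * r * s⁻¹ ∈ R) (θ : ↥R →* A)
    (hθ : ∀ (s : Ω) (hs : s ∈ S) (x : ↥R), θ ⟨s * x * s⁻¹, hRn s hs x x.2⟩ = θ x) : ↥(gam S R hRn) →* A :=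
  MonoidHom.mk' (fun g => θ ⟨(g : Ω × Ω).1⁻¹ * (g : Ω × Ω).2, g.2.2.2⟩) (by
    intro g h
    have h1 := hθ _ (S.inv_mem h.2.1) ⟨(g : Ω × Ω).1⁻¹ * (g : Ω × Ω).2, g.2.2.2⟩
    rw [← h1, ← map_mul]
    congr 1
    apply Subtype.ext
    show ((g * h : ↥(gam S R hRn)) : Ω × Ω).1⁻¹ * ((g * h : ↥(gam S R hRn)) : Ω × Ω).2 =
      ((h : Ω × Ω).1⁻¹ * ((g : Ω × Ω).1⁻¹ * (g : Ω × Ω).2) * (h : Ω × Ω).1⁻¹⁻¹) *
        ((h : Ω × Ω).1⁻¹ * (h : Ω × Ω).2)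
    simp only [Subgroup.coe_mul, Prod.fst_mul, Prod.snd_mul]
    group)

theorem piHom_apply (θ : ↥R →* A)
    (hθ : ∀ (s : Ω) (hs : s ∈ S) (x : ↥R), θ ⟨s * x * s⁻¹, hRn s hs x x.2⟩ = θ x) (g : ↥(gam S R hRn)) :
    piHom hRn θ hθ g = θ ⟨(g : Ω × Ω).1⁻¹ * (g : Ω × Ω).2, g.2.2.2⟩ := rfl

end Gam

end Cfsg.Agent.Lib.Helper26.TT
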