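import Cfsg.Agent.Lib.Helper26.TT1

/-!
# Tate's theorem for fusion systems, part 2 (helper26)

The hyperfocal subgroup of `F × F_S(S)` lies in `hyp(F) × 1`.
-/

set_option autoImplicit false
set_option linter.unusedSectionVars false
set_option linter.unusedVariables false
set_option linter.style.haveILetI false

namespace Cfsg.Agent.Lib.Helper26.TT

open Cfsg Cfsg.FusionSystem Cfsg.Agent.Lib.Helper26 Cfsg.Agent.Lib.Helper27 Cfsg.Agent.Lib.Helper27.FM
open Cfsg.Agent.Lib.Helper27.BS MulAction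

universe u

variable {Ω : Type u} [Group Ω] {S : Subgroup Ω}

/-- the first component of an automorphism of the product system -/
theorem exists_fst_aut (F : FusionSystem S) {P : Subgroup (Ω × Ω)} (g : MulAut P)
    (φ₁ : ↥(pr₁ P) →* Ω) (hφ₁ : φ₁ ∈ F.Hom (pr₁ P))
    (hform : ∀ x : P, ((g x : P) : Ω × Ω).1 = φ₁ ⟨(x : Ω × Ω).1, fst_mem_map x⟩) :
    ∃ β : MulAut ↥(pr₁ P), (pr₁ P).subtype.comp β.toMonoidHom = φ₁ ∧
      ∀ (k : ℕ) (x : P), (((β ^ k) ⟨(x : Ω × Ω).1, fst_mem_map x⟩ : ↥(pr₁ P)) : Ω) = (((g ^ k) x : P) : Ω × Ω).1 := by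
  have hval : ∀ y : ↥(pr₁ P), φ₁ y ∈ pr₁ P := by
    rintro ⟨_, x, hx, rfl⟩
    have := hform ⟨x, hx⟩
    show φ₁ ⟨((⟨x, hx⟩ : P) : Ω × Ω).1, fst_mem_map _⟩ ∈ pr₁ P
    rw [← this]
    exact fst_mem_map _
  have hinj : Function.Injective (φ₁.codRestrict (pr₁ P) hval) := by
    intro a b hab
    apply F.injective_of_mem hφ₁
    exact congrArg Subtype.val hab
  have hsurj : Function.Surjective (φ₁.codRestrict (pr₁ P) hval) := by
    rintro ⟨_, x, hx, rfl⟩
    refine ⟨⟨((g⁻¹ ⟨x, hx⟩ : P) : Ω × Ω).1, fst_mem_map _⟩, ?_⟩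
    apply Subtype.ext
    show φ₁ ⟨((g⁻¹ ⟨x, hx⟩ : P) : Ω × Ω).1, fst_mem_map _⟩ = (MonoidHom.fst Ω Ω) x
    rw [← hform (g⁻¹ ⟨x, hx⟩), MulAut.apply_inv_self]
    rfl
  let β : MulAut ↥(pr₁ P) := MulEquiv.ofBijective (φ₁.codRestrict (pr₁ P) hval) ⟨hinj, hsurj⟩
  have hβ : ∀ y : ↥(pr₁ P), ((β y : ↥(pr₁ P)) : Ω) = φ₁ y := fun y => rfl
  refine ⟨β, ?_, ?_⟩
  · ext y
    exact hβ y
  · intro k
    induction k with
    | zero => intro x; rfl
    | succ k ih =>
      intro x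
      rw [pow_succ', pow_succ', MulAut.mul_apply, MulAut.mul_apply, hform ((g ^ k) x), hβ]
      congr 1
      apply Subtype.ext
      exact ih x

/-- the hyperfocal subgroup of `F × F_S(S)` -/
theorem hyperfocal_prod_inner_le [Finite S] {p : ℕ} [Fact p.Prime] (hS : IsPGroup p S) (F : FusionSystem S)
    {g : Ω × Ω} (hg : g ∈ (prodSystem F (innerFusionSystem S)).hyperfocalSubgroup p) :
    g.1 ∈ F.hyperfocalSubgroup p ∧ g.2 = 1 := by
  have hp : p.Prime := Fact.out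
  let M : Subgroup (Ω × Ω) := (F.hyperfocalSubgroup p).prod ⊥
  have hM : ∀ g : Ω × Ω, g ∈ M ↔ g.1 ∈ F.hyperfocalSubgroup p ∧ g.2 = 1 := fun g => by
    show g.1 ∈ _ ∧ g.2 ∈ (⊥ : Subgroup Ω) ↔ _
    rw [Subgroup.mem_bot]
    exact Iff.rfl
  rw [← hM]
  revert g
  show (prodSystem F (innerFusionSystem S)).hyperfocalSubgroup p ≤ M
  unfold hyperfocalSubgroup
  rw [Subgroup.closure_le]
  rintro _ ⟨P, α, x, hP, hα, rfl⟩
  refine pResidual_induction ((prodSystem F (innerFusionSystem S)).autGroup P) M ?_ α hα x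
  intro g hgo x
  obtain ⟨-, φ₁, hφ₁, φ₂, hφ₂, hform⟩ := (mem_autGroup_iff (prodSystem F (innerFusionSystem S)) hP (g : MulAut P)).mp g.2
  obtain ⟨-, s, hsS, hs⟩ := hφ₂
  set m := orderOf g with hm
  have hm' : orderOf (g : MulAut P) = m := Subgroup.orderOf_coe g
  have hgm : (g : MulAut P) ^ m = 1 := by rw [← hm']; exact pow_orderOf_eq_one _
  have hform1 : ∀ x : P, ((((g : MulAut P)) x : P) : Ω × Ω).1 = φ₁ ⟨(x : Ω × Ω).1, fst_mem_map x⟩ := fun x =>
    congrArg Prod.fst (hform x (fst_mem_map x) (snd_mem_map x))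
  have hform2 : ∀ x : P, ((((g : MulAut P)) x : P) : Ω × Ω).2 = s * (x : Ω × Ω).2 * s⁻¹ := fun x => by
    have := congrArg Prod.snd (hform x (fst_mem_map x) (snd_mem_map x))
    rw [hs] at this
    exact this
  rw [hM]
  constructor
  · -- first component
    obtain ⟨β, hβφ, hβk⟩ := exists_fst_aut F (g : MulAut P) φ₁ hφ₁ hform1
    have hP1 : pr₁ P ≤ S := map_fst_le hP
    have hβF : β ∈ F.autGroup (pr₁ P) := by
      rw [mem_autGroup_iff F hP1, hβφ]
      exact hφ₁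
    have hβm : β ^ m = 1 := by
      ext ⟨_, y, hy, rfl⟩
      have := hβk m ⟨y, hy⟩
      rw [hgm] at this
      exact this
    have hβo : (orderOf (⟨β, hβF⟩ : F.autGroup (pr₁ P))).Coprime p := by
      rw [Subgroup.orderOf_mk]
      exact Nat.Coprime.coprime_dvd_left (orderOf_dvd_of_pow_eq_one hβm) hgo
    have hres : (⟨β, hβF⟩ : F.autGroup (pr₁ P)) ∈ pResidual p (F.autGroup (pr₁ P)) :=
      Subgroup.subset_closure hβo
    have := mem_hyperfocal_of F p hP1 ⟨β, hβF⟩ hres ⟨(x : Ω × Ω).1, fst_mem_map x⟩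
    have e : ((x : Ω × Ω)⁻¹ * ((((g : MulAut P)) x : P) : Ω × Ω)).1 =
        (x : Ω × Ω).1⁻¹ * ((β ⟨(x : Ω × Ω).1, fst_mem_map x⟩ : ↥(pr₁ P)) : Ω) := by
      have h1 := hβk 1 x
      rw [pow_one, pow_one] at h1
      rw [h1]
      rfl
    rw [e]
    exact this
  · -- second component
    have hk : ∀ (k : ℕ) (x : P), (((((g : MulAut P)) ^ k) x : P) : Ω × Ω).2 = s ^ k * (x : Ω × Ω).2 * (s ^ k)⁻¹ := by
      intro k
      induction k with
      | zero => intro x; simp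
      | succ k ih =>
        intro x
        rw [pow_succ', MulAut.mul_apply, hform2, ih, pow_succ']
        group
    have h1 := hk m x
    rw [hgm] at h1
    have h2 : s ^ m * (x : Ω × Ω).2 = (x : Ω × Ω).2 * s ^ m := by
      have h3 : ((1 : MulAut P) x : P) = x := rfl
      rw [h3] at h1
      calc s ^ m * (x : Ω × Ω).2 = (s ^ m * (x : Ω × Ω).2 * (s ^ m)⁻¹) * s ^ m := by group
        _ = (x : Ω × Ω).2 * s ^ m := by rw [← h1]
    -- `s` is a power of `s ^ m`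
    obtain ⟨j, hj⟩ := hS ⟨s, hsS⟩
    have hj' : s ^ p ^ j = 1 := congrArg Subtype.val hj
    have hcop : Nat.Coprime m (p ^ j) := Nat.Coprime.pow_right j hgo
    have hs_pow : ∃ u : ℕ, (s ^ m) ^ u = s := by
      by_cases h1j : 1 < p ^ j
      · obtain ⟨u, -, hu⟩ := Nat.exists_mul_mod_eq_one_of_coprime hcop h1j
        refine ⟨u, ?_⟩
        rw [← pow_mul]
        conv_lhs => rw [← Nat.div_add_mod (m * u) (p ^ j), pow_add, pow_mul, hj', one_pow, one_mul, hu, pow_one]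
      · have : p ^ j = 1 := by
          have := Nat.pos_of_ne_zero (pow_ne_zero j hp.ne_zero)
          omega
        rw [this, pow_one] at hj'
        exact ⟨0, by rw [pow_zero, hj']⟩
    obtain ⟨u, hu⟩ := hs_pow
    have h4 : Commute (s ^ m) (x : Ω × Ω).2 := h2
    have h5 : Commute s (x : Ω × Ω).2 := by
      rw [← hu]
      exact h4.pow_left u
    show ((x : Ω × Ω)⁻¹ * ((((g : MulAut P)) x : P) : Ω × Ω)).2 = 1
    rw [Prod.snd_mul, hform2, Prod.snd_inv]
    rw [h5.eq]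
    group

end Cfsg.Agent.Lib.Helper26.TT
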