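import Cfsg.Agent.Lib.Helper26.TT2

/-!
# Tate's theorem for fusion systems, part 3 (helper26)

Subsystems of `F × F_S(S)` over the fibre product: the character is constant on the classes inside `1 × R`; the
automorphisms `(α, id)` for `α` of order prime to `p`.
-/

set_option autoImplicit false
set_option linter.unusedSectionVars false
set_option linter.unusedVariables false
set_option linter.style.haveILetI false

namespace Cfsg.Agent.Lib.Helper26.TT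

open Cfsg Cfsg.FusionSystem Cfsg.Agent.Lib.Helper26 Cfsg.Agent.Lib.Helper27 Cfsg.Agent.Lib.Helper27.FM
open Cfsg.Agent.Lib.Helper27.BS MulAction

universe u

variable {Ω : Type u} [Group Ω] {S R : Subgroup Ω} {hRn : ∀ s ∈ S, ∀ r ∈ R, s * r * s⁻¹ ∈ R}
variable {A : Type*} [CommGroup A]

/-- the subgroup `1 × R` of the fibre product -/
def rightSub (S R : Subgroup Ω) (hRn : ∀ s ∈ S, ∀ r ∈ R, s * r * s⁻¹ ∈ R) : Subgroup ↥(gam S R hRn) where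
  carrier := {w | (w : Ω × Ω).1 = 1}
  one_mem' := rfl
  mul_mem' := by
    intro a b ha hb
    show ((a * b : ↥(gam S R hRn)) : Ω × Ω).1 = 1
    rw [Subgroup.coe_mul, Prod.fst_mul, ha, hb, one_mul]
  inv_mem' := by
    intro a ha
    show ((a⁻¹ : ↥(gam S R hRn)) : Ω × Ω).1 = 1
    rw [Subgroup.coe_inv, Prod.fst_inv, ha, inv_one]

theorem mem_rightSub {w : ↥(gam S R hRn)} : w ∈ rightSub S R hRn ↔ (w : Ω × Ω).1 = 1 := Iff.rfl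

/-- the character is constant on the classes inside `1 × R` -/
theorem piHom_stableOn (F : FusionSystem S) (θ : ↥R →* A)
    (hθ : ∀ (s : Ω) (hs : s ∈ S) (x : ↥R), θ ⟨s * x * s⁻¹, hRn s hs x x.2⟩ = θ x)
    (E : FusionSystem (gam S R hRn)) (hE : E.IsSubsystemOf (prodSystem F (innerFusionSystem S)))
    (P : Subgroup (Ω × Ω)) (θ' : Ω × Ω → Ω × Ω) (hθ' : IsFM E P θ') (w : ↥(gam S R hRn))
    (hw : w ∈ rightSub S R hRn) (hwP : (w : Ω × Ω) ∈ P) (w' : ↥(gam S R hRn))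
    (hw' : (w' : Ω × Ω) = θ' w) : piHom hRn θ hθ w' = piHom hRn θ hθ w := by
  obtain ⟨ψ, hψ, hψθ⟩ := hθ'
  obtain ⟨-, φ₁, hφ₁, φ₂, ⟨-, s, hsS, hs⟩, hform⟩ := hE P hψ
  have h1 := hform ⟨w, hwP⟩ (fst_mem_map _) (snd_mem_map _)
  rw [hψθ, ← hw', hs] at h1
  have hw1 : (w : Ω × Ω).1 = 1 := hw
  have h2 : (⟨((⟨(w : Ω × Ω), hwP⟩ : P) : Ω × Ω).1, fst_mem_map _⟩ : ↥(pr₁ P)) = 1 := Subtype.ext hw1
  rw [h2, map_one] at h1
  have h3 : (w' : Ω × Ω).1 = 1 := congrArg Prod.fst h1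
  have h4 : (w' : Ω × Ω).2 = s * (w : Ω × Ω).2 * s⁻¹ := congrArg Prod.snd h1
  have hwR : (w : Ω × Ω).2 ∈ R := by
    have := w.2.2.2
    rw [hw1, inv_one, one_mul] at this
    exact this
  rw [piHom_apply, piHom_apply]
  have e1 : (⟨(w' : Ω × Ω).1⁻¹ * (w' : Ω × Ω).2, w'.2.2.2⟩ : ↥R) =
      ⟨s * ((⟨(w : Ω × Ω).2, hwR⟩ : ↥R) : Ω) * s⁻¹, hRn s hsS _ hwR⟩ := by
    apply Subtype.ext
    show (w' : Ω × Ω).1⁻¹ * (w' : Ω × Ω).2 = s * (w : Ω × Ω).2 * s⁻¹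
    rw [h3, h4, inv_one, one_mul]
  have e2 : (⟨(w : Ω × Ω).1⁻¹ * (w : Ω × Ω).2, w.2.2.2⟩ : ↥R) = ⟨(w : Ω × Ω).2, hwR⟩ := by
    apply Subtype.ext
    show (w : Ω × Ω).1⁻¹ * (w : Ω × Ω).2 = (w : Ω × Ω).2
    rw [hw1, inv_one, one_mul]
  rw [e1, e2]
  exact hθ s hsS ⟨(w : Ω × Ω).2, hwR⟩

section Hat

variable (S R hRn) (P : Subgroup Ω)

/-- the subgroup `P ×_{S/R} P` -/
def hatSub : Subgroup (Ω × Ω) := P.prod P ⊓ gam S R hRn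

variable {S R hRn P}

theorem mem_hatSub {g : Ω × Ω} : g ∈ hatSub S R hRn P ↔ (g.1 ∈ P ∧ g.2 ∈ P) ∧ g ∈ gam S R hRn := Iff.rfl

theorem hatSub_le : hatSub S R hRn P ≤ gam S R hRn := inf_le_right

/-- `(β, id)` on `P ×_{S/R} P` -/
def hatHom (hP : P ≤ S) (β : MulAut P) (hβ : ∀ u : P, (u : Ω)⁻¹ * (β u : P) ∈ R) :
    ↥(hatSub S R hRn P) →* ↥(hatSub S R hRn P) :=
  MonoidHom.mk' (fun g => ⟨(((β ⟨(g : Ω × Ω).1, g.2.1.1⟩ : P) : Ω), (g : Ω × Ω).2), by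
    refine ⟨⟨(β ⟨(g : Ω × Ω).1, g.2.1.1⟩).2, g.2.1.2⟩, hP (β ⟨(g : Ω × Ω).1, g.2.1.1⟩).2, hP g.2.1.2, ?_⟩
    have h1 := hβ ⟨(g : Ω × Ω).1, g.2.1.1⟩
    have h2 := g.2.2.2.2
    have e : (((β ⟨(g : Ω × Ω).1, g.2.1.1⟩ : P) : Ω))⁻¹ * (g : Ω × Ω).2 =
        ((g : Ω × Ω).1⁻¹ * ((β ⟨(g : Ω × Ω).1, g.2.1.1⟩ : P) : Ω))⁻¹ * ((g : Ω × Ω).1⁻¹ * (g : Ω × Ω).2) := by
      group
    show (((β ⟨(g : Ω × Ω).1, g.2.1.1⟩ : P) : Ω))⁻¹ * (g : Ω × Ω).2 ∈ R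
    rw [e]
    exact R.mul_mem (R.inv_mem h1) h2⟩) (by
    intro g h
    apply Subtype.ext
    apply Prod.ext
    · show ((β ⟨((g * h : ↥(hatSub S R hRn P)) : Ω × Ω).1, _⟩ : P) : Ω) =
        ((β ⟨(g : Ω × Ω).1, g.2.1.1⟩ : P) : Ω) * ((β ⟨(h : Ω × Ω).1, h.2.1.1⟩ : P) : Ω)
      rw [← Subgroup.coe_mul, ← map_mul]
      rfl
    · rfl)

theorem hatHom_apply (hP : P ≤ S) (β : MulAut P) (hβ : ∀ u : P, (u : Ω)⁻¹ * (β u : P) ∈ R)
    (g : ↥(hatSub S R hRn P)) :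
    ((hatHom (hRn := hRn) hP β hβ g : ↥(hatSub S R hRn P)) : Ω × Ω) =
      (((β ⟨(g : Ω × Ω).1, g.2.1.1⟩ : P) : Ω), (g : Ω × Ω).2) := rfl

theorem inv_prop {β : MulAut P} (hβ : ∀ u : P, (u : Ω)⁻¹ * (β u : P) ∈ R) :
    ∀ u : P, (u : Ω)⁻¹ * (β⁻¹ u : P) ∈ R := by
  intro u
  have h1 := hβ (β⁻¹ u)
  rw [MulAut.apply_inv_self] at h1
  have := R.inv_mem h1
  rw [mul_inv_rev, inv_inv] at this
  exact this

/-- `(β, id)` as an automorphism of `P ×_{S/R} P` -/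
def hatAut (hP : P ≤ S) (β : MulAut P) (hβ : ∀ u : P, (u : Ω)⁻¹ * (β u : P) ∈ R) :
    MulAut ↥(hatSub S R hRn P) :=
  { hatHom (hRn := hRn) hP β hβ with
    invFun := hatHom (hRn := hRn) hP β⁻¹ (inv_prop hβ)
    left_inv := by
      intro g
      apply Subtype.ext
      apply Prod.ext
      · show ((β⁻¹ ⟨((hatHom (hRn := hRn) hP β hβ g : ↥(hatSub S R hRn P)) : Ω × Ω).1, _⟩ : P) : Ω) = (g : Ω × Ω).1
        have : (⟨((hatHom (hRn := hRn) hP β hβ g : ↥(hatSub S R hRn P)) : Ω × Ω).1,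
            (hatHom (hRn := hRn) hP β hβ g).2.1.1⟩ : P) = β ⟨(g : Ω × Ω).1, g.2.1.1⟩ := rfl
        rw [this, MulAut.inv_apply_self]
      · rfl
    right_inv := by
      intro g
      apply Subtype.ext
      apply Prod.ext
      · show ((β ⟨((hatHom (hRn := hRn) hP β⁻¹ (inv_prop hβ) g : ↥(hatSub S R hRn P)) : Ω × Ω).1, _⟩ : P) : Ω) =
          (g : Ω × Ω).1
        have : (⟨((hatHom (hRn := hRn) hP β⁻¹ (inv_prop hβ) g : ↥(hatSub S R hRn P)) : Ω × Ω).1,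
            (hatHom (hRn := hRn) hP β⁻¹ (inv_prop hβ) g).2.1.1⟩ : P) = β⁻¹ ⟨(g : Ω × Ω).1, g.2.1.1⟩ := rfl
        rw [this, MulAut.apply_inv_self]
      · rfl }

theorem hatAut_apply (hP : P ≤ S) (β : MulAut P) (hβ : ∀ u : P, (u : Ω)⁻¹ * (β u : P) ∈ R)
    (g : ↥(hatSub S R hRn P)) :
    ((hatAut (hRn := hRn) hP β hβ g : ↥(hatSub S R hRn P)) : Ω × Ω) =
      (((β ⟨(g : Ω × Ω).1, g.2.1.1⟩ : P) : Ω), (g : Ω × Ω).2) := rfl

theorem hatAut_pow (hP : P ≤ S) (β : MulAut P) (hβ : ∀ u : P, (u : Ω)⁻¹ * (β u : P) ∈ R) (k : ℕ)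
    (g : ↥(hatSub S R hRn P)) :
    (((hatAut (hRn := hRn) hP β hβ ^ k) g : ↥(hatSub S R hRn P)) : Ω × Ω) =
      ((((β ^ k) ⟨(g : Ω × Ω).1, g.2.1.1⟩ : P) : Ω), (g : Ω × Ω).2) := by
  induction k with
  | zero => rfl
  | succ k ih =>
    rw [pow_succ', MulAut.mul_apply, hatAut_apply, pow_succ', MulAut.mul_apply]
    apply Prod.ext
    · show ((β ⟨(((hatAut (hRn := hRn) hP β hβ ^ k) g : ↥(hatSub S R hRn P)) : Ω × Ω).1, _⟩ : P) : Ω) = _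
      congr 2
      apply Subtype.ext
      exact congrArg Prod.fst ih
    · show (((hatAut (hRn := hRn) hP β hβ ^ k) g : ↥(hatSub S R hRn P)) : Ω × Ω).2 = (g : Ω × Ω).2
      have h2 := congrArg Prod.snd ih
      exact h2

/-- `(β, id)` is a map of the product system -/
theorem hatAut_mem (F : FusionSystem S) (hP : P ≤ S) (β : MulAut P)
    (hβ : ∀ u : P, (u : Ω)⁻¹ * (β u : P) ∈ R) (hβF : P.subtype.comp β.toMonoidHom ∈ F.Hom P) :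
    (hatSub S R hRn P).subtype.comp (hatAut (hRn := hRn) hP β hβ).toMonoidHom ∈
      (prodSystem F (innerFusionSystem S)).Hom (hatSub S R hRn P) := by
  have hle1 : pr₁ (hatSub S R hRn P) ≤ P := by
    rintro _ ⟨g, hg, rfl⟩
    exact hg.1.1
  have hle2 : pr₂ (hatSub S R hRn P) ≤ S := by
    rintro _ ⟨g, hg, rfl⟩
    exact hP hg.1.2
  refine ⟨hatSub_le.trans gam_le, (P.subtype.comp β.toMonoidHom).comp (Subgroup.inclusion hle1),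
    inclusion_comp_mem F hle1 hβF, (pr₂ (hatSub S R hRn P)).subtype, ⟨hle2, 1, S.one_mem, fun x => by simp⟩, ?_⟩
  intro x h₁ h₂
  rfl

end Hat

end Cfsg.Agent.Lib.Helper26.TT
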