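import Cfsg.Agent.Lib.Helper26.TT3

/-!
# Tate's theorem for fusion systems, part 4 (helper26)

**Extension theorem.**  Let `F` be a saturated fusion system over the finite `p`-group `S`, `R ⊴ S` a subgroup containing
`hyp(F)` and `θ : R → A` an `S`-invariant homomorphism to an abelian group.  Then there are a homomorphism `a : S → A` and
`n` prime to `p` with `a = θ^{-n}` on `hyp(F)`.
-/

set_option autoImplicit false
set_option linter.unusedSectionVars false
set_option linter.unusedVariables false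
set_option linter.style.haveILetI false

namespace Cfsg.Agent.Lib.Helper26.TT

open Cfsg Cfsg.FusionSystem Cfsg.Agent.Lib.Helper26 Cfsg.Agent.Lib.Helper27 Cfsg.Agent.Lib.Helper27.FM
open Cfsg.Agent.Lib.Helper27.BS MulAction Cfsg.Agent.Lib.Helper26.PPI

universe u

variable {Ω : Type u} [Group Ω] {S : Subgroup Ω}
variable {A : Type*} [CommGroup A]

theorem exists_extension [Finite S] {p : ℕ} [Fact p.Prime] (hS : IsPGroup p S) (F : FusionSystem S)
    (hF : F.IsSaturated p) (R : Subgroup Ω) (hRS : R ≤ S) (hRn : ∀ s ∈ S, ∀ r ∈ R, s * r * s⁻¹ ∈ R)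
    (hhyp : F.hyperfocalSubgroup p ≤ R) (θ : ↥R →* A)
    (hθ : ∀ (s : Ω) (hs : s ∈ S) (x : ↥R), θ ⟨s * x * s⁻¹, hRn s hs x x.2⟩ = θ x) :
    ∃ (a : ↥S →* A) (n : ℕ), ¬ p ∣ n ∧ ∀ (x : Ω) (hx : x ∈ F.hyperfocalSubgroup p),
      a ⟨x, hRS (hhyp hx)⟩ = (θ ⟨x, hhyp hx⟩)⁻¹ ^ n := by
  have hp : p.Prime := Fact.out
  -- the product system
  haveI : Finite ↥(S.prod S) := Finite.of_equiv _ (Subgroup.prodEquiv S S).symm.toEquiv
  have hGp : IsPGroup p ↥(S.prod S) := prod_isPGroup hS hS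
  have hGsat : (prodSystem F (innerFusionSystem S)).IsSaturated p :=
    prodSystem_saturated hS hS F (innerFusionSystem S) hF (inner_saturated S hS)
  have hΓle : gam S R hRn ≤ S.prod S := gam_le
  have hhypΓ : (prodSystem F (innerFusionSystem S)).hyperfocalSubgroup p ≤ gam S R hRn := by
    intro g hg
    obtain ⟨h1, h2⟩ := hyperfocal_prod_inner_le hS F hg
    refine ⟨hRS (hhyp h1), by rw [h2]; exact S.one_mem, ?_⟩
    rw [h2, mul_one]
    exact R.inv_mem (hhyp h1)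
  obtain ⟨E, ⟨hEsat, hEidx⟩, -⟩ := exists_unique_ppower_index hGp (prodSystem F (innerFusionSystem S)) hGsat
    (gam S R hRn) hΓle hhypΓ
  have hEsub := hEidx.1
  have hEres := hEidx.2.2
  haveI : Finite ↥(gam S R hRn) := finite_of_le hΓle
  have hΓp : IsPGroup p ↥(gam S R hRn) := hGp.to_le hΓle
  -- the biset
  obtain ⟨X, hX, hfin, hst, htw, n, hn, hpn⟩ := exists_char_biset hΓp E hEsat
  letI := hX
  haveI := hfin
  letI : MulAction ↥(gam S R hRn) X := MulAction.compHom X rtHom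
  have hcomp : ∀ (b : ↥(gam S R hRn)) (x : X), b • x = pair 1 b • x := fun _ _ => rfl
  have hfree : ∀ (b : ↥(gam S R hRn)) (x : X), b • x = x → b = 1 := rfree hcomp hst
  have hc := card_eq_card_orb_mul hfree
  have hΓpos : 0 < Nat.card ↥(gam S R hRn) := Nat.card_pos
  have hn' : Nat.card (Orb ↥(gam S R hRn) X) = n := by
    rw [hn, mul_comm] at hc
    exact (Nat.eq_of_mul_eq_mul_right hΓpos hc).symm
  -- the transfer
  set π : ↥(gam S R hRn) →* A := piHom hRn θ hθ with hπ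
  set t : ↥(gam S R hRn) →* A := trf hcomp hst π with ht
  have htst : ∀ (P : Subgroup (Ω × Ω)) (θ' : Ω × Ω → Ω × Ω) (hθ' : IsFM E P θ') (a : ↥(gam S R hRn))
      (ha : (a : Ω × Ω) ∈ P), t ⟨θ' a, hθ'.mem ha⟩ = t a := fun P θ' hθ' a ha =>
    trfFun_stable hcomp hst htw π hθ' a ha
  -- the transfer kills `hyp(F) × 1`
  let R₁ : Subgroup Ω :=
    { carrier := {x | ∃ hx : x ∈ R, t ⟨(x, 1), left_mem_gam hRS hx⟩ = 1}
      one_mem' := ⟨R.one_mem, by
        have : (⟨((1 : Ω), (1 : Ω)), left_mem_gam hRS R.one_mem⟩ : ↥(gam S R hRn)) = 1 := rfl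
        rw [this, map_one]⟩
      mul_mem' := by
        rintro x y ⟨hx, hx1⟩ ⟨hy, hy1⟩
        refine ⟨R.mul_mem hx hy, ?_⟩
        have : (⟨(x * y, (1 : Ω)), left_mem_gam hRS (R.mul_mem hx hy)⟩ : ↥(gam S R hRn)) =
            ⟨(x, 1), left_mem_gam hRS hx⟩ * ⟨(y, 1), left_mem_gam hRS hy⟩ := by
          apply Subtype.ext
          show (x * y, (1 : Ω)) = (x, 1) * (y, 1)
          rw [Prod.mk_mul_mk, mul_one]
        rw [this, map_mul, hx1, hy1, mul_one]
      inv_mem' := by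
        rintro x ⟨hx, hx1⟩
        refine ⟨R.inv_mem hx, ?_⟩
        have : (⟨(x⁻¹, (1 : Ω)), left_mem_gam hRS (R.inv_mem hx)⟩ : ↥(gam S R hRn)) =
            (⟨(x, 1), left_mem_gam hRS hx⟩ : ↥(gam S R hRn))⁻¹ := by
          apply Subtype.ext
          show (x⁻¹, (1 : Ω)) = ((x, 1) : Ω × Ω)⁻¹
          rw [Prod.inv_mk, inv_one]
        rw [this, map_inv, hx1, inv_one] }
  have hR₁ : ∀ x : Ω, x ∈ R₁ ↔ ∃ hx : x ∈ R, t ⟨(x, 1), left_mem_gam hRS hx⟩ = 1 := fun x => Iff.rfl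
  have hkill : F.hyperfocalSubgroup p ≤ R₁ := by
    unfold hyperfocalSubgroup
    rw [Subgroup.closure_le]
    rintro _ ⟨P, α, y, hP, hα, rfl⟩
    refine pResidual_induction (F.autGroup P) R₁ ?_ α hα y
    intro g hgo y
    have hgres : g ∈ pResidual p (F.autGroup P) := Subgroup.subset_closure hgo
    have hβ : ∀ u : P, (u : Ω)⁻¹ * ((g : MulAut P) u : P) ∈ R := fun u =>
      hhyp (mem_hyperfocal_of F p hP g hgres u)
    have hmemG := hatAut_mem (hRn := hRn) F hP (g : MulAut P) hβ ((mem_autGroup_iff F hP _).mp g.2)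
    set βh : MulAut ↥(hatSub S R hRn P) := hatAut (hRn := hRn) hP (g : MulAut P) hβ with hβh
    set m := orderOf g with hm
    have hgm : (g : MulAut P) ^ m = 1 := by
      have h0 : g ^ m = 1 := pow_orderOf_eq_one g
      have h00 := congrArg (fun z : F.autGroup P => (z : MulAut P)) h0
      simpa using h00
    have hβhm : βh ^ m = 1 := by
      ext g' : 2
      have := hatAut_pow (hRn := hRn) hP (g : MulAut P) hβ m g'
      rw [hgm] at this
      exact this
    have hβhG : βh ∈ (prodSystem F (innerFusionSystem S)).autGroup (hatSub S R hRn P) :=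
      Subgroup.subset_closure hmemG
    have hbo : (orderOf (⟨βh, hβhG⟩ : (prodSystem F (innerFusionSystem S)).autGroup (hatSub S R hRn P))).Coprime p := by
      rw [Subgroup.orderOf_mk]
      exact Nat.Coprime.coprime_dvd_left (orderOf_dvd_of_pow_eq_one hβhm) hgo
    have hβhE : βh ∈ E.autGroup (hatSub S R hRn P) :=
      hEres _ hatSub_le ⟨⟨βh, hβhG⟩, Subgroup.subset_closure hbo, rfl⟩
    have hψ := (mem_autGroup_iff E hatSub_le βh).mp hβhE
    have hyS : (y : Ω) ∈ S := hP y.2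
    set yy : ↥(gam S R hRn) := ⟨((y : Ω), (y : Ω)), diag_mem_gam hyS⟩ with hyy
    have hyyP : (yy : Ω × Ω) ∈ hatSub S R hRn P := ⟨⟨y.2, y.2⟩, yy.2⟩
    have h1 := htst _ _ (isFM_ofHom hψ) yy hyyP
    have hval : ofHom ((hatSub S R hRn P).subtype.comp βh.toMonoidHom) (yy : Ω × Ω) =
        ((((g : MulAut P) y : P) : Ω), (y : Ω)) := by
      rw [ofHom_apply' _ hyyP]
      rfl
    have hxR : (y : Ω)⁻¹ * (((g : MulAut P) y : P) : Ω) ∈ R := hβ y
    refine (hR₁ _).mpr ⟨hxR, ?_⟩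
    have e : (⟨((y : Ω)⁻¹ * (((g : MulAut P) y : P) : Ω), (1 : Ω)), left_mem_gam hRS hxR⟩ : ↥(gam S R hRn)) =
        yy⁻¹ * ⟨ofHom ((hatSub S R hRn P).subtype.comp βh.toMonoidHom) (yy : Ω × Ω),
          (isFM_ofHom hψ).mem hyyP⟩ := by
      apply Subtype.ext
      rw [Subgroup.coe_mul, Subgroup.coe_inv]
      show _ = ((y : Ω), (y : Ω))⁻¹ * ofHom ((hatSub S R hRn P).subtype.comp βh.toMonoidHom) (yy : Ω × Ω)
      rw [hval, Prod.inv_mk, Prod.mk_mul_mk, inv_mul_cancel]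
    rw [e, map_mul, map_inv, h1, inv_mul_cancel]
  -- the diagonal
  let diag : ↥S →* ↥(gam S R hRn) :=
    MonoidHom.mk' (fun s => ⟨((s : Ω), (s : Ω)), diag_mem_gam s.2⟩) (fun a b => rfl)
  refine ⟨t.comp diag, n, hpn, fun x hx => ?_⟩
  have hxR : x ∈ R := hhyp hx
  obtain ⟨hxR', hx1⟩ := (hR₁ x).mp (hkill hx)
  have e : diag ⟨x, hRS hxR⟩ = ⟨(x, 1), left_mem_gam hRS hxR⟩ * ⟨(1, x), right_mem_gam hRS hxR⟩ := by
    apply Subtype.ext
    show ((x, x) : Ω × Ω) = (x, 1) * (1, x)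
    rw [Prod.mk_mul_mk, mul_one, one_mul]
  rw [MonoidHom.comp_apply, e, map_mul, hx1, one_mul]
  have h2 := trfFun_stableOn hcomp hst π (rightSub S R hRn) (piHom_stableOn F θ hθ E hEsub)
    ⟨(1, x), right_mem_gam hRS hxR⟩ rfl
  rw [hn'] at h2
  have h3 : π ⟨(1, x), right_mem_gam hRS hxR⟩ = θ ⟨x, hxR⟩ := by
    rw [hπ, piHom_apply]
    congr 1
    apply Subtype.ext
    show (1 : Ω)⁻¹ * x = x
    rw [inv_one, one_mul]
  rw [h3] at h2
  exact h2

end Cfsg.Agent.Lib.Helper26.TT
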