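import Cfsg.Agent.Lib.Helper26.TT4
import Cfsg.Agent.Lib.Helper16.Frattini

/-!
# Tate's theorem for fusion systems, part 5 (helper26)

If `foc(F) ≤ Φ(S) foc(H)` for saturated `H ≤ F` over `S`, then `hyp(F) ≤ hyp(H)`.
-/

set_option autoImplicit false
set_option linter.unusedSectionVars false
set_option linter.unusedVariables false
set_option linter.style.haveILetI false

namespace Cfsg.Agent.Lib.Helper26.TT

open Cfsg Cfsg.FusionSystem Cfsg.Agent.Lib.Helper26 Cfsg.Agent.Lib.Helper27 Cfsg.Agent.Lib.Helper27.FM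
open Cfsg.Agent.Lib.Helper27.BS MulAction Cfsg.Agent.Lib.Helper26.PPI
open scoped commutatorElement

universe u

/-- in a nilpotent group, `M ≤ N [M, G]` with `N` normal forces `M ≤ N` -/
theorem le_of_le_sup_commutator_top {G : Type*} [Group G] [Group.IsNilpotent G] (M N : Subgroup G) [N.Normal]
    (h : M ≤ N ⊔ ⁅M, (⊤ : Subgroup G)⁆) : M ≤ N := by
  have key : ∀ i : ℕ, M ≤ N ⊔ Subgroup.upperCentralSeries G i := by
    have hdown : ∀ i : ℕ, M ≤ N ⊔ Subgroup.upperCentralSeries G (i + 1) → M ≤ N ⊔ Subgroup.upperCentralSeries G i := by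
      intro i hi
      have h1 : N ⊔ Subgroup.upperCentralSeries G (i + 1) ≤ Subgroup.upperCentralSeriesStep (N ⊔ Subgroup.upperCentralSeries G i) := by
        apply sup_le
        · intro n hn y
          apply Subgroup.mem_sup_left
          exact (Subgroup.commutator_le_left N ⊤) (Subgroup.commutator_mem_commutator hn (Subgroup.mem_top y))
        · intro z hz y
          apply Subgroup.mem_sup_right
          exact Subgroup.mem_upperCentralSeries_succ_iff.mp hz y
      have h2 : ⁅M, (⊤ : Subgroup G)⁆ ≤ N ⊔ Subgroup.upperCentralSeries G i := by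
        rw [Subgroup.commutator_le]
        intro m hm y _
        exact h1 (hi hm) y
      exact h.trans (sup_le le_sup_left h2)
    have htop : M ≤ N ⊔ Subgroup.upperCentralSeries G (Group.nilpotencyClass G) := by
      rw [Subgroup.upperCentralSeries_nilpotencyClass]
      exact le_sup_of_le_right le_top
    intro i
    by_cases hi : i ≤ Group.nilpotencyClass G
    · obtain ⟨d, hd⟩ := Nat.exists_eq_add_of_le hi
      clear hi
      induction d generalizing i with
      | zero =>
        rw [add_zero] at hd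
        rw [← hd]
        exact htop
      | succ d ih =>
        apply hdown
        apply ih (i + 1)
        omega
    · push Not at hi
      refine htop.trans (sup_le_sup_left (Subgroup.upperCentralSeries_mono G hi.le) N)
  have := key 0
  rw [Subgroup.upperCentralSeries_zero, sup_bot_eq] at this
  exact this

variable {Ω : Type u} [Group Ω] {S : Subgroup Ω}

/-- subgroup form -/
theorem le_of_le_sup_commutator_sub [Finite S] {p : ℕ} [Fact p.Prime] (hS : IsPGroup p S) (M N : Subgroup Ω)
    (hMS : M ≤ S) (hNS : N ≤ S) (hNn : ∀ s ∈ S, ∀ r ∈ N, s * r * s⁻¹ ∈ N) (h : M ≤ N ⊔ ⁅M, S⁆) : M ≤ N := by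
  haveI : Group.IsNilpotent ↥S := hS.isNilpotent
  haveI : (N.subgroupOf S).Normal := by
    refine ⟨fun n hn s => ?_⟩
    rw [Subgroup.mem_subgroupOf] at hn ⊢
    exact hNn s s.2 n hn
  have h1 : N ⊔ ⁅M, S⁆ ≤ (N.subgroupOf S ⊔ ⁅M.subgroupOf S, (⊤ : Subgroup ↥S)⁆).map S.subtype := by
    apply sup_le
    · intro n hn
      exact ⟨⟨n, hNS hn⟩, Subgroup.mem_sup_left (Subgroup.mem_subgroupOf.mpr hn), rfl⟩
    · rw [Subgroup.commutator_le]
      intro m hm s hs
      refine ⟨⁅(⟨m, hMS hm⟩ : ↥S), ⟨s, hs⟩⁆, Subgroup.mem_sup_right ?_, rfl⟩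
      exact Subgroup.commutator_mem_commutator (Subgroup.mem_subgroupOf.mpr hm) (Subgroup.mem_top _)
  have h2 : M.subgroupOf S ≤ N.subgroupOf S ⊔ ⁅M.subgroupOf S, (⊤ : Subgroup ↥S)⁆ := by
    intro x hx
    rw [Subgroup.mem_subgroupOf] at hx
    obtain ⟨y, hy, hyx⟩ := h1 (h hx)
    have : y = x := Subtype.ext hyx
    rw [← this]
    exact hy
  have h3 := le_of_le_sup_commutator_top (M.subgroupOf S) (N.subgroupOf S) h2
  intro x hx
  exact Subgroup.mem_subgroupOf.mp (h3 (Subgroup.mem_subgroupOf.mpr (show ((⟨x, hMS hx⟩ : ↥S) : Ω) ∈ M from hx)))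

end Cfsg.Agent.Lib.Helper26.TT
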