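import Cfsg.Agent.Lib.Helper26.TT5

/-!
# Tate's theorem for fusion systems, part 6 (helper26)

If `foc(F) ≤ Φ(S) foc(H)` for saturated `H ≤ F` over `S`, then `hyp(F) ≤ hyp(H)`; Tate's theorem.
-/

set_option autoImplicit false
set_option linter.unusedSectionVars false
set_option linter.unusedVariables false
set_option linter.style.haveILetI false

namespace Cfsg.Agent.Lib.Helper26.TT

open Cfsg Cfsg.FusionSystem Cfsg.Agent.Lib.Helper26 Cfsg.Agent.Lib.Helper27 Cfsg.Agent.Lib.Helper27.FM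
open Cfsg.Agent.Lib.Helper27.BS MulAction Cfsg.Agent.Lib.Helper26.PPI
open scoped commutatorElement

universe u

variable {Ω : Type u} [Group Ω] {S : Subgroup Ω}

theorem hyperfocal_le_of_focal_le [Finite S] {p : ℕ} [Fact p.Prime] (hS : IsPGroup p S) (F : FusionSystem S)
    (hF : F.IsSaturated p) (H : FusionSystem S) (hH : H.IsSaturated p) (hHF : H.IsSubsystemOf F)
    (hfoc : F.focalSubgroup ≤ (frattini ↥S).map S.subtype ⊔ H.focalSubgroup) :
    F.hyperfocalSubgroup p ≤ H.hyperfocalSubgroup p := by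
  have hp : p.Prime := Fact.out
  set R := F.hyperfocalSubgroup p with hR
  set N := H.hyperfocalSubgroup p with hN
  have hRS : R ≤ S := hyperfocal_le F p
  have hNS : N ≤ S := hyperfocal_le H p
  have hNR : N ≤ R := hyperfocal_le_of_subsystem H F hHF
  have hRn : ∀ s ∈ S, ∀ r ∈ R, s * r * s⁻¹ ∈ R := fun s hs r hr => hyperfocal_conj_mem F p hs hr
  have hNn : ∀ s ∈ S, ∀ r ∈ N, s * r * s⁻¹ ∈ N := fun s hs r hr => hyperfocal_conj_mem H p hs hr
  set K : Subgroup Ω := N ⊔ ⁅R, S⁆ with hK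
  have hcommR : ⁅R, S⁆ ≤ R := by
    rw [Subgroup.commutator_le]
    intro r hr s hs
    have e : ⁅r, s⁆ = r * (s * r⁻¹ * s⁻¹) := by
      rw [commutatorElement_def]
      group
    rw [e]
    exact R.mul_mem hr (hRn s hs _ (R.inv_mem hr))
  have hKR : K ≤ R := sup_le hNR hcommR
  set K' : Subgroup ↥R := K.subgroupOf R with hK'
  haveI hK'n : K'.Normal := by
    refine ⟨fun k hk r => ?_⟩
    rw [Subgroup.mem_subgroupOf] at hk ⊢
    have e : ((r * k * r⁻¹ : ↥R) : Ω) = ⁅(r : Ω), (k : Ω)⁆ * k := by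
      show (r : Ω) * k * (r : Ω)⁻¹ = _
      rw [commutatorElement_def]
      group
    rw [e]
    exact K.mul_mem (Subgroup.mem_sup_right (Subgroup.commutator_mem_commutator r.2 (hRS k.2))) hk
  letI : CommGroup (↥R ⧸ K') :=
    { (inferInstance : Group (↥R ⧸ K')) with
      mul_comm := by
        intro a b
        obtain ⟨a, rfl⟩ := QuotientGroup.mk_surjective a
        obtain ⟨b, rfl⟩ := QuotientGroup.mk_surjective b
        rw [← QuotientGroup.mk_mul, ← QuotientGroup.mk_mul, QuotientGroup.eq, Subgroup.mem_subgroupOf]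
        have e : (((a * b)⁻¹ * (b * a) : ↥R) : Ω) = ⁅(b : Ω)⁻¹, (a : Ω)⁻¹⁆ := by
          show ((a : Ω) * b)⁻¹ * ((b : Ω) * a) = _
          rw [commutatorElement_def]
          group
        rw [e]
        exact Subgroup.mem_sup_right
          (Subgroup.commutator_mem_commutator (R.inv_mem b.2) (S.inv_mem (hRS a.2))) }
  haveI : Finite ↥R := finite_of_le hRS
  set θ : ↥R →* ↥R ⧸ K' := QuotientGroup.mk' K' with hθdef
  have hθ1 : ∀ x : ↥R, θ x = 1 ↔ (x : Ω) ∈ K := fun x => by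
    rw [hθdef, QuotientGroup.mk'_apply, QuotientGroup.eq_one_iff, Subgroup.mem_subgroupOf]
  have hθ : ∀ (s : Ω) (hs : s ∈ S) (x : ↥R), θ ⟨s * x * s⁻¹, hRn s hs x x.2⟩ = θ x := by
    intro s hs x
    rw [hθdef, QuotientGroup.mk'_apply, QuotientGroup.mk'_apply, QuotientGroup.eq, Subgroup.mem_subgroupOf]
    have e : (((⟨s * x * s⁻¹, hRn s hs x x.2⟩ : ↥R)⁻¹ * x : ↥R) : Ω) = ⁅s, (x : Ω)⁻¹⁆ := by
      show (s * (x : Ω) * s⁻¹)⁻¹ * (x : Ω) = _
      rw [commutatorElement_def]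
      group
    rw [e]
    apply Subgroup.mem_sup_right
    rw [Subgroup.commutator_comm]
    exact Subgroup.commutator_mem_commutator hs (R.inv_mem x.2)
  obtain ⟨a, n, hpn, ha⟩ := exists_extension hS F hF R hRS hRn le_rfl θ hθ
  -- `a` kills the focal subgroup of `H`
  have hfocH : H.focalSubgroup ≤ a.ker.map S.subtype := by
    rw [focal_eq hS H hH]
    apply sup_le
    · intro x hx
      refine ⟨⟨x, hNS hx⟩, ?_, rfl⟩
      rw [SetLike.mem_coe, MonoidHom.mem_ker]
      have h1 := ha x (hNR hx)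
      have h2 : θ ⟨x, hNR hx⟩ = 1 := (hθ1 _).mpr (Subgroup.mem_sup_left hx)
      rw [h2, inv_one, one_pow] at h1
      exact h1
    · rw [Subgroup.commutator_le]
      intro s hs t ht
      refine ⟨⁅(⟨s, hs⟩ : ↥S), ⟨t, ht⟩⁆, ?_, rfl⟩
      rw [SetLike.mem_coe, MonoidHom.mem_ker, map_commutatorElement, commutatorElement_eq_one_iff_commute]
      exact Commute.all _ _
  -- the elementary abelian quotient
  set Ap : Subgroup (↥R ⧸ K') := (powMonoidHom p : (↥R ⧸ K') →* (↥R ⧸ K')).range with hAp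
  have hApmem : ∀ y : ↥R ⧸ K', y ∈ Ap ↔ ∃ b : ↥R ⧸ K', b ^ p = y := fun y => Iff.rfl
  set a' : ↥S →* (↥R ⧸ K') ⧸ Ap := (QuotientGroup.mk' Ap).comp a with ha'
  have hexp : ∀ e : (↥R ⧸ K') ⧸ Ap, e ^ p = 1 := by
    intro e
    obtain ⟨b, rfl⟩ := QuotientGroup.mk_surjective e
    rw [← QuotientGroup.mk_pow, QuotientGroup.eq_one_iff]
    exact ⟨b, rfl⟩
  have hfr : frattini ↥S ≤ a'.ker := Cfsg.Agent.Lib.Helper16.frattini_le_ker hexp a'
  have hker : a.ker ≤ a'.ker := by
    intro x hx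
    rw [MonoidHom.mem_ker] at hx ⊢
    rw [ha', MonoidHom.comp_apply, hx, map_one]
  have hfocF : F.focalSubgroup ≤ a'.ker.map S.subtype :=
    hfoc.trans (sup_le (Subgroup.map_mono hfr) (hfocH.trans (Subgroup.map_mono hker)))
  -- the values of `θ` are `p`-th powers
  have hAPG : IsPGroup p (↥R ⧸ K') := (hS.to_le hRS).to_quotient K'
  obtain ⟨j, hj⟩ := hAPG.exists_card_eq
  have hpowj : ∀ y : ↥R ⧸ K', y ^ p ^ j = 1 := fun y => by rw [← hj]; exact pow_card_eq_one'
  have hvals : ∀ x : ↥R, θ x ∈ Ap := by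
    intro x
    have hxf : (x : Ω) ∈ F.focalSubgroup := by
      rw [focal_eq hS F hF]
      exact Subgroup.mem_sup_left x.2
    obtain ⟨y, hy, hyx⟩ := hfocF hxf
    have hyx' : y = ⟨x, hRS x.2⟩ := Subtype.ext hyx
    rw [SetLike.mem_coe, MonoidHom.mem_ker, hyx', ha', MonoidHom.comp_apply, QuotientGroup.mk'_apply,
      QuotientGroup.eq_one_iff] at hy
    obtain ⟨b, hb⟩ := hy
    have hb' : b ^ p = (θ x)⁻¹ ^ n := by
      rw [← ha (x : Ω) x.2]
      exact hb
    have hcop : Nat.Coprime n (p ^ j) := Nat.Coprime.pow_right j ((Nat.Prime.coprime_iff_not_dvd hp).mpr hpn).symm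
    by_cases h1j : 1 < p ^ j
    · obtain ⟨u, -, hu⟩ := Nat.exists_mul_mod_eq_one_of_coprime hcop h1j
      have h3 : θ x = (θ x) ^ (n * u) := by
        conv_rhs => rw [← Nat.div_add_mod (n * u) (p ^ j), pow_add, pow_mul, hpowj, one_pow, one_mul, hu, pow_one]
      refine ⟨(b⁻¹) ^ u, ?_⟩
      show ((b⁻¹) ^ u) ^ p = θ x
      rw [h3, pow_mul, ← pow_mul, mul_comm u p, pow_mul, inv_pow, hb']
      simp only [inv_pow, inv_inv]
    · have hpj : p ^ j = 1 := by
        have := Nat.pos_of_ne_zero (pow_ne_zero j hp.ne_zero)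
        omega
      have := hpowj (θ x)
      rw [hpj, pow_one] at this
      rw [this]
      exact Ap.one_mem
  have hall : ∀ y : ↥R ⧸ K', y ∈ Ap := by
    intro y
    obtain ⟨x, rfl⟩ := QuotientGroup.mk_surjective y
    exact hvals x
  have hiter : ∀ (i : ℕ) (y : ↥R ⧸ K'), ∃ b : ↥R ⧸ K', b ^ p ^ i = y := by
    intro i
    induction i with
    | zero => intro y; exact ⟨y, by rw [pow_zero, pow_one]⟩
    | succ i ih =>
      intro y
      obtain ⟨b, hb⟩ := ih y
      obtain ⟨c, hc⟩ := (hApmem b).mp (hall b)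
      exact ⟨c, by rw [pow_succ, mul_comm, pow_mul, hc, hb]⟩
  have htriv : ∀ y : ↥R ⧸ K', y = 1 := by
    intro y
    obtain ⟨b, hb⟩ := hiter j y
    rw [← hb, hpowj]
  have hRK : R ≤ N ⊔ ⁅R, S⁆ := by
    intro x hx
    exact (hθ1 ⟨x, hx⟩).mp (htriv _)
  exact le_of_le_sup_commutator_sub hS R N hRS hNS hNn hRK

/-- **Tate's theorem for fusion systems.** -/
theorem tate [Finite S] {p : ℕ} [Fact p.Prime] (hS : IsPGroup p S) (F : FusionSystem S)
    (hF : F.IsSaturated p) (H : FusionSystem S) (hH : H.IsSaturated p) (hHF : H.IsSubsystemOf F) :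
    (((frattini ↥S).map S.subtype ⊔ F.focalSubgroup) = ((frattini ↥S).map S.subtype ⊔ H.focalSubgroup) ↔
        F.focalSubgroup = H.focalSubgroup) ∧
      (F.focalSubgroup = H.focalSubgroup ↔ F.hyperfocalSubgroup p = H.hyperfocalSubgroup p) := by
  have hle : H.hyperfocalSubgroup p ≤ F.hyperfocalSubgroup p := hyperfocal_le_of_subsystem H F hHF
  have hfe : F.hyperfocalSubgroup p = H.hyperfocalSubgroup p → F.focalSubgroup = H.focalSubgroup := by
    intro h
    rw [focal_eq hS F hF, focal_eq hS H hH, h]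
  refine ⟨⟨fun h => ?_, fun h => by rw [h]⟩, ⟨fun h => ?_, hfe⟩⟩
  · apply hfe
    apply le_antisymm _ hle
    apply hyperfocal_le_of_focal_le hS F hF H hH hHF
    rw [← h]
    exact le_sup_right
  · apply le_antisymm _ hle
    apply hyperfocal_le_of_focal_le hS F hF H hH hHF
    rw [h]
    exact le_sup_right

end Cfsg.Agent.Lib.Helper26.TT
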