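import Cfsg.Agent.Lib.Helper26.TT6
import Cfsg.Agent.Lib.Helper26.FSFrobenius
import Cfsg.Agent.Lib.Helper26.FSFactor
import Cfsg.Agent.Lib.Helper26.FSFactorExists
import Cfsg.Agent.Lib.Helper26.FSSurjImage
import Cfsg.Agent.Lib.Helper26.FSNormalizer
import Cfsg.Agent.Lib.Helper26.FSSolvable
import Cfsg.Agent.Lib.Helper27.FSAbelian
import Cfsg.Agent.Lib.Helper1.PGroup

/-!
# Consequences of Tate's theorem (helper26)

`F` is inner iff `Aut_F(S)` is inner and `Φ(S)` is strongly closed (S5276).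
-/

set_option autoImplicit false
set_option linter.unusedSectionVars false
set_option linter.unusedVariables false
set_option linter.style.haveILetI false

namespace Cfsg.Agent.Lib.Helper26.TT

open Cfsg Cfsg.FusionSystem Cfsg.Agent.Lib.Helper26 Cfsg.Agent.Lib.Helper27 Cfsg.Agent.Lib.Helper27.FM
open scoped commutatorElement

universe u

variable {Ω : Type u} [Group Ω] {S : Subgroup Ω}

/-- an automorphism that is conjugation by an element of a `p`-group and has order prime to `p` is trivial -/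
theorem eq_one_of_conj_of_coprime {p : ℕ} [Fact p.Prime] (hS : IsPGroup p S) {P : Subgroup Ω} (g : MulAut P)
    {s : Ω} (hsS : s ∈ S) (hs : ∀ x : P, ((g x : P) : Ω) = s * x * s⁻¹) (hgo : (orderOf g).Coprime p) : g = 1 := by
  have hp : p.Prime := Fact.out
  obtain ⟨j, hj⟩ := hS ⟨s, hsS⟩
  have hj' : s ^ p ^ j = 1 := congrArg Subtype.val hj
  have hk : ∀ (k : ℕ) (x : P), (((g ^ k) x : P) : Ω) = s ^ k * x * (s ^ k)⁻¹ := by
    intro k
    induction k with
    | zero => intro x; simp
    | succ k ih =>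
      intro x
      rw [pow_succ', MulAut.mul_apply, hs, ih, pow_succ']
      group
  have hgpj : g ^ p ^ j = 1 := by
    ext x
    rw [hk, hj']
    simp
  have h1 : orderOf g ∣ p ^ j := orderOf_dvd_of_pow_eq_one hgpj
  have h2 : orderOf g = 1 := Nat.Coprime.eq_one_of_dvd (Nat.Coprime.pow_right j hgo) h1
  exact orderOf_eq_one_iff.mp h2

/-- the hyperfocal subgroup of the inner system is trivial -/
theorem hyperfocal_inner_eq_bot {p : ℕ} [Fact p.Prime] (hS : IsPGroup p S) :
    (innerFusionSystem S).hyperfocalSubgroup p = ⊥ := by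
  rw [eq_bot_iff]
  unfold hyperfocalSubgroup
  rw [Subgroup.closure_le]
  rintro _ ⟨P, α, x, hP, hα, rfl⟩
  refine pResidual_induction ((innerFusionSystem S).autGroup P) ⊥ ?_ α hα x
  intro g hgo x
  obtain ⟨-, s, hsS, hs⟩ := (mem_autGroup_iff (innerFusionSystem S) hP (g : MulAut P)).mp g.2
  have hgo' : (orderOf (g : MulAut P)).Coprime p := by rw [Subgroup.orderOf_coe]; exact hgo
  have h1 := eq_one_of_conj_of_coprime hS (g : MulAut P) hsS hs hgo'
  rw [h1]
  simp

/-- a finite group with trivial `p`-residual is a `p`-group -/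
theorem isPGroup_of_pResidual_eq_bot {G : Type*} [Group G] [Finite G] {p : ℕ} [Fact p.Prime]
    (h : pResidual p G = ⊥) : IsPGroup p G := by
  have hp : p.Prime := Fact.out
  intro g
  have hm : orderOf g ≠ 0 := (orderOf_pos g).ne'
  obtain ⟨k, m', hm', hmeq⟩ := Nat.exists_eq_pow_mul_and_not_dvd hm p hp.ne_one
  refine ⟨k, ?_⟩
  have h1 : (g ^ p ^ k) ^ m' = 1 := by
    rw [← pow_mul, ← hmeq]
    exact pow_orderOf_eq_one g
  have h2 : (orderOf (g ^ p ^ k)).Coprime p :=
    Nat.Coprime.coprime_dvd_left (orderOf_dvd_of_pow_eq_one h1) ((Nat.Prime.coprime_iff_not_dvd hp).mpr hm').symm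
  have h3 : g ^ p ^ k ∈ pResidual p G := Subgroup.subset_closure h2
  rw [h, Subgroup.mem_bot] at h3
  exact h3

/-- a saturated system with trivial hyperfocal subgroup is inner -/
theorem eq_inner_of_hyperfocal_eq_bot [Finite S] {p : ℕ} [Fact p.Prime] (hS : IsPGroup p S) (F : FusionSystem S)
    (hF : F.IsSaturated p) (h : F.hyperfocalSubgroup p = ⊥) : F = innerFusionSystem S := by
  apply eq_inner_of_forall_isPGroup hS F hF
  intro P hP
  haveI : Finite ↥P := finite_of_le hP
  apply isPGroup_of_pResidual_eq_bot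
  rw [eq_bot_iff]
  intro α hα
  rw [Subgroup.mem_bot]
  apply Subtype.ext
  ext x : 2
  have h1 := mem_hyperfocal_of F p hP α hα x
  rw [h, Subgroup.mem_bot, inv_mul_eq_one] at h1
  exact h1.symm

/-- if the normalizer system of `S` is inner, the maps of the system with source `S` are conjugations -/
theorem top_hom_inner [Finite S] (F : FusionSystem S)
    (h : ∀ N : FusionSystem (normalizerIn S S), F.IsNormalizerSystem S N →
      ∀ P : Subgroup Ω, N.Hom P = (innerFusionSystem (normalizerIn S S)).Hom P)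
    {ψ : ↥S →* Ω} (hψ : ψ ∈ F.Hom S) : ∃ g ∈ S, ∀ x : ↥S, ψ x = g * x * g⁻¹ := by
  have hSN : S ≤ normalizerIn S S := (normalizerIn_self S).ge
  have hle : S ⊔ S ≤ S := sup_le le_rfl le_rfl
  have hr : ψ.range = S := range_eq_of_le ψ (F.injective_of_mem hψ) (fun x => hom_apply_mem F hψ x)
  have hψN : ψ ∈ F.normalizerHom S S := by
    refine ⟨hψ, hSN, fun x => hSN (hom_apply_mem F hψ x), ψ.comp (Subgroup.inclusion hle),
      inclusion_comp_mem F hle hψ, fun x => rfl, ?_⟩
    rw [map_subgroupOf_eq_iff]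
    constructor
    · intro y hy
      exact hom_apply_mem F hψ _
    · intro z hz
      rw [← hr] at hz
      obtain ⟨x, rfl⟩ := hz
      exact ⟨⟨x, (le_sup_left : S ≤ S ⊔ S) x.2⟩, x.2, rfl⟩
  have hN := normalizerSystem_isNormalizerSystem F S le_rfl
  have h1 := h _ hN S
  rw [hN S] at h1
  rw [h1] at hψN
  obtain ⟨-, g, hg, hgψ⟩ := hψN
  exact ⟨g, normalizerIn_le S S hg, hgψ⟩

end Cfsg.Agent.Lib.Helper26.TT
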