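import Cfsg.Agent.Lib.Helper26.TT7

/-!
# Consequences of Tate's theorem, continued (helper26)

`F` is inner iff `Aut_F(S)` is inner and `Φ(S)` is strongly closed (S5276).
-/

set_option autoImplicit false
set_option linter.unusedSectionVars false
set_option linter.unusedVariables false
set_option linter.style.haveILetI false

namespace Cfsg.Agent.Lib.Helper26.TT

open Cfsg Cfsg.FusionSystem Cfsg.Agent.Lib.Helper26 Cfsg.Agent.Lib.Helper27 Cfsg.Agent.Lib.Helper27.FM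
open scoped commutatorElement

universe u

variable {Ω : Type u} [Group Ω] {S : Subgroup Ω}

/-- if `Φ(S)` is strongly closed and the maps with source `S` are conjugations, the focal subgroup lies in `Φ(S)` -/
theorem focal_le_of_frattini_stronglyClosed [Finite S] {p : ℕ} [Fact p.Prime] (hS : IsPGroup p S)
    (F : FusionSystem S) (hF : F.IsSaturated p) (hT : F.StronglyClosed ((frattini ↥S).map S.subtype))
    (hinn : ∀ ψ : ↥S →* Ω, ψ ∈ F.Hom S → ∃ g ∈ S, ∀ x : ↥S, ψ x = g * x * g⁻¹) :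
    F.focalSubgroup ≤ (frattini ↥S).map S.subtype := by
  set T : Subgroup Ω := (frattini ↥S).map S.subtype with hTdef
  haveI : (T.subgroupOf S).Normal := normal_subgroupOf_of_stronglyClosed F hT
  set θ : ↥S →* ↥S ⧸ T.subgroupOf S := QuotientGroup.mk' (T.subgroupOf S) with hθ
  have hker : ∀ s : ↥S, θ s = 1 ↔ (s : Ω) ∈ T := quot_ker T
  have hrange : θ.range = ⊤ := quot_range T
  set E := factorSystem F hT θ hker hrange with hE
  have hfac : F.IsFactorSystem T θ E := factorSystem_isFactorSystem F hT θ hker hrange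
  have hsurj : F.IsSurjectiveMorphism E θ := factorSystem_isSurjectiveMorphism hS F hF T hT θ E hfac
  have hEsat : E.IsSaturated p := surj_saturated p hS F hF E θ hsurj
  -- the quotient is abelian
  have hcomm : ∀ a b : ↥S, θ a * θ b = θ b * θ a := by
    intro a b
    rw [← map_mul, ← map_mul, hθ, QuotientGroup.mk'_apply, QuotientGroup.mk'_apply, QuotientGroup.eq,
      Subgroup.mem_subgroupOf]
    have e : (a * b)⁻¹ * (b * a) = ⁅b⁻¹, a⁻¹⁆ := by
      rw [commutatorElement_def]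
      group
    rw [e]
    refine ⟨⁅b⁻¹, a⁻¹⁆, ?_, rfl⟩
    exact Cfsg.Agent.Lib.Helper1.IsPGroup.commutator_le_frattini hS
      (Subgroup.commutator_mem_commutator (Subgroup.mem_top _) (Subgroup.mem_top _))
  have hab : ∀ x ∈ (⊤ : Subgroup (↥S ⧸ T.subgroupOf S)), ∀ y ∈ (⊤ : Subgroup (↥S ⧸ T.subgroupOf S)),
      x * y = y * x := by
    intro x _ y _
    obtain ⟨a, rfl⟩ := QuotientGroup.mk'_surjective (T.subgroupOf S) x
    obtain ⟨b, rfl⟩ := QuotientGroup.mk'_surjective (T.subgroupOf S) y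
    exact hcomm a b
  have hpTop : IsPGroup p ↥(⊤ : Subgroup (↥S ⧸ T.subgroupOf S)) :=
    (hS.to_quotient (T.subgroupOf S)).to_subgroup ⊤
  unfold focalSubgroup
  rw [Subgroup.closure_le]
  rintro _ ⟨P, φ, x, hφ, rfl⟩
  obtain ⟨φ', hφ', hP, hφS, hP', hind⟩ := hsurj.1.2 P φ hφ
  obtain ⟨α, hα, hαφ⟩ := exists_aut_extension hpTop E hEsat hab hφ'
  have h1 := (mem_autGroup_iff E le_rfl α).mp hα
  obtain ⟨-, ψ, hψ, hQ, hψS, hQ', hψind⟩ := (hfac.2.2.2 ⊤ _).mp h1
  have hpre : S ≤ preimageAlong θ ⊤ := fun s hs => (mem_preimageAlong_iff θ ⊤ s).mpr ⟨hs, trivial⟩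
  have hψ₁ : ψ.comp (Subgroup.inclusion hpre) ∈ F.Hom S := inclusion_comp_mem F hpre hψ
  obtain ⟨g, hg, hgψ⟩ := hinn _ hψ₁
  set xs : ↥S := ⟨x, hP x.2⟩ with hxs
  have e1 := hind x
  have e2 := hαφ ⟨θ xs, hP' x⟩ trivial
  have e3 := hψind ⟨x, hpre (hP x.2)⟩
  have e4 : ψ ⟨x, hpre (hP x.2)⟩ = g * (x : Ω) * g⁻¹ := hgψ xs
  have e5 : θ ⟨ψ ⟨x, hpre (hP x.2)⟩, hψS _⟩ = θ xs := by
    have : (⟨ψ ⟨x, hpre (hP x.2)⟩, hψS _⟩ : ↥S) = ⟨g, hg⟩ * xs * ⟨g, hg⟩⁻¹ := Subtype.ext e4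
    rw [this, map_mul, map_mul, map_inv, hcomm ⟨g, hg⟩ xs, mul_inv_cancel_right]
  have e6 : θ ⟨φ x, hφS x⟩ = θ xs := e1.symm.trans (e2.trans (e3.trans e5))
  have e7 : θ (xs⁻¹ * ⟨φ x, hφS x⟩) = 1 := by rw [map_mul, map_inv, e6, inv_mul_cancel]
  exact (hker _).mp e7

/-- **S5276.** -/
theorem inner_iff_top_inner_and_frattini_stronglyClosed [Finite S] {p : ℕ} [Fact p.Prime] (hS : IsPGroup p S)
    (F : FusionSystem S) (hF : F.IsSaturated p) :
    (∀ P : Subgroup Ω, F.Hom P = (innerFusionSystem S).Hom P) ↔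
      (∀ N : FusionSystem (normalizerIn S S), F.IsNormalizerSystem S N →
        ∀ P : Subgroup Ω, N.Hom P = (innerFusionSystem (normalizerIn S S)).Hom P) ∧
      F.StronglyClosed ((frattini ↥S).map S.subtype) := by
  have hNS : normalizerIn S S = S := normalizerIn_self S
  constructor
  · intro hinner
    refine ⟨fun N hN P => ?_, Subgroup.map_subtype_le _, ?_⟩
    · apply Set.Subset.antisymm
      · intro φ hφ
        rw [hN P] at hφ
        obtain ⟨hφF, hPN, -, -⟩ := hφ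
        rw [hinner P] at hφF
        obtain ⟨-, g, hg, hgφ⟩ := hφF
        exact ⟨hPN, g, hNS.symm ▸ hg, hgφ⟩
      · exact inner_hom_subset N P
    · intro R hR φ hφ x
      rw [hinner R] at hφ
      obtain ⟨hRS, g, hg, hgφ⟩ := hφ
      rw [hgφ]
      obtain ⟨y, hy, hyx⟩ := hR x.2
      refine ⟨⟨g, hg⟩ * y * ⟨g, hg⟩⁻¹, ?_, ?_⟩
      · have hn : (frattini ↥S).Normal := inferInstance
        exact hn.conj_mem y hy ⟨g, hg⟩
      · show g * (y : Ω) * g⁻¹ = g * (x : Ω) * g⁻¹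
        rw [← hyx]
        rfl
  · rintro ⟨hN, hT⟩
    have hinn : ∀ ψ : ↥S →* Ω, ψ ∈ F.Hom S → ∃ g ∈ S, ∀ x : ↥S, ψ x = g * x * g⁻¹ :=
      fun ψ hψ => top_hom_inner F hN hψ
    have hfoc := focal_le_of_frattini_stronglyClosed hS F hF hT hinn
    have hhyp : F.hyperfocalSubgroup p ≤ (innerFusionSystem S).hyperfocalSubgroup p :=
      hyperfocal_le_of_focal_le hS F hF (innerFusionSystem S) (inner_saturated S hS)
        (fun P => inner_hom_subset F P) (hfoc.trans le_sup_left)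
    rw [hyperfocal_inner_eq_bot hS] at hhyp
    have := eq_inner_of_hyperfocal_eq_bot hS F hF (le_bot_iff.mp hhyp)
    intro P
    rw [this]

end Cfsg.Agent.Lib.Helper26.TT
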