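import Mathlib
import Cfsg.Agent.Lib.Helper5.TWS.Defs
import Cfsg.Agent.Lib.Helper8.TW.Defs
import Cfsg.Agent.Lib.Helper22.TWExtBasic
import Cfsg.Agent.Lib.Helper22.TWExtMore
import Cfsg.Agent.Lib.Helper17.TWUIIR1a
import Cfsg.Agent.Lib.Helper14.TWIIDefs
import Cfsg.Agent.Lib.Helper14.TWSIIDefs
import Cfsg.Agent.Lib.Helper16.TWSIIEta
import Cfsg.Agent.Lib.Helper16.TWSIIConj
import Cfsg.Agent.Lib.Helper18.TWSIIU567
import Cfsg.Agent.Lib.Helper1.TWST2
import Cfsg.Agent.Lib.Helper26.TWSIIT2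

/-!
helper26: S5668 Stage II-B leaf U8 `InUS_split` (exact signature of `notes/S5668_II_leaves.lean`): an isometry `u ∈ U^W` all of whose
`C → W` parts on `A₀ = ⟨y,y'⟩^⊥` are scalar is `slot i η · z` with `η ∈ Sp(A)` a Heisenberg element fixing `y` and `z ∈ Z_W`.
Proof: the scalar `c(v)` is the restriction to `A₀` of the linear functional `f v = (y a₁)⁻¹ ((u - 1)(b₀ ⊗ v))_{(a₁,u₀)}`;
`f = sf · w₁` (`w₁ = -J λ`), project `w₁` to `w₀ ∈ A₀`; `η := etaS y w₀ 0`; `u = slot i η` on `C = B ⊗ y^⊥`; `InUS_ker`.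
-/

set_option autoImplicit false
set_option linter.unusedSectionVars false
set_option linter.unusedVariables false

namespace Cfsg.Agent.Lib.Helper26.TWSIILeaf
open Matrix Cfsg.Geo Cfsg.Agent.Lib.Helper18.AschA89 Cfsg.Agent.Lib.Helper8.TW Cfsg.Agent.Lib.Helper5.TWS
  Cfsg.Agent.Lib.Helper14.TWII Cfsg.Agent.Lib.Helper14.TWSII
open Cfsg.Agent.Lib.Helper25.SpT (sf Jm sfv sf_add_left sf_add_right sf_smul_left sf_smul_right sf_sub_left sf_sub_right
  sf_self sf_skew sfv_dot sf_zero_left)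
open Cfsg.Agent.Lib.Helper22.TWLeaf (ins_comp vec_ext_ins update_ins slot_mulVec_tens mem_Wf_iff_tens)
open Cfsg.Agent.Lib.Helper17.TWUIILeaf (tens_add_right17 tens_smul_right17 tens_sub_right17)
open Cfsg.Agent.Lib.Helper16.TWUIILeaf (mv_mul16 mv_inv_mv16)

variable {F : Type*} [Field F] [Fintype F] {t k : ℕ}

/-- every vector is the sum of its `B`-coordinates: `v = Σ_x e_x ⊗ (slice of v at x)` -/
lemma eq_sum_tens26 (i : Fin (t + 1)) (v : Idx (t + 1) k → F) :
    v = ∑ x : Idx t k, tens i (Pi.single x 1) (fun a => v (ins i a x)) := by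
  classical
  apply vec_ext_ins i
  intro a u
  rw [Finset.sum_apply]
  have h : ∀ x : Idx t k, tens i (Pi.single x (1 : F)) (fun a => v (ins i a x)) (ins i a u) =
      if x = u then v (ins i a u) else 0 := by
    intro x
    simp only [tens]
    rw [ins_comp, ins_same]
    by_cases hx : x = u
    · subst hx
      rw [if_pos rfl, Pi.single_eq_same, one_mul]
    · rw [if_neg hx, Pi.single_eq_of_ne (Ne.symm hx), zero_mul]
  simp only [h]
  rw [Finset.sum_ite_eq' Finset.univ u, if_pos (Finset.mem_univ u)]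

lemma mv_add26 {ι : Type} [Fintype ι] [DecidableEq ι] (g : GL ι F) (v w : ι → F) :
    mv g (v + w) = mv g v + mv g w := by
  unfold mv
  rw [Matrix.mulVec_add]

lemma mv_smul26 {ι : Type} [Fintype ι] [DecidableEq ι] (g : GL ι F) (c : F) (v : ι → F) :
    mv g (c • v) = c • mv g v := by
  unfold mv
  rw [Matrix.mulVec_smul]

lemma mv_sum26 {ι κ : Type} [Fintype ι] [DecidableEq ι] (g : GL ι F) (s : Finset κ) (f : κ → ι → F) :
    mv g (∑ x ∈ s, f x) = ∑ x ∈ s, mv g (f x) := by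
  unfold mv
  rw [Matrix.mulVec_sum]

/-- two units agreeing on all `b ⊗ a`, `a ⊥ y`, agree on `C(i, y†)` -/
lemma eq_on_Cf_of_tens (i : Fin (t + 1)) (y : Fin k → F) (g h : GL (Idx (t + 1) k) F)
    (hgh : ∀ (b : Idx t k → F) (a : Fin k → F), sf a y = 0 → mv g (tens i b a) = mv h (tens i b a))
    (x : Idx (t + 1) k → F) (hx : x ∈ Cf i (sfv y)) : mv g x = mv h x := by
  classical
  rw [eq_sum_tens26 i x, mv_sum26, mv_sum26]
  apply Finset.sum_congr rfl
  intro x₀ _
  apply hgh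
  rcases Nat.eq_zero_or_pos k with hk0 | hk0
  · subst hk0
    have : (fun a => x (ins i a x₀)) = (0 : Fin 0 → F) := by
      funext a
      exact a.elim0
    rw [this, sf_zero_left]
  · have h1 := hx (ins i ⟨0, hk0⟩ x₀)
    rw [mem_kerF] at h1
    have h2 : slice i (ins i ⟨0, hk0⟩ x₀) x = fun a => x (ins i a x₀) := by
      funext a
      simp only [slice, update_ins]
    rw [h2, sfv_dot] at h1
    exact h1

/-- U8 -/
theorem InUS_split (hk : Even k) (hk2 : 2 ≤ k) (i : Fin (t + 1)) (y y' : Fin k → F) (hyy' : sf y y' = 1)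
    (u : GL (Idx (t + 1) k) F) (huS : u ∈ GSV (t + 1) k F) (hu : InUS i y u)
    (hsc : ∀ v : Fin k → F, sf v y = 0 → sf v y' = 0 → ∃ c : F, ∀ b : Idx t k → F,
      mv u (tens i b v) = tens i b v + c • tens i b y) :
    ∃ (η : GL (Fin k) F) (z : GL (Idx (t + 1) k) F), η ∈ GSA k F ∧ (η : Matrix (Fin k) (Fin k) F) *ᵥ y = y ∧
      InZ i y z ∧ u = slotGL i η * z := by
  classical
  have hy0 : y ≠ 0 := by
    rintro rfl
    rw [sf_zero_left] at hyy'
    exact zero_ne_one hyy'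
  have hy'y : sf y' y = -1 := by rw [sf_skew, hyy']
  obtain ⟨a₁, ha₁⟩ : ∃ a₁, y a₁ ≠ 0 := by
    by_contra hcon
    push Not at hcon
    exact hy0 (funext hcon)
  set u₀ : Idx t k := fun _ => ⟨0, by omega⟩ with hu₀
  set b₀ : Idx t k → F := Pi.single u₀ 1 with hb₀
  -- the linear functional
  set f : (Fin k → F) → F := fun v => (y a₁)⁻¹ * (mv u (tens i b₀ v) - tens i b₀ v) (ins i a₁ u₀) with hf
  have hf_add : ∀ v w, f (v + w) = f v + f w := by
    intro v w
    simp only [hf]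
    rw [tens_add_right17, mv_add26]
    simp only [Pi.sub_apply, Pi.add_apply]
    ring
  have hf_smul : ∀ (c : F) v, f (c • v) = c • f v := by
    intro c v
    simp only [hf]
    rw [tens_smul_right17, mv_smul26]
    simp only [Pi.sub_apply, Pi.smul_apply, smul_eq_mul]
    ring
  set L : (Fin k → F) →ₗ[F] F := IsLinearMap.mk' f ⟨hf_add, hf_smul⟩ with hL
  set lam : Fin k → F := fun a => f (Pi.single a 1) with hlam
  have hf_dot : ∀ v, f v = v ⬝ᵥ lam := by
    intro v
    have h1 := LinearMap.pi_apply_eq_sum_univ L v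
    have h2 : ∀ a : Fin k, (fun j => if a = j then (1 : F) else 0) = Pi.single a 1 := by
      intro a
      funext j
      rw [Pi.single_apply]
      by_cases h : a = j
      · rw [if_pos h, if_pos h.symm]
      · rw [if_neg h, if_neg (Ne.symm h)]
    simp only [h2] at h1
    change f v = _ at h1
    rw [h1, dotProduct]
    apply Finset.sum_congr rfl
    intro a _
    rw [smul_eq_mul]
    rfl
  -- on `A₀` the functional is the scalar of `hsc`
  have hfA0 : ∀ v, sf v y = 0 → sf v y' = 0 → ∀ b : Idx t k → F,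
      mv u (tens i b v) = tens i b v + f v • tens i b y := by
    intro v h1 h2
    obtain ⟨c, hc⟩ := hsc v h1 h2
    have hfc : f v = c := by
      simp only [hf]
      rw [hc b₀, add_sub_cancel_left]
      simp only [Pi.smul_apply, smul_eq_mul, tens]
      rw [ins_comp, ins_same, hb₀, Pi.single_eq_same, one_mul]
      field_simp
    rw [hfc]
    exact hc
  -- represent `f` by the form
  set w₁ : Fin k → F := -((Jm k : Matrix (Fin k) (Fin k) F) *ᵥ lam) with hw₁
  have hsfw₁ : ∀ v, sf v w₁ = f v := by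
    intro v
    rw [hf_dot, hw₁]
    unfold sf
    rw [Matrix.mulVec_neg, Matrix.mulVec_mulVec, Cfsg.Agent.Lib.Helper1.TWST2.Jm_mul_Jm hk, Matrix.neg_mulVec,
      Matrix.one_mulVec, neg_neg]
  set w₀ : Fin k → F := w₁ - sf w₁ y' • y + sf w₁ y • y' with hw₀
  have hw₀y : sf w₀ y = 0 := by
    rw [hw₀, sf_add_left, sf_sub_left, sf_smul_left, sf_smul_left, sf_self, hy'y]
    ring
  have hw₀y' : sf w₀ y' = 0 := by
    rw [hw₀, sf_add_left, sf_sub_left, sf_smul_left, sf_smul_left, sf_self, hyy']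
    ring
  have hyw₀ : sf y w₀ = 0 := by rw [sf_skew, hw₀y, neg_zero]
  have hsfw₀ : ∀ v, sf v y = 0 → sf v y' = 0 → sf v w₀ = f v := by
    intro v h1 h2
    rw [hw₀, sf_add_right, sf_sub_right, sf_smul_right, sf_smul_right, h1, h2, hsfw₁]
    ring
  obtain ⟨η, hη, hηS, hηy⟩ := Cfsg.Agent.Lib.Helper16.TWSIILeaf.etaS_mem y w₀ 0 hw₀y
  -- `u` and `slot i η` agree on pure tensors of `C`
  have hpure : ∀ (b : Idx t k → F) (a : Fin k → F), sf a y = 0 →
      mv u (tens i b a) = mv (slotGL i η) (tens i b a) := by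
    intro b a ha
    obtain ⟨c', hc'⟩ : ∃ c' : F, c' = sf a y' := ⟨_, rfl⟩
    obtain ⟨a₀, ha₀⟩ : ∃ a₀ : Fin k → F, a₀ = a - c' • y := ⟨_, rfl⟩
    have ha₀y : sf a₀ y = 0 := by
      rw [ha₀, sf_sub_left, sf_smul_left, sf_self, ha]
      ring
    have ha₀y' : sf a₀ y' = 0 := by
      rw [ha₀, sf_sub_left, sf_smul_left, hyy', ← hc']
      ring
    have hadec : a = a₀ + c' • y := by
      rw [ha₀]
      abel
    have hWy : mv u (tens i b y) = tens i b y :=
      hu.1 _ ((mem_Wf_iff_tens i y hy0 _).2 ⟨b, rfl⟩)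
    have hsfa : sf a w₀ = f a₀ := by
      rw [hadec, sf_add_left, sf_smul_left, hyw₀, mul_zero, add_zero]
      exact hsfw₀ a₀ ha₀y ha₀y'
    have lhs : mv u (tens i b a) = tens i b a₀ + f a₀ • tens i b y + c' • tens i b y := by
      rw [hadec, tens_add_right17, tens_smul_right17, mv_add26, mv_smul26, hWy, hfA0 a₀ ha₀y ha₀y' b]
    have rhs : mv (slotGL i η) (tens i b a) = tens i b a + sf a w₀ • tens i b y := by
      unfold mv
      rw [slotGL_val, slot_mulVec_tens, hη, Cfsg.Agent.Lib.Helper16.TWSIILeaf.etaS_mulVec, ha, zero_smul, add_zero,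
        mul_zero, zero_smul, add_zero, tens_add_right17, tens_smul_right17]
    rw [lhs, rhs, hsfa, hadec, tens_add_right17, tens_smul_right17]
    abel
  have hηH : slotGL i η ∈ HS (t + 1) k F := slotGL_mem_HS i η hηS
  refine ⟨η, (slotGL i η)⁻¹ * u, hηS, hηy, ?_, by rw [mul_inv_cancel_left]⟩
  apply Cfsg.Agent.Lib.Helper18.TWSIILeaf.InUS_ker hk i y hy0 _
    ((GSV (t + 1) k F).mul_mem ((GSV (t + 1) k F).inv_mem hηH.2) huS)
    (Cfsg.Agent.Lib.Helper16.TWSIILeaf.InUS_mul i y _ _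
      (Cfsg.Agent.Lib.Helper16.TWSIILeaf.InUS_inv i y _
        (Cfsg.Agent.Lib.Helper16.TWSIILeaf.InUS_slot_eta i y w₀ 0 hw₀y η hη)) hu)
  intro x hx
  rw [mv_mul16, eq_on_Cf_of_tens i y u (slotGL i η) hpure x hx, mv_inv_mv16]

end Cfsg.Agent.Lib.Helper26.TWSIILeaf
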