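import Mathlib
import Cfsg.Agent.Lib.Helper26.TWST

/-!
helper26: S5668 (C7 symplectic) part (A), second half: PROPERNESS of the model (`G ∩ GSV < GSV` for odd `t`:
the transvection `1 + E_{(1,…,1),(0,…,0)}` is an isometry of `sfT` that maps the decomposable basis vector
`e_{(0,…,0)}` to the non-decomposable `e_{(0,…,0)} + e_{(1,…,1)}`) and the final wrapper `maximal_of_mainTS`.
-/

set_option autoImplicit false
set_option linter.unusedSectionVars false
set_option linter.unusedVariables false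

namespace Cfsg.Agent.Lib.Helper26.TWST
open Matrix Cfsg.Geo
open Cfsg.Agent.Lib.Helper8.TW (Idx Gstd)
open Cfsg.Agent.Lib.Helper25.SpT (sf Jm Jm_apply)
open Cfsg.Agent.Lib.Helper5.TWS (JT sfT GSV HS MainTS mem_GSV JT_apply sfT_add_left sfT_add_right)
open Cfsg.Agent.Lib.Helper28.SLMLeaf (DecT stabSet tensorWreathStandard_le_stab)
open Cfsg.Agent.Lib.Helper26.TWUT (not_dec_two)

variable {F : Type*} [Field F] {t k : ℕ}

section proper

/-- the index `(c, …, c)` -/
def cidx (c : Fin k) : Idx t k := fun _ => c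

lemma Jm_col_one (hk2 : 2 ≤ k) (j : Fin k) :
    (Jm k : Matrix (Fin k) (Fin k) F) j ⟨1, by omega⟩ = if j = ⟨0, by omega⟩ then 1 else 0 := by
  rw [Jm_apply]
  by_cases hj : j = ⟨0, by omega⟩
  · subst hj
    simp
  · have hj' : j.val ≠ 0 := fun h => hj (Fin.ext h)
    rw [if_neg hj]
    have h1 : ¬ (j.val + 1 = (⟨1, by omega⟩ : Fin k).val ∧ j.val % 2 = 0) := by
      simp only []; omega
    have h2 : ¬ ((⟨1, by omega⟩ : Fin k).val + 1 = j.val ∧ (⟨1, by omega⟩ : Fin k).val % 2 = 0) := by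
      simp only []; omega
    rw [if_neg h1, if_neg h2]

lemma Jm_row_one (hk2 : 2 ≤ k) (j : Fin k) :
    (Jm k : Matrix (Fin k) (Fin k) F) ⟨1, by omega⟩ j = if j = ⟨0, by omega⟩ then -1 else 0 := by
  rw [Jm_apply]
  by_cases hj : j = ⟨0, by omega⟩
  · subst hj
    simp
  · have hj' : j.val ≠ 0 := fun h => hj (Fin.ext h)
    rw [if_neg hj]
    have h1 : ¬ ((⟨1, by omega⟩ : Fin k).val + 1 = j.val ∧ (⟨1, by omega⟩ : Fin k).val % 2 = 0) := by
      simp only []; omega
    have h2 : ¬ (j.val + 1 = (⟨1, by omega⟩ : Fin k).val ∧ j.val % 2 = 0) := by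
      simp only []; omega
    rw [if_neg h1, if_neg h2]

lemma JT_col_one (hk2 : 2 ≤ k) (a : Idx t k) :
    JT t k F a (cidx ⟨1, by omega⟩) = if a = cidx ⟨0, by omega⟩ then 1 else 0 := by
  classical
  rw [JT_apply]
  have : ∀ i, (Jm k : Matrix (Fin k) (Fin k) F) (a i) ((cidx ⟨1, by omega⟩ : Idx t k) i) =
      if a i = ⟨0, by omega⟩ then 1 else 0 := fun i => Jm_col_one hk2 (a i)
  simp only [this]
  rw [Finset.prod_ite_zero]
  simp only [Finset.mem_univ, forall_true_left, Finset.prod_const_one]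
  congr 1
  apply propext
  constructor
  · intro h; funext i; exact h i
  · intro h i; rw [h]; rfl

lemma JT_row_one (hk2 : 2 ≤ k) (b : Idx t k) :
    JT t k F (cidx ⟨1, by omega⟩) b = if b = cidx ⟨0, by omega⟩ then (-1) ^ t else 0 := by
  classical
  rw [JT_apply]
  have : ∀ i, (Jm k : Matrix (Fin k) (Fin k) F) ((cidx ⟨1, by omega⟩ : Idx t k) i) (b i) =
      if b i = ⟨0, by omega⟩ then -1 else 0 := fun i => Jm_row_one hk2 (b i)
  simp only [this]
  rw [Finset.prod_ite_zero]
  simp only [Finset.mem_univ, forall_true_left, Finset.prod_const, Finset.card_univ, Fintype.card_fin]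
  congr 1
  apply propext
  constructor
  · intro h; funext i; exact h i
  · intro h i; rw [h]; rfl

lemma sfT_single_right (hk2 : 2 ≤ k) (u : Idx t k → F) (β : F) :
    sfT u (Pi.single (cidx ⟨1, by omega⟩) β) = u (cidx ⟨0, by omega⟩) * β := by
  classical
  unfold sfT
  rw [Matrix.mulVec_single]
  simp only [dotProduct, Pi.smul_apply, Matrix.col_apply, MulOpposite.smul_eq_mul_unop,
    MulOpposite.unop_op]
  rw [Finset.sum_eq_single (cidx ⟨0, by omega⟩ : Idx t k)]
  · rw [JT_col_one hk2, if_pos rfl, one_mul]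
  · intro a _ ha
    rw [JT_col_one hk2, if_neg ha, zero_mul, mul_zero]
  · intro h; exact absurd (Finset.mem_univ _) h

lemma sfT_single_left (hk2 : 2 ≤ k) (α : F) (v : Idx t k → F) :
    sfT (Pi.single (cidx ⟨1, by omega⟩) α) v = α * ((-1) ^ t * v (cidx ⟨0, by omega⟩)) := by
  classical
  unfold sfT
  rw [single_dotProduct]
  congr 1
  simp only [Matrix.mulVec, dotProduct]
  rw [Finset.sum_eq_single (cidx ⟨0, by omega⟩ : Idx t k)]
  · rw [JT_row_one hk2, if_pos rfl]
  · intro b _ hb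
    rw [JT_row_one hk2, if_neg hb, zero_mul]
  · intro h; exact absurd (Finset.mem_univ _) h

lemma cidx_ne (hk2 : 2 ≤ k) (ht1 : 1 ≤ t) :
    (cidx ⟨1, by omega⟩ : Idx t k) ≠ cidx ⟨0, by omega⟩ := by
  intro h
  have := congrFun h ⟨0, by omega⟩
  simp [cidx] at this

/-- the transvection `1 + E_{(1..1),(0..0)}` as a unit -/
def tauGL (hk2 : 2 ≤ k) (ht1 : 1 ≤ t) : GL (Idx t k) F :=
  ⟨Matrix.transvection (cidx ⟨1, by omega⟩) (cidx ⟨0, by omega⟩) 1,
    Matrix.transvection (cidx ⟨1, by omega⟩) (cidx ⟨0, by omega⟩) (-1),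
    by
      have h := cidx_ne hk2 ht1
      rw [Matrix.transvection_mul_transvection_same _ _ h, add_neg_cancel, Matrix.transvection_zero],
    by
      have h := cidx_ne hk2 ht1
      rw [Matrix.transvection_mul_transvection_same _ _ h, neg_add_cancel, Matrix.transvection_zero]⟩

lemma tauGL_mulVec (hk2 : 2 ≤ k) (ht1 : 1 ≤ t) (u : Idx t k → F) :
    ((tauGL hk2 ht1 : GL (Idx t k) F) : Matrix (Idx t k) (Idx t k) F) *ᵥ u =
      u + Pi.single (cidx ⟨1, by omega⟩) (u (cidx ⟨0, by omega⟩)) := by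
  classical
  change (Matrix.transvection (cidx ⟨1, by omega⟩) (cidx ⟨0, by omega⟩) (1 : F)) *ᵥ u = _
  rw [Matrix.transvection, Matrix.add_mulVec, Matrix.one_mulVec, Matrix.single_mulVec_eq, one_mul]
  congr 1
  funext a
  simp [Pi.single_apply]

theorem tauGL_mem_GSV (hk2 : 2 ≤ k) (ht : Odd t) (ht1 : 1 ≤ t) :
    (tauGL hk2 ht1 : GL (Idx t k) F) ∈ GSV t k F := by
  rw [mem_GSV]
  intro u v
  unfold Cfsg.Agent.Lib.Helper8.TW.mv
  rw [tauGL_mulVec, tauGL_mulVec, sfT_add_left, sfT_add_right, sfT_add_right,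
    sfT_single_right hk2, sfT_single_left hk2, sfT_single_left hk2]
  rw [Pi.single_eq_of_ne (cidx_ne hk2 ht1).symm, Odd.neg_one_pow ht]
  ring

end proper

/-- (TP) the C7 group is proper in the isometry group of the model -/
theorem Gstd_GSV_lt [Fintype F] (hk2 : 2 ≤ k) (ht : Odd t) (ht2 : 2 ≤ t) :
    Gstd t k F ⊓ GSV t k F < GSV t k F := by
  classical
  refine lt_of_le_of_ne inf_le_right ?_
  intro heq
  have ht1 : 1 ≤ t := by omega
  let c0 : Fin k := ⟨0, by omega⟩
  let c1 : Fin k := ⟨1, by omega⟩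
  let i0 : Fin t := ⟨0, by omega⟩
  let i1 : Fin t := ⟨1, by omega⟩
  have hc : c0 ≠ c1 := by intro h; have := congrArg Fin.val h; simp [c0, c1] at this
  have hi : i0 ≠ i1 := by intro h; have := congrArg Fin.val h; simp [i0, i1] at this
  set z00 : Idx t k := cidx c0 with hz00
  set z11 : Idx t k := cidx c1 with hz11
  set z01 : Idx t k := fun i => if i = i1 then c1 else c0 with hz01
  have h0011 : z00 ≠ z11 := (cidx_ne hk2 ht1).symm
  have h0001 : z01 ≠ z00 := by
    intro h; have := congrFun h i1; simp [z00, z01, cidx] at this; exact hc this.symm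
  have h1101 : z01 ≠ z11 := by
    intro h; have := congrFun h i0; simp [z11, z01, cidx, hi] at this; exact hc this
  have hg : (tauGL hk2 ht1 : GL (Idx t k) F) ∈ GSV t k F := tauGL_mem_GSV hk2 ht ht1
  have hgG : (tauGL hk2 ht1 : GL (Idx t k) F) ∈ Gstd t k F := by
    rw [← heq] at hg
    exact hg.1
  have hstab := tensorWreathStandard_le_stab k t hgG
  -- the decomposable vector `e_{z00}`
  let xs : Fin t → Fin k → F := fun _ => Pi.single c0 1
  have hd : (fun z : Idx t k => ∏ i, xs i (z i)) ∈ DecT k t F := ⟨xs, rfl⟩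
  have himg := (hstab _).2 hd
  have hdval : ∀ z : Idx t k, ∏ i, xs i (z i) = if z = z00 then (1 : F) else 0 := by
    intro z
    by_cases hz : z = z00
    · rw [if_pos hz, hz]
      apply Finset.prod_eq_one
      intro i _
      simp [xs, z00, cidx]
    · rw [if_neg hz]
      have : ∃ i, z i ≠ c0 := by
        by_contra hcon
        push Not at hcon
        exact hz (funext hcon)
      obtain ⟨i, hi'⟩ := this
      apply Finset.prod_eq_zero (Finset.mem_univ i)
      simp only [xs, Pi.single_eq_of_ne hi']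
  rw [tauGL_mulVec] at himg
  have hcomp : ((fun z : Idx t k => ∏ i, xs i (z i)) +
      Pi.single (cidx ⟨1, by omega⟩) ((fun z : Idx t k => ∏ i, xs i (z i)) (cidx ⟨0, by omega⟩))) =
      fun z : Idx t k => (if z = z00 then (1 : F) else 0) + (if z = z11 then 1 else 0) := by
    funext z
    simp only [Pi.add_apply]
    rw [hdval, hdval, if_pos rfl, Pi.single_apply]
  rw [hcomp] at himg
  refine not_dec_two z00 z11 z01 i1 h0011 h0001 h1101 ?_ ?_ himg
  · intro i hii
    simp [hz01, hz00, hii, cidx]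
  · simp [hz01, hz11, cidx]

/-- **the model statement**: maximality of `G ∩ GSV` in `GSV` from the main theorem `MainTS` (properness included) -/
theorem model_max [Fintype F] (hk2 : 2 ≤ k) (ht : Odd t) (ht2 : 2 ≤ t) (hmain : MainTS t k F) :
    Cfsg.Geo.IsMaximalIn (GSV t k F) (Gstd t k F ⊓ GSV t k F) := by
  refine ⟨Gstd_GSV_lt hk2 ht ht2, fun M hHM hMS => ?_⟩
  rcases hmain M hHM hMS with h | h
  · left
    exact le_antisymm (le_inf h hMS) hHM
  · right
    exact le_antisymm hMS h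

/-- **(A) the frozen conclusion of S5668 from the main theorem of the model** -/
theorem maximal_of_mainTS [Fintype F] (m : ℕ) (hm : 1 ≤ m) (hodd : Odd (Fintype.card F)) (k t : ℕ)
    (ht : Odd t) (ht3 : 3 ≤ t) (hex : ¬ (Fintype.card F = 3 ∧ k = 2))
    (e : (Fin m ⊕ Fin m) ≃ (Fin t → Fin k)) (P : GL (Fin m ⊕ Fin m) F)
    (f₁ : (Fin k → F) → (Fin k → F) → F) (hf₁ : Cfsg.Geo.IsSymplecticForm f₁)
    (hT : Cfsg.Geo.IsTensorPowerFormStructure id (Cfsg.sympForm m F) f₁ e P)
    (hmain : MainTS t k F) :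
    Cfsg.Geo.IsMaximalIn (Cfsg.spGL m F) (Cfsg.Geo.tensorWreathSubgroup k t e P ⊓ Cfsg.spGL m F) := by
  obtain ⟨hev, φ, hK, hG⟩ := exists_transportS e P f₁ hf₁ hT
  have hk2 : 2 ≤ k := by
    -- `k ≠ 0, 1` since `2m = k^t ≥ 2` and `k` is even
    have hcard := Fintype.card_congr e
    simp only [Fintype.card_sum, Fintype.card_fin, Fintype.card_pi, Finset.prod_const,
      Finset.card_univ] at hcard
    obtain ⟨j, hj⟩ := hev
    by_contra hlt
    have hk0 : k = 0 := by omega
    subst hk0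
    rw [zero_pow (by omega : t ≠ 0)] at hcard
    omega
  have key := Cfsg.Agent.Lib.Helper15.TensLeaf.tt_isMaximalIn_map φ (model_max hk2 ht (by omega) hmain)
  rw [Subgroup.map_inf _ _ _ φ.injective, hK, hG] at key
  exact key

end Cfsg.Agent.Lib.Helper26.TWST
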