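import Mathlib
import Cfsg.Agent.Lib.Helper26.TWSTP

/-!
helper26: S5668 block (A), convenience wrappers for the final assembly: `Even k` and `2 ≤ k` follow from the hypotheses of the frozen
statement (`hf₁` symplectic, `2m = k^t`, `m ≥ 1`), so the main theorem of the model may be supplied under these two hypotheses.
-/

set_option autoImplicit false
set_option linter.unusedSectionVars false
set_option linter.unusedVariables false

namespace Cfsg.Agent.Lib.Helper26.TWST
open Matrix Cfsg.Geo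
open Cfsg.Agent.Lib.Helper5.TWS (MainTS)

variable {F : Type*} [Field F] {t k : ℕ}

/-- `k` is even (from the symplectic form `f₁` on `F^k`) -/
theorem even_k_of_symp (f₁ : (Fin k → F) → (Fin k → F) → F) (hf₁ : Cfsg.Geo.IsSymplecticForm f₁) : Even k :=
  (Cfsg.Agent.Lib.Helper13.SpTLeaf.exists_symp_basis f₁ hf₁).1

/-- `2 ≤ k` from `2m = k^t`, `m ≥ 1`, `t ≠ 0`, `k` even -/
theorem two_le_k_of_equiv (m : ℕ) (hm : 1 ≤ m) (ht0 : t ≠ 0) (hev : Even k)
    (e : (Fin m ⊕ Fin m) ≃ (Fin t → Fin k)) : 2 ≤ k := by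
  have hcard := Fintype.card_congr e
  simp only [Fintype.card_sum, Fintype.card_fin, Fintype.card_pi, Finset.prod_const,
    Finset.card_univ] at hcard
  obtain ⟨j, hj⟩ := hev
  by_contra hlt
  have hk0 : k = 0 := by omega
  subst hk0
  rw [zero_pow ht0] at hcard
  omega

/-- **(A')** the frozen conclusion of S5668 from the main theorem of the model, the latter given under `Even k`, `2 ≤ k` -/
theorem maximal_of_mainTS' [Fintype F] (m : ℕ) (hm : 1 ≤ m) (hodd : Odd (Fintype.card F)) (k t : ℕ)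
    (ht : Odd t) (ht3 : 3 ≤ t) (hex : ¬ (Fintype.card F = 3 ∧ k = 2))
    (e : (Fin m ⊕ Fin m) ≃ (Fin t → Fin k)) (P : GL (Fin m ⊕ Fin m) F)
    (f₁ : (Fin k → F) → (Fin k → F) → F) (hf₁ : Cfsg.Geo.IsSymplecticForm f₁)
    (hT : Cfsg.Geo.IsTensorPowerFormStructure id (Cfsg.sympForm m F) f₁ e P)
    (hmain : Even k → 2 ≤ k → MainTS t k F) :
    Cfsg.Geo.IsMaximalIn (Cfsg.spGL m F) (Cfsg.Geo.tensorWreathSubgroup k t e P ⊓ Cfsg.spGL m F) := by
  have hev : Even k := even_k_of_symp f₁ hf₁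
  have hk2 : 2 ≤ k := two_le_k_of_equiv m hm (by omega) hev e
  exact maximal_of_mainTS m hm hodd k t ht ht3 hex e P f₁ hf₁ hT (hmain hev hk2)

end Cfsg.Agent.Lib.Helper26.TWST
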