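import Mathlib
import Cfsg.Agent.Lib.Helper26.TWU2AL3a
import Cfsg.Agent.Lib.Helper26.TWU2AL3bc

/-!
# S5672 Stage II case A: the assembly `lemmaAU_q3` (Lemma A_U for `q ≥ 3`) on top of L3a, L3b, L3c
-/

set_option autoImplicit false
set_option linter.unusedSectionVars false
set_option linter.unusedVariables false

namespace Cfsg.Agent.Lib.Helper26.TWU2ALeaf
open Matrix Cfsg.Geo Cfsg.Agent.Lib.Helper18.AschA89 Cfsg.Agent.Lib.Helper8.TW
open Cfsg.Agent.Lib.Helper5.TWU Cfsg.Agent.Lib.Helper19.TWU3 Cfsg.Agent.Lib.Helper28.TWU2A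
open Cfsg.Agent.Lib.Helper20.UT (hv)

variable {F : Type*} [Field F] [Fintype F] {t k q : ℕ}

/-- the block of `Ψ` at position `l` with outer indices `p, p'` -/
def blk26 (l : Fin t) (Ψ : Matrix (Idx t k) (Idx t k) F) (p p' : Idx t k) : Matrix (Fin k) (Fin k) F :=
  Matrix.of fun a b => Ψ (Function.update p l a) (Function.update p' l b)

lemma blk26_apply (l : Fin t) (Ψ : Matrix (Idx t k) (Idx t k) F) (p p' : Idx t k) (a b : Fin k) :
    blk26 l Ψ p p' a b = Ψ (Function.update p l a) (Function.update p' l b) := rfl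

/-- all blocks scalar ⟹ trivial at `l` -/
lemma triv_of_blk26 (l : Fin t) (Ψ : Matrix (Idx t k) (Idx t k) F)
    (h : ∀ p p' : Idx t k, ∃ c : F, blk26 l Ψ p p' = c • (1 : Matrix (Fin k) (Fin k) F)) : Triv l Ψ := by
  intro p p' a b
  obtain ⟨c, hc⟩ := h p p'
  have h1 : Ψ (Function.update p l a) (Function.update p' l b) = c * (1 : Matrix (Fin k) (Fin k) F) a b := by
    have := congrFun (congrFun hc a) b
    rw [blk26_apply, Matrix.smul_apply, smul_eq_mul] at this
    exact this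
  have h2 : Ψ p p' = c * (1 : Matrix (Fin k) (Fin k) F) (p l) (p' l) := by
    have := congrFun (congrFun hc (p l)) (p' l)
    rw [blk26_apply, Function.update_eq_self, Function.update_eq_self, Matrix.smul_apply, smul_eq_mul] at this
    exact this
  rw [h1, h2]
  ring

/-- the double sum of `compress_entry` is `hv (M z) z` for the block `M` -/
lemma sum_blk26 (l : Fin t) (Ψ : Matrix (Idx t k) (Idx t k) F) (p p' : Idx t k) (z : Fin k → F) :
    (∑ a, ∑ b, (z a) ^ q * Ψ (Function.update p l a) (Function.update p' l b) * z b) =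
      hv q (blk26 l Ψ p p' *ᵥ z) z := by
  unfold Cfsg.Agent.Lib.Helper20.UT.hv
  apply Finset.sum_congr rfl
  intro a _
  simp only [Matrix.mulVec, dotProduct, blk26_apply]
  rw [Finset.sum_mul]
  apply Finset.sum_congr rfl
  intro b _
  ring

/-- the compression has weight `z z†` at `l` -/
lemma wform_compress26 (l : Fin t) (z : Fin k → F) (Ψ : Matrix (Idx t k) (Idx t k) F) :
    WForm l (vv q z z) (slot k t l (vv q z z) * Ψ * slot k t l (vv q z z)) := by
  intro p p' a b
  rw [compress_entry, compress_entry, vv_apply, vv_apply]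
  simp only [Function.update_self, Function.update_idem]
  ring

/-- L3 (assembly) Lemma A_U for `q ≥ 3` -/
theorem lemmaAU_q3 (hF : Fintype.card F = q ^ 2) (hk : 3 ≤ k) (hq : 3 ≤ q) (l : Fin t)
    (𝒯 : Matrix (Idx t k) (Idx t k) F → Prop) (h𝒯 : StableAt q l 𝒯) (Ψ : Matrix (Idx t k) (Idx t k) F) (hΨ : 𝒯 Ψ)
    (hnt : ¬ Triv l Ψ) :
    ∃ (z : Fin k → F) (Ψ₁ : Matrix (Idx t k) (Idx t k) F), z ≠ 0 ∧ hv q z z = 0 ∧ 𝒯 Ψ₁ ∧ Ψ₁ ≠ 0 ∧ WForm l (vv q z z) Ψ₁ := by
  -- a non-scalar block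
  have h1 : ∃ p p' : Idx t k, ¬ ∃ c : F, blk26 l Ψ p p' = c • (1 : Matrix (Fin k) (Fin k) F) := by
    by_contra hcon
    push Not at hcon
    exact hnt (triv_of_blk26 l Ψ hcon)
  obtain ⟨p, p', hM⟩ := h1
  -- an isotropic `z` with `z† M z ≠ 0`
  have h2 : ∃ z : Fin k → F, hv q z z = 0 ∧ hv q (blk26 l Ψ p p' *ᵥ z) z ≠ 0 := by
    by_contra hcon
    push Not at hcon
    exact hM (scalar_of_cone hF hk (by omega) (blk26 l Ψ p p') hcon)
  obtain ⟨z, hz, hMz⟩ := h2
  have hz0 : z ≠ 0 := by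
    intro h
    apply hMz
    rw [h, Matrix.mulVec_zero]
    exact Cfsg.Agent.Lib.Helper20.UT.hv_zero_left q 0
  refine ⟨z, slot k t l (vv q z z) * Ψ * slot k t l (vv q z z), hz0, hz, compress_mem hF hq l 𝒯 h𝒯 z hz0 hz Ψ hΨ, ?_,
    wform_compress26 l z Ψ⟩
  -- the compression is not zero
  obtain ⟨c, hc⟩ : ∃ c, z c ≠ 0 := by
    by_contra hcon
    push Not at hcon
    exact hz0 (funext hcon)
  intro h0
  have h3 := congrFun (congrFun h0 (Function.update p l c)) (Function.update p' l c)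
  rw [compress_entry, Matrix.zero_apply] at h3
  simp only [Function.update_self, Function.update_idem] at h3
  rw [sum_blk26] at h3
  rcases mul_eq_zero.mp h3 with h4 | h4
  · rcases mul_eq_zero.mp h4 with h5 | h5
    · exact hc h5
    · exact hc (eq_zero_of_pow_eq_zero h5)
  · exact hMz h4

end Cfsg.Agent.Lib.Helper26.TWU2ALeaf
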