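import Mathlib
import Cfsg.Agent.Lib.Helper8.TW.Defs
import Cfsg.Agent.Lib.Helper5.TWU.Defs
import Cfsg.Agent.Lib.Helper5.UTGDefs
import Cfsg.Agent.Lib.Helper7.UTTT
import Cfsg.Agent.Lib.Helper15.TT

/-!
# S5672 Stage III, leaf III-B: THE BRIDGE `Idx (t+1) k ≃ Fin k × Fin (k^t)` at position `j`

Part 1 (this file): generic reindexing calculus along an equivalence `e : κ ≃ ι` (`glReindex e`, vectors `v ∘ e.symm`,
the standard hermitian form `hv q`, isometry groups, `SL`, unitary transvections `tvV`), the equivalences `eps0`, `eps j`,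
the isomorphism `br j`, and the dictionary
`br j (slotGL j α) = kel α 1`, `br j (extGL j γ) = kel 1 (glReindex eps0 γ)`, `rv j (tens j y x) = pt x (rv0 y)`,
`g ∈ SUV (t+1) k q F ↔ br j g ∈ GS k (k^t) q F`.
-/

set_option autoImplicit false
set_option linter.unusedSectionVars false
set_option linter.unusedVariables false

namespace Cfsg.Agent.Lib.Helper26.TWUBr
open Matrix
open Cfsg.Agent.Lib.Helper8.TW (Idx ins ins_same ins_succAbove ins_rem extGL extGL_val tens slotGL slotGL_val SLV)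
open Cfsg.Agent.Lib.Helper18.AschA89 (slot slot_apply)
open Cfsg.Agent.Lib.Helper25.Tens (pt kel kel_val SLG mem_SLG_iff)
open Cfsg.Agent.Lib.Helper20.UT (hv cj mv GUI GS mem_GUI tvU kA kB ext_mv)
open Cfsg.Agent.Lib.Helper5.UTG (tvV mv_tvV)
open Cfsg.Agent.Lib.Helper5.TWU (GUV SUV mem_GUV)
open scoped Kronecker

variable {F : Type*} [Field F]

/-! ### generic reindexing -/

section generic
variable {κ ι : Type} [Fintype κ] [DecidableEq κ] [Fintype ι] [DecidableEq ι]

/-- the matrix of a reindexed unit -/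
lemma glr_val (e : κ ≃ ι) (g : GL κ F) :
    ((Cfsg.Geo.glReindex (F := F) e g : GL ι F) : Matrix ι ι F) =
      Matrix.reindex e e (g : Matrix κ κ F) := rfl

lemma glr_apply (e : κ ≃ ι) (g : GL κ F) (a b : ι) :
    ((Cfsg.Geo.glReindex (F := F) e g : GL ι F) : Matrix ι ι F) a b =
      (g : Matrix κ κ F) (e.symm a) (e.symm b) := rfl

/-- reindexed units act on reindexed vectors -/
lemma glr_mv (e : κ ≃ ι) (g : GL κ F) (v : κ → F) :
    mv (Cfsg.Geo.glReindex (F := F) e g) (v ∘ e.symm) = (mv g v) ∘ e.symm := by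
  unfold mv
  rw [glr_val, Matrix.reindex_apply, Matrix.submatrix_mulVec_equiv]
  simp [Function.comp_assoc]

lemma glr_mv' (e : κ ≃ ι) (g : GL κ F) (w : ι → F) :
    mv (Cfsg.Geo.glReindex (F := F) e g) w = (mv g (w ∘ e)) ∘ e.symm := by
  rw [← glr_mv]
  congr 1
  ext i
  simp

lemma glr_symm_mv (e : κ ≃ ι) (g : GL ι F) (v : κ → F) :
    mv ((Cfsg.Geo.glReindex (F := F) e).symm g) v = (mv g (v ∘ e.symm)) ∘ e := by
  have h := glr_mv e ((Cfsg.Geo.glReindex (F := F) e).symm g) v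
  rw [MulEquiv.apply_symm_apply] at h
  rw [h]
  ext i
  simp

/-- the standard hermitian form is invariant under reindexing -/
lemma hv_comp (q : ℕ) (e : κ ≃ ι) (v w : κ → F) :
    hv q (v ∘ e.symm) (w ∘ e.symm) = hv q v w := by
  unfold hv
  exact Equiv.sum_comp e.symm (fun i => v i * (w i) ^ q)

lemma hv_comp' (q : ℕ) (e : κ ≃ ι) (v w : ι → F) :
    hv q (v ∘ e) (w ∘ e) = hv q v w := by
  unfold hv
  exact Equiv.sum_comp e (fun i => v i * (w i) ^ q)

lemma cj_comp {κ' ι' : Type} (q : ℕ) (f : ι' → κ') (v : κ' → F) : cj q (v ∘ f) = cj q v ∘ f := rfl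

/-- isometries go to isometries -/
lemma glr_mem_pres (q : ℕ) (e : κ ≃ ι) (g : GL κ F) :
    Cfsg.Geo.glReindex (F := F) e g ∈
        Cfsg.preserving (Units.coeHom (Matrix ι ι F)) (hv q) ↔
      g ∈ Cfsg.preserving (Units.coeHom (Matrix κ κ F)) (hv q) := by
  constructor
  · intro h u v
    have h1 := h (u ∘ e.symm) (v ∘ e.symm)
    change hv q (mv _ _) (mv _ _) = _ at h1
    rw [glr_mv, glr_mv, hv_comp, hv_comp] at h1
    exact h1
  · intro h u v
    change hv q (mv _ _) (mv _ _) = _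
    rw [glr_mv', glr_mv', hv_comp, ← hv_comp' q e u v]
    exact h _ _

/-- determinant one goes to determinant one -/
lemma glr_mem_SL (e : κ ≃ ι) (g : GL κ F) :
    Cfsg.Geo.glReindex (F := F) e g ∈ Cfsg.Geo.specialLinear ι F ↔
      g ∈ Cfsg.Geo.specialLinear κ F := by
  change Cfsg.Geo.glReindex (F := F) e g ∈ (Matrix.GeneralLinearGroup.det : GL ι F →* Fˣ).ker ↔
    g ∈ (Matrix.GeneralLinearGroup.det : GL κ F →* Fˣ).ker
  rw [MonoidHom.mem_ker, MonoidHom.mem_ker, Cfsg.Agent.Lib.Helper15.TensLeaf.tt_det_glReindex]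

/-- unitary transvections go to unitary transvections -/
lemma glr_tvV (q : ℕ) (e : κ ≃ ι) (s : κ → F) (c : F) (hs : hv q s s = 0) :
    Cfsg.Geo.glReindex (F := F) e (tvV q s c hs) =
      tvV q (s ∘ e.symm) c (by rw [hv_comp]; exact hs) := by
  apply ext_mv
  intro w
  rw [glr_mv', mv_tvV, mv_tvV, ← hv_comp q e (w ∘ e) s]
  ext i
  simp [Function.comp_def]

end generic

/-! ### the bridge -/

section bridge
variable {t k : ℕ}

/-- `Idx t k ≃ Fin (k ^ t)` -/
noncomputable def eps0 (t k : ℕ) : Idx t k ≃ Fin (k ^ t) :=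
  Fintype.equivFinOfCardEq (by simp)

/-- splitting off position `j`: `x ↦ (x j, the other coordinates)` -/
noncomputable def eps (j : Fin (t + 1)) : Idx (t + 1) k ≃ Fin k × Fin (k ^ t) :=
  (Fin.insertNthEquiv (fun _ => Fin k) j).symm.trans (Equiv.prodCongr (Equiv.refl _) (eps0 t k))

lemma eps_apply (j : Fin (t + 1)) (x : Idx (t + 1) k) :
    eps j x = (x j, eps0 t k (fun i => x (j.succAbove i))) := rfl

lemma eps_symm_apply (j : Fin (t + 1)) (a : Fin k) (l : Fin (k ^ t)) :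
    (eps j).symm (a, l) = ins j a ((eps0 t k).symm l) := rfl

lemma eps_ins (j : Fin (t + 1)) (a : Fin k) (u : Idx t k) : eps j (ins j a u) = (a, eps0 t k u) := by
  rw [eps_apply, ins_same]
  congr 2
  funext i
  exact ins_succAbove j a u i

/-- the bridge isomorphism -/
noncomputable def br (j : Fin (t + 1)) : GL (Idx (t + 1) k) F ≃* GL (Fin k × Fin (k ^ t)) F :=
  Cfsg.Geo.glReindex (F := F) (eps j)

/-- reindexing vectors on `t + 1` positions -/
noncomputable def rv (j : Fin (t + 1)) (v : Idx (t + 1) k → F) : Fin k × Fin (k ^ t) → F := v ∘ (eps j).symm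

/-- reindexing vectors on `t` positions -/
noncomputable def rv0 (u : Idx t k → F) : Fin (k ^ t) → F := u ∘ (eps0 t k).symm

lemma rv_apply (j : Fin (t + 1)) (v : Idx (t + 1) k → F) (a : Fin k) (l : Fin (k ^ t)) :
    rv j v (a, l) = v (ins j a ((eps0 t k).symm l)) := rfl

lemma rv0_apply (u : Idx t k → F) (l : Fin (k ^ t)) : rv0 u l = u ((eps0 t k).symm l) := rfl

lemma br_mv (j : Fin (t + 1)) (g : GL (Idx (t + 1) k) F) (v : Idx (t + 1) k → F) :
    mv (br j g) (rv j v) = rv j (mv g v) := glr_mv (eps j) g v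

lemma br_symm_mv (j : Fin (t + 1)) (g : GL (Fin k × Fin (k ^ t)) F) (v : Idx (t + 1) k → F) :
    rv j (mv ((br (F := F) j).symm g) v) = mv g (rv j v) := by
  rw [← br_mv, MulEquiv.apply_symm_apply]

lemma rv_injective (j : Fin (t + 1)) : Function.Injective (rv (F := F) (k := k) j) := by
  intro v w h
  funext x
  have := congrFun h (eps j x)
  simpa [rv] using this

lemma rv_surjective (j : Fin (t + 1)) (w : Fin k × Fin (k ^ t) → F) : ∃ v, rv (F := F) (k := k) j v = w :=
  ⟨w ∘ eps j, by ext p; simp [rv]⟩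

lemma rv0_injective : Function.Injective (rv0 (F := F) (t := t) (k := k)) := by
  intro v w h
  funext x
  have := congrFun h (eps0 t k x)
  simpa [rv0] using this

lemma rv0_surjective (w : Fin (k ^ t) → F) : ∃ u, rv0 (F := F) (t := t) (k := k) u = w :=
  ⟨w ∘ eps0 t k, by ext p; simp [rv0]⟩

lemma rv_add (j : Fin (t + 1)) (v w : Idx (t + 1) k → F) : rv j (v + w) = rv j v + rv j w := rfl
lemma rv_smul (j : Fin (t + 1)) (c : F) (v : Idx (t + 1) k → F) : rv j (c • v) = c • rv j v := rfl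
lemma rv0_add (v w : Idx t k → F) : rv0 (v + w) = rv0 v + rv0 w := rfl
lemma rv0_smul (c : F) (v : Idx t k → F) : rv0 (c • v) = c • rv0 v := rfl

lemma hv_rv (q : ℕ) (j : Fin (t + 1)) (v w : Idx (t + 1) k → F) : hv q (rv j v) (rv j w) = hv q v w :=
  hv_comp q (eps j) v w

lemma hv_rv0 (q : ℕ) (v w : Idx t k → F) : hv q (rv0 v) (rv0 w) = hv q v w :=
  hv_comp q (eps0 t k) v w

lemma rv0_eq_zero_iff (u : Idx t k → F) : rv0 u = 0 ↔ u = 0 := by
  constructor
  · intro h
    apply rv0_injective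
    rw [h]; rfl
  · rintro rfl; rfl

/-- DICTIONARY: pure splitting -/
lemma rv_tens (j : Fin (t + 1)) (y : Idx t k → F) (x : Fin k → F) :
    rv j (tens j y x) = pt x (rv0 y) := by
  ext ⟨a, l⟩
  rw [rv_apply]
  unfold tens pt
  simp only [ins_same, ins_succAbove, rv0_apply]
  exact mul_comm _ _

/-- DICTIONARY: `slot j α ↦ α ⊗ 1` -/
lemma br_slotGL (j : Fin (t + 1)) (α : GL (Fin k) F) :
    br j (slotGL j α) = kel α (1 : GL (Fin (k ^ t)) F) := by
  apply Units.ext
  ext ⟨a, l⟩ ⟨a', l'⟩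
  rw [kel_val]
  change ((slotGL j α : GL (Idx (t + 1) k) F) : Matrix _ _ F) ((eps j).symm (a, l)) ((eps j).symm (a', l')) = _
  rw [slotGL_val, slot_apply, eps_symm_apply, eps_symm_apply, ins_same, ins_same,
    Matrix.kroneckerMap_apply, Units.val_one, Matrix.one_apply]
  by_cases hl : l = l'
  · subst hl
    rw [if_pos rfl, mul_one, if_pos]
    intro i hi
    obtain ⟨i', rfl⟩ := Fin.exists_succAbove_eq hi
    rw [ins_succAbove, ins_succAbove]
  · rw [if_neg hl, mul_zero, if_neg]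
    intro h
    apply hl
    apply (eps0 t k).symm.injective
    funext i
    have := h (j.succAbove i) (Fin.succAbove_ne j i)
    rwa [ins_succAbove, ins_succAbove] at this

/-- DICTIONARY: `ext j γ ↦ 1 ⊗ γ` -/
lemma br_extGL (j : Fin (t + 1)) (γ : GL (Idx t k) F) :
    br j (extGL j γ) = kel (1 : GL (Fin k) F) (Cfsg.Geo.glReindex (F := F) (eps0 t k) γ) := by
  apply Units.ext
  ext ⟨a, l⟩ ⟨a', l'⟩
  rw [kel_val]
  change ((extGL j γ : GL (Idx (t + 1) k) F) : Matrix _ _ F) ((eps j).symm (a, l)) ((eps j).symm (a', l')) = _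
  rw [extGL_val, eps_symm_apply, eps_symm_apply, Matrix.kroneckerMap_apply, Units.val_one, Matrix.one_apply,
    glr_apply]
  unfold Cfsg.Agent.Lib.Helper8.TW.ext
  simp only [ins_same, ins_succAbove]
  by_cases ha : a = a'
  · rw [if_pos ha, if_pos ha, one_mul]
  · rw [if_neg ha, if_neg ha, zero_mul]

/-- DICTIONARY: `SU(V) ↦ GS` -/
lemma br_mem_GS (q : ℕ) (j : Fin (t + 1)) (g : GL (Idx (t + 1) k) F) :
    br j g ∈ GS k (k ^ t) q F ↔ g ∈ SUV (t + 1) k q F := by
  unfold GS SUV GUI GUV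
  rw [Subgroup.mem_inf, Subgroup.mem_inf]
  exact and_congr (glr_mem_pres q (eps j) g) (glr_mem_SL (eps j) g)

lemma map_br_SUV (q : ℕ) (j : Fin (t + 1)) :
    (SUV (t + 1) k q F).map (br (F := F) j).toMonoidHom = GS k (k ^ t) q F := by
  ext x
  rw [Subgroup.mem_map]
  constructor
  · rintro ⟨g, hg, rfl⟩
    exact (br_mem_GS q j g).mpr hg
  · intro hx
    refine ⟨(br (F := F) j).symm x, ?_, by simp⟩
    rw [← br_mem_GS q j, MulEquiv.apply_symm_apply]
    exact hx

/-- DICTIONARY: unitary transvections -/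
lemma br_tvV (q : ℕ) (j : Fin (t + 1)) (s : Idx (t + 1) k → F) (c : F) (hs : hv q s s = 0) :
    br j (tvV q s c hs) = tvV q (rv j s) c (by rw [hv_rv]; exact hs) :=
  glr_tvV q (eps j) s c hs

lemma glr0_tvV (q : ℕ) (y : Idx t k → F) (c : F) (hy : hv q y y = 0) :
    Cfsg.Geo.glReindex (F := F) (eps0 t k) (tvV q y c hy) = tvV q (rv0 y) c (by rw [hv_rv0]; exact hy) :=
  glr_tvV q (eps0 t k) y c hy

end bridge

end Cfsg.Agent.Lib.Helper26.TWUBr
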