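import Mathlib
import Cfsg.Agent.Lib.Helper26.TWUBr
import Cfsg.Agent.Lib.Helper12.UTW2Main
import Cfsg.Agent.Lib.Helper19.TWU3Defs

set_option autoImplicit false
set_option linter.unusedSectionVars false
set_option linter.unusedVariables false

/-!
# S5672 Stage III, leaf A17 / III-B `bridge_end`: THE BRIDGE to S5670 part (G) (`Helper12.UTW2.stageIII_weak`)

`X ≤ SU(V)` on `t + 1` positions containing the unitary transvections `slot j (1 + c x x†)`, `ext j (1 + c y y†)` and one full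
root group with pure centre `y₀ ⊗ x₀` contains `SU(V)`: transport along `br j` (`Helper26.TWUBr`) to `Fin k × Fin (k^t)`.
-/

namespace Cfsg.Agent.Lib.Helper26.TWUBr
open Matrix
open Cfsg.Agent.Lib.Helper12.UTW2 (WCtx stageIII_weak)
open Cfsg.Agent.Lib.Helper8.TW (Idx ins ins_same ins_succAbove ins_rem extGL extGL_val tens slotGL slotGL_val SLV InM)
open Cfsg.Agent.Lib.Helper18.AschA89 (slot slot_apply)
open Cfsg.Agent.Lib.Helper25.Tens (pt kel kel_val SLG mem_SLG_iff tv tv_val)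
open Cfsg.Agent.Lib.Helper20.UT (hv cj mv GUI GS mem_GUI tvU kA kB ext_mv SsetI hv_pt)
open Cfsg.Agent.Lib.Helper5.UTG (tvV mv_tvV T1U')
open Cfsg.Agent.Lib.Helper5.TWU (GUV SUV mem_GUV dag)
open scoped Kronecker

variable {F : Type*} [Field F]

section
variable [Fintype F] {t k q : ℕ}

lemma tvU_eq_tvV {n : ℕ} (y : Fin n → F) (c : F) (hy : hv q y y = 0) : tvU q y c hy = tvV q y c hy := by
  apply Units.ext
  change 1 + Matrix.vecMulVec y (c • cj q y) = 1 + c • Matrix.vecMulVec y (cj q y)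
  rw [Matrix.vecMulVec_smul]

lemma pow_bounds (hk : 3 ≤ k) (ht : 1 ≤ t) : 3 ≤ k ^ t ∧ (4 ≤ k → 4 ≤ k ^ t) := by
  have h1 : k ^ 1 ≤ k ^ t := Nat.pow_le_pow_right (by omega) ht
  rw [pow_one] at h1
  exact ⟨by omega, fun h => by omega⟩

/-- the context of the image of `X` under the bridge -/
theorem wctx_map (hF : Fintype.card F = q ^ 2) (hk : 3 ≤ k) (hex : ¬ (q = 2 ∧ k = 3)) (ht : 1 ≤ t) (j : Fin (t + 1))
    (X : Subgroup (GL (Idx (t + 1) k) F)) (hXS : X ≤ SUV (t + 1) k q F)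
    (hA : ∀ (x : Fin k → F) (c : F), hv q x x = 0 → c ^ q = -c →
      InM X (slot k (t + 1) j (1 + c • Matrix.vecMulVec x (dag q x))))
    (hB : ∀ (y : Idx t k → F) (c : F), hv q y y = 0 → c ^ q = -c →
      InM X (Cfsg.Agent.Lib.Helper8.TW.ext j (1 + c • Matrix.vecMulVec y (dag q y)))) :
    WCtx k (k ^ t) q (X.map (br (F := F) j).toMonoidHom) := by
  obtain ⟨hb3, hb4⟩ := pow_bounds (k := k) (t := t) hk ht
  have hq2 : 2 ≤ q := by
    have h1 : 2 ≤ Fintype.card F := Fintype.one_lt_card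
    rw [hF] at h1
    by_contra h
    have h2 : q ≤ 1 := by omega
    have h3 : q ^ 2 ≤ 1 ^ 2 := Nat.pow_le_pow_left h2 2
    omega
  refine ⟨hF, by omega, hb3, ?_, ?_, by omega, ?_, ?_, ?_⟩
  · by_cases h4 : 4 ≤ k
    · exact Or.inr (hb4 h4)
    · left
      by_contra hq
      exact hex ⟨by omega, by omega⟩
  · calc 8 ≤ 3 * 3 := by norm_num
      _ ≤ k * k ^ t := Nat.mul_le_mul hk hb3
  · rintro _ ⟨g, hg, rfl⟩
    exact (br_mem_GS q j g).mpr (hXS hg)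
  · intro x c hx hc
    obtain ⟨g, hg, hgv⟩ := hA x c hx hc
    refine ⟨g, hg, ?_⟩
    have hg' : g = slotGL j (tvV q x c hx) := Units.ext (by rw [hgv]; rfl)
    change br j g = kel (tvU q x c hx) 1
    rw [hg', br_slotGL, tvU_eq_tvV]
  · intro y c hy hc
    obtain ⟨y', rfl⟩ := rv0_surjective (t := t) (k := k) y
    have hy' : hv q y' y' = 0 := by rw [← hv_rv0]; exact hy
    obtain ⟨g, hg, hgv⟩ := hB y' c hy' hc
    refine ⟨g, hg, ?_⟩
    have hg' : g = extGL j (tvV q y' c hy') := Units.ext (by rw [hgv]; rfl)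
    change br j g = kel 1 (tvU q (rv0 y') c hy)
    rw [hg', br_extGL, glr0_tvV, tvU_eq_tvV]

/-- the Stage II output in the image -/
theorem t1u_map (hF : Fintype.card F = q ^ 2) (j : Fin (t + 1))
    (X : Subgroup (GL (Idx (t + 1) k) F))
    (x₀ : Fin k → F) (y₀ : Idx t k → F) (hx₀ : x₀ ≠ 0) (hy₀ : y₀ ≠ 0) (hx₀i : hv q x₀ x₀ = 0)
    (hy₀i : hv q y₀ y₀ = 0)
    (hT : ∀ c : F, c ^ q = -c →
      InM X (1 + c • Matrix.vecMulVec (tens j y₀ x₀) (dag q (tens j y₀ x₀)))) :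
    T1U' q (X.map (br (F := F) j).toMonoidHom) := by
  refine ⟨x₀, rv0 y₀, hx₀, fun h => hy₀ ((rv0_eq_zero_iff y₀).mp h), hx₀i, by rw [hv_rv0]; exact hy₀i, ?_⟩
  intro c hc g hg
  have hs : hv q (tens j y₀ x₀) (tens j y₀ x₀) = 0 := by
    rw [← hv_rv q j, rv_tens, hv_pt, hx₀i, zero_mul]
  obtain ⟨g₀, hg₀, hgv⟩ := hT c hc
  have hg₀' : g₀ = tvV q (tens j y₀ x₀) c hs := Units.ext (by rw [hgv]; rfl)
  refine ⟨g₀, hg₀, ?_⟩
  change br j g₀ = g
  rw [hg₀', br_tvV]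
  apply ext_mv
  intro v
  rw [mv_tvV, hg, rv_tens]

end

end Cfsg.Agent.Lib.Helper26.TWUBr

namespace Cfsg.Agent.Lib.Helper26.TWU3Leaf
open Matrix Cfsg.Geo Cfsg.Agent.Lib.Helper18.AschA89 Cfsg.Agent.Lib.Helper20.AschLeaf Cfsg.Agent.Lib.Helper8.TW
open Cfsg.Agent.Lib.Helper5.TWU Cfsg.Agent.Lib.Helper19.TWU3
open Cfsg.Agent.Lib.Helper20.UT (hv)
open Cfsg.Agent.Lib.Helper26.TWUBr

variable {F : Type*} [Field F] [Fintype F] {t k q : ℕ}

/-- A17 (helper19's Stage III market) THE BRIDGE to S5670 part (G) (`Helper12.UTW2.stageIII_weak`) -/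
theorem bridge_end (hF : Fintype.card F = q ^ 2) (hk : 3 ≤ k) (hex : ¬ (q = 2 ∧ k = 3)) (t : ℕ) (ht : 1 ≤ t)
    (j : Fin (t + 1)) (X : Subgroup (GL (Idx (t + 1) k) F)) (hXS : X ≤ SUV (t + 1) k q F)
    (hA : ∀ (x : Fin k → F) (c : F), hv q x x = 0 → c ^ q = -c → InM X (slot k (t + 1) j (1 + c • vv q x x)))
    (hB : ∀ (y : Idx t k → F) (c : F), hv q y y = 0 → c ^ q = -c → InM X (ext j (1 + c • vv q y y)))
    (x₀ : Fin k → F) (y₀ : Idx t k → F) (hx₀ : x₀ ≠ 0) (hy₀ : y₀ ≠ 0) (hx₀i : hv q x₀ x₀ = 0)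
    (hy₀i : hv q y₀ y₀ = 0) (hT : RG q X (tens j y₀ x₀)) : SUV (t + 1) k q F ≤ X := by
  have hW := wctx_map hF hk hex ht j X hXS hA hB
  have hT' := t1u_map hF j X x₀ y₀ hx₀ hy₀ hx₀i hy₀i hT
  have hle := Cfsg.Agent.Lib.Helper12.UTW2.stageIII_weak hW hT'
  intro g hg
  obtain ⟨g', hg', h⟩ := hle ((br_mem_GS q j g).mpr hg)
  have h1 : g' = g := (br (F := F) j).injective h
  rw [← h1]
  exact hg'

end Cfsg.Agent.Lib.Helper26.TWU3Leaf
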