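import Mathlib
import Cfsg.Agent.Lib.Helper5.TWU.Defs
import Cfsg.Agent.Lib.Helper16.TWImg
import Cfsg.Agent.Lib.Helper26.TWFibA
import Cfsg.Agent.Lib.Helper26.TWFibB
import Cfsg.Agent.Lib.Helper22.TWExtBasic
import Cfsg.Agent.Lib.Helper22.TWExtMore
import Cfsg.Agent.Lib.Helper23.TWUT
import Cfsg.Agent.Lib.Helper23.TWUT2
import Cfsg.Agent.Lib.Helper23.TWUIUT1
import Cfsg.Agent.Lib.Helper28.TWI6fg

/-!
# S5672 Stage I, packet (I7): the PLANE CONFIGURATION, common part (pure linear algebra)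

`V = B ⊗ A` split at position `i` (`B = F^(Idx t k)`, `A = F^k`), `Y = ⟨y₁, y₂⟩` a totally isotropic plane of `A`, `Π = fib i Y`,
`H = ext i γ * slot i α = γ ⊗ α` an isometry with `α y₁ = s y₂`, `(H - 1) V ≤ Π + W'`, `H = 1` on `Π ∩ C'`, where `W'`, `C'` are in
the FR world.  Consequences: `γ`, `α` are similitudes with inverse multipliers, `α y₂ = c₁ y₁ + c₂ y₂` with `c₁ ≠ 0`.
-/

set_option autoImplicit false
set_option linter.unusedSectionVars false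
set_option linter.unusedVariables false

namespace Cfsg.Agent.Lib.Helper26.TWUPlane
open Matrix Cfsg.Geo Cfsg.Agent.Lib.Helper18.AschA89 Cfsg.Agent.Lib.Helper8.TW Cfsg.Agent.Lib.Helper5.TWU
open Cfsg.Agent.Lib.Helper20.UT (hv hv_add_left hv_add_right hv_smul_left hv_smul_right hv_symm_zero hv_eq_dot hv_conj
  hv_sub_left hv_sub_right hv_zero_left hv_zero_right hv_self_pow)
open Cfsg.Agent.Lib.Helper22.TWLeaf

variable {F : Type*} [Field F] [Fintype F] {t k q : ℕ}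

/-- the plane `⟨y₁, y₂⟩` -/
abbrev Ypl (y₁ y₂ : Fin k → F) : Submodule F (Fin k → F) := Submodule.span F {y₁, y₂}

/-- the matrix `γ ⊗ α` (split at `i`) -/
abbrev Hm (i : Fin (t + 1)) (γ : GL (Idx t k) F) (α : GL (Fin k) F) : Matrix (Idx (t + 1) k) (Idx (t + 1) k) F :=
  Cfsg.Agent.Lib.Helper8.TW.ext i (γ : Matrix (Idx t k) (Idx t k) F) * slot k (t + 1) i (α : Matrix (Fin k) (Fin k) F)

/-- the plane configuration -/
structure PlaneCfg (q : ℕ) (i : Fin (t + 1)) (y₁ y₂ : Fin k → F) (W' C' : Submodule F (Idx (t + 1) k → F))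
    (γ : GL (Idx t k) F) (α : GL (Fin k) F) (s : F) : Prop where
  hF : Fintype.card F = q ^ 2
  hk : 1 ≤ k
  h10 : y₁ ≠ 0
  h1 : hv q y₁ y₁ = 0
  h20 : y₂ ≠ 0
  h2 : hv q y₂ y₂ = 0
  h12 : hv q y₁ y₂ = 0
  hind : ¬ ∃ a : F, y₂ = a • y₁
  fr1 : ∀ y : Fin k → F, y ≠ 0 → hv q y y = 0 → W' ⊓ Cf i (dag q y) = ⊥
  fr2 : ∀ y : Fin k → F, y ≠ 0 → hv q y y = 0 → Wf i y ⊓ C' = ⊥
  hiso : ∀ u v, hv q (Hm i γ α *ᵥ u) (Hm i γ α *ᵥ v) = hv q u v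
  hαy : (α : Matrix (Fin k) (Fin k) F) *ᵥ y₁ = s • y₂
  hU : ∀ v, Hm i γ α *ᵥ v - v ∈ fib i (Ypl y₁ y₂) ⊔ W'
  hE : ∀ v ∈ fib i (Ypl y₁ y₂) ⊓ C', Hm i γ α *ᵥ v = v

section basic

lemma tens_mem_fib26 (i : Fin (t + 1)) (S : Submodule F (Fin k → F)) (b : Idx t k → F) (a : Fin k → F) (ha : a ∈ S) :
    tens i b a ∈ fib i S := by
  rw [mem_fib_iff_ctr]
  intro ξ hξ
  rw [ctr_tens, hξ a ha, zero_smul]

lemma Hm_tens (i : Fin (t + 1)) (γ : GL (Idx t k) F) (α : GL (Fin k) F) (b : Idx t k → F) (a : Fin k → F) :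
    Hm i γ α *ᵥ tens i b a =
      tens i ((γ : Matrix (Idx t k) (Idx t k) F) *ᵥ b) ((α : Matrix (Fin k) (Fin k) F) *ᵥ a) := by
  unfold Hm
  rw [← Matrix.mulVec_mulVec, slot_mulVec_tens, ext_mulVec_tens]

lemma gl_mulVec_inv26 {ι : Type} [Fintype ι] [DecidableEq ι] (m : GL ι F) (v : ι → F) :
    (m : Matrix ι ι F) *ᵥ (((m⁻¹ : GL ι F) : Matrix ι ι F) *ᵥ v) = v := by
  rw [Matrix.mulVec_mulVec, ← Units.val_mul, mul_inv_cancel, Units.val_one, Matrix.one_mulVec]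

lemma gl_inv_mulVec26 {ι : Type} [Fintype ι] [DecidableEq ι] (m : GL ι F) (v : ι → F) :
    ((m⁻¹ : GL ι F) : Matrix ι ι F) *ᵥ ((m : Matrix ι ι F) *ᵥ v) = v := by
  rw [Matrix.mulVec_mulVec, ← Units.val_mul, inv_mul_cancel, Units.val_one, Matrix.one_mulVec]

lemma gl_mulVec_eq_zero26 {ι : Type} [Fintype ι] [DecidableEq ι] (m : GL ι F) {v : ι → F}
    (h : (m : Matrix ι ι F) *ᵥ v = 0) : v = 0 := by
  have := gl_inv_mulVec26 m v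
  rw [h, Matrix.mulVec_zero] at this
  exact this.symm

lemma q_ne_zero26 (hF : Fintype.card F = q ^ 2) : q ≠ 0 := Cfsg.Agent.Lib.Helper23.TWUT.q_ne_zero hF

lemma hv_single_self26 {κ : Type} [Fintype κ] [DecidableEq κ] (hq : q ≠ 0) (a : κ) :
    hv q (Pi.single a (1 : F)) (Pi.single a (1 : F)) = 1 := by
  rw [Cfsg.Agent.Lib.Helper23.TWUT.hv_single_right hq, Pi.single_eq_same]

/-- modular law in the shape we need -/
lemma sup_inf_eq_left26 {M : Type*} [AddCommGroup M] [Module F M] {P W C : Submodule F M} (hP : P ≤ C)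
    (hW : W ⊓ C = ⊥) : (P ⊔ W) ⊓ C = P := by
  rw [sup_inf_assoc_of_le W hP, hW, sup_bot_eq]

lemma tens_eq_zero_left26 (i : Fin (t + 1)) {b : Idx t k → F} {a : Fin k → F} (h : tens i b a = 0) (ha : a ≠ 0) :
    b = 0 := by
  obtain ⟨c, hc⟩ : ∃ c, a c ≠ 0 := by
    by_contra hcon
    push Not at hcon
    exact ha (funext hcon)
  funext u
  have := congrFun h (ins i c u)
  simp only [tens, ins_same, ins_comp, Pi.zero_apply] at this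
  rcases mul_eq_zero.mp this with h' | h'
  · exact h'
  · exact absurd h' hc

/-- the two members of the plane and the plane -/
lemma y₁_mem26 (y₁ y₂ : Fin k → F) : y₁ ∈ Ypl y₁ y₂ := Submodule.subset_span (by simp)
lemma y₂_mem26 (y₁ y₂ : Fin k → F) : y₂ ∈ Ypl y₁ y₂ := Submodule.subset_span (by simp)

lemma mem_Ypl26 {y₁ y₂ a : Fin k → F} : a ∈ Ypl y₁ y₂ ↔ ∃ c₁ c₂ : F, c₁ • y₁ + c₂ • y₂ = a :=
  Submodule.mem_span_pair

end basic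

namespace PlaneCfg
variable {i : Fin (t + 1)} {y₁ y₂ : Fin k → F} {W' C' : Submodule F (Idx (t + 1) k → F)}
  {γ : GL (Idx t k) F} {α : GL (Fin k) F} {s : F}

lemma hq (P : PlaneCfg q i y₁ y₂ W' C' γ α s) : q ≠ 0 := q_ne_zero26 P.hF

lemma h21 (P : PlaneCfg q i y₁ y₂ W' C' γ α s) : hv q y₂ y₁ = 0 := hv_symm_zero P.hF P.h12

lemma hs (P : PlaneCfg q i y₁ y₂ W' C' γ α s) : s ≠ 0 := by
  rintro rfl
  have h := P.hαy
  rw [zero_smul] at h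
  exact P.h10 (gl_mulVec_eq_zero26 α h)

/-- the plane is totally isotropic -/
lemma hvY (P : PlaneCfg q i y₁ y₂ W' C' γ α s) {a a' : Fin k → F} (ha : a ∈ Ypl y₁ y₂) (ha' : a' ∈ Ypl y₁ y₂) :
    hv q a a' = 0 := by
  obtain ⟨c₁, c₂, rfl⟩ := mem_Ypl26.mp ha
  obtain ⟨d₁, d₂, rfl⟩ := mem_Ypl26.mp ha'
  rw [hv_add_left, hv_add_right P.hF, hv_add_right P.hF, hv_smul_left, hv_smul_left, hv_smul_left, hv_smul_left,
    hv_smul_right, hv_smul_right, hv_smul_right, hv_smul_right, P.h1, P.h2, P.h12, P.h21]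
  ring

/-- every non-zero vector of the plane is isotropic, so FR applies -/
lemma fr2Y (P : PlaneCfg q i y₁ y₂ W' C' γ α s) {y : Fin k → F} (hy : y ∈ Ypl y₁ y₂) (hy0 : y ≠ 0) :
    Wf i y ⊓ C' = ⊥ := P.fr2 y hy0 (P.hvY hy hy)

/-- `Y ≤ y^⊥` for `y ∈ Y` -/
lemma Y_le_kerF (P : PlaneCfg q i y₁ y₂ W' C' γ α s) {y : Fin k → F} (hy : y ∈ Ypl y₁ y₂) :
    Ypl y₁ y₂ ≤ kerF (dag q y) := by
  intro a ha
  change dag q y ⬝ᵥ a = 0
  rw [← hv_eq_dot]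
  exact P.hvY ha hy

lemma Pi_le_Cf (P : PlaneCfg q i y₁ y₂ W' C' γ α s) {y : Fin k → F} (hy : y ∈ Ypl y₁ y₂) :
    fib i (Ypl y₁ y₂) ≤ Cf i (dag q y) :=
  Cfsg.Agent.Lib.Helper26.TWLeaf.fib_mono i (P.Y_le_kerF hy)

/-- `U_Y ∩ C(i,y) = Π` for isotropic `y ∈ Y` -/
lemma U_inf_Cf (P : PlaneCfg q i y₁ y₂ W' C' γ α s) {y : Fin k → F} (hy : y ∈ Ypl y₁ y₂) (hy0 : y ≠ 0) :
    (fib i (Ypl y₁ y₂) ⊔ W') ⊓ Cf i (dag q y) = fib i (Ypl y₁ y₂) :=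
  sup_inf_eq_left26 (P.Pi_le_Cf hy) (P.fr1 y hy0 (P.hvY hy hy))

/-- `H v ∈ U_Y` for `v ∈ U_Y` -/
lemma H_mem_U (P : PlaneCfg q i y₁ y₂ W' C' γ α s) {v : Idx (t + 1) k → F} (hv' : v ∈ fib i (Ypl y₁ y₂) ⊔ W') :
    Hm i γ α *ᵥ v ∈ fib i (Ypl y₁ y₂) ⊔ W' := by
  have h := Submodule.add_mem _ (P.hU v) hv'
  rwa [sub_add_cancel] at h

/-- the multipliers -/
theorem exists_mult (P : PlaneCfg q i y₁ y₂ W' C' γ α s) :
    ∃ μ ν : F, μ * ν = 1 ∧ μ ^ q = μ ∧ ν ^ q = ν ∧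
      (∀ a a' : Fin k → F, hv q ((α : Matrix (Fin k) (Fin k) F) *ᵥ a) ((α : Matrix (Fin k) (Fin k) F) *ᵥ a') =
        μ * hv q a a') ∧
      (∀ b b' : Idx t k → F, hv q ((γ : Matrix (Idx t k) (Idx t k) F) *ᵥ b)
        ((γ : Matrix (Idx t k) (Idx t k) F) *ᵥ b') = ν * hv q b b') := by
  have hq := P.hq
  have key : ∀ (b b' : Idx t k → F) (a a' : Fin k → F),
      hv q ((γ : Matrix (Idx t k) (Idx t k) F) *ᵥ b) ((γ : Matrix (Idx t k) (Idx t k) F) *ᵥ b') *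
        hv q ((α : Matrix (Fin k) (Fin k) F) *ᵥ a) ((α : Matrix (Fin k) (Fin k) F) *ᵥ a') =
      hv q b b' * hv q a a' := by
    intro b b' a a'
    have h := P.hiso (tens i b a) (tens i b' a')
    rw [Hm_tens, Hm_tens, Cfsg.Agent.Lib.Helper23.TWULeaf.hv_tens, Cfsg.Agent.Lib.Helper23.TWULeaf.hv_tens] at h
    exact h
  let u₀ : Idx t k := fun _ => ⟨0, P.hk⟩
  let a₀ : Fin k := ⟨0, P.hk⟩
  set e₀ : Idx t k → F := Pi.single u₀ 1 with he₀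
  set e₁ : Fin k → F := Pi.single a₀ 1 with he₁
  set ν : F := hv q ((γ : Matrix (Idx t k) (Idx t k) F) *ᵥ e₀) ((γ : Matrix (Idx t k) (Idx t k) F) *ᵥ e₀) with hν
  set μ : F := hv q ((α : Matrix (Fin k) (Fin k) F) *ᵥ e₁) ((α : Matrix (Fin k) (Fin k) F) *ᵥ e₁) with hμ
  have h1 : ν * μ = 1 := by
    have := key e₀ e₀ e₁ e₁
    rw [hv_single_self26 hq, hv_single_self26 hq, one_mul] at this
    exact this
  refine ⟨μ, ν, by rw [mul_comm]; exact h1, hv_self_pow P.hF _, hv_self_pow P.hF _, ?_, ?_⟩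
  · intro a a'
    have := key e₀ e₀ a a'
    rw [hv_single_self26 hq, one_mul] at this
    calc hv q ((α : Matrix (Fin k) (Fin k) F) *ᵥ a) ((α : Matrix (Fin k) (Fin k) F) *ᵥ a')
        = μ * (ν * hv q ((α : Matrix (Fin k) (Fin k) F) *ᵥ a) ((α : Matrix (Fin k) (Fin k) F) *ᵥ a')) := by
          rw [← mul_assoc, mul_comm μ ν, h1, one_mul]
      _ = μ * hv q a a' := by rw [this]
  · intro b b'
    have := key b b' e₁ e₁
    rw [hv_single_self26 hq, mul_one] at this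
    calc hv q ((γ : Matrix (Idx t k) (Idx t k) F) *ᵥ b) ((γ : Matrix (Idx t k) (Idx t k) F) *ᵥ b')
        = (hv q ((γ : Matrix (Idx t k) (Idx t k) F) *ᵥ b) ((γ : Matrix (Idx t k) (Idx t k) F) *ᵥ b') * μ) * ν := by
          rw [mul_assoc, mul_comm μ ν, h1, mul_one]
      _ = ν * hv q b b' := by rw [this, mul_comm]

/-- `α y₂ ∈ Y` -/
theorem alpha_y₂_mem (P : PlaneCfg q i y₁ y₂ W' C' γ α s) :
    (α : Matrix (Fin k) (Fin k) F) *ᵥ y₂ ∈ Ypl y₁ y₂ := by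
  obtain ⟨μ, ν, hμν, hμq, hνq, hα, hγ⟩ := P.exists_mult
  have hq := P.hq
  -- `hv (α y₂) y₂ = 0`
  have h0 : hv q ((α : Matrix (Fin k) (Fin k) F) *ᵥ y₂) y₂ = 0 := by
    have h := hα y₂ y₁
    rw [P.h21, mul_zero, P.hαy, hv_smul_right] at h
    rcases mul_eq_zero.mp h with h' | h'
    · exact absurd (pow_eq_zero_iff hq |>.mp h') P.hs
    · exact h'
  -- a `b` with `γ b = e₀`
  let u₀ : Idx t k := fun _ => ⟨0, P.hk⟩
  set e₀ : Idx t k → F := Pi.single u₀ 1 with he₀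
  have he₀0 : e₀ ≠ 0 := by
    intro h
    have := congrFun h u₀
    simp [e₀] at this
  set b : Idx t k → F := ((γ⁻¹ : GL (Idx t k) F) : Matrix (Idx t k) (Idx t k) F) *ᵥ e₀ with hb
  have hγb : (γ : Matrix (Idx t k) (Idx t k) F) *ᵥ b = e₀ := gl_mulVec_inv26 γ e₀
  have hvP : tens i b y₂ ∈ fib i (Ypl y₁ y₂) := tens_mem_fib26 i _ b y₂ (y₂_mem26 y₁ y₂)
  have hH : Hm i γ α *ᵥ tens i b y₂ = tens i e₀ ((α : Matrix (Fin k) (Fin k) F) *ᵥ y₂) := by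
    rw [Hm_tens, hγb]
  have hmem : tens i e₀ ((α : Matrix (Fin k) (Fin k) F) *ᵥ y₂) ∈
      (fib i (Ypl y₁ y₂) ⊔ W') ⊓ Cf i (dag q y₂) := by
    refine ⟨?_, ?_⟩
    · rw [← hH]
      exact P.H_mem_U (Submodule.mem_sup_left hvP)
    · rw [SetLike.mem_coe, mem_Cf_iff_ctr, ctr_tens, ← hv_eq_dot, h0, zero_smul]
  rw [P.U_inf_Cf (y₂_mem26 y₁ y₂) P.h20, mem_fib_iff_ctr] at hmem
  apply mem_of_forall_dotProduct
  intro ξ hξ
  have h := hmem ξ hξ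
  rw [ctr_tens] at h
  rcases smul_eq_zero.mp h with h' | h'
  · exact h'
  · exact absurd h' he₀0

/-- `α y₂ = c₁ y₁ + c₂ y₂` with `c₁ ≠ 0` -/
theorem exists_coeff (P : PlaneCfg q i y₁ y₂ W' C' γ α s) :
    ∃ c₁ c₂ : F, c₁ ≠ 0 ∧ (α : Matrix (Fin k) (Fin k) F) *ᵥ y₂ = c₁ • y₁ + c₂ • y₂ := by
  obtain ⟨c₁, c₂, h⟩ := mem_Ypl26.mp P.alpha_y₂_mem
  refine ⟨c₁, c₂, ?_, h.symm⟩
  rintro rfl
  rw [zero_smul, zero_add] at h
  apply P.hind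
  refine ⟨c₂ * s⁻¹, ?_⟩
  rw [← sub_eq_zero]
  apply gl_mulVec_eq_zero26 α
  rw [Matrix.mulVec_sub, Matrix.mulVec_smul, P.hαy, ← h, smul_smul, mul_assoc, inv_mul_cancel₀ P.hs, mul_one, sub_self]

end PlaneCfg

end Cfsg.Agent.Lib.Helper26.TWUPlane
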