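import Mathlib
import Cfsg.Agent.Lib.Helper26.TWUIPlaneCore
import Cfsg.Agent.Lib.Helper1.TWUIUT8

/-!
# S5672 Stage I, packet (I7): PLANE ARGUMENT A (`k ≥ 5`), the linear-algebra core
-/

set_option autoImplicit false
set_option linter.unusedSectionVars false
set_option linter.unusedVariables false

namespace Cfsg.Agent.Lib.Helper26.TWUPlane
open Matrix Cfsg.Geo Cfsg.Agent.Lib.Helper18.AschA89 Cfsg.Agent.Lib.Helper8.TW Cfsg.Agent.Lib.Helper5.TWU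
open Cfsg.Agent.Lib.Helper20.UT (hv hv_add_left hv_add_right hv_smul_left hv_smul_right hv_symm_zero hv_eq_dot hv_conj
  hv_sub_left hv_sub_right hv_zero_left hv_zero_right hv_self_pow)
open Cfsg.Agent.Lib.Helper22.TWLeaf

variable {F : Type*} [Field F] [Fintype F] {t k q : ℕ}

section tens
lemma tens_sub_right26 (i : Fin (t + 1)) (b : Idx t k → F) (a a' : Fin k → F) :
    tens i b (a - a') = tens i b a - tens i b a' := by
  funext x
  simp only [tens, Pi.sub_apply]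
  ring

lemma tens_smul_right26 (i : Fin (t + 1)) (b : Idx t k → F) (c : F) (a : Fin k → F) :
    tens i b (c • a) = c • tens i b a := by
  funext x
  simp only [tens, Pi.smul_apply, smul_eq_mul]
  ring

lemma tens_smul_left26 (i : Fin (t + 1)) (c : F) (b : Idx t k → F) (a : Fin k → F) :
    tens i (c • b) a = c • tens i b a := by
  funext x
  simp only [tens, Pi.smul_apply, smul_eq_mul]
  ring

lemma tens_add_right26 (i : Fin (t + 1)) (b : Idx t k → F) (a a' : Fin k → F) :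
    tens i b (a + a') = tens i b a + tens i b a' := by
  funext x
  simp only [tens, Pi.add_apply]
  ring

lemma tens_add_left26 (i : Fin (t + 1)) (b b' : Idx t k → F) (a : Fin k → F) :
    tens i (b + b') a = tens i b a + tens i b' a := by
  funext x
  simp only [tens, Pi.add_apply]
  ring
end tens

/-- a functional killing `S` with value `1` at `a ∉ S` -/
lemma exists_dual26 (S : Submodule F (Fin k → F)) (a : Fin k → F) (ha : a ∉ S) :
    ∃ ξ : Fin k → F, (∀ s ∈ S, ξ ⬝ᵥ s = 0) ∧ ξ ⬝ᵥ a = 1 := by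
  have h : ¬ ∀ ξ : Fin k → F, (∀ s ∈ S, ξ ⬝ᵥ s = 0) → ξ ⬝ᵥ a = 0 := fun h => ha (mem_of_forall_dotProduct S a h)
  push Not at h
  obtain ⟨ξ, hξ, hξa⟩ := h
  refine ⟨(ξ ⬝ᵥ a)⁻¹ • ξ, ?_, ?_⟩
  · intro s hs
    rw [smul_dotProduct, hξ s hs, smul_zero]
  · rw [smul_dotProduct, smul_eq_mul, inv_mul_cancel₀ hξa]

lemma finrank_Ypl_le (y₁ y₂ : Fin k → F) : Module.finrank F (Ypl y₁ y₂) ≤ 2 := by
  have h : Ypl y₁ y₂ = (F ∙ y₁) ⊔ (F ∙ y₂) := by
    unfold Ypl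
    rw [Submodule.span_insert]
  rw [h]
  calc Module.finrank F ((F ∙ y₁) ⊔ (F ∙ y₂) : Submodule F (Fin k → F))
      ≤ Module.finrank F (F ∙ y₁) + Module.finrank F (F ∙ y₂) := Submodule.finrank_add_le_finrank_add_finrank _ _
    _ ≤ 1 + 1 := add_le_add (le_trans (finrank_span_le_card ({y₁} : Set (Fin k → F))) (by simp))
        (le_trans (finrank_span_le_card ({y₂} : Set (Fin k → F))) (by simp))

namespace PlaneCfg
variable {i : Fin (t + 1)} {y₁ y₂ : Fin k → F} {W' C' : Submodule F (Idx (t + 1) k → F)}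
  {γ : GL (Idx t k) F} {α : GL (Fin k) F} {s : F}

/-- `Y ≤ Y^⊥` -/
lemma Y_le_perp (P : PlaneCfg q i y₁ y₂ W' C' γ α s) : Ypl y₁ y₂ ≤ perpU q (Ypl y₁ y₂) :=
  fun a ha w hw => P.hvY ha hw

/-- `α Y^⊥ ≤ Y^⊥` -/
lemma alpha_perp (P : PlaneCfg q i y₁ y₂ W' C' γ α s) {a : Fin k → F} (ha : a ∈ perpU q (Ypl y₁ y₂)) :
    (α : Matrix (Fin k) (Fin k) F) *ᵥ a ∈ perpU q (Ypl y₁ y₂) := by
  obtain ⟨μ, ν, hμν, hμq, hνq, hα, hγ⟩ := P.exists_mult
  obtain ⟨c₁, c₂, hc₁, hαy₂⟩ := P.exists_coeff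
  have hq := P.hq
  have e2 : hv q ((α : Matrix (Fin k) (Fin k) F) *ᵥ a) y₂ = 0 := by
    have h := hα a y₁
    rw [ha y₁ (y₁_mem26 y₁ y₂), mul_zero, P.hαy, hv_smul_right] at h
    rcases mul_eq_zero.mp h with h' | h'
    · exact absurd (pow_eq_zero_iff hq |>.mp h') P.hs
    · exact h'
  have e1 : hv q ((α : Matrix (Fin k) (Fin k) F) *ᵥ a) y₁ = 0 := by
    have h := hα a y₂
    rw [ha y₂ (y₂_mem26 y₁ y₂), mul_zero, hαy₂, hv_add_right P.hF, hv_smul_right, hv_smul_right, e2, mul_zero,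
      add_zero] at h
    rcases mul_eq_zero.mp h with h' | h'
    · exact absurd (pow_eq_zero_iff hq |>.mp h') hc₁
    · exact h'
  intro w hw
  obtain ⟨d₁, d₂, rfl⟩ := mem_Ypl26.mp hw
  rw [hv_add_right P.hF, hv_smul_right, hv_smul_right, e1, e2, mul_zero, mul_zero, add_zero]

/-- `U_Y ∩ Π^⊥ = Π` -/
lemma U_inf_perp (P : PlaneCfg q i y₁ y₂ W' C' γ α s) :
    (fib i (Ypl y₁ y₂) ⊔ W') ⊓ fib i (perpU q (Ypl y₁ y₂)) = fib i (Ypl y₁ y₂) := by
  apply sup_inf_eq_left26 (Cfsg.Agent.Lib.Helper26.TWLeaf.fib_mono i P.Y_le_perp)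
  rw [eq_bot_iff, ← P.fr1 y₁ P.h10 P.h1]
  apply inf_le_inf_left
  apply Cfsg.Agent.Lib.Helper26.TWLeaf.fib_mono
  intro a ha
  change dag q y₁ ⬝ᵥ a = 0
  rw [← hv_eq_dot]
  exact ha y₁ (y₁_mem26 y₁ y₂)

/-- PLANE ARGUMENT A: `γ` is a scalar -/
theorem gamma_scalar (P : PlaneCfg q i y₁ y₂ W' C' γ α s) (hk5 : 5 ≤ k) :
    ∃ d : F, d ≠ 0 ∧ (γ : Matrix (Idx t k) (Idx t k) F) = d • (1 : Matrix (Idx t k) (Idx t k) F) := by
  -- `a₀ ∈ Y^⊥ \\ Y`
  have hfr := Cfsg.Agent.Lib.Helper23.TWUT.finrank_perpU P.hF (Ypl y₁ y₂)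
  rw [Fintype.card_fin] at hfr
  have hY2 := finrank_Ypl_le y₁ y₂
  obtain ⟨a₀, ha₀p, ha₀Y⟩ : ∃ a₀ ∈ perpU q (Ypl y₁ y₂), a₀ ∉ Ypl y₁ y₂ := by
    by_contra hcon
    push Not at hcon
    have hle : perpU q (Ypl y₁ y₂) ≤ Ypl y₁ y₂ := hcon
    have := Submodule.finrank_mono hle
    omega
  obtain ⟨ξ, hξY, hξa⟩ := exists_dual26 (Ypl y₁ y₂) a₀ ha₀Y
  apply Cfsg.Agent.Lib.Helper28.TWLeaf.scalar_of_forall (by omega) _ (ξ ⬝ᵥ ((α : Matrix (Fin k) (Fin k) F) *ᵥ a₀))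
  intro b
  have hmem : Hm i γ α *ᵥ tens i b a₀ - tens i b a₀ ∈
      (fib i (Ypl y₁ y₂) ⊔ W') ⊓ fib i (perpU q (Ypl y₁ y₂)) := by
    refine ⟨P.hU _, ?_⟩
    rw [Hm_tens]
    exact Submodule.sub_mem _ (tens_mem_fib26 i _ _ _ (P.alpha_perp ha₀p)) (tens_mem_fib26 i _ _ _ ha₀p)
  rw [P.U_inf_perp, mem_fib_iff_ctr] at hmem
  have h := hmem ξ hξY
  rw [Hm_tens, Cfsg.Agent.Lib.Helper28.TWLeaf.ctr_sub', ctr_tens, ctr_tens, hξa, one_smul, sub_eq_zero] at h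
  exact h

/-- PLANE ARGUMENT A, the contradiction -/
theorem planeA_core (P : PlaneCfg q i y₁ y₂ W' C' γ α s) (hk5 : 5 ≤ k)
    (hW' : Module.finrank F W' = k ^ t)
    (thin : ∀ (Y₃ : Submodule F (Fin k → F)) (y₀ : Fin k → F), y₀ ≠ 0 → hv q y₀ y₀ = 0 →
      (∀ a ∈ Y₃, hv q a y₀ = 0) → ¬ W' ≤ fib i Y₃) : False := by
  obtain ⟨μ, ν, hμν, hμq, hνq, hα, hγ⟩ := P.exists_mult
  obtain ⟨d, hd, hγd⟩ := P.gamma_scalar hk5
  have hq := P.hq
  have hF := P.hF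
  -- the map `α' = d • α`
  set α' : (Fin k → F) → (Fin k → F) := fun a => d • ((α : Matrix (Fin k) (Fin k) F) *ᵥ a) with hα'
  have hH : ∀ (b : Idx t k → F) (a : Fin k → F), Hm i γ α *ᵥ tens i b a = tens i b (α' a) := by
    intro b a
    rw [Hm_tens, hγd, Matrix.smul_mulVec, Matrix.one_mulVec, tens_smul_left26, ← tens_smul_right26]
  have hfrY := Cfsg.Agent.Lib.Helper23.TWUT.finrank_perpU hF (Ypl y₁ y₂)
  rw [Fintype.card_fin] at hfrY
  have hY2 := finrank_Ypl_le y₁ y₂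
  -- (A10) `(α' - 1) A ≤ Y`
  have hA10 : ∀ a : Fin k → F, α' a - a ∈ Ypl y₁ y₂ := by
    intro a
    by_contra ha₁
    set a₁ : Fin k → F := α' a - a with ha₁def
    have ha₁0 : a₁ ≠ 0 := fun h => ha₁ (by rw [h]; exact Submodule.zero_mem _)
    -- `Wf i a₁ ≤ U`
    have hWf : Wf i a₁ ≤ fib i (Ypl y₁ y₂) ⊔ W' := by
      intro v hv'
      obtain ⟨b, rfl⟩ := (mem_Wf_iff_tens i a₁ ha₁0 v).mp hv'
      have := P.hU (tens i b a)
      rwa [hH, ← tens_sub_right26] at this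
    set Y₃ : Submodule F (Fin k → F) := Ypl y₁ y₂ ⊔ (F ∙ a₁) with hY₃
    have hfibY₃ : fib i Y₃ ≤ fib i (Ypl y₁ y₂) ⊔ W' := by
      rw [hY₃, Cfsg.Agent.Lib.Helper26.TWLeaf.fib_sup]
      exact sup_le le_sup_left hWf
    -- dimensions
    have hdisj : Ypl y₁ y₂ ⊓ (F ∙ a₁) = ⊥ := by
      rw [eq_bot_iff]
      rintro v ⟨hvY, hva⟩
      obtain ⟨c, rfl⟩ := Submodule.mem_span_singleton.mp hva
      by_cases hc : c = 0
      · rw [hc, zero_smul]; exact Submodule.zero_mem _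
      · exfalso
        apply ha₁
        have := (Ypl y₁ y₂).smul_mem c⁻¹ hvY
        rwa [smul_smul, inv_mul_cancel₀ hc, one_smul] at this
    have hfrY₃ : Module.finrank F Y₃ = Module.finrank F (Ypl y₁ y₂) + 1 := by
      have h := Submodule.finrank_sup_add_finrank_inf_eq (Ypl y₁ y₂) (F ∙ a₁)
      rw [hdisj, finrank_bot, add_zero, finrank_span_singleton ha₁0] at h
      exact h
    have hfrU : Module.finrank F (fib i (Ypl y₁ y₂) ⊔ W' : Submodule F (Idx (t + 1) k → F)) ≤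
        Module.finrank F (fib i Y₃) := by
      calc Module.finrank F (fib i (Ypl y₁ y₂) ⊔ W' : Submodule F (Idx (t + 1) k → F))
          ≤ Module.finrank F (fib i (Ypl y₁ y₂)) + Module.finrank F W' :=
            Submodule.finrank_add_le_finrank_add_finrank _ _
        _ = Module.finrank F (fib i Y₃) := by
            rw [Cfsg.Agent.Lib.Helper26.TWLeaf.finrank_fib, Cfsg.Agent.Lib.Helper26.TWLeaf.finrank_fib, hW', hfrY₃,
              Nat.add_sub_cancel]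
            ring
    have hUeq : fib i Y₃ = fib i (Ypl y₁ y₂) ⊔ W' := Submodule.eq_of_le_of_finrank_le hfibY₃ hfrU
    have hW'le : W' ≤ fib i Y₃ := by rw [hUeq]; exact le_sup_right
    -- an isotropic vector perpendicular to `Y₃`
    have hfrp := Cfsg.Agent.Lib.Helper23.TWUT.finrank_perpU hF Y₃
    rw [Fintype.card_fin] at hfrp
    obtain ⟨y₀, hy₀p, hy₀0, hy₀⟩ := Cfsg.Agent.Lib.Helper1.TWULeaf.exists_iso_in hF (perpU q Y₃) (by omega)
    exact thin Y₃ y₀ hy₀0 hy₀ (fun a ha => hv_symm_zero hF (hy₀p a ha)) hW'le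
  -- (A11) the multiplier of `α'` is `1`
  have hα'mult : ∀ a a' : Fin k → F, hv q (α' a) (α' a') = (d * d ^ q * μ) * hv q a a' := by
    intro a a'
    rw [hα', hv_smul_left, hv_smul_right, hα]
    ring
  obtain ⟨a₀, ha₀p, ha₀Y⟩ : ∃ a₀ ∈ perpU q (Ypl y₁ y₂), a₀ ∉ Ypl y₁ y₂ := by
    by_contra hcon
    push Not at hcon
    have hle : perpU q (Ypl y₁ y₂) ≤ Ypl y₁ y₂ := hcon
    have := Submodule.finrank_mono hle
    omega
  obtain ⟨a', ha'p, ha'⟩ : ∃ a' ∈ perpU q (Ypl y₁ y₂), hv q a₀ a' ≠ 0 := by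
    by_contra hcon
    push Not at hcon
    apply ha₀Y
    rw [← Cfsg.Agent.Lib.Helper23.TWUT.perpU_perpU hF (Ypl y₁ y₂)]
    exact hcon
  have hperp_sum : ∀ {a a' y y' : Fin k → F}, a ∈ perpU q (Ypl y₁ y₂) → a' ∈ perpU q (Ypl y₁ y₂) →
      y ∈ Ypl y₁ y₂ → y' ∈ Ypl y₁ y₂ → hv q (a + y) (a' + y') = hv q a a' := by
    intro a a' y y' ha ha' hy hy'
    rw [hv_add_left, hv_add_right hF, hv_add_right hF, ha y' hy', hv_symm_zero hF (ha' y hy), P.hvY hy hy']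
    ring
  have hμ1 : d * d ^ q * μ = 1 := by
    have h := hα'mult a₀ a'
    have e1 : α' a₀ = a₀ + (α' a₀ - a₀) := by abel
    have e2 : α' a' = a' + (α' a' - a') := by abel
    rw [e1, e2, hperp_sum ha₀p ha'p (hA10 a₀) (hA10 a')] at h
    have h2 : (d * d ^ q * μ - 1) * hv q a₀ a' = 0 := by linear_combination -h
    rcases mul_eq_zero.mp h2 with h3 | h3
    · linear_combination h3
    · exact absurd h3 ha'
  -- (A12) `α' y₁ = y₁`
  have hα'y₁ : α' y₁ = (d * s) • y₂ := by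
    change d • ((α : Matrix (Fin k) (Fin k) F) *ᵥ y₁) = _
    rw [P.hαy, smul_smul]
  have hfix : y₁ - α' y₁ = 0 := by
    apply Cfsg.Agent.Lib.Helper23.TWUT.hv_nondeg_left hq
    intro a
    have h := hα'mult y₁ a
    rw [hμ1, one_mul] at h
    have e : α' a = a + (α' a - a) := by abel
    have hy2 : α' y₁ ∈ Ypl y₁ y₂ := by
      rw [hα'y₁]
      exact Submodule.smul_mem _ _ (y₂_mem26 y₁ y₂)
    rw [e, hv_add_right hF, P.hvY hy2 (hA10 a), add_zero] at h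
    rw [hv_sub_left, h, sub_self]
  apply P.hind
  refine ⟨(d * s)⁻¹, ?_⟩
  have h1 : y₁ = (d * s) • y₂ := by
    rw [← hα'y₁]
    exact sub_eq_zero.mp hfix
  rw [h1, smul_smul, inv_mul_cancel₀ (mul_ne_zero hd P.hs), one_smul]

end PlaneCfg

end Cfsg.Agent.Lib.Helper26.TWUPlane
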