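import Mathlib
import Cfsg.Agent.Lib.Helper5.TWU.Defs
import Cfsg.Agent.Lib.Helper5.TWU.StageIDefs
import Cfsg.Agent.Lib.Helper16.TWImg
import Cfsg.Agent.Lib.Helper26.TWFibA
import Cfsg.Agent.Lib.Helper26.TWFibB
import Cfsg.Agent.Lib.Helper23.TWUT

/-!
# S5672 Stage I, packet (I7): the element `h = x_{y₂}⁻¹ x_{y₁}` of a totally isotropic plane (leaf `plane_h`, amended by `hgX : g ∈ X`)
-/

set_option autoImplicit false
set_option linter.unusedSectionVars false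
set_option linter.unusedVariables false

namespace Cfsg.Agent.Lib.Helper26.TWULeaf
open Matrix Cfsg.Geo Cfsg.Agent.Lib.Helper18.AschA89 Cfsg.Agent.Lib.Helper8.TW Cfsg.Agent.Lib.Helper5.TWU
open Cfsg.Agent.Lib.Helper20.UT (hv)
open Cfsg.Agent.Lib.Helper23.TWUQ (NSp FCp)

variable {F : Type*} [Field F] [Fintype F] {t k q : ℕ}

/-- `mv` of an inverse -/
lemma mv_inv_mv26 {ι : Type} [Fintype ι] [DecidableEq ι] (g : GL ι F) (v : ι → F) : mv g⁻¹ (mv g v) = v := by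
  rw [← Cfsg.Agent.Lib.Helper16.TWLeaf.mv_mul, inv_mul_cancel]
  unfold mv
  rw [Units.val_one, Matrix.one_mulVec]

lemma mv_mv_inv26 {ι : Type} [Fintype ι] [DecidableEq ι] (g : GL ι F) (v : ι → F) : mv g (mv g⁻¹ v) = v := by
  rw [← Cfsg.Agent.Lib.Helper16.TWLeaf.mv_mul, mul_inv_cancel]
  unfold mv
  rw [Units.val_one, Matrix.one_mulVec]

/-- a similitude conjugates isometries to isometries -/
lemma conj_mem_GUV26 {g u : GL (Idx t k) F} (hg : g ∈ DUV t k q F) (hu : u ∈ GUV t k q F) :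
    g * u * g⁻¹ ∈ GUV t k q F := by
  obtain ⟨c, hc⟩ := mem_DUV.mp hg
  rw [mem_GUV]
  intro v w
  have h1 := hc (mv u (mv g⁻¹ v)) (mv u (mv g⁻¹ w))
  have h2 := hc (mv g⁻¹ v) (mv g⁻¹ w)
  rw [mv_mv_inv26, mv_mv_inv26] at h2
  rw [Cfsg.Agent.Lib.Helper16.TWLeaf.mv_mul, Cfsg.Agent.Lib.Helper16.TWLeaf.mv_mul,
    Cfsg.Agent.Lib.Helper16.TWLeaf.mv_mul, Cfsg.Agent.Lib.Helper16.TWLeaf.mv_mul, h1, mem_GUV.mp hu, ← h2]

/-- the group generated by a unitary root group and a similitude-conjugate of one consists of isometries -/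
lemma usup_le_GUV26 (hF : Fintype.card F = q ^ 2) {g : GL (Idx t k) F} (hg : g ∈ DUV t k q F) (r₁ r₂ : RD t k F)
    (hr₁ : RU q r₁) (hr₂ : RU q r₂) : ugrp hF r₁ ⊔ conjG g (ugrp hF r₂) ≤ GUV t k q F := by
  apply sup_le
  · rintro _ ⟨c, hc, rfl⟩
    exact Cfsg.Agent.Lib.Helper23.TWUT.elt_mem_GUV hF hr₁ hc
  · intro u hu
    obtain ⟨u₀, ⟨c, hc, rfl⟩, rfl⟩ := mem_conjG.mp hu
    exact conj_mem_GUV26 hg (Cfsg.Agent.Lib.Helper23.TWUT.elt_mem_GUV hF hr₂ hc)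

/-- the plane `⟨y₁, y₂⟩` lies in `y_l^⊥` -/
lemma span_pair_le_kerF26 (y₁ y₂ z : Fin k → F) (h1 : hv q y₁ z = 0) (h2 : hv q y₂ z = 0) :
    Submodule.span F {y₁, y₂} ≤ kerF (dag q z) := by
  rw [Submodule.span_le]
  intro a ha
  rcases ha with rfl | ha
  · change dag q z ⬝ᵥ a = 0
    rw [← Cfsg.Agent.Lib.Helper20.UT.hv_eq_dot]; exact h1
  · rw [Set.mem_singleton_iff] at ha
    subst ha
    change dag q z ⬝ᵥ a = 0
    rw [← Cfsg.Agent.Lib.Helper20.UT.hv_eq_dot]; exact h2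

/-- I7-h (amended: `hgX`) the element `h = x_{y₂}⁻¹ x_{y₁}` for a totally isotropic plane `⟨y₁, y₂⟩` -/
theorem plane_h {X : Subgroup (GL (Idx t k) F)} (c : CtxU q X) (g : GL (Idx t k) F) (hgX : g ∈ X) (r₂ : RD t k F)
    (hr₂ : RU q r₂)
    (i : Fin t) (y₁ y₂ : Fin k → F) (h10 : y₁ ≠ 0) (h1 : hv q y₁ y₁ = 0) (h20 : y₂ ≠ 0) (h2 : hv q y₂ y₂ = 0)
    (h12 : hv q y₁ y₂ = 0) (x₁ x₂ : GL (Idx t k) F)
    (K₁ : KeyU c.hF g (urd q i y₁ h10 h1) r₂ x₁ (urd q i y₁ h10 h1))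
    (K₂ : KeyU c.hF g (urd q i y₂ h20 h2) r₂ x₂ (urd q i y₂ h20 h2)) :
    ∃ h ∈ Gstd t k F, h ∈ GUV t k q F ∧ img h (Wf i y₁) = Wf i y₂ ∧
      (∀ v, mv h v - v ∈ fib i (Submodule.span F {y₁, y₂}) ⊔ img g r₂.W) ∧
      (∀ v ∈ fib i (Submodule.span F {y₁, y₂}) ⊓ img g r₂.C, mv h v = v) := by
  have hF := c.hF
  have h21 : hv q y₂ y₁ = 0 := Cfsg.Agent.Lib.Helper20.UT.hv_symm_zero hF h12
  have hgD : g ∈ DUV t k q F := c.hXD hgX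
  have hW1 : Wf i y₁ ≤ fib i (Submodule.span F {y₁, y₂}) := by
    apply Cfsg.Agent.Lib.Helper26.TWLeaf.fib_mono
    rw [Submodule.span_singleton_le_iff_mem]
    exact Submodule.subset_span (by simp)
  have hW2 : Wf i y₂ ≤ fib i (Submodule.span F {y₁, y₂}) := by
    apply Cfsg.Agent.Lib.Helper26.TWLeaf.fib_mono
    rw [Submodule.span_singleton_le_iff_mem]
    exact Submodule.subset_span (by simp)
  have hC1 : fib i (Submodule.span F {y₁, y₂}) ≤ (urd q i y₁ h10 h1).C :=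
    Cfsg.Agent.Lib.Helper26.TWLeaf.fib_mono i (span_pair_le_kerF26 y₁ y₂ y₁ h1 h21)
  have hC2 : fib i (Submodule.span F {y₁, y₂}) ≤ (urd q i y₂ h20 h2).C :=
    Cfsg.Agent.Lib.Helper26.TWLeaf.fib_mono i (span_pair_le_kerF26 y₁ y₂ y₂ h12 h2)
  refine ⟨x₂⁻¹ * x₁, ?_, ?_, ?_, ?_, ?_⟩
  · have e : x₂⁻¹ * x₁ = (x₂⁻¹ * g) * (x₁⁻¹ * g)⁻¹ := by group
    rw [e]
    exact (Gstd t k F).mul_mem K₂.h_mem ((Gstd t k F).inv_mem K₁.h_mem)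
  · have hx₁ := usup_le_GUV26 hF hgD _ r₂ (urd_RU q i y₁ h10 h1) hr₂ K₁.x_mem
    have hx₂ := usup_le_GUV26 hF hgD _ r₂ (urd_RU q i y₂ h20 h2) hr₂ K₂.x_mem
    exact (GUV t k q F).mul_mem ((GUV t k q F).inv_mem hx₂) hx₁
  · have e1 : img x₁ (Wf i y₁) = img g r₂.W := K₁.hW
    have e2 : img x₂ (Wf i y₂) = img g r₂.W := K₂.hW
    rw [Cfsg.Agent.Lib.Helper16.TWLeaf.img_mul, e1, ← e2, ← Cfsg.Agent.Lib.Helper16.TWLeaf.img_mul, inv_mul_cancel,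
      Cfsg.Agent.Lib.Helper16.TWLeaf.img_one]
  · intro v
    have e : mv (x₂⁻¹ * x₁) v - v = -(mv x₂ (mv x₂⁻¹ (mv x₁ v)) - mv x₂⁻¹ (mv x₁ v)) + (mv x₁ v - v) := by
      rw [mv_mv_inv26, Cfsg.Agent.Lib.Helper16.TWLeaf.mv_mul]
      abel
    rw [e]
    apply Submodule.add_mem
    · apply Submodule.neg_mem
      have := K₂.hx1 (mv x₂⁻¹ (mv x₁ v))
      exact (sup_le_sup_right hW2 _) this
    · have := K₁.hx1 v
      exact (sup_le_sup_right hW1 _) this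
  · rintro v ⟨hvP, hvC⟩
    have e1 : mv x₁ v = v := K₁.hx2 v ⟨hC1 hvP, hvC⟩
    have e2 : mv x₂ v = v := K₂.hx2 v ⟨hC2 hvP, hvC⟩
    rw [Cfsg.Agent.Lib.Helper16.TWLeaf.mv_mul, e1]
    conv_lhs => rw [← e2]
    exact mv_inv_mv26 x₂ v

end Cfsg.Agent.Lib.Helper26.TWULeaf
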