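import Mathlib
import Cfsg.Agent.Lib.Helper26.TWUIPlaneCore
import Cfsg.Agent.Lib.Helper26.TWUIPlaneH
import Cfsg.Agent.Lib.Helper22.TWQStab
import Cfsg.Agent.Lib.Helper1.TWUIUT8

/-!
# S5672 Stage I, packet (I7): the plane configuration exists in the FR world (`k ≥ 4`)
-/

set_option autoImplicit false
set_option linter.unusedSectionVars false
set_option linter.unusedVariables false

namespace Cfsg.Agent.Lib.Helper26.TWULeaf
open Matrix Cfsg.Geo Cfsg.Agent.Lib.Helper18.AschA89 Cfsg.Agent.Lib.Helper8.TW Cfsg.Agent.Lib.Helper5.TWU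
open Cfsg.Agent.Lib.Helper20.UT (hv)
open Cfsg.Agent.Lib.Helper23.TWUQ (NSp FCp)
open Cfsg.Agent.Lib.Helper26.TWUPlane

variable {F : Type*} [Field F] [Fintype F] {t k q : ℕ}

/-- the plane configuration in the FR world (common to the plane arguments A and B) -/
theorem exists_planeCfg {X : Subgroup (GL (Idx (t + 1) k) F)} (c : CtxU q X) (hk4 : 4 ≤ k)
    (g : GL (Idx (t + 1) k) F) (r₂ : RD (t + 1) k F) (w : FRWU q X g r₂)
    (hx : ∀ r₁ : RD (t + 1) k F, RU q r₁ → ∃ x : GL (Idx (t + 1) k) F, KeyU c.hF g r₁ r₂ x r₁) (i : Fin (t + 1)) :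
    ∃ (y₁ y₂ : Fin k → F) (γ : GL (Idx t k) F) (α : GL (Fin k) F) (s : F),
      PlaneCfg q i y₁ y₂ (img g r₂.W) (img g r₂.C) γ α s := by
  have hF := c.hF
  obtain ⟨y₁, h10, h1⟩ := Cfsg.Agent.Lib.Helper1.TWULeaf.exists_iso (k := k) hF (by omega)
  obtain ⟨y₂, h20, h2, h21, hind⟩ := Cfsg.Agent.Lib.Helper1.TWULeaf.exists_iso_perp hF hk4 y₁ h10 h1
  have h12 : hv q y₁ y₂ = 0 := Cfsg.Agent.Lib.Helper20.UT.hv_symm_zero hF h21
  obtain ⟨x₁, K₁⟩ := hx (urd q i y₁ h10 h1) (urd_RU q i y₁ h10 h1)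
  obtain ⟨x₂, K₂⟩ := hx (urd q i y₂ h20 h2) (urd_RU q i y₂ h20 h2)
  obtain ⟨h, hG, hGU, himg, hU, hE⟩ := plane_h c g w.hgX r₂ w.hr₂ i y₁ y₂ h10 h1 h20 h2 h12 x₁ x₂ K₁ K₂
  obtain ⟨γ, α, hγG, hval, s, hs⟩ := Cfsg.Agent.Lib.Helper22.TWQLeaf.stab_form (by omega) h hG i y₁ y₂ h10 h20 himg
  refine ⟨y₁, y₂, γ, α, s, ⟨hF, by omega, h10, h1, h20, h2, h12, hind, w.fr1 i, w.fr2 i, ?_, hs, ?_, ?_⟩⟩
  · intro u v
    have := mem_GUV.mp hGU u v
    unfold mv at this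
    rw [hval] at this
    exact this
  · intro v
    have := hU v
    unfold mv at this
    rw [hval] at this
    exact this
  · intro v hv'
    have := hE v hv'
    unfold mv at this
    rw [hval] at this
    exact this

lemma finrank_img_W26 (g : GL (Idx (t + 1) k) F) (r : RD (t + 1) k F) :
    Module.finrank F (img g r.W : Submodule F (Idx (t + 1) k → F)) = k ^ t := by
  rw [Cfsg.Agent.Lib.Helper16.TWLeaf.finrank_img]
  change Module.finrank F (fib r.i (F ∙ r.y)) = _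
  rw [Cfsg.Agent.Lib.Helper26.TWLeaf.finrank_fib, finrank_span_singleton r.hy, Nat.add_sub_cancel, mul_one]

lemma finrank_img_C26 (g : GL (Idx (t + 1) k) F) (r : RD (t + 1) k F) :
    Module.finrank F (img g r.C : Submodule F (Idx (t + 1) k → F)) = k ^ t * (k - 1) := by
  rw [Cfsg.Agent.Lib.Helper16.TWLeaf.finrank_img]
  change Module.finrank F (fib r.i (kerF r.η)) = _
  rw [Cfsg.Agent.Lib.Helper26.TWLeaf.finrank_fib, Cfsg.Agent.Lib.Helper26.TWLeaf.finrank_kerF r.η r.hη,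
    Nat.add_sub_cancel]

end Cfsg.Agent.Lib.Helper26.TWULeaf
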