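import Mathlib
import Cfsg.Agent.Lib.Helper26.TWUIPlaneCfg
import Cfsg.Agent.Lib.Helper26.TWUIPlaneACore

/-!
# S5672 Stage I, leaf I7-A `planeA`: PLANE ARGUMENT A (`k ≥ 5`), with the THIN LEMMA (`thinU`, helper11) as a hypothesis
`planeA = planeA_of_thin .. (fun i Y y₀ h0 h hY => thinU c g w.hgX w.hgG r₂ w.hr₂ i Y y₀ h0 h hY)`.
-/

set_option autoImplicit false
set_option linter.unusedSectionVars false
set_option linter.unusedVariables false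

namespace Cfsg.Agent.Lib.Helper26.TWULeaf
open Matrix Cfsg.Geo Cfsg.Agent.Lib.Helper18.AschA89 Cfsg.Agent.Lib.Helper8.TW Cfsg.Agent.Lib.Helper5.TWU
open Cfsg.Agent.Lib.Helper20.UT (hv)
open Cfsg.Agent.Lib.Helper23.TWUQ (NSp FCp)
open Cfsg.Agent.Lib.Helper26.TWUPlane

variable {F : Type*} [Field F] [Fintype F] {t k q : ℕ}

/-- I7-A PLANE ARGUMENT A, `k ≥ 5`, given the thin lemma -/
theorem planeA_of_thin {X : Subgroup (GL (Idx t k) F)} (c : CtxU q X) (hk5 : 5 ≤ k) (g : GL (Idx t k) F)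
    (r₂ : RD t k F) (w : FRWU q X g r₂)
    (hx : ∀ r₁ : RD t k F, RU q r₁ → ∃ x : GL (Idx t k) F, KeyU c.hF g r₁ r₂ x r₁)
    (thin : ∀ (i : Fin t) (Y : Submodule F (Fin k → F)) (y₀ : Fin k → F), y₀ ≠ 0 → hv q y₀ y₀ = 0 →
      (∀ a ∈ Y, hv q a y₀ = 0) → ¬ img g r₂.W ≤ fib i Y) : False := by
  obtain ⟨t', rfl⟩ : ∃ t', t = t' + 1 := ⟨t - 1, by have := c.ht; omega⟩
  obtain ⟨y₁, y₂, γ, α, s, P⟩ := exists_planeCfg c (by omega) g r₂ w hx 0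
  exact P.planeA_core hk5 (finrank_img_W26 g r₂) (thin 0)

end Cfsg.Agent.Lib.Helper26.TWULeaf
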