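import Mathlib
import Cfsg.Agent.Lib.Helper27.C3u2CW1

set_option autoImplicit false
set_option linter.unusedSectionVars false
set_option linter.unusedVariables false

namespace Cfsg.Agent.Lib.Helper26.TWULeaf
open Polynomial

variable {F : Type*} [Field F] [Fintype F] {q : ℕ}

/-- I7-qf0: a monic quadratic with coefficients in the fixed field `F_0 = {x | x^q = x}` has a root in `F` (`|F| = q²`) -/
theorem qf0 (hF : Fintype.card F = q ^ 2) (a b : F) (ha : a ^ q = a) (hb : b ^ q = b) :
    ∃ x : F, x ^ 2 + a * x + b = 0 := by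
  classical
  let K : Subfield F := Cfsg.Agent.Lib.Helper27.C3u2Leaf.fix0 hF
  let a' : K := ⟨a, ha⟩
  let b' : K := ⟨b, hb⟩
  let p : K[X] := X ^ 2 + C a' * X + C b'
  have hdeg : p.natDegree = 2 := by
    simp only [p]
    compute_degree!
  have hmonic : p.Monic := by
    simp only [p]
    monicity!
  by_cases hroot : ∃ x : K, p.IsRoot x
  · obtain ⟨x, hx⟩ := hroot
    refine ⟨(x : F), ?_⟩
    have h1 : x ^ 2 + a' * x + b' = 0 := by
      simpa [p, Polynomial.IsRoot] using hx
    have h2 := congrArg (Subtype.val : K → F) h1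
    simpa using h2
  · have hirr : Irreducible p := by
      rw [Polynomial.Monic.irreducible_iff_roots_eq_zero_of_degree_le_three hmonic (by omega) (by omega)]
      rw [Multiset.eq_zero_iff_forall_notMem]
      intro x hx
      exact hroot ⟨x, (Polynomial.mem_roots hmonic.ne_zero).mp hx⟩
    have : Fact (Irreducible p) := ⟨hirr⟩
    have hfr : Module.finrank K (AdjoinRoot p) = 2 := by
      rw [(AdjoinRoot.powerBasis hirr.ne_zero).finrank, AdjoinRoot.powerBasis_dim, hdeg]
    have hfr2 : Module.finrank K F = 2 := Cfsg.Agent.Lib.Helper27.C3u2Leaf.finrank_fix0 hF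
    obtain ⟨f⟩ := FiniteField.nonempty_algHom_of_finrank_dvd (F := K) (K := AdjoinRoot p) (L := F)
      (by rw [hfr, hfr2])
    refine ⟨f (AdjoinRoot.root p), ?_⟩
    have h0 : aeval (AdjoinRoot.root p) p = 0 := AdjoinRoot.eval₂_root p
    have h1 := congrArg f h0
    rw [← Polynomial.aeval_algHom_apply, map_zero] at h1
    have h2 : aeval (f (AdjoinRoot.root p)) p =
        (f (AdjoinRoot.root p)) ^ 2 + a * f (AdjoinRoot.root p) + b := by
      simp only [p, map_add, map_pow, map_mul, aeval_X, aeval_C]
      rfl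
    rw [← h2]
    exact h1

end Cfsg.Agent.Lib.Helper26.TWULeaf
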