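import Mathlib
import Cfsg.Agent.Lib.Helper20.UTDefs
import Cfsg.Agent.Lib.Helper4.SUMT
import Cfsg.Agent.Lib.Helper26.TWUIQf0

/-!
# S5672 Stage I, packet (I7), plane argument B: the field-theoretic end (a quadratic with a root)
-/

set_option autoImplicit false
set_option linter.unusedSectionVars false
set_option linter.unusedVariables false

namespace Cfsg.Agent.Lib.Helper26.TWUPlane
open Cfsg.Agent.Lib.Helper20.UT (pow_q_pow_q' add_pow_q neg_pow_q)

variable {F : Type*} [Field F] [Fintype F] {q : ℕ}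

/-- Hilbert 90 for `F_{q²} / F_q` -/
lemma hilbert90_26 (hF : Fintype.card F = q ^ 2) (e : F) (he : e * e ^ q = 1) : ∃ w : F, w ≠ 0 ∧ e * w ^ q = w := by
  by_cases h : 1 + e = 0
  · obtain ⟨w, hw0, hw⟩ := Cfsg.Agent.Lib.Helper4.SUMLeaf.exists_skew hF
    refine ⟨w, hw0, ?_⟩
    have he' : e = -1 := by linear_combination h
    rw [he', hw]
    ring
  · refine ⟨1 + e, h, ?_⟩
    rw [add_pow_q hF, one_pow]
    linear_combination he

/-- the quadratic `D X² + T X - 1` has a root in `F` if `T = -D T^q ν`, `D^(q+1) ν² = 1`, `ν ∈ F_0^×` -/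
theorem exists_root26 (hF : Fintype.card F = q ^ 2) (D T ν : F) (hν : ν ^ q = ν) (hν0 : ν ≠ 0) (hD0 : D ≠ 0)
    (h1 : T = -(D * T ^ q * ν)) (h2 : D * D ^ q * ν ^ 2 = 1) : ∃ x : F, D * x ^ 2 + T * x - 1 = 0 := by
  by_cases hT : T = 0
  · -- `D x² = 1`
    have he : (D * ν) * (D * ν) ^ q = 1 := by
      rw [mul_pow, hν]
      linear_combination h2
    obtain ⟨w, hw0, hw⟩ := hilbert90_26 hF (D * ν) he
    have hn : (w * w ^ q * ν) ^ q = w * w ^ q * ν := by
      rw [mul_pow, mul_pow, pow_q_pow_q' hF, hν]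
      ring
    obtain ⟨x, hx⟩ := Cfsg.Agent.Lib.Helper26.TWULeaf.qf0 hF 0 (-(w * w ^ q * ν)) (by
      have hq : q ≠ 0 := by
        rintro rfl
        have : 2 ≤ Fintype.card F := Fintype.one_lt_card
        omega
      rw [zero_pow hq]) (by rw [neg_pow_q hF, hn])
    refine ⟨x / w, ?_⟩
    rw [hT, zero_mul, add_zero, div_pow]
    have hx2 : x ^ 2 = w * w ^ q * ν := by linear_combination hx
    rw [hx2]
    have : D * (w * w ^ q * ν / w ^ 2) = (D * ν * w ^ q) / w := by
      field_simp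
    rw [this, hw, div_self hw0, sub_self]
  · -- `T ≠ 0`
    have hTq : T ^ q ≠ 0 := pow_ne_zero q hT
    set n : F := T * T ^ q * ν with hn
    have hn0 : n ≠ 0 := mul_ne_zero (mul_ne_zero hT hTq) hν0
    have hnq : n ^ q = n := by
      rw [hn, mul_pow, mul_pow, pow_q_pow_q' hF, hν]
      ring
    obtain ⟨z, hz⟩ := Cfsg.Agent.Lib.Helper26.TWULeaf.qf0 hF (-n) n (by rw [neg_pow_q hF, hnq]) hnq
    refine ⟨z / T, ?_⟩
    have hD : D = -T / (T ^ q * ν) := by
      field_simp
      linear_combination h1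
    rw [hD, div_pow]
    have e : -T / (T ^ q * ν) * (z ^ 2 / T ^ 2) + T * (z / T) - 1 = -(z ^ 2 + -n * z + n) / n := by
      rw [hn]
      field_simp
      ring
    rw [e, hz, neg_zero, zero_div]

end Cfsg.Agent.Lib.Helper26.TWUPlane
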