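import Mathlib
import Cfsg.Agent.Lib.Helper26.TWUIPlaneACore
import Cfsg.Agent.Lib.Helper26.TWUIPlaneBAlg

/-!
# S5672 Stage I, packet (I7): PLANE ARGUMENT B (`k = 4`), the linear-algebra core
-/

set_option autoImplicit false
set_option linter.unusedSectionVars false
set_option linter.unusedVariables false

namespace Cfsg.Agent.Lib.Helper26.TWUPlane
open Matrix Cfsg.Geo Cfsg.Agent.Lib.Helper18.AschA89 Cfsg.Agent.Lib.Helper8.TW Cfsg.Agent.Lib.Helper5.TWU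
open Cfsg.Agent.Lib.Helper20.UT (hv hv_add_left hv_add_right hv_smul_left hv_smul_right hv_symm_zero hv_eq_dot hv_conj
  hv_sub_left hv_sub_right hv_zero_left hv_zero_right hv_self_pow)
open Cfsg.Agent.Lib.Helper22.TWLeaf

variable {F : Type*} [Field F] [Fintype F] {t k q : ℕ}

/-- contraction as a linear map -/
def ctrL (i : Fin (t + 1)) (ξ : Fin k → F) : (Idx (t + 1) k → F) →ₗ[F] (Idx t k → F) where
  toFun := ctr i ξ
  map_add' := ctr_add i ξ
  map_smul' := ctr_smul i ξ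

@[simp] lemma ctrL_apply (i : Fin (t + 1)) (ξ : Fin k → F) (v : Idx (t + 1) k → F) : ctrL i ξ v = ctr i ξ v := rfl

lemma ctr_zero26 (i : Fin (t + 1)) (ξ : Fin k → F) : ctr i ξ (0 : Idx (t + 1) k → F) = 0 :=
  (ctrL i ξ).map_zero

lemma finrank_Ypl_eq {y₁ y₂ : Fin k → F} (h10 : y₁ ≠ 0) (h20 : y₂ ≠ 0) (hind : ¬ ∃ a : F, y₂ = a • y₁) :
    Module.finrank F (Ypl y₁ y₂) = 2 := by
  have h : Ypl y₁ y₂ = (F ∙ y₁) ⊔ (F ∙ y₂) := by
    unfold Ypl
    rw [Submodule.span_insert]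
  have hdisj : (F ∙ y₁) ⊓ (F ∙ y₂) = (⊥ : Submodule F (Fin k → F)) := by
    rw [eq_bot_iff]
    rintro v ⟨h1, h2⟩
    obtain ⟨a, rfl⟩ := Submodule.mem_span_singleton.mp h1
    obtain ⟨b, hb⟩ := Submodule.mem_span_singleton.mp h2
    by_cases hb0 : b = 0
    · rw [← hb, hb0, zero_smul]; exact Submodule.zero_mem _
    · exfalso
      apply hind
      refine ⟨b⁻¹ * a, ?_⟩
      rw [← smul_smul, ← hb, smul_smul, inv_mul_cancel₀ hb0, one_smul]
  have := Submodule.finrank_sup_add_finrank_inf_eq (F ∙ y₁) (F ∙ y₂)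
  rw [hdisj, finrank_bot, add_zero, finrank_span_singleton h10, finrank_span_singleton h20] at this
  rw [h, this]

/-- decomposition of the elements of `Π = fib i ⟨y₁, y₂⟩` -/
lemma mem_Pi_decomp (i : Fin (t + 1)) {y₁ y₂ : Fin k → F} (h10 : y₁ ≠ 0) (h20 : y₂ ≠ 0) (ξ₁ ξ₂ : Fin k → F)
    (h11 : ξ₁ ⬝ᵥ y₁ = 1) (h12 : ξ₁ ⬝ᵥ y₂ = 0) (h21 : ξ₂ ⬝ᵥ y₁ = 0) (h22 : ξ₂ ⬝ᵥ y₂ = 1)
    {v : Idx (t + 1) k → F} (hv' : v ∈ fib i (Ypl y₁ y₂)) :
    v = tens i (ctr i ξ₁ v) y₁ + tens i (ctr i ξ₂ v) y₂ := by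
  have h : Ypl y₁ y₂ = (F ∙ y₁) ⊔ (F ∙ y₂) := by
    unfold Ypl
    rw [Submodule.span_insert]
  rw [h, Cfsg.Agent.Lib.Helper26.TWLeaf.fib_sup] at hv'
  obtain ⟨v₁, hv₁, v₂, hv₂, rfl⟩ := Submodule.mem_sup.mp hv'
  obtain ⟨b₁, rfl⟩ := (mem_Wf_iff_tens i y₁ h10 v₁).mp hv₁
  obtain ⟨b₂, rfl⟩ := (mem_Wf_iff_tens i y₂ h20 v₂).mp hv₂
  rw [ctr_add, ctr_add, ctr_tens, ctr_tens, ctr_tens, ctr_tens, h11, h12, h21, h22, one_smul, zero_smul, one_smul,
    zero_smul, add_zero, zero_add]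

namespace PlaneCfg
variable {i : Fin (t + 1)} {y₁ y₂ : Fin k → F} {W' C' : Submodule F (Idx (t + 1) k → F)}
  {γ : GL (Idx t k) F} {α : GL (Fin k) F} {s : F}

/-- PLANE ARGUMENT B, the contradiction -/
theorem planeB_core (P : PlaneCfg q i y₁ y₂ W' C' γ α s) (hk4 : k = 4)
    (hC' : Module.finrank F C' = k ^ t * (k - 1)) : False := by
  obtain ⟨μ, ν, hμν, hμq, hνq, hα, hγ⟩ := P.exists_mult
  obtain ⟨c₁, c₂, hc₁, hαy₂⟩ := P.exists_coeff
  have hq := P.hq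
  have hF := P.hF
  have hs := P.hs
  have hν0 : ν ≠ 0 := right_ne_zero_of_mul_eq_one hμν
  -- dual functionals
  have hind' : ¬ ∃ a : F, y₁ = a • y₂ := by
    rintro ⟨a, ha⟩
    by_cases ha0 : a = 0
    · rw [ha0, zero_smul] at ha; exact P.h10 ha
    · apply P.hind
      refine ⟨a⁻¹, ?_⟩
      rw [ha, smul_smul, inv_mul_cancel₀ ha0, one_smul]
  obtain ⟨ξ₂, h21, h22⟩ := Cfsg.Agent.Lib.Helper28.TWLeaf.exists_dual_pair y₁ y₂ P.h10 P.hind
  obtain ⟨ξ₁, h12, h11⟩ := Cfsg.Agent.Lib.Helper28.TWLeaf.exists_dual_pair y₂ y₁ P.h20 hind'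
  -- the space `E`
  set E : Submodule F (Idx (t + 1) k → F) := fib i (Ypl y₁ y₂) ⊓ C' with hE
  have hfrE : k ^ t ≤ Module.finrank F E := by
    have h1 := Submodule.finrank_sup_add_finrank_inf_eq (fib i (Ypl y₁ y₂)) C'
    rw [Cfsg.Agent.Lib.Helper26.TWLeaf.finrank_fib, finrank_Ypl_eq P.h10 P.h20 P.hind, hC', Nat.add_sub_cancel] at h1
    have h2 : Module.finrank F (fib i (Ypl y₁ y₂) ⊔ C' : Submodule F (Idx (t + 1) k → F)) ≤ k ^ (t + 1) := by
      have := Submodule.finrank_le (fib i (Ypl y₁ y₂) ⊔ C')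
      rwa [Module.finrank_fintype_fun_eq_card, Cfsg.Agent.Lib.Helper1.TWLeaf.card_Idx] at this
    rw [pow_succ] at h2
    subst hk4
    rw [hE]
    omega
  -- the components of an element of `E`
  have hcomp : ∀ e ∈ E, ctr i ξ₁ e = c₁ • ((γ : Matrix (Idx t k) (Idx t k) F) *ᵥ ctr i ξ₂ e) ∧
      ctr i ξ₂ e = s • ((γ : Matrix (Idx t k) (Idx t k) F) *ᵥ ctr i ξ₁ e) +
        c₂ • ((γ : Matrix (Idx t k) (Idx t k) F) *ᵥ ctr i ξ₂ e) := by
    intro e he
    have hdec := mem_Pi_decomp i P.h10 P.h20 ξ₁ ξ₂ h11 h12 h21 h22 he.1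
    have hfix := P.hE e he
    have hH : Hm i γ α *ᵥ e =
        tens i ((γ : Matrix (Idx t k) (Idx t k) F) *ᵥ ctr i ξ₁ e) (s • y₂) +
          tens i ((γ : Matrix (Idx t k) (Idx t k) F) *ᵥ ctr i ξ₂ e) (c₁ • y₁ + c₂ • y₂) := by
      conv_lhs => rw [hdec]
      rw [Matrix.mulVec_add, Hm_tens, Hm_tens, P.hαy, hαy₂]
    rw [hfix] at hH
    constructor
    · have := congrArg (ctr i ξ₁) hH
      rw [ctr_add, ctr_tens, ctr_tens, dotProduct_smul, dotProduct_add, dotProduct_smul, dotProduct_smul, h11, h12,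
        smul_zero, zero_smul, zero_add, smul_zero, add_zero, smul_eq_mul, mul_one] at this
      exact this
    · have := congrArg (ctr i ξ₂) hH
      rw [ctr_add, ctr_tens, ctr_tens, dotProduct_smul, dotProduct_add, dotProduct_smul, dotProduct_smul, h21, h22,
        smul_zero, zero_add, smul_eq_mul, mul_one, smul_eq_mul, mul_one] at this
      exact this
  -- the projection `E → B` is bijective
  set P₂ : E →ₗ[F] (Idx t k → F) := (ctrL i ξ₂).domRestrict E with hP₂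
  have hinj : Function.Injective P₂ := by
    rw [← LinearMap.ker_eq_bot, LinearMap.ker_eq_bot']
    intro e he
    have h2 : ctr i ξ₂ (e : Idx (t + 1) k → F) = 0 := he
    obtain ⟨h1, -⟩ := hcomp e e.2
    rw [h2, Matrix.mulVec_zero, smul_zero] at h1
    have hdec := mem_Pi_decomp i P.h10 P.h20 ξ₁ ξ₂ h11 h12 h21 h22 e.2.1
    rw [h1, h2] at hdec
    have h0 : (e : Idx (t + 1) k → F) = 0 := by
      rw [hdec]
      funext x
      simp [tens]
    exact Subtype.ext h0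
  have hsurj : Function.Surjective P₂ := by
    have h1 : Module.finrank F (LinearMap.range P₂) = Module.finrank F E := LinearMap.finrank_range_of_inj hinj
    have h2 : Module.finrank F (Idx t k → F) = k ^ t := by
      rw [Module.finrank_fintype_fun_eq_card, Cfsg.Agent.Lib.Helper1.TWLeaf.card_Idx]
    have h3 : LinearMap.range P₂ = ⊤ := by
      apply Submodule.eq_top_of_finrank_eq
      have := Submodule.finrank_le (LinearMap.range P₂)
      omega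
    exact LinearMap.range_eq_top.mp h3
  -- (R)
  have hR : ∀ b : Idx t k → F, b = (s * c₁) • ((γ : Matrix (Idx t k) (Idx t k) F) *ᵥ
      ((γ : Matrix (Idx t k) (Idx t k) F) *ᵥ b)) + c₂ • ((γ : Matrix (Idx t k) (Idx t k) F) *ᵥ b) := by
    intro b
    obtain ⟨e, he⟩ := hsurj b
    have he' : ctr i ξ₂ (e : Idx (t + 1) k → F) = b := he
    obtain ⟨h1, h2⟩ := hcomp e e.2
    rw [h1, he', Matrix.mulVec_smul, smul_smul] at h2
    exact h2
  -- (B7) no eigenvector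
  have hnoeig : ∀ (b : Idx t k → F) (l : F), (γ : Matrix (Idx t k) (Idx t k) F) *ᵥ b = l • b → b = 0 := by
    intro b l hl
    obtain ⟨e, he⟩ := hsurj b
    have he' : ctr i ξ₂ (e : Idx (t + 1) k → F) = b := he
    obtain ⟨h1, -⟩ := hcomp e e.2
    rw [he', hl, smul_smul] at h1
    have hdec := mem_Pi_decomp i P.h10 P.h20 ξ₁ ξ₂ h11 h12 h21 h22 e.2.1
    rw [h1, he', tens_smul_left26, ← tens_smul_right26, ← tens_add_right26] at hdec
    set y : Fin k → F := (c₁ * l) • y₁ + y₂ with hy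
    have hyY : y ∈ Ypl y₁ y₂ := mem_Ypl26.mpr ⟨c₁ * l, 1, by rw [one_smul]⟩
    have hy0 : y ≠ 0 := by
      intro h0
      apply P.hind
      refine ⟨-(c₁ * l), ?_⟩
      rw [neg_smul]
      exact eq_neg_of_add_eq_zero_right h0
    have hmem : (e : Idx (t + 1) k → F) ∈ Wf i y ⊓ C' := by
      refine ⟨?_, e.2.2⟩
      rw [SetLike.mem_coe, mem_Wf_iff_tens i y hy0]
      exact ⟨b, hdec⟩
    rw [P.fr2Y hyY hy0, Submodule.mem_bot] at hmem
    rw [← he', hmem, ctr_zero26]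
  -- a non-zero vector of `B`
  let u₀ : Idx t k := fun _ => ⟨0, P.hk⟩
  set e₀ : Idx t k → F := Pi.single u₀ 1 with he₀
  have he₀0 : e₀ ≠ 0 := by
    intro h
    have := congrFun h u₀
    simp [e₀] at this
  -- (R')
  have hR' : ∀ b₀ : Idx t k → F, (γ : Matrix (Idx t k) (Idx t k) F) *ᵥ ((γ : Matrix (Idx t k) (Idx t k) F) *ᵥ b₀) =
      ((s * c₁) ^ q * ν ^ 2) • b₀ + (c₂ ^ q * ν) • ((γ : Matrix (Idx t k) (Idx t k) F) *ᵥ b₀) := by
    intro b₀
    rw [← sub_eq_zero]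
    apply Cfsg.Agent.Lib.Helper23.TWUT.hv_nondeg_left hq
    intro b'
    rw [hv_sub_left, hv_add_left, hv_smul_left, hv_smul_left]
    conv_lhs =>
      enter [1]
      rw [hR b', hv_add_right hF, hv_smul_right, hv_smul_right, hγ, hγ, hγ]
    ring
  -- (B10)
  have hcomb : ∀ b₀ : Idx t k → F, (1 - (s * c₁) * (s * c₁) ^ q * ν ^ 2) • b₀ =
      ((s * c₁) * c₂ ^ q * ν + c₂) • ((γ : Matrix (Idx t k) (Idx t k) F) *ᵥ b₀) := by
    intro b₀
    have h1 := hR b₀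
    rw [hR' b₀] at h1
    rw [sub_smul, one_smul, add_smul]
    conv_lhs =>
      enter [1]
      rw [h1]
    rw [smul_add, smul_smul, smul_smul]
    have e1 : s * c₁ * ((s * c₁) ^ q * ν ^ 2) = s * c₁ * (s * c₁) ^ q * ν ^ 2 := by ring
    have e2 : s * c₁ * (c₂ ^ q * ν) = s * c₁ * c₂ ^ q * ν := by ring
    rw [e1, e2]
    abel
  have hA1 : (s * c₁) * c₂ ^ q * ν + c₂ = 0 := by
    by_contra hne
    apply he₀0
    apply hnoeig e₀ ((1 - (s * c₁) * (s * c₁) ^ q * ν ^ 2) / ((s * c₁) * c₂ ^ q * ν + c₂))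
    have := hcomb e₀
    rw [div_eq_inv_mul, ← smul_smul, this, smul_smul, inv_mul_cancel₀ hne, one_smul]
  have hA0 : (s * c₁) * (s * c₁) ^ q * ν ^ 2 = 1 := by
    have := hcomb e₀
    rw [hA1, zero_smul] at this
    rcases smul_eq_zero.mp this with h | h
    · linear_combination -h
    · exact absurd h he₀0
  -- the root
  obtain ⟨l, hl⟩ := exists_root26 hF (s * c₁) c₂ ν hνq hν0 (mul_ne_zero hs hc₁)
    (by linear_combination hA1) hA0
  -- the eigenvector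
  set u : Idx t k → F := (s * c₁) • ((γ : Matrix (Idx t k) (Idx t k) F) *ᵥ e₀) + ((s * c₁) * l + c₂) • e₀ with hu
  have hγu : (γ : Matrix (Idx t k) (Idx t k) F) *ᵥ u = l • u := by
    rw [hu, Matrix.mulVec_add, Matrix.mulVec_smul, Matrix.mulVec_smul, smul_add, smul_smul, smul_smul]
    have h1 := hR e₀
    have e : (s * c₁) • ((γ : Matrix (Idx t k) (Idx t k) F) *ᵥ ((γ : Matrix (Idx t k) (Idx t k) F) *ᵥ e₀)) =
        e₀ - c₂ • ((γ : Matrix (Idx t k) (Idx t k) F) *ᵥ e₀) := by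
      rw [eq_sub_iff_add_eq]
      exact h1.symm
    rw [e]
    have e3 : l * (s * c₁ * l + c₂) = 1 := by linear_combination hl
    rw [e3, one_smul, add_smul, mul_comm l (s * c₁)]
    abel
  have hu0 := hnoeig u l hγu
  rw [hu] at hu0
  apply he₀0
  apply hnoeig e₀ (-((s * c₁) * l + c₂) / (s * c₁))
  have h2 : (s * c₁) • ((γ : Matrix (Idx t k) (Idx t k) F) *ᵥ e₀) = -(((s * c₁) * l + c₂) • e₀) :=
    eq_neg_of_add_eq_zero_left hu0
  have h3 : (γ : Matrix (Idx t k) (Idx t k) F) *ᵥ e₀ =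
      (s * c₁)⁻¹ • ((s * c₁) • ((γ : Matrix (Idx t k) (Idx t k) F) *ᵥ e₀)) := by
    rw [smul_smul, inv_mul_cancel₀ (mul_ne_zero hs hc₁), one_smul]
  rw [h3, h2, smul_neg, smul_smul, ← neg_smul]
  congr 1
  field_simp

end PlaneCfg

end Cfsg.Agent.Lib.Helper26.TWUPlane
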