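import Mathlib
import Cfsg.Agent.Lib.Helper26.TWUIPlaneCfg
import Cfsg.Agent.Lib.Helper26.TWUIPlaneBCore

/-!
# S5672 Stage I, leaf I7-B `planeB`: PLANE ARGUMENT B (`k = 4`), exact signature of `notes/S5672_I_leaves.lean`
-/

set_option autoImplicit false
set_option linter.unusedSectionVars false
set_option linter.unusedVariables false

namespace Cfsg.Agent.Lib.Helper26.TWULeaf
open Matrix Cfsg.Geo Cfsg.Agent.Lib.Helper18.AschA89 Cfsg.Agent.Lib.Helper8.TW Cfsg.Agent.Lib.Helper5.TWU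
open Cfsg.Agent.Lib.Helper20.UT (hv)
open Cfsg.Agent.Lib.Helper23.TWUQ (NSp FCp)
open Cfsg.Agent.Lib.Helper26.TWUPlane

variable {F : Type*} [Field F] [Fintype F] {t k q : ℕ}

/-- I7-B PLANE ARGUMENT B, `k = 4` -/
theorem planeB {X : Subgroup (GL (Idx t k) F)} (c : CtxU q X) (hk4 : k = 4) (g : GL (Idx t k) F) (r₂ : RD t k F)
    (w : FRWU q X g r₂)
    (hx : ∀ r₁ : RD t k F, RU q r₁ → ∃ x : GL (Idx t k) F, KeyU c.hF g r₁ r₂ x r₁) : False := by
  obtain ⟨t', rfl⟩ : ∃ t', t = t' + 1 := ⟨t - 1, by have := c.ht; omega⟩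
  obtain ⟨y₁, y₂, γ, α, s, P⟩ := exists_planeCfg c (by omega) g r₂ w hx 0
  exact P.planeB_core hk4 (finrank_img_C26 g r₂)

end Cfsg.Agent.Lib.Helper26.TWULeaf
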