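import Cfsg.Agent.Lib.Helper26.TateNormA
import Cfsg.Agent.Lib.Helper22.FrobNorm
import Cfsg.Agent.Lib.Helper26.FSSylow

/-!
The group-theoretic heart of S5222: a group `A` of automorphisms of a normal subgroup `R ⊴ S` of a finite
`p`-group containing `Aut_S(R)` as a self-normalizing Sylow subgroup, preserving a subgroup `S' ≤ Q ≤ Φ(S)`, `Q ≤ R`,
and in which elements commuting with some `c_s`, `s ∉ R`, modulo `Inn R` are `p`-elements, is a `p`-group.
-/

set_option autoImplicit false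
set_option linter.unusedSectionVars false
set_option linter.style.haveILetI false

namespace Cfsg.Agent.Lib.Helper26

open Cfsg Cfsg.FusionSystem

variable {Ω : Type*} [Group Ω]

/-- Hypotheses of the normal Tate lemma. -/
structure NTHyp (p : ℕ) [Fact p.Prime] (S R Q : Subgroup Ω) {A : Type*} [Group A] (θ : A →* MulAut R)
    (T : Sylow p A) : Prop where
  hQR : Q ≤ R
  hRS : R ≤ S
  hSN : S ≤ Subgroup.normalizer (R : Set Ω)
  hcomm : ∀ a ∈ S, ∀ b ∈ S, a * b * a⁻¹ * b⁻¹ ∈ Q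
  hfrat : ∀ q : S, (q : Ω) ∈ Q → q ∈ frattini S
  hinj : Function.Injective θ
  hT : (T : Subgroup A) = (autInducedBy S R).comap θ
  hAS : autInducedBy S R ≤ θ.range
  hinv : ∀ a : A, ∀ x : R, (x : Ω) ∈ Q → ((θ a x : R) : Ω) ∈ Q
  hsn : ∀ a : A, (∀ t ∈ T, a * t * a⁻¹ ∈ T) → a ∈ T
  hfpf : ∀ (a t : A) (s : Ω) (hs : s ∈ S), s ∉ R → θ t = R.normalizerMonoidHom ⟨s, hSN hs⟩ →
    θ (a * t * a⁻¹ * t⁻¹) ∈ Inn R → ∃ k : ℕ, a ^ (p ^ k) = 1

namespace NTHyp

variable {p : ℕ} [Fact p.Prime] {S R Q : Subgroup Ω} {A : Type*} [Group A] {θ : A →* MulAut R}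
  {T : Sylow p A}

theorem mem_T_iff (h : NTHyp p S R Q θ T) (a : A) : a ∈ T ↔ θ a ∈ autInducedBy S R := by
  have : a ∈ (T : Subgroup A) ↔ a ∈ (autInducedBy S R).comap θ := by rw [h.hT]
  exact this

/-- Step 1: `A` acts trivially on `R/Q`. -/
theorem step1 [Finite A] (h : NTHyp p S R Q θ T) (a : A) (x : R) : ((x⁻¹ * θ a x : R) : Ω) ∈ Q := by
  let C : Subgroup A :=
    { carrier := {a | ∀ x : R, ((x⁻¹ * θ a x : R) : Ω) ∈ Q}
      one_mem' := fun x => by
        rw [map_one]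
        simp [Q.one_mem]
      mul_mem' := fun {a b} ha hb x => by
        have e : x⁻¹ * θ (a * b) x = (x⁻¹ * θ a x) * θ a (x⁻¹ * θ b x) := by
          rw [map_mul, MulAut.mul_apply, map_mul, map_inv]
          group
        rw [e, Subgroup.coe_mul]
        exact Q.mul_mem (ha x) (h.hinv a _ (hb x))
      inv_mem' := fun {a} ha x => by
        have hy := ha (θ a⁻¹ x)
        have e1 : θ a (θ a⁻¹ x) = x := by
          rw [map_inv]
          exact MulAut.apply_inv_self R (θ a) x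
        rw [e1] at hy
        have e : x⁻¹ * θ a⁻¹ x = ((θ a⁻¹ x)⁻¹ * x)⁻¹ := by group
        rw [e, Subgroup.coe_inv]
        exact Q.inv_mem hy }
  haveI : C.Normal := by
    constructor
    intro a ha b x
    have hy := ha (θ b⁻¹ x)
    have e1 : θ b (θ b⁻¹ x) = x := by
      rw [map_inv]
      exact MulAut.apply_inv_self R (θ b) x
    have e2 : θ (b * a * b⁻¹) x = θ b (θ a (θ b⁻¹ x)) := by
      rw [map_mul, map_mul]
      rfl
    have e : x⁻¹ * θ (b * a * b⁻¹) x = θ b ((θ b⁻¹ x)⁻¹ * θ a (θ b⁻¹ x)) := by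
      rw [e2, map_mul (θ b), map_inv (θ b), e1]
    rw [e]
    exact h.hinv b _ hy
  have hTC : (T : Subgroup A) ≤ C := by
    intro t ht x
    obtain ⟨g, hg, hgx⟩ := (mem_autInducedBy_iff S R _).mp ((h.mem_T_iff t).mp ht)
    rw [Subgroup.coe_mul, Subgroup.coe_inv, hgx x]
    have := h.hcomm (x : Ω)⁻¹ (S.inv_mem (h.hRS x.2)) g hg
    simpa [mul_assoc] using this
  have hfr := Sylow.normalizer_sup_eq_top' T hTC
  have hN : Subgroup.normalizer ((T : Subgroup A) : Set A) ≤ C := by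
    intro a ha
    apply hTC
    apply h.hsn a
    intro t ht
    exact (Subgroup.mem_normalizer_iff.mp ha t).mp ht
  have htop : C = ⊤ := by
    rw [eq_top_iff, ← hfr]
    exact sup_le hN le_rfl
  have : a ∈ C := by rw [htop]; trivial
  exact this x

/-- Elements of `I = θ⁻¹(Inn R)` lie in `T`. -/
theorem inn_le_T (h : NTHyp p S R Q θ T) {a : A} (ha : θ a ∈ Inn R) : a ∈ T := by
  rw [h.mem_T_iff, mem_autInducedBy_iff]
  obtain ⟨r, hr⟩ := ha
  refine ⟨r, h.hRS r.2, fun x => ?_⟩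
  rw [← hr]
  rfl

/-- Centralizers: if `A` is not a `p`-group then `C_S(R) ≤ R`. -/
theorem cent (h : NTHyp p S R Q θ T) (hA : ¬ IsPGroup p A) (s : Ω) (hs : s ∈ S)
    (hsx : ∀ x : R, s * (x : Ω) = x * s) : s ∈ R := by
  by_contra hsR
  apply hA
  intro a
  refine h.hfpf a 1 s hs hsR ?_ ?_
  · rw [map_one]
    ext x
    show (x : Ω) = s * x * s⁻¹
    rw [hsx x]
    group
  · have : a * 1 * a⁻¹ * 1⁻¹ = 1 := by group
    rw [this, map_one]
    exact Subgroup.one_mem _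

end NTHyp

end Cfsg.Agent.Lib.Helper26
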