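import Cfsg.Agent.Lib.Helper26.TateNormB

/-!
The normal Tate lemma: under `NTHyp`, the group `A` is a `p`-group.
-/

set_option autoImplicit false
set_option linter.unusedSectionVars false
set_option linter.style.haveILetI false

namespace Cfsg.Agent.Lib.Helper26

open Cfsg Cfsg.FusionSystem

variable {Ω : Type*} [Group Ω]

namespace NTHyp

variable {p : ℕ} [Fact p.Prime] {S R Q : Subgroup Ω} {A : Type*} [Group A] {θ : A →* MulAut R}
  {T : Sylow p A}

set_option maxHeartbeats 1600000 in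
theorem isPGroup [Finite S] [Finite A] (hS : IsPGroup p S) (h : NTHyp p S R Q θ T) : IsPGroup p A := by
  classical
  by_contra hA
  have hpp : p.Prime := Fact.out
  haveI : Finite R := finite_of_le h.hRS
  have hRp : IsPGroup p R := hS.to_le h.hRS
  -- the quotient `A / I`
  let I : Subgroup A := (Inn R).comap θ
  haveI hIn : I.Normal := inferInstance
  let π : A →* A ⧸ I := QuotientGroup.mk' I
  have hπ : Function.Surjective π := QuotientGroup.mk'_surjective I
  let P : Sylow p (A ⧸ I) := T.mapSurjective hπ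
  have hPcoe : (P : Subgroup (A ⧸ I)) = (T : Subgroup A).map π := rfl
  have f1 : ∀ a : A, π a ∈ P ↔ a ∈ T := by
    intro a
    constructor
    · intro ha
      have ha' : π a ∈ (T : Subgroup A).map π := ha
      obtain ⟨t, ht, hta⟩ := ha'
      have h1 : t⁻¹ * a ∈ I := by
        have : π t = π a := hta
        exact QuotientGroup.eq.mp this
      have h2 : t⁻¹ * a ∈ T := h.inn_le_T h1
      have : a = t * (t⁻¹ * a) := by group
      rw [this]
      exact T.mul_mem ht h2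
    · intro ha
      exact ⟨a, ha, rfl⟩
  -- elements of `T` commute modulo `I`
  have f2 : ∀ t ∈ T, ∀ t' ∈ T, π t * π t' = π t' * π t := by
    intro t ht t' ht'
    obtain ⟨g, hg, hgx⟩ := (mem_autInducedBy_iff S R _).mp ((h.mem_T_iff t).mp ht)
    obtain ⟨g', hg', hgx'⟩ := (mem_autInducedBy_iff S R _).mp ((h.mem_T_iff t').mp ht')
    have hc : g * g' * g⁻¹ * g'⁻¹ ∈ R := h.hQR (h.hcomm g hg g' hg')
    have h1 : θ (t * t' * t⁻¹ * t'⁻¹) ∈ Inn R := by
      refine ⟨⟨g * g' * g⁻¹ * g'⁻¹, hc⟩, ?_⟩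
      ext x
      rw [map_mul, map_mul, map_mul, map_inv, map_inv]
      show _ = (((θ t) ((θ t') ((θ t)⁻¹ ((θ t')⁻¹ x))) : R) : Ω)
      rw [hgx, hgx']
      have e1 : (((θ t)⁻¹ ((θ t')⁻¹ x) : R) : Ω) = g⁻¹ * ((θ t')⁻¹ x : R) * g := by
        have := hgx ((θ t)⁻¹ ((θ t')⁻¹ x))
        rw [MulAut.apply_inv_self] at this
        rw [this]
        group
      have e2 : (((θ t')⁻¹ x : R) : Ω) = g'⁻¹ * x * g' := by
        have := hgx' ((θ t')⁻¹ x)
        rw [MulAut.apply_inv_self] at this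
        rw [this]
        group
      rw [e1, e2]
      show g * g' * g⁻¹ * g'⁻¹ * (x : Ω) * (g * g' * g⁻¹ * g'⁻¹)⁻¹ = _
      group
    have h2 : t * t' * t⁻¹ * t'⁻¹ ∈ I := h1
    have h3 : π (t * t' * t⁻¹ * t'⁻¹) = 1 := (QuotientGroup.eq_one_iff _).mpr h2
    rw [map_mul, map_mul, map_mul, map_inv, map_inv] at h3
    have : π t * π t' = (π t * π t' * (π t)⁻¹ * (π t')⁻¹) * (π t' * π t) := by group
    rw [this, h3, one_mul]
  have f3 : ∀ g : A ⧸ I, g ∈ Subgroup.normalizer ((P : Subgroup (A ⧸ I)) : Set (A ⧸ I)) → g ∈ P := by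
    intro g hg
    obtain ⟨a, rfl⟩ := hπ g
    rw [f1]
    apply h.hsn a
    intro t ht
    rw [← f1, map_mul, map_mul, map_inv]
    exact (Subgroup.mem_normalizer_iff.mp hg (π t)).mp ((f1 t).mpr ht)
  have hP : Subgroup.normalizer ((P : Subgroup (A ⧸ I)) : Set (A ⧸ I)) ≤
      Subgroup.centralizer ((P : Subgroup (A ⧸ I)) : Set (A ⧸ I)) := by
    intro g hg
    have hgP := f3 g hg
    rw [Subgroup.mem_centralizer_iff]
    intro x hx
    have hgP' : g ∈ (T : Subgroup A).map π := hgP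
    have hx' : x ∈ (T : Subgroup A).map π := hx
    obtain ⟨t, ht, rfl⟩ := hgP'
    obtain ⟨t', ht', rfl⟩ := hx'
    exact f2 t' ht' t ht
  let K₀ : Subgroup (A ⧸ I) := (MonoidHom.transferSylow P hP).ker
  have hcompl : Subgroup.IsComplement' K₀ P := MonoidHom.ker_transferSylow_isComplement' P hP
  have hK₀p : ¬ p ∣ Nat.card K₀ := MonoidHom.not_dvd_card_ker_transferSylow P hP
  have hcop : (Nat.card K₀).Coprime p := ((Nat.Prime.coprime_iff_not_dvd hpp).mpr hK₀p).symm
  -- `p`-elements of `K₀` are trivial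
  have f4 : ∀ k ∈ K₀, ∀ j : ℕ, k ^ (p ^ j) = 1 → k = 1 := by
    intro k hk j hj
    have h1 : orderOf k ∣ p ^ j := orderOf_dvd_of_pow_eq_one hj
    have h2 : orderOf k ∣ Nat.card K₀ := by
      have := orderOf_dvd_natCard (⟨k, hk⟩ : K₀)
      rwa [Subgroup.orderOf_mk] at this
    have h3 : (Nat.card K₀).Coprime (p ^ j) := hcop.pow_right j
    have h4 : orderOf k = 1 := Nat.eq_one_of_dvd_coprimes h3 h2 h1
    exact orderOf_eq_one_iff.mp h4
  -- the action on the Frattini quotient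
  have hker : I ≤ (fqHom.comp θ).ker := by
    intro a ha
    obtain ⟨r, hr⟩ := (ha : θ a ∈ Inn R)
    rw [MonoidHom.mem_ker, MonoidHom.comp_apply, ← hr]
    exact fqHom_conj hRp r
  let ρ : A ⧸ I →* MulAut (R ⧸ frattini R) := QuotientGroup.lift I (fqHom.comp θ) hker
  have hρ : ∀ (a : A) (x : R), ρ (π a) (QuotientGroup.mk x : R ⧸ frattini R) = QuotientGroup.mk (θ a x) := by
    intro a x
    rfl
  let Y : Subgroup (R ⧸ frattini R) := (Q.subgroupOf R).map (QuotientGroup.mk' (frattini R))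
  have hY : ∀ g : A ⧸ I, ∀ y ∈ Y, ρ g y ∈ Y := by
    intro g y hy
    obtain ⟨a, rfl⟩ := hπ g
    obtain ⟨x, hx, rfl⟩ := hy
    exact ⟨θ a x, h.hinv a x hx, (hρ a x).symm⟩
  -- `Y` contains all the "commutators" with `A`
  have hYc : ∀ (a : A) (x : R), (QuotientGroup.mk (x⁻¹ * θ a x) : R ⧸ frattini R) ∈ Y := by
    intro a x
    exact ⟨x⁻¹ * θ a x, h.step1 a x, rfl⟩
  letI cM : CommGroup (R ⧸ frattini R) := fqCommGroup hRp
  letI cY : CommGroup Y :=
    { (inferInstance : Group Y) with mul_comm := fun a b => Subtype.ext (fq_comm hRp a b) }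
  let φ : A ⧸ I →* MulAut Y := restrictAct ρ Y hY
  have hKH : K₀ ⊓ (P : Subgroup (A ⧸ I)) = ⊥ := disjoint_iff.mp hcompl.disjoint
  have hKH' : K₀ ⊔ (P : Subgroup (A ⧸ I)) = ⊤ := hcompl.sup_eq_top
  have hfpf : ∀ x ∈ (P : Subgroup (A ⧸ I)), x ≠ 1 → ∀ k ∈ K₀, x * k = k * x → k = 1 := by
    intro x hx hx1 k hk hxk
    obtain ⟨t, ht, rfl⟩ := (hx : x ∈ (T : Subgroup A).map π)
    obtain ⟨a, rfl⟩ := hπ k
    have htI : θ t ∉ Inn R := by
      intro hcon
      apply hx1
      exact (QuotientGroup.eq_one_iff t).mpr hcon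
    obtain ⟨g, hg, hgx⟩ := (mem_autInducedBy_iff S R _).mp ((h.mem_T_iff t).mp ht)
    have hθt : θ t = R.normalizerMonoidHom ⟨g, h.hSN hg⟩ := by
      ext y
      exact hgx y
    have hgR : g ∉ R := by
      intro hgR
      apply htI
      refine ⟨⟨g, hgR⟩, ?_⟩
      ext y
      rw [hgx y]
      rfl
    have h1 : π (a * t * a⁻¹ * t⁻¹) = 1 := by
      have hxk' : π t * π a = π a * π t := hxk
      rw [map_mul, map_mul, map_mul, map_inv, map_inv]
      have : π a * π t * (π a)⁻¹ * (π t)⁻¹ = (π a * π t) * (π t * π a)⁻¹ := by group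
      rw [this, hxk', mul_inv_cancel]
    have h2' : a * t * a⁻¹ * t⁻¹ ∈ I := (QuotientGroup.eq_one_iff _).mp h1
    have h2 : θ (a * t * a⁻¹ * t⁻¹) ∈ Inn R := h2'
    obtain ⟨j, hj⟩ := h.hfpf a t g hg hgR hθt h2
    apply f4 (π a) hk j
    rw [← map_pow, hj, map_one]
  have hcopV : ∀ v : Y, v ^ Nat.card K₀ = 1 → v = 1 := by
    intro v hv
    have h1 : orderOf v ∣ Nat.card K₀ := orderOf_dvd_of_pow_eq_one hv
    have h2 : orderOf v ∣ p := by
      apply orderOf_dvd_of_pow_eq_one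
      apply Subtype.ext
      exact fq_pow hRp (v : R ⧸ frattini R)
    have h4 : orderOf v = 1 := Nat.eq_one_of_dvd_coprimes hcop h1 h2
    exact orderOf_eq_one_iff.mp h4
  have hact : ∃ k ∈ K₀, ∃ v : Y, φ k v ≠ v := by
    by_contra hcon
    push Not at hcon
    -- then `K₀` is trivial
    have hK₀ : ∀ k ∈ K₀, k = 1 := by
      intro k hk
      obtain ⟨a, rfl⟩ := hπ k
      -- `ρ (π a)` has order dividing `p`
      have hpow : ∀ (n : ℕ) (x : R), ((ρ (π a)) ^ n) (QuotientGroup.mk x : R ⧸ frattini R) =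
          QuotientGroup.mk x * (QuotientGroup.mk (x⁻¹ * θ a x)) ^ n := by
        intro n
        induction n with
        | zero => intro x; simp
        | succ n ih =>
          intro x
          have hfix : ρ (π a) (QuotientGroup.mk (x⁻¹ * θ a x) : R ⧸ frattini R) =
              QuotientGroup.mk (x⁻¹ * θ a x) := by
            have := hcon (π a) hk ⟨_, hYc a x⟩
            exact congrArg Subtype.val this
          rw [pow_succ', MulAut.mul_apply, ih x, map_mul, map_pow, hfix, hρ a x, pow_succ',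
            ← mul_assoc, ← QuotientGroup.mk_mul]
          congr 2
          group
      have hρp : (ρ (π a)) ^ p = 1 := by
        ext y
        induction y using QuotientGroup.induction_on with
        | H x =>
          rw [hpow p x, fq_pow hRp, mul_one]
          rfl
      have hρK : (ρ (π a)) ^ Nat.card K₀ = 1 := by
        have h1 : (⟨π a, hk⟩ : K₀) ^ Nat.card K₀ = 1 := pow_card_eq_one'
        have h2 : (π a) ^ Nat.card K₀ = 1 := by
          have := congrArg (fun z : K₀ => (z : A ⧸ I)) h1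
          exact this
        rw [← map_pow, h2, map_one]
      have hρ1 : ρ (π a) = 1 := by
        have h1 : orderOf (ρ (π a)) ∣ p := orderOf_dvd_of_pow_eq_one hρp
        have h2 : orderOf (ρ (π a)) ∣ Nat.card K₀ := orderOf_dvd_of_pow_eq_one hρK
        exact orderOf_eq_one_iff.mp (Nat.eq_one_of_dvd_coprimes hcop h2 h1)
      have htriv : ∀ x : R, x⁻¹ * θ a x ∈ frattini R := by
        intro x
        have h1 := hρ a x
        rw [hρ1] at h1
        have h2 : (QuotientGroup.mk x : R ⧸ frattini R) = QuotientGroup.mk (θ a x) := h1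
        exact QuotientGroup.eq.mp h2
      obtain ⟨j, hj⟩ := exists_pow_eq_one_of_frattini hRp (θ a) htriv
      have haj : a ^ (p ^ j) = 1 := by
        apply h.hinj
        rw [map_pow, hj, map_one]
      apply f4 (π a) hk j
      rw [← map_pow, haj, map_one]
    apply hA
    intro a
    have hPtop : (P : Subgroup (A ⧸ I)) = ⊤ := by
      have hbot : K₀ = ⊥ := by
        rw [eq_bot_iff]
        intro k hk
        rw [Subgroup.mem_bot]
        exact hK₀ k hk
      rw [hbot, bot_sup_eq] at hKH'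
      exact hKH'
    have haT : a ∈ T := by
      rw [← f1]
      show π a ∈ (P : Subgroup (A ⧸ I))
      rw [hPtop]
      trivial
    obtain ⟨j, hj⟩ := T.2 ⟨a, haT⟩
    refine ⟨j, ?_⟩
    have := congrArg Subtype.val hj
    simpa using this
  haveI : Fintype (A ⧸ I) := Fintype.ofFinite _
  let s : Finset (A ⧸ I) := Finset.univ.filter (· ∈ (P : Subgroup (A ⧸ I)))
  have hs : ∀ x, x ∈ s ↔ x ∈ (P : Subgroup (A ⧸ I)) := by
    intro x
    simp [s]
  obtain ⟨v, hv⟩ := Cfsg.Agent.Lib.Helper22.FrobNorm.exists_norm_ne_one φ K₀ (P : Subgroup (A ⧸ I))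
    hKH hKH' hfpf hcopV hact s hs
  apply hv
  -- the transfer argument
  obtain ⟨y, hy⟩ := v
  obtain ⟨q', hq', rfl⟩ := hy
  have hq'Q : (q' : Ω) ∈ Q := hq'
  -- conjugation by elements of `S`
  let c : S →* MulAut R := R.normalizerMonoidHom.comp (Subgroup.inclusion h.hSN)
  have hc : ∀ g : S, c g ∈ θ.range := by
    intro g
    apply h.hAS
    exact normalizerMonoidHom_mem_autInducedBy g.2 (h.hSN g.2)
  let τ : S →* A := (MonoidHom.ofInjective h.hinj).symm.toMonoidHom.comp (c.codRestrict θ.range hc)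
  have hτ : ∀ g : S, θ (τ g) = c g := by
    intro g
    exact MonoidHom.apply_ofInjective_symm h.hinj _
  let ψ : S →* A ⧸ I := π.comp τ
  have g1 : ∀ g : S, ψ g ∈ (P : Subgroup (A ⧸ I)) := by
    intro g
    show π (τ g) ∈ P
    rw [f1, h.mem_T_iff, hτ]
    exact normalizerMonoidHom_mem_autInducedBy g.2 (h.hSN g.2)
  have g2 : ∀ x ∈ (P : Subgroup (A ⧸ I)), ∃ g : S, ψ g = x := by
    intro x hx
    obtain ⟨t, ht, rfl⟩ := (hx : x ∈ (T : Subgroup A).map π)
    obtain ⟨g, hg, hgx⟩ := (mem_autInducedBy_iff S R _).mp ((h.mem_T_iff t).mp ht)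
    refine ⟨⟨g, hg⟩, ?_⟩
    show π (τ ⟨g, hg⟩) = π t
    congr 1
    apply h.hinj
    rw [hτ]
    ext z
    rw [hgx z]
    rfl
  have g3 : ∀ g : S, ψ g = 1 ↔ (g : Ω) ∈ R := by
    intro g
    constructor
    · intro hg
      have h1 : τ g ∈ I := (QuotientGroup.eq_one_iff _).mp hg
      have h2 : θ (τ g) ∈ Inn R := h1
      rw [hτ] at h2
      obtain ⟨r, hr⟩ := h2
      have h3 : ∀ x : R, (r : Ω)⁻¹ * g * (x : Ω) = x * ((r : Ω)⁻¹ * g) := by
        intro x
        have := congrArg (fun α : MulAut R => ((α x : R) : Ω)) hr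
        have h4 : (r : Ω) * x * (r : Ω)⁻¹ = (g : Ω) * x * (g : Ω)⁻¹ := this
        calc (r : Ω)⁻¹ * g * (x : Ω) = (r : Ω)⁻¹ * ((g : Ω) * x * (g : Ω)⁻¹) * g := by group
          _ = (r : Ω)⁻¹ * ((r : Ω) * x * (r : Ω)⁻¹) * g := by rw [h4]
          _ = x * ((r : Ω)⁻¹ * g) := by group
      have h5 := h.cent hA ((r : Ω)⁻¹ * g) (S.mul_mem (S.inv_mem (h.hRS r.2)) g.2)
        (fun x => by rw [h3 x])
      have : (g : Ω) = r * ((r : Ω)⁻¹ * g) := by group
      rw [this]
      exact R.mul_mem r.2 h5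
    · intro hg
      apply (QuotientGroup.eq_one_iff _).mpr
      show θ (τ g) ∈ Inn R
      rw [hτ]
      refine ⟨⟨g, hg⟩, ?_⟩
      ext x
      rfl
  -- the transfer `S → R ⧸ Φ(R)`
  let H : Subgroup S := R.subgroupOf S
  haveI hHn : H.Normal := (Subgroup.normal_subgroupOf_iff_le_normalizer h.hRS).mpr h.hSN
  haveI : Fintype (S ⧸ H) := Fintype.ofFinite _
  let ϕ : H →* R ⧸ frattini R :=
    (QuotientGroup.mk' (frattini R)).comp (Subgroup.subgroupOfEquivOfLe h.hRS).toMonoidHom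
  have hϕ : ∀ (z : S) (hz : z ∈ H), ϕ ⟨z, hz⟩ = QuotientGroup.mk (⟨(z : Ω), hz⟩ : R) := fun z hz => rfl
  let qS : S := ⟨(q' : Ω), h.hRS q'.2⟩
  have hqS : qS ∈ H := q'.2
  have t1 : MonoidHom.transfer ϕ qS = 1 := by
    have h1 : qS ∈ frattini S := h.hfrat qS hq'Q
    have h2 := Cfsg.Agent.Lib.Helper16.frattini_le_ker (p := p) (fq_pow hRp) (MonoidHom.transfer ϕ) h1
    exact h2
  rw [transfer_normal ϕ qS hqS] at t1
  -- reindexing
  have hcoe : ∀ (s : Finset (A ⧸ I)) (f : A ⧸ I → Y),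
      ((∏ x ∈ s, f x : Y) : R ⧸ frattini R) = ∏ x ∈ s, (f x : R ⧸ frattini R) := by
    intro s f
    induction s using Finset.induction_on with
    | empty => rfl
    | insert a s ha ih =>
      rw [Finset.prod_insert ha, Finset.prod_insert ha, ← ih]
      rfl
  apply Subtype.ext
  rw [hcoe]
  show ∏ x ∈ s, ρ x (QuotientGroup.mk q' : R ⧸ frattini R) = 1
  rw [← t1]
  symm
  apply Finset.prod_bij (fun (d : S ⧸ H) _ => (ψ d.out)⁻¹)
  · intro d _
    rw [hs]
    exact Subgroup.inv_mem _ (g1 d.out)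
  · intro d _ d' _ hdd'
    have h1 : ψ d.out = ψ d'.out := inv_injective hdd'
    have h2 : ψ (d.out⁻¹ * d'.out) = 1 := by
      rw [map_mul, map_inv, h1, inv_mul_cancel]
    have h3 : d.out⁻¹ * d'.out ∈ H := (g3 _).mp h2
    have h4 : (QuotientGroup.mk d.out : S ⧸ H) = QuotientGroup.mk d'.out := QuotientGroup.eq.mpr h3
    rw [QuotientGroup.out_eq', QuotientGroup.out_eq'] at h4
    exact h4
  · intro x hx
    rw [hs] at hx
    obtain ⟨g, hg⟩ := g2 x⁻¹ (Subgroup.inv_mem _ hx)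
    refine ⟨QuotientGroup.mk g, Finset.mem_univ _, ?_⟩
    obtain ⟨z, hz⟩ := QuotientGroup.mk_out_eq_mul H g
    have h1 : ψ (z : S) = 1 := (g3 _).mpr z.2
    rw [hz, map_mul, h1, mul_one, hg, inv_inv]
  · intro d _
    rw [hϕ]
    have e1 : (ψ d.out)⁻¹ = π (τ d.out⁻¹) := by
      show (π (τ d.out))⁻¹ = _
      rw [map_inv, map_inv]
    rw [e1, hρ, hτ]
    congr 1
    apply Subtype.ext
    show (d.out : Ω)⁻¹ * q' * d.out = (d.out⁻¹ : S) * q' * ((d.out⁻¹ : S) : Ω)⁻¹
    simp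

end NTHyp

end Cfsg.Agent.Lib.Helper26
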