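import Cfsg.Agent.Lib.Helper26.TateNormC
import Cfsg.Agent.Lib.Helper26.CenIdxB
import Cfsg.Agent.Lib.Helper26.FSFrobenius
import Cfsg.Agent.Lib.Helper26.FSNormalizerConstrained

/-!
S5222: a saturated fusion system `F` over `S` with `Aut_F(S) = Inn(S)` and a normal subgroup `Q` with
`S' ≤ Q ≤ Φ(S)` is the inner fusion system.
-/

set_option autoImplicit false
set_option linter.unusedSectionVars false
set_option linter.style.haveILetI false

namespace Cfsg.Agent.Lib.Helper26

open Cfsg Cfsg.FusionSystem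
open scoped commutatorElement

variable {Ω : Type*} [Group Ω] {S : Subgroup Ω}

/-- Extension of an automorphism of a receptive subgroup `R` to an overgroup `T'` of `R` in `N_S(R)` containing
`C_S(R)` and such that `α c_t α⁻¹ = c_{t'}` with `t' ∈ T'` for all `t ∈ T'`. -/
theorem exists_extension_sub [Finite S] (F : FusionSystem S) {R : Subgroup Ω} (hRec : F.IsReceptive R)
    {T' : Subgroup Ω} (hRT : R ≤ T') (hTS : T' ≤ S) (hTN : T' ≤ Subgroup.normalizer (R : Set Ω))
    {α : MulAut R} (hα : α ∈ F.autGroup R)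
    (hcl : ∀ t ∈ T', ∃ t' ∈ T', ∀ (x : R) (hx : t * (x : Ω) * t⁻¹ ∈ R),
      ((α ⟨t * x * t⁻¹, hx⟩ : R) : Ω) = t' * (α x : R) * t'⁻¹)
    (hC : ∀ z ∈ S, (∀ x : R, z * (x : Ω) = x * z) → z ∈ T') :
    ∃ β ∈ F.autGroup T', ∀ x : R, β (Subgroup.inclusion hRT x) = Subgroup.inclusion hRT (α x) := by
  have hRS : R ≤ S := hRec.1
  haveI : Finite T' := finite_of_le hTS
  have hαF : equivHom (α : R ≃* R) ∈ F.Hom R := (mem_autGroup_iff F hRS α).mp hα
  obtain ⟨ψ, hψ, hψα⟩ := hRec.2 R (equivHom (α : R ≃* R)) hαF (equivHom_range _)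
  have hext : T' ≤ extender S R (equivHom (α : R ≃* R)) := by
    intro t ht
    rw [mem_extender_iff]
    refine ⟨hTS ht, hTN ht, ?_⟩
    obtain ⟨t', ht', htt'⟩ := hcl t ht
    exact ⟨t', hTS ht', fun x hx => htt' x hx⟩
  have hψT : ψ.comp (Subgroup.inclusion hext) ∈ F.Hom T' := inclusion_comp_mem F hext hψ
  have hψR : ∀ (x : R), ψ ⟨(x : Ω), hext (hRT x.2)⟩ = ((α x : R) : Ω) := by
    intro x
    exact hψα x.1 x.2 (hext (hRT x.2))
  have hr : (ψ.comp (Subgroup.inclusion hext)).range = T' := by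
    apply Subgroup.eq_of_le_of_card_ge
    · rintro _ ⟨t, rfl⟩
      show ψ ⟨(t : Ω), hext t.2⟩ ∈ T'
      set u := ψ ⟨(t : Ω), hext t.2⟩ with hu
      have huS : u ∈ S := hom_apply_mem F hψ _
      obtain ⟨t', ht', htt'⟩ := hcl t t.2
      -- `u` and `t'` induce the same automorphism of `R`
      have hconj : ∀ y : R, u * (y : Ω) * u⁻¹ = t' * y * t'⁻¹ := by
        intro y
        obtain ⟨x, rfl⟩ := α.surjective y
        have hx : (t : Ω) * x * (t : Ω)⁻¹ ∈ R := by
          have := (Subgroup.mem_normalizer_iff.mp (hTN t.2) x).mp x.2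
          exact this
        have h1 := htt' x hx
        have h2 : ψ ⟨(t : Ω) * x * (t : Ω)⁻¹, hext (hRT hx)⟩ = u * (α x : R) * u⁻¹ := by
          have e : (⟨(t : Ω) * x * (t : Ω)⁻¹, hext (hRT hx)⟩ : extender S R (equivHom (α : R ≃* R))) =
              ⟨(t : Ω), hext t.2⟩ * ⟨(x : Ω), hext (hRT x.2)⟩ * ⟨(t : Ω), hext t.2⟩⁻¹ := by
            apply Subtype.ext
            rfl
          rw [e, map_mul, map_mul, map_inv, hψR x]
        have h3 := hψR ⟨(t : Ω) * x * (t : Ω)⁻¹, hx⟩
        rw [← h2, ← h1]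
        exact h3
      have hz : t'⁻¹ * u ∈ T' := by
        apply hC _ (S.mul_mem (S.inv_mem (hTS ht')) huS)
        intro y
        have := hconj y
        calc t'⁻¹ * u * (y : Ω) = t'⁻¹ * (u * (y : Ω) * u⁻¹) * u := by group
          _ = t'⁻¹ * (t' * y * t'⁻¹) * u := by rw [this]
          _ = y * (t'⁻¹ * u) := by group
      have : u = t' * (t'⁻¹ * u) := by group
      rw [this]
      exact T'.mul_mem ht' hz
    · rw [Nat.card_congr (MonoidHom.ofInjective (F.injective_of_mem hψT)).toEquiv]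
  refine ⟨homEquiv F hψT hr, ?_, fun x => ?_⟩
  · rw [mem_autGroup_iff_isFIso F hTS]
    exact homEquiv_isFIso F hψT hr
  · apply Subtype.ext
    exact hψR x

/-- An automorphism of `R ⊴ S` commuting modulo `Inn R` with conjugation by some `s ∈ S ∖ R` extends to a
strictly larger subgroup; so it is a `p`-element if all larger automizers are `p`-groups. -/
theorem fpf_aux [Finite S] {p : ℕ} [Fact p.Prime] (F : FusionSystem S) {R : Subgroup Ω}
    (hRec : F.IsReceptive R) (hSN : S ≤ Subgroup.normalizer (R : Set Ω))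
    (IH : ∀ R' : Subgroup Ω, R ≤ R' → R' ≤ S → Nat.card R < Nat.card R' → IsPGroup p (F.autGroup R'))
    {α : MulAut R} (hα : α ∈ F.autGroup R) (s : Ω) (hs : s ∈ S) (hsR : s ∉ R)
    (hcomm : α * R.normalizerMonoidHom ⟨s, hSN hs⟩ * α⁻¹ * (R.normalizerMonoidHom ⟨s, hSN hs⟩)⁻¹ ∈ Inn R) :
    ∃ k : ℕ, α ^ (p ^ k) = 1 := by
  have hRS : R ≤ S := hRec.1
  haveI : Finite R := finite_of_le hRS
  let c : S →* MulAut R := R.normalizerMonoidHom.comp (Subgroup.inclusion hSN)
  let B : Subgroup (MulAut R) :=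
    (Subgroup.centralizer {QuotientGroup.mk' (Inn R) α}).comap (QuotientGroup.mk' (Inn R))
  have memB : ∀ β : MulAut R, β ∈ B ↔ α * β * α⁻¹ * β⁻¹ ∈ Inn R := by
    intro β
    show QuotientGroup.mk' (Inn R) β ∈ Subgroup.centralizer {QuotientGroup.mk' (Inn R) α} ↔ _
    rw [Subgroup.mem_centralizer_iff, ← QuotientGroup.eq_one_iff]
    simp only [Set.mem_singleton_iff, forall_eq, QuotientGroup.mk'_apply, QuotientGroup.mk_mul,
      QuotientGroup.mk_inv]
    constructor
    · intro h
      rw [h]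
      group
    · intro h
      have : (QuotientGroup.mk α : MulAut R ⧸ Inn R) * QuotientGroup.mk β =
          ((QuotientGroup.mk α : MulAut R ⧸ Inn R) * QuotientGroup.mk β * (QuotientGroup.mk α)⁻¹ *
            (QuotientGroup.mk β)⁻¹) * (QuotientGroup.mk β * QuotientGroup.mk α) := by group
      rw [this, h, one_mul]
  let T' : Subgroup Ω := (B.comap c).map S.subtype
  have memT : ∀ t : Ω, t ∈ T' ↔ ∃ ht : t ∈ S, c ⟨t, ht⟩ ∈ B := by
    intro t
    constructor
    · rintro ⟨z, hz, rfl⟩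
      exact ⟨z.2, hz⟩
    · rintro ⟨ht, hB⟩
      exact ⟨⟨t, ht⟩, hB, rfl⟩
  have hcR : ∀ (r : Ω) (hr : r ∈ R), c ⟨r, hRS hr⟩ = MulAut.conj (⟨r, hr⟩ : R) := by
    intro r hr
    ext x
    rfl
  have hRT : R ≤ T' := by
    intro r hr
    rw [memT]
    refine ⟨hRS hr, ?_⟩
    rw [memB, hcR r hr]
    have h1 : MulAut.conj (⟨r, hr⟩ : R) ∈ Inn R := ⟨_, rfl⟩
    have h2 : α * MulAut.conj (⟨r, hr⟩ : R) * α⁻¹ ∈ Inn R := (Cfsg.innNormal R).conj_mem _ h1 α
    exact (Inn R).mul_mem h2 ((Inn R).inv_mem h1)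
  have hTS : T' ≤ S := Subgroup.map_subtype_le _
  have hsT : s ∈ T' := by
    rw [memT]
    refine ⟨hs, ?_⟩
    rw [memB]
    exact hcomm
  obtain ⟨β, hβ, hβα⟩ := exists_extension_sub F hRec hRT hTS (hTS.trans hSN) hα
    (by
      intro t ht
      obtain ⟨htS, hB⟩ := (memT t).mp ht
      rw [memB] at hB
      obtain ⟨r, hr⟩ := hB
      refine ⟨(r : Ω) * t, T'.mul_mem (hRT r.2) ht, fun x hx => ?_⟩
      have h1 := congrArg (fun γ : MulAut R => ((γ (c ⟨t, htS⟩ (α x)) : R) : Ω)) hr
      simp only [MulAut.mul_apply, MulAut.inv_apply_self] at h1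
      have h2 : ((α (c ⟨t, htS⟩ x) : R) : Ω) = (r : Ω) * ((c ⟨t, htS⟩ (α x) : R) : Ω) * (r : Ω)⁻¹ := by
        rw [← h1]
        rfl
      have h3 : c ⟨t, htS⟩ x = ⟨t * x * t⁻¹, hx⟩ := rfl
      have h4 : ((c ⟨t, htS⟩ (α x) : R) : Ω) = t * (α x : R) * t⁻¹ := rfl
      rw [← h3, h2, h4]
      group)
    (by
      intro z hz hzx
      rw [memT]
      refine ⟨hz, ?_⟩
      have h1 : c ⟨z, hz⟩ = 1 := by
        ext x
        show z * (x : Ω) * z⁻¹ = x
        rw [hzx x]
        group
      rw [memB, h1]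
      have : α * 1 * α⁻¹ * (1 : MulAut R)⁻¹ = 1 := by group
      rw [this]
      exact Subgroup.one_mem _)
  have hlt : Nat.card R < Nat.card T' := by
    haveI : Finite T' := finite_of_le hTS
    by_contra hh
    push Not at hh
    have := Subgroup.eq_of_le_of_card_ge hRT hh
    exact hsR (this ▸ hsT)
  have hTp := IH T' hRT hTS hlt
  obtain ⟨k, hk⟩ := hTp ⟨β, hβ⟩
  have hk' : β ^ (p ^ k) = 1 := by
    have := congrArg (fun z : F.autGroup T' => (z : MulAut T')) hk
    exact this
  refine ⟨k, ?_⟩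
  have hpow : ∀ (n : ℕ) (x : R), (β ^ n) (Subgroup.inclusion hRT x) = Subgroup.inclusion hRT ((α ^ n) x) := by
    intro n
    induction n with
    | zero => intro x; rfl
    | succ n ih =>
      intro x
      rw [pow_succ', MulAut.mul_apply, ih x, hβα, pow_succ', MulAut.mul_apply]
  ext x
  have h1 := hpow (p ^ k) x
  rw [hk'] at h1
  have h2 := Subgroup.inclusion_injective hRT h1
  rw [← h2]
  rfl

/-- **Core of S5222.** All automizers of overgroups of `Q` are `p`-groups. -/
theorem isPGroup_aut_of_normal_frattini [Finite S] {p : ℕ} [Fact p.Prime] (hS : IsPGroup p S)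
    (F : FusionSystem S) (hF : F.IsSaturated p) {Q : Subgroup Ω} (hQ : F.IsNormal Q)
    (h1 : (commutator S).map S.subtype ≤ Q) (h2 : Q ≤ (frattini S).map S.subtype)
    (hAS : F.autGroup S ≤ autInducedBy S S) :
    ∀ R : Subgroup Ω, Q ≤ R → R ≤ S → IsPGroup p (F.autGroup R) := by
  have hcomm : ∀ a ∈ S, ∀ b ∈ S, a * b * a⁻¹ * b⁻¹ ∈ Q := by
    intro a ha b hb
    apply h1
    refine ⟨⁅(⟨a, ha⟩ : S), ⟨b, hb⟩⁆, ?_, rfl⟩
    exact Subgroup.commutator_mem_commutator (Subgroup.mem_top _) (Subgroup.mem_top _)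
  have main : ∀ n : ℕ, ∀ R : Subgroup Ω, Q ≤ R → R ≤ S → Nat.card S - Nat.card R = n →
      IsPGroup p (F.autGroup R) := by
    intro n
    induction n using Nat.strong_induction_on with
    | _ n ih =>
      intro R hQR hRS hn
      haveI : Finite R := finite_of_le hRS
      have IH : ∀ R' : Subgroup Ω, R ≤ R' → R' ≤ S → Nat.card R < Nat.card R' →
          IsPGroup p (F.autGroup R') := by
        intro R' hRR' hR'S hlt
        have hR'card : Nat.card R' ≤ Nat.card S := Subgroup.card_le_of_le hR'S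
        exact ih (Nat.card S - Nat.card R') (by omega) R' (hQR.trans hRR') hR'S rfl
      have hSN : S ≤ Subgroup.normalizer (R : Set Ω) := by
        intro g hg
        apply mem_normalizer_of_conj_mem_finite
        intro y hy
        have h3 := hQR (hcomm g hg y (hRS hy))
        have : g * y * g⁻¹ = (g * y * g⁻¹ * y⁻¹) * y := by group
        rw [this]
        exact R.mul_mem h3 hy
      have hNR : normalizerIn S R = S := le_antisymm inf_le_left (le_inf le_rfl hSN)
      have hfn : F.IsFullyNormalized R := by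
        refine ⟨hRS, fun Q' _ => ?_⟩
        rw [hNR]
        exact Subgroup.card_le_of_le (normalizerIn_le S Q')
      obtain ⟨-, -, T, hT⟩ := saturated_fn hS F hF hfn
      have hRec := saturated_fn_receptive hS F hF hfn
      have hmemT : ∀ a : F.autGroup R, a ∈ T ↔ (a : MulAut R) ∈ autInducedBy S R := by
        intro a
        have : a ∈ (T : Subgroup (F.autGroup R)) ↔ a ∈ (autInducedBy S R).subgroupOf (F.autGroup R) := by
          rw [hT]
        exact this
      have hNT : NTHyp p S R Q (F.autGroup R).subtype T := by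
        refine ⟨hQR, hRS, hSN, hcomm, ?_, Subtype.val_injective, hT, ?_, ?_, ?_, ?_⟩
        · intro q hq
          obtain ⟨z, hz, hzq⟩ := h2 hq
          have : z = q := Subtype.ext hzq
          rw [← this]
          exact hz
        · rw [Subgroup.range_subtype]
          exact autInducedBy_le_autGroup F hRS
        · -- invariance of `Q`
          intro a x hx
          have haF : equivHom ((a : MulAut R) : R ≃* R) ∈ F.Hom R := (mem_autGroup_iff F hRS _).mp a.2
          obtain ⟨ψ, -, hψa, hψQ⟩ := hQ.2 R _ haF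
          have h3 := ((map_subgroupOf_eq_iff ψ).mp hψQ).1 (Subgroup.inclusion le_sup_left x) hx
          rw [hψa x] at h3
          exact h3
        · -- `T` is self-normalizing
          intro a ha
          have hnorm : ∀ α ∈ autInducedBy S R, (a : MulAut R) * α * (a : MulAut R)⁻¹ ∈ autInducedBy S R := by
            intro α hα
            have hαF : α ∈ F.autGroup R := autInducedBy_le_autGroup F hRS hα
            have := ha ⟨α, hαF⟩ ((hmemT _).mpr hα)
            exact (hmemT _).mp this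
          obtain ⟨νh, hνh, hνx⟩ := exists_extension hS F hF hfn hSN a.2 hnorm
          obtain ⟨g, hg, hgx⟩ := (mem_autInducedBy_iff S S νh).mp (hAS hνh)
          rw [hmemT, mem_autInducedBy_iff]
          refine ⟨g, hg, fun x => ?_⟩
          have h3 := hgx (Subgroup.inclusion hfn.1 x)
          rw [hνx x] at h3
          exact h3
        · -- the fixed-point-free condition
          intro a t s hs hsR ht hI
          obtain ⟨k, hk⟩ := fpf_aux F hRec hSN IH a.2 s hs hsR (by
            rw [← ht]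
            exact hI)
          refine ⟨k, ?_⟩
          apply Subtype.ext
          exact hk
      exact hNT.isPGroup hS
  intro R hQR hRS
  exact main _ R hQR hRS rfl

/-- **S5222, abstract form.** A saturated fusion system with `Aut_F(S) = Inn(S)` having a normal subgroup `Q`
with `S' ≤ Q ≤ Φ(S)` is the inner fusion system. -/
theorem eq_inner_of_normal_frattini [Finite S] {p : ℕ} [Fact p.Prime] (hS : IsPGroup p S)
    (F : FusionSystem S) (hF : F.IsSaturated p) {Q : Subgroup Ω} (hQ : F.IsNormal Q)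
    (h1 : (commutator S).map S.subtype ≤ Q) (h2 : Q ≤ (frattini S).map S.subtype)
    (hAS : F.autGroup S ≤ autInducedBy S S) : F = innerFusionSystem S := by
  apply eq_inner_of_forall_isPGroup hS F hF
  intro P hP
  have hPQS : P ⊔ Q ≤ S := sup_le hP hQ.1
  haveI : Finite ↥(P ⊔ Q) := finite_of_le hPQS
  have hPQ := isPGroup_aut_of_normal_frattini hS F hF hQ h1 h2 hAS (P ⊔ Q) le_sup_right hPQS
  rintro ⟨α, hα⟩
  have hαF : equivHom (α : P ≃* P) ∈ F.Hom P := (mem_autGroup_iff F hP α).mp hα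
  obtain ⟨ψ, hψ, hψα, hψQ⟩ := hQ.2 P _ hαF
  have hr : ψ.range = P ⊔ Q := by
    apply Subgroup.eq_of_le_of_card_ge
    · rintro _ ⟨x, rfl⟩
      have := ext_apply_mem_sup (equivHom (α : P ≃* P)) ψ hψα hψQ x
      rw [equivHom_range] at this
      exact this
    · rw [Nat.card_congr (MonoidHom.ofInjective (F.injective_of_mem hψ)).toEquiv]
  have hβ : (homEquiv F hψ hr : MulAut ↥(P ⊔ Q)) ∈ F.autGroup (P ⊔ Q) := by
    rw [mem_autGroup_iff_isFIso F hPQS]
    exact homEquiv_isFIso F hψ hr
  obtain ⟨k, hk⟩ := hPQ ⟨homEquiv F hψ hr, hβ⟩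
  have hk' : (homEquiv F hψ hr : MulAut ↥(P ⊔ Q)) ^ (p ^ k) = 1 := by
    have := congrArg (fun z : F.autGroup (P ⊔ Q) => (z : MulAut ↥(P ⊔ Q))) hk
    exact this
  refine ⟨k, ?_⟩
  apply Subtype.ext
  show α ^ (p ^ k) = 1
  have hle : P ≤ P ⊔ Q := le_sup_left
  have hpow : ∀ (n : ℕ) (x : P), ((homEquiv F hψ hr : MulAut ↥(P ⊔ Q)) ^ n) (Subgroup.inclusion hle x) =
      Subgroup.inclusion hle ((α ^ n) x) := by
    intro n
    induction n with
    | zero => intro x; rfl
    | succ n ih =>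
      intro x
      rw [pow_succ', MulAut.mul_apply, ih x, pow_succ', MulAut.mul_apply]
      apply Subtype.ext
      exact hψα ((α ^ n) x)
  ext x
  have h3 := hpow (p ^ k) x
  rw [hk'] at h3
  have h4 := Subgroup.inclusion_injective hle h3
  rw [← h4]
  rfl

/-- Transport of the hypotheses along an equality of subgroups. -/
theorem eq_inner_of_normal_frattini' [Finite S] {p : ℕ} [Fact p.Prime] (hS : IsPGroup p S)
    (F : FusionSystem S) {T : Subgroup Ω} (hT : T = S) (N : FusionSystem T) (hN : N.IsSaturated p)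
    (hNF : N.IsSubsystemOf F) {Q : Subgroup Ω} (hQ : N.IsNormal Q)
    (h1 : (commutator S).map S.subtype ≤ Q) (h2 : Q ≤ (frattini S).map S.subtype)
    (hAS : F.autGroup S ≤ autInducedBy S S) : N = innerFusionSystem T := by
  subst hT
  apply eq_inner_of_normal_frattini hS N hN hQ h1 h2
  intro α hα
  apply hAS
  rw [mem_autGroup_iff F le_rfl]
  exact hNF _ ((mem_autGroup_iff N le_rfl α).mp hα)

/-- **S5222.** -/
theorem normalizer_inner_of_frattini [Finite S] {p : ℕ} [Fact p.Prime] (hS : IsPGroup p S)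
    (F : FusionSystem S) (hF : F.IsSaturated p)
    (hN : ∀ N : FusionSystem (normalizerIn S S), F.IsNormalizerSystem S N →
      ∀ P : Subgroup Ω, N.Hom P = (innerFusionSystem (normalizerIn S S)).Hom P)
    (Q : Subgroup Ω) (h1 : (commutator S).map S.subtype ≤ Q) (h2 : Q ≤ (frattini S).map S.subtype)
    (N : FusionSystem (normalizerIn S Q)) (hNQ : F.IsNormalizerSystem Q N) :
    N = innerFusionSystem (normalizerIn S Q) := by
  have hQS : Q ≤ S := h2.trans (Subgroup.map_subtype_le _)
  haveI : Finite Q := finite_of_le hQS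
  -- `Aut_F(S) = Aut_S(S)`
  have hAS : F.autGroup S ≤ autInducedBy S S := by
    intro α hα
    have hN₀ := normalizerSystem_isNormalizerSystem F S le_rfl
    have hSN : S ≤ normalizerIn S S := le_normalizerIn le_rfl
    have h3 : α ∈ (normalizerSystem F S le_rfl).autGroup S := by
      rw [autGroup_eq_of_isNormalizerSystem F le_rfl _ hN₀]
      exact hα
    have h4 := (mem_autGroup_iff _ hSN α).mp h3
    rw [hN _ hN₀ S] at h4
    obtain ⟨-, g, hg, hgx⟩ := h4
    rw [mem_autInducedBy_iff]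
    exact ⟨g, normalizerIn_le S S hg, fun x => hgx x⟩
  have hcomm : ∀ a ∈ S, ∀ b ∈ S, a * b * a⁻¹ * b⁻¹ ∈ Q := by
    intro a ha b hb
    apply h1
    refine ⟨⁅(⟨a, ha⟩ : S), ⟨b, hb⟩⁆, ?_, rfl⟩
    exact Subgroup.commutator_mem_commutator (Subgroup.mem_top _) (Subgroup.mem_top _)
  have hSNQ : S ≤ Subgroup.normalizer (Q : Set Ω) := by
    intro g hg
    apply mem_normalizer_of_conj_mem_finite
    intro y hy
    have h3 := hcomm g hg y (hQS hy)
    have : g * y * g⁻¹ = (g * y * g⁻¹ * y⁻¹) * y := by group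
    rw [this]
    exact Q.mul_mem h3 hy
  have hT : normalizerIn S Q = S := le_antisymm inf_le_left (le_inf le_rfl hSNQ)
  have hfn : F.IsFullyNormalized Q := by
    refine ⟨hQS, fun Q' _ => ?_⟩
    rw [hT]
    exact Subgroup.card_le_of_le (normalizerIn_le S Q')
  have hNsat := normalizerSystem_saturated hS F hF hfn N hNQ
  have hQN := isNormal_of_isNormalizerSystem F hQS N hNQ
  have hNF : N.IsSubsystemOf F := by
    intro P φ hφ
    rw [hNQ P] at hφ
    exact hφ.1
  exact eq_inner_of_normal_frattini' hS F hT N hNsat hNF hQN h1 h2 hAS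

end Cfsg.Agent.Lib.Helper26
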