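import Cfsg.Agent.Lib.Helper26.EssTransvC
import Cfsg.Agent.Lib.Helper26.OrderPCubeA
import Cfsg.Agent.Lib.Helper26.FSSatEquiv

/-!
Two transvections on a finite abelian `p`-group `H` (part A): the homomorphism `y ↦ y⁻¹ t(y)`, products of
subgroups, and the basic dichotomy: if the centre of one transvection lies in the axis of the other, the two
generate a `p`-group.
-/

set_option autoImplicit false
universe u

namespace Cfsg.Agent.Lib.Helper26

open Cfsg

section TwoTransvA

variable {H : Type u} [Group H]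

/-- `y ↦ y⁻¹ t(y)` as a homomorphism of the abelian group `H`. -/
def wHom (hab : ∀ a b : H, a * b = b * a) (t : MulAut H) : H →* H where
  toFun y := y⁻¹ * t y
  map_one' := by simp
  map_mul' a b := by
    calc (a * b)⁻¹ * t (a * b) = a⁻¹ * (b⁻¹ * t a) * t b := by
          rw [map_mul, mul_inv_rev, hab b⁻¹ a⁻¹]; simp only [mul_assoc]
      _ = a⁻¹ * (t a * b⁻¹) * t b := by rw [hab b⁻¹ (t a)]
      _ = a⁻¹ * t a * (b⁻¹ * t b) := by simp only [mul_assoc]

@[simp] theorem wHom_apply (hab : ∀ a b : H, a * b = b * a) (t : MulAut H) (y : H) :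
    wHom hab t y = y⁻¹ * t y := rfl

theorem mem_ker_wHom (hab : ∀ a b : H, a * b = b * a) (t : MulAut H) (y : H) :
    y ∈ (wHom hab t).ker ↔ t y = y := by
  rw [MonoidHom.mem_ker, wHom_apply, inv_mul_eq_one]
  exact eq_comm

/-- The product of two subgroups of an abelian group. -/
def prodSub (hab : ∀ a b : H, a * b = b * a) (K L : Subgroup H) : Subgroup H where
  carrier := {x | ∃ k ∈ K, ∃ l ∈ L, x = k * l}
  one_mem' := ⟨1, K.one_mem, 1, L.one_mem, by simp⟩
  mul_mem' := by
    rintro _ _ ⟨k, hk, l, hl, rfl⟩ ⟨k', hk', l', hl', rfl⟩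
    refine ⟨k * k', K.mul_mem hk hk', l * l', L.mul_mem hl hl', ?_⟩
    calc k * l * (k' * l') = k * (l * k') * l' := by simp only [mul_assoc]
      _ = k * (k' * l) * l' := by rw [hab l k']
      _ = k * k' * (l * l') := by simp only [mul_assoc]
  inv_mem' := by
    rintro _ ⟨k, hk, l, hl, rfl⟩
    refine ⟨k⁻¹, K.inv_mem hk, l⁻¹, L.inv_mem hl, ?_⟩
    rw [mul_inv_rev, hab]

theorem mem_prodSub (hab : ∀ a b : H, a * b = b * a) (K L : Subgroup H) (x : H) :
    x ∈ prodSub hab K L ↔ ∃ k ∈ K, ∃ l ∈ L, x = k * l := Iff.rfl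

theorem left_le_prodSub (hab : ∀ a b : H, a * b = b * a) (K L : Subgroup H) : K ≤ prodSub hab K L :=
  fun k hk => ⟨k, hk, 1, L.one_mem, by simp⟩

theorem right_le_prodSub (hab : ∀ a b : H, a * b = b * a) (K L : Subgroup H) : L ≤ prodSub hab K L :=
  fun l hl => ⟨1, K.one_mem, l, hl, by simp⟩

/-- The centre `[H, t]` of a transvection. -/
def tCen (hab : ∀ a b : H, a * b = b * a) (t : MulAut H) : Subgroup H := (wHom hab t).range

theorem w_mem_tCen (hab : ∀ a b : H, a * b = b * a) (t : MulAut H) (y : H) : y⁻¹ * t y ∈ tCen hab t :=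
  ⟨y, rfl⟩

theorem tCen_le_of_isTransv (hab : ∀ a b : H, a * b = b * a) {t : MulAut H} {K : Subgroup H}
    (ht : IsTransv K t) : tCen hab t ≤ K := by
  rintro _ ⟨y, rfl⟩
  exact ht.2 y

/-- Invariance of the axis. -/
theorem IsTransv.mem_iff {K : Subgroup H} {t : MulAut H} (ht : IsTransv K t) (x : H) : x ∈ K ↔ t x ∈ K := by
  constructor
  · intro hx
    rw [ht.1 x hx]; exact hx
  · intro hx
    have := K.mul_mem hx (K.inv_mem (ht.2 x))
    have e : t x * (x⁻¹ * t x)⁻¹ = x := by group
    rwa [e] at this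

variable [Finite H] {p : ℕ} [Fact p.Prime]

/-- Lemma 2T: if the centre of `b` lies in the axis of `a`, then `a` and `b` generate a `p`-group. -/
theorem isPGroup_closure_pair (hab : ∀ a b : H, a * b = b * a) (hH : IsPGroup p H) {a b : MulAut H}
    {Ha Hb : Subgroup H} (ha : IsTransv Ha a) (hb : IsTransv Hb b) (hcen : tCen hab b ≤ Ha) :
    IsPGroup p (Subgroup.closure {a, b} : Subgroup (MulAut H)) := by
  have hle : tCen hab b ≤ Ha := hcen
  have hZbHb : tCen hab b ≤ Hb := tCen_le_of_isTransv hab hb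
  apply isPGroup_of_chainStab (chain4 (tCen hab b) Ha) (chain4_mono hle) (fun i => inferInstance)
    (fun i => (hH.to_subgroup _).exists_card_eq) 3 rfl
  · rw [Subgroup.closure_le]
    have hbZ : ∀ x, x ∈ tCen hab b ↔ b x ∈ tCen hab b := by
      intro x
      constructor
      · intro hx
        rw [hb.1 x (hZbHb hx)]; exact hx
      · intro hx
        have := (tCen hab b).mul_mem hx ((tCen hab b).inv_mem (w_mem_tCen hab b x))
        have e : b x * (x⁻¹ * b x)⁻¹ = x := by group
        rwa [e] at this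
    have haZ : ∀ x, x ∈ tCen hab b ↔ a x ∈ tCen hab b := by
      intro x
      constructor
      · intro hx
        rw [ha.1 x (hle hx)]; exact hx
      · intro hx
        have h1 : a x ∈ Ha := hle hx
        have h2 : x ∈ Ha := (ha.mem_iff x).mpr h1
        rw [ha.1 x h2] at hx
        exact hx
    have hbHa : ∀ x, x ∈ Ha ↔ b x ∈ Ha := by
      intro x
      constructor
      · intro hx
        have : b x = x * (x⁻¹ * b x) := by group
        rw [this]
        exact Ha.mul_mem hx (hle (w_mem_tCen hab b x))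
      · intro hx
        have := Ha.mul_mem hx (Ha.inv_mem (hle (w_mem_tCen hab b x)))
        have e : b x * (x⁻¹ * b x)⁻¹ = x := by group
        rwa [e] at this
    intro c hc
    rcases hc with rfl | hc
    · -- `a`
      refine ⟨fun i x => ?_, fun i x hx => ?_⟩
      · match i with
        | 0 =>
          show x ∈ (⊥ : Subgroup H) ↔ c x ∈ (⊥ : Subgroup H)
          rw [Subgroup.mem_bot, Subgroup.mem_bot, map_eq_one_iff c c.injective]
        | 1 => exact haZ x
        | 2 => exact ha.mem_iff x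
        | (n + 3) => exact ⟨fun _ => Subgroup.mem_top _, fun _ => Subgroup.mem_top _⟩
      · match i with
        | 0 =>
          have hx' : x ∈ tCen hab b := hx
          show x⁻¹ * c x ∈ (⊥ : Subgroup H)
          rw [Subgroup.mem_bot, ha.1 x (hle hx'), inv_mul_cancel]
        | 1 =>
          have hx' : x ∈ Ha := hx
          show x⁻¹ * c x ∈ tCen hab b
          rw [ha.1 x hx', inv_mul_cancel]
          exact Subgroup.one_mem _
        | 2 => exact ha.2 x
        | (n + 3) => exact Subgroup.mem_top _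
    · -- `b`
      rw [Set.mem_singleton_iff] at hc
      subst hc
      refine ⟨fun i x => ?_, fun i x hx => ?_⟩
      · match i with
        | 0 =>
          show x ∈ (⊥ : Subgroup H) ↔ c x ∈ (⊥ : Subgroup H)
          rw [Subgroup.mem_bot, Subgroup.mem_bot, map_eq_one_iff c c.injective]
        | 1 => exact hbZ x
        | 2 => exact hbHa x
        | (n + 3) => exact ⟨fun _ => Subgroup.mem_top _, fun _ => Subgroup.mem_top _⟩
      · match i with
        | 0 =>
          have hx' : x ∈ tCen hab c := hx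
          show x⁻¹ * c x ∈ (⊥ : Subgroup H)
          rw [Subgroup.mem_bot, hb.1 x (hZbHb hx'), inv_mul_cancel]
        | 1 => exact w_mem_tCen hab c x
        | 2 => exact hle (w_mem_tCen hab c x)
        | (n + 3) => exact Subgroup.mem_top _
  · intro β _
    refine ⟨0, fun x hx => ?_⟩
    have hx' : x ∈ (⊥ : Subgroup H) := hx
    rw [Subgroup.mem_bot] at hx'
    rw [hx', map_one]

omit [Finite H] in
/-- In a group `A` of automorphisms all of whose `p`-subgroups are conjugate into `⟨t⟩` of order `p`: if `a ≠ 1` and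
`a, b` generate a `p`-group then `b` is a power of `a`. -/
theorem mem_zpowers_of_isPGroup_closure {A : Subgroup (MulAut H)} {t : MulAut H}
    (hcard : Nat.card (Subgroup.zpowers t) = p)
    (hsyl : ∀ B : Subgroup (MulAut H), B ≤ A → IsPGroup p B → ∃ χ ∈ A, ∀ β ∈ B, χ * β * χ⁻¹ ∈ Subgroup.zpowers t)
    {a b : MulAut H} (haA : a ∈ A) (hbA : b ∈ A) (ha1 : a ≠ 1)
    (hpg : IsPGroup p (Subgroup.closure {a, b} : Subgroup (MulAut H))) : b ∈ Subgroup.zpowers a := by
  have hle : Subgroup.closure {a, b} ≤ A := by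
    rw [Subgroup.closure_le]
    intro c hc
    rcases hc with rfl | hc
    · exact haA
    · rw [Set.mem_singleton_iff.mp hc]; exact hbA
  obtain ⟨χ, -, hχ⟩ := hsyl _ hle hpg
  have h1 := hχ a (Subgroup.subset_closure (Set.mem_insert _ _))
  have h2 := hχ b (Subgroup.subset_closure (Set.mem_insert_of_mem _ rfl))
  have hne : (⟨χ * a * χ⁻¹, h1⟩ : Subgroup.zpowers t) ≠ 1 := by
    intro h
    apply ha1
    have h' : χ * a * χ⁻¹ = 1 := congrArg Subtype.val h
    have : a = χ⁻¹ * (χ * a * χ⁻¹) * χ := by group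
    rw [this, h']
    group
  have hfin : Finite (Subgroup.zpowers t) := Nat.finite_of_card_ne_zero (by
    rw [hcard]; exact (Fact.out : p.Prime).ne_zero)
  have h3 := mem_zpowers_of_prime_card (G := Subgroup.zpowers t) hcard hne
    (g' := ⟨χ * b * χ⁻¹, h2⟩)
  obtain ⟨k, hk⟩ := Subgroup.mem_zpowers_iff.mp h3
  have hk' : (χ * a * χ⁻¹) ^ k = χ * b * χ⁻¹ := by
    have := congrArg Subtype.val hk
    rwa [Subgroup.coe_zpow] at this
  rw [Subgroup.mem_zpowers_iff]
  refine ⟨k, ?_⟩
  have e1 : (χ * a * χ⁻¹) ^ k = χ * a ^ k * χ⁻¹ := conj_zpow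
  rw [e1] at hk'
  have : a ^ k = χ⁻¹ * (χ * a ^ k * χ⁻¹) * χ := by group
  rw [this, hk']
  group

end TwoTransvA

end Cfsg.Agent.Lib.Helper26
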