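import Cfsg.Agent.Lib.Helper26.TwoTransvA

/-!
Two transvections on a finite abelian `p`-group `H` (part B): facts about a single transvection with axis of
index `p`, and the configuration of two transvections generating a non-`p`-group.
-/

set_option autoImplicit false
set_option linter.unusedSectionVars false
universe u

namespace Cfsg.Agent.Lib.Helper26

open Cfsg

section Single

variable {H : Type u} [Group H] [Finite H] {p : ℕ} [Fact p.Prime]

/-- A nontrivial transvection with axis `K` of index `p`. -/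
structure Tv (p : ℕ) (hab : ∀ a b : H, a * b = b * a) (a : MulAut H) (K : Subgroup H) : Prop where
  tr : IsTransv K a
  idx : Nat.card H = p * Nat.card K
  ne : a ≠ 1

variable {hab : ∀ a b : H, a * b = b * a} {a : MulAut H} {K : Subgroup H}

theorem Tv.ker_eq (h : Tv p hab a K) : (wHom hab a).ker = K := by
  have hle : K ≤ (wHom hab a).ker := fun x hx => (mem_ker_wHom hab a x).mpr (h.tr.1 x hx)
  by_contra hne
  have htop := eq_top_of_lt_of_card_mul h.idx hle (fun e => hne e.symm)
  apply h.ne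
  ext x
  have : x ∈ (wHom hab a).ker := htop ▸ Subgroup.mem_top x
  exact (mem_ker_wHom hab a x).mp this

theorem Tv.mem_iff_fix (h : Tv p hab a K) (x : H) : x ∈ K ↔ a x = x := by
  rw [← h.ker_eq, mem_ker_wHom]

theorem Tv.card_tCen (h : Tv p hab a K) : Nat.card (tCen hab a) = p := by
  have h1 := Subgroup.card_eq_card_quotient_mul_card_subgroup (wHom hab a).ker
  have h2 : Nat.card (H ⧸ (wHom hab a).ker) = Nat.card (tCen hab a) :=
    Nat.card_congr (QuotientGroup.quotientKerEquivRange (wHom hab a)).toEquiv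
  rw [h2, h.ker_eq, h.idx] at h1
  have hpos : 0 < Nat.card K := Nat.card_pos
  exact (Nat.eq_of_mul_eq_mul_right hpos h1).symm

theorem Tv.tCen_le (h : Tv p hab a K) : tCen hab a ≤ K := tCen_le_of_isTransv hab h.tr

theorem Tv.pow_eq_one_of_mem_tCen (h : Tv p hab a K) {z : H} (hz : z ∈ tCen hab a) : z ^ p = 1 := by
  have := pow_card_eq_one' (G := tCen hab a) (x := ⟨z, hz⟩)
  rw [h.card_tCen] at this
  exact congrArg Subtype.val this

theorem Tv.pow_p (h : Tv p hab a K) : a ^ p = 1 := by
  ext x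
  have h1 := h.tr.w_pow x p
  rw [h.pow_eq_one_of_mem_tCen (w_mem_tCen hab a x)] at h1
  rw [MulAut.one_apply]
  exact (inv_mul_eq_one.mp h1).symm

theorem Tv.card_zpowers (h : Tv p hab a K) : Nat.card (Subgroup.zpowers a) = p := by
  rw [Nat.card_zpowers]
  exact orderOf_eq_prime h.pow_p h.ne

/-- Every element of the centre is a power of any nontrivial element of the centre. -/
theorem Tv.tCen_le_of_mem (h : Tv p hab a K) {z : H} (hz : z ∈ tCen hab a) (hz1 : z ≠ 1) {L : Subgroup H}
    (hzL : z ∈ L) : tCen hab a ≤ L := by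
  intro y hy
  have hne : (⟨z, hz⟩ : tCen hab a) ≠ 1 := fun e => hz1 (congrArg Subtype.val e)
  have h3 := mem_zpowers_of_prime_card (G := tCen hab a) h.card_tCen hne (g' := ⟨y, hy⟩)
  obtain ⟨k, hk⟩ := Subgroup.mem_zpowers_iff.mp h3
  have hk' : z ^ k = y := by
    have := congrArg Subtype.val hk
    rwa [Subgroup.coe_zpow] at this
  rw [← hk']
  exact L.zpow_mem hzL k

theorem Tv.exists_ne_one (h : Tv p hab a K) : ∃ z ∈ tCen hab a, z ≠ 1 := by
  by_contra hcon
  push Not at hcon
  apply h.ne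
  ext x
  have := hcon _ (w_mem_tCen hab a x)
  rw [MulAut.one_apply]
  exact (inv_mul_eq_one.mp this).symm

/-- Conjugates are transvections. -/
theorem Tv.conj (h : Tv p hab a K) (g : MulAut H) : Tv p hab (g * a * g⁻¹) (K.map g.toMonoidHom) := by
  refine ⟨h.tr.conj g, ?_, ?_⟩
  · rw [Subgroup.card_map_of_injective g.injective]
    exact h.idx
  · intro e
    apply h.ne
    have : a = g⁻¹ * (g * a * g⁻¹) * g := by group
    rw [this, e]
    group

theorem mem_map_mulAut_iff (g : MulAut H) (K : Subgroup H) (x : H) :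
    x ∈ K.map g.toMonoidHom ↔ g⁻¹ x ∈ K := by
  constructor
  · rintro ⟨y, hy, rfl⟩
    show g⁻¹ (g y) ∈ K
    rw [MulAut.inv_apply_self]
    exact hy
  · intro hx
    exact ⟨g⁻¹ x, hx, MulAut.apply_inv_self H g x⟩

theorem wHom_conj (g a : MulAut H) (x : H) :
    wHom hab (g * a * g⁻¹) x = g (wHom hab a (g⁻¹ x)) := by
  simp only [wHom_apply, MulAut.mul_apply, map_mul, map_inv, MulAut.apply_inv_self]

theorem tCen_conj (g a : MulAut H) : tCen hab (g * a * g⁻¹) = (tCen hab a).map g.toMonoidHom := by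
  ext x
  constructor
  · rintro ⟨y, rfl⟩
    exact ⟨wHom hab a (g⁻¹ y), ⟨_, rfl⟩, (wHom_conj g a y).symm⟩
  · rintro ⟨_, ⟨y, rfl⟩, rfl⟩
    refine ⟨g y, ?_⟩
    rw [wHom_conj, MulAut.inv_apply_self]
    rfl

/-- The centre of a power lies in the centre. -/
theorem Tv.tCen_le_of_mem_zpowers (h : Tv p hab a K) {b : MulAut H} (hb : b ∈ Subgroup.zpowers a) :
    tCen hab b ≤ tCen hab a := by
  rw [← mem_powers_iff_mem_zpowers, Submonoid.mem_powers_iff] at hb
  obtain ⟨n, rfl⟩ := hb
  rintro _ ⟨x, rfl⟩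
  rw [wHom_apply, h.tr.w_pow x n]
  exact (tCen hab a).pow_mem (w_mem_tCen hab a x) n

/-- A power fixes what the transvection fixes. -/
theorem apply_eq_of_mem_zpowers {a b : MulAut H} (hb : b ∈ Subgroup.zpowers a) {x : H} (hx : a x = x) :
    b x = x := by
  rw [← mem_powers_iff_mem_zpowers, Submonoid.mem_powers_iff] at hb
  obtain ⟨n, rfl⟩ := hb
  induction n with
  | zero => simp
  | succ n ih => rw [pow_succ, MulAut.mul_apply, hx, ih]

theorem conj_mem_zpowers {a b : MulAut H} (hb : b ∈ Subgroup.zpowers a) (g : MulAut H) :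
    g * b * g⁻¹ ∈ Subgroup.zpowers (g * a * g⁻¹) := by
  obtain ⟨k, rfl⟩ := Subgroup.mem_zpowers_iff.mp hb
  rw [Subgroup.mem_zpowers_iff]
  exact ⟨k, conj_zpow⟩

end Single

end Cfsg.Agent.Lib.Helper26
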