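import Cfsg.Agent.Lib.Helper26.TwoTransvB

/-!
Two transvections on a finite abelian `p`-group `H` (part C): two conjugate transvections `t`, `t' = γ t γ⁻¹` of a
group `A` of automorphisms whose Sylow `p`-subgroups are the conjugates of `⟨t⟩` (of order `p`), with `t' ∉ ⟨t⟩`.
-/

set_option autoImplicit false
set_option linter.unusedSectionVars false
universe u

namespace Cfsg.Agent.Lib.Helper26

open Cfsg

section Pair

variable {H : Type u} [Group H] [Finite H] {p : ℕ} [Fact p.Prime]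

/-- Two conjugate transvections `t`, `t' = γ t γ⁻¹` in `A` with `t' ∉ ⟨t⟩`. -/
structure TTPair (p : ℕ) (hab : ∀ a b : H, a * b = b * a) (A : Subgroup (MulAut H)) (t γ : MulAut H)
    (H₁ : Subgroup H) : Prop where
  hH : IsPGroup p H
  tA : t ∈ A
  γA : γ ∈ A
  tv : Tv p hab t H₁
  syl : ∀ B : Subgroup (MulAut H), B ≤ A → IsPGroup p B →
    ∃ χ ∈ A, ∀ β ∈ B, χ * β * χ⁻¹ ∈ Subgroup.zpowers t
  nmem : γ * t * γ⁻¹ ∉ Subgroup.zpowers t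

variable {hab : ∀ a b : H, a * b = b * a} {A : Subgroup (MulAut H)} {t γ : MulAut H} {H₁ : Subgroup H}

namespace TTPair

theorem tv' (h : TTPair p hab A t γ H₁) : Tv p hab (γ * t * γ⁻¹) (H₁.map γ.toMonoidHom) := h.tv.conj γ

theorem t'A (h : TTPair p hab A t γ H₁) : γ * t * γ⁻¹ ∈ A :=
  A.mul_mem (A.mul_mem h.γA h.tA) (A.inv_mem h.γA)

theorem conjA (h : TTPair p hab A t γ H₁) {δ : MulAut H} (hδ : δ ∈ A) : δ * t * δ⁻¹ ∈ A :=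
  A.mul_mem (A.mul_mem hδ h.tA) (A.inv_mem hδ)

theorem zp_of_pgroup (h : TTPair p hab A t γ H₁) {a b : MulAut H} (haA : a ∈ A) (hbA : b ∈ A) (ha1 : a ≠ 1)
    (hpg : IsPGroup p (Subgroup.closure {a, b} : Subgroup (MulAut H))) : b ∈ Subgroup.zpowers a :=
  mem_zpowers_of_isPGroup_closure h.tv.card_zpowers h.syl haA hbA ha1 hpg

/-- Dichotomy for two transvections of `A`: if the centre of `b` lies in the axis of `a` then `b ∈ ⟨a⟩`. -/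
theorem zp_of_cen_le (h : TTPair p hab A t γ H₁) {a b : MulAut H} {Ka Kb : Subgroup H} (ha : Tv p hab a Ka)
    (hb : Tv p hab b Kb) (haA : a ∈ A) (hbA : b ∈ A) (hcen : tCen hab b ≤ Ka) : b ∈ Subgroup.zpowers a :=
  h.zp_of_pgroup haA hbA ha.ne (isPGroup_closure_pair hab h.hH ha.tr hb.tr hcen)

theorem not_le' (h : TTPair p hab A t γ H₁) : ¬ tCen hab (γ * t * γ⁻¹) ≤ H₁ := fun hle =>
  h.nmem (h.zp_of_cen_le h.tv h.tv' h.tA h.t'A hle)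

theorem not_le (h : TTPair p hab A t γ H₁) : ¬ tCen hab t ≤ H₁.map γ.toMonoidHom := by
  intro hle
  have hpg := isPGroup_closure_pair hab h.hH h.tv'.tr h.tv.tr hle
  rw [Set.pair_comm] at hpg
  exact h.nmem (h.zp_of_pgroup h.tA h.t'A h.tv.ne hpg)

theorem cen'_inf (h : TTPair p hab A t γ H₁) {z : H} (hz : z ∈ tCen hab (γ * t * γ⁻¹)) (hz1 : z ∈ H₁) : z = 1 := by
  by_contra hne
  exact h.not_le' (h.tv'.tCen_le_of_mem hz hne hz1)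

theorem cen_inf (h : TTPair p hab A t γ H₁) {z : H} (hz : z ∈ tCen hab t) (hz2 : z ∈ H₁.map γ.toMonoidHom) :
    z = 1 := by
  by_contra hne
  exact h.not_le (h.tv.tCen_le_of_mem hz hne hz2)

/-- Covering: every element lies in the axis of `t'` or of some conjugate `(t'^j)⁻¹ t t'^j`. -/
theorem cover (h : TTPair p hab A t γ H₁) (x : H) :
    x ∈ H₁.map γ.toMonoidHom ∨ ∃ j : ℕ, ((γ * t * γ⁻¹) ^ j) x ∈ H₁ := by
  by_cases hx : x ∈ H₁.map γ.toMonoidHom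
  · exact Or.inl hx
  right
  obtain ⟨u, hu⟩ : ∃ u, u = x⁻¹ * (γ * t * γ⁻¹) x := ⟨_, rfl⟩
  have huZ : u ∈ tCen hab (γ * t * γ⁻¹) := hu ▸ w_mem_tCen hab _ x
  have hu1 : u ≠ 1 := by
    intro e
    apply hx
    rw [h.tv'.mem_iff_fix]
    rw [e] at hu
    exact (inv_mul_eq_one.mp hu.symm).symm
  have huH₁ : u ∉ H₁ := fun hmem => hu1 (h.cen'_inf huZ hmem)
  obtain ⟨w, hw⟩ : ∃ w, w = u⁻¹ * t u := ⟨_, rfl⟩
  have hwZ : w ∈ tCen hab t := hw ▸ w_mem_tCen hab t u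
  have hw1 : w ≠ 1 := by
    intro e
    apply huH₁
    rw [h.tv.mem_iff_fix]
    rw [e] at hw
    exact (inv_mul_eq_one.mp hw.symm).symm
  -- `(x⁻¹ t x)⁻¹` is a power of `w`
  have hne : (⟨w, hwZ⟩ : tCen hab t) ≠ 1 := fun e => hw1 (congrArg Subtype.val e)
  have hmem : (x⁻¹ * t x)⁻¹ ∈ tCen hab t := (tCen hab t).inv_mem (w_mem_tCen hab t x)
  have h3 := mem_zpowers_of_prime_card (G := tCen hab t) h.tv.card_tCen hne (g' := ⟨_, hmem⟩)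
  rw [← mem_powers_iff_mem_zpowers, Submonoid.mem_powers_iff] at h3
  obtain ⟨j, hj⟩ := h3
  have hj' : w ^ j = (x⁻¹ * t x)⁻¹ := by
    have := congrArg Subtype.val hj
    rwa [Subgroup.coe_pow] at this
  refine ⟨j, ?_⟩
  have h4 := h.tv'.tr.w_pow x j
  rw [← hu] at h4
  have h5 : ((γ * t * γ⁻¹) ^ j) x = x * u ^ j := eq_mul_of_inv_mul_eq h4
  rw [h5, h.tv.mem_iff_fix, ← mem_ker_wHom hab, MonoidHom.mem_ker, map_mul, map_pow]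
  show (x⁻¹ * t x) * (u⁻¹ * t u) ^ j = 1
  rw [← hw, hj', mul_inv_cancel]

/-- The automorphisms fixing `C = H₁ ∩ H₂` pointwise and preserving `V = Z₁ Z₂`. -/
def Lfix (hab : ∀ a b : H, a * b = b * a) (t γ : MulAut H) (H₁ : Subgroup H) : Subgroup (MulAut H) where
  carrier := {ℓ | (∀ c, c ∈ H₁ → c ∈ H₁.map γ.toMonoidHom → ℓ c = c) ∧
    ∀ v, v ∈ prodSub hab (tCen hab t) (tCen hab (γ * t * γ⁻¹)) ↔
      ℓ v ∈ prodSub hab (tCen hab t) (tCen hab (γ * t * γ⁻¹))}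
  one_mem' := ⟨fun _ _ _ => rfl, fun _ => Iff.rfl⟩
  mul_mem' := by
    rintro a b ⟨ha1, ha2⟩ ⟨hb1, hb2⟩
    refine ⟨fun c h1 h2 => ?_, fun v => ?_⟩
    · rw [MulAut.mul_apply, hb1 c h1 h2, ha1 c h1 h2]
    · rw [MulAut.mul_apply, ← ha2, ← hb2]
  inv_mem' := by
    rintro a ⟨ha1, ha2⟩
    refine ⟨fun c h1 h2 => ?_, fun v => ?_⟩
    · have := ha1 c h1 h2
      rw [MulAut.inv_apply, MulEquiv.symm_apply_eq]
      exact this.symm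
    · rw [ha2 (a⁻¹ v), MulAut.apply_inv_self]

theorem mem_Lfix_of_w_mem {ℓ : MulAut H}
    (hfix : ∀ c, c ∈ H₁ → c ∈ H₁.map γ.toMonoidHom → ℓ c = c)
    (hw : ∀ v, v⁻¹ * ℓ v ∈ prodSub hab (tCen hab t) (tCen hab (γ * t * γ⁻¹))) :
    ℓ ∈ Lfix hab t γ H₁ := by
  refine ⟨hfix, fun v => ⟨fun hv => ?_, fun hv => ?_⟩⟩
  · have : ℓ v = v * (v⁻¹ * ℓ v) := by group
    rw [this]
    exact Subgroup.mul_mem _ hv (hw v)
  · have := Subgroup.mul_mem _ hv (Subgroup.inv_mem _ (hw v))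
    have e : ℓ v * (v⁻¹ * ℓ v)⁻¹ = v := by group
    rwa [e] at this

theorem t_mem_Lfix (h : TTPair p hab A t γ H₁) : t ∈ Lfix hab t γ H₁ :=
  mem_Lfix_of_w_mem (fun c h1 _ => h.tv.tr.1 c h1)
    (fun v => left_le_prodSub hab _ _ (w_mem_tCen hab t v))

theorem t'_mem_Lfix (h : TTPair p hab A t γ H₁) : γ * t * γ⁻¹ ∈ Lfix hab t γ H₁ :=
  mem_Lfix_of_w_mem (fun c _ h2 => h.tv'.tr.1 c h2)
    (fun v => right_le_prodSub hab _ _ (w_mem_tCen hab _ v))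

/-- Every conjugate of `t` lies in `⟨t'⟩` or in `⟨g t g⁻¹⟩` with `g = (t'^j)⁻¹`. -/
theorem conj_cases (h : TTPair p hab A t γ H₁) {δ : MulAut H} (hδ : δ ∈ A) :
    δ * t * δ⁻¹ ∈ Subgroup.zpowers (γ * t * γ⁻¹) ∨
      ∃ j : ℕ, δ * t * δ⁻¹ ∈ Subgroup.zpowers
        (((γ * t * γ⁻¹) ^ j)⁻¹ * t * (((γ * t * γ⁻¹) ^ j)⁻¹)⁻¹) := by
  obtain ⟨z₁, hz₁, hz₁1⟩ := h.tv.exists_ne_one
  have hb : Tv p hab (δ * t * δ⁻¹) (H₁.map δ.toMonoidHom) := h.tv.conj δ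
  have hyb : δ z₁ ∈ tCen hab (δ * t * δ⁻¹) := by
    rw [tCen_conj]
    exact ⟨z₁, hz₁, rfl⟩
  have hy1 : δ z₁ ≠ 1 := fun e => hz₁1 ((map_eq_one_iff δ δ.injective).mp e)
  rcases h.cover (δ z₁) with hy | ⟨j, hj⟩
  · left
    exact h.zp_of_cen_le h.tv' hb h.t'A (h.conjA hδ) (hb.tCen_le_of_mem hyb hy1 hy)
  · right
    refine ⟨j, ?_⟩
    have hgA : ((γ * t * γ⁻¹) ^ j)⁻¹ ∈ A := A.inv_mem (A.pow_mem h.t'A j)
    refine h.zp_of_cen_le (h.tv.conj _) hb (h.conjA hgA) (h.conjA hδ) (hb.tCen_le_of_mem hyb hy1 ?_)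
    rw [mem_map_mulAut_iff, inv_inv]
    exact hj

/-- `t'` is conjugate to a power of `t` by an element of the group generated by `t` and `t'`. -/
theorem t'_cases (h : TTPair p hab A t γ H₁) :
    ∃ j : ℕ, γ * t * γ⁻¹ ∈ Subgroup.zpowers
      ((t⁻¹ * ((γ * t * γ⁻¹) ^ j)⁻¹) * t * (t⁻¹ * ((γ * t * γ⁻¹) ^ j)⁻¹)⁻¹) := by
  have hδ₀ : t * γ ∈ A := A.mul_mem h.tA h.γA
  have e0 : (t * γ) * t * (t * γ)⁻¹ = t * (γ * t * γ⁻¹) * t⁻¹ := by group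
  rcases h.conj_cases hδ₀ with hA | ⟨j, hB⟩
  · exfalso
    rw [e0] at hA
    obtain ⟨z₂, hz₂, hz₂1⟩ := h.tv'.exists_ne_one
    have h1 : t z₂ ∈ tCen hab (t * (γ * t * γ⁻¹) * t⁻¹) := by
      rw [tCen_conj]
      exact ⟨z₂, hz₂, rfl⟩
    have h2 : t z₂ ∈ tCen hab (γ * t * γ⁻¹) := h.tv'.tCen_le_of_mem_zpowers hA h1
    have h3 : z₂⁻¹ * t z₂ ∈ tCen hab (γ * t * γ⁻¹) := Subgroup.mul_mem _ (Subgroup.inv_mem _ hz₂) h2
    have h4 : z₂⁻¹ * t z₂ ∈ H₁ := h.tv.tCen_le (w_mem_tCen hab t z₂)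
    have h5 := h.cen'_inf h3 h4
    have h6 : z₂ ∈ H₁ := by
      rw [h.tv.mem_iff_fix]
      exact (inv_mul_eq_one.mp h5).symm
    exact hz₂1 (h.cen'_inf hz₂ h6)
  · refine ⟨j, ?_⟩
    rw [e0] at hB
    have := conj_mem_zpowers hB t⁻¹
    have e1 : t⁻¹ * (t * (γ * t * γ⁻¹) * t⁻¹) * t⁻¹⁻¹ = γ * t * γ⁻¹ := by group
    have e2 : t⁻¹ * (((γ * t * γ⁻¹) ^ j)⁻¹ * t * (((γ * t * γ⁻¹) ^ j)⁻¹)⁻¹) * t⁻¹⁻¹ =
        (t⁻¹ * ((γ * t * γ⁻¹) ^ j)⁻¹) * t * (t⁻¹ * ((γ * t * γ⁻¹) ^ j)⁻¹)⁻¹ := by group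
    rw [e1, e2] at this
    exact this

/-- Every conjugate of `t` in `A` is a power of `ℓ t ℓ⁻¹` for some `ℓ ∈ A` fixing `C` pointwise and preserving `V`. -/
theorem conj_class (h : TTPair p hab A t γ H₁) {δ : MulAut H} (hδ : δ ∈ A) :
    ∃ ℓ ∈ A, ℓ ∈ Lfix hab t γ H₁ ∧ δ * t * δ⁻¹ ∈ Subgroup.zpowers (ℓ * t * ℓ⁻¹) := by
  rcases h.conj_cases hδ with hA | ⟨j, hB⟩
  · obtain ⟨j, hj⟩ := h.t'_cases
    refine ⟨t⁻¹ * ((γ * t * γ⁻¹) ^ j)⁻¹, A.mul_mem (A.inv_mem h.tA) (A.inv_mem (A.pow_mem h.t'A j)),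
      Subgroup.mul_mem _ (Subgroup.inv_mem _ h.t_mem_Lfix)
        (Subgroup.inv_mem _ (Subgroup.pow_mem _ h.t'_mem_Lfix j)), ?_⟩
    exact (Subgroup.zpowers_le.mpr hj) hA
  · exact ⟨((γ * t * γ⁻¹) ^ j)⁻¹, A.inv_mem (A.pow_mem h.t'A j),
      Subgroup.inv_mem _ (Subgroup.pow_mem _ h.t'_mem_Lfix j), hB⟩

end TTPair

end Pair

end Cfsg.Agent.Lib.Helper26
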