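import Cfsg.Agent.Lib.Helper26.TwoTransvC

/-!
Two transvections on a finite abelian `p`-group `H` (part D): the decomposition `H = C × V`, with
`C = H₁ ∩ H₂` and `V = Z₁ Z₂`, its invariance under `A`, and the Frattini-type factorisation.
-/

set_option autoImplicit false
set_option linter.unusedSectionVars false
universe u

namespace Cfsg.Agent.Lib.Helper26

open Cfsg

section Decomp

variable {H : Type u} [Group H] [Finite H] {p : ℕ} [Fact p.Prime]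
variable {hab : ∀ a b : H, a * b = b * a} {A : Subgroup (MulAut H)} {t γ : MulAut H} {H₁ : Subgroup H}

namespace TTPair

/-- `C = H₁ ∩ H₂`. -/
def C (_h : TTPair p hab A t γ H₁) : Subgroup H := H₁ ⊓ H₁.map γ.toMonoidHom

/-- `V = Z₁ Z₂`. -/
def V (_h : TTPair p hab A t γ H₁) : Subgroup H := prodSub hab (tCen hab t) (tCen hab (γ * t * γ⁻¹))

theorem mem_C (h : TTPair p hab A t γ H₁) (x : H) : x ∈ h.C ↔ x ∈ H₁ ∧ x ∈ H₁.map γ.toMonoidHom :=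
  Subgroup.mem_inf

theorem C_le (h : TTPair p hab A t γ H₁) : h.C ≤ H₁ := inf_le_left

theorem disj (h : TTPair p hab A t γ H₁) {x : H} (hC : x ∈ h.C) (hV : x ∈ h.V) : x = 1 := by
  obtain ⟨h1, h2⟩ := (h.mem_C x).mp hC
  obtain ⟨z₁, hz₁, z₂, hz₂, rfl⟩ := hV
  have hz₁H : z₁ ∈ H₁ := h.tv.tCen_le hz₁
  have hz₂H : z₂ ∈ H₁ := by
    have := H₁.mul_mem (H₁.inv_mem hz₁H) h1
    rwa [inv_mul_cancel_left] at this
  have hz₂1 := h.cen'_inf hz₂ hz₂H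
  rw [hz₂1, mul_one] at h2 ⊢
  exact h.cen_inf hz₁ h2

theorem exists_preimage₂ (h : TTPair p hab A t γ H₁) {w : H} (hw : w ∈ tCen hab t) :
    ∃ z₂ ∈ tCen hab (γ * t * γ⁻¹), z₂⁻¹ * t z₂ = w := by
  have hinj : Function.Injective ((wHom hab t).comp (tCen hab (γ * t * γ⁻¹)).subtype) := by
    rw [injective_iff_map_eq_one]
    intro z hz
    have h1 : t (z : H) = z := (mem_ker_wHom hab t z).mp hz
    have h2 : (z : H) ∈ H₁ := (h.tv.mem_iff_fix _).mpr h1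
    exact Subtype.ext (h.cen'_inf z.2 h2)
  have hval : ∀ x, ((wHom hab t).comp (tCen hab (γ * t * γ⁻¹)).subtype) x ∈ tCen hab t :=
    fun x => w_mem_tCen hab t x
  have hcard : Nat.card (tCen hab t) ≤ Nat.card (tCen hab (γ * t * γ⁻¹)) := by
    rw [h.tv.card_tCen, h.tv'.card_tCen]
  obtain ⟨z, hz⟩ := surj_of_inj_of_card_le _ hinj hval hcard w hw
  exact ⟨z, z.2, hz⟩

theorem exists_preimage₁ (h : TTPair p hab A t γ H₁) {w : H} (hw : w ∈ tCen hab (γ * t * γ⁻¹)) :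
    ∃ z₁ ∈ tCen hab t, z₁⁻¹ * (γ * t * γ⁻¹) z₁ = w := by
  have hinj : Function.Injective ((wHom hab (γ * t * γ⁻¹)).comp (tCen hab t).subtype) := by
    rw [injective_iff_map_eq_one]
    intro z hz
    have h1 : (γ * t * γ⁻¹) (z : H) = z := (mem_ker_wHom hab _ z).mp hz
    have h2 : (z : H) ∈ H₁.map γ.toMonoidHom := (h.tv'.mem_iff_fix _).mpr h1
    exact Subtype.ext (h.cen_inf z.2 h2)
  have hval : ∀ x, ((wHom hab (γ * t * γ⁻¹)).comp (tCen hab t).subtype) x ∈ tCen hab (γ * t * γ⁻¹) :=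
    fun x => w_mem_tCen hab _ x
  have hcard : Nat.card (tCen hab (γ * t * γ⁻¹)) ≤ Nat.card (tCen hab t) := by
    rw [h.tv.card_tCen, h.tv'.card_tCen]
  obtain ⟨z, hz⟩ := surj_of_inj_of_card_le _ hinj hval hcard w hw
  exact ⟨z, z.2, hz⟩

theorem sup (h : TTPair p hab A t γ H₁) (x : H) : ∃ c ∈ h.C, ∃ v ∈ h.V, x = c * v := by
  obtain ⟨z₂, hz₂, hz₂w⟩ := h.exists_preimage₂ (w_mem_tCen hab t x)
  obtain ⟨z₁, hz₁, hz₁w⟩ := h.exists_preimage₁ (w_mem_tCen hab (γ * t * γ⁻¹) x)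
  have hz₁fix : t z₁ = z₁ := h.tv.tr.1 z₁ (h.tv.tCen_le hz₁)
  have hz₂fix : (γ * t * γ⁻¹) z₂ = z₂ := h.tv'.tr.1 z₂ (h.tv'.tCen_le hz₂)
  refine ⟨x * (z₁ * z₂)⁻¹, ?_, z₁ * z₂, ⟨z₁, hz₁, z₂, hz₂, rfl⟩, by group⟩
  rw [h.mem_C]
  constructor
  · rw [h.tv.mem_iff_fix, ← mem_ker_wHom hab, MonoidHom.mem_ker, map_mul, map_inv, map_mul]
    show (x⁻¹ * t x) * ((z₁⁻¹ * t z₁) * (z₂⁻¹ * t z₂))⁻¹ = 1
    rw [hz₁fix, inv_mul_cancel, one_mul, hz₂w, mul_inv_cancel]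
  · rw [h.tv'.mem_iff_fix, ← mem_ker_wHom hab, MonoidHom.mem_ker, map_mul, map_inv, map_mul]
    show (x⁻¹ * (γ * t * γ⁻¹) x) * ((z₁⁻¹ * (γ * t * γ⁻¹) z₁) * (z₂⁻¹ * (γ * t * γ⁻¹) z₂))⁻¹ = 1
    rw [hz₂fix, inv_mul_cancel, mul_one, hz₁w, mul_inv_cancel]

theorem card_V (h : TTPair p hab A t γ H₁) : Nat.card h.V = p ^ 2 := by
  have hbij : Function.Bijective (fun z : tCen hab t × tCen hab (γ * t * γ⁻¹) =>
      (⟨(z.1 : H) * z.2, ⟨z.1, z.1.2, z.2, z.2.2, rfl⟩⟩ : h.V)) := by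
    constructor
    · rintro ⟨⟨a, ha⟩, ⟨b, hb⟩⟩ ⟨⟨a', ha'⟩, ⟨b', hb'⟩⟩ hab'
      have e : a * b = a' * b' := congrArg Subtype.val hab'
      have e2 : a'⁻¹ * a = b' * b⁻¹ := by
        calc a'⁻¹ * a = a'⁻¹ * (a * b) * b⁻¹ := by group
          _ = a'⁻¹ * (a' * b') * b⁻¹ := by rw [e]
          _ = b' * b⁻¹ := by group
      have h1 : b' * b⁻¹ ∈ tCen hab (γ * t * γ⁻¹) := Subgroup.mul_mem _ hb' (Subgroup.inv_mem _ hb)
      have h2 : b' * b⁻¹ ∈ H₁ := by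
        rw [← e2]
        exact h.tv.tCen_le (Subgroup.mul_mem _ (Subgroup.inv_mem _ ha') ha)
      have h3 := h.cen'_inf h1 h2
      have hb_eq : b' = b := by
        have := mul_inv_eq_one.mp h3
        exact this
      have ha_eq : a' = a := by
        rw [h3] at e2
        have := inv_mul_eq_one.mp e2
        exact this
      subst hb_eq ha_eq
      rfl
    · rintro ⟨_, a, ha, b, hb, rfl⟩
      exact ⟨⟨⟨a, ha⟩, ⟨b, hb⟩⟩, rfl⟩
  rw [← Nat.card_congr (Equiv.ofBijective _ hbij), Nat.card_prod, h.tv.card_tCen, h.tv'.card_tCen, pow_two]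

theorem card_eq (h : TTPair p hab A t γ H₁) : Nat.card H = Nat.card h.C * Nat.card h.V := by
  have hbij : Function.Bijective (fun z : h.C × h.V => (z.1 : H) * z.2) := by
    constructor
    · rintro ⟨⟨c, hc⟩, ⟨v, hv⟩⟩ ⟨⟨c', hc'⟩, ⟨v', hv'⟩⟩ hcv
      have e : c * v = c' * v' := hcv
      have e2 : c'⁻¹ * c = v' * v⁻¹ := by
        calc c'⁻¹ * c = c'⁻¹ * (c * v) * v⁻¹ := by group
          _ = c'⁻¹ * (c' * v') * v⁻¹ := by rw [e]
          _ = v' * v⁻¹ := by group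
      have h1 : v' * v⁻¹ ∈ h.V := Subgroup.mul_mem _ hv' (Subgroup.inv_mem _ hv)
      have h2 : v' * v⁻¹ ∈ h.C := by
        rw [← e2]
        exact Subgroup.mul_mem _ (Subgroup.inv_mem _ hc') hc
      have h3 := h.disj h2 h1
      have hv_eq : v' = v := mul_inv_eq_one.mp h3
      have hc_eq : c' = c := by
        rw [h3] at e2
        exact inv_mul_eq_one.mp e2
      subst hv_eq hc_eq
      rfl
    · intro x
      obtain ⟨c, hc, v, hv, rfl⟩ := h.sup x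
      exact ⟨⟨⟨c, hc⟩, ⟨v, hv⟩⟩, rfl⟩
  rw [← Nat.card_congr (Equiv.ofBijective _ hbij), Nat.card_prod]

theorem card_H₁ (h : TTPair p hab A t γ H₁) : Nat.card H₁ = p * Nat.card h.C := by
  have h1 := h.card_eq
  rw [h.card_V, h.tv.idx] at h1
  have hp : 0 < p := (Fact.out : p.Prime).pos
  have : p * Nat.card H₁ = p * (p * Nat.card h.C) := by rw [h1]; ring
  exact Nat.eq_of_mul_eq_mul_left hp this

theorem V_exp (h : TTPair p hab A t γ H₁) {v : H} (hv : v ∈ h.V) : v ^ p = 1 := by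
  obtain ⟨z₁, hz₁, z₂, hz₂, rfl⟩ := hv
  rw [(show Commute z₁ z₂ from hab z₁ z₂).mul_pow, h.tv.pow_eq_one_of_mem_tCen hz₁,
    h.tv'.pow_eq_one_of_mem_tCen hz₂, one_mul]

theorem w_mem_V (h : TTPair p hab A t γ H₁) (y : H) : y⁻¹ * t y ∈ h.V :=
  left_le_prodSub hab _ _ (w_mem_tCen hab t y)

/-- Conjugates of `t` fix `C` pointwise. -/
theorem conj_fix (h : TTPair p hab A t γ H₁) {δ : MulAut H} (hδ : δ ∈ A) {c : H} (hc : c ∈ h.C) :
    (δ * t * δ⁻¹) c = c := by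
  obtain ⟨ℓ, -, hℓ, hmem⟩ := h.conj_class hδ
  obtain ⟨h1, h2⟩ := (h.mem_C c).mp hc
  apply apply_eq_of_mem_zpowers hmem
  have hinv := (Subgroup.inv_mem _ hℓ).1 c h1 h2
  rw [MulAut.mul_apply, MulAut.mul_apply, hinv, h.tv.tr.1 c h1, hℓ.1 c h1 h2]

/-- Canonical description of `C`. -/
theorem mem_C_iff (h : TTPair p hab A t γ H₁) (x : H) : x ∈ h.C ↔ ∀ δ ∈ A, δ x ∈ H₁ := by
  constructor
  · intro hx δ hδ
    rw [h.tv.mem_iff_fix]
    have := h.conj_fix (A.inv_mem hδ) hx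
    rw [MulAut.mul_apply, MulAut.mul_apply, inv_inv] at this
    have h2 := congrArg δ this
    rwa [MulAut.apply_inv_self] at h2
  · intro hx
    rw [h.mem_C]
    refine ⟨by simpa using hx 1 A.one_mem, ?_⟩
    rw [mem_map_mulAut_iff]
    exact hx _ (A.inv_mem h.γA)

theorem C_inv (h : TTPair p hab A t γ H₁) {δ : MulAut H} (hδ : δ ∈ A) (x : H) : x ∈ h.C ↔ δ x ∈ h.C := by
  rw [h.mem_C_iff, h.mem_C_iff]
  constructor
  · intro hx ε hε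
    exact hx (ε * δ) (A.mul_mem hε hδ)
  · intro hx ε hε
    have := hx (ε * δ⁻¹) (A.mul_mem hε (A.inv_mem hδ))
    rwa [MulAut.mul_apply, MulAut.inv_apply_self] at this

/-- The centre of any conjugate of `t` lies in `V`. -/
theorem conj_cen_le (h : TTPair p hab A t γ H₁) {δ : MulAut H} (hδ : δ ∈ A) :
    tCen hab (δ * t * δ⁻¹) ≤ h.V := by
  obtain ⟨ℓ, -, hℓ, hmem⟩ := h.conj_class hδ
  refine le_trans ((h.tv.conj ℓ).tCen_le_of_mem_zpowers hmem) ?_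
  rw [tCen_conj]
  rintro _ ⟨z, hz, rfl⟩
  exact (hℓ.2 z).mp (left_le_prodSub hab _ _ hz)

theorem V_map_le (h : TTPair p hab A t γ H₁) {δ : MulAut H} (hδ : δ ∈ A) {v : H} (hv : v ∈ h.V) : δ v ∈ h.V := by
  obtain ⟨z₁, hz₁, z₂, hz₂, rfl⟩ := hv
  rw [map_mul]
  apply Subgroup.mul_mem
  · apply h.conj_cen_le hδ
    rw [tCen_conj]
    exact ⟨z₁, hz₁, rfl⟩
  · have hδγ : δ * γ ∈ A := A.mul_mem hδ h.γA
    apply h.conj_cen_le hδγ
    have e : δ * γ * t * (δ * γ)⁻¹ = δ * (γ * t * γ⁻¹) * δ⁻¹ := by group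
    rw [e, tCen_conj]
    exact ⟨z₂, hz₂, rfl⟩

theorem V_inv (h : TTPair p hab A t γ H₁) {δ : MulAut H} (hδ : δ ∈ A) (x : H) : x ∈ h.V ↔ δ x ∈ h.V := by
  constructor
  · exact h.V_map_le hδ
  · intro hx
    have := h.V_map_le (A.inv_mem hδ) hx
    rwa [MulAut.inv_apply_self] at this

/-- Frattini-type factorisation. -/
theorem frattini (h : TTPair p hab A t γ H₁) {β : MulAut H} (hβ : β ∈ A) :
    ∃ ℓ ∈ A, (∀ c ∈ h.C, ℓ c = c) ∧ (ℓ⁻¹ * β) * t * (ℓ⁻¹ * β)⁻¹ ∈ Subgroup.zpowers t := by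
  obtain ⟨ℓ, hℓA, hℓ, hmem⟩ := h.conj_class hβ
  refine ⟨ℓ, hℓA, fun c hc => hℓ.1 c ((h.mem_C c).mp hc).1 ((h.mem_C c).mp hc).2, ?_⟩
  have := conj_mem_zpowers hmem ℓ⁻¹
  have e1 : ℓ⁻¹ * (β * t * β⁻¹) * ℓ⁻¹⁻¹ = (ℓ⁻¹ * β) * t * (ℓ⁻¹ * β)⁻¹ := by group
  have e2 : ℓ⁻¹ * (ℓ * t * ℓ⁻¹) * ℓ⁻¹⁻¹ = t := by group
  rw [e1, e2] at this
  exact this

end TTPair

end Decomp

end Cfsg.Agent.Lib.Helper26
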