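import Mathlib
import Cfsg.Agent.Lib.Helper11.T23UDefs
import Cfsg.Agent.Lib.Helper11.C4UBasic
import Cfsg.Agent.Lib.Helper1.U23Opp

/-!
# S5801 conjunct (8), `q = 3` glue: an element of `M` fixing the fibre `x ⊗ B` pointwise lies in the root group `X_x`
(helper8's `fix_pointwise`).
-/

set_option autoImplicit false
set_option linter.unusedSectionVars false
set_option linter.unusedVariables false

namespace Cfsg.Agent.Lib.Helper26.U23Fix
open Matrix
open Cfsg.Agent.Lib.Helper25.Tens Cfsg.Agent.Lib.Helper25.TensLeaf Cfsg.Agent.Lib.Helper20.UT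
  Cfsg.Agent.Lib.Helper20.UTLeaf Cfsg.Agent.Lib.Helper5.UForm Cfsg.Agent.Lib.Helper5.HermBridge
  Cfsg.Agent.Lib.Helper11.T23U Cfsg.Agent.Lib.Helper1.U23Opp
open scoped Kronecker

variable {F : Type*} [Field F] [Fintype F] {q : ℕ}

/-- `y ↦ x ⊗ y` is injective for `x ≠ 0` -/
lemma pt_right_inj26 {a b : ℕ} {x : Fin a → F} (hx0 : x ≠ 0) {y y' : Fin b → F}
    (h : pt x y = pt x y') : y = y' := by
  obtain ⟨i, hi⟩ : ∃ i, x i ≠ 0 := by
    by_contra hh
    push Not at hh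
    exact hx0 (funext hh)
  funext l
  have e := congrFun h (i, l)
  simp only [pt] at e
  exact mul_left_cancel₀ hi e

/-- the standard basis vector of `F³` has norm one -/
lemma hv_single26 {n : ℕ} (i : Fin n) :
    hv q (Pi.single i (1 : F) : Fin n → F) (Pi.single i (1 : F)) = 1 := by
  unfold hv
  rw [Finset.sum_eq_single i]
  · simp
  · intro j _ hj; simp [hj]
  · simp

/-- a linear map of `F²` preserving `hv`, fixing the isotropic vector `x`, is the transvection `t_x(c)`, `c` skew -/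
lemma tv_of_fix26 (hF : Fintype.card F = q ^ 2) {x : Fin 2 → F} (hx0 : x ≠ 0) (hx : hv q x x = 0)
    (A : (Fin 2 → F) →ₗ[F] (Fin 2 → F)) (hA : ∀ a a', hv q (A a) (A a') = hv q a a') (hAx : A x = x) :
    ∃ c : F, c ^ q = -c ∧ ∀ a, A a = a + (c * hv q a x) • x := by
  have hf2 := hv_unitary (n := 2) hF
  obtain ⟨xs, -, hss, h1⟩ := exists_partner hf2 (ND_top hf2) (Submodule.mem_top (x := x)) hx0 hx
  have h1' : hv q xs x = 1 := by rw [← hv_conj hF, h1, one_pow]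
  have e2 : hv q (A xs) x = 1 := by
    have := hA xs x
    rw [hAx] at this
    rw [this, h1']
  have hdec := hyp_decomp2 hF hx hss h1 (A xs)
  rw [e2, one_smul] at hdec
  obtain ⟨c, hc⟩ : ∃ c : F, c = hv q (A xs) xs := ⟨_, rfl⟩
  rw [← hc] at hdec
  have hcs : c ^ q = -c := by
    have e := hA xs xs
    rw [hss, hdec, hv_add_left, hv_add_right hF, hv_add_right hF, hv_smul_left, hv_smul_left,
      hv_smul_right, hv_smul_right, hx, h1, h1', hss] at e
    linear_combination e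
  refine ⟨c, hcs, ?_⟩
  intro a
  have ha := hyp_decomp2 hF hx hss h1 a
  conv_lhs => rw [ha]
  rw [map_add, map_smul, map_smul, hAx, hdec]
  conv_rhs => rw [ha]
  rw [hv_add_left, hv_smul_left, hv_smul_left, hx, h1']
  module

/-- **`fix_pointwise`** (helper8): an element of `M` fixing the fibre `x ⊗ B` pointwise is an element `kA q x c hx` of the
root group `X_x`.  Only `M ≤ GS` and `(L1)` (as a hypothesis) are used. -/
theorem fix_pointwise {M : Subgroup (GL (Idx 2 3) F)} (hF : Fintype.card F = q ^ 2)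
    (hMG : M ≤ GS 2 3 q F) {x : Fin 2 → F} (hx0 : x ≠ 0) (hx : hv q x x = 0)
    (hL1 : ∀ m ∈ M, m ∈ StabA (b := 3) x → m ∈ KG 2 3 F) {m : GL (Idx 2 3) F} (hm : m ∈ M)
    (hfix : ∀ y : Fin 3 → F, mv m (pt x y) = pt x y) : ∃ c : F, c ^ q = -c ∧ m = kA q x c hx := by
  classical
  have hst : m ∈ StabA (b := 3) x := by
    apply Cfsg.Agent.Lib.Helper11.C4U.mem_StabA_of_maps
    intro y
    rw [hfix]
    exact mem_FibA.mpr ⟨y, rfl⟩
  obtain ⟨α, β, hαβ⟩ := (mem_KG_iff m).mp (hL1 m hm hst)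
  have hmpt : ∀ (a : Fin 2 → F) (y : Fin 3 → F), mv m (pt a y) =
      pt ((α : Matrix (Fin 2) (Fin 2) F) *ᵥ a) ((β : Matrix (Fin 3) (Fin 3) F) *ᵥ y) := by
    intro a y
    unfold mv
    rw [hαβ, kron_mulVec_pt]
  -- `α x = κ x`
  obtain ⟨e₀, he₀⟩ : ∃ e₀ : Fin 3 → F, e₀ = Pi.single 0 1 := ⟨_, rfl⟩
  have he₀0 : e₀ ≠ 0 := by
    rw [he₀]
    intro h
    have := congrFun h 0
    simp at this
  obtain ⟨κ, hκ⟩ := pt_left_of_eq hx0 he₀0 ((hmpt x e₀).symm.trans (hfix e₀))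
  have hβ : ∀ y : Fin 3 → F, κ • ((β : Matrix (Fin 3) (Fin 3) F) *ᵥ y) = y := by
    intro y
    apply pt_right_inj26 hx0
    rw [pt_smul_right, ← pt_smul_left, ← hκ, ← hmpt, hfix]
  have hκ0 : κ ≠ 0 := by
    rintro rfl
    apply he₀0
    rw [← hβ e₀, zero_smul]
  have hβ' : ∀ y : Fin 3 → F, (β : Matrix (Fin 3) (Fin 3) F) *ᵥ y = κ⁻¹ • y := by
    intro y
    rw [← hβ y, smul_smul, inv_mul_cancel₀ hκ0, one_smul, hβ y]
  -- the normalised `A`-part
  obtain ⟨A, hA⟩ : ∃ A : (Fin 2 → F) →ₗ[F] (Fin 2 → F),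
      A = κ⁻¹ • Matrix.toLin' (α : Matrix (Fin 2) (Fin 2) F) := ⟨_, rfl⟩
  have hAv : ∀ a, A a = κ⁻¹ • ((α : Matrix (Fin 2) (Fin 2) F) *ᵥ a) := by
    intro a
    rw [hA, LinearMap.smul_apply, Matrix.toLin'_apply]
  have hmA : ∀ (a : Fin 2 → F) (y : Fin 3 → F), mv m (pt a y) = pt (A a) y := by
    intro a y
    rw [hmpt, hβ', hAv, pt_smul_right, pt_smul_left]
  have hAx : A x = x := by
    rw [hAv, hκ, smul_smul, inv_mul_cancel₀ hκ0, one_smul]
  have hAiso : ∀ a a', hv q (A a) (A a') = hv q a a' := by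
    intro a a'
    have e := mem_GUI.mp (hMG hm).1 (pt a e₀) (pt a' e₀)
    rw [hmA, hmA, hv_pt, hv_pt, he₀, hv_single26, mul_one, mul_one] at e
    exact e
  obtain ⟨c, hcs, hAc⟩ := tv_of_fix26 hF hx0 hx A hAiso hAx
  refine ⟨c, hcs, ?_⟩
  have hf2 := hv_unitary (n := 2) hF
  obtain ⟨xs, -, hss, h1⟩ := exists_partner hf2 (ND_top hf2) (Submodule.mem_top (x := x)) hx0 hx
  apply ext_mv
  intro v
  have hv' := hyp_decompV (b := 3) hF hx hss h1 v
  rw [hv', mv_add, mv_add, hmA, hmA, mv_kA_pt, mv_kA_pt, hAc, hAc]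

end Cfsg.Agent.Lib.Helper26.U23Fix
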