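import Mathlib
import Cfsg.Agent.Lib.Helper12.U3Defs
import Cfsg.Agent.Lib.Helper4.U3BRUHAT
import Cfsg.Agent.Lib.Helper20.U3CARDQ

/-! S2148 market "U3": leaf FIXLE (`card_fixed_le`). -/

set_option autoImplicit false

namespace Cfsg.Agent.Lib.Helper26.U3Leaf

open Cfsg.Agent.Lib.Helper18.PSUMod Cfsg.Agent.Lib.Helper5.HermBridge Cfsg.Agent.Lib.Helper12.U3

section line

variable {F : Type*} [Field F] [Fintype F] {q : ℕ} (hF : Fintype.card F = q ^ 2)

/-- conjugation does not change the number of fixed points -/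
theorem card_fixed_conj26 {G : Type*} [Group G] (P : Subgroup G) (g k : G) :
    Nat.card {x : G ⧸ P // (k⁻¹ * g * k) • x = x} = Nat.card {x : G ⧸ P // g • x = x} := by
  refine Nat.card_congr ⟨fun x => ⟨k • x.1, ?_⟩, fun x => ⟨k⁻¹ • x.1, ?_⟩, ?_, ?_⟩
  · have h := x.2
    calc g • k • x.1 = k • (k⁻¹ * g * k) • x.1 := by
          rw [← mul_smul, ← mul_smul]; congr 1; group
      _ = k • x.1 := by rw [h]
  · have h := x.2
    calc (k⁻¹ * g * k) • k⁻¹ • x.1 = k⁻¹ • g • x.1 := by
          rw [← mul_smul, ← mul_smul]; congr 1; group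
      _ = k⁻¹ • x.1 := by rw [h]
  · intro x; apply Subtype.ext; simp
  · intro x; apply Subtype.ext; simp

/-- equality of cosets of `PP` in terms of the images of `ve` -/
theorem mk_eq_mk_of_smul26 (a b : GG hF) (t : F) (h : av a ve = t • av b (ve : V F 1)) :
    ((a : GG hF) : GG hF ⧸ PP hF) = ((b : GG hF) : GG hF ⧸ PP hF) := by
  rw [QuotientGroup.eq]
  have ht0 : t ≠ 0 := by
    rintro rfl
    rw [zero_smul, av_eq_zero] at h
    simp [ve] at h
  refine ⟨t⁻¹, ?_⟩
  rw [av_mul]
  apply av_injective a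
  rw [av_av_inv, av_smul, h, smul_smul, inv_mul_cancel₀ ht0, one_smul]

/-- a fixed coset gives an eigenvector -/
theorem eigen_of_fixed26 (g a : GG hF) (h : g • ((a : GG hF) : GG hF ⧸ PP hF) = (a : GG hF ⧸ PP hF)) :
    ∃ t : F, av g (av a (ve : V F 1)) = t • av a ve := by
  rw [MulAction.Quotient.smul_mk, smul_eq_mul, QuotientGroup.eq] at h
  have h' : a⁻¹ * (g * a) ∈ PP hF := by
    have := (PP hF).inv_mem h
    have e : ((g * a)⁻¹ * a)⁻¹ = a⁻¹ * (g * a) := by group
    rwa [e] at this
  obtain ⟨t, ht⟩ := h'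
  refine ⟨t, ?_⟩
  rw [av_mul, av_mul] at ht
  have := congrArg (av a) ht
  rwa [av_av_inv, av_smul] at this

/-- equality of cosets from the coordinates of the images of `ve` on the line `⟨ve, vf⟩` -/
theorem mk_eq_of_coords26 (a b : GG hF) (α β α' β' : F)
    (hu : av a (ve : V F 1) = α • ve + β • vf) (hu' : av b (ve : V F 1) = α' • ve + β' • vf)
    (h : (β = 0 ∧ β' = 0) ∨ (β ≠ 0 ∧ β' ≠ 0 ∧ α / β = α' / β')) :
    ((a : GG hF) : GG hF ⧸ PP hF) = ((b : GG hF) : GG hF ⧸ PP hF) := by
  rcases h with ⟨h1, h2⟩ | ⟨h1, h2, h3⟩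
  · rw [h1, zero_smul, add_zero] at hu
    rw [h2, zero_smul, add_zero] at hu'
    have hα' : α' ≠ 0 := by
      rintro rfl
      rw [zero_smul, av_eq_zero] at hu'
      simp [ve] at hu'
    apply mk_eq_mk_of_smul26 hF _ _ (α / α')
    rw [hu, hu', smul_smul]
    congr 1
    field_simp
  · apply mk_eq_mk_of_smul26 hF _ _ (β / β')
    rw [hu, hu', smul_add, smul_smul, smul_smul]
    have e1 : α = β / β' * α' := by
      field_simp
      field_simp at h3
      linear_combination h3
    have e2 : β = β / β' * β' := by field_simp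
    rw [← e1, ← e2]

/-- Lemma 1: a non-central element of `LL` fixes at most `q + 1` isotropic points -/
theorem card_fixed_le_of_LL26 (l : GG hF) (hl : l ∈ LL hF) (hlc : l ∉ Subgroup.center (GG hF)) :
    Nat.card {x : GG hF ⧸ PP hF // l • x = x} ≤ q + 1 := by
  classical
  have hB := barOK_frob hF
  -- the key fact on fixed isotropic vectors
  have key : ∀ u : V F 1, hV (frobHom hF) u u = 0 → (∃ t : F, av l u = t • u) → u.2.1 = 0 := by
    intro u hu ⟨t, ht⟩
    by_contra hw
    have hw0 : u.2.1 0 ≠ 0 := by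
      intro h0
      apply hw
      funext i
      have : i = 0 := Subsingleton.elim _ _
      rw [this, h0]; rfl
    -- coordinates of `av l u`
    have h1 : av l u = (u.1 * ca l) • ve + vw (Bof (l : V F 1 ≃ₗ[F] V F 1) u.2.1) + (u.2.2 * cb l) • vf := by
      conv_lhs => rw [decomp u]
      rw [av_add, av_add, av_smul, av_smul, av_ve_of_mem_Pe hl.1, av_vf_of_mem_Pf hl.2,
        av_vw_of_mem_Le hl, smul_smul, smul_smul]
    have e1 : u.1 * ca l = t * u.1 := by
      have := congrArg Prod.fst (h1.symm.trans ht)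
      simpa [ve, vf, vw] using this
    have e2 : u.2.2 * cb l = t * u.2.2 := by
      have := congrArg (fun z : V F 1 => z.2.2) (h1.symm.trans ht)
      simpa [ve, vf, vw] using this
    have e3 : Bof (l : V F 1 ≃ₗ[F] V F 1) u.2.1 = t • u.2.1 := by
      have := congrArg (fun z : V F 1 => z.2.1) (h1.symm.trans ht)
      simpa [ve, vf, vw] using this
    -- isotropy forces both outer coordinates to be nonzero
    have h2 : hV (frobHom hF) u u = u.1 * frobHom hF u.2.2 + u.2.2 * frobHom hF u.1 +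
        hW (frobHom hF) u.2.1 u.2.1 := rfl
    have h3 : hW (frobHom hF) u.2.1 u.2.1 = u.2.1 0 * frobHom hF (u.2.1 0) := by
      simp [hW]
    have h4 : u.2.1 0 * frobHom hF (u.2.1 0) ≠ 0 :=
      mul_ne_zero hw0 ((map_ne_zero _).2 hw0)
    have ha : u.1 ≠ 0 := by
      intro h
      rw [h2, h3, h, map_zero, zero_mul, mul_zero, zero_add, zero_add] at hu
      exact h4 hu
    have hb : u.2.2 ≠ 0 := by
      intro h
      rw [h2, h3, h, map_zero, zero_mul, mul_zero, zero_add, zero_add] at hu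
      exact h4 hu
    have e4 : ca l = t := by
      have : u.1 * (ca l - t) = 0 := by linear_combination e1
      rcases mul_eq_zero.1 this with h | h
      · exact absurd h ha
      · exact sub_eq_zero.1 h
    have e5 : cb l = t := by
      have : u.2.2 * (cb l - t) = 0 := by linear_combination e2
      rcases mul_eq_zero.1 this with h | h
      · exact absurd h hb
      · exact sub_eq_zero.1 h
    -- `Bof l` is the scalar `t` on all of `Fin 1 → F`
    have e6 : ∀ w : Fin 1 → F, Bof (l : V F 1 ≃ₗ[F] V F 1) w = t • w := by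
      intro w
      have hw' : w = (w 0 / u.2.1 0) • u.2.1 := by
        funext i
        have : i = 0 := Subsingleton.elim _ _
        rw [this]
        simp only [Pi.smul_apply, smul_eq_mul]
        field_simp
      rw [hw', map_smul, e3, smul_comm]
    -- so `l` is scalar, hence central
    apply hlc
    rw [center_eq_Zs hB]
    refine ⟨t, fun x => ?_⟩
    rw [decomp x, av_add, av_add, av_smul, av_smul, av_ve_of_mem_Pe hl.1, av_vw_of_mem_Le hl,
      av_vf_of_mem_Pf hl.2, e4, e5, e6]
    have hvw : (vw (t • x.2.1) : V F 1) = t • vw x.2.1 := by simp [vw]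
    rw [hvw, smul_comm x.1 t, smul_comm x.2.2 t, ← smul_add, ← smul_add]
  -- the injection into `Option (trace kernel)`
  have hfin : Finite {c : F // c + frobHom hF c = 0} := inferInstance
  have hcardT : Nat.card (Option {c : F // c + frobHom hF c = 0}) = q + 1 := by
    rw [Finite.card_option, Cfsg.Agent.Lib.Helper20.U3Leaf.card_tr_ker hF]
  rw [← hcardT]
  -- data attached to a fixed point
  have hdata : ∀ x : {x : GG hF ⧸ PP hF // l • x = x},
      (av (Quotient.out x.1) (ve : V F 1)).2.1 = 0 ∧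
      hV (frobHom hF) (av (Quotient.out x.1) ve) (av (Quotient.out x.1) (ve : V F 1)) = 0 := by
    intro x
    have hiso : hV (frobHom hF) (av (Quotient.out x.1) ve) (av (Quotient.out x.1) (ve : V F 1)) = 0 := by
      rw [hV_av]; simp [hV, ve]
    refine ⟨key _ hiso ?_, hiso⟩
    apply eigen_of_fixed26 hF l (Quotient.out x.1)
    have : ((Quotient.out x.1 : GG hF) : GG hF ⧸ PP hF) = x.1 := Quotient.out_eq' x.1
    rw [this]; exact x.2
  let ψ : {x : GG hF ⧸ PP hF // l • x = x} → Option {c : F // c + frobHom hF c = 0} := fun x =>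
    if h : (av (Quotient.out x.1) (ve : V F 1)).2.2 = 0 then none
    else some ⟨(av (Quotient.out x.1) (ve : V F 1)).1 / (av (Quotient.out x.1) (ve : V F 1)).2.2, by
      obtain ⟨hw, hiso⟩ := hdata x
      set u := av (Quotient.out x.1) (ve : V F 1) with hu
      have h2 : hV (frobHom hF) u u = u.1 * frobHom hF u.2.2 + u.2.2 * frobHom hF u.1 +
          hW (frobHom hF) u.2.1 u.2.1 := rfl
      rw [h2, hw] at hiso
      have h3 : hW (frobHom hF) (0 : Fin 1 → F) 0 = 0 := by simp [hW]
      rw [h3, add_zero] at hiso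
      have hb' : frobHom hF u.2.2 ≠ 0 := (map_ne_zero _).2 h
      rw [map_div₀]
      field_simp
      linear_combination hiso⟩
  apply Nat.card_le_card_of_injective ψ
  intro x x' hxx
  apply Subtype.ext
  have hx : ((Quotient.out x.1 : GG hF) : GG hF ⧸ PP hF) = x.1 := Quotient.out_eq' x.1
  have hx' : ((Quotient.out x'.1 : GG hF) : GG hF ⧸ PP hF) = x'.1 := Quotient.out_eq' x'.1
  rw [← hx, ← hx']
  obtain ⟨hw, hiso⟩ := hdata x
  obtain ⟨hw', hiso'⟩ := hdata x'
  have hdu : av (Quotient.out x.1) (ve : V F 1) = (av (Quotient.out x.1) (ve : V F 1)).1 • ve +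
      (av (Quotient.out x.1) (ve : V F 1)).2.2 • vf := by
    conv_lhs => rw [decomp (av (Quotient.out x.1) (ve : V F 1)), hw]
    simp [vw]
  have hdu' : av (Quotient.out x'.1) (ve : V F 1) = (av (Quotient.out x'.1) (ve : V F 1)).1 • ve +
      (av (Quotient.out x'.1) (ve : V F 1)).2.2 • vf := by
    conv_lhs => rw [decomp (av (Quotient.out x'.1) (ve : V F 1)), hw']
    simp [vw]
  apply mk_eq_of_coords26 hF _ _ _ _ _ _ hdu hdu'
  simp only [ψ] at hxx
  by_cases h : (av (Quotient.out x.1) (ve : V F 1)).2.2 = 0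
  · by_cases h' : (av (Quotient.out x'.1) (ve : V F 1)).2.2 = 0
    · exact Or.inl ⟨h, h'⟩
    · exfalso
      rw [dif_pos h, dif_neg h'] at hxx
      cases hxx
  · by_cases h' : (av (Quotient.out x'.1) (ve : V F 1)).2.2 = 0
    · exfalso
      rw [dif_neg h, dif_pos h'] at hxx
      cases hxx
    · rw [dif_neg h, dif_neg h'] at hxx
      have := Subtype.ext_iff.1 (Option.some.inj hxx)
      exact Or.inr ⟨h, h', this⟩

/-- Lemma 2: an element with two fixed points is conjugate into `LL` -/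
theorem exists_conj_mem_LL26 (g a b : GG hF)
    (ha : g • ((a : GG hF) : GG hF ⧸ PP hF) = (a : GG hF ⧸ PP hF))
    (hb : g • ((b : GG hF) : GG hF ⧸ PP hF) = (b : GG hF ⧸ PP hF))
    (hab : ((a : GG hF) : GG hF ⧸ PP hF) ≠ (b : GG hF ⧸ PP hF)) :
    ∃ k : GG hF, k⁻¹ * g * k ∈ LL hF := by
  have hB := barOK_frob hF
  have hb'P : a⁻¹ * b ∉ PP hF := by
    intro h
    apply hab
    rw [QuotientGroup.eq]; exact h
  obtain ⟨hiso, hfar⟩ := Cfsg.Agent.Lib.Helper4.U3Leaf.far_of_not_mem hF _ hb'P
  obtain ⟨y, hy⟩ := exists_EG_of_far hB.invol hiso hfar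
  set E := EG hB.invol y with hE
  have hEP : E ∈ PP hF := Qe_le_Pe hB.invol ⟨y, rfl⟩
  -- `g1 = a⁻¹ g a ∈ PP`
  have hg1 : a⁻¹ * g * a ∈ PP hF := by
    rw [MulAction.Quotient.smul_mk, smul_eq_mul, QuotientGroup.eq] at ha
    have := (PP hF).inv_mem ha
    have e : ((g * a)⁻¹ * a)⁻¹ = a⁻¹ * g * a := by group
    rwa [e] at this
  refine ⟨a * E, ⟨?_, ?_⟩⟩
  · have e : (a * E)⁻¹ * g * (a * E) = E⁻¹ * (a⁻¹ * g * a) * E := by group
    rw [e]
    exact (PP hF).mul_mem ((PP hF).mul_mem ((PP hF).inv_mem hEP) hg1) hEP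
  · -- `g` scales `av b ve`
    obtain ⟨t, ht⟩ := eigen_of_fixed26 hF g b hb
    refine ⟨t, ?_⟩
    have e : (a * E)⁻¹ * g * (a * E) = E⁻¹ * a⁻¹ * g * a * E := by group
    rw [e]
    -- `av E vf = s⁻¹ • av (a⁻¹ b) ve`
    set s := (av (a⁻¹ * b) (ve : V F 1)).2.2 with hs
    have h1 : av E (vf : V F 1) = s⁻¹ • av (a⁻¹ * b) ve := by
      rw [hy, smul_smul, inv_mul_cancel₀ hfar, one_smul]
    have h2 : av a (av E (vf : V F 1)) = s⁻¹ • av b ve := by
      rw [h1, av_smul, av_mul, av_av_inv]
    have h3 : av a⁻¹ (av b (ve : V F 1)) = s • av E vf := by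
      rw [← av_mul]; exact hy
    calc av (E⁻¹ * a⁻¹ * g * a * E) (vf : V F 1)
        = av E⁻¹ (av a⁻¹ (av g (av a (av E vf)))) := by simp only [av_mul]
      _ = av E⁻¹ (av a⁻¹ (av g (s⁻¹ • av b ve))) := by rw [h2]
      _ = av E⁻¹ (av a⁻¹ ((s⁻¹ * t) • av b ve)) := by rw [av_smul, ht, smul_smul]
      _ = av E⁻¹ ((s⁻¹ * t) • (s • av E vf)) := by rw [av_smul, h3]
      _ = t • vf := by
        rw [smul_smul, av_smul, av_inv_av]
        congr 1
        field_simp

/-- N10a FIXBOUND: a non-central element fixes at most `q + 1` isotropic points. -/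
theorem card_fixed_le (g : GG hF) (hg : g ∉ Subgroup.center (GG hF)) :
    Nat.card {x : GG hF ⧸ PP hF // g • x = x} ≤ q + 1 := by
  classical
  by_cases h : ∃ k : GG hF, k⁻¹ * g * k ∈ LL hF
  · obtain ⟨k, hk⟩ := h
    rw [← card_fixed_conj26 (PP hF) g k]
    apply card_fixed_le_of_LL26 hF _ hk
    intro hc
    apply hg
    have : g = k * (k⁻¹ * g * k) * k⁻¹ := by group
    rw [this]
    exact (Subgroup.center (GG hF)).normal_of_characteristic.conj_mem _ hc k
  · have hsub : Subsingleton {x : GG hF ⧸ PP hF // g • x = x} := by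
      constructor
      rintro ⟨x, hx⟩ ⟨x', hx'⟩
      by_contra hne
      apply h
      induction x using QuotientGroup.induction_on with
      | H a =>
        induction x' using QuotientGroup.induction_on with
        | H b =>
          exact exists_conj_mem_LL26 hF g a b hx hx' (fun e => hne (Subtype.ext e))
    have := Finite.card_le_one_iff_subsingleton.2 hsub
    omega

end line

end Cfsg.Agent.Lib.Helper26.U3Leaf
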