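import Mathlib
import Cfsg.Agent.Lib.Helper12.U3Defs

/-! S2148 market "U3": leaf SWAP (`swap`). -/

set_option autoImplicit false

namespace Cfsg.Agent.Lib.Helper26.U3Leaf

open Cfsg.Agent.Lib.Helper18.PSUMod Cfsg.Agent.Lib.Helper5.HermBridge Cfsg.Agent.Lib.Helper12.U3

section borel

variable {F : Type*} [Field F] [Fintype F] {q : ℕ} (hF : Fintype.card F = q ^ 2)

/-- a nonzero scalar whose norm is not one (`3 ≤ q`) -/
theorem exists_norm_ne_one26 (hq : 3 ≤ q) : ∃ l : F, l ≠ 0 ∧ l * frobHom hF l ≠ 1 := by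
  classical
  obtain ⟨g, hg⟩ := IsCyclic.exists_generator (α := Fˣ)
  have hord : orderOf g = q ^ 2 - 1 := by
    rw [orderOf_eq_card_of_forall_mem_zpowers hg, Nat.card_eq_fintype_card, Fintype.card_units, hF]
  refine ⟨(g : F), g.ne_zero, ?_⟩
  intro h
  rw [frob_apply, ← pow_succ'] at h
  have h1 : g ^ (q + 1) = 1 := by
    apply Units.ext
    push_cast
    exact h
  have h2 : orderOf g ∣ q + 1 := orderOf_dvd_of_pow_eq_one h1
  rw [hord] at h2
  have h3 := Nat.le_of_dvd (by omega) h2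
  have h4 : q * 3 ≤ q * q := Nat.mul_le_mul_left q hq
  have h5 : q ^ 2 = q * q := by ring
  omega

/-- an element of `LL` with prescribed `ca` -/
theorem exists_LL_ca26 {l : F} (hl0 : l ≠ 0) : ∃ g ∈ LL hF, ca g = l := by
  obtain ⟨g, hg⟩ := exists_SUm_ca (m := 1) (barOK_frob hF) le_rfl hl0
  have hgP : g ∈ PP hF := ⟨l, hg⟩
  obtain ⟨x, t, ht, hgt⟩ := Pe_decomp (barOK_frob hF).invol hgP
  refine ⟨t, ht, ?_⟩
  have h1 : av g ve = ca t • (ve : V F 1) := by
    rw [hgt, av_mul, av_ve_of_mem_Pe ht.1, av_smul, av_EG_ve]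
  rw [hg] at h1
  have h2 := congrArg Prod.fst h1
  simpa [ve] using h2.symm

/-- the isotropic points fixed by `LL` are `⟨ve⟩` and `⟨vf⟩` -/
theorem fixed_of_LL26 (hq : 3 ≤ q) (u : V F 1) (hu : hV (frobHom hF) u u = 0)
    (hfix : ∀ l ∈ LL hF, ∃ c : F, av l u = c • u) :
    (∃ a : F, u = a • ve) ∨ (∃ b : F, u = b • vf) := by
  obtain ⟨lam, hlam0, hlam⟩ := exists_norm_ne_one26 hF hq
  obtain ⟨l, hl, hca⟩ := exists_LL_ca26 hF hlam0
  obtain ⟨c, hc⟩ := hfix l hl
  -- coordinates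
  have hdec := decomp u
  have h1 : av l u = (u.1 * ca l) • ve + vw (Bof (l : V F 1 ≃ₗ[F] V F 1) u.2.1) + (u.2.2 * cb l) • vf := by
    conv_lhs => rw [hdec]
    rw [av_add, av_add, av_smul, av_smul, av_ve_of_mem_Pe hl.1, av_vf_of_mem_Pf hl.2,
      av_vw_of_mem_Le hl, smul_smul, smul_smul]
  have hab : u.1 = 0 ∨ u.2.2 = 0 := by
    by_contra hcon
    push Not at hcon
    obtain ⟨ha, hb⟩ := hcon
    have e1 : u.1 * ca l = c * u.1 := by
      have := congrArg Prod.fst (h1.symm.trans hc)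
      simpa [ve, vf, vw] using this
    have e2 : u.2.2 * cb l = c * u.2.2 := by
      have := congrArg (fun z : V F 1 => z.2.2) (h1.symm.trans hc)
      simpa [ve, vf, vw] using this
    have e3 : ca l = c := by
      have : u.1 * (ca l - c) = 0 := by linear_combination e1
      rcases mul_eq_zero.1 this with h | h
      · exact absurd h ha
      · exact sub_eq_zero.1 h
    have e4 : cb l = c := by
      have : u.2.2 * (cb l - c) = 0 := by linear_combination e2
      rcases mul_eq_zero.1 this with h | h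
      · exact absurd h hb
      · exact sub_eq_zero.1 h
    have e5 := ca_mul_cb hl.1
    rw [e4, ← e3, hca] at e5
    exact hlam e5
  -- the middle coordinate vanishes
  have hw : u.2.1 = 0 := by
    have h2 : hV (frobHom hF) u u = u.1 * frobHom hF u.2.2 + u.2.2 * frobHom hF u.1 +
        hW (frobHom hF) u.2.1 u.2.1 := rfl
    have h3 : hW (frobHom hF) u.2.1 u.2.1 = 0 := by
      rw [h2] at hu
      rcases hab with h | h
      · rw [h, map_zero, zero_mul, mul_zero, zero_add, zero_add] at hu; exact hu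
      · rw [h, map_zero, zero_mul, mul_zero, zero_add, zero_add] at hu; exact hu
    have h4 : u.2.1 0 * frobHom hF (u.2.1 0) = 0 := by
      simpa [hW] using h3
    have h5 : u.2.1 0 = 0 := by
      rcases mul_eq_zero.1 h4 with h | h
      · exact h
      · exact (map_eq_zero _).1 h
    funext i
    have : i = 0 := Subsingleton.elim _ _
    rw [this, h5]; rfl
  rcases hab with h | h
  · right
    refine ⟨u.2.2, ?_⟩
    conv_lhs => rw [hdec]
    rw [h, hw, zero_smul, zero_add]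
    simp [vw, vf]
  · left
    refine ⟨u.1, ?_⟩
    conv_lhs => rw [hdec]
    rw [h, hw, zero_smul, add_zero]
    simp [vw, ve]

/-- B5 SWAP -/
theorem swap (hq : 3 ≤ q) (H : Subgroup (GG hF)) (htr : Trans hF H) (hK : H ⊓ PP hF = LL hF) :
    ∃ h ∈ H, h ∉ PP hF ∧ h * h ∈ PP hF := by
  obtain ⟨g, a, ha0, hga⟩ := exists_vf_eq (m := 1) (barOK_frob hF)
  obtain ⟨h, hhH, b, hbP, hgb⟩ := htr g
  -- `av h ve = γ • vf`
  have hbve := av_ve_of_mem_Pe hbP
  have hcb0 := ca_ne_zero hbP
  have h1 : (vf : V F 1) = (a * ca b) • av h ve := by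
    rw [hga, hgb, av_mul, hbve, av_smul, smul_smul]
  have hγ0 : a * ca b ≠ 0 := mul_ne_zero ha0 hcb0
  set γ : F := (a * ca b)⁻¹ with hγ
  have hγ0' : γ ≠ 0 := inv_ne_zero hγ0
  have h2 : av h ve = γ • (vf : V F 1) := by
    rw [h1, smul_smul, hγ, inv_mul_cancel₀ hγ0, one_smul]
  have h2' : av h⁻¹ (vf : V F 1) = (a * ca b) • ve := by
    apply av_injective h
    rw [av_av_inv, av_smul, h2, smul_smul, hγ, mul_inv_cancel₀ hγ0, one_smul]
  have hLH : LL hF ≤ H := by rw [← hK]; exact inf_le_left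
  -- `u := av h vf` is fixed by `LL`
  have hu : hV (frobHom hF) (av h vf) (av h (vf : V F 1)) = 0 := by
    rw [hV_av]; simp [hV, vf]
  have hfix : ∀ l ∈ LL hF, ∃ c : F, av l (av h (vf : V F 1)) = c • av h vf := by
    intro l hl
    have hmem : h⁻¹ * l * h ∈ LL hF := by
      rw [← hK]
      refine ⟨H.mul_mem (H.mul_mem (H.inv_mem hhH) (hLH hl)) hhH, ?_⟩
      refine ⟨cb l, ?_⟩
      rw [av_mul, av_mul, h2, av_smul, av_vf_of_mem_Pf hl.2, av_smul, av_smul, h2', smul_smul,
        smul_smul]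
      congr 1
      rw [hγ]
      field_simp
    obtain ⟨c, hc⟩ := hmem.2
    refine ⟨c, ?_⟩
    have : av (h⁻¹ * l * h) vf = av h⁻¹ (av l (av h (vf : V F 1))) := by
      rw [av_mul, av_mul]
    rw [this] at hc
    have := congrArg (av h) hc
    rwa [av_av_inv, av_smul] at this
  have hnotP : h ∉ PP hF := by
    rintro ⟨α, hα⟩
    rw [h2] at hα
    have := congrArg (fun z : V F 1 => z.2.2) hα
    simp [ve, vf] at this
    exact hγ0' this
  refine ⟨h, hhH, hnotP, ?_⟩
  rcases fixed_of_LL26 hF hq _ hu hfix with ⟨a', ha'⟩ | ⟨b', hb'⟩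
  · exact ⟨γ * a', by rw [av_mul, h2, av_smul, ha', smul_smul]⟩
  · exfalso
    -- `av h (b' • ve) = av h (γ • vf)`
    have h3 : av h (b' • (ve : V F 1)) = av h (γ • vf) := by
      rw [av_smul, av_smul, h2, hb', smul_smul, smul_smul, mul_comm]
    have h4 := av_injective h h3
    have := congrArg (fun z : V F 1 => z.2.2) h4
    simp [ve, vf] at this
    exact hγ0' this.symm

end borel

end Cfsg.Agent.Lib.Helper26.U3Leaf
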