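import Mathlib

/-!
# Systems of imprimitivity and fixed vectors of 2-groups (helper26, for S4414)

`ImpSys X τ`: a complete family of orthogonal idempotents `π x` (`x : X`) on the space of a
representation `τ` of `S`, permuted by `S` compatibly with an action of `S` on `X`.
-/

set_option autoImplicit false
set_option linter.style.haveILetI false

namespace Cfsg.Agent.Lib.Helper26.W2

open scoped BigOperators

/-- A system of imprimitivity for the representation `τ`. -/
structure ImpSys {K S M : Type*} (X : Type*) [Field K] [Group S] [AddCommGroup M] [Module K M]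
    [MulAction S X] [Fintype X] (τ : Representation K S M) where
  /-- the projections -/
  π : X → Module.End K M
  sum_eq : ∑ x, π x = 1
  mul_self : ∀ x, π x * π x = π x
  mul_ne : ∀ x y, x ≠ y → π x * π y = 0
  conj : ∀ (s : S) (x : X), τ s * π x = π (s • x) * τ s

section basic

variable {K S M X : Type*} [Field K] [Group S] [AddCommGroup M] [Module K M]
  [MulAction S X] [Fintype X] {τ : Representation K S M} (P : ImpSys X τ)

/-- the support of a vector -/
def ImpSys.supp (f : M) : Set X := {x | P.π x f ≠ 0}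

/-- the weights: the indices with nonzero projection -/
def ImpSys.wt : Set X := {x | P.π x ≠ 0}

theorem ImpSys.mem_supp {f : M} {x : X} : x ∈ P.supp f ↔ P.π x f ≠ 0 := Iff.rfl

theorem ImpSys.pi_tau (s : S) (x : X) (f : M) : P.π (s • x) (τ s f) = τ s (P.π x f) := by
  have h := congrArg (fun T : Module.End K M => T f) (P.conj s x)
  exact h.symm

theorem tau_inv_tau (τ : Representation K S M) (s : S) (f : M) : τ s⁻¹ (τ s f) = f := by
  have h : τ s⁻¹ * τ s = 1 := by rw [← map_mul, inv_mul_cancel, map_one]
  have h2 := congrArg (fun T : Module.End K M => T f) h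
  exact h2

theorem tau_tau_inv (τ : Representation K S M) (s : S) (f : M) : τ s (τ s⁻¹ f) = f := by
  have h := tau_inv_tau τ s⁻¹ f
  rwa [inv_inv] at h

theorem tau_eq_zero_iff (τ : Representation K S M) (s : S) (f : M) : τ s f = 0 ↔ f = 0 := by
  constructor
  · intro h
    have := tau_inv_tau τ s f
    rw [h, map_zero] at this
    exact this.symm
  · intro h; rw [h, map_zero]

theorem ImpSys.smul_mem_supp_iff (s : S) (x : X) (f : M) :
    s • x ∈ P.supp (τ s f) ↔ x ∈ P.supp f := by
  rw [P.mem_supp, P.mem_supp, P.pi_tau, Ne, tau_eq_zero_iff]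

theorem ImpSys.mem_supp_tau_iff (s : S) (x : X) (f : M) :
    x ∈ P.supp (τ s f) ↔ s⁻¹ • x ∈ P.supp f := by
  rw [← P.smul_mem_supp_iff s (s⁻¹ • x) f, smul_inv_smul]

theorem ImpSys.sum_pi_apply (f : M) : ∑ x, P.π x f = f := by
  have h := congrArg (fun T : Module.End K M => T f) P.sum_eq
  simpa [LinearMap.sum_apply] using h

theorem ImpSys.supp_nonempty {f : M} (hf : f ≠ 0) : (P.supp f).Nonempty := by
  by_contra h
  rw [Set.not_nonempty_iff_eq_empty] at h
  apply hf
  rw [← P.sum_pi_apply f]
  apply Finset.sum_eq_zero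
  intro x _
  by_contra hx
  have : x ∈ P.supp f := hx
  rw [h] at this
  exact this

theorem ImpSys.pi_pi_self (x : X) (f : M) : P.π x (P.π x f) = P.π x f := by
  have h := congrArg (fun T : Module.End K M => T f) (P.mul_self x)
  simpa [Module.End.mul_apply] using h

theorem ImpSys.pi_pi_ne {x y : X} (hxy : x ≠ y) (f : M) : P.π x (P.π y f) = 0 := by
  have h := congrArg (fun T : Module.End K M => T f) (P.mul_ne x y hxy)
  simpa [Module.End.mul_apply] using h

theorem ImpSys.smul_mem_wt {x : X} (hx : x ∈ P.wt) (s : S) : s • x ∈ P.wt := by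
  intro h0
  apply hx
  ext f
  have h1 := P.pi_tau s x f
  rw [h0] at h1
  have h2 : τ s (P.π x f) = 0 := by rw [← h1]; rfl
  rw [tau_eq_zero_iff] at h2
  rw [h2]; rfl

/-- vectors with "private" support points are linearly independent -/
theorem ImpSys.linearIndependent_of_supp {ι : Type*} (e : ι → M)
    (h : ∀ i, ∃ x ∈ P.supp (e i), ∀ j, j ≠ i → x ∉ P.supp (e j)) :
    LinearIndependent K e := by
  classical
  rw [linearIndependent_iff']
  intro s g hsum i hi
  obtain ⟨x, hx, hxj⟩ := h i
  have h1 := congrArg (P.π x) hsum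
  rw [map_sum, map_zero] at h1
  rw [Finset.sum_eq_single i] at h1
  · rw [map_smul, smul_eq_zero] at h1
    rcases h1 with h1 | h1
    · exact h1
    · exact absurd h1 hx
  · intro j _ hji
    rw [map_smul]
    have := hxj j hji
    rw [P.mem_supp, not_not] at this
    rw [this, smul_zero]
  · intro hi'
    exact absurd hi hi'

/-- the fixed space of a subgroup -/
def fixedSub (τ : Representation K S M) (H : Subgroup S) : Submodule K M where
  carrier := {f | ∀ h ∈ H, τ h f = f}
  add_mem' := by
    intro a b ha hb h hh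
    rw [map_add, ha h hh, hb h hh]
  zero_mem' := by
    intro h _
    rw [map_zero]
  smul_mem' := by
    intro c a ha h hh
    rw [map_smul, ha h hh]

theorem mem_fixedSub {τ : Representation K S M} {H : Subgroup S} {f : M} :
    f ∈ fixedSub τ H ↔ ∀ h ∈ H, τ h f = f := Iff.rfl

end basic

/-- a 2-group acting linearly on a finite space of characteristic 2 fixes a nonzero vector in
every nonzero invariant subspace -/
theorem exists_fixed_ne_zero {K S M : Type*} [Field K] [CharP K 2] [Group S] [AddCommGroup M]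
    [Module K M] [Finite M] (τ : Representation K S M) (H : Subgroup S) (hH : IsPGroup 2 H)
    (N : Submodule K M) (hN : N ≠ ⊥) (hinv : ∀ h ∈ H, ∀ f ∈ N, τ h f ∈ N) :
    ∃ f ∈ N, f ≠ 0 ∧ ∀ h ∈ H, τ h f = f := by
  classical
  haveI : Fact (Nat.Prime 2) := ⟨Nat.prime_two⟩
  let _ : MulAction H N :=
    { smul := fun h u => ⟨τ h.1 u.1, hinv h.1 h.2 u.1 u.2⟩
      one_smul := fun u => by
        apply Subtype.ext
        change τ ((1 : H) : S) u.1 = u.1
        simp
      mul_smul := fun g h u => by
        apply Subtype.ext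
        change τ ((g * h : H) : S) u.1 = τ g.1 (τ h.1 u.1)
        simp }
  have hsmul : ∀ (g : H) (u : N), ((g • u : N) : M) = τ g.1 u.1 := fun g u => rfl
  have h0 : (0 : N) ∈ MulAction.fixedPoints H N := by
    intro g
    apply Subtype.ext
    rw [hsmul]
    simp
  have hcard : 2 ∣ Nat.card N := by
    obtain ⟨w, hwN, hw0⟩ := (Submodule.ne_bot_iff N).mp hN
    have h1 : (2 : ℕ) • (⟨w, hwN⟩ : N) = 0 := by
      rw [← Nat.cast_smul_eq_nsmul K 2 (⟨w, hwN⟩ : N), CharP.cast_eq_zero K 2, zero_smul]
    have h2 : addOrderOf (⟨w, hwN⟩ : N) ∣ 2 := addOrderOf_dvd_of_nsmul_eq_zero h1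
    have h3 : addOrderOf (⟨w, hwN⟩ : N) ≠ 1 := by
      rw [Ne, AddMonoid.addOrderOf_eq_one_iff]
      intro h
      exact hw0 (congrArg Subtype.val h)
    have h4 : addOrderOf (⟨w, hwN⟩ : N) = 2 := by
      rcases (Nat.dvd_prime Nat.prime_two).mp h2 with h | h
      · exact absurd h h3
      · exact h
    rw [← h4]
    exact addOrderOf_dvd_natCard _
  obtain ⟨b, hb, hbne⟩ := hH.exists_fixed_point_of_prime_dvd_card_of_fixed_point N hcard h0
  refine ⟨b.1, b.2, ?_, fun g hg => ?_⟩
  · intro h
    apply hbne
    apply Subtype.ext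
    rw [h]; rfl
  · have := hb ⟨g, hg⟩
    have h2 := congrArg Subtype.val this
    rw [hsmul] at h2
    exact h2

end Cfsg.Agent.Lib.Helper26.W2
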