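import Cfsg.Agent.Lib.Helper26.W2A

/-!
# Fixed vectors of a 2-subgroup supported on its orbits (helper26, for S4414)
-/

set_option autoImplicit false
set_option linter.style.haveILetI false

namespace Cfsg.Agent.Lib.Helper26.W2

open scoped BigOperators

variable {K S M X : Type*} [Field K] [Group S] [AddCommGroup M] [Module K M]
  [MulAction S X] [Fintype X] {τ : Representation K S M} (P : ImpSys X τ)

/-- for every `H`-orbit of weights there is an `H`-fixed vector whose support is that orbit -/
theorem ImpSys.exists_fixed_supp_eq_orbit [CharP K 2] [Finite M] (H : Subgroup S)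
    (hH : IsPGroup 2 H) {x : X} (hx : x ∈ P.wt) :
    ∃ f : M, f ∈ fixedSub τ H ∧ P.supp f = MulAction.orbit H x := by
  classical
  let N : Submodule K M := ⨅ y : {y : X // y ∉ MulAction.orbit H x}, LinearMap.ker (P.π y.1)
  have hNmem : ∀ f : M, f ∈ N ↔ ∀ y : X, y ∉ MulAction.orbit H x → P.π y f = 0 := by
    intro f
    simp only [N, Submodule.mem_iInf, LinearMap.mem_ker, Subtype.forall]
  have hxO : x ∈ MulAction.orbit H x := MulAction.mem_orbit_self x
  have hNne : N ≠ ⊥ := by
    have : ∃ g : M, P.π x g ≠ 0 := by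
      by_contra hcon
      push Not at hcon
      apply hx
      ext g
      rw [hcon g]; rfl
    obtain ⟨g, hg⟩ := this
    rw [Submodule.ne_bot_iff]
    refine ⟨P.π x g, ?_, hg⟩
    rw [hNmem]
    intro y hy
    apply P.pi_pi_ne
    rintro rfl
    exact hy hxO
  have hinv : ∀ h ∈ H, ∀ f ∈ N, τ h f ∈ N := by
    intro h hh f hf
    rw [hNmem] at hf ⊢
    intro y hy
    have h1 := P.pi_tau h (h⁻¹ • y) f
    rw [smul_inv_smul] at h1
    rw [h1, hf, map_zero]
    intro hmem
    apply hy
    have : y = (⟨h, hh⟩ : H) • (h⁻¹ • y) := by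
      change y = h • (h⁻¹ • y)
      rw [smul_inv_smul]
    rw [this]
    exact MulAction.mem_orbit_of_mem_orbit _ hmem
  obtain ⟨f, hfN, hf0, hfix⟩ := exists_fixed_ne_zero τ H hH N hNne hinv
  refine ⟨f, hfix, ?_⟩
  have hsub : P.supp f ⊆ MulAction.orbit H x := by
    intro y hy
    by_contra hyO
    exact hy ((hNmem f).mp hfN y hyO)
  obtain ⟨z, hz⟩ := P.supp_nonempty hf0
  apply Set.Subset.antisymm hsub
  intro y hy
  have hzO := hsub hz
  -- y = h • z for some h ∈ H
  have hyz : y ∈ MulAction.orbit H z := by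
    rw [MulAction.orbit_eq_iff.mpr hzO]
    exact hy
  obtain ⟨h, rfl⟩ := hyz
  have := (P.smul_mem_supp_iff (h : S) z f).mpr hz
  rw [hfix h.1 h.2] at this
  exact this

omit [Fintype X] in
/-- two orbits of `H` are equal or disjoint -/
theorem not_mem_orbit_of_not_mem {H : Subgroup S} {x y z : X}
    (hy : y ∉ MulAction.orbit H x) (hz : z ∈ MulAction.orbit H y) :
    z ∉ MulAction.orbit H x := by
  intro hzx
  apply hy
  have h1 : MulAction.orbit H z = MulAction.orbit H y := MulAction.orbit_eq_iff.mpr hz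
  have h2 : MulAction.orbit H z = MulAction.orbit H x := MulAction.orbit_eq_iff.mpr hzx
  rw [← h2, h1]
  exact MulAction.mem_orbit_self y

omit [Fintype X] in
theorem orbit_sub_le_orbit (H : Subgroup S) (x : X) :
    MulAction.orbit H x ⊆ MulAction.orbit S x := by
  rintro _ ⟨h, rfl⟩
  exact ⟨h.1, rfl⟩

end Cfsg.Agent.Lib.Helper26.W2
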