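import Cfsg.Agent.Lib.Helper26.W2B

/-!
# The combinatorial core for S4414 (helper26)
-/

set_option autoImplicit false
set_option linter.style.haveILetI false

namespace Cfsg.Agent.Lib.Helper26.W2

open scoped BigOperators

variable {K S M X : Type*} [Field K] [Group S] [AddCommGroup M] [Module K M]
  [MulAction S X] [Fintype X] {τ : Representation K S M} (P : ImpSys X τ)

/-- fixed vectors attached to representatives of distinct `H`-orbits of weights -/
theorem ImpSys.exists_family [CharP K 2] [Finite M] (H : Subgroup S) (hH : IsPGroup 2 H)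
    {n : ℕ} (rep : Fin n → X) (hwt : ∀ i, rep i ∈ P.wt)
    (hd : ∀ i j, i ≠ j → rep i ∉ MulAction.orbit H (rep j)) :
    ∃ e : Fin n → fixedSub τ H, (∀ i, P.supp (e i : M) = MulAction.orbit H (rep i)) ∧
      LinearIndependent K e := by
  classical
  have hex : ∀ i, ∃ f : M, f ∈ fixedSub τ H ∧ P.supp f = MulAction.orbit H (rep i) :=
    fun i => P.exists_fixed_supp_eq_orbit H hH (hwt i)
  choose e₀ he₀F he₀s using hex
  refine ⟨fun i => ⟨e₀ i, he₀F i⟩, he₀s, ?_⟩
  apply LinearIndependent.of_comp (fixedSub τ H).subtype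
  have : ((fixedSub τ H).subtype ∘ fun i => (⟨e₀ i, he₀F i⟩ : fixedSub τ H)) = e₀ := by
    funext i; rfl
  rw [this]
  apply P.linearIndependent_of_supp
  intro i
  refine ⟨rep i, ?_, ?_⟩
  · rw [he₀s]; exact MulAction.mem_orbit_self _
  · intro j hji
    rw [he₀s]
    exact hd i j (Ne.symm hji)

theorem ImpSys.le_finrank_of_reps [CharP K 2] [Finite M] (H : Subgroup S) (hH : IsPGroup 2 H)
    {n : ℕ} (rep : Fin n → X) (hwt : ∀ i, rep i ∈ P.wt)
    (hd : ∀ i j, i ≠ j → rep i ∉ MulAction.orbit H (rep j)) :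
    n ≤ Module.finrank K (fixedSub τ H) := by
  obtain ⟨e, -, hli⟩ := P.exists_family H hH rep hwt hd
  have := hli.fintype_card_le_finrank
  simpa using this

omit [Fintype X] in
theorem not_mem_orbit_symm {H : Subgroup S} {x y : X} (h : y ∉ MulAction.orbit H x) :
    x ∉ MulAction.orbit H y := by
  intro hx
  apply h
  have : MulAction.orbit H x = MulAction.orbit H y := MulAction.orbit_eq_iff.mpr hx
  rw [this]
  exact MulAction.mem_orbit_self y

/-- The core: an orbit of `S` on the weights of length divisible by an odd prime `q` forces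
`dim ≥ 2` for the fixed space of the 2-subgroup `H`, and if the dimension is exactly two,
every element preserving the fixed space preserves the `H`-orbit of `x₀`. -/
theorem ImpSys.core [CharP K 2] [Finite M] [Finite S] (H : Subgroup S) (hH : IsPGroup 2 H)
    {q : ℕ} (hq : q.Prime) (hq2 : q ≠ 2) {x₀ : X} (hx₀ : x₀ ∈ P.wt)
    (hdvd : q ∣ Nat.card (MulAction.orbit S x₀)) :
    (∃ x₁ ∈ MulAction.orbit S x₀, x₁ ∉ MulAction.orbit H x₀) ∧
    2 ≤ Module.finrank K (fixedSub τ H) ∧
    (Module.finrank K (fixedSub τ H) = 2 → ∀ y : S,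
      (∀ f ∈ fixedSub τ H, τ y f ∈ fixedSub τ H) →
        ∀ x : X, x ∈ MulAction.orbit H x₀ ↔ y • x ∈ MulAction.orbit H x₀) := by
  classical
  haveI : Fact (Nat.Prime 2) := ⟨Nat.prime_two⟩
  have hq2pow : ∀ k : ℕ, ¬ q ∣ 2 ^ k := by
    intro k hk
    exact hq2 ((Nat.prime_dvd_prime_iff_eq hq Nat.prime_two).mp (hq.dvd_of_dvd_pow hk))
  obtain ⟨a, ha⟩ := hH.card_orbit x₀
  have hne : ∃ x₁ ∈ MulAction.orbit S x₀, x₁ ∉ MulAction.orbit H x₀ := by
    by_contra hcon
    push Not at hcon
    have h1 : MulAction.orbit S x₀ = MulAction.orbit H x₀ :=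
      Set.Subset.antisymm hcon (orbit_sub_le_orbit H x₀)
    rw [h1, ha] at hdvd
    exact hq2pow a hdvd
  refine ⟨hne, ?_⟩
  obtain ⟨x₁, hx₁S, hx₁H⟩ := hne
  have hx₁wt : x₁ ∈ P.wt := by
    obtain ⟨s, rfl⟩ := hx₁S
    exact P.smul_mem_wt hx₀ s
  obtain ⟨b, hb⟩ := hH.card_orbit x₁
  have hx₀H : x₀ ∉ MulAction.orbit H x₁ := not_mem_orbit_symm hx₁H
  -- the two representatives
  have hwt2 : ∀ i : Fin 2, (![x₀, x₁] : Fin 2 → X) i ∈ P.wt := by
    intro i; fin_cases i
    · exact hx₀
    · exact hx₁wt
  have hd2 : ∀ i j : Fin 2, i ≠ j →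
      (![x₀, x₁] : Fin 2 → X) i ∉ MulAction.orbit H ((![x₀, x₁] : Fin 2 → X) j) := by
    intro i j hij
    fin_cases i <;> fin_cases j
    · exact absurd rfl hij
    · exact hx₀H
    · exact hx₁H
    · exact absurd rfl hij
  refine ⟨P.le_finrank_of_reps H hH _ hwt2 hd2, ?_⟩
  intro hfr y hy
  -- no third orbit
  have hcover : ∀ z ∈ MulAction.orbit S x₀, z ∈ MulAction.orbit H x₀ ∨ z ∈ MulAction.orbit H x₁ := by
    intro z hz
    by_contra hcon
    push Not at hcon
    have hzwt : z ∈ P.wt := by
      obtain ⟨s, rfl⟩ := hz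
      exact P.smul_mem_wt hx₀ s
    have hwt3 : ∀ i : Fin 3, (![x₀, x₁, z] : Fin 3 → X) i ∈ P.wt := by
      intro i; fin_cases i
      · exact hx₀
      · exact hx₁wt
      · exact hzwt
    have hd3 : ∀ i j : Fin 3, i ≠ j →
        (![x₀, x₁, z] : Fin 3 → X) i ∉ MulAction.orbit H ((![x₀, x₁, z] : Fin 3 → X) j) := by
      intro i j hij
      fin_cases i <;> fin_cases j
      · exact absurd rfl hij
      · exact hx₀H
      · exact not_mem_orbit_symm hcon.1
      · exact hx₁H
      · exact absurd rfl hij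
      · exact not_mem_orbit_symm hcon.2
      · exact hcon.1
      · exact hcon.2
      · exact absurd rfl hij
    have := P.le_finrank_of_reps H hH _ hwt3 hd3
    omega
  -- sizes
  have hdisj : Disjoint (MulAction.orbit H x₀) (MulAction.orbit H x₁) := by
    rw [Set.disjoint_left]
    intro z hz0 hz1
    exact not_mem_orbit_of_not_mem hx₁H hz1 hz0
  have hunion : MulAction.orbit S x₀ = MulAction.orbit H x₀ ∪ MulAction.orbit H x₁ := by
    apply Set.Subset.antisymm
    · intro z hz
      exact hcover z hz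
    · intro z hz
      rcases hz with hz | hz
      · exact orbit_sub_le_orbit H x₀ hz
      · obtain ⟨h, rfl⟩ := hz
        obtain ⟨s, rfl⟩ := hx₁S
        exact ⟨h.1 * s, by simp [mul_smul]; rfl⟩
  have hn1 : (MulAction.orbit H x₀).ncard = 2 ^ a := by
    rw [← _root_.Nat.card_coe_set_eq]; exact ha
  have hn2 : (MulAction.orbit H x₁).ncard = 2 ^ b := by
    rw [← _root_.Nat.card_coe_set_eq]; exact hb
  have hsum : Nat.card (MulAction.orbit S x₀) = 2 ^ a + 2 ^ b := by
    rw [_root_.Nat.card_coe_set_eq, hunion, Set.ncard_union_eq hdisj (Set.toFinite _) (Set.toFinite _),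
      hn1, hn2]
  have hab : a ≠ b := by
    rintro rfl
    rw [hsum, ← two_mul, ← pow_succ'] at hdvd
    exact hq2pow _ hdvd
  -- the vectors
  obtain ⟨e, hes, hli⟩ := P.exists_family H hH _ hwt2 hd2
  have hes0 : P.supp (e 0 : M) = MulAction.orbit H x₀ := hes 0
  have hes1 : P.supp (e 1 : M) = MulAction.orbit H x₁ := hes 1
  have hcard : Fintype.card (Fin 2) = Module.finrank K (fixedSub τ H) := by
    rw [hfr]; rfl
  let B := basisOfLinearIndependentOfCardEqFinrank hli hcard
  have hB : ∀ i, B i = e i := fun i => by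
    rw [coe_basisOfLinearIndependentOfCardEqFinrank]
  -- f := τ y (e 0)
  have hfF : τ y (e 0 : M) ∈ fixedSub τ H := hy _ (e 0).2
  obtain ⟨c₀, c₁, hc⟩ : ∃ c₀ c₁ : K, τ y (e 0 : M) = c₀ • (e 0 : M) + c₁ • (e 1 : M) := by
    refine ⟨B.repr ⟨_, hfF⟩ 0, B.repr ⟨_, hfF⟩ 1, ?_⟩
    have h1 := B.sum_repr ⟨_, hfF⟩
    rw [Fin.sum_univ_two, hB, hB] at h1
    have h2 := congrArg Subtype.val h1
    simpa using h2.symm
  -- support of f
  have hA : ∀ z, z ∈ P.supp (τ y (e 0 : M)) ↔ y⁻¹ • z ∈ MulAction.orbit H x₀ := by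
    intro z
    rw [P.mem_supp_tau_iff, hes0]
  have hpi : ∀ z, P.π z (τ y (e 0 : M)) = c₀ • P.π z (e 0 : M) + c₁ • P.π z (e 1 : M) := by
    intro z
    rw [hc, map_add, map_smul, map_smul]
  have hz0 : ∀ z ∈ MulAction.orbit H x₀, (z ∈ P.supp (τ y (e 0 : M)) ↔ c₀ ≠ 0) := by
    intro z hz
    have h1 : P.π z (e 1 : M) = 0 := by
      have : z ∉ P.supp (e 1 : M) := by
        rw [hes1]
        intro hz1
        exact Set.disjoint_left.mp hdisj hz hz1
      rw [P.mem_supp, not_not] at this
      exact this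
    have h0 : P.π z (e 0 : M) ≠ 0 := by
      have : z ∈ P.supp (e 0 : M) := by rw [hes0]; exact hz
      exact this
    rw [P.mem_supp, hpi, h1, smul_zero, add_zero, Ne, smul_eq_zero, not_or]
    exact ⟨fun h => h.1, fun h => ⟨h, h0⟩⟩
  have hz1 : ∀ z ∈ MulAction.orbit H x₁, (z ∈ P.supp (τ y (e 0 : M)) ↔ c₁ ≠ 0) := by
    intro z hz
    have h1 : P.π z (e 0 : M) = 0 := by
      have : z ∉ P.supp (e 0 : M) := by
        rw [hes0]
        intro hz0
        exact Set.disjoint_left.mp hdisj hz0 hz
      rw [P.mem_supp, not_not] at this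
      exact this
    have h0 : P.π z (e 1 : M) ≠ 0 := by
      have : z ∈ P.supp (e 1 : M) := by rw [hes1]; exact hz
      exact this
    rw [P.mem_supp, hpi, h1, smul_zero, zero_add, Ne, smul_eq_zero, not_or]
    exact ⟨fun h => h.1, fun h => ⟨h, h0⟩⟩
  have hzout : ∀ z, z ∈ P.supp (τ y (e 0 : M)) →
      z ∈ MulAction.orbit H x₀ ∨ z ∈ MulAction.orbit H x₁ := by
    intro z hz
    by_contra hcon
    push Not at hcon
    apply hz
    have h0 : P.π z (e 0 : M) = 0 := by
      have : z ∉ P.supp (e 0 : M) := by rw [hes0]; exact hcon.1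
      rw [P.mem_supp, not_not] at this
      exact this
    have h1 : P.π z (e 1 : M) = 0 := by
      have : z ∉ P.supp (e 1 : M) := by rw [hes1]; exact hcon.2
      rw [P.mem_supp, not_not] at this
      exact this
    rw [hpi, h0, h1, smul_zero, smul_zero, add_zero]
  -- cardinality of the support of f
  have hAcard : (P.supp (τ y (e 0 : M))).ncard = 2 ^ a := by
    have : P.supp (τ y (e 0 : M)) = (fun z => y • z) '' MulAction.orbit H x₀ := by
      ext z
      rw [hA]
      constructor
      · intro hz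
        exact ⟨y⁻¹ • z, hz, smul_inv_smul y z⟩
      · rintro ⟨w, hw, rfl⟩
        rw [inv_smul_smul]
        exact hw
    rw [this, Set.ncard_image_of_injective _ (MulAction.injective y), hn1]
  -- case analysis
  have hkey : P.supp (τ y (e 0 : M)) = MulAction.orbit H x₀ := by
    by_cases h1 : c₁ = 0
    · by_cases h0 : c₀ = 0
      · -- f = 0 : support empty, contradiction with size
        exfalso
        have : P.supp (τ y (e 0 : M)) = ∅ := by
          rw [Set.eq_empty_iff_forall_notMem]
          intro z hz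
          rcases hzout z hz with hz' | hz'
          · exact (hz0 z hz').mp hz h0
          · exact (hz1 z hz').mp hz h1
        rw [this, Set.ncard_empty] at hAcard
        exact absurd hAcard.symm (by positivity)
      · ext z
        constructor
        · intro hz
          rcases hzout z hz with hz' | hz'
          · exact hz'
          · exact absurd h1 ((hz1 z hz').mp hz)
        · intro hz
          exact (hz0 z hz).mpr h0
    · exfalso
      by_cases h0 : c₀ = 0
      · -- support = O₂
        have : P.supp (τ y (e 0 : M)) = MulAction.orbit H x₁ := by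
          ext z
          constructor
          · intro hz
            rcases hzout z hz with hz' | hz'
            · exact absurd h0 ((hz0 z hz').mp hz)
            · exact hz'
          · intro hz
            exact (hz1 z hz).mpr h1
        rw [this, hn2] at hAcard
        exact hab (Nat.pow_right_injective (le_refl 2) hAcard).symm
      · -- support = everything
        have : P.supp (τ y (e 0 : M)) = MulAction.orbit H x₀ ∪ MulAction.orbit H x₁ := by
          ext z
          constructor
          · intro hz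
            exact hzout z hz
          · rintro (hz | hz)
            · exact (hz0 z hz).mpr h0
            · exact (hz1 z hz).mpr h1
        rw [this, Set.ncard_union_eq hdisj (Set.toFinite _) (Set.toFinite _), hn1, hn2] at hAcard
        have : 0 < 2 ^ b := by positivity
        omega
  intro x
  have h1 := hA (y • x)
  rw [inv_smul_smul, hkey] at h1
  exact h1.symm

end Cfsg.Agent.Lib.Helper26.W2
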