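import Cfsg.Agent.Lib.Helper26.W2A

/-!
# The weight decomposition for a finite abelian normal subgroup (helper26, for S4414)
-/

set_option autoImplicit false
set_option linter.style.haveILetI false

namespace Cfsg.Agent.Lib.Helper26.W2

open scoped BigOperators

variable {K S M : Type*} [Field K] [Group S] [AddCommGroup M] [Module K M]

/-- The action of `S` on the characters of a normal subgroup `V`. -/
@[reducible] def charAction (K : Type*) [Field K] (V : Subgroup S) [V.Normal] :
    MulAction S (↥V →* Kˣ) where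
  smul s μ := μ.comp (MulAut.conjNormal s⁻¹ : MulAut V).toMonoidHom
  one_smul μ := by
    ext v
    change ((μ ((MulAut.conjNormal (1 : S)⁻¹ : MulAut V) v) : Kˣ) : K) = μ v
    rw [inv_one, map_one]
    rfl
  mul_smul a b μ := by
    ext v
    change ((μ ((MulAut.conjNormal (a * b)⁻¹ : MulAut V) v) : Kˣ) : K) =
      μ ((MulAut.conjNormal b⁻¹ : MulAut V) ((MulAut.conjNormal a⁻¹ : MulAut V) v))
    rw [mul_inv_rev, map_mul]
    rfl

attribute [local instance] charAction

theorem charAction_apply (V : Subgroup S) [V.Normal] (s : S) (μ : ↥V →* Kˣ) (v : V) :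
    (s • μ) v = μ ((MulAut.conjNormal s⁻¹ : MulAut V) v) := rfl

theorem charAction_conj (V : Subgroup S) [V.Normal] (s : S) (μ : ↥V →* Kˣ) (v : V) :
    (s • μ) ((MulAut.conjNormal s : MulAut V) v) = μ v := by
  rw [charAction_apply, map_inv, MulAut.inv_apply_self]

/-- `V` acts trivially on its characters when it is commutative -/
theorem charAction_of_mem (V : Subgroup S) [V.Normal] (hVc : ∀ a b : V, a * b = b * a)
    (u : S) (hu : u ∈ V) (μ : ↥V →* Kˣ) : u • μ = μ := by
  ext v
  rw [charAction_apply]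
  congr 2
  apply Subtype.ext
  rw [MulAut.conjNormal_apply, inv_inv]
  have h := congrArg Subtype.val (hVc (⟨u, hu⟩⁻¹ : V) v)
  simp only [Subgroup.coe_mul, Subgroup.coe_inv] at h
  rw [h, mul_assoc, inv_mul_cancel, mul_one]

variable (τ : Representation K S M) (V : Subgroup S) [Fintype V]

/-- the projection onto the `μ`-weight space -/
noncomputable def proj (μ : ↥V →* Kˣ) : Module.End K M :=
  ((Fintype.card V : K))⁻¹ • ∑ v : V, ((μ v⁻¹ : Kˣ) : K) • τ (v : S)

theorem tau_mul_proj (μ : ↥V →* Kˣ) (u : V) :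
    τ (u : S) * proj τ V μ = ((μ u : Kˣ) : K) • proj τ V μ := by
  unfold proj
  rw [mul_smul_comm, smul_comm ((μ u : Kˣ) : K)]
  congr 1
  rw [Finset.mul_sum, Finset.smul_sum]
  apply Fintype.sum_equiv (Equiv.mulLeft u)
  intro v
  rw [mul_smul_comm, ← map_mul, smul_smul, Equiv.coe_mulLeft, Subgroup.coe_mul]
  congr 1
  rw [mul_inv_rev, map_mul, Units.val_mul, mul_comm ((μ v⁻¹ : Kˣ) : K), ← mul_assoc,
    ← Units.val_mul, ← map_mul, mul_inv_cancel, map_one, Units.val_one, one_mul]

theorem proj_mul_proj_aux (ν μ : ↥V →* Kˣ) :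
    proj τ V ν * proj τ V μ =
      ((Fintype.card V : K))⁻¹ • (∑ v : V, ((ν v⁻¹ : Kˣ) : K) * ((μ v : Kˣ) : K)) • proj τ V μ := by
  conv_lhs => rw [proj]
  rw [smul_mul_assoc, Finset.sum_mul, Finset.sum_smul]
  congr 1
  apply Finset.sum_congr rfl
  intro v _
  rw [smul_mul_assoc, tau_mul_proj, smul_smul]

theorem proj_mul_self (hcard : (Fintype.card V : K) ≠ 0) (ν : ↥V →* Kˣ) :
    proj τ V ν * proj τ V ν = proj τ V ν := by
  rw [proj_mul_proj_aux]
  have : ∀ v : V, ((ν v⁻¹ : Kˣ) : K) * ((ν v : Kˣ) : K) = 1 := by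
    intro v
    rw [← Units.val_mul, ← map_mul, inv_mul_cancel, map_one, Units.val_one]
  simp only [this]
  rw [Finset.sum_const, Finset.card_univ, nsmul_eq_mul, mul_one, smul_smul,
    inv_mul_cancel₀ hcard, one_smul]

theorem proj_mul_ne (ν μ : ↥V →* Kˣ) (h : ν ≠ μ) :
    proj τ V ν * proj τ V μ = 0 := by
  rw [proj_mul_proj_aux]
  have h0 : ∑ v : V, ((ν v⁻¹ : Kˣ) : K) * ((μ v : Kˣ) : K) = 0 := by
    have h2 := sum_hom_units_eq_zero ((Units.coeHom K).comp (ν⁻¹ * μ)) (by
      intro hcon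
      apply h
      ext v
      have h3 := DFunLike.congr_fun hcon v
      simp only [MonoidHom.coe_comp, Function.comp_apply, MonoidHom.mul_apply,
        MonoidHom.inv_apply, Units.coeHom_apply, MonoidHom.one_apply] at h3
      have h4 : (ν v)⁻¹ * μ v = 1 := Units.ext h3
      rw [inv_mul_eq_one] at h4
      rw [h4])
    rw [← h2]
    apply Finset.sum_congr rfl
    intro v _
    simp only [MonoidHom.coe_comp, Function.comp_apply, MonoidHom.mul_apply,
      MonoidHom.inv_apply, Units.coeHom_apply, Units.val_mul, map_inv]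
  rw [h0, zero_smul, smul_zero]

theorem tau_mul_proj_conj [V.Normal] (s : S) (μ : ↥V →* Kˣ) :
    τ s * proj τ V μ = proj τ V (s • μ) * τ s := by
  unfold proj
  rw [mul_smul_comm, smul_mul_assoc, Finset.mul_sum, Finset.sum_mul]
  congr 1
  apply Fintype.sum_equiv (MulAut.conjNormal s : MulAut V).toEquiv
  intro v
  rw [mul_smul_comm, smul_mul_assoc, ← map_mul, ← map_mul]
  congr 1
  · rw [MulEquiv.toEquiv_eq_coe, MulEquiv.coe_toEquiv, ← map_inv, charAction_conj]
  · congr 1
    rw [MulEquiv.toEquiv_eq_coe, MulEquiv.coe_toEquiv, MulAut.conjNormal_apply]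
    group

/-- second orthogonality: the sum of the values of all characters at a nontrivial element
vanishes -/
theorem sum_char_eq_zero [Fintype (↥V →* Kˣ)] (hVc : ∀ a b : V, a * b = b * a)
    [HasEnoughRootsOfUnity K (Monoid.exponent V)] {w : V} (hw : w ≠ 1) :
    ∑ μ : ↥V →* Kˣ, ((μ w : Kˣ) : K) = 0 := by
  letI : CommGroup V := { (inferInstance : Group V) with mul_comm := hVc }
  obtain ⟨φ, hφ⟩ := CommGroup.exists_apply_ne_one_of_hasEnoughRootsOfUnity V K hw
  have h2 := sum_hom_units_eq_zero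
    ((Units.coeHom K).comp (MonoidHom.eval (M := V) (N := Kˣ) w)) (by
      intro hcon
      apply hφ
      have h3 := DFunLike.congr_fun hcon φ
      simp only [MonoidHom.coe_comp, Function.comp_apply, MonoidHom.eval_apply_apply,
        Units.coeHom_apply, MonoidHom.one_apply] at h3
      exact Units.ext h3)
  rw [← h2]
  apply Finset.sum_congr rfl
  intro μ _
  simp only [MonoidHom.coe_comp, Function.comp_apply, MonoidHom.eval_apply_apply,
    Units.coeHom_apply]

theorem card_char [Fintype (↥V →* Kˣ)] (hVc : ∀ a b : V, a * b = b * a)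
    [HasEnoughRootsOfUnity K (Monoid.exponent V)] :
    Fintype.card (↥V →* Kˣ) = Fintype.card V := by
  letI : CommGroup V := { (inferInstance : Group V) with mul_comm := hVc }
  have := CommGroup.card_monoidHom_of_hasEnoughRootsOfUnity V K
  rw [Nat.card_eq_fintype_card, Nat.card_eq_fintype_card] at this
  exact this

theorem sum_proj [Fintype (↥V →* Kˣ)] (hVc : ∀ a b : V, a * b = b * a)
    [HasEnoughRootsOfUnity K (Monoid.exponent V)] (hcard : (Fintype.card V : K) ≠ 0) :
    ∑ μ : ↥V →* Kˣ, proj τ V μ = 1 := by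
  classical
  unfold proj
  rw [← Finset.smul_sum, Finset.sum_comm]
  have h1 : ∀ v : V, ∑ μ : ↥V →* Kˣ, ((μ v⁻¹ : Kˣ) : K) • τ (v : S) =
      if v = 1 then (Fintype.card V : K) • (1 : Module.End K M) else 0 := by
    intro v
    rw [← Finset.sum_smul]
    split_ifs with h
    · subst h
      simp only [inv_one, map_one, Units.val_one, Finset.sum_const, Finset.card_univ,
        OneMemClass.coe_one]
      rw [card_char V hVc, nsmul_eq_mul, mul_one]
    · rw [sum_char_eq_zero V hVc (inv_ne_one.mpr h), zero_smul]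
  simp only [h1]
  rw [Finset.sum_ite_eq' Finset.univ (1 : V), if_pos (Finset.mem_univ _), smul_smul,
    inv_mul_cancel₀ hcard, one_smul]

/-- The system of imprimitivity of the weight spaces. -/
noncomputable def charImpSys [V.Normal] [Fintype (↥V →* Kˣ)] (hVc : ∀ a b : V, a * b = b * a)
    [HasEnoughRootsOfUnity K (Monoid.exponent V)] (hcard : (Fintype.card V : K) ≠ 0) :
    ImpSys (↥V →* Kˣ) τ where
  π := proj τ V
  sum_eq := sum_proj τ V hVc hcard
  mul_self μ := proj_mul_self τ V hcard μ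
  mul_ne ν μ h := proj_mul_ne τ V ν μ h
  conj := tau_mul_proj_conj τ V

theorem charImpSys_pi [V.Normal] [Fintype (↥V →* Kˣ)] (hVc : ∀ a b : V, a * b = b * a)
    [HasEnoughRootsOfUnity K (Monoid.exponent V)] (hcard : (Fintype.card V : K) ≠ 0)
    (μ : ↥V →* Kˣ) : (charImpSys τ V hVc hcard).π μ = proj τ V μ := rfl

/-- if `V` does not act trivially then there is a nontrivial weight -/
theorem exists_nontrivial_weight [V.Normal] [Fintype (↥V →* Kˣ)]
    (hVc : ∀ a b : V, a * b = b * a)
    [HasEnoughRootsOfUnity K (Monoid.exponent V)] (hcard : (Fintype.card V : K) ≠ 0)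
    (hnt : ∃ u ∈ V, τ u ≠ 1) :
    ∃ μ : ↥V →* Kˣ, μ ∈ (charImpSys τ V hVc hcard).wt ∧ μ ≠ 1 := by
  classical
  by_contra hcon
  push Not at hcon
  obtain ⟨u, hu, hu1⟩ := hnt
  apply hu1
  have h0 : ∀ μ : ↥V →* Kˣ, μ ≠ 1 → proj τ V μ = 0 := by
    intro μ hμ
    by_contra h
    exact hμ (hcon μ h)
  have h1 : proj τ V (1 : ↥V →* Kˣ) = 1 := by
    rw [← sum_proj τ V hVc hcard]
    symm
    apply Finset.sum_eq_single
    · intro μ _ hμ
      exact h0 μ hμ
    · intro h
      exact absurd (Finset.mem_univ _) h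
  have h2 := tau_mul_proj τ V (1 : ↥V →* Kˣ) ⟨u, hu⟩
  rw [h1, mul_one, MonoidHom.one_apply, Units.val_one, one_smul] at h2
  exact h2

end Cfsg.Agent.Lib.Helper26.W2
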