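import Cfsg.Agent.Lib.Helper26.W2A

/-!
# Extension of scalars of a representation over `ZMod 2` and fixed spaces (helper26, for S4414)
-/

set_option autoImplicit false
set_option linter.style.haveILetI false

namespace Cfsg.Agent.Lib.Helper26.W2

open scoped BigOperators TensorProduct

variable {S E : Type*} (L : Type*) [Group S] [AddCommGroup E] [Module (ZMod 2) E]
  [Field L] [Algebra (ZMod 2) L] (ρ : Representation (ZMod 2) S E)

/-- extension of scalars of a representation -/
noncomputable def extRep : Representation L S (L ⊗[ZMod 2] E) where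
  toFun s := (ρ s).baseChange L
  map_one' := by rw [map_one]; exact LinearMap.baseChange_one _ _
  map_mul' a b := by rw [map_mul]; exact LinearMap.baseChange_mul _ _

theorem extRep_tmul (s : S) (a : L) (e : E) : extRep L ρ s (a ⊗ₜ[ZMod 2] e) = a ⊗ₜ ρ s e := rfl

variable {L} {J : Type*} [Fintype J] (𝔟 : Module.Basis J (ZMod 2) L)

/-- the coordinate maps `L ⊗ E → E` attached to a basis of `L` -/
noncomputable def coordMap (j : J) : L ⊗[ZMod 2] E →ₗ[ZMod 2] E :=
  (TensorProduct.lid (ZMod 2) E).toLinearMap ∘ₗ (𝔟.coord j).rTensor E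

omit [Fintype J] in
theorem coordMap_tmul (j : J) (a : L) (e : E) :
    coordMap 𝔟 j (a ⊗ₜ[ZMod 2] e) = 𝔟.coord j a • e := by
  simp [coordMap]

omit [Fintype J] in
theorem coordMap_extRep (j : J) (s : S) (f : L ⊗[ZMod 2] E) :
    coordMap 𝔟 j (extRep L ρ s f) = ρ s (coordMap 𝔟 j f) := by
  induction f using TensorProduct.induction_on with
  | zero => simp
  | tmul a e => rw [extRep_tmul, coordMap_tmul, coordMap_tmul, map_smul]
  | add x y hx hy => simp only [map_add, hx, hy]

theorem sum_tmul_coordMap (f : L ⊗[ZMod 2] E) :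
    ∑ j, 𝔟 j ⊗ₜ[ZMod 2] coordMap 𝔟 j f = f := by
  induction f using TensorProduct.induction_on with
  | zero => simp
  | tmul a e =>
    simp only [coordMap_tmul]
    have : ∀ j, 𝔟 j ⊗ₜ[ZMod 2] (𝔟.coord j a • e) = (𝔟.coord j a • 𝔟 j) ⊗ₜ[ZMod 2] e := by
      intro j
      rw [TensorProduct.smul_tmul]
    simp only [this]
    rw [← TensorProduct.sum_tmul]
    congr 1
    exact 𝔟.sum_repr a
  | add x y hx hy =>
    simp only [map_add, TensorProduct.tmul_add, Finset.sum_add_distrib]
    rw [hx, hy]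

variable (H : Subgroup S)

include 𝔟

omit [Fintype J] in
theorem coordMap_mem_fixedSub (j : J) {f : L ⊗[ZMod 2] E} (hf : f ∈ fixedSub (extRep L ρ) H) :
    coordMap 𝔟 j f ∈ fixedSub ρ H := by
  intro h hh
  rw [← coordMap_extRep, hf h hh]

omit [Fintype J] 𝔟 in
theorem tmul_mem_fixedSub (a : L) {e : E} (he : e ∈ fixedSub ρ H) :
    a ⊗ₜ[ZMod 2] e ∈ fixedSub (extRep L ρ) H := by
  intro h hh
  rw [extRep_tmul, he h hh]

/-- an element preserving the fixed space of `H` in `E` preserves it in `L ⊗ E` -/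
theorem extRep_preserves (y : S) (hy : ∀ e ∈ fixedSub ρ H, ρ y e ∈ fixedSub ρ H)
    {f : L ⊗[ZMod 2] E} (hf : f ∈ fixedSub (extRep L ρ) H) :
    extRep L ρ y f ∈ fixedSub (extRep L ρ) H := by
  rw [← sum_tmul_coordMap 𝔟 f, map_sum]
  apply Submodule.sum_mem
  intro j _
  rw [extRep_tmul]
  exact tmul_mem_fixedSub ρ H _ (hy _ (coordMap_mem_fixedSub ρ 𝔟 H j hf))

/-- the fixed space does not grow under extension of scalars -/
theorem finrank_fixedSub_le [Module.Finite (ZMod 2) E] :
    Module.finrank L (fixedSub (extRep L ρ) H) ≤ Module.finrank (ZMod 2) (fixedSub ρ H) := by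
  classical
  let Φ : L ⊗[ZMod 2] (fixedSub ρ H) →ₗ[L] L ⊗[ZMod 2] E := (fixedSub ρ H).subtype.baseChange L
  have hle : fixedSub (extRep L ρ) H ≤ LinearMap.range Φ := by
    intro f hf
    refine ⟨∑ j, 𝔟 j ⊗ₜ[ZMod 2] (⟨coordMap 𝔟 j f, coordMap_mem_fixedSub ρ 𝔟 H j hf⟩ :
      fixedSub ρ H), ?_⟩
    rw [map_sum]
    conv_rhs => rw [← sum_tmul_coordMap 𝔟 f]
    apply Finset.sum_congr rfl
    intro j _
    rfl
  calc Module.finrank L (fixedSub (extRep L ρ) H)
      ≤ Module.finrank L (LinearMap.range Φ) := Submodule.finrank_mono hle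
    _ ≤ Module.finrank L (L ⊗[ZMod 2] (fixedSub ρ H)) := LinearMap.finrank_range_le Φ
    _ = Module.finrank (ZMod 2) (fixedSub ρ H) := Module.finrank_baseChange

/-- faithfulness survives extension of scalars -/
theorem extRep_ne_one {u : S} (hu : ρ u ≠ 1) : extRep L ρ u ≠ 1 := by
  classical
  intro hcon
  apply hu
  -- a coordinate of `1` is nonzero
  have h1 : ∃ j, 𝔟.coord j (1 : L) ≠ 0 := by
    by_contra h
    push Not at h
    have : (1 : L) = 0 := by
      rw [← 𝔟.sum_repr (1 : L)]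
      apply Finset.sum_eq_zero
      intro j _
      have := h j
      rw [Module.Basis.coord_apply] at this
      rw [this, zero_smul]
    exact one_ne_zero this
  obtain ⟨j, hj⟩ := h1
  ext e
  have h2 : extRep L ρ u ((1 : L) ⊗ₜ[ZMod 2] e) = (1 : L) ⊗ₜ[ZMod 2] e := by
    rw [hcon]; rfl
  rw [extRep_tmul] at h2
  have h3 := congrArg (coordMap 𝔟 j) h2
  rw [coordMap_tmul, coordMap_tmul] at h3
  have h4 : 𝔟.coord j (1 : L) • (ρ u e - e) = 0 := by
    rw [smul_sub, h3, sub_self]
  rw [smul_eq_zero] at h4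
  rcases h4 with h4 | h4
  · exact absurd h4 hj
  · rw [sub_eq_zero] at h4
    exact h4

end Cfsg.Agent.Lib.Helper26.W2
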