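import Cfsg.Agent.Lib.Helper26.W2C
import Cfsg.Agent.Lib.Helper26.W2D
import Cfsg.Agent.Lib.Helper26.W2E

/-!
# Fixed points of a 2-subgroup on a module over `ZMod 2` with a faithful abelian normal subgroup
(helper26, the generic theorem behind S4414)
-/

set_option autoImplicit false
set_option linter.style.haveILetI false

namespace Cfsg.Agent.Lib.Helper26.W2

open scoped BigOperators TensorProduct

attribute [local instance] charAction

/-- a `q`-group without fixed points on an orbit: the orbit length is divisible by `q` -/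
theorem dvd_card_orbit_of_no_fixed {S X : Type*} [Group S] [Finite S] [MulAction S X] {q : ℕ}
    [Fact q.Prime] (Q : Subgroup S) (hQ : IsPGroup q Q) (x : X)
    (h : ∀ g : S, ∃ y ∈ Q, y • (g • x) ≠ g • x) : q ∣ Nat.card (MulAction.orbit S x) := by
  classical
  haveI : Finite (MulAction.orbit S x) := (Set.finite_range _).to_subtype
  have h1 := hQ.card_modEq_card_fixedPoints (MulAction.orbit S x)
  have h2 : IsEmpty (MulAction.fixedPoints Q (MulAction.orbit S x)) := by
    constructor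
    rintro ⟨⟨z, g, rfl⟩, hz⟩
    obtain ⟨y, hy, hne⟩ := h g
    apply hne
    have := hz ⟨y, hy⟩
    exact congrArg Subtype.val this
  have h3 : Nat.card (MulAction.fixedPoints Q (MulAction.orbit S x)) = 0 := Nat.card_of_isEmpty
  rw [h3] at h1
  exact (Nat.modEq_zero_iff_dvd).mp h1

/-- a subgroup containing a Sylow subgroup for every prime is everything -/
theorem eq_top_of_sylow_le {S : Type*} [Group S] [Finite S] (T : Subgroup S)
    (h : ∀ r : ℕ, r.Prime → r ∣ Nat.card S → ∃ P : Sylow r S, (P : Subgroup S) ≤ T) : T = ⊤ := by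
  rw [← Subgroup.index_eq_one]
  by_contra hne
  obtain ⟨r, hr, hrd⟩ := Nat.exists_prime_and_dvd hne
  have h1 : r ∣ Nat.card S := hrd.trans (Subgroup.index_dvd_card T)
  obtain ⟨P, hP⟩ := h r hr h1
  haveI := Fact.mk hr
  apply P.not_dvd_index
  rw [← Subgroup.relIndex_mul_index hP]
  exact dvd_mul_of_dvd_right hrd _

/-- a finite field has enough `n`-th roots of unity as soon as `n` divides the order of its
unit group -/
theorem hasEnough_of_dvd {L : Type*} [Field L] [Finite L] {n : ℕ} [NeZero n]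
    (h : n ∣ Nat.card Lˣ) : HasEnoughRootsOfUnity L n := by
  classical
  obtain ⟨g, hg⟩ := IsCyclic.exists_generator (α := Lˣ)
  have hord : orderOf g = Nat.card Lˣ := orderOf_eq_card_of_forall_mem_zpowers hg
  have hpos : 0 < orderOf g := by rw [hord]; exact Nat.card_pos
  obtain ⟨k, hk⟩ := h
  have hk0 : k ≠ 0 := by
    rintro rfl
    rw [← hord, mul_zero] at hk
    omega
  have hkd : k ∣ orderOf g := by rw [hord, hk]; exact dvd_mul_left _ _
  have h1 : orderOf (g ^ k) = n := by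
    rw [orderOf_pow_of_dvd hk0 hkd, hord, hk, Nat.mul_div_cancel _ (Nat.pos_of_ne_zero hk0)]
  refine ⟨⟨((g ^ k : Lˣ) : L), ?_⟩, rootsOfUnity.isCyclic L n⟩
  rw [IsPrimitiveRoot.coe_units_iff, ← h1]
  exact IsPrimitiveRoot.orderOf _

section chars

variable {K S : Type*} [Field K] [Group S]

theorem charAction_one (V : Subgroup S) [V.Normal] (s : S) : s • (1 : ↥V →* Kˣ) = 1 := by
  ext v
  rfl

/-- a character fixed by `Q` is trivial on `⁅V, Q⁆` -/
theorem char_eq_one_of_fixed (V Q : Subgroup S) [V.Normal] (hcomm : ⁅V, Q⁆ = V)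
    (ν : ↥V →* Kˣ) (hfix : ∀ y ∈ Q, y • ν = ν) : ν = 1 := by
  have hle : ⁅V, Q⁆ ≤ (MonoidHom.ker ν).map V.subtype := by
    rw [Subgroup.commutator_le]
    intro a ha b hb
    rw [Subgroup.mem_map]
    have hconj : b * a⁻¹ * b⁻¹ ∈ V := Subgroup.Normal.conj_mem inferInstance _ (V.inv_mem ha) b
    refine ⟨⟨a, ha⟩ * ⟨b * a⁻¹ * b⁻¹, hconj⟩, ?_, ?_⟩
    · rw [MonoidHom.mem_ker, map_mul]
      have h1 : ν ⟨b * a⁻¹ * b⁻¹, hconj⟩ = ν (⟨a, ha⟩⁻¹ : V) := by
        have h2 := hfix b⁻¹ (Q.inv_mem hb)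
        have h3 := DFunLike.congr_fun h2 (⟨a, ha⟩⁻¹ : V)
        rw [charAction_apply, inv_inv] at h3
        rw [← h3]
        congr 1
      rw [h1, ← map_mul, mul_inv_cancel, map_one]
    · simp only [Subgroup.subtype_apply, Subgroup.coe_mul, commutatorElement_def]
      group
  rw [hcomm] at hle
  ext v
  obtain ⟨w, hw, hwv⟩ := Subgroup.mem_map.mp (hle v.2)
  have : w = v := Subtype.ext hwv
  rw [← this, MonoidHom.mem_ker.mp hw]
  rfl

end chars

/-- **The generic theorem.** `V` an abelian normal subgroup of odd order acting faithfully on a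
finite module `E` over `ZMod 2`; `H` a 2-subgroup, `Q` a `q`-subgroup with `⁅V, Q⁆ = V`, `q` odd,
and `S` generated by `H`, `V`, `Q` in the strong sense that every subgroup containing them is
everything. Then the fixed points of `H` on `E` number at least `8`, or exactly `4` and are not
permuted by `Q`. -/
theorem fg19_main {S : Type*} [Group S] [Finite S] (q : ℕ) (hq : q.Prime) (hq2 : q ≠ 2)
    (V H Q : Subgroup S) [V.Normal] (hH : IsPGroup 2 H) (hQ : IsPGroup q Q)
    (hVc : ∀ a b : V, a * b = b * a) (hodd : ¬ 2 ∣ Nat.card V) (hVnt : V ≠ ⊥)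
    (hcomm : ⁅V, Q⁆ = V)
    (hgen : ∀ T : Subgroup S, H ≤ T → V ≤ T → Q ≤ T → T = ⊤)
    {E : Type*} [AddCommGroup E] [Module (ZMod 2) E] [Finite E]
    (ρ : Representation (ZMod 2) S E)
    (hfaith : ∀ x ∈ V, ρ x = 1 → x = 1)
    (L : Type*) [Field L] [Finite L] [Algebra (ZMod 2) L] [CharP L 2]
    [HasEnoughRootsOfUnity L (Monoid.exponent V)] :
    8 ≤ Nat.card {v : E // ∀ s ∈ H, ρ s v = v} ∨
      (Nat.card {v : E // ∀ s ∈ H, ρ s v = v} = 4 ∧
        ∃ x ∈ Q, ∃ v : E, (∀ s ∈ H, ρ s v = v) ∧ ¬ ∀ s ∈ H, ρ s (ρ x v) = ρ x v) := by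
  classical
  haveI : Fact q.Prime := ⟨hq⟩
  letI : Fintype V := Fintype.ofFinite V
  letI : Fintype (↥V →* Lˣ) := Fintype.ofFinite _
  let 𝔟 := Module.finBasis (ZMod 2) L
  have hcardL : (Fintype.card V : L) ≠ 0 := by
    rw [Ne, CharP.cast_eq_zero_iff L 2, ← Nat.card_eq_fintype_card]
    exact hodd
  haveI : Finite (L ⊗[ZMod 2] E) := Module.finite_of_finite L
  -- nontrivial weight
  have hnt : ∃ u ∈ V, extRep L ρ u ≠ 1 := by
    obtain ⟨u, hu1⟩ := (Subgroup.ne_bot_iff_exists_ne_one).mp hVnt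
    exact ⟨u.1, u.2, extRep_ne_one ρ 𝔟 (fun h => hu1 (Subtype.ext (hfaith u.1 u.2 h)))⟩
  obtain ⟨μ₀, hμ₀wt, hμ₀1⟩ := exists_nontrivial_weight (extRep L ρ) V hVc hcardL hnt
  -- the orbit length
  have hdvd : q ∣ Nat.card (MulAction.orbit S μ₀) := by
    apply dvd_card_orbit_of_no_fixed Q hQ
    intro g
    by_contra hcon
    push Not at hcon
    apply hμ₀1
    have h1 : g • μ₀ = 1 := char_eq_one_of_fixed V Q hcomm (g • μ₀) hcon
    have h2 : μ₀ = g⁻¹ • (g • μ₀) := by rw [inv_smul_smul]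
    rw [h2, h1, charAction_one]
  obtain ⟨⟨x₁, hx₁S, hx₁H⟩, h2le, hcond⟩ :=
    (charImpSys (extRep L ρ) V hVc hcardL).core H hH hq hq2 hμ₀wt hdvd
  -- dimensions
  have hle : Module.finrank L (fixedSub (extRep L ρ) H) ≤
      Module.finrank (ZMod 2) (fixedSub ρ H) := finrank_fixedSub_le ρ 𝔟 H
  have hcardE0 : Nat.card {v : E // ∀ s ∈ H, ρ s v = v} =
      2 ^ Module.finrank (ZMod 2) (fixedSub ρ H) := by
    have h1 : Nat.card {v : E // ∀ s ∈ H, ρ s v = v} = Nat.card (fixedSub ρ H) :=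
      Nat.card_congr (Equiv.subtypeEquivRight (fun v => Iff.rfl))
    rw [h1, Module.natCard_eq_pow_finrank (K := ZMod 2), Nat.card_zmod]
  by_cases hd3 : 3 ≤ Module.finrank (ZMod 2) (fixedSub ρ H)
  · left
    rw [hcardE0]
    calc 8 = 2 ^ 3 := by norm_num
      _ ≤ 2 ^ Module.finrank (ZMod 2) (fixedSub ρ H) := Nat.pow_le_pow_right (by norm_num) hd3
  · right
    have hd2 : Module.finrank (ZMod 2) (fixedSub ρ H) = 2 := by omega
    refine ⟨by rw [hcardE0, hd2]; norm_num, ?_⟩
    by_contra hcon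
    push Not at hcon
    have hfr : Module.finrank L (fixedSub (extRep L ρ) H) = 2 := by omega
    have hQpres : ∀ y ∈ Q, ∀ z : ↥V →* Lˣ,
        z ∈ MulAction.orbit H μ₀ ↔ y • z ∈ MulAction.orbit H μ₀ := by
      intro y hy
      apply hcond hfr y
      intro f hf
      exact extRep_preserves ρ 𝔟 H y (fun e he => hcon y hy e he) hf
    let T : Subgroup S :=
      { carrier := {s | ∀ z : ↥V →* Lˣ, z ∈ MulAction.orbit H μ₀ ↔ s • z ∈ MulAction.orbit H μ₀}
        one_mem' := by
          intro z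
          rw [one_smul]
        mul_mem' := by
          intro a b ha hb z
          rw [mul_smul, ← ha, ← hb]
        inv_mem' := by
          intro a ha z
          rw [ha (a⁻¹ • z), smul_inv_smul] }
    have hT : T = ⊤ := by
      apply hgen
      · intro s hs z
        rw [← MulAction.orbit_eq_iff, ← MulAction.orbit_eq_iff,
          show s • z = (⟨s, hs⟩ : H) • z from rfl, MulAction.orbit_smul]
      · intro s hs z
        rw [charAction_of_mem V hVc s hs]
      · intro s hs z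
        exact hQpres s hs z
    obtain ⟨s, rfl⟩ := hx₁S
    have hsT : s ∈ T := by rw [hT]; trivial
    exact hx₁H ((hsT μ₀).mp (MulAction.mem_orbit_self μ₀))

end Cfsg.Agent.Lib.Helper26.W2
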