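import Cfsg.Agent.Lib.Helper26.W2F

/-!
# The Sylow form of the fixed point theorem (helper26, for S4414)
-/

set_option autoImplicit false
set_option linter.style.haveILetI false

namespace Cfsg.Agent.Lib.Helper26.W2

/-- an odd number `n` divides the order of the unit group of the field with `2 ^ φ(n)`
elements -/
theorem dvd_card_units_galoisField (n : ℕ) (hn : ¬ 2 ∣ n) (hn0 : n ≠ 0) :
    n ∣ Nat.card (GaloisField 2 (Nat.totient n))ˣ := by
  have hm : Nat.totient n ≠ 0 := (Nat.totient_pos.mpr (Nat.pos_of_ne_zero hn0)).ne'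
  rw [Nat.card_units, GaloisField.card 2 _ hm]
  have hcop : Nat.Coprime 2 n := (Nat.Prime.coprime_iff_not_dvd Nat.prime_two).mpr hn
  have h1 := (Nat.ModEq.pow_totient hcop).symm
  exact (Nat.modEq_iff_dvd' (Nat.one_le_two_pow)).mp h1

/-- **Sylow form.** -/
theorem fg19_sylow {S : Type*} [Group S] [Finite S]
    (p q : ℕ) (hp : p.Prime) (hq : q.Prime) (hp2 : p ≠ 2) (hq2 : q ≠ 2)
    (hπ : ∀ r : ℕ, r.Prime → r ∣ Nat.card S → r = 2 ∨ r = p ∨ r = q)
    (S₂ : Sylow 2 S) (Sp : Sylow p S) (Sq : Sylow q S)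
    (hSpN : (Sp : Subgroup S).Normal)
    (hSpcard : Nat.card ↥Sp = p ∨ Nat.card ↥Sp = p ^ 2)
    (hcomm : ⁅(Sp : Subgroup S), (Sq : Subgroup S)⁆ = (Sp : Subgroup S))
    {E : Type*} [AddCommGroup E] [Module (ZMod 2) E] [Finite E]
    (ρ : Representation (ZMod 2) S E)
    (hfaith : ∀ x ∈ (Sp : Subgroup S), ρ x = 1 → x = 1) :
    8 ≤ Nat.card {v : E // ∀ s ∈ (S₂ : Subgroup S), ρ s v = v} ∨
      (Nat.card {v : E // ∀ s ∈ (S₂ : Subgroup S), ρ s v = v} = 4 ∧
        ∃ x ∈ (Sq : Subgroup S), ∃ v : E, (∀ s ∈ (S₂ : Subgroup S), ρ s v = v) ∧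
          ¬ ∀ s ∈ (S₂ : Subgroup S), ρ s (ρ x v) = ρ x v) := by
  classical
  haveI := hSpN
  haveI : Fact p.Prime := ⟨hp⟩
  replace hSpcard : Nat.card ↥(Sp : Subgroup S) = p ∨ Nat.card ↥(Sp : Subgroup S) = p ^ 2 :=
    hSpcard
  have h2p : ¬ 2 ∣ p := fun h => hp2 ((Nat.prime_dvd_prime_iff_eq Nat.prime_two hp).mp h).symm
  have hodd : ¬ 2 ∣ Nat.card ↥(Sp : Subgroup S) := by
    rcases hSpcard with h | h
    · rw [h]; exact h2p
    · rw [h]; exact fun h' => h2p (Nat.prime_two.dvd_of_dvd_pow h')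
  have hVc : ∀ a b : ↥(Sp : Subgroup S), a * b = b * a := by
    rcases hSpcard with h | h
    · haveI := isCyclic_of_prime_card h
      exact (IsCyclic.isMulCommutative (α := ↥(Sp : Subgroup S))).is_comm.comm
    · exact (IsPGroup.isMulCommutative_of_card_eq_prime_sq h).is_comm.comm
  have hVnt : (Sp : Subgroup S) ≠ ⊥ := by
    intro h
    have h1 : Nat.card ↥(Sp : Subgroup S) = 1 := by rw [h]; exact Subgroup.card_bot
    rcases hSpcard with h' | h'
    · rw [h'] at h1; exact hp.one_lt.ne' h1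
    · rw [h'] at h1
      have := hp.one_lt
      have h3 : 1 < p ^ 2 := Nat.one_lt_pow (by norm_num) this
      omega
  have hgen : ∀ T : Subgroup S, (S₂ : Subgroup S) ≤ T → (Sp : Subgroup S) ≤ T →
      (Sq : Subgroup S) ≤ T → T = ⊤ := by
    intro T h2 hpT hqT
    apply eq_top_of_sylow_le
    intro r hr hrd
    rcases hπ r hr hrd with h | h | h
    · subst h; exact ⟨S₂, h2⟩
    · subst h; exact ⟨Sp, hpT⟩
    · subst h; exact ⟨Sq, hqT⟩
  have hn0 : Nat.card ↥(Sp : Subgroup S) ≠ 0 := Nat.card_pos.ne'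
  haveI : NeZero (Monoid.exponent ↥(Sp : Subgroup S)) := ⟨Monoid.exponent_ne_zero_of_finite⟩
  haveI : HasEnoughRootsOfUnity (GaloisField 2 (Nat.totient (Nat.card ↥(Sp : Subgroup S))))
      (Monoid.exponent ↥(Sp : Subgroup S)) :=
    hasEnough_of_dvd ((Group.exponent_dvd_nat_card).trans
      (dvd_card_units_galoisField _ hodd hn0))
  exact fg19_main q hq hq2 (Sp : Subgroup S) (S₂ : Subgroup S) (Sq : Subgroup S)
    S₂.isPGroup' Sq.isPGroup' hVc hodd hVnt hcomm hgen ρ hfaith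
    (GaloisField 2 (Nat.totient (Nat.card ↥(Sp : Subgroup S))))

end Cfsg.Agent.Lib.Helper26.W2
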