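import Cfsg.Agent.Lib.Helper26.FSStronglyClosedProd
import Cfsg.Agent.Lib.Helper26.FSSolvableConstrained
import Cfsg.Agent.Lib.Helper26.FSChain

/-!
S5271 (nilpotency criterion via weakly embedded subgroups), part A: the hypotheses, and the existence of a
strongly closed subgroup of the given order.
-/

set_option autoImplicit false
set_option linter.unusedSectionVars false
set_option linter.style.haveILetI false

namespace Cfsg.Agent.Lib.Helper26.WEmb

open Cfsg Cfsg.FusionSystem Cfsg.Agent.Lib.Helper26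

variable {Ω : Type*} [Group Ω] {S : Subgroup Ω}

/-- Every subgroup of order `d` is weakly embedded. -/
def HypA (F : FusionSystem S) (d : ℕ) : Prop :=
  ∀ Q : Subgroup Ω, Q ≤ S → Nat.card Q = d →
    ∃ P : Subgroup Ω, F.StronglyClosed P ∧ F.StronglyClosed (Q ⊔ P) ∧ F.StronglyClosed (Q ⊓ P)

/-- Automorphisms (in the system) of overgroups `R ≤ N_S(H)` of a subgroup `H` of order `d` that leave `H`
invariant are `p`-elements. -/
def HypB (p : ℕ) (F : FusionSystem S) (d : ℕ) : Prop :=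
  ∀ H R : Subgroup Ω, Nat.card H = d → H ≤ R → R ≤ normalizerIn S H → ∀ β ∈ F.autGroup R,
    (∀ x : R, (x : Ω) ∈ H → ((β x : R) : Ω) ∈ H) → ∃ k : ℕ, β ^ (p ^ k) = 1

/-- Dedekind's modular law. -/
theorem sup_inf_of_le {A B C : Subgroup Ω} (hAC : A ≤ C) (hAB : A ≤ Subgroup.normalizer (B : Set Ω)) :
    (A ⊔ B) ⊓ C = A ⊔ (B ⊓ C) := by
  apply le_antisymm
  · intro x hx
    obtain ⟨hx1, hx2⟩ := Subgroup.mem_inf.mp hx
    have hx1' : x ∈ ((A ⊔ B : Subgroup Ω) : Set Ω) := hx1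
    rw [Subgroup.coe_mul_of_left_le_normalizer_right A B hAB] at hx1'
    obtain ⟨a, ha, b, hb, rfl⟩ := hx1'
    have hbC : b ∈ C := by
      have : b = a⁻¹ * (a * b) := by group
      rw [this]
      exact C.mul_mem (C.inv_mem (hAC ha)) hx2
    exact Subgroup.mul_mem _ (Subgroup.mem_sup_left ha) (Subgroup.mem_sup_right (Subgroup.mem_inf.mpr ⟨hb, hbC⟩))
  · exact le_inf (sup_le_sup_left inf_le_left A) (sup_le hAC inf_le_right)

/-- Strictly smaller subgroups of a finite group have smaller order. -/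
theorem card_lt_of_lt {A B : Subgroup Ω} [Finite B] (h : A < B) : Nat.card A < Nat.card B := by
  by_contra hlt
  exact h.ne (Subgroup.eq_of_le_of_card_ge h.le (not_lt.mp hlt))

/-- A subgroup of prescribed `p`-power order between two subgroups of a `p`-group. -/
theorem exists_between [Finite S] {p : ℕ} [Fact p.Prime] (hS : IsPGroup p S) {T₀ T₁ : Subgroup Ω}
    (h01 : T₀ ≤ T₁) (h1S : T₁ ≤ S) {b : ℕ} (h0 : Nat.card T₀ ≤ p ^ b) (h1 : p ^ b ≤ Nat.card T₁) :
    ∃ Q : Subgroup Ω, T₀ ≤ Q ∧ Q ≤ T₁ ∧ Nat.card Q = p ^ b := by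
  have hp : p.Prime := Fact.out
  haveI : Finite T₁ := finite_of_le h1S
  haveI : Finite T₀ := finite_of_le (h01.trans h1S)
  obtain ⟨b₀, hb₀⟩ := (hS.to_le (h01.trans h1S)).exists_card_eq
  obtain ⟨b₁, hb₁⟩ := (hS.to_le h1S).exists_card_eq
  have hle0 : b₀ ≤ b := by
    rw [hb₀] at h0
    exact (Nat.pow_le_pow_iff_right hp.one_lt).mp h0
  have hle1 : b ≤ b₁ := by
    rw [hb₁] at h1
    exact (Nat.pow_le_pow_iff_right hp.one_lt).mp h1
  have hdvd : p ^ b ∣ Nat.card T₁ := by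
    rw [hb₁]
    exact pow_dvd_pow p hle1
  have hH : Nat.card (T₀.subgroupOf T₁) = p ^ b₀ := by
    rw [← hb₀]
    exact Nat.card_congr (Subgroup.subgroupOfEquivOfLe h01).toEquiv
  obtain ⟨K, hK, hHK⟩ := Sylow.exists_subgroup_card_pow_prime_le p hdvd (T₀.subgroupOf T₁) hH hle0
  refine ⟨K.map T₁.subtype, ?_, Subgroup.map_subtype_le K, ?_⟩
  · intro x hx
    exact ⟨⟨x, h01 hx⟩, hHK (Subgroup.mem_subgroupOf.mpr hx), rfl⟩
  · rw [← hK]
    exact (Nat.card_congr (K.equivMapOfInjective T₁.subtype T₁.subtype_injective).toEquiv).symm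

/-- **Step 1.** There is a strongly closed subgroup of order `d`. -/
theorem exists_stronglyClosed_card [Finite S] {p : ℕ} [Fact p.Prime] (hS : IsPGroup p S) (F : FusionSystem S)
    (hF : F.IsSaturated p) {d : ℕ} (hd : d ∣ Nat.card S) (ha : HypA F d) :
    ∃ T : Subgroup Ω, F.StronglyClosed T ∧ Nat.card T = d := by
  classical
  have hp : p.Prime := Fact.out
  obtain ⟨a, hSa⟩ := hS.exists_card_eq
  obtain ⟨b, -, rfl⟩ : ∃ b ≤ a, d = p ^ b := by
    rw [hSa] at hd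
    exact (Nat.dvd_prime_pow hp).mp hd
  have hdS : p ^ b ≤ Nat.card S := Nat.le_of_dvd Nat.card_pos hd
  -- a strongly closed subgroup of maximal order at most `d`
  have hbot : ∃ T : Subgroup Ω, F.StronglyClosed T ∧ Nat.card T = 1 :=
    ⟨⊥, stronglyClosed_bot F, Subgroup.card_bot⟩
  have h1d : 1 ≤ p ^ b := Nat.one_le_pow _ _ hp.pos
  have hspec := Nat.findGreatest_spec (P := fun k => ∃ T : Subgroup Ω, F.StronglyClosed T ∧ Nat.card T = k)
    h1d hbot
  have hk₀le := Nat.findGreatest_le (P := fun k => ∃ T : Subgroup Ω, F.StronglyClosed T ∧ Nat.card T = k) (p ^ b)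
  have hmax : ∀ T : Subgroup Ω, F.StronglyClosed T → Nat.card T ≤ p ^ b →
      Nat.card T ≤ Nat.findGreatest (fun k => ∃ T : Subgroup Ω, F.StronglyClosed T ∧ Nat.card T = k) (p ^ b) :=
    fun T hT hTd => Nat.le_findGreatest hTd ⟨T, hT, rfl⟩
  set k₀ := Nat.findGreatest (fun k => ∃ T : Subgroup Ω, F.StronglyClosed T ∧ Nat.card T = k) (p ^ b) with hk₀
  obtain ⟨T₀, hT₀, hT₀c⟩ := hspec
  by_contra hcon
  have hk₀lt : k₀ < p ^ b := by
    rcases hk₀le.lt_or_eq with h | h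
    · exact h
    · exact absurd ⟨T₀, hT₀, hT₀c.trans h⟩ hcon
  -- a strongly closed subgroup of minimal order properly containing `T₀`
  have hT₀S : T₀ < S := by
    refine lt_of_le_of_ne hT₀.1 ?_
    rintro rfl
    omega
  have hex : ∃ k, ∃ T : Subgroup Ω, F.StronglyClosed T ∧ T₀ < T ∧ Nat.card T = k :=
    ⟨_, S, stronglyClosed_top F, hT₀S, rfl⟩
  obtain ⟨T₁, hT₁, h01, hT₁c⟩ := Nat.find_spec hex
  have hmin : ∀ T : Subgroup Ω, F.StronglyClosed T → T₀ < T → Nat.card T₁ ≤ Nat.card T := by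
    intro T hT h0T
    rw [hT₁c]
    exact Nat.find_min' hex ⟨T, hT, h0T, rfl⟩
  haveI : Finite T₁ := finite_of_le hT₁.1
  have hT₁d : p ^ b < Nat.card T₁ := by
    by_contra hle
    have h1 := hmax T₁ hT₁ (not_lt.mp hle)
    have h2 := card_lt_of_lt h01
    omega
  have hadj : ∀ T : Subgroup Ω, F.StronglyClosed T → T₀ ≤ T → T ≤ T₁ → T = T₀ ∨ T = T₁ := by
    intro T hT h0T hT1
    by_cases h : T = T₀
    · exact Or.inl h
    · right
      exact Subgroup.eq_of_le_of_card_ge hT1 (hmin T hT (lt_of_le_of_ne h0T (Ne.symm h)))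
  -- a subgroup of order `d` in between
  obtain ⟨Q, h0Q, hQ1, hQc⟩ := exists_between hS h01.le hT₁.1 (b := b) (by omega) hT₁d.le
  have hQS : Q ≤ S := hQ1.trans hT₁.1
  haveI : Finite Q := finite_of_le hQS
  obtain ⟨P, hP, hY, hX⟩ := ha Q hQS hQc
  have hSNP : S ≤ Subgroup.normalizer (P : Set Ω) := le_normalizer_of_stronglyClosed F hP
  have hZ : F.StronglyClosed (P ⊓ T₁) := stronglyClosed_inf F hP hT₁
  have hSNZ : S ≤ Subgroup.normalizer ((P ⊓ T₁ : Subgroup Ω) : Set Ω) := le_normalizer_of_stronglyClosed F hZ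
  have hZT : F.StronglyClosed (T₀ ⊔ (P ⊓ T₁)) := stronglyClosed_sup hS F hF _ _ hT₀ hZ
  rcases hadj _ hZT le_sup_left (sup_le h01.le inf_le_right) with hc | hc
  · -- `P ∩ T₁ ≤ T₀`
    have hZle : P ⊓ T₁ ≤ T₀ := by
      rw [← hc]
      exact le_sup_right
    have h1 : (Q ⊔ P) ⊓ T₁ = Q ⊔ (P ⊓ T₁) := sup_inf_of_le hQ1 (hQS.trans hSNP)
    have h2 : Q ⊔ (P ⊓ T₁) = Q := sup_eq_left.mpr (hZle.trans h0Q)
    have hQsc : F.StronglyClosed Q := by
      rw [← h2, ← h1]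
      exact stronglyClosed_inf F hY hT₁
    have := hmax Q hQsc hQc.le
    omega
  · -- `T₀ (P ∩ T₁) = T₁`
    have hXT : F.StronglyClosed (T₀ ⊔ (Q ⊓ P)) := stronglyClosed_sup hS F hF _ _ hT₀ hX
    have hXTQ : T₀ ⊔ (Q ⊓ P) ≤ Q := sup_le h0Q inf_le_left
    have hne : T₀ ⊔ (Q ⊓ P) ≠ T₁ := by
      intro h
      have h3 : T₁ ≤ Q := h ▸ hXTQ
      have := Subgroup.card_le_of_le h3
      omega
    have hXle : Q ⊓ P ≤ T₀ := by
      rcases hadj _ hXT le_sup_left (hXTQ.trans hQ1) with h | h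
      · rw [← h]
        exact le_sup_right
      · exact absurd h hne
    have h1 : (T₀ ⊔ (P ⊓ T₁)) ⊓ Q = T₀ ⊔ ((P ⊓ T₁) ⊓ Q) := sup_inf_of_le h0Q (hT₀.1.trans hSNZ)
    have h2 : Q ≤ T₀ := by
      calc Q = (T₀ ⊔ (P ⊓ T₁)) ⊓ Q := by rw [hc]; exact (inf_eq_right.mpr hQ1).symm
        _ = T₀ ⊔ ((P ⊓ T₁) ⊓ Q) := h1
        _ ≤ T₀ := sup_le le_rfl (le_trans (by
            intro x hx
            exact Subgroup.mem_inf.mpr ⟨(Subgroup.mem_inf.mp hx).2, (Subgroup.mem_inf.mp (Subgroup.mem_inf.mp hx).1).1⟩) hXle)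
    haveI : Finite T₀ := finite_of_le hT₀.1
    have := Subgroup.card_le_of_le h2
    omega

end Cfsg.Agent.Lib.Helper26.WEmb
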