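import Cfsg.Agent.Lib.Helper26.WEmbA
import Cfsg.Agent.Lib.Helper26.FSFactorHyp
import Cfsg.Agent.Lib.Helper26.FSSurjImage
import Cfsg.Agent.Lib.Helper26.FSSolvable
import Cfsg.Agent.Lib.Helper26.TT7
import Cfsg.Agent.Lib.Helper26.PStabA

/-!
S5271, part B: factor systems and the hyperfocal subgroup; the reduction to automorphisms of subgroups of a
strongly closed subgroup of order `d`.
-/

set_option autoImplicit false
set_option linter.unusedSectionVars false
set_option linter.style.haveILetI false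

namespace Cfsg.Agent.Lib.Helper26.WEmb

open Cfsg Cfsg.FusionSystem Cfsg.Agent.Lib.Helper26

universe u

variable {Ω : Type u} [Group Ω] {S : Subgroup Ω} {Ω' : Type u} [Group Ω'] {S' : Subgroup Ω'}

/-- In a `p`-group the `p`-residual is trivial. -/
theorem pResidual_eq_bot_of_isPGroup {G : Type*} [Group G] {p : ℕ} [Fact p.Prime] (hG : IsPGroup p G) :
    pResidual p G = ⊥ := by
  rw [eq_bot_iff]
  unfold pResidual
  rw [Subgroup.closure_le]
  intro g hg
  obtain ⟨k, hk⟩ := hG g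
  have h1 : orderOf g ∣ p ^ k := orderOf_dvd_of_pow_eq_one hk
  have h2 : orderOf g = 1 := Nat.Coprime.eq_one_of_dvd (Nat.Coprime.pow_right k hg) h1
  exact orderOf_eq_one_iff.mp h2

/-- If all automizers of a system are `p`-groups, its hyperfocal subgroup is trivial. -/
theorem hyperfocal_eq_bot_of_isPGroup {p : ℕ} [Fact p.Prime] (E : FusionSystem S')
    (h : ∀ P' : Subgroup Ω', P' ≤ S' → IsPGroup p (E.autGroup P')) : E.hyperfocalSubgroup p = ⊥ := by
  rw [eq_bot_iff]
  unfold hyperfocalSubgroup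
  rw [Subgroup.closure_le]
  rintro _ ⟨P', α, x, hP', hα, rfl⟩
  rw [pResidual_eq_bot_of_isPGroup (h P' hP'), Subgroup.mem_bot] at hα
  rw [hα]
  simp

/-- **Lemma Q1.** If all automizers of the factor system `F/T` are `p`-groups, then `hyp(F) ≤ T`. -/
theorem hyperfocal_le_of_factor [Finite S] {p : ℕ} [Fact p.Prime] (hS : IsPGroup p S) (F : FusionSystem S)
    (hF : F.IsSaturated p) {T : Subgroup Ω} (hT : F.StronglyClosed T) (θ : S →* Ω') (E : FusionSystem S')
    (hE : F.IsFactorSystem T θ E) (h : ∀ P' : Subgroup Ω', P' ≤ S' → IsPGroup p (E.autGroup P')) :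
    F.hyperfocalSubgroup p ≤ T := by
  have h1 := factor_hyperfocal p hS F hF T hT θ E hE
  rw [hyperfocal_eq_bot_of_isPGroup E h] at h1
  intro x hx
  have hxS : x ∈ S := hyperfocal_le F p hx
  have h2 : θ ⟨x, hxS⟩ ∈ ((F.hyperfocalSubgroup p).subgroupOf S).map θ := ⟨⟨x, hxS⟩, hx, rfl⟩
  rw [← h1, Subgroup.mem_bot] at h2
  exact (hE.2.1 _).mp h2

/-- Automorphisms of the image system are `p`-elements as soon as their lifts are. -/
theorem exists_pow_eq_one_of_lift [Finite S] {p : ℕ} (F : FusionSystem S) (E : FusionSystem S') (θ : S →* Ω')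
    (hθ : F.IsSurjectiveMorphism E θ) {Q' : Subgroup Ω'} (hQ' : Q' ≤ S') {a' : MulAut Q'}
    (ha' : a' ∈ E.autGroup Q')
    (h : ∀ a ∈ F.autGroup (preimageAlong θ Q'), (∀ y, projHom θ Q' (a y) = a' (projHom θ Q' y)) →
      ∃ k : ℕ, a ^ (p ^ k) = 1) : ∃ k : ℕ, a' ^ (p ^ k) = 1 := by
  obtain ⟨a, ha, hind⟩ := exists_lift_aut F E θ hθ hQ' a' ha'
  obtain ⟨k, hk⟩ := h a ha hind
  refine ⟨k, ?_⟩
  have h1 := ind_pow (projHom θ Q') hind (p ^ k)
  rw [hk] at h1
  exact (ind_unique (projHom θ Q') (projHom_surjective θ hθ.2.1 hQ') h1 (fun y => rfl))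

/-- The kernel is contained in every full preimage. -/
theorem ker_le_preimageAlong (θ : S →* Ω') {T : Subgroup Ω} (hTS : T ≤ S)
    (hker : ∀ s : S, θ s = 1 ↔ (s : Ω) ∈ T) (P' : Subgroup Ω') : T ≤ preimageAlong θ P' := by
  intro t ht
  rw [mem_preimageAlong_iff]
  refine ⟨hTS ht, ?_⟩
  rw [(hker ⟨t, hTS ht⟩).mpr ht]
  exact P'.one_mem

/-- **Step 2.** If `T` is strongly closed of order `d`, then `hyp(F) ≤ T`. -/
theorem hyperfocal_le_of_card [Finite S] {p : ℕ} [Fact p.Prime] (hS : IsPGroup p S) (F : FusionSystem S)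
    (hF : F.IsSaturated p) {d : ℕ} (hb : HypB p F d) {T : Subgroup Ω} (hT : F.StronglyClosed T)
    (hTd : Nat.card T = d) : F.hyperfocalSubgroup p ≤ T := by
  haveI : (T.subgroupOf S).Normal := normal_subgroupOf_of_stronglyClosed F hT
  set θ : ↥S →* ↥S ⧸ T.subgroupOf S := QuotientGroup.mk' (T.subgroupOf S) with hθ
  have hker : ∀ s : ↥S, θ s = 1 ↔ (s : Ω) ∈ T := quot_ker T
  have hrange : θ.range = ⊤ := quot_range T
  set E := factorSystem F hT θ hker hrange with hE
  have hfac : F.IsFactorSystem T θ E := factorSystem_isFactorSystem F hT θ hker hrange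
  have hsurj : F.IsSurjectiveMorphism E θ := factorSystem_isSurjectiveMorphism hS F hF T hT θ E hfac
  apply hyperfocal_le_of_factor hS F hF hT θ E hfac
  intro P' hP'
  rintro ⟨a', ha'⟩
  have hTN : S ≤ Subgroup.normalizer (T : Set Ω) := le_normalizer_of_stronglyClosed F hT
  obtain ⟨k, hk⟩ := exists_pow_eq_one_of_lift (p := p) F E θ hsurj hP' ha' (fun a ha _ => by
    have hRS := preimageAlong_le θ P'
    refine hb T (preimageAlong θ P') hTd (ker_le_preimageAlong θ hT.1 hker P')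
      (fun x hx => ⟨hRS hx, hTN (hRS hx)⟩) a ha (fun x hx => ?_)
    exact apply_mem_of_stronglyClosed F hT ((mem_autGroup_iff F hRS a).mp ha) x hx)
  exact ⟨k, Subtype.ext hk⟩

/-- Powers of an automorphism that moves `x` by a fixed element. -/
theorem pow_apply_of_fixed {U : Subgroup Ω} (α : MulAut U) (x t : U) (hx : α x = x * t) (ht : α t = t) (k : ℕ) :
    (α ^ k) x = x * t ^ k := by
  induction k with
  | zero => simp
  | succ k ih =>
    rw [pow_succ', MulAut.mul_apply, ih, map_mul, map_pow, hx, ht, pow_succ', mul_assoc]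

/-- **(2c).** If `hyp(F) ≤ T` with `T` strongly closed, and the automizers of the subgroups of `T` have no
nontrivial `p'`-elements, then all automizers are `p`-groups. -/
theorem isPGroup_autGroup_of_le [Finite S] {p : ℕ} [Fact p.Prime] (hS : IsPGroup p S) (F : FusionSystem S)
    {T : Subgroup Ω} (hT : F.StronglyClosed T) (hhyp : F.hyperfocalSubgroup p ≤ T)
    (h : ∀ V : Subgroup Ω, V ≤ T → ∀ α ∈ F.autGroup V, (orderOf α).Coprime p → α = 1) :
    ∀ U : Subgroup Ω, U ≤ S → IsPGroup p (F.autGroup U) := by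
  intro U hU
  haveI : Finite U := finite_of_le hU
  apply TT.isPGroup_of_pResidual_eq_bot
  rw [eq_bot_iff]
  unfold pResidual
  rw [Subgroup.closure_le]
  intro g hg
  rw [SetLike.mem_coe, Subgroup.mem_bot]
  apply Subtype.ext
  show (g : MulAut U) = 1
  set α : MulAut U := (g : MulAut U) with hα
  have hαF := (mem_autGroup_iff F hU α).mp g.2
  have hgo : (orderOf α).Coprime p := by rw [hα, Subgroup.orderOf_coe]; exact hg
  -- `α` moves elements by elements of `U ∩ T`
  have hmove : ∀ x : U, (x : Ω)⁻¹ * (α x : U) ∈ T := fun x =>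
    hhyp (mem_hyperfocal_of F p hU g (Subgroup.subset_closure hg) x)
  -- the restriction of `α` to `U ∩ T` is trivial
  have hres := inclusion_comp_mem F (inf_le_left : U ⊓ T ≤ U) hαF
  have hval : ∀ x : ↥(U ⊓ T), (equivHom (α : U ≃* U)).comp (Subgroup.inclusion inf_le_left) x ∈ U ⊓ T := by
    intro x
    refine Subgroup.mem_inf.mpr ⟨(α _).2, ?_⟩
    exact apply_mem_of_stronglyClosed F hT hαF ⟨x, (Subgroup.mem_inf.mp x.2).1⟩ (Subgroup.mem_inf.mp x.2).2
  obtain ⟨γ, hγ, hγe⟩ := PStab.exists_aut_of_hom F hres hval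
  have hγpow : ∀ (k : ℕ) (x : ↥(U ⊓ T)), (((γ ^ k) x : ↥(U ⊓ T)) : Ω) =
      ((α ^ k) ⟨x, (Subgroup.mem_inf.mp x.2).1⟩ : U) := by
    intro k
    induction k with
    | zero => intro x; rfl
    | succ k ih =>
      intro x
      rw [pow_succ', MulAut.mul_apply, hγe, pow_succ', MulAut.mul_apply]
      show ((α ⟨((γ ^ k) x : ↥(U ⊓ T)), _⟩ : U) : Ω) = _
      congr 2
      exact Subtype.ext (ih x)
  have hγo : orderOf γ ∣ orderOf α := by
    apply orderOf_dvd_of_pow_eq_one
    ext x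
    rw [hγpow, pow_orderOf_eq_one]
    rfl
  have hγ1 : γ = 1 := h (U ⊓ T) inf_le_right γ hγ (Nat.Coprime.coprime_dvd_left hγo hgo)
  have hfix : ∀ t : U, (t : Ω) ∈ T → α t = t := by
    intro t ht
    have := hγe ⟨t, Subgroup.mem_inf.mpr ⟨t.2, ht⟩⟩
    rw [hγ1] at this
    apply Subtype.ext
    exact this.symm
  ext x
  -- `α x = x t` with `t` fixed
  set t : U := x⁻¹ * α x with ht
  have htT : (t : Ω) ∈ T := hmove x
  have hxt : α x = x * t := by rw [ht]; group
  have hpow := pow_apply_of_fixed α x t hxt (hfix t htT) (orderOf α)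
  rw [pow_orderOf_eq_one, MulAut.one_apply] at hpow
  have ht1 : t ^ orderOf α = 1 := by
    have : x * t ^ orderOf α = x * 1 := by rw [mul_one]; exact hpow.symm
    exact mul_left_cancel this
  obtain ⟨j, hj⟩ := (hS.to_le hU) t
  have hto : orderOf t ∣ p ^ j := orderOf_dvd_of_pow_eq_one hj
  have hto2 : orderOf t ∣ orderOf α := orderOf_dvd_of_pow_eq_one ht1
  have hto3 : orderOf t = 1 :=
    Nat.Coprime.eq_one_of_dvd (Nat.Coprime.coprime_dvd_left hto2 (Nat.Coprime.pow_right j hgo)) hto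
  have ht1' : t = 1 := orderOf_eq_one_iff.mp hto3
  rw [hxt, ht1', mul_one]
  rfl

end Cfsg.Agent.Lib.Helper26.WEmb
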