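import Cfsg.Agent.Lib.Helper26.WEmbB
import Cfsg.Agent.Lib.Helper26.PPI11

/-!
S5271, part C: the hypotheses pass to subsystems; the case `p d < |S|` via the subsystem of `p`-power index.
-/

set_option autoImplicit false
set_option linter.unusedSectionVars false
set_option linter.style.haveILetI false

namespace Cfsg.Agent.Lib.Helper26.WEmb

open Cfsg Cfsg.FusionSystem Cfsg.Agent.Lib.Helper26

universe u

variable {Ω : Type u} [Group Ω] {S : Subgroup Ω}

theorem stronglyClosed_inf_of_subsystem {M : Subgroup Ω} (E : FusionSystem M) (F : FusionSystem S)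
    (hEF : E.IsSubsystemOf F) {P : Subgroup Ω} (hP : F.StronglyClosed P) : E.StronglyClosed (P ⊓ M) := by
  refine ⟨inf_le_right, fun R hR φ hφ x => Subgroup.mem_inf.mpr ⟨?_, hom_apply_mem E hφ x⟩⟩
  exact hP.2 R (hR.trans inf_le_left) φ (hEF R hφ) x

theorem hypA_of_subsystem (F : FusionSystem S) {M : Subgroup Ω} (hMS : M ≤ S) (E : FusionSystem M)
    (hEF : E.IsSubsystemOf F) {d : ℕ} (ha : HypA F d) : HypA E d := by
  intro Q hQM hQd
  obtain ⟨P, hP, hY, hX⟩ := ha Q (hQM.trans hMS) hQd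
  have hSNP : S ≤ Subgroup.normalizer (P : Set Ω) := le_normalizer_of_stronglyClosed F hP
  refine ⟨P ⊓ M, stronglyClosed_inf_of_subsystem E F hEF hP, ?_, ?_⟩
  · rw [← sup_inf_of_le hQM ((hQM.trans hMS).trans hSNP)]
    exact stronglyClosed_inf_of_subsystem E F hEF hY
  · rw [← inf_assoc]
    exact stronglyClosed_inf_of_subsystem E F hEF hX

theorem hypB_of_subsystem {p : ℕ} (F : FusionSystem S) {M : Subgroup Ω} (hMS : M ≤ S) (E : FusionSystem M)
    (hEF : E.IsSubsystemOf F) {d : ℕ} (hb : HypB p F d) : HypB p E d := by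
  intro H R hHd hHR hRN β hβ hβH
  have hRM : R ≤ M := hRN.trans (normalizerIn_le M H)
  refine hb H R hHd hHR (hRN.trans (inf_le_inf_right _ hMS)) β ?_ hβH
  rw [mem_autGroup_iff F (hRM.trans hMS)]
  exact hEF R ((mem_autGroup_iff E hRM β).mp hβ)

/-- **Step 3.** The case `p d < |S|`. -/
theorem step3 [Finite S] {p : ℕ} [Fact p.Prime] (hS : IsPGroup p S) (F : FusionSystem S)
    (hF : F.IsSaturated p) {d : ℕ} (hd : p * d ∣ Nat.card S) (ha : HypA F d) (hb : HypB p F d)
    (hIH : ∀ (M : Subgroup Ω) (E : FusionSystem M), M ≤ S → E.IsSaturated p → Nat.card M = p * d →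
      HypA E d → HypB p E d → ∀ V : Subgroup Ω, V ≤ M → IsPGroup p (E.autGroup V)) :
    ∀ U : Subgroup Ω, U ≤ S → IsPGroup p (F.autGroup U) := by
  have hp : p.Prime := Fact.out
  have hdS : d ∣ Nat.card S := (Dvd.intro_left p rfl).trans hd
  obtain ⟨T, hT, hTd⟩ := exists_stronglyClosed_card hS F hF hdS ha
  have hhyp := hyperfocal_le_of_card hS F hF hb hT hTd
  -- a subgroup of order `p d` containing `T`
  obtain ⟨a, hSa⟩ := hS.exists_card_eq
  obtain ⟨b, -, hb'⟩ : ∃ b ≤ a, p * d = p ^ b := by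
    rw [hSa] at hd
    exact (Nat.dvd_prime_pow hp).mp hd
  obtain ⟨M, hTM, hMS, hMc⟩ := exists_between hS hT.1 le_rfl (b := b)
    (by rw [hTd, ← hb']; exact Nat.le_mul_of_pos_left d hp.pos)
    (by rw [← hb']; exact Nat.le_of_dvd Nat.card_pos hd)
  rw [← hb'] at hMc
  haveI : Finite M := finite_of_le hMS
  obtain ⟨E, ⟨hEsat, hEF, -, hEres⟩, -⟩ := PPI.exists_unique_ppower_index hS F hF M hMS (hhyp.trans hTM)
  have hEp := hIH M E hMS hEsat hMc (hypA_of_subsystem F hMS E hEF ha) (hypB_of_subsystem F hMS E hEF hb)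
  apply isPGroup_autGroup_of_le hS F hT hhyp
  intro V hVT α hα hαo
  have hVM : V ≤ M := hVT.trans hTM
  have h1 : (⟨α, hα⟩ : F.autGroup V) ∈ pResidual p (F.autGroup V) := by
    apply Subgroup.subset_closure
    show (orderOf (⟨α, hα⟩ : F.autGroup V)).Coprime p
    rw [← Subgroup.orderOf_coe]
    exact hαo
  have h2 : α ∈ E.autGroup V := hEres V hVM ⟨⟨α, hα⟩, h1, rfl⟩
  obtain ⟨k, hk⟩ := hEp V hVM ⟨α, h2⟩
  have hk' : α ^ (p ^ k) = 1 := congrArg Subtype.val hk
  have h3 : orderOf α ∣ p ^ k := orderOf_dvd_of_pow_eq_one hk'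
  have h4 : orderOf α = 1 := Nat.Coprime.eq_one_of_dvd (Nat.Coprime.pow_right k hαo) h3
  exact orderOf_eq_one_iff.mp h4

end Cfsg.Agent.Lib.Helper26.WEmb
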