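import Cfsg.Agent.Lib.Helper26.WEmbB

/-!
S5271, part D: the hypotheses pass to factor systems.
-/

set_option autoImplicit false
set_option linter.unusedSectionVars false
set_option linter.style.haveILetI false

namespace Cfsg.Agent.Lib.Helper26.WEmb

open Cfsg Cfsg.FusionSystem Cfsg.Agent.Lib.Helper26

universe u

variable {Ω : Type u} [Group Ω] {S : Subgroup Ω} {Ω' : Type u} [Group Ω'] {S' : Subgroup Ω'}

theorem preimageAlong_mono (θ : S →* Ω') {A' B' : Subgroup Ω'} (h : A' ≤ B') :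
    preimageAlong θ A' ≤ preimageAlong θ B' :=
  Subgroup.map_mono (Subgroup.comap_mono h)

/-- The order of a full preimage. -/
theorem card_preimageAlong [Finite S] (θ : S →* Ω') (hrange : θ.range = S') {X : Subgroup Ω} (hXS : X ≤ S)
    (hker : ∀ s : S, θ s = 1 ↔ (s : Ω) ∈ X) {R' : Subgroup Ω'} (hR' : R' ≤ S') :
    Nat.card (preimageAlong θ R') = Nat.card X * Nat.card R' := by
  have hle := ker_le_preimageAlong θ hXS hker R'
  have h1 := (projHom θ R').ker.card_mul_index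
  rw [Subgroup.index_ker, MonoidHom.range_eq_top.mpr (projHom_surjective θ hrange hR'), Subgroup.card_top] at h1
  have h2 : (projHom θ R').ker = X.subgroupOf (preimageAlong θ R') := by
    ext y
    rw [MonoidHom.mem_ker, Subgroup.mem_subgroupOf, ← hker ⟨y, preimageAlong_le θ R' y.2⟩]
    constructor
    · intro h
      have := congrArg Subtype.val h
      exact this
    · intro h
      exact Subtype.ext h
  rw [h2, Nat.card_congr (Subgroup.subgroupOfEquivOfLe hle).toEquiv] at h1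
  exact h1.symm

variable (F : FusionSystem S) (E : FusionSystem S') (θ : S →* Ω')

/-- The image of a strongly closed subgroup is strongly closed. -/
theorem stronglyClosed_imageAlong (hθ : F.IsSurjectiveMorphism E θ) {Y : Subgroup Ω} (hY : F.StronglyClosed Y) :
    E.StronglyClosed (imageAlong θ Y) := by
  refine ⟨?_, fun R' hR' φ' hφ' x' => ?_⟩
  · rintro _ ⟨s, -, rfl⟩
    rw [← hθ.2.1]
    exact ⟨s, rfl⟩
  · have hR'S' : R' ≤ S' := hom_le E hφ'
    obtain ⟨φ, hφ, hind⟩ := exists_lift_hom F E θ hθ hR'S' hφ'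
    obtain ⟨s, hsY, hs⟩ := (mem_imageAlong_iff θ Y _).mp (hR' x'.2)
    have hsR : (s : Ω) ∈ preimageAlong θ R' := by
      rw [mem_preimageAlong_iff]
      exact ⟨s.2, by rw [hs]; exact x'.2⟩
    have h1 := hind ⟨s, hsR⟩
    have h2 : projHom θ R' ⟨s, hsR⟩ = x' := Subtype.ext hs
    rw [h2] at h1
    rw [h1, mem_imageAlong_iff]
    exact ⟨⟨φ ⟨s, hsR⟩, hom_apply_mem F hφ _⟩, apply_mem_of_stronglyClosed F hY hφ ⟨s, hsR⟩ hsY, rfl⟩

theorem imageAlong_sup {A B : Subgroup Ω} (hA : A ≤ S) (hB : B ≤ S) :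
    imageAlong θ (A ⊔ B) = imageAlong θ A ⊔ imageAlong θ B := by
  unfold imageAlong
  rw [Subgroup.subgroupOf_sup hA hB, Subgroup.map_sup]

theorem hypA_of_factor [Finite S] (hθ : F.IsSurjectiveMorphism E θ) {X : Subgroup Ω} (hXS : X ≤ S)
    (hker : ∀ s : S, θ s = 1 ↔ (s : Ω) ∈ X) {d d' : ℕ} (hdd : Nat.card X * d' = d) (ha : HypA F d) :
    HypA E d' := by
  intro Q' hQ' hQ'd
  have hQS := preimageAlong_le θ Q'
  have hQd : Nat.card (preimageAlong θ Q') = d := by
    rw [card_preimageAlong θ hθ.2.1 hXS hker hQ', hQ'd, hdd]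
  obtain ⟨P, hP, hY, hX⟩ := ha _ hQS hQd
  have hQim := imageAlong_preimageAlong θ hθ.2.1 hQ'
  refine ⟨imageAlong θ P, stronglyClosed_imageAlong F E θ hθ hP, ?_, ?_⟩
  · have := stronglyClosed_imageAlong F E θ hθ hY
    rwa [imageAlong_sup θ hQS hP.1, hQim] at this
  · have h1 : Q' ⊓ imageAlong θ P = imageAlong θ (preimageAlong θ Q' ⊓ P) := by
      ext z
      rw [Subgroup.mem_inf, mem_imageAlong_iff, mem_imageAlong_iff]
      constructor
      · rintro ⟨hzQ, s, hsP, rfl⟩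
        refine ⟨s, Subgroup.mem_inf.mpr ⟨?_, hsP⟩, rfl⟩
        rw [mem_preimageAlong_iff]
        exact ⟨s.2, hzQ⟩
      · rintro ⟨s, hs, rfl⟩
        obtain ⟨hsQ, hsP⟩ := Subgroup.mem_inf.mp hs
        obtain ⟨_, h⟩ := (mem_preimageAlong_iff θ Q' _).mp hsQ
        exact ⟨h, s, hsP, rfl⟩
    rw [h1]
    exact stronglyClosed_imageAlong F E θ hθ hX

theorem hypB_of_factor [Finite S] {p : ℕ} (hθ : F.IsSurjectiveMorphism E θ) {X : Subgroup Ω} (hXS : X ≤ S)
    (hker : ∀ s : S, θ s = 1 ↔ (s : Ω) ∈ X) {d d' : ℕ} (hdd : Nat.card X * d' = d) (hb : HypB p F d) :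
    HypB p E d' := by
  intro H' R' hH'd hHR' hR'N β' hβ' hβH'
  have hR'S' : R' ≤ S' := hR'N.trans (normalizerIn_le S' H')
  have hH'S' : H' ≤ S' := hHR'.trans hR'S'
  have hRS := preimageAlong_le θ R'
  apply exists_pow_eq_one_of_lift F E θ hθ hR'S' hβ'
  intro a ha hind
  refine hb (preimageAlong θ H') (preimageAlong θ R') ?_ (preimageAlong_mono θ hHR') ?_ a ha ?_
  · rw [card_preimageAlong θ hθ.2.1 hXS hker hH'S', hH'd, hdd]
  · intro x hx
    obtain ⟨hxS, hxR'⟩ := (mem_preimageAlong_iff θ R' x).mp hx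
    exact ⟨hxS, mem_normalizer_preimageAlong θ hxS (hR'N hxR').2⟩
  · intro x hx
    obtain ⟨_, hxH'⟩ := (mem_preimageAlong_iff θ H' _).mp hx
    rw [mem_preimageAlong_iff]
    refine ⟨hRS (a x).2, ?_⟩
    have h1 := hind x
    have h2 := hβH' (projHom θ R' x) hxH'
    rw [← h1] at h2
    exact h2

end Cfsg.Agent.Lib.Helper26.WEmb
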