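import Cfsg.Agent.Lib.Helper26.WEmbB
import Cfsg.Agent.Lib.Helper26.FSKNormSat
import Cfsg.Agent.Lib.Helper27.BS13

/-!
S5271, part E: a strongly closed subgroup of order `p` containing the hyperfocal subgroup.
-/

set_option autoImplicit false
set_option linter.unusedSectionVars false
set_option linter.style.haveILetI false

namespace Cfsg.Agent.Lib.Helper26.WEmb

open Cfsg Cfsg.FusionSystem Cfsg.Agent.Lib.Helper26

universe u

variable {Ω : Type u} [Group Ω] {S : Subgroup Ω}

/-- An automorphism of `p`-power order of a group of order `p` is trivial. -/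
theorem aut_eq_one_of_card_prime {Y : Type*} [Group Y] {p : ℕ} [Fact p.Prime] (hY : Nat.card Y = p)
    (β : MulAut Y) {k : ℕ} (hk : β ^ (p ^ k) = 1) : β = 1 := by
  have hp : p.Prime := Fact.out
  haveI : Finite Y := Nat.finite_of_card_ne_zero (by rw [hY]; exact hp.ne_zero)
  haveI : IsCyclic Y := isCyclic_of_prime_card hY
  have h1 : Nat.card (MulAut Y) = p - 1 := by
    rw [IsCyclic.card_mulAut, hY, Nat.totient_prime hp]
  haveI : Finite (MulAut Y) := Nat.finite_of_card_ne_zero (by
    rw [h1]
    have := hp.two_le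
    omega)
  have h2 : orderOf β ∣ p - 1 := h1 ▸ orderOf_dvd_natCard β
  have h3 : orderOf β ∣ p ^ k := orderOf_dvd_of_pow_eq_one hk
  have hcop : Nat.Coprime (p - 1) (p ^ k) := by
    apply Nat.Coprime.pow_right
    rw [Nat.coprime_comm, Nat.Prime.coprime_iff_not_dvd hp]
    intro hdvd
    have := Nat.le_of_dvd (by have := hp.two_le; omega) hdvd
    have := hp.two_le
    omega
  have h4 : orderOf β = 1 := Nat.eq_one_of_dvd_coprimes hcop h2 h3
  exact orderOf_eq_one_iff.mp h4

/-- A normal subgroup of order `p` of a `p`-group is central. -/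
theorem centralizerIn_eq_of_card_prime {p : ℕ} [Fact p.Prime] (hS : IsPGroup p S) {Y : Subgroup Ω}
    (hYS : Y ≤ S) (hYN : S ≤ Subgroup.normalizer (Y : Set Ω)) (hYp : Nat.card Y = p) :
    centralizerIn S Y = S := by
  apply le_antisymm (centralizerIn_le S Y)
  intro s hs
  rw [mem_centralizerIn_iff]
  refine ⟨hs, fun y hy => ?_⟩
  have hsN := hYN hs
  have hc : Y.normalizerMonoidHom ⟨s, hsN⟩ ∈ autInducedBy S Y := normalizerMonoidHom_mem_autInducedBy hs hsN
  obtain ⟨k, hk⟩ := autInducedBy_isPGroup hS Y ⟨_, hc⟩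
  have hk' : (Y.normalizerMonoidHom ⟨s, hsN⟩) ^ (p ^ k) = 1 := congrArg Subtype.val hk
  have h1 := aut_eq_one_of_card_prime hYp _ hk'
  have h2 : (((Y.normalizerMonoidHom ⟨s, hsN⟩) ⟨y, hy⟩ : Y) : Ω) = y := by rw [h1]; rfl
  have h3 : s * y * s⁻¹ = y := h2
  calc y * s = (s * y * s⁻¹) * s := by rw [h3]
    _ = s * y := by group

/-- **Lemma Z.** A strongly closed subgroup `Y` of order `p` is central in the system, provided the automorphisms
of `C_S(Y)` in the system are `p`-elements. -/
theorem le_center_of_card_prime [Finite S] {p : ℕ} [Fact p.Prime] (hS : IsPGroup p S) (F : FusionSystem S)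
    (hF : F.IsSaturated p) {Y : Subgroup Ω} (hY : F.StronglyClosed Y) (hYp : Nat.card Y = p)
    (hAS : ∀ β ∈ F.autGroup (NK S Y ⊥), ∃ k : ℕ, β ^ (p ^ k) = 1) : Y ≤ F.center := by
  have hp : p.Prime := Fact.out
  have hYS := hY.1
  haveI : Finite Y := finite_of_le hYS
  have hYN : S ≤ Subgroup.normalizer (Y : Set Ω) := le_normalizer_of_stronglyClosed F hY
  have hcent := centralizerIn_eq_of_card_prime hS hYS hYN hYp
  -- `Y` is fully normalized
  have hYfn : F.IsFullyNormalized Y := by
    refine ⟨hYS, ?_⟩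
    rintro Y' ⟨φ, hφ, rfl⟩
    have hr : φ.range = Y := by
      apply Subgroup.eq_of_le_of_card_ge
      · rintro _ ⟨x, rfl⟩
        exact hY.2 Y le_rfl φ hφ x
      · rw [Nat.card_congr (MonoidHom.ofInjective (F.injective_of_mem hφ)).toEquiv]
    rw [hr]
  -- every automorphism of `Y` in the system is trivial
  have hYK : Y ≤ NK S Y ⊥ := by
    rw [NK_bot, hcent]
    exact hYS
  have haut : ∀ β ∈ F.autGroup Y, β = 1 := by
    intro β hβ
    obtain ⟨γ, hγ, hγe⟩ := PStab.exists_ext_NK hS F hF hYfn ⊥ bot_le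
      (fun b _ κ hκ => by
        rw [Subgroup.mem_bot] at hκ ⊢
        rw [hκ]
        simp) hYK hβ
    obtain ⟨k, hk⟩ := hAS γ hγ
    apply aut_eq_one_of_card_prime hYp β (k := k)
    have hpow : ∀ (j : ℕ) (x : Y), (((γ ^ j) (Subgroup.inclusion hYK x) : ↥(NK S Y ⊥)) : Ω) = ((β ^ j) x : Y) := by
      intro j
      induction j with
      | zero => intro x; rfl
      | succ j ih =>
        intro x
        rw [pow_succ', MulAut.mul_apply, pow_succ', MulAut.mul_apply]
        have h1 : (γ ^ j) (Subgroup.inclusion hYK x) = Subgroup.inclusion hYK ((β ^ j) x) := Subtype.ext (ih x)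
        rw [h1]
        exact hγe _
    ext x
    have := hpow (p ^ k) x
    rw [hk] at this
    exact this.symm
  -- hence `Y` is central
  have hcen : F.IsCentral Y := by
    rw [isCentral_iff_conjElt hS F hF]
    refine ⟨hYS, fun x hx y hxy => ?_⟩
    obtain ⟨φ, hφ, rfl⟩ := hxy
    by_cases hx1 : x = 1
    · subst hx1
      have : (⟨1, Subgroup.mem_zpowers 1⟩ : Subgroup.zpowers (1 : Ω)) = 1 := rfl
      rw [this, map_one]
    · have hz : Subgroup.zpowers x = Y := by
        have hle : Subgroup.zpowers x ≤ Y := by rw [Subgroup.zpowers_le]; exact hx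
        apply Subgroup.eq_of_le_of_card_ge hle
        rw [Nat.card_zpowers, hYp]
        have h1 : orderOf x ∣ p := by
          have := orderOf_dvd_natCard (⟨x, hx⟩ : Y)
          rw [hYp] at this
          rwa [Subgroup.orderOf_mk] at this
        rcases (Nat.dvd_prime hp).mp h1 with h | h
        · exact absurd (orderOf_eq_one_iff.mp h) hx1
        · exact h.ge
      have hφ' := hom_congr F hz hφ
      have hval : ∀ z : Y, (φ.comp (Subgroup.inclusion hz.ge)) z ∈ Y := fun z => hY.2 Y le_rfl _ hφ' z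
      obtain ⟨β, hβ, hβe⟩ := PStab.exists_aut_of_hom F hφ' hval
      have h1 := hβe ⟨x, hx⟩
      rw [haut β hβ] at h1
      exact h1.symm
  exact le_sSup hcen

/-- If the hyperfocal subgroup lies in a subgroup central in the system, it lies in the derived subgroup. -/
theorem hyperfocal_le_commutator [Finite S] {p : ℕ} [Fact p.Prime] (hS : IsPGroup p S) (F : FusionSystem S)
    (hF : F.IsSaturated p) {Y : Subgroup Ω} (hYc : Y ≤ F.center) (hhyp : F.hyperfocalSubgroup p ≤ Y) :
    F.hyperfocalSubgroup p ≤ ⁅S, S⁆ := by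
  have h1 : F.hyperfocalSubgroup p ≤ F.focalSubgroup := by
    rw [focal_eq hS F hF]
    exact le_sup_left
  exact (le_inf h1 (hhyp.trans hYc)).trans (Cfsg.Agent.Lib.Helper27.BS.focal_inf_center_le hS F hF)

end Cfsg.Agent.Lib.Helper26.WEmb
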