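import Cfsg.Agent.Lib.Helper26.WEmbE
import Cfsg.Agent.Lib.Helper26.TT8
import Cfsg.Agent.Lib.Helper1.PGroup
import Cfsg.Agent.Lib.Helper27.FSInner

/-!
S5271, part F: the case `p d = |S|`.
-/

set_option autoImplicit false
set_option linter.unusedSectionVars false
set_option linter.style.haveILetI false

namespace Cfsg.Agent.Lib.Helper26.WEmb

open Cfsg Cfsg.FusionSystem Cfsg.Agent.Lib.Helper26

universe u

variable {Ω : Type u} [Group Ω] {S : Subgroup Ω}

/-- A system with trivial hyperfocal subgroup has `p`-groups as automizers. -/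
theorem isPGroup_autGroup_of_hyperfocal_eq_bot [Finite S] {p : ℕ} [Fact p.Prime] (F : FusionSystem S)
    (h : F.hyperfocalSubgroup p = ⊥) : ∀ U : Subgroup Ω, U ≤ S → IsPGroup p (F.autGroup U) := by
  intro P hP
  haveI : Finite ↥P := finite_of_le hP
  apply TT.isPGroup_of_pResidual_eq_bot
  rw [eq_bot_iff]
  intro α hα
  rw [Subgroup.mem_bot]
  apply Subtype.ext
  ext x : 2
  have h1 := mem_hyperfocal_of F p hP α hα x
  rw [h, Subgroup.mem_bot, inv_mul_eq_one] at h1
  exact h1.symm

/-- The case `p d = |S|`: the hyperfocal subgroup lies in every subgroup of order `d` (containing `[S, S]`). -/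
theorem hyperfocal_le_of_index_p [Finite S] {p : ℕ} [Fact p.Prime] (hS : IsPGroup p S) (F : FusionSystem S)
    (hF : F.IsSaturated p) {d : ℕ} (hd1 : 1 < d) (hdS : Nat.card S = p * d) (ha : HypA F d) (hb : HypB p F d)
    (hIHq : ∀ X : Subgroup Ω, F.StronglyClosed X → X ≠ ⊥ → Nat.card X < d → F.hyperfocalSubgroup p ≤ X)
    {Q : Subgroup Ω} (hQS : Q ≤ S) (hQd : Nat.card Q = d) (hcomm : ⁅S, S⁆ ≤ Q) :
    F.hyperfocalSubgroup p ≤ Q := by
  have hp : p.Prime := Fact.out
  haveI : Finite Q := finite_of_le hQS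
  obtain ⟨P, hP, hY, hX⟩ := ha Q hQS hQd
  by_cases hPQ : P ≤ Q
  · have h1 : Q ⊔ P = Q := sup_eq_left.mpr hPQ
    rw [h1] at hY
    exact hyperfocal_le_of_card hS F hF hb hY hQd
  by_cases hX0 : Q ⊓ P = ⊥
  · -- `|P| = p`
    have hPS := hP.1
    haveI : Finite P := finite_of_le hPS
    have hrel : Q.relIndex S = p := by
      have h1 := (Q.subgroupOf S).card_mul_index
      rw [Nat.card_congr (Subgroup.subgroupOfEquivOfLe hQS).toEquiv, hQd, hdS] at h1
      have hd0 : 0 < d := by omega
      rw [mul_comm] at h1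
      exact Nat.eq_of_mul_eq_mul_right hd0 h1
    have hPc : Nat.card P ≤ p := by
      rw [← Subgroup.relIndex_bot_left, ← hX0, Subgroup.inf_relIndex_right, ← hrel]
      exact Subgroup.relIndex_le_of_le_right hPS (by rw [hrel]; exact hp.ne_zero)
    have hP1 : P ≠ ⊥ := by
      rintro rfl
      exact hPQ bot_le
    have hPp : Nat.card P = p := by
      obtain ⟨k, hk⟩ := (hS.to_le hPS).exists_card_eq
      rcases k with _ | k
      · rw [pow_zero] at hk
        exact absurd (Subgroup.card_eq_one.mp hk) hP1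
      · have h1 : p ^ (k + 1) ≤ p := hk ▸ hPc
        have h2 : p ≤ p ^ (k + 1) := Nat.le_self_pow (by omega) p
        omega
    -- a strongly closed subgroup of order `d`
    have hdS' : d ∣ Nat.card S := ⟨p, by rw [hdS, mul_comm]⟩
    obtain ⟨T, hT, hTd⟩ := exists_stronglyClosed_card hS F hF hdS' ha
    have hhypT := hyperfocal_le_of_card hS F hF hb hT hTd
    have hpd : p ≤ d := by
      obtain ⟨k, hk⟩ := (hS.to_le hQS).exists_card_eq
      rw [hQd] at hk
      rcases k with _ | k
      · rw [pow_zero] at hk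
        omega
      · rw [hk]
        exact Nat.le_self_pow (by omega) p
    -- a strongly closed subgroup of order `p` containing the hyperfocal subgroup
    obtain ⟨Y, hYsc, hYp, hhypY⟩ : ∃ Y : Subgroup Ω, F.StronglyClosed Y ∧ Nat.card Y = p ∧
        F.hyperfocalSubgroup p ≤ Y := by
      by_cases hpd' : p < d
      · exact ⟨P, hP, hPp, hIHq P hP hP1 (hPp ▸ hpd')⟩
      · have hdp : d = p := by omega
        exact ⟨T, hT, hTd.trans hdp, hhypT⟩
    have hYN : S ≤ Subgroup.normalizer (Y : Set Ω) := le_normalizer_of_stronglyClosed F hYsc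
    have hTN : S ≤ Subgroup.normalizer (T : Set Ω) := le_normalizer_of_stronglyClosed F hT
    have hcent := centralizerIn_eq_of_card_prime hS hYsc.1 hYN hYp
    have hAS : ∀ β ∈ F.autGroup (NK S Y ⊥), ∃ k : ℕ, β ^ (p ^ k) = 1 := by
      intro β hβ
      have hRS : NK S Y ⊥ ≤ S := NK_le S Y ⊥
      have hTR : T ≤ NK S Y ⊥ := by
        rw [NK_bot, hcent]
        exact hT.1
      refine hb T (NK S Y ⊥) hTd hTR (fun x hx => ⟨hRS hx, hTN (hRS hx)⟩) β hβ (fun x hx => ?_)
      exact apply_mem_of_stronglyClosed F hT ((mem_autGroup_iff F hRS β).mp hβ) x hx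
    have hYc := le_center_of_card_prime hS F hF hYsc hYp hAS
    exact (hyperfocal_le_commutator hS F hF hYc hhypY).trans hcomm
  · by_cases hXd : Nat.card (Q ⊓ P : Subgroup Ω) < d
    · exact (hIHq _ hX hX0 hXd).trans inf_le_left
    · have h1 : Q ⊓ P = Q := Subgroup.eq_of_le_of_card_ge inf_le_left (by rw [hQd]; omega)
      rw [h1] at hX
      exact hyperfocal_le_of_card hS F hF hb hX hQd

/-- **Step 4.** The case `p d = |S|`. -/
theorem step4 [Finite S] {p : ℕ} [Fact p.Prime] (hS : IsPGroup p S) (F : FusionSystem S)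
    (hF : F.IsSaturated p) {d : ℕ} (hd1 : 1 < d) (hdS : Nat.card S = p * d) (ha : HypA F d) (hb : HypB p F d)
    (hIHq : ∀ X : Subgroup Ω, F.StronglyClosed X → X ≠ ⊥ → Nat.card X < d → F.hyperfocalSubgroup p ≤ X) :
    ∀ U : Subgroup Ω, U ≤ S → IsPGroup p (F.autGroup U) := by
  have hp : p.Prime := Fact.out
  have hfr : F.hyperfocalSubgroup p ≤ (frattini ↥S).map S.subtype := by
    intro x hx
    have hxS : x ∈ S := hyperfocal_le F p hx
    refine ⟨⟨x, hxS⟩, ?_, rfl⟩
    unfold frattini Order.radical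
    simp only [SetLike.mem_coe, Subgroup.mem_iInf]
    intro M hM
    have hidx := Cfsg.Agent.Lib.Helper1.IsPGroup.coatom_index hS M hM
    have hcM := Cfsg.Agent.Lib.Helper1.IsPGroup.commutator_le_coatom hS M hM
    have hcard : Nat.card (M.map S.subtype) = d := by
      rw [← Nat.card_congr (M.equivMapOfInjective S.subtype S.subtype_injective).toEquiv]
      have h1 := M.card_mul_index
      rw [hidx, hdS] at h1
      have hp0 : 0 < p := hp.pos
      rw [mul_comm] at h1
      exact Nat.eq_of_mul_eq_mul_left hp0 h1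
    have hcomm : ⁅S, S⁆ ≤ M.map S.subtype := by
      rw [← Subgroup.map_subtype_commutator]
      exact Subgroup.map_mono hcM
    have hQ := hyperfocal_le_of_index_p hS F hF hd1 hdS ha hb hIHq (Q := M.map S.subtype)
      (Subgroup.map_subtype_le M) hcard hcomm
    obtain ⟨y, hy, hyx⟩ := hQ hx
    have hyx' : y = ⟨x, hxS⟩ := Subtype.ext hyx
    rw [← hyx']
    exact hy
  have hfoc : F.focalSubgroup ≤ (frattini ↥S).map S.subtype := by
    rw [focal_eq hS F hF]
    refine sup_le hfr ?_
    rw [← Subgroup.map_subtype_commutator]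
    exact Subgroup.map_mono (Cfsg.Agent.Lib.Helper1.IsPGroup.commutator_le_frattini hS)
  have hhyp : F.hyperfocalSubgroup p ≤ (innerFusionSystem S).hyperfocalSubgroup p :=
    TT.hyperfocal_le_of_focal_le hS F hF (innerFusionSystem S) (Cfsg.Agent.Lib.Helper27.inner_saturated S hS)
      (fun P => inner_hom_subset F P) (hfoc.trans le_sup_left)
  rw [TT.hyperfocal_inner_eq_bot hS] at hhyp
  exact isPGroup_autGroup_of_hyperfocal_eq_bot F (le_bot_iff.mp hhyp)

end Cfsg.Agent.Lib.Helper26.WEmb
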