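import Cfsg.Agent.Lib.Helper26.WEmbC
import Cfsg.Agent.Lib.Helper26.WEmbD
import Cfsg.Agent.Lib.Helper26.WEmbF

/-!
S5271, part G: the main induction.
-/

set_option autoImplicit false
set_option linter.unusedSectionVars false
set_option linter.style.haveILetI false

namespace Cfsg.Agent.Lib.Helper26.WEmb

open Cfsg Cfsg.FusionSystem Cfsg.Agent.Lib.Helper26

universe u

/-- The hyperfocal subgroup lies in a small nontrivial strongly closed subgroup, by induction through the factor
system. -/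
theorem hyperfocal_le_of_quotient {Ω : Type u} [Group Ω] {S : Subgroup Ω} [Finite S] {p : ℕ} [Fact p.Prime]
    (hS : IsPGroup p S) (F : FusionSystem S) (hF : F.IsSaturated p) {d : ℕ} (hdS : Nat.card S = p * d)
    (ha : HypA F d) (hb : HypB p F d)
    (IH : ∀ m < p * d, ∀ (Ω' : Type u) [Group Ω'] (S' : Subgroup Ω') [Finite S'], IsPGroup p S' →
      ∀ E : FusionSystem S', E.IsSaturated p → Nat.card S' = m → ∀ d' : ℕ, 1 < d' → d' < m → d' ∣ m →
      HypA E d' → HypB p E d' → ∀ U : Subgroup Ω', U ≤ S' → IsPGroup p (E.autGroup U))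
    {X : Subgroup Ω} (hX : F.StronglyClosed X) (hX0 : X ≠ ⊥) (hXd : Nat.card X < d) :
    F.hyperfocalSubgroup p ≤ X := by
  have hp : p.Prime := Fact.out
  haveI : Finite X := finite_of_le hX.1
  -- arithmetic
  obtain ⟨a, hSa⟩ := hS.exists_card_eq
  obtain ⟨c, hXc⟩ := (hS.to_le hX.1).exists_card_eq
  have hd0 : 0 < d := by omega
  obtain ⟨b, -, hdb⟩ : ∃ b ≤ a, d = p ^ b := by
    have : d ∣ p ^ a := by
      rw [← hSa, hdS]
      exact Dvd.intro_left p rfl
    exact (Nat.dvd_prime_pow hp).mp this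
  have hcb : c < b := by
    rw [hXc, hdb] at hXd
    exact (Nat.pow_lt_pow_iff_right hp.one_lt).mp hXd
  have hc0 : c ≠ 0 := by
    rintro rfl
    rw [pow_zero] at hXc
    exact hX0 (Subgroup.card_eq_one.mp hXc)
  set d' : ℕ := p ^ (b - c) with hd'
  have hdd : Nat.card X * d' = d := by
    rw [hXc, hd', hdb, ← pow_add]
    congr 1
    omega
  have hd'1 : 1 < d' := Nat.one_lt_pow (by omega) hp.one_lt
  -- the factor system
  haveI : (X.subgroupOf S).Normal := normal_subgroupOf_of_stronglyClosed F hX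
  set θ : ↥S →* ↥S ⧸ X.subgroupOf S := QuotientGroup.mk' (X.subgroupOf S) with hθ
  have hker : ∀ s : ↥S, θ s = 1 ↔ (s : Ω) ∈ X := quot_ker X
  have hrange : θ.range = ⊤ := quot_range X
  set E := factorSystem F hX θ hker hrange with hE
  have hfac : F.IsFactorSystem X θ E := factorSystem_isFactorSystem F hX θ hker hrange
  have hsurj : F.IsSurjectiveMorphism E θ := factorSystem_isSurjectiveMorphism hS F hF X hX θ E hfac
  have hEsat : E.IsSaturated p := surj_saturated p hS F hF E θ hsurj
  have hS' : IsPGroup p ↥(⊤ : Subgroup (↥S ⧸ X.subgroupOf S)) :=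
    (hS.to_quotient (X.subgroupOf S)).to_subgroup ⊤
  have hcardS' : Nat.card X * Nat.card ↥(⊤ : Subgroup (↥S ⧸ X.subgroupOf S)) = p * d := by
    rw [Subgroup.card_top, ← hdS, Subgroup.card_eq_card_quotient_mul_card_subgroup (X.subgroupOf S),
      Nat.card_congr (Subgroup.subgroupOfEquivOfLe hX.1).toEquiv, mul_comm]
  have hm : Nat.card ↥(⊤ : Subgroup (↥S ⧸ X.subgroupOf S)) = p * d' := by
    have hX0' : 0 < Nat.card X := Nat.card_pos
    apply Nat.eq_of_mul_eq_mul_left hX0'
    rw [hcardS', ← hdd]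
    ring
  have hmlt : Nat.card ↥(⊤ : Subgroup (↥S ⧸ X.subgroupOf S)) < p * d := by
    rw [hm]
    apply Nat.mul_lt_mul_of_pos_left _ hp.pos
    rw [← hdd]
    have h1 : 1 < Nat.card X := by
      rw [hXc]
      exact Nat.one_lt_pow hc0 hp.one_lt
    have hd'0 : 0 < d' := by omega
    calc d' = 1 * d' := (one_mul _).symm
      _ < Nat.card X * d' := Nat.mul_lt_mul_of_pos_right h1 hd'0
  have hEp := IH _ hmlt (↥S ⧸ X.subgroupOf S) ⊤ hS' E hEsat rfl d' hd'1
    (by
      rw [hm]
      have hd'0 : 0 < d' := by omega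
      calc d' = 1 * d' := (one_mul _).symm
        _ < p * d' := Nat.mul_lt_mul_of_pos_right hp.one_lt hd'0)
    (by rw [hm]; exact Dvd.intro_left p rfl)
    (hypA_of_factor F E θ hsurj hX.1 hker hdd ha) (hypB_of_factor F E θ hsurj hX.1 hker hdd hb)
  exact hyperfocal_le_of_factor hS F hF hX θ E hfac hEp

/-- The main induction. -/
theorem isPGroup_autGroup_of_hyp {p : ℕ} [Fact p.Prime] : ∀ n : ℕ, ∀ (Ω : Type u) [Group Ω] (S : Subgroup Ω)
    [Finite S], IsPGroup p S → ∀ F : FusionSystem S, F.IsSaturated p → Nat.card S = n → ∀ d : ℕ, 1 < d → d < n →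
    d ∣ n → HypA F d → HypB p F d → ∀ U : Subgroup Ω, U ≤ S → IsPGroup p (F.autGroup U) := by
  have hp : p.Prime := Fact.out
  intro n
  induction n using Nat.strong_induction_on with
  | _ n IH =>
    intro Ω _ S _ hS F hF hn d hd1 hdn hdvd ha hb
    -- `p d ∣ n`
    obtain ⟨a, hSa⟩ := hS.exists_card_eq
    obtain ⟨b, hba, hdb⟩ : ∃ b ≤ a, d = p ^ b := by
      rw [← hn, hSa] at hdvd
      exact (Nat.dvd_prime_pow hp).mp hdvd
    have hba' : b < a := by
      rw [← hn, hSa, hdb] at hdn
      exact (Nat.pow_lt_pow_iff_right hp.one_lt).mp hdn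
    have hpd : p * d ∣ Nat.card S := by
      rw [hSa, hdb, ← pow_succ']
      exact pow_dvd_pow p hba'
    have hd0 : 0 < d := by omega
    have hdpd : d < p * d := by
      calc d = 1 * d := (one_mul _).symm
        _ < p * d := Nat.mul_lt_mul_of_pos_right hp.one_lt hd0
    by_cases hlt : p * d < n
    · apply step3 hS F hF hpd ha hb
      intro M E hMS hEsat hMc haE hbE
      haveI : Finite M := finite_of_le hMS
      exact IH (p * d) hlt Ω M (hS.to_le hMS) E hEsat hMc d hd1 hdpd (Dvd.intro_left p rfl) haE hbE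
    · have hdS : Nat.card S = p * d := by
        have := Nat.le_of_dvd Nat.card_pos hpd
        omega
      apply step4 hS F hF hd1 hdS ha hb
      intro X hX hX0 hXd
      refine hyperfocal_le_of_quotient hS F hF hdS ha hb ?_ hX hX0 hXd
      intro m hm
      exact IH m (by omega)

end Cfsg.Agent.Lib.Helper26.WEmb
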