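import Cfsg.Agent.Lib.Helper26.WEmbA
import Cfsg.Agent.Lib.Helper26.FSSatEquiv
import Cfsg.Agent.Lib.Helper26.FSNormalizer
import Cfsg.Agent.Lib.Helper26.FSIso

/-!
S5271, part H: inner normalizer systems give hypothesis (B).
-/

set_option autoImplicit false
set_option linter.unusedSectionVars false
set_option linter.style.haveILetI false

namespace Cfsg.Agent.Lib.Helper26.WEmb

open Cfsg Cfsg.FusionSystem Cfsg.Agent.Lib.Helper26

variable {Ω : Type*} [Group Ω] {S : Subgroup Ω}

/-- If the normalizer system of `H` is inner, automorphisms of overgroups `R ≤ N_S(H)` of `H` that leave `H`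
invariant are `p`-elements. -/
theorem exists_pow_eq_one_of_normalizer_inner [Finite S] {p : ℕ} (hS : IsPGroup p S) (F : FusionSystem S)
    {H R : Subgroup Ω} (hHR : H ≤ R) (hRN : R ≤ normalizerIn S H)
    (N : FusionSystem (normalizerIn S H)) (hN : F.IsNormalizerSystem H N)
    (hin : N.Hom R = (innerFusionSystem (normalizerIn S H)).Hom R)
    {β : MulAut R} (hβ : β ∈ F.autGroup R) (hβH : ∀ x : R, (x : Ω) ∈ H → ((β x : R) : Ω) ∈ H) :
    ∃ k : ℕ, β ^ (p ^ k) = 1 := by
  have hRS : R ≤ S := hRN.trans (normalizerIn_le S H)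
  haveI : Finite R := finite_of_le hRS
  haveI : Finite H := finite_of_le (hHR.trans hRS)
  have hβF := (mem_autGroup_iff F hRS β).mp hβ
  have hle : R ⊔ H ≤ R := sup_le le_rfl hHR
  -- `β` is onto `H`
  set f : H → H := fun x => ⟨((β ⟨x, hHR x.2⟩ : R) : Ω), hβH _ x.2⟩ with hf
  have hfinj : Function.Injective f := by
    intro x y hxy
    have h1 : ((β ⟨x, hHR x.2⟩ : R) : Ω) = ((β ⟨y, hHR y.2⟩ : R) : Ω) :=
      congrArg (fun t : H => (t : Ω)) hxy
    have h2 := β.injective (Subtype.ext h1)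
    exact Subtype.ext (congrArg (fun t : R => (t : Ω)) h2)
  have hfsurj : Function.Surjective f := Finite.surjective_of_injective hfinj
  have hmem : R.subtype.comp β.toMonoidHom ∈ F.normalizerHom H R := by
    refine ⟨hβF, hRN, fun x => hRN (β x).2, (R.subtype.comp β.toMonoidHom).comp (Subgroup.inclusion hle),
      inclusion_comp_mem F hle hβF, fun x => ?_, ?_⟩
    · rfl
    · rw [map_subgroupOf_eq_iff]
      refine ⟨fun y hy => hβH _ hy, fun z hz => ?_⟩
      obtain ⟨x, hx⟩ := hfsurj ⟨z, hz⟩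
      refine ⟨⟨x, le_sup_right (a := R) x.2⟩, x.2, ?_⟩
      exact congrArg Subtype.val hx
  rw [← hN R, hin] at hmem
  obtain ⟨-, g, hg, hgβ⟩ := hmem
  have hgS : g ∈ S := normalizerIn_le S H hg
  have hind : β ∈ autInducedBy S R := (mem_autInducedBy_iff S R β).mpr ⟨g, hgS, fun x => hgβ x⟩
  obtain ⟨k, hk⟩ := autInducedBy_isPGroup hS R ⟨β, hind⟩
  exact ⟨k, congrArg Subtype.val hk⟩

/-- Inner normalizer systems of the fully normalized subgroups of order `d` give hypothesis (B). -/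
theorem hypB_of_normalizers [Finite S] {p : ℕ} [Fact p.Prime] (hS : IsPGroup p S) (F : FusionSystem S)
    (hF : F.IsSaturated p) {d : ℕ}
    (h : ∀ H : Subgroup Ω, F.IsFullyNormalized H → Nat.card H = d → ∀ N : FusionSystem (normalizerIn S H),
      F.IsNormalizerSystem H N → ∀ P : Subgroup Ω, N.Hom P = (innerFusionSystem (normalizerIn S H)).Hom P) :
    HypB p F d := by
  intro H R hHd hHR hRN β hβ hβH
  have hRS : R ≤ S := hRN.trans (normalizerIn_le S H)
  have hHS : H ≤ S := hHR.trans hRS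
  obtain ⟨H', hconj, hfn⟩ := exists_fullyNormalized_conj F hHS
  have hA := (saturated_fn hS F hF hfn).2
  have hRc := saturated_fn_receptive hS F hF hfn
  obtain ⟨φ, hφ, hval, hmap⟩ := exists_normalizer_hom hS F hA hRc hconj
  rw [map_subgroupOf_eq_iff'] at hmap
  obtain ⟨hmap1, hmap2⟩ := hmap
  have hφinj := F.injective_of_mem hφ
  set ψ : R →* Ω := φ.comp (Subgroup.inclusion hRN) with hψdef
  have hψ : ψ ∈ F.Hom R := inclusion_comp_mem F hRN hφ
  have he := homEquiv_isFIso F hψ rfl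
  set e : R ≃* ψ.range := homEquiv F hψ rfl with hedef
  have hex : ∀ x : R, ((e x : ψ.range) : Ω) = φ (Subgroup.inclusion hRN x) := fun x => rfl
  have hH'R' : H' ≤ ψ.range := by
    intro z hz
    obtain ⟨y, hy, rfl⟩ := hmap2 z hz
    refine ⟨⟨y, hHR hy⟩, ?_⟩
    show φ (Subgroup.inclusion hRN ⟨y, hHR hy⟩) = φ y
    congr 1
  have hR'N : ψ.range ≤ normalizerIn S H' := by
    rintro _ ⟨x, rfl⟩
    exact hval _
  have hcard : Nat.card H' = d := by
    obtain ⟨e₀, -⟩ := (isConj_iff_exists_isFIso F).mp hconj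
    rw [← hHd]
    exact (Nat.card_congr e₀.toEquiv).symm
  have hβ' : MulAut.congr e β ∈ F.autGroup ψ.range := congr_mem_autGroup F he hβ
  have hpres : ∀ x' : ψ.range, (x' : Ω) ∈ H' → ((MulAut.congr e β x' : ψ.range) : Ω) ∈ H' := by
    intro x' hx'
    obtain ⟨y, hy, hyx⟩ := hmap2 _ hx'
    have h1 : Subgroup.inclusion hRN (e.symm x') = y := by
      apply hφinj
      rw [hyx, ← hex, MulEquiv.apply_symm_apply]
    have h2 : ((e.symm x' : R) : Ω) ∈ H := by
      have h4 : ((e.symm x' : R) : Ω) = (y : Ω) := congrArg (fun t : ↥(normalizerIn S H) => (t : Ω)) h1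
      rw [h4]
      exact hy
    have h3 := hβH _ h2
    show ((e (β (e.symm x')) : ψ.range) : Ω) ∈ H'
    rw [hex]
    exact hmap1 _ h3
  have hN := normalizerSystem_isNormalizerSystem F H' hfn.1
  obtain ⟨k, hk⟩ := exists_pow_eq_one_of_normalizer_inner hS F hH'R' hR'N _ hN (h H' hfn hcard _ hN _) hβ' hpres
  refine ⟨k, ?_⟩
  have h1 : MulAut.congr e (β ^ (p ^ k)) = 1 := by rw [map_pow]; exact hk
  have h2 : MulAut.congr e (β ^ (p ^ k)) = MulAut.congr e 1 := by rw [h1, map_one]
  exact (MulAut.congr e).injective h2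

end Cfsg.Agent.Lib.Helper26.WEmb
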