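import Cfsg.Agent.Lib.Helper26.WEmbG
import Cfsg.Agent.Lib.Helper26.WEmbH

/-!
S5271, part I: the inner system satisfies the criterion; the theorem.
-/

set_option autoImplicit false
set_option linter.unusedSectionVars false
set_option linter.style.haveILetI false

namespace Cfsg.Agent.Lib.Helper26.WEmb

open Cfsg Cfsg.FusionSystem Cfsg.Agent.Lib.Helper26

universe u

variable {Ω : Type u} [Group Ω] {S : Subgroup Ω}

/-- The normalizer systems of an inner system are inner. -/
theorem normalizer_inner_of_inner (F : FusionSystem S)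
    (hinner : ∀ P : Subgroup Ω, F.Hom P = (innerFusionSystem S).Hom P) (H : Subgroup Ω)
    (N : FusionSystem (normalizerIn S H)) (hN : F.IsNormalizerSystem H N) (P : Subgroup Ω) :
    N.Hom P = (innerFusionSystem (normalizerIn S H)).Hom P := by
  apply Set.Subset.antisymm _ (inner_hom_subset N P)
  intro φ hφ
  rw [hN P] at hφ
  obtain ⟨-, hPN, -, ψ, hψ, hψφ, hψH⟩ := hφ
  rw [hinner (P ⊔ H)] at hψ
  obtain ⟨-, g, hg, hgψ⟩ := hψ
  rw [map_subgroupOf_eq_iff] at hψH
  obtain ⟨h1, h2⟩ := hψH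
  have hgN : g ∈ Subgroup.normalizer (H : Set Ω) := by
    rw [Subgroup.mem_normalizer_iff]
    intro y
    constructor
    · intro hy
      have := h1 ⟨y, le_sup_right (a := P) hy⟩ hy
      rwa [hgψ] at this
    · intro hy
      obtain ⟨z, hz, hzy⟩ := h2 _ hy
      rw [hgψ] at hzy
      have : (z : Ω) = y := mul_left_cancel (mul_right_cancel hzy)
      rw [← this]
      exact hz
  refine ⟨hPN, g, ⟨hg, hgN⟩, fun x => ?_⟩
  rw [← hψφ x, hgψ]
  rfl

/-- Subgroups of index `p` of a `p`-group `S` are normalized by `S`. -/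
theorem le_normalizer_of_card_mul [Finite S] {p : ℕ} [Fact p.Prime] (hS : IsPGroup p S) {Q : Subgroup Ω}
    (hQS : Q ≤ S) (hQ : Nat.card Q * p = Nat.card S) : S ≤ Subgroup.normalizer (Q : Set Ω) := by
  have hp : p.Prime := Fact.out
  haveI : Finite Q := finite_of_le hQS
  have hidx : (Q.subgroupOf S).index = p := by
    have h1 := (Q.subgroupOf S).card_mul_index
    rw [Nat.card_congr (Subgroup.subgroupOfEquivOfLe hQS).toEquiv, ← hQ] at h1
    exact Nat.eq_of_mul_eq_mul_left Nat.card_pos h1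
  have hn : (Q.subgroupOf S).Normal := by
    apply Subgroup.normal_of_index_eq_minFac_card
    rw [hidx]
    obtain ⟨a, ha⟩ := hS.exists_card_eq
    have ha0 : a ≠ 0 := by
      rintro rfl
      rw [pow_zero] at ha
      have : Nat.card Q * p = 1 := hQ.trans ha
      have := Nat.eq_one_of_mul_eq_one_left this
      exact hp.one_lt.ne' this
    rw [ha, Nat.Prime.pow_minFac hp ha0]
  intro g hg
  rw [Subgroup.mem_normalizer_iff]
  intro y
  constructor
  · intro hy
    have := hn.conj_mem ⟨y, hQS hy⟩ (Subgroup.mem_subgroupOf.mpr hy) ⟨g, hg⟩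
    exact Subgroup.mem_subgroupOf.mp this
  · intro hy
    have hyS : g * y * g⁻¹ ∈ S := hQS hy
    have := hn.conj_mem ⟨g * y * g⁻¹, hyS⟩ (Subgroup.mem_subgroupOf.mpr hy) ⟨g, hg⟩⁻¹
    have h2 := Subgroup.mem_subgroupOf.mp this
    have h3 : ((⟨g, hg⟩⁻¹ * ⟨g * y * g⁻¹, hyS⟩ * (⟨g, hg⟩ : S)⁻¹⁻¹ : S) : Ω) = y := by
      show g⁻¹ * (g * y * g⁻¹) * g⁻¹⁻¹ = y
      group
    rwa [h3] at h2

/-- In an inner system the subgroups normalized by `S` are strongly closed. -/
theorem stronglyClosed_of_inner (F : FusionSystem S)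
    (hinner : ∀ P : Subgroup Ω, F.Hom P = (innerFusionSystem S).Hom P) {Q : Subgroup Ω} (hQS : Q ≤ S)
    (hQN : S ≤ Subgroup.normalizer (Q : Set Ω)) : F.StronglyClosed Q := by
  refine ⟨hQS, fun R hR φ hφ x => ?_⟩
  rw [hinner R] at hφ
  obtain ⟨-, g, hg, hgφ⟩ := hφ
  rw [hgφ]
  exact (Subgroup.mem_normalizer_iff.mp (hQN hg) _).mp (hR x.2)

/-- **S5271.** -/
theorem inner_iff_weakly_embedded [Finite S] (p : ℕ) [Fact p.Prime] (hS : IsPGroup p S) (F : FusionSystem S)
    (hF : F.IsSaturated p) (hcard : p ^ 2 ≤ Nat.card S) :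
    (∀ P : Subgroup Ω, F.Hom P = (innerFusionSystem S).Hom P) ↔
      ∃ D : Subgroup Ω, ⊥ < D ∧ D < S ∧
        (∀ Q : Subgroup Ω, Q ≤ S → Nat.card Q = Nat.card D →
          ∃ P : Subgroup Ω, F.StronglyClosed P ∧ F.StronglyClosed (Q ⊔ P) ∧ F.StronglyClosed (Q ⊓ P)) ∧
        (∀ H : Subgroup Ω, F.IsFullyNormalized H → Nat.card H = Nat.card D →
          ∀ N : FusionSystem (normalizerIn S H), F.IsNormalizerSystem H N →
            ∀ P : Subgroup Ω, N.Hom P = (innerFusionSystem (normalizerIn S H)).Hom P) := by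
  have hp : p.Prime := Fact.out
  constructor
  · intro hinner
    obtain ⟨a, ha⟩ := hS.exists_card_eq
    have ha2 : 2 ≤ a := by
      rw [ha] at hcard
      exact (Nat.pow_le_pow_iff_right hp.one_lt).mp hcard
    obtain ⟨D, -, hDS, hDc⟩ := exists_between hS (bot_le : (⊥ : Subgroup Ω) ≤ S) le_rfl (b := a - 1)
      (by rw [Subgroup.card_bot]; exact Nat.one_le_pow _ _ hp.pos)
      (by rw [ha]; exact Nat.pow_le_pow_right hp.pos (by omega))
    haveI : Finite D := finite_of_le hDS
    have hmul : p ^ (a - 1) * p = Nat.card S := by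
      rw [ha, ← pow_succ]
      congr 1
      omega
    have hD1 : 1 < Nat.card D := by
      rw [hDc]
      exact Nat.one_lt_pow (by omega) hp.one_lt
    refine ⟨D, ?_, ?_, ?_, ?_⟩
    · exact bot_lt_iff_ne_bot.mpr ((Subgroup.one_lt_card_iff_ne_bot D).mp hD1)
    · refine lt_of_le_of_ne hDS ?_
      rintro rfl
      rw [hDc] at hmul
      have h1 : p ^ (a - 1) * p = p ^ (a - 1) * 1 := by rw [mul_one]; exact hmul
      have := Nat.eq_of_mul_eq_mul_left (by rw [← hDc]; omega) h1
      exact hp.one_lt.ne' this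
    · intro Q hQS hQc
      have hQN : S ≤ Subgroup.normalizer (Q : Set Ω) :=
        le_normalizer_of_card_mul hS hQS (by rw [hQc, hDc]; exact hmul)
      have hsc := stronglyClosed_of_inner F hinner hQS hQN
      refine ⟨Q, hsc, ?_, ?_⟩
      · rw [sup_idem]; exact hsc
      · rw [inf_idem]; exact hsc
    · intro H _ _ N hN P
      exact normalizer_inner_of_inner F hinner H N hN P
  · rintro ⟨D, hD0, hDS, hA, hB⟩
    haveI : Finite D := finite_of_le hDS.le
    have hd1 : 1 < Nat.card D := (Subgroup.one_lt_card_iff_ne_bot D).mpr (bot_lt_iff_ne_bot.mp hD0)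
    have hdn : Nat.card D < Nat.card S := card_lt_of_lt hDS
    have hdvd : Nat.card D ∣ Nat.card S := Subgroup.card_dvd_of_le hDS.le
    have ha : HypA F (Nat.card D) := fun Q hQS hQd => hA Q hQS hQd
    have hb : HypB p F (Nat.card D) := hypB_of_normalizers hS F hF hB
    have hall := isPGroup_autGroup_of_hyp (p := p) (Nat.card S) Ω S hS F hF rfl (Nat.card D) hd1 hdn hdvd ha hb
    have := eq_inner_of_forall_isPGroup hS F hF hall
    intro P
    rw [this]

end Cfsg.Agent.Lib.Helper26.WEmb
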