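/-
Helper26 library (S3366): the explicit matrices `gMat u s M` (stabilizer of a vector in `Sp₄`).
-/
import Mathlib

set_option autoImplicit false
set_option linter.unusedSimpArgs false
set_option linter.unusedVariables false

namespace Cfsg.Agent.Lib.Helper26.X648

open Matrix

variable {F : Type*} [CommRing F]

/-- the symplectic form on pairs. -/
def om (u v : Fin 2 → F) : F := u 0 * v 1 - u 1 * v 0

/-- The matrix `g(u,s,M)`. -/
def gMat (u : Fin 2 → F) (s : F) (M : Matrix (Fin 2) (Fin 2) F) :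
    Matrix (Fin 2 ⊕ Fin 2) (Fin 2 ⊕ Fin 2) F :=
  fromBlocks !![1, M 1 0 * u 0 - M 0 0 * u 1; 0, M 0 0]
    !![s, u 0 * M 1 1 - M 0 1 * u 1; u 0, M 0 1]
    !![0, 0; 0, M 1 0]
    !![1, 0; u 1, M 1 1]

theorem gMat_mem (u : Fin 2 → F) (s : F) (M : Matrix (Fin 2) (Fin 2) F) (hM : M.det = 1) :
    gMat u s M ∈ symplecticGroup (Fin 2) F := by
  rw [gMat, SymplecticGroup.fromBlocks_mem_iff]
  rw [Matrix.det_fin_two] at hM
  refine ⟨?_, ?_, ?_⟩
  · ext i j
    fin_cases i <;> fin_cases j <;> simp [Matrix.mul_apply, Fin.sum_univ_two] <;> ring1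
  · ext i j
    fin_cases i <;> fin_cases j <;> simp [Matrix.mul_apply, Fin.sum_univ_two] <;> ring1
  · ext i j
    fin_cases i <;> fin_cases j <;> simp [Matrix.mul_apply, Fin.sum_univ_two, Matrix.one_apply] <;>
      first | ring1 | linear_combination hM

theorem gMat_mul (u v : Fin 2 → F) (s t : F) (M N : Matrix (Fin 2) (Fin 2) F) (hM : M.det = 1) :
    gMat u s M * gMat v t N = gMat (u + M *ᵥ v) (s + t + om u (M *ᵥ v)) (M * N) := by
  rw [Matrix.det_fin_two] at hM
  simp only [gMat, fromBlocks_multiply, om]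
  congr 1
  · ext i j
    fin_cases i <;> fin_cases j <;>
      simp [Matrix.mul_apply, Fin.sum_univ_two, Matrix.mulVec, dotProduct] <;>
      first | ring1 | linear_combination (-(N 1 0 * v 0 - N 0 0 * v 1)) * hM
  · ext i j
    fin_cases i <;> fin_cases j <;>
      simp [Matrix.mul_apply, Fin.sum_univ_two, Matrix.mulVec, dotProduct] <;>
      first | ring1 | linear_combination (-(N 1 1 * v 0 - N 0 1 * v 1)) * hM
  · ext i j
    fin_cases i <;> fin_cases j <;>
      simp [Matrix.mul_apply, Fin.sum_univ_two, Matrix.mulVec, dotProduct]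
  · ext i j
    fin_cases i <;> fin_cases j <;>
      simp [Matrix.mul_apply, Fin.sum_univ_two, Matrix.mulVec, dotProduct] <;>
      first | ring1

theorem gMat_one : gMat (0 : Fin 2 → F) 0 1 = 1 := by
  rw [gMat, ← fromBlocks_one]
  congr 1 <;>
  · ext i j
    fin_cases i <;> fin_cases j <;> simp

theorem gMat_apply_inl0_inl0 (u : Fin 2 → F) (s : F) (M : Matrix (Fin 2) (Fin 2) F) :
    gMat u s M (Sum.inl 0) (Sum.inl 0) = 1 := by
  simp [gMat]

theorem gMat_apply_inl0_inr0 (u : Fin 2 → F) (s : F) (M : Matrix (Fin 2) (Fin 2) F) :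
    gMat u s M (Sum.inl 0) (Sum.inr 0) = s := by
  simp [gMat]

theorem gMat_inj {u v : Fin 2 → F} {s t : F} {M N : Matrix (Fin 2) (Fin 2) F}
    (h : gMat u s M = gMat v t N) : u = v ∧ s = t ∧ M = N := by
  have e := fun i j => congrFun (congrFun h i) j
  have h1 := e (Sum.inl 1) (Sum.inr 0)
  have h2 := e (Sum.inr 1) (Sum.inr 0)
  have h3 := e (Sum.inl 0) (Sum.inr 0)
  have h4 := e (Sum.inl 1) (Sum.inl 1)
  have h5 := e (Sum.inl 1) (Sum.inr 1)
  have h6 := e (Sum.inr 1) (Sum.inl 1)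
  have h7 := e (Sum.inr 1) (Sum.inr 1)
  simp [gMat] at h1 h2 h3 h4 h5 h6 h7
  refine ⟨?_, h3, ?_⟩
  · funext i
    fin_cases i
    · exact h1
    · exact h2
  · ext i j
    fin_cases i <;> fin_cases j
    · exact h4
    · exact h5
    · exact h6
    · exact h7

/-- commuting with the central element. -/
theorem gMat_comm_central (u : Fin 2 → F) (s t : F) (M : Matrix (Fin 2) (Fin 2) F)
    (hM : M.det = 1) :
    gMat u s M * gMat 0 t 1 = gMat 0 t 1 * gMat u s M := by
  rw [gMat_mul _ _ _ _ _ _ hM, gMat_mul _ _ _ _ _ _ (by simp)]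
  congr 1
  · simp
  · simp [om]
    ring
  · simp

/-- A symplectic matrix whose first column is the first basis vector is a `gMat`. -/
theorem eq_gMat_of_col {A : Matrix (Fin 2 ⊕ Fin 2) (Fin 2 ⊕ Fin 2) F}
    (hA : A ∈ symplecticGroup (Fin 2) F)
    (h00 : A (Sum.inl 0) (Sum.inl 0) = 1) (h10 : A (Sum.inl 1) (Sum.inl 0) = 0)
    (h20 : A (Sum.inr 0) (Sum.inl 0) = 0) (h30 : A (Sum.inr 1) (Sum.inl 0) = 0) :
    A = gMat ![A (Sum.inl 1) (Sum.inr 0), A (Sum.inr 1) (Sum.inr 0)] (A (Sum.inl 0) (Sum.inr 0))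
        !![A (Sum.inl 1) (Sum.inl 1), A (Sum.inl 1) (Sum.inr 1);
           A (Sum.inr 1) (Sum.inl 1), A (Sum.inr 1) (Sum.inr 1)] ∧
      (!![A (Sum.inl 1) (Sum.inl 1), A (Sum.inl 1) (Sum.inr 1);
           A (Sum.inr 1) (Sum.inl 1), A (Sum.inr 1) (Sum.inr 1)] : Matrix (Fin 2) (Fin 2) F).det = 1 := by
  rw [← Matrix.fromBlocks_toBlocks A, SymplecticGroup.fromBlocks_mem_iff] at hA
  obtain ⟨E1, E2, E3⟩ := hA
  have e1 := congrFun (congrFun E1 0) 1
  have e2 := congrFun (congrFun E2 0) 1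
  have e300 := congrFun (congrFun E3 0) 0
  have e301 := congrFun (congrFun E3 0) 1
  have e310 := congrFun (congrFun E3 1) 0
  have e311 := congrFun (congrFun E3 1) 1
  simp [Matrix.mul_apply, Fin.sum_univ_two, toBlocks₁₁, toBlocks₁₂, toBlocks₂₁, toBlocks₂₂,
    h00, h10, h20, h30] at e1 e2 e300 e301 e310 e311
  refine ⟨?_, ?_⟩
  · ext i j
    rcases i with i | i <;> rcases j with j | j <;> fin_cases i <;> fin_cases j <;>
      simp [gMat, h00, h10, h20, h30]
    · -- a01
      rw [e300, e1] at e310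
      linear_combination e310
    · -- a03
      rw [e300, e301] at e2
      linear_combination (-1 : F) * e2
    · exact e1
    · exact e300
    · exact e301
  · rw [Matrix.det_fin_two]
    simp only [Matrix.of_apply, Matrix.cons_val', Matrix.cons_val_zero, Matrix.cons_val_one,
      Matrix.empty_val', Matrix.cons_val_fin_one]
    rw [e301, e1] at e311
    linear_combination e311

end Cfsg.Agent.Lib.Helper26.X648
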