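/-
Helper26 library (S3366): the centralizer of the central transvection in `PSp₄(F)`, `|F| = 3`.
-/
import Mathlib
import Cfsg.Prelude.Def_Classical
import Cfsg.Agent.Lib.Helper26.X648A
import Cfsg.Agent.S0246
import Cfsg.Agent.Lib.Helper14.SympCount
import Cfsg.Agent.Lib.Helper13.SL2

set_option autoImplicit false
set_option linter.unusedSimpArgs false
set_option linter.unusedVariables false
set_option linter.unusedSectionVars false

namespace Cfsg.Agent.Lib.Helper26.X648

open Matrix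

variable {F : Type*} [Field F]

/-- the symplectic group of degree four. -/
abbrev Sp4 (F : Type*) [Field F] : Type _ := Matrix.symplecticGroup (Fin 2) F

/-- the element `g(u,s,M)` of the symplectic group. -/
def gSp (u : Fin 2 → F) (s : F) (M : SpecialLinearGroup (Fin 2) F) : Sp4 F :=
  ⟨gMat u s (M : Matrix (Fin 2) (Fin 2) F), gMat_mem u s (M : Matrix (Fin 2) (Fin 2) F) M.2⟩

theorem gSp_val (u : Fin 2 → F) (s : F) (M : SpecialLinearGroup (Fin 2) F) :
    (gSp u s M : Sp4 F).1 = gMat u s (M : Matrix (Fin 2) (Fin 2) F) := rfl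

theorem gSp_mul (u v : Fin 2 → F) (s t : F) (M N : SpecialLinearGroup (Fin 2) F) :
    gSp u s M * gSp v t N = gSp (u + (M : Matrix (Fin 2) (Fin 2) F) *ᵥ v) (s + t + om u ((M : Matrix (Fin 2) (Fin 2) F) *ᵥ v)) (M * N) := by
  apply Subtype.ext
  show gMat u s (M : Matrix (Fin 2) (Fin 2) F) * gMat v t (N : Matrix (Fin 2) (Fin 2) F) = _
  rw [gMat_mul _ _ _ _ _ _ M.2]
  rfl

theorem gSp_one : gSp (0 : Fin 2 → F) 0 1 = 1 := by
  apply Subtype.ext
  show gMat 0 0 ((1 : SpecialLinearGroup (Fin 2) F) : Matrix (Fin 2) (Fin 2) F) = 1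
  simp only [Matrix.SpecialLinearGroup.coe_one, gMat_one]

theorem gSp_inj {u v : Fin 2 → F} {s t : F} {M N : SpecialLinearGroup (Fin 2) F}
    (h : gSp u s M = gSp v t N) : u = v ∧ s = t ∧ M = N := by
  have h' : gMat u s (M : Matrix (Fin 2) (Fin 2) F) = gMat v t (N : Matrix (Fin 2) (Fin 2) F) := congrArg Subtype.val h
  obtain ⟨h1, h2, h3⟩ := gMat_inj h'
  exact ⟨h1, h2, Subtype.ext h3⟩

/-- the central transvection. -/
def tSp (F : Type*) [Field F] : Sp4 F := gSp 0 1 1

theorem gSp_comm_tSp (u : Fin 2 → F) (s : F) (M : SpecialLinearGroup (Fin 2) F) :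
    gSp u s M * tSp F = tSp F * gSp u s M := by
  apply Subtype.ext
  show gMat u s (M : Matrix (Fin 2) (Fin 2) F) * gMat 0 1 ((1 : SpecialLinearGroup (Fin 2) F) : Matrix (Fin 2) (Fin 2) F) =
    gMat 0 1 ((1 : SpecialLinearGroup (Fin 2) F) : Matrix (Fin 2) (Fin 2) F) * gMat u s (M : Matrix (Fin 2) (Fin 2) F)
  simp only [Matrix.SpecialLinearGroup.coe_one]
  exact gMat_comm_central u s 1 (M : Matrix (Fin 2) (Fin 2) F) M.2

theorem tSp_pow_three (h3 : (3 : F) = 0) : tSp F ^ 3 = 1 := by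
  have h : tSp F ^ 3 = tSp F * tSp F * tSp F := by
    rw [pow_succ, pow_two]
  rw [h, tSp, gSp_mul, gSp_mul, ← gSp_one]
  congr 1
  · simp
  · simp [om]
    linear_combination h3
  · simp

/-- an element whose matrix is `-1` is central. -/
theorem central_of_val_neg_one (w : Sp4 F) (h : w.1 = -1) :
    w ∈ Subgroup.center (Sp4 F) := by
  rw [Subgroup.mem_center_iff]
  intro t
  apply Subtype.ext
  show t.1 * w.1 = w.1 * t.1
  rw [h]
  simp

/-- elements whose matrices differ by a sign have the same image in `PSp`. -/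
theorem mk_eq_of_neg {g h : Sp4 F} (hgh : g.1 = -h.1) :
    (QuotientGroup.mk g : Cfsg.PSp 2 F) = QuotientGroup.mk h := by
  rw [QuotientGroup.eq]
  apply central_of_val_neg_one
  show (g⁻¹ : Sp4 F).1 * h.1 = -1
  have h1 : h.1 = -g.1 := by rw [hgh, neg_neg]
  rw [h1, Matrix.mul_neg]
  have h2 : (g⁻¹ : Sp4 F).1 * g.1 = 1 := by
    have := congrArg Subtype.val (inv_mul_cancel g)
    exact this
  rw [h2]

/-- the matrix of the central transvection. -/
theorem tSp_val_apply (i j : Fin 2 ⊕ Fin 2) :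
    (tSp F : Sp4 F).1 i j =
      if i = j then 1 else if i = Sum.inl 0 ∧ j = Sum.inr 0 then 1 else 0 := by
  show gMat 0 1 ((1 : SpecialLinearGroup (Fin 2) F) : Matrix (Fin 2) (Fin 2) F) i j = _
  simp only [Matrix.SpecialLinearGroup.coe_one]
  rcases i with i | i <;> rcases j with j | j <;> fin_cases i <;> fin_cases j <;> simp [gMat]

/-- A symplectic matrix commuting with the central transvection is `± gMat`. -/
theorem exists_gSp_of_comm (g : Sp4 F) (hg : g * tSp F = tSp F * g) :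
    ∃ u s M, g.1 = gMat u s ((M : SpecialLinearGroup (Fin 2) F) : Matrix (Fin 2) (Fin 2) F) ∨
      g.1 = -gMat u s ((M : SpecialLinearGroup (Fin 2) F) : Matrix (Fin 2) (Fin 2) F) := by
  set A : Matrix (Fin 2 ⊕ Fin 2) (Fin 2 ⊕ Fin 2) F := g.1 with hA
  have hmat : A * (tSp F : Sp4 F).1 = (tSp F : Sp4 F).1 * A :=
    congrArg Subtype.val hg
  have e := fun i j => congrFun (congrFun hmat i) j
  have sumL : ∀ (i j : Fin 2 ⊕ Fin 2), (A * (tSp F : Sp4 F).1) i j =
      A i j + if j = Sum.inr 0 then A i (Sum.inl 0) else 0 := by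
    intro i j
    rw [Matrix.mul_apply, Fintype.sum_sum_type, Fin.sum_univ_two, Fin.sum_univ_two]
    simp only [tSp_val_apply]
    rcases j with j | j <;> fin_cases j <;> simp <;> ring
  have sumR : ∀ (i j : Fin 2 ⊕ Fin 2), ((tSp F : Sp4 F).1 * A) i j =
      A i j + if i = Sum.inl 0 then A (Sum.inr 0) j else 0 := by
    intro i j
    rw [Matrix.mul_apply, Fintype.sum_sum_type, Fin.sum_univ_two, Fin.sum_univ_two]
    simp only [tSp_val_apply]
    rcases i with i | i <;> fin_cases i <;> simp <;> ring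
  have h10 : A (Sum.inl 1) (Sum.inl 0) = 0 := by
    have := e (Sum.inl 1) (Sum.inr 0)
    rw [sumL, sumR] at this
    simpa using this
  have h20 : A (Sum.inr 0) (Sum.inl 0) = 0 := by
    have := e (Sum.inr 0) (Sum.inr 0)
    rw [sumL, sumR] at this
    simpa using this
  have h30 : A (Sum.inr 1) (Sum.inl 0) = 0 := by
    have := e (Sum.inr 1) (Sum.inr 0)
    rw [sumL, sumR] at this
    simpa using this
  have h22 : A (Sum.inl 0) (Sum.inl 0) = A (Sum.inr 0) (Sum.inr 0) := by
    have := e (Sum.inl 0) (Sum.inr 0)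
    rw [sumL, sumR] at this
    simpa using this
  have hAmem : A ∈ symplecticGroup (Fin 2) F := g.2
  have hsq : A (Sum.inl 0) (Sum.inl 0) * A (Sum.inl 0) (Sum.inl 0) = 1 := by
    have hA' := hAmem
    rw [← Matrix.fromBlocks_toBlocks A, SymplecticGroup.fromBlocks_mem_iff] at hA'
    obtain ⟨-, -, E3⟩ := hA'
    have e300 := congrFun (congrFun E3 0) 0
    simp [Matrix.mul_apply, Fin.sum_univ_two, toBlocks₁₁, toBlocks₁₂, toBlocks₂₁, toBlocks₂₂,
      h10, h20, h30] at e300
    rw [← h22] at e300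
    exact e300
  have hcases : A (Sum.inl 0) (Sum.inl 0) = 1 ∨ A (Sum.inl 0) (Sum.inl 0) = -1 := by
    have : (A (Sum.inl 0) (Sum.inl 0) - 1) * (A (Sum.inl 0) (Sum.inl 0) + 1) = 0 := by
      linear_combination hsq
    rcases mul_eq_zero.mp this with h | h
    · left; linear_combination h
    · right; linear_combination h
  rcases hcases with h00 | h00
  · obtain ⟨h1, h2⟩ := eq_gMat_of_col hAmem h00 h10 h20 h30
    exact ⟨_, _, ⟨_, h2⟩, Or.inl h1⟩
  · have hneg : -A ∈ symplecticGroup (Fin 2) F := SymplecticGroup.neg_mem hAmem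
    obtain ⟨h1, h2⟩ := eq_gMat_of_col (A := -A) hneg (by simp [h00]) (by simp [h10])
      (by simp [h20]) (by simp [h30])
    refine ⟨![(-A) (Sum.inl 1) (Sum.inr 0), (-A) (Sum.inr 1) (Sum.inr 0)],
      (-A) (Sum.inl 0) (Sum.inr 0), ⟨_, h2⟩, Or.inr ?_⟩
    show A = -gMat _ _ _
    rw [← h1, neg_neg]

end Cfsg.Agent.Lib.Helper26.X648
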