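/-
Helper26 library (S3366): the centralizer of the central transvection in `PSp₄(F)`, `|F| = 3`:
order and parametrization.
-/
import Mathlib
import Cfsg.Agent.Lib.Helper26.X648B

set_option autoImplicit false
set_option linter.unusedSimpArgs false
set_option linter.unusedVariables false
set_option linter.unusedSectionVars false
set_option linter.style.haveILetI false

namespace Cfsg.Agent.Lib.Helper26.X648

open Matrix

variable {F : Type*} [Field F] [Fintype F]

theorem three_eq_zero (hF : Fintype.card F = 3) : (3 : F) = 0 := by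
  haveI : Fact (Nat.Prime 3) := ⟨Nat.prime_three⟩
  haveI : CharP F 3 := charP_of_card_eq_prime hF
  exact_mod_cast CharP.cast_eq_zero F 3

theorem two_ne_zero' (hF : Fintype.card F = 3) : (2 : F) ≠ 0 := by
  intro h
  have h3 := three_eq_zero hF
  have : (1 : F) = 0 := by linear_combination h3 - h
  exact one_ne_zero this

/-- the 3-central element. -/
def cBar (F : Type*) [Field F] : Cfsg.PSp 2 F := QuotientGroup.mk (tSp F)

theorem cBar_pow_three (hF : Fintype.card F = 3) : cBar F ^ 3 = 1 := by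
  rw [cBar, ← QuotientGroup.mk_pow, tSp_pow_three (three_eq_zero hF)]
  rfl

theorem tSp_not_mem_center : tSp F ∉ Subgroup.center (Sp4 F) := by
  intro h
  have e1 := tSp_val_apply (F := F) (Sum.inl 0) (Sum.inr 0)
  simp at e1
  rcases Cfsg.Agent.S0246.center_scalar 2 (by norm_num) (tSp F) h with h1 | h1
  · rw [h1] at e1
    simp at e1
  · rw [h1] at e1
    simp at e1

theorem cBar_ne_one : cBar F ≠ 1 := by
  intro h
  rw [cBar, QuotientGroup.eq_one_iff] at h
  exact tSp_not_mem_center h

theorem orderOf_cBar (hF : Fintype.card F = 3) : orderOf (cBar F) = 3 :=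
  orderOf_eq_prime (cBar_pow_three hF) cBar_ne_one

theorem mk_gSp_mem_centralizer (u : Fin 2 → F) (s : F) (M : Matrix.SpecialLinearGroup (Fin 2) F) :
    (QuotientGroup.mk (gSp u s M) : Cfsg.PSp 2 F) ∈ Subgroup.centralizer {cBar F} := by
  rw [Subgroup.mem_centralizer_singleton_iff, cBar, ← QuotientGroup.mk_mul, ← QuotientGroup.mk_mul,
    gSp_comm_tSp]

theorem exists_gSp_of_mem_centralizer (hF : Fintype.card F = 3) (x : Cfsg.PSp 2 F)
    (hx : x ∈ Subgroup.centralizer {cBar F}) :
    ∃ u s M, x = QuotientGroup.mk (gSp u s M) := by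
  obtain ⟨g, rfl⟩ := QuotientGroup.mk_surjective x
  rw [Subgroup.mem_centralizer_singleton_iff, cBar, ← QuotientGroup.mk_mul,
    ← QuotientGroup.mk_mul, QuotientGroup.eq] at hx
  -- hx : (g * t)⁻¹ * (t * g) ∈ center  (or the other orientation)
  set w : Sp4 F := (g * tSp F)⁻¹ * (tSp F * g) with hw
  have hwc : ∀ y : Sp4 F, y * w = w * y := fun y => Subgroup.mem_center_iff.mp hx y
  have htg : tSp F * g = g * tSp F * w := by
    rw [hw, mul_inv_cancel_left]
  -- t = g t w g⁻¹ = (g t g⁻¹) w
  have h1 : tSp F = g * tSp F * g⁻¹ * w := by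
    calc tSp F = (tSp F * g) * g⁻¹ := by rw [mul_inv_cancel_right]
      _ = g * tSp F * w * g⁻¹ := by rw [htg]
      _ = g * tSp F * (w * g⁻¹) := by rw [mul_assoc]
      _ = g * tSp F * (g⁻¹ * w) := by rw [hwc g⁻¹]
      _ = g * tSp F * g⁻¹ * w := by simp only [mul_assoc]
  have h3 : w ^ 3 = 1 := by
    have e1 : (tSp F) ^ 3 = (g * tSp F * g⁻¹ * w) ^ 3 := by rw [← h1]
    have hcomm : Commute (g * tSp F * g⁻¹) w := (hwc _)
    rw [hcomm.mul_pow, tSp_pow_three (three_eq_zero hF)] at e1
    have e2 : (g * tSp F * g⁻¹) ^ 3 = 1 := by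
      rw [conj_pow, tSp_pow_three (three_eq_zero hF), mul_one, mul_inv_cancel]
    rw [e2, one_mul] at e1
    exact e1.symm
  have hw1 : w = 1 := by
    rcases Cfsg.Agent.S0246.center_scalar 2 (by norm_num) w hx with h | h
    · exact Subtype.ext h
    · exfalso
      have h4 : (w ^ 3 : Sp4 F).1 = -1 := by
        have : (w ^ 3 : Sp4 F).1 = w.1 * w.1 * w.1 := by
          rw [pow_succ, pow_two]; rfl
        rw [this, h]
        simp
      rw [h3] at h4
      have h5 : (1 : Matrix (Fin 2 ⊕ Fin 2) (Fin 2 ⊕ Fin 2) F) = -1 := h4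
      have h6 := congrFun (congrFun h5 (Sum.inl 0)) (Sum.inl 0)
      simp at h6
      have : (2 : F) = 0 := by linear_combination h6
      exact two_ne_zero' hF this
  rw [hw1, mul_one] at htg
  obtain ⟨u, s, M, h | h⟩ := exists_gSp_of_comm g htg.symm
  · refine ⟨u, s, M, ?_⟩
    congr 1
    exact Subtype.ext h
  · exact ⟨u, s, M, mk_eq_of_neg h⟩

theorem card_centralizer_le (hF : Fintype.card F = 3) :
    Nat.card (Subgroup.centralizer {cBar F}) ≤ 648 := by
  classical
  let f : (Fin 2 → F) × F × Matrix.SpecialLinearGroup (Fin 2) F → Subgroup.centralizer {cBar F} :=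
    fun p => ⟨QuotientGroup.mk (gSp p.1 p.2.1 p.2.2), mk_gSp_mem_centralizer _ _ _⟩
  have hf : Function.Surjective f := by
    rintro ⟨x, hx⟩
    obtain ⟨u, s, M, rfl⟩ := exists_gSp_of_mem_centralizer hF x hx
    exact ⟨(u, s, M), rfl⟩
  haveI : Finite (Matrix.SpecialLinearGroup (Fin 2) F) := by
    unfold Matrix.SpecialLinearGroup
    infer_instance
  have h1 := Nat.card_le_card_of_surjective f hf
  have h2 : Nat.card ((Fin 2 → F) × F × Matrix.SpecialLinearGroup (Fin 2) F) = 648 := by
    rw [Nat.card_prod, Nat.card_prod, Nat.card_fun, Cfsg.Agent.Lib.Helper13.card_SL2,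
      Nat.card_eq_fintype_card, hF]
    simp
  rw [h2] at h1
  exact h1

theorem card_PSp (hF : Fintype.card F = 3) : Nat.card (Cfsg.PSp 2 F) = 25920 := by
  have h1 : Nat.card (Sp4 F) = Nat.card (Cfsg.PSp 2 F) * Nat.card (Subgroup.center (Sp4 F)) :=
    Subgroup.card_eq_card_quotient_mul_card_subgroup (Subgroup.center (Sp4 F))
  rw [Cfsg.Agent.Lib.Helper14.card_symplectic (F := F) 2, hF,
    Cfsg.Agent.S0246.result hF 2 (by norm_num)] at h1
  have h5 : Nat.gcd 2 (3 - 1) = 2 := by norm_num
  rw [h5] at h1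
  norm_num [Finset.prod_range_succ] at h1
  omega

end Cfsg.Agent.Lib.Helper26.X648
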