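/-
Helper26 library (S3366): exponents in `ZMod 3`, and the centrality of a normal subgroup of
order three in a group `X` with `X / R ≅ SL₂(3)`.
-/
import Mathlib
import Cfsg.Agent.Lib.Helper20.SL23Normal

set_option autoImplicit false
set_option linter.unusedSimpArgs false
set_option linter.unusedVariables false
set_option linter.unusedSectionVars false
set_option linter.style.haveILetI false

namespace Cfsg.Agent.Lib.Helper26.X648

open Cfsg.Agent.Lib.Helper20.SL23

set_option maxRecDepth 100000 in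
theorem sl_cube_sq : ∀ g : SL, ∃ a b : SL, g ^ 3 = a ^ 2 * b ^ 2 := by decide

section zp

variable {X : Type*} [Group X]

/-- powers with exponents in `ZMod 3`. -/
def zp (g : X) (a : ZMod 3) : X := g ^ a.val

theorem zp_zero (g : X) : zp g 0 = 1 := by simp [zp]

theorem zp_one (g : X) : zp g 1 = g := by
  have : (1 : ZMod 3).val = 1 := by decide
  simp [zp, this]

theorem zp_two (g : X) : zp g 2 = g ^ 2 := by
  have : (2 : ZMod 3).val = 2 := by decide
  simp [zp, this]

theorem zp_add {g : X} (hg : g ^ 3 = 1) (a b : ZMod 3) : zp g (a + b) = zp g a * zp g b := by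
  unfold zp
  rw [← pow_add, ZMod.val_add, pow_eq_pow_mod _ hg, Nat.mod_mod, ← pow_eq_pow_mod _ hg]

theorem zp_pow_three {g : X} (hg : g ^ 3 = 1) (a : ZMod 3) : zp g a ^ 3 = 1 := by
  unfold zp
  rw [← pow_mul, mul_comm, pow_mul, hg, one_pow]

theorem zp_neg {g : X} (hg : g ^ 3 = 1) (a : ZMod 3) : zp g (-a) = (zp g a)⁻¹ := by
  rw [eq_inv_iff_mul_eq_one, ← zp_add hg, neg_add_cancel, zp_zero]

theorem zp_sub {g : X} (hg : g ^ 3 = 1) (a b : ZMod 3) : zp g (a - b) = zp g a * (zp g b)⁻¹ := by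
  rw [sub_eq_add_neg, zp_add hg, zp_neg hg]

theorem zp_inv {g : X} (hg : g ^ 3 = 1) (a : ZMod 3) : zp g⁻¹ a = zp g (-a) := by
  rw [zp_neg hg]
  unfold zp
  rw [inv_pow]

theorem zp_zp {g : X} (hg : g ^ 3 = 1) (a b : ZMod 3) : zp (zp g a) b = zp g (a * b) := by
  unfold zp
  rw [← pow_mul, ZMod.val_mul, ← pow_eq_pow_mod _ hg]

theorem zp_mem {g : X} {H : Subgroup X} (hg : g ∈ H) (a : ZMod 3) : zp g a ∈ H :=
  H.pow_mem hg _

theorem conj_zp (x g : X) (a : ZMod 3) : x * zp g a * x⁻¹ = zp (x * g * x⁻¹) a := by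
  unfold zp
  rw [conj_pow]

theorem zp_one_left (a : ZMod 3) : zp (1 : X) a = 1 := by simp [zp]

theorem zp_eq_one {g : X} (hg : g ^ 3 = 1) (hg1 : g ≠ 1) {a : ZMod 3} (h : zp g a = 1) :
    a = 0 := by
  fin_cases a
  · rfl
  · exfalso
    apply hg1
    have h' : zp g 1 = 1 := h
    rwa [zp_one] at h'
  · exfalso
    apply hg1
    have h2 : g ^ 2 = 1 := by
      have h' : zp g 2 = 1 := h
      rwa [zp_two] at h'
    calc g = g ^ 3 * (g ^ 2)⁻¹ := by group
      _ = 1 := by rw [hg, h2]; simp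

theorem zp_injective {g : X} (hg : g ^ 3 = 1) (hg1 : g ≠ 1) : Function.Injective (zp g) := by
  intro a b h
  have h1 : zp g (a - b) = 1 := by
    rw [zp_sub hg, h, mul_inv_cancel]
  have := zp_eq_one hg hg1 h1
  exact sub_eq_zero.mp this

theorem zp_commute {g x : X} (h : g * x = x * g) (a : ZMod 3) : zp g a * x = x * zp g a := by
  unfold zp
  exact (Commute.pow_left h _).eq

/-- a subgroup of order three consists of the powers of any of its nontrivial elements. -/
theorem exists_zp_eq (Z : Subgroup X) (hZ : Nat.card Z = 3) {ζ₀ : X} (h0 : ζ₀ ∈ Z) (h1 : ζ₀ ≠ 1)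
    {ζ : X} (hζ : ζ ∈ Z) : ∃ c : ZMod 3, ζ = zp ζ₀ c := by
  haveI : Finite Z := Nat.finite_of_card_ne_zero (by rw [hZ]; norm_num)
  have h3 : ζ₀ ^ 3 = 1 := by
    have := pow_card_eq_one' (G := Z) (x := ⟨ζ₀, h0⟩)
    rw [hZ] at this
    exact congrArg Subtype.val this
  let f : ZMod 3 → Z := fun c => ⟨zp ζ₀ c, zp_mem h0 c⟩
  have hf : Function.Injective f := by
    intro a b hab
    exact zp_injective h3 h1 (congrArg Subtype.val hab)
  have hb : Function.Bijective f := by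
    apply Function.Injective.bijective_of_nat_card_le hf
    rw [hZ]
    simp
  obtain ⟨c, hc⟩ := hb.2 ⟨ζ, hζ⟩
  exact ⟨c, (congrArg Subtype.val hc).symm⟩

theorem pow_three_of_card_three (Z : Subgroup X) (hZ : Nat.card Z = 3) {ζ : X} (hζ : ζ ∈ Z) :
    ζ ^ 3 = 1 := by
  have := pow_card_eq_one' (G := Z) (x := ⟨ζ, hζ⟩)
  rw [hZ] at this
  exact congrArg Subtype.val this

theorem exists_ne_one_of_card_three (Z : Subgroup X) (hZ : Nat.card Z = 3) :
    ∃ ζ₀ ∈ Z, ζ₀ ≠ 1 := by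
  by_contra h
  push Not at h
  have : Z = ⊥ := by
    rw [eq_bot_iff]
    intro x hx
    rw [Subgroup.mem_bot]
    exact h x hx
  rw [this] at hZ
  simp at hZ

end zp

section central

variable {X : Type*} [Group X] (π : X →* SL) (hπ : Function.Surjective π)
include hπ

/-- a subgroup containing the kernel and all squares is everything. -/
theorem eq_top_of_sq_mem (C : Subgroup X) (hker : π.ker ≤ C) (hsq : ∀ x : X, x ^ 2 ∈ C) :
    C = ⊤ := by
  rw [eq_top_iff]
  intro x _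
  obtain ⟨a, b, hab⟩ := sl_cube_sq (π x)
  obtain ⟨a', rfl⟩ := hπ a
  obtain ⟨b', rfl⟩ := hπ b
  have h3 : x ^ 3 * (a' ^ 2 * b' ^ 2)⁻¹ ∈ π.ker := by
    rw [MonoidHom.mem_ker]
    simp only [map_mul, map_pow, map_inv]
    rw [hab]
    group
  have h3' : x ^ 3 ∈ C := by
    have := C.mul_mem (hker h3) (C.mul_mem (hsq a') (hsq b'))
    rwa [inv_mul_cancel_right] at this
  have h4 : x ^ 4 ∈ C := by
    have := C.pow_mem (hsq x) 2
    rwa [← pow_mul] at this
  have : x = x ^ 4 * (x ^ 3)⁻¹ := by group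
  rw [this]
  exact C.mul_mem h4 (C.inv_mem h3')

/-- a normal subgroup of order three centralized by the kernel is central. -/
theorem central_of_card_three (Z : Subgroup X) [hZn : Z.Normal] (hZ : Nat.card Z = 3)
    (hRZ : ∀ r ∈ π.ker, ∀ ζ ∈ Z, r * ζ = ζ * r) : ∀ ζ ∈ Z, ∀ x : X, ζ * x = x * ζ := by
  obtain ⟨ζ₀, h0, h1⟩ := exists_ne_one_of_card_three Z hZ
  have h3 : ζ₀ ^ 3 = 1 := pow_three_of_card_three Z hZ h0
  have hC : Subgroup.centralizer {ζ₀} = ⊤ := by
    apply eq_top_of_sq_mem π hπ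
    · intro r hr
      rw [Subgroup.mem_centralizer_singleton_iff]
      exact hRZ r hr ζ₀ h0
    · intro x
      rw [Subgroup.mem_centralizer_singleton_iff]
      have hx : x * ζ₀ * x⁻¹ ∈ Z := hZn.conj_mem ζ₀ h0 x
      obtain ⟨c, hc⟩ := exists_zp_eq Z hZ h0 h1 hx
      have key : x ^ 2 * ζ₀ * (x ^ 2)⁻¹ = zp ζ₀ (c * c) := by
        have : x ^ 2 * ζ₀ * (x ^ 2)⁻¹ = x * (x * ζ₀ * x⁻¹) * x⁻¹ := by
          rw [pow_two, mul_inv_rev]
          simp only [mul_assoc]
        rw [this, hc, conj_zp, hc, zp_zp h3]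
      have hc0 : c ≠ 0 := by
        rintro rfl
        rw [zp_zero] at hc
        apply h1
        have : ζ₀ = x⁻¹ * (x * ζ₀ * x⁻¹) * x := by group
        rw [this, hc]
        group
      have hcc : c * c = 1 := by
        have : ∀ c : ZMod 3, c ≠ 0 → c * c = 1 := by decide
        exact this c hc0
      rw [hcc, zp_one] at key
      calc x ^ 2 * ζ₀ = (x ^ 2 * ζ₀ * (x ^ 2)⁻¹) * x ^ 2 := by group
        _ = ζ₀ * x ^ 2 := by rw [key]
  intro ζ hζ x
  obtain ⟨c, rfl⟩ := exists_zp_eq Z hZ h0 h1 hζ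
  have hx : x ∈ Subgroup.centralizer {ζ₀} := by rw [hC]; trivial
  rw [Subgroup.mem_centralizer_singleton_iff] at hx
  exact zp_commute hx.symm c

end central

end Cfsg.Agent.Lib.Helper26.X648
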