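/-
Helper26 library (S3366): Heisenberg coordinates on an extraspecial group of order 27 and
exponent 3 inside a group `X` centralizing its centre; the action of `X` as a homomorphism
to `SL₂(3)`.
-/
import Mathlib
import Cfsg.Agent.Lib.Helper26.X648A
import Cfsg.Agent.Lib.Helper26.X648D

set_option autoImplicit false
set_option linter.unusedSimpArgs false
set_option linter.unusedVariables false
set_option linter.unusedSectionVars false
set_option linter.style.haveILetI false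

namespace Cfsg.Agent.Lib.Helper26.X648

open Cfsg.Agent.Lib.Helper20.SL23

/-- The abstract data: `R` extraspecial of order 27 and exponent 3 with centre `Z`, central in
the ambient group. -/
structure IsHeis {X : Type*} [Group X] (R Z : Subgroup X) : Prop where
  card_R : Nat.card R = 27
  exp : ∀ r ∈ R, r ^ 3 = 1
  le : Z ≤ R
  card_Z : Nat.card Z = 3
  central : ∀ ζ ∈ Z, ∀ x : X, ζ * x = x * ζ
  comm : ∀ r ∈ R, ∀ s ∈ R, r * s * r⁻¹ * s⁻¹ ∈ Z
  max : ∀ r ∈ R, (∀ s ∈ R, r * s = s * r) → r ∈ Z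

section cm

variable {X : Type*} [Group X]

/-- the commutator. -/
def cm (r s : X) : X := r * s * r⁻¹ * s⁻¹

theorem cm_self (r : X) : cm r r = 1 := by unfold cm; group

theorem cm_inv (r s : X) : (cm r s)⁻¹ = cm s r := by unfold cm; group

theorem cm_one_left (s : X) : cm 1 s = 1 := by unfold cm; group

theorem cm_one_right (r : X) : cm r 1 = 1 := by unfold cm; group

theorem mul_swap (r s : X) : r * s = cm r s * (s * r) := by unfold cm; group

theorem cm_eq_mul_inv (r s : X) : cm r s = r * s * (s * r)⁻¹ := by unfold cm; group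

theorem conj_cm (x r s : X) : x * cm r s * x⁻¹ = cm (x * r * x⁻¹) (x * s * x⁻¹) := by
  unfold cm; group

theorem rearr (A B C A' B' C' W : X) (hC : ∀ x, C * x = x * C) (hC' : ∀ x, C' * x = x * C')
    (hW : ∀ x, W * x = x * W) (h : B * A' = W * (A' * B)) :
    A * B * C * (A' * B' * C') = (A * A') * (B * B') * (W * (C * C')) := by
  calc A * B * C * (A' * B' * C') = A * B * (C * (A' * B' * C')) := by rw [mul_assoc]
    _ = A * B * ((A' * B' * C') * C) := by rw [hC]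
    _ = A * (B * A') * B' * (C' * C) := by simp only [mul_assoc]
    _ = A * (W * (A' * B)) * B' * (C' * C) := by rw [h]
    _ = A * ((A' * B) * W) * B' * (C' * C) := by rw [hW]
    _ = A * A' * (B * (W * B')) * (C' * C) := by simp only [mul_assoc]
    _ = A * A' * (B * (B' * W)) * (C' * C) := by rw [hW]
    _ = (A * A') * (B * B') * (W * (C' * C)) := by simp only [mul_assoc]
    _ = (A * A') * (B * B') * (W * (C * C')) := by rw [hC' C]

variable {R Z : Subgroup X} (H : IsHeis R Z)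
include H

theorem IsHeis.cm_mem {r s : X} (hr : r ∈ R) (hs : s ∈ R) : cm r s ∈ Z := H.comm r hr s hs

theorem IsHeis.cm_central {r s : X} (hr : r ∈ R) (hs : s ∈ R) (x : X) :
    cm r s * x = x * cm r s := H.central _ (H.cm_mem hr hs) x

theorem IsHeis.pow_three_Z {ζ : X} (hζ : ζ ∈ Z) : ζ ^ 3 = 1 := H.exp ζ (H.le hζ)

theorem IsHeis.conj_central {ζ : X} (hζ : ζ ∈ Z) (x : X) : x * ζ * x⁻¹ = ζ := by
  rw [← H.central ζ hζ x, mul_inv_cancel_right]

theorem IsHeis.cm_mul_left {r r' s : X} (hr : r ∈ R) (hr' : r' ∈ R) (hs : s ∈ R) :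
    cm (r * r') s = cm r s * cm r' s := by
  have e : cm (r * r') s = r * cm r' s * r⁻¹ * cm r s := by unfold cm; group
  rw [e, H.conj_central (H.cm_mem hr' hs), H.cm_central hr' hs]

theorem IsHeis.cm_mul_right {r s s' : X} (hr : r ∈ R) (hs : s ∈ R) (hs' : s' ∈ R) :
    cm r (s * s') = cm r s * cm r s' := by
  have e : cm r (s * s') = cm r s * (s * cm r s' * s⁻¹) := by unfold cm; group
  rw [e, H.conj_central (H.cm_mem hr hs')]

theorem IsHeis.cm_central_left {ζ s : X} (hζ : ζ ∈ Z) : cm ζ s = 1 := by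
  unfold cm
  rw [H.central ζ hζ s]
  group

theorem IsHeis.cm_central_right {ζ r : X} (hζ : ζ ∈ Z) : cm r ζ = 1 := by
  rw [← cm_inv, H.cm_central_left hζ, inv_one]

theorem IsHeis.cm_zp_left {r s : X} (hr : r ∈ R) (hs : s ∈ R) (a : ZMod 3) :
    cm (zp r a) s = zp (cm r s) a := by
  fin_cases a
  · show cm (zp r 0) s = zp (cm r s) 0
    rw [zp_zero, zp_zero, cm_one_left]
  · show cm (zp r 1) s = zp (cm r s) 1
    rw [zp_one, zp_one]
  · show cm (zp r 2) s = zp (cm r s) 2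
    rw [zp_two, zp_two, pow_two, pow_two, H.cm_mul_left hr hr hs]

theorem IsHeis.cm_zp_right {r s : X} (hr : r ∈ R) (hs : s ∈ R) (a : ZMod 3) :
    cm r (zp s a) = zp (cm r s) a := by
  fin_cases a
  · show cm r (zp s 0) = zp (cm r s) 0
    rw [zp_zero, zp_zero, cm_one_right]
  · show cm r (zp s 1) = zp (cm r s) 1
    rw [zp_one, zp_one]
  · show cm r (zp s 2) = zp (cm r s) 2
    rw [zp_two, zp_two, pow_two, pow_two, H.cm_mul_right hr hs hs]

end cm

section hei

variable {X : Type*} [Group X]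

/-- Heisenberg coordinates. -/
def hei (r₁ r₂ : X) (u : Fin 2 → ZMod 3) (s : ZMod 3) : X :=
  zp r₁ (u 0) * zp r₂ (u 1) * zp (cm r₁ r₂) (u 0 * u 1 - s)

variable {R Z : Subgroup X} (H : IsHeis R Z) {r₁ r₂ : X} (h₁ : r₁ ∈ R) (h₂ : r₂ ∈ R)
include H h₁ h₂

theorem hei_mem (u : Fin 2 → ZMod 3) (s : ZMod 3) : hei r₁ r₂ u s ∈ R :=
  R.mul_mem (R.mul_mem (zp_mem h₁ _) (zp_mem h₂ _)) (zp_mem (H.le (H.cm_mem h₁ h₂)) _)

theorem zp_swap (a b : ZMod 3) :
    zp r₂ b * zp r₁ a = zp (cm r₁ r₂) (-(a * b)) * (zp r₁ a * zp r₂ b) := by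
  rw [mul_swap (zp r₂ b) (zp r₁ a), H.cm_zp_left h₂ (zp_mem h₁ a), H.cm_zp_right h₂ h₁,
    zp_zp (H.pow_three_Z (H.cm_mem h₂ h₁)), ← cm_inv r₁ r₂,
    zp_inv (H.pow_three_Z (H.cm_mem h₁ h₂))]

theorem hei_mul (u v : Fin 2 → ZMod 3) (s t : ZMod 3) :
    hei r₁ r₂ u s * hei r₁ r₂ v t = hei r₁ r₂ (u + v) (s + t + om u v) := by
  have h3 := H.pow_three_Z (H.cm_mem h₁ h₂)
  have hc : ∀ c : ZMod 3, ∀ x : X, zp (cm r₁ r₂) c * x = x * zp (cm r₁ r₂) c := fun c x =>
    H.central _ (zp_mem (H.cm_mem h₁ h₂) c) x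
  unfold hei
  rw [rearr _ _ _ _ _ _ _ (hc _) (hc _) (hc _) (zp_swap H h₁ h₂ (v 0) (u 1)),
    ← zp_add (H.exp _ h₁), ← zp_add (H.exp _ h₂), ← zp_add h3, ← zp_add h3]
  simp only [Pi.add_apply, om]
  congr 2
  have h30 : (3 : ZMod 3) = 0 := by decide
  linear_combination (-(v 0 * u 1)) * h30

theorem hei_zero : hei r₁ r₂ 0 0 = 1 := by
  simp [hei, zp_zero]

theorem hei_inv (u : Fin 2 → ZMod 3) (s : ZMod 3) :
    (hei r₁ r₂ u s)⁻¹ = hei r₁ r₂ (-u) (-s) := by
  rw [inv_eq_iff_mul_eq_one, hei_mul H h₁ h₂]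
  have : om u (-u) = 0 := by simp only [om, Pi.neg_apply]; ring
  rw [this]
  simp only [add_neg_cancel, add_zero]
  exact hei_zero H h₁ h₂

theorem hei_zero_left (s : ZMod 3) : hei r₁ r₂ 0 s = zp (cm r₁ r₂) (-s) := by
  simp [hei, zp_zero]

theorem hei_split (u : Fin 2 → ZMod 3) (s : ZMod 3) :
    hei r₁ r₂ u s = hei r₁ r₂ u 0 * zp (cm r₁ r₂) (-s) := by
  rw [← hei_zero_left H h₁ h₂, hei_mul H h₁ h₂]
  congr 1
  · simp
  · simp [om]

theorem cm_hei (u v : Fin 2 → ZMod 3) (s t : ZMod 3) :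
    cm (hei r₁ r₂ u s) (hei r₁ r₂ v t) = zp (cm r₁ r₂) (om u v) := by
  rw [cm_eq_mul_inv, hei_mul H h₁ h₂, hei_mul H h₁ h₂, hei_inv H h₁ h₂, hei_mul H h₁ h₂]
  have e1 : u + v + -(v + u) = 0 := by abel
  rw [e1, hei_zero_left H h₁ h₂]
  congr 1
  simp only [om, Pi.add_apply, Pi.neg_apply]
  have h30 : (3 : ZMod 3) = 0 := by decide
  linear_combination (-(u 0 * v 1) + u 1 * v 0) * h30

theorem hei_e1 : hei r₁ r₂ ![1, 0] 0 = r₁ := by
  simp [hei, zp_zero, zp_one]

theorem hei_e2 : hei r₁ r₂ ![0, 1] 0 = r₂ := by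
  simp [hei, zp_zero, zp_one]

variable (hne : cm r₁ r₂ ≠ 1)
include hne

theorem hei_injective {u v : Fin 2 → ZMod 3} {s t : ZMod 3}
    (h : hei r₁ r₂ u s = hei r₁ r₂ v t) : u = v ∧ s = t := by
  have h3 := H.pow_three_Z (H.cm_mem h₁ h₂)
  have e0 : u 0 = v 0 := by
    have := congrArg (fun x => cm x (hei r₁ r₂ ![0, 1] 0)) h
    simp only [cm_hei H h₁ h₂] at this
    have := zp_injective h3 hne this
    simpa [om] using this
  have e1 : u 1 = v 1 := by
    have := congrArg (fun x => cm (hei r₁ r₂ ![1, 0] 0) x) h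
    simp only [cm_hei H h₁ h₂] at this
    have := zp_injective h3 hne this
    simpa [om] using this
  have huv : u = v := by
    funext i
    fin_cases i
    · exact e0
    · exact e1
  refine ⟨huv, ?_⟩
  subst huv
  unfold hei at h
  have := zp_injective h3 hne (mul_left_cancel h)
  exact (sub_right_inj.mp this)

theorem hei_surjective {r : X} (hr : r ∈ R) : ∃ u s, hei r₁ r₂ u s = r := by
  haveI : Finite R := Nat.finite_of_card_ne_zero (by rw [H.card_R]; norm_num)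
  let f : (Fin 2 → ZMod 3) × ZMod 3 → R := fun p => ⟨hei r₁ r₂ p.1 p.2, hei_mem H h₁ h₂ _ _⟩
  have hf : Function.Injective f := by
    rintro ⟨u, s⟩ ⟨v, t⟩ hab
    have := hei_injective H h₁ h₂ hne (congrArg Subtype.val hab)
    rw [Prod.mk.injEq]
    exact this
  have hb : Function.Bijective f := by
    apply Function.Injective.bijective_of_nat_card_le hf
    rw [H.card_R, Nat.card_prod, Nat.card_fun]
    simp
  obtain ⟨⟨u, s⟩, hc⟩ := hb.2 ⟨r, hr⟩
  exact ⟨u, s, congrArg Subtype.val hc⟩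

end hei

end Cfsg.Agent.Lib.Helper26.X648
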