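/-
Helper26 library (S3366): coordinate functions on the Heisenberg group and the action of the
ambient group as a homomorphism to `SL₂(3)`.
-/
import Mathlib
import Cfsg.Agent.Lib.Helper26.X648E

set_option autoImplicit false
set_option linter.unusedSimpArgs false
set_option linter.unusedVariables false
set_option linter.unusedSectionVars false
set_option linter.style.haveILetI false

namespace Cfsg.Agent.Lib.Helper26.X648

open Cfsg.Agent.Lib.Helper20.SL23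

section coords

variable {X : Type*} [Group X]

open Classical in
/-- the coordinates of an element (junk outside `R`). -/
noncomputable def uc (r₁ r₂ x : X) : (Fin 2 → ZMod 3) × ZMod 3 :=
  if h : ∃ p : (Fin 2 → ZMod 3) × ZMod 3, hei r₁ r₂ p.1 p.2 = x then h.choose else 0

/-- the vector coordinate. -/
noncomputable def cU (r₁ r₂ x : X) : Fin 2 → ZMod 3 := (uc r₁ r₂ x).1

/-- the central coordinate. -/
noncomputable def cS (r₁ r₂ x : X) : ZMod 3 := (uc r₁ r₂ x).2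

variable {R Z : Subgroup X} (H : IsHeis R Z) {r₁ r₂ : X} (h₁ : r₁ ∈ R) (h₂ : r₂ ∈ R)
  (hne : cm r₁ r₂ ≠ 1)
include H h₁ h₂ hne

theorem hei_coords {r : X} (hr : r ∈ R) : hei r₁ r₂ (cU r₁ r₂ r) (cS r₁ r₂ r) = r := by
  have h : ∃ p : (Fin 2 → ZMod 3) × ZMod 3, hei r₁ r₂ p.1 p.2 = r := by
    obtain ⟨u, s, hus⟩ := hei_surjective H h₁ h₂ hne hr
    exact ⟨(u, s), hus⟩
  unfold cU cS uc
  rw [dif_pos h]
  exact h.choose_spec

theorem coords_hei (u : Fin 2 → ZMod 3) (s : ZMod 3) :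
    cU r₁ r₂ (hei r₁ r₂ u s) = u ∧ cS r₁ r₂ (hei r₁ r₂ u s) = s :=
  hei_injective H h₁ h₂ hne (hei_coords H h₁ h₂ hne (hei_mem H h₁ h₂ u s))

theorem cU_hei (u : Fin 2 → ZMod 3) (s : ZMod 3) : cU r₁ r₂ (hei r₁ r₂ u s) = u :=
  (coords_hei H h₁ h₂ hne u s).1

theorem cS_hei (u : Fin 2 → ZMod 3) (s : ZMod 3) : cS r₁ r₂ (hei r₁ r₂ u s) = s :=
  (coords_hei H h₁ h₂ hne u s).2

theorem cU_mul {r r' : X} (hr : r ∈ R) (hr' : r' ∈ R) :
    cU r₁ r₂ (r * r') = cU r₁ r₂ r + cU r₁ r₂ r' := by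
  conv_lhs => rw [← hei_coords H h₁ h₂ hne hr, ← hei_coords H h₁ h₂ hne hr', hei_mul H h₁ h₂]
  rw [cU_hei H h₁ h₂ hne]

theorem cS_mul {r r' : X} (hr : r ∈ R) (hr' : r' ∈ R) :
    cS r₁ r₂ (r * r') = cS r₁ r₂ r + cS r₁ r₂ r' + om (cU r₁ r₂ r) (cU r₁ r₂ r') := by
  conv_lhs => rw [← hei_coords H h₁ h₂ hne hr, ← hei_coords H h₁ h₂ hne hr', hei_mul H h₁ h₂]
  rw [cS_hei H h₁ h₂ hne]

theorem cU_one : cU r₁ r₂ (1 : X) = 0 := by
  rw [← hei_zero H h₁ h₂, cU_hei H h₁ h₂ hne]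

theorem cU_inv {r : X} (hr : r ∈ R) : cU r₁ r₂ r⁻¹ = - cU r₁ r₂ r := by
  have := cU_mul H h₁ h₂ hne hr (R.inv_mem hr)
  rw [mul_inv_cancel, cU_one H h₁ h₂ hne] at this
  exact eq_neg_of_add_eq_zero_right this.symm

theorem cU_zp_central (c : ZMod 3) : cU r₁ r₂ (zp (cm r₁ r₂) c) = 0 := by
  have : zp (cm r₁ r₂) c = hei r₁ r₂ 0 (-c) := by
    rw [hei_zero_left H h₁ h₂, neg_neg]
  rw [this, cU_hei H h₁ h₂ hne]

theorem cU_central {ζ : X} (hζ : ζ ∈ Z) : cU r₁ r₂ ζ = 0 := by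
  obtain ⟨c, rfl⟩ := exists_zp_eq Z H.card_Z (H.cm_mem h₁ h₂) hne hζ
  exact cU_zp_central H h₁ h₂ hne c

theorem mem_Z_of_cU_eq_zero {r : X} (hr : r ∈ R) (h : cU r₁ r₂ r = 0) : r ∈ Z := by
  rw [← hei_coords H h₁ h₂ hne hr, h, hei_zero_left H h₁ h₂]
  exact zp_mem (H.cm_mem h₁ h₂) _

theorem cU_mul_central {r ζ : X} (hr : r ∈ R) (hζ : ζ ∈ Z) :
    cU r₁ r₂ (r * ζ) = cU r₁ r₂ r := by
  rw [cU_mul H h₁ h₂ hne hr (H.le hζ), cU_central H h₁ h₂ hne hζ, add_zero]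

theorem cm_eq_zp {r r' : X} (hr : r ∈ R) (hr' : r' ∈ R) :
    cm r r' = zp (cm r₁ r₂) (om (cU r₁ r₂ r) (cU r₁ r₂ r')) := by
  conv_lhs => rw [← hei_coords H h₁ h₂ hne hr, ← hei_coords H h₁ h₂ hne hr', cm_hei H h₁ h₂]

theorem eq_hei_zero_mul {r : X} (hr : r ∈ R) :
    r = hei r₁ r₂ (cU r₁ r₂ r) 0 * zp (cm r₁ r₂) (- cS r₁ r₂ r) := by
  conv_lhs => rw [← hei_coords H h₁ h₂ hne hr, hei_split H h₁ h₂]

section action

variable [hRn : R.Normal]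

/-- the action on coordinates. -/
noncomputable def act (r₁ r₂ x : X) (u : Fin 2 → ZMod 3) : Fin 2 → ZMod 3 :=
  cU r₁ r₂ (x * hei r₁ r₂ u 0 * x⁻¹)

theorem cU_conj (x : X) {r : X} (hr : r ∈ R) :
    cU r₁ r₂ (x * r * x⁻¹) = act r₁ r₂ x (cU r₁ r₂ r) := by
  have hz : zp (cm r₁ r₂) (- cS r₁ r₂ r) ∈ Z := zp_mem (H.cm_mem h₁ h₂) _
  have e : x * r * x⁻¹ = x * hei r₁ r₂ (cU r₁ r₂ r) 0 * x⁻¹ * zp (cm r₁ r₂) (- cS r₁ r₂ r) := by
    conv_lhs => rw [eq_hei_zero_mul H h₁ h₂ hne hr]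
    rw [mul_assoc, mul_assoc, mul_assoc, ← H.central _ hz x⁻¹]
    simp only [mul_assoc]
  rw [e, cU_mul_central H h₁ h₂ hne (hRn.conj_mem _ (hei_mem H h₁ h₂ _ _) x) hz]
  rfl

theorem act_add (x : X) (u v : Fin 2 → ZMod 3) :
    act r₁ r₂ x (u + v) = act r₁ r₂ x u + act r₁ r₂ x v := by
  have hu := hei_mem H h₁ h₂ u 0
  have hv := hei_mem H h₁ h₂ v 0
  have e : x * (hei r₁ r₂ u 0 * hei r₁ r₂ v 0) * x⁻¹ =
      (x * hei r₁ r₂ u 0 * x⁻¹) * (x * hei r₁ r₂ v 0 * x⁻¹) := by group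
  have h1 := cU_conj H h₁ h₂ hne x (R.mul_mem hu hv)
  rw [e, cU_mul H h₁ h₂ hne (hRn.conj_mem _ hu x) (hRn.conj_mem _ hv x),
    cU_mul H h₁ h₂ hne hu hv, cU_hei H h₁ h₂ hne, cU_hei H h₁ h₂ hne] at h1
  exact h1.symm

theorem act_om (x : X) (u v : Fin 2 → ZMod 3) :
    om (act r₁ r₂ x u) (act r₁ r₂ x v) = om u v := by
  have hu := hei_mem H h₁ h₂ u 0
  have hv := hei_mem H h₁ h₂ v 0
  have h3 := H.pow_three_Z (H.cm_mem h₁ h₂)
  have e := conj_cm x (hei r₁ r₂ u 0) (hei r₁ r₂ v 0)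
  rw [H.conj_central (H.cm_mem hu hv), cm_hei H h₁ h₂,
    cm_eq_zp H h₁ h₂ hne (hRn.conj_mem _ hu x) (hRn.conj_mem _ hv x)] at e
  exact (zp_injective h3 hne e).symm

theorem act_mul (x y : X) (u : Fin 2 → ZMod 3) :
    act r₁ r₂ (x * y) u = act r₁ r₂ x (act r₁ r₂ y u) := by
  have hu := hei_mem H h₁ h₂ u 0
  have e : x * y * hei r₁ r₂ u 0 * (x * y)⁻¹ = x * (y * hei r₁ r₂ u 0 * y⁻¹) * x⁻¹ := by group
  unfold act
  rw [e, cU_conj H h₁ h₂ hne x (hRn.conj_mem _ hu y)]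
  rfl

theorem act_one (u : Fin 2 → ZMod 3) : act r₁ r₂ (1 : X) u = u := by
  unfold act
  rw [one_mul, inv_one, mul_one, cU_hei H h₁ h₂ hne]

/-- the action as an additive map. -/
noncomputable def actHom (x : X) : (Fin 2 → ZMod 3) →+ (Fin 2 → ZMod 3) :=
  AddMonoidHom.mk' (act r₁ r₂ x) (act_add H h₁ h₂ hne x)

/-- the matrix of the action. -/
noncomputable def mat (x : X) : Matrix (Fin 2) (Fin 2) (ZMod 3) :=
  LinearMap.toMatrix' ((actHom H h₁ h₂ hne x).toZModLinearMap 3)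

theorem mat_mulVec (x : X) (u : Fin 2 → ZMod 3) :
    (mat H h₁ h₂ hne x).mulVec u = act r₁ r₂ x u := by
  unfold mat
  rw [← Matrix.toLin'_apply, Matrix.toLin'_toMatrix']
  rfl

theorem mat_mul (x y : X) : mat H h₁ h₂ hne (x * y) = mat H h₁ h₂ hne x * mat H h₁ h₂ hne y := by
  apply Matrix.toLin'.injective
  apply LinearMap.ext
  intro u
  rw [Matrix.toLin'_mul, LinearMap.comp_apply, Matrix.toLin'_apply, Matrix.toLin'_apply,
    Matrix.toLin'_apply, mat_mulVec, mat_mulVec, mat_mulVec, act_mul H h₁ h₂ hne]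

theorem mat_one : mat H h₁ h₂ hne (1 : X) = 1 := by
  apply Matrix.toLin'.injective
  apply LinearMap.ext
  intro u
  rw [Matrix.toLin'_apply, mat_mulVec, act_one H h₁ h₂ hne, Matrix.toLin'_one]
  rfl

theorem mat_det (x : X) : (mat H h₁ h₂ hne x).det = 1 := by
  have h := act_om H h₁ h₂ hne x ![1, 0] ![0, 1]
  rw [← mat_mulVec H h₁ h₂ hne, ← mat_mulVec H h₁ h₂ hne] at h
  rw [Matrix.det_fin_two]
  simp [om, Matrix.mulVec, dotProduct, Fin.sum_univ_two] at h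
  linear_combination h

/-- the action homomorphism to `SL₂(3)`. -/
noncomputable def Mh : X →* SL where
  toFun x := ⟨mat H h₁ h₂ hne x, mat_det H h₁ h₂ hne x⟩
  map_one' := Subtype.ext (mat_one H h₁ h₂ hne)
  map_mul' x y := Subtype.ext (mat_mul H h₁ h₂ hne x y)

theorem Mh_val (x : X) : (Mh H h₁ h₂ hne x).1 = mat H h₁ h₂ hne x := rfl

theorem cU_conj' (x : X) {r : X} (hr : r ∈ R) :
    cU r₁ r₂ (x * r * x⁻¹) = (Mh H h₁ h₂ hne x).1.mulVec (cU r₁ r₂ r) := by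
  rw [Mh_val, mat_mulVec, cU_conj H h₁ h₂ hne x hr]

theorem Mh_eq_one_iff (x : X) :
    Mh H h₁ h₂ hne x = 1 ↔ ∀ r ∈ R, x * r * x⁻¹ * r⁻¹ ∈ Z := by
  constructor
  · intro h r hr
    apply mem_Z_of_cU_eq_zero H h₁ h₂ hne (R.mul_mem (hRn.conj_mem _ hr x) (R.inv_mem hr))
    rw [cU_mul H h₁ h₂ hne (hRn.conj_mem _ hr x) (R.inv_mem hr), cU_conj' H h₁ h₂ hne x hr, h,
      cU_inv H h₁ h₂ hne hr]
    simp
  · intro h
    apply Subtype.ext
    apply Matrix.toLin'.injective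
    apply LinearMap.ext
    intro u
    rw [Matrix.toLin'_apply, Mh_val, mat_mulVec]
    have h1 := h _ (hei_mem H h₁ h₂ u 0)
    have h2 := cU_central H h₁ h₂ hne h1
    rw [cU_mul H h₁ h₂ hne (hRn.conj_mem _ (hei_mem H h₁ h₂ u 0) x)
      (R.inv_mem (hei_mem H h₁ h₂ u 0)), cU_inv H h₁ h₂ hne (hei_mem H h₁ h₂ u 0),
      cU_hei H h₁ h₂ hne] at h2
    show act r₁ r₂ x u = _
    unfold act
    simp only [Matrix.SpecialLinearGroup.coe_one, Matrix.toLin'_one, LinearMap.id_apply]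
    exact add_neg_eq_zero.mp h2

theorem le_ker_Mh : R ≤ (Mh H h₁ h₂ hne).ker := by
  intro x hx
  rw [MonoidHom.mem_ker, Mh_eq_one_iff]
  intro r hr
  exact H.comm x hx r hr

end action

end coords

end Cfsg.Agent.Lib.Helper26.X648
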