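/-
Helper26 library (S3366): the central involution of `X / R ≅ SL₂(3)` lifts to an involution `z`
inverting `R / Z`; the kernel of the action on `R / Z` is `R`.
-/
import Mathlib
import Cfsg.Agent.Lib.Helper26.X648F
import Cfsg.Agent.Lib.Helper1.Fitting

set_option autoImplicit false
set_option linter.unusedSimpArgs false
set_option linter.unusedVariables false
set_option linter.unusedSectionVars false
set_option linter.style.haveILetI false

namespace Cfsg.Agent.Lib.Helper26.X648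

open Cfsg.Agent.Lib.Helper20.SL23

theorem mZ_val : (mZ : SL).1 = -1 := by decide

theorem mZ_mulVec (u : Fin 2 → ZMod 3) : (mZ : SL).1.mulVec u = -u := by
  rw [mZ_val, Matrix.neg_mulVec, Matrix.one_mulVec]

theorem mZ_pow_27 : (mZ : SL) ^ 27 = mZ := by
  rw [show (27 : ℕ) = 2 * 13 + 1 from rfl, pow_succ, pow_mul, mZ_facts.1, one_pow, one_mul]

theorem mZ_central (g : SL) : g * mZ = mZ * g := sl_invol_central mZ mZ_facts.1 g

section invol

variable {X : Type*} [Group X] {R Z : Subgroup X} (H : IsHeis R Z)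
include H

theorem exists_basis : ∃ r₁ ∈ R, ∃ r₂ ∈ R, cm r₁ r₂ ≠ 1 := by
  by_contra hcon
  push Not at hcon
  have hle : R ≤ Z := by
    intro r hr
    apply H.max r hr
    intro s hs
    have := hcon r hr s hs
    unfold cm at this
    calc r * s = (r * s * r⁻¹ * s⁻¹) * (s * r) := by group
      _ = s * r := by rw [this, one_mul]
  haveI : Finite Z := Nat.finite_of_card_ne_zero (by rw [H.card_Z]; norm_num)
  have := Subgroup.card_le_of_le hle
  rw [H.card_R, H.card_Z] at this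
  omega

theorem eq_one_of_sq_of_cube {g : X} (h2 : g ^ 2 = 1) (h3 : g ^ 3 = 1) : g = 1 := by
  calc g = g ^ 3 * (g ^ 2)⁻¹ := by group
    _ = 1 := by rw [h2, h3]; simp

variable (π : X →* SL) (hπ : Function.Surjective π) (hker : π.ker = R)
include hπ hker

theorem exists_invol : ∃ z : X, z ^ 2 = 1 ∧ π z = mZ := by
  obtain ⟨y, hy⟩ := hπ mZ
  refine ⟨y ^ 27, ?_, ?_⟩
  · have hy2 : y ^ 2 ∈ R := by
      rw [← hker, MonoidHom.mem_ker, map_pow, hy, mZ_facts.1]
    have h3 := H.exp _ hy2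
    calc (y ^ 27) ^ 2 = ((y ^ 2) ^ 3) ^ 9 := by rw [← pow_mul, ← pow_mul, ← pow_mul]
      _ = 1 := by rw [h3, one_pow]
  · rw [map_pow, hy, mZ_pow_27]

variable {z : X} (hz2 : z ^ 2 = 1) (hzπ : π z = mZ)
include hz2 hzπ

theorem z_inv : z⁻¹ = z := by
  rw [inv_eq_iff_mul_eq_one, ← pow_two, hz2]

theorem z_conj_mem (x : X) : z⁻¹ * (x * z * x⁻¹) ∈ R := by
  rw [← hker, MonoidHom.mem_ker]
  simp only [map_mul, map_inv, hzπ]
  rw [mZ_central (π x)]
  group

variable [Finite X] (hO2 : Cfsg.pCore 2 X = ⊥)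
include hO2

theorem z_not_centralize : ¬ (∀ r ∈ R, z * r = r * z) := by
  intro hcen
  have hcentral : ∀ x : X, x * z * x⁻¹ = z := by
    intro x
    have hρ := z_conj_mem H π hπ hker hz2 hzπ x
    set ρ := z⁻¹ * (x * z * x⁻¹) with hρdef
    have e : x * z * x⁻¹ = z * ρ := by rw [hρdef]; group
    have hsq : (z * ρ) ^ 2 = 1 := by
      rw [← e, conj_pow, hz2]; group
    have hcom := hcen ρ hρ
    have hρ2 : ρ ^ 2 = 1 := by
      have : (z * ρ) ^ 2 = z ^ 2 * ρ ^ 2 := (Commute.mul_pow hcom 2)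
      rw [this, hz2, one_mul] at hsq
      exact hsq
    have := eq_one_of_sq_of_cube H hρ2 (H.exp ρ hρ)
    rw [e, this, mul_one]
  have hnorm : (Subgroup.zpowers z).Normal := by
    refine ⟨fun g hg x => ?_⟩
    obtain ⟨k, rfl⟩ := Subgroup.mem_zpowers_iff.mp hg
    rw [← conj_zpow, hcentral x]
    exact Subgroup.zpow_mem_zpowers z k
  have hp : IsPGroup 2 (Subgroup.zpowers z) := by
    rintro ⟨g, hg⟩
    obtain ⟨k, rfl⟩ := Subgroup.mem_zpowers_iff.mp hg
    refine ⟨1, Subtype.ext ?_⟩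
    show (z ^ k) ^ 2 ^ 1 = 1
    rw [pow_one, ← zpow_natCast, ← zpow_mul, mul_comm, zpow_mul, zpow_natCast]
    simp [hz2]
  have hle := Cfsg.Agent.Lib.Helper1.le_pCore hnorm hp
  rw [hO2] at hle
  have hz1 : z = 1 := by
    have := hle (Subgroup.mem_zpowers z)
    rwa [Subgroup.mem_bot] at this
  rw [hz1, map_one] at hzπ
  exact mZ_facts.2 hzπ.symm

variable [hRn : R.Normal] {r₁ r₂ : X} (h₁ : r₁ ∈ R) (h₂ : r₂ ∈ R) (hne : cm r₁ r₂ ≠ 1)
include h₁ h₂ hne

theorem Mh_z : Mh H h₁ h₂ hne z = mZ := by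
  have hsq : (Mh H h₁ h₂ hne z) ^ 2 = 1 := by rw [← map_pow, hz2, map_one]
  rcases sl_sq_eq_one _ hsq with h | h
  · exfalso
    apply z_not_centralize H π hπ hker hz2 hzπ hO2
    intro r hr
    have hζ := (Mh_eq_one_iff H h₁ h₂ hne z).mp h r hr
    set ζ := z * r * z⁻¹ * r⁻¹ with hζdef
    have e1 : z * r * z⁻¹ = ζ * r := by rw [hζdef]; group
    have zi := z_inv H π hπ hker hz2 hzπ
    have e2 : r = ζ * ζ * r := by
      have : r = z * (z * r * z⁻¹) * z⁻¹ := by
        rw [zi]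
        have : z * (z * r * z) * z = z ^ 2 * r * z ^ 2 := by rw [pow_two]; simp only [mul_assoc]
        rw [this, hz2, one_mul, mul_one]
      conv_lhs => rw [this, e1, ← mul_assoc, ← H.central ζ hζ z, mul_assoc ζ z r,
        mul_assoc ζ (z * r) z⁻¹, e1]
      simp only [mul_assoc]
    have hζ2 : ζ ^ 2 = 1 := by
      have : ζ * ζ * r = 1 * r := by rw [← e2, one_mul]
      rw [pow_two]
      exact mul_right_cancel this
    have hζ1 := eq_one_of_sq_of_cube H hζ2 (H.pow_three_Z hζ)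
    rw [hζ1, one_mul] at e1
    calc z * r = (z * r * z⁻¹) * z := by group
      _ = r * z := by rw [e1]
  · exact h

theorem z_inverts {r : X} (hr : r ∈ R) : z * r * z⁻¹ * r ∈ Z := by
  apply mem_Z_of_cU_eq_zero H h₁ h₂ hne (R.mul_mem (hRn.conj_mem _ hr z) hr)
  rw [cU_mul H h₁ h₂ hne (hRn.conj_mem _ hr z) hr, cU_conj' H h₁ h₂ hne z hr,
    Mh_z H π hπ hker hz2 hzπ hO2 h₁ h₂ hne, mZ_mulVec]
  simp

theorem ker_Mh : (Mh H h₁ h₂ hne).ker = R := by
  apply le_antisymm _ (le_ker_Mh H h₁ h₂ hne)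
  intro x hx
  haveI hn : ((Mh H h₁ h₂ hne).ker.map π).Normal :=
    Subgroup.Normal.map inferInstance π hπ
  have hmZ : mZ ∉ (Mh H h₁ h₂ hne).ker.map π := by
    rintro ⟨y, hy, hyz⟩
    have hyR : y * z⁻¹ ∈ R := by
      rw [← hker, MonoidHom.mem_ker, map_mul, map_inv, hyz, hzπ, mul_inv_cancel]
    have hzk : z ∈ (Mh H h₁ h₂ hne).ker := by
      have := (Mh H h₁ h₂ hne).ker.mul_mem
        ((Mh H h₁ h₂ hne).ker.inv_mem (le_ker_Mh H h₁ h₂ hne hyR)) hy
      have e : (y * z⁻¹)⁻¹ * y = z := by group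
      rwa [e] at this
    rw [MonoidHom.mem_ker, Mh_z H π hπ hker hz2 hzπ hO2 h₁ h₂ hne] at hzk
    exact mZ_facts.2 hzk
  have hbot : (Mh H h₁ h₂ hne).ker.map π = ⊥ := by
    rcases normal_classification ((Mh H h₁ h₂ hne).ker.map π) with h | h | h | h
    · exact h
    · exfalso; apply hmZ; rw [h]; trivial
    · exfalso; apply hmZ; rw [h, center_eq]; exact Subgroup.mem_zpowers mZ
    · exfalso; apply hmZ; rw [h, mem_Q4]
      rw [show (4 : ℕ) = 2 * 2 from rfl, pow_mul, mZ_facts.1, one_pow]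
  have : π x ∈ (Mh H h₁ h₂ hne).ker.map π := Subgroup.mem_map_of_mem π hx
  rw [hbot, Subgroup.mem_bot] at this
  rw [← hker, MonoidHom.mem_ker]
  exact this

end invol

section card

variable {X : Type*} [Group X] {R Z : Subgroup X} (H : IsHeis R Z)
  (π : X →* SL) (hπ : Function.Surjective π) (hker : π.ker = R)
include H hπ hker

theorem card_X : Nat.card X = 648 := by
  have h1 := Subgroup.card_eq_card_quotient_mul_card_subgroup π.ker
  rw [Nat.card_congr (QuotientGroup.quotientKerEquivOfSurjective π hπ).toEquiv, card_SL23, hker,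
    H.card_R] at h1
  exact h1

end card

end Cfsg.Agent.Lib.Helper26.X648
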