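/-
Helper26 library (S3366): a basis inverted by the involution `z`; the elementary abelian subgroup
of order 27 gives an element of order three in `C_X(z)` outside `R`.
-/
import Mathlib
import Cfsg.Agent.Lib.Helper26.X648G

set_option autoImplicit false
set_option linter.unusedSimpArgs false
set_option linter.unusedVariables false
set_option linter.unusedSectionVars false
set_option linter.style.haveILetI false

namespace Cfsg.Agent.Lib.Helper26.X648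

open Cfsg.Agent.Lib.Helper20.SL23

theorem card_eq_card_inf_ker_mul_card_map {G G' : Type*} [Group G] [Group G'] (f : G →* G')
    (C : Subgroup G) :
    Nat.card C = Nat.card (C ⊓ f.ker : Subgroup G) * Nat.card (C.map f) := by
  have h1 : (C ⊓ f.ker).relIndex C = Nat.card (C.map f) := by
    rw [Subgroup.inf_relIndex_left, Subgroup.relIndex_ker]
  have h2 := Subgroup.relIndex_mul_relIndex (H := ⊥) (K := C ⊓ f.ker) (L := C) bot_le inf_le_left
  rw [Subgroup.relIndex_bot_left, Subgroup.relIndex_bot_left, h1] at h2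
  exact h2.symm

set_option maxRecDepth 100000 in
theorem sl_pow8 : ∀ g : SL, g ^ 8 = 1 → g ^ 4 = 1 := by decide

set_option maxRecDepth 100000 in
theorem sl_fix_cube : ∀ v : Fin 2 → ZMod 3, v ≠ 0 → ∀ g : SL, g.1.mulVec v = v → g ^ 3 = 1 := by
  decide

theorem card_dvd_three_of_cube (P : Subgroup SL) (hP : ∀ g ∈ P, g ^ 3 = 1) : Nat.card P ∣ 3 := by
  haveI : Fact (Nat.Prime 3) := ⟨Nat.prime_three⟩
  have hp : IsPGroup 3 P := by
    rintro ⟨g, hg⟩
    exact ⟨1, Subtype.ext (by simpa using hP g hg)⟩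
  obtain ⟨k, hk⟩ := IsPGroup.iff_card.mp hp
  have hdvd : Nat.card P ∣ 24 := by
    have := Subgroup.card_subgroup_dvd_card P
    rwa [card_SL23] at this
  rw [hk] at hdvd ⊢
  have hk1 : k ≤ 1 := by
    by_contra hcon
    push Not at hcon
    have : 3 ^ 2 ∣ 24 := dvd_trans (pow_dvd_pow 3 hcon) hdvd
    omega
  interval_cases k <;> simp

theorem le_nine_of_dvd {n : ℕ} (h : n ∣ 27) (hne : n ≠ 27) : n ≤ 9 := by
  have h27 : (27 : ℕ) = 3 ^ 3 := by norm_num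
  rw [h27] at h
  obtain ⟨k, hk, rfl⟩ := (Nat.dvd_prime_pow Nat.prime_three).mp h
  interval_cases k <;> simp at hne ⊢

section setup

variable {X : Type*} [Group X] {R Z : Subgroup X} (H : IsHeis R Z)
  (π : X →* SL) (hπ : Function.Surjective π) (hker : π.ker = R)
  {z : X} (hz2 : z ^ 2 = 1) (hzπ : π z = mZ) [Finite X] (hO2 : Cfsg.pCore 2 X = ⊥)
  [hRn : R.Normal] {r₁ r₂ : X} (h₁ : r₁ ∈ R) (h₂ : r₂ ∈ R) (hne : cm r₁ r₂ ≠ 1)
include H hπ hker hz2 hzπ hO2 h₁ h₂ hne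

theorem inverted_of_mem {r : X} (hr : r ∈ R) :
    z * (r * (z * r * z⁻¹ * r)) * z⁻¹ = (r * (z * r * z⁻¹ * r))⁻¹ := by
  have hζ := z_inverts H π hπ hker hz2 hzπ hO2 h₁ h₂ hne hr
  obtain ⟨ζ, hζdef⟩ : ∃ ζ, ζ = z * r * z⁻¹ * r := ⟨_, rfl⟩
  rw [← hζdef] at hζ ⊢
  have e1 : z * r * z⁻¹ = ζ * r⁻¹ := by rw [hζdef]; group
  have h3 := H.pow_three_Z hζ
  have hinv : ζ⁻¹ = ζ * ζ := by
    rw [inv_eq_iff_mul_eq_one]
    calc ζ * (ζ * ζ) = ζ ^ 3 := by rw [pow_succ, pow_two, mul_assoc]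
      _ = 1 := h3
  calc z * (r * ζ) * z⁻¹ = (z * r * z⁻¹) * (z * ζ * z⁻¹) := by group
    _ = ζ * r⁻¹ * ζ := by rw [e1, H.conj_central hζ]
    _ = ζ * ζ * r⁻¹ := by rw [mul_assoc, ← H.central ζ hζ r⁻¹, mul_assoc]
    _ = (r * ζ)⁻¹ := by rw [mul_inv_rev, hinv]

theorem exists_inverted_basis :
    ∃ i₁ ∈ R, ∃ i₂ ∈ R, cm i₁ i₂ ≠ 1 ∧ z * i₁ * z⁻¹ = i₁⁻¹ ∧ z * i₂ * z⁻¹ = i₂⁻¹ := by
  have hζ1 := z_inverts H π hπ hker hz2 hzπ hO2 h₁ h₂ hne h₁
  have hζ2 := z_inverts H π hπ hker hz2 hzπ hO2 h₁ h₂ hne h₂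
  refine ⟨r₁ * (z * r₁ * z⁻¹ * r₁), R.mul_mem h₁ (H.le hζ1), r₂ * (z * r₂ * z⁻¹ * r₂),
    R.mul_mem h₂ (H.le hζ2), ?_, inverted_of_mem H π hπ hker hz2 hzπ hO2 h₁ h₂ hne h₁,
    inverted_of_mem H π hπ hker hz2 hzπ hO2 h₁ h₂ hne h₂⟩
  rw [H.cm_mul_left h₁ (H.le hζ1) (R.mul_mem h₂ (H.le hζ2)), H.cm_central_left hζ1, mul_one,
    H.cm_mul_right h₁ h₂ (H.le hζ2), H.cm_central_right hζ2, mul_one]
  exact hne

/-- an element of `R` centralized by `z` lies in `Z`. -/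
theorem mem_Z_of_comm_z {x : X} (hx : x ∈ R) (hxz : z * x = x * z) : x ∈ Z := by
  apply mem_Z_of_cU_eq_zero H h₁ h₂ hne hx
  have e : z * x * z⁻¹ = x := by rw [hxz]; group
  have h := cU_conj' H h₁ h₂ hne z hx
  rw [e, Mh_z H π hπ hker hz2 hzπ hO2 h₁ h₂ hne, mZ_mulVec] at h
  funext i
  have hi := congrFun h i
  simp only [Pi.neg_apply, Pi.zero_apply] at hi ⊢
  have h30 : (3 : ZMod 3) = 0 := by decide
  linear_combination (-1 : ZMod 3) * hi + (cU r₁ r₂ x i) * h30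

theorem card_centralizer_le_27 {a : X} (haR : a ∈ R) (haZ : a ∉ Z) :
    Nat.card (Subgroup.centralizer {a}) ≤ 27 := by
  set C := Subgroup.centralizer ({a} : Set X) with hC
  have hcard := card_eq_card_inf_ker_mul_card_map (Mh H h₁ h₂ hne) C
  rw [ker_Mh H π hπ hker hz2 hzπ hO2 h₁ h₂ hne] at hcard
  haveI : Finite R := Nat.finite_of_card_ne_zero (by rw [H.card_R]; norm_num)
  have h9 : Nat.card (C ⊓ R : Subgroup X) ≤ 9 := by
    apply le_nine_of_dvd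
    · rw [← H.card_R]
      exact Subgroup.card_dvd_of_le inf_le_right
    · intro h27
      have heq : C ⊓ R = R := Subgroup.eq_of_le_of_card_ge inf_le_right (by rw [h27, H.card_R])
      apply haZ
      apply H.max a haR
      intro s hs
      have : s ∈ C := by
        have : s ∈ C ⊓ R := by rw [heq]; exact hs
        exact this.1
      rw [hC, Subgroup.mem_centralizer_singleton_iff] at this
      exact this.symm
  have hv : cU r₁ r₂ a ≠ 0 := fun h0 => haZ (mem_Z_of_cU_eq_zero H h₁ h₂ hne haR h0)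
  have h3 : Nat.card (C.map (Mh H h₁ h₂ hne)) ∣ 3 := by
    apply card_dvd_three_of_cube
    rintro g ⟨x, hx, rfl⟩
    apply sl_fix_cube _ hv
    rw [← cU_conj' H h₁ h₂ hne x haR]
    have hx' : x * a = a * x := Subgroup.mem_centralizer_singleton_iff.mp hx
    rw [hx', mul_inv_cancel_right]
  have h3' := Nat.le_of_dvd (by norm_num) h3
  calc Nat.card C = Nat.card (C ⊓ R : Subgroup X) * Nat.card (C.map (Mh H h₁ h₂ hne)) := hcard
    _ ≤ 9 * 3 := Nat.mul_le_mul h9 h3'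

variable (E : Subgroup X) (hEc : ∀ a ∈ E, ∀ b ∈ E, a * b = b * a) (hE3 : ∀ a ∈ E, a ^ 3 = 1)
  (hEcard : Nat.card E = 27)
include hEc hE3 hEcard

theorem exists_mem_E_R : ∃ a ∈ E, a ∈ R ∧ a ∉ Z := by
  by_contra hcon
  push Not at hcon
  have hle : E ⊓ R ≤ Z := fun a ha => hcon a ha.1 ha.2
  have hcard := card_eq_card_inf_ker_mul_card_map π E
  rw [hker, hEcard] at hcard
  have h3 : Nat.card (E.map π) ∣ 3 := by
    apply card_dvd_three_of_cube
    rintro g ⟨x, hx, rfl⟩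
    rw [← map_pow, hE3 x hx, map_one]
  have h3' := Nat.le_of_dvd (by norm_num) h3
  haveI : Finite Z := Nat.finite_of_card_ne_zero (by rw [H.card_Z]; norm_num)
  have hZ3 := Subgroup.card_le_of_le hle
  rw [H.card_Z] at hZ3
  have : Nat.card (E ⊓ R : Subgroup X) * Nat.card (E.map π) ≤ 3 * 3 := Nat.mul_le_mul hZ3 h3'
  omega

theorem exists_mem_E_not_R : ∃ e₀ ∈ E, e₀ ∉ R := by
  by_contra hcon
  push Not at hcon
  haveI : Finite R := Nat.finite_of_card_ne_zero (by rw [H.card_R]; norm_num)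
  have heq : E = R := Subgroup.eq_of_le_of_card_ge hcon (by rw [hEcard, H.card_R])
  apply hne
  have hc := hEc r₁ (heq ▸ h₁) r₂ (heq ▸ h₂)
  unfold cm
  rw [hc]
  group

theorem exists_d : ∃ d : X, d ^ 3 = 1 ∧ z * d = d * z ∧ d ∉ R := by
  obtain ⟨a, haE, haR, haZ⟩ := exists_mem_E_R H π hπ hker hz2 hzπ hO2 h₁ h₂ hne E hEc hE3 hEcard
  obtain ⟨e₀, he₀, he₀R⟩ := exists_mem_E_not_R H π hπ hker hz2 hzπ hO2 h₁ h₂ hne E hEc hE3 hEcard
  have zi := z_inv H π hπ hker hz2 hzπ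
  haveI : Finite (Subgroup.centralizer ({a} : Set X)) := inferInstance
  have hEC : E = Subgroup.centralizer {a} := by
    apply Subgroup.eq_of_le_of_card_ge
    · intro b hb
      rw [Subgroup.mem_centralizer_singleton_iff]
      exact hEc b hb a haE
    · rw [hEcard]
      exact card_centralizer_le_27 H π hπ hker hz2 hzπ hO2 h₁ h₂ hne haR haZ
  have hζ := z_inverts H π hπ hker hz2 hzπ hO2 h₁ h₂ hne haR
  obtain ⟨ζ, hζdef⟩ : ∃ ζ, ζ = z * a * z⁻¹ * a := ⟨_, rfl⟩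
  rw [← hζdef] at hζ
  -- z e₀ z⁻¹ centralizes a
  have hconj : z * e₀ * z⁻¹ ∈ E := by
    rw [hEC, Subgroup.mem_centralizer_singleton_iff]
    have e1 : z * a * z⁻¹ = ζ * a⁻¹ := by rw [hζdef]; group
    have e2 : a = z * (ζ * a⁻¹) * z⁻¹ := by
      rw [← e1, zi]
      have : z * (z * a * z) * z = z ^ 2 * a * z ^ 2 := by rw [pow_two]; simp only [mul_assoc]
      rw [this, hz2, one_mul, mul_one]
    have hcomm : e₀ * (ζ * a⁻¹) = (ζ * a⁻¹) * e₀ := by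
      have h1 : e₀ * a⁻¹ = a⁻¹ * e₀ := by
        have := hEc e₀ he₀ a haE
        calc e₀ * a⁻¹ = a⁻¹ * (a * e₀) * a⁻¹ := by group
          _ = a⁻¹ * (e₀ * a) * a⁻¹ := by rw [this]
          _ = a⁻¹ * e₀ := by group
      rw [← mul_assoc, ← H.central ζ hζ e₀, mul_assoc, h1, mul_assoc]
    conv_lhs => rw [e2]
    conv_rhs => rw [e2]
    calc z * e₀ * z⁻¹ * (z * (ζ * a⁻¹) * z⁻¹) = z * (e₀ * (ζ * a⁻¹)) * z⁻¹ := by group
      _ = z * ((ζ * a⁻¹) * e₀) * z⁻¹ := by rw [hcomm]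
      _ = z * (ζ * a⁻¹) * z⁻¹ * (z * e₀ * z⁻¹) := by group
  have hcomm := hEc e₀ he₀ _ hconj
  refine ⟨e₀ * (z * e₀ * z⁻¹), ?_, ?_, ?_⟩
  · rw [(show Commute e₀ (z * e₀ * z⁻¹) from hcomm).mul_pow, hE3 e₀ he₀, conj_pow, hE3 e₀ he₀]
    group
  · rw [zi]
    calc z * (e₀ * (z * e₀ * z)) = (z * e₀ * z) * (z ^ 2 * e₀ * z ^ 2) * z⁻¹ := by
          rw [hz2, one_mul, mul_one, zi]; simp only [mul_assoc]
      _ = (z * e₀ * z) * e₀ * z := by rw [hz2, one_mul, mul_one, zi]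
      _ = e₀ * (z * e₀ * z) * z := by rw [zi] at hcomm; rw [hcomm]
  · intro hd
    rw [← hker, MonoidHom.mem_ker] at hd he₀R
    apply he₀R
    simp only [map_mul, map_inv, hzπ] at hd
    have e : mZ * π e₀ * mZ⁻¹ = π e₀ := by rw [← mZ_central, mul_inv_cancel_right]
    rw [e] at hd
    have h3 : π e₀ ^ 3 = 1 := by rw [← map_pow, hE3 e₀ he₀, map_one]
    calc π e₀ = (π e₀) ^ 3 * (π e₀ * π e₀)⁻¹ := by group
      _ = 1 := by rw [h3, hd]; simp

end setup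

end Cfsg.Agent.Lib.Helper26.X648
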