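/-
Helper26 library (S3366): with a basis inverted by `z`, elements of `C_X(z)` act linearly on the
Heisenberg coordinates; a complement `K ≅ SL₂(3)` to `R` inside `C_X(z)`.
-/
import Mathlib
import Cfsg.Agent.Lib.Helper26.X648H

set_option autoImplicit false
set_option linter.unusedSimpArgs false
set_option linter.unusedVariables false
set_option linter.unusedSectionVars false
set_option linter.style.haveILetI false

namespace Cfsg.Agent.Lib.Helper26.X648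

open Cfsg.Agent.Lib.Helper20.SL23

section setup

variable {X : Type*} [Group X] {R Z : Subgroup X} (H : IsHeis R Z)
  (π : X →* SL) (hπ : Function.Surjective π) (hker : π.ker = R)
  {z : X} (hz2 : z ^ 2 = 1) (hzπ : π z = mZ) [Finite X] (hO2 : Cfsg.pCore 2 X = ⊥)
  [hRn : R.Normal] {r₁ r₂ : X} (h₁ : r₁ ∈ R) (h₂ : r₂ ∈ R) (hne : cm r₁ r₂ ≠ 1)
  (hi₁ : z * r₁ * z⁻¹ = r₁⁻¹) (hi₂ : z * r₂ * z⁻¹ = r₂⁻¹)
include H hπ hker hz2 hzπ hO2 h₁ h₂ hne hi₁ hi₂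

theorem z_hei (u : Fin 2 → ZMod 3) (s : ZMod 3) :
    z * hei r₁ r₂ u s * z⁻¹ = hei r₁ r₂ (-u) s := by
  unfold hei
  have e : z * (zp r₁ (u 0) * zp r₂ (u 1) * zp (cm r₁ r₂) (u 0 * u 1 - s)) * z⁻¹ =
      (z * zp r₁ (u 0) * z⁻¹) * (z * zp r₂ (u 1) * z⁻¹) *
        (z * zp (cm r₁ r₂) (u 0 * u 1 - s) * z⁻¹) := by group
  rw [e, conj_zp, conj_zp, hi₁, hi₂, zp_inv (H.exp _ h₁), zp_inv (H.exp _ h₂),
    H.conj_central (zp_mem (H.cm_mem h₁ h₂) _)]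
  simp only [Pi.neg_apply, neg_mul_neg]

theorem cS_eq_zero_of_inverted {r : X} (hr : r ∈ R) (hinv : z * r * z⁻¹ = r⁻¹) :
    cS r₁ r₂ r = 0 := by
  have h := hei_coords H h₁ h₂ hne hr
  rw [← h, z_hei H π hπ hker hz2 hzπ hO2 h₁ h₂ hne hi₁ hi₂, hei_inv H h₁ h₂] at hinv
  have h2 := (hei_injective H h₁ h₂ hne hinv).2
  have h30 : (3 : ZMod 3) = 0 := by decide
  linear_combination (-1 : ZMod 3) * h2 + (cS r₁ r₂ r) * h30

theorem conj_hei {n : X} (hn : z * n = n * z) (u : Fin 2 → ZMod 3) (s : ZMod 3) :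
    n * hei r₁ r₂ u s * n⁻¹ = hei r₁ r₂ ((Mh H h₁ h₂ hne n).1.mulVec u) s := by
  have hw : n * hei r₁ r₂ u 0 * n⁻¹ ∈ R := hRn.conj_mem _ (hei_mem H h₁ h₂ u 0) n
  have hn' : z * n⁻¹ = n⁻¹ * z := by
    calc z * n⁻¹ = n⁻¹ * (n * z) * n⁻¹ := by group
      _ = n⁻¹ * (z * n) * n⁻¹ := by rw [hn]
      _ = n⁻¹ * z := by group
  have hinv : z * (n * hei r₁ r₂ u 0 * n⁻¹) * z⁻¹ = (n * hei r₁ r₂ u 0 * n⁻¹)⁻¹ := by
    have e1 : z * (n * hei r₁ r₂ u 0 * n⁻¹) * z⁻¹ = n * (z * hei r₁ r₂ u 0 * z⁻¹) * n⁻¹ := by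
      calc z * (n * hei r₁ r₂ u 0 * n⁻¹) * z⁻¹
          = (z * n) * hei r₁ r₂ u 0 * (z * n)⁻¹ := by group
        _ = (n * z) * hei r₁ r₂ u 0 * (n * z)⁻¹ := by rw [hn]
        _ = n * (z * hei r₁ r₂ u 0 * z⁻¹) * n⁻¹ := by group
    rw [e1, z_hei H π hπ hker hz2 hzπ hO2 h₁ h₂ hne hi₁ hi₂]
    have e2 : hei r₁ r₂ (-u) 0 = (hei r₁ r₂ u 0)⁻¹ := by
      rw [hei_inv H h₁ h₂, neg_zero]
    rw [e2]
    group
  have hS := cS_eq_zero_of_inverted H π hπ hker hz2 hzπ hO2 h₁ h₂ hne hi₁ hi₂ hw hinv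
  have hU := cU_conj' H h₁ h₂ hne n (hei_mem H h₁ h₂ u 0)
  rw [cU_hei H h₁ h₂ hne] at hU
  have hwe := hei_coords H h₁ h₂ hne hw
  rw [hS, hU] at hwe
  have hz : zp (cm r₁ r₂) (-s) ∈ Z := zp_mem (H.cm_mem h₁ h₂) _
  rw [hei_split H h₁ h₂ u s, hei_split H h₁ h₂ _ s, hwe]
  calc n * (hei r₁ r₂ u 0 * zp (cm r₁ r₂) (-s)) * n⁻¹
      = (n * hei r₁ r₂ u 0 * n⁻¹) * (n * zp (cm r₁ r₂) (-s) * n⁻¹) := by group
    _ = (n * hei r₁ r₂ u 0 * n⁻¹) * zp (cm r₁ r₂) (-s) := by rw [H.conj_central hz]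

end setup

section complement

variable {X : Type*} [Group X] {R Z : Subgroup X} (H : IsHeis R Z)
  (π : X →* SL) (hπ : Function.Surjective π) (hker : π.ker = R)
  {z : X} (hz2 : z ^ 2 = 1) (hzπ : π z = mZ) [Finite X] (hO2 : Cfsg.pCore 2 X = ⊥)
  [hRn : R.Normal] {r₁ r₂ : X} (h₁ : r₁ ∈ R) (h₂ : r₂ ∈ R) (hne : cm r₁ r₂ ≠ 1)
include H hπ hker hz2 hzπ hO2 h₁ h₂ hne

theorem mem_R_iff (x : X) : x ∈ R ↔ Mh H h₁ h₂ hne x = 1 := by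
  rw [← MonoidHom.mem_ker, ker_Mh H π hπ hker hz2 hzπ hO2 h₁ h₂ hne]

theorem exists_T : ∃ T : Subgroup X, Nat.card T = 8 ∧ z ∈ T := by
  haveI : Fact (Nat.Prime 2) := ⟨Nat.prime_two⟩
  have hp : IsPGroup 2 (Subgroup.zpowers z) := by
    rintro ⟨g, hg⟩
    obtain ⟨k, rfl⟩ := Subgroup.mem_zpowers_iff.mp hg
    refine ⟨1, Subtype.ext ?_⟩
    show (z ^ k) ^ 2 ^ 1 = 1
    rw [pow_one, ← zpow_natCast, ← zpow_mul, mul_comm, zpow_mul, zpow_natCast]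
    simp [hz2]
  obtain ⟨T, hT⟩ := hp.exists_le_sylow
  refine ⟨T, ?_, hT (Subgroup.mem_zpowers z)⟩
  rw [Sylow.card_eq_multiplicity, card_X H π hπ hker]
  have : (648 : ℕ) = 2 ^ 3 * 3 ^ 4 := by norm_num
  rw [this, Nat.factorization_mul (by norm_num) (by norm_num),
    Nat.Prime.factorization_pow Nat.prime_two, Nat.Prime.factorization_pow Nat.prime_three]
  simp

variable {T : Subgroup X} (hT8 : Nat.card T = 8) (hzT : z ∈ T)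
include hT8 hzT

theorem pow_eight_T {t : X} (ht : t ∈ T) : t ^ 8 = 1 := by
  have := pow_card_eq_one' (G := T) (x := ⟨t, ht⟩)
  rw [hT8] at this
  exact congrArg Subtype.val this

theorem T_inf_R : T ⊓ R = ⊥ := by
  apply disjoint_iff.mp
  apply Subgroup.disjoint_of_coprime_natCard
  rw [hT8, H.card_R]
  norm_num

theorem Mh_inj_on_T {t t' : X} (ht : t ∈ T) (ht' : t' ∈ T)
    (h : Mh H h₁ h₂ hne t = Mh H h₁ h₂ hne t') : t = t' := by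
  have hR : t * t'⁻¹ ∈ R := by
    rw [mem_R_iff H π hπ hker hz2 hzπ hO2 h₁ h₂ hne, map_mul, map_inv, h, mul_inv_cancel]
  have h1 : t * t'⁻¹ ∈ T ⊓ R := ⟨T.mul_mem ht (T.inv_mem ht'), hR⟩
  rw [T_inf_R H π hπ hker hz2 hzπ hO2 h₁ h₂ hne hT8 hzT, Subgroup.mem_bot] at h1
  exact mul_inv_eq_one.mp h1

theorem T_map : T.map (Mh H h₁ h₂ hne) = Q4 := by
  haveI : Finite Q4 := inferInstance
  apply Subgroup.eq_of_le_of_card_ge
  · rintro g ⟨t, ht, rfl⟩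
    rw [mem_Q4]
    apply sl_pow8
    rw [← map_pow, pow_eight_T H π hπ hker hz2 hzπ hO2 h₁ h₂ hne hT8 hzT ht, map_one]
  · rw [card_Q4]
    have hc := card_eq_card_inf_ker_mul_card_map (Mh H h₁ h₂ hne) T
    rw [ker_Mh H π hπ hker hz2 hzπ hO2 h₁ h₂ hne,
      T_inf_R H π hπ hker hz2 hzπ hO2 h₁ h₂ hne hT8 hzT, hT8, Subgroup.card_bot, one_mul] at hc
    rw [← hc]

theorem T_comm_z {t : X} (ht : t ∈ T) : z * t = t * z := by
  have h1 : t * z * t⁻¹ ∈ T := T.mul_mem (T.mul_mem ht hzT) (T.inv_mem ht)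
  have h2 : Mh H h₁ h₂ hne (t * z * t⁻¹) = Mh H h₁ h₂ hne z := by
    rw [map_mul, map_mul, map_inv, Mh_z H π hπ hker hz2 hzπ hO2 h₁ h₂ hne, mZ_central,
      mul_inv_cancel_right]
  have h3 := Mh_inj_on_T H π hπ hker hz2 hzπ hO2 h₁ h₂ hne hT8 hzT h1 hzT h2
  calc z * t = (t * z * t⁻¹) * t := by rw [h3]
    _ = t * z := by group

theorem T_normalized {n : X} (hn : z * n = n * z) {t : X} (ht : t ∈ T) : n * t * n⁻¹ ∈ T := by
  have hQ : Mh H h₁ h₂ hne (n * t * n⁻¹) ∈ Q4 := by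
    rw [map_mul, map_mul, map_inv]
    apply Q4_normal.conj_mem
    rw [← T_map H π hπ hker hz2 hzπ hO2 h₁ h₂ hne hT8 hzT]
    exact Subgroup.mem_map_of_mem _ ht
  rw [← T_map H π hπ hker hz2 hzπ hO2 h₁ h₂ hne hT8 hzT] at hQ
  obtain ⟨t', ht', hmt⟩ := hQ
  obtain ⟨ζ, hζdef⟩ : ∃ ζ, ζ = n * t * n⁻¹ * t'⁻¹ := ⟨_, rfl⟩
  have hζR : ζ ∈ R := by
    rw [mem_R_iff H π hπ hker hz2 hzπ hO2 h₁ h₂ hne, hζdef, map_mul, ← hmt,
      map_inv, mul_inv_cancel]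
  have htz := T_comm_z H π hπ hker hz2 hzπ hO2 h₁ h₂ hne hT8 hzT ht
  have htz' := T_comm_z H π hπ hker hz2 hzπ hO2 h₁ h₂ hne hT8 hzT ht'
  have hζz : z * ζ = ζ * z := by
    have c1 : Commute z n := hn
    have c2 : Commute z t := htz
    have c3 : Commute z t' := htz'
    rw [hζdef]
    exact (((c1.mul_right c2).mul_right c1.inv_right).mul_right c3.inv_right).eq
  have hζZ := mem_Z_of_comm_z H π hπ hker hz2 hzπ hO2 h₁ h₂ hne hζR hζz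
  have e : n * t * n⁻¹ = ζ * t' := by rw [hζdef]; group
  have h8 : (n * t * n⁻¹) ^ 8 = 1 := by
    rw [conj_pow, pow_eight_T H π hπ hker hz2 hzπ hO2 h₁ h₂ hne hT8 hzT ht]; group
  have hcom : Commute ζ t' := H.central ζ hζZ t'
  rw [e, hcom.mul_pow, pow_eight_T H π hπ hker hz2 hzπ hO2 h₁ h₂ hne hT8 hzT ht', mul_one] at h8
  have h3 := H.pow_three_Z hζZ
  have hζ1 : ζ = 1 := by
    calc ζ = (ζ ^ 3) ^ 3 * (ζ ^ 8)⁻¹ := by rw [← pow_mul]; group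
      _ = 1 := by rw [h3, h8]; simp
  rw [e, hζ1, one_mul]
  exact ht'

variable {d : X} (hd3 : d ^ 3 = 1) (hdz : z * d = d * z) (hdR : d ∉ R)
include hd3 hdz hdR

theorem zp_d_comm (j : ZMod 3) : z * zp d j = zp d j * z :=
  (zp_commute hdz.symm j).symm

theorem exists_K : ∃ K : Subgroup X, (∀ k ∈ K, z * k = k * z) ∧ K ⊓ R = ⊥ ∧
    K.map (Mh H h₁ h₂ hne) = ⊤ := by
  have hnorm : ∀ j : ZMod 3, ∀ t ∈ T, zp d j * t * (zp d j)⁻¹ ∈ T := fun j t ht =>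
    T_normalized H π hπ hker hz2 hzπ hO2 h₁ h₂ hne hT8 hzT
      (zp_d_comm H π hπ hker hz2 hzπ hO2 h₁ h₂ hne hT8 hzT hd3 hdz hdR j) ht
  let K : Subgroup X :=
    { carrier := {x | ∃ t ∈ T, ∃ j : ZMod 3, x = t * zp d j}
      one_mem' := ⟨1, T.one_mem, 0, by rw [zp_zero, one_mul]⟩
      mul_mem' := by
        rintro _ _ ⟨t, ht, i, rfl⟩ ⟨t', ht', j, rfl⟩
        refine ⟨t * (zp d i * t' * (zp d i)⁻¹), T.mul_mem ht (hnorm i t' ht'), i + j, ?_⟩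
        rw [zp_add hd3]
        group
      inv_mem' := by
        rintro _ ⟨t, ht, i, rfl⟩
        refine ⟨zp d (-i) * t⁻¹ * (zp d (-i))⁻¹, hnorm (-i) _ (T.inv_mem ht), -i, ?_⟩
        rw [zp_neg hd3]
        group }
  have hMd1 : Mh H h₁ h₂ hne d ≠ 1 := by
    intro h
    apply hdR
    rw [mem_R_iff H π hπ hker hz2 hzπ hO2 h₁ h₂ hne]
    exact h
  have hMd3 : (Mh H h₁ h₂ hne d) ^ 3 = 1 := by rw [← map_pow, hd3, map_one]
  refine ⟨K, ?_, ?_, ?_⟩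
  · rintro _ ⟨t, ht, j, rfl⟩
    have c1 : Commute z t := T_comm_z H π hπ hker hz2 hzπ hO2 h₁ h₂ hne hT8 hzT ht
    have c2 : Commute z (zp d j) :=
      zp_d_comm H π hπ hker hz2 hzπ hO2 h₁ h₂ hne hT8 hzT hd3 hdz hdR j
    exact (c1.mul_right c2).eq
  · rw [eq_bot_iff]
    rintro x ⟨⟨t, ht, j, rfl⟩, hxR'⟩
    have hxR : t * zp d j ∈ R := hxR'
    rw [mem_R_iff H π hπ hker hz2 hzπ hO2 h₁ h₂ hne, map_mul] at hxR
    have hMj : Mh H h₁ h₂ hne (zp d j) = zp (Mh H h₁ h₂ hne d) j := by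
      unfold zp
      rw [map_pow]
    have hQ : zp (Mh H h₁ h₂ hne d) j ∈ Q4 := by
      have : zp (Mh H h₁ h₂ hne d) j = (Mh H h₁ h₂ hne t)⁻¹ := by
        rw [← hMj]
        exact eq_inv_of_mul_eq_one_right hxR
      rw [this]
      apply Q4.inv_mem
      rw [← T_map H π hπ hker hz2 hzπ hO2 h₁ h₂ hne hT8 hzT]
      exact Subgroup.mem_map_of_mem _ ht
    rw [mem_Q4] at hQ
    have h4 : zp (Mh H h₁ h₂ hne d) j ^ 4 = zp (Mh H h₁ h₂ hne d) j := by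
      rw [pow_succ, zp_pow_three hMd3, one_mul]
    rw [h4] at hQ
    have hj := zp_eq_one hMd3 hMd1 hQ
    subst hj
    rw [zp_zero, map_one, mul_one] at hxR
    rw [zp_zero, mul_one]
    have htR : t ∈ R := by
      rw [mem_R_iff H π hπ hker hz2 hzπ hO2 h₁ h₂ hne]
      exact hxR
    have : t ∈ T ⊓ R := ⟨ht, htR⟩
    rwa [T_inf_R H π hπ hker hz2 hzπ hO2 h₁ h₂ hne hT8 hzT] at this
  · rw [eq_top_iff]
    intro y _
    have hx4 : (Mh H h₁ h₂ hne d) ^ 4 ≠ 1 := by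
      rw [pow_succ, hMd3, one_mul]
      exact hMd1
    have hTmap := T_map H π hπ hker hz2 hzπ hO2 h₁ h₂ hne hT8 hzT
    obtain ⟨q, hq, hy⟩ := sl_Q4_mul_zpowers _ hx4 y
    have hq' : q ∈ T.map (Mh H h₁ h₂ hne) := by rw [hTmap]; exact hq
    obtain ⟨t, ht, rfl⟩ := hq'
    rcases hy with rfl | rfl | rfl
    · exact ⟨t, ⟨t, ht, 0, by rw [zp_zero, mul_one]⟩, rfl⟩
    · refine ⟨t * zp d 2, ⟨t, ht, 2, rfl⟩, ?_⟩
      rw [map_mul, zp_two, map_pow]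
    · refine ⟨t * zp d 1, ⟨t, ht, 1, rfl⟩, ?_⟩
      rw [map_mul, zp_one, pow_succ, hMd3, one_mul]

theorem exists_section : ∃ σ : SL →* X, (∀ g, Mh H h₁ h₂ hne (σ g) = g) ∧
    (∀ g, z * σ g = σ g * z) := by
  obtain ⟨K, hKz, hKR, hKM⟩ :=
    exists_K H π hπ hker hz2 hzπ hO2 h₁ h₂ hne hT8 hzT hd3 hdz hdR
  have hex : ∀ g : SL, ∃ k ∈ K, Mh H h₁ h₂ hne k = g := by
    intro g
    have : g ∈ K.map (Mh H h₁ h₂ hne) := by rw [hKM]; trivial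
    exact this
  have hinj : ∀ k ∈ K, ∀ k' ∈ K, Mh H h₁ h₂ hne k = Mh H h₁ h₂ hne k' → k = k' := by
    intro k hk k' hk' h
    have hR : k * k'⁻¹ ∈ R := by
      rw [mem_R_iff H π hπ hker hz2 hzπ hO2 h₁ h₂ hne, map_mul, map_inv, h, mul_inv_cancel]
    have h1 : k * k'⁻¹ ∈ K ⊓ R := ⟨K.mul_mem hk (K.inv_mem hk'), hR⟩
    rw [hKR, Subgroup.mem_bot] at h1
    exact mul_inv_eq_one.mp h1
  choose σ hσK hσM using hex
  refine ⟨MonoidHom.mk' σ ?_, hσM, fun g => hKz _ (hσK g)⟩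
  intro g h
  apply hinj _ (hσK _) _ (K.mul_mem (hσK g) (hσK h))
  rw [hσM, map_mul, hσM, hσM]

end complement

end Cfsg.Agent.Lib.Helper26.X648
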