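/-
Helper26 library (S3366): the isomorphism of `X` with the centralizer of the central
transvection in `PSp₄(3)`.
-/
import Mathlib
import Cfsg.Agent.Lib.Helper26.X648C
import Cfsg.Agent.Lib.Helper26.X648I

set_option autoImplicit false
set_option linter.unusedSimpArgs false
set_option linter.unusedVariables false
set_option linter.unusedSectionVars false
set_option linter.style.haveILetI false

namespace Cfsg.Agent.Lib.Helper26.X648

open Cfsg.Agent.Lib.Helper20.SL23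

/-- the `R`-part of an element with respect to the section `σ`. -/
noncomputable def rho {X : Type*} [Group X] {R Z : Subgroup X} (H : IsHeis R Z) [R.Normal]
    {r₁ r₂ : X} (h₁ : r₁ ∈ R) (h₂ : r₂ ∈ R) (hne : cm r₁ r₂ ≠ 1) (σ : SL →* X) (x : X) : X :=
  x * (σ (Mh H h₁ h₂ hne x))⁻¹

/-- the ring homomorphism `ZMod 3 → F`. -/
noncomputable def phi {F : Type*} [Field F] [Fintype F] (hF : Fintype.card F = 3) :
    ZMod 3 →+* F := by
  haveI : Fact (Nat.Prime 3) := ⟨Nat.prime_three⟩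
  haveI : CharP F 3 := charP_of_card_eq_prime hF
  exact ZMod.castHom (dvd_refl 3) F

theorem phi_injective {F : Type*} [Field F] [Fintype F] (hF : Fintype.card F = 3) :
    Function.Injective (phi hF) := (phi hF).injective

/-- the map to `Sp₄(F)`. -/
noncomputable def PhiFun {X : Type*} [Group X] {R Z : Subgroup X} (H : IsHeis R Z) [R.Normal]
    {r₁ r₂ : X} (h₁ : r₁ ∈ R) (h₂ : r₂ ∈ R) (hne : cm r₁ r₂ ≠ 1) (σ : SL →* X)
    {F : Type*} [Field F] [Fintype F] (hF : Fintype.card F = 3) (x : X) : Sp4 F :=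
  gSp (fun i => phi hF (cU r₁ r₂ (rho H h₁ h₂ hne σ x) i)) (phi hF (cS r₁ r₂ (rho H h₁ h₂ hne σ x)))
    (Matrix.SpecialLinearGroup.map (phi hF) (Mh H h₁ h₂ hne x))

section final

variable {X : Type*} [Group X] {R Z : Subgroup X} (H : IsHeis R Z)
  (π : X →* SL) (hπ : Function.Surjective π) (hker : π.ker = R)
  {z : X} (hz2 : z ^ 2 = 1) (hzπ : π z = mZ) [Finite X] (hO2 : Cfsg.pCore 2 X = ⊥)
  [hRn : R.Normal] {r₁ r₂ : X} (h₁ : r₁ ∈ R) (h₂ : r₂ ∈ R) (hne : cm r₁ r₂ ≠ 1)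
  (hi₁ : z * r₁ * z⁻¹ = r₁⁻¹) (hi₂ : z * r₂ * z⁻¹ = r₂⁻¹)
  {σ : SL →* X} (hσM : ∀ g, Mh H h₁ h₂ hne (σ g) = g) (hσz : ∀ g, z * σ g = σ g * z)
include π hπ hker hz2 hzπ hO2 hi₁ hi₂ hσM hσz

theorem rho_mem (x : X) : rho H h₁ h₂ hne σ x ∈ R := by
  rw [mem_R_iff H π hπ hker hz2 hzπ hO2 h₁ h₂ hne, rho, map_mul, map_inv, hσM, mul_inv_cancel]

theorem rho_mul (x y : X) :
    rho H h₁ h₂ hne σ (x * y) = rho H h₁ h₂ hne σ x *
      (σ (Mh H h₁ h₂ hne x) * rho H h₁ h₂ hne σ y * (σ (Mh H h₁ h₂ hne x))⁻¹) := by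
  unfold rho
  rw [map_mul, map_mul]
  group

theorem conj_section (g : SL) {r : X} (hr : r ∈ R) :
    σ g * r * (σ g)⁻¹ = hei r₁ r₂ (g.1.mulVec (cU r₁ r₂ r)) (cS r₁ r₂ r) := by
  have h := conj_hei H π hπ hker hz2 hzπ hO2 h₁ h₂ hne hi₁ hi₂ (hσz g) (cU r₁ r₂ r) (cS r₁ r₂ r)
  rw [hei_coords H h₁ h₂ hne hr, hσM] at h
  exact h

theorem cU_rho_mul (x y : X) :
    cU r₁ r₂ (rho H h₁ h₂ hne σ (x * y)) = cU r₁ r₂ (rho H h₁ h₂ hne σ x) +
      (Mh H h₁ h₂ hne x).1.mulVec (cU r₁ r₂ (rho H h₁ h₂ hne σ y)) := by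
  have hx := rho_mem H π hπ hker hz2 hzπ hO2 h₁ h₂ hne hi₁ hi₂ hσM hσz x
  have hy := rho_mem H π hπ hker hz2 hzπ hO2 h₁ h₂ hne hi₁ hi₂ hσM hσz y
  rw [rho_mul H π hπ hker hz2 hzπ hO2 h₁ h₂ hne hi₁ hi₂ hσM hσz,
    cU_mul H h₁ h₂ hne hx (hRn.conj_mem _ hy _),
    conj_section H π hπ hker hz2 hzπ hO2 h₁ h₂ hne hi₁ hi₂ hσM hσz _ hy, cU_hei H h₁ h₂ hne]

theorem cS_rho_mul (x y : X) :
    cS r₁ r₂ (rho H h₁ h₂ hne σ (x * y)) = cS r₁ r₂ (rho H h₁ h₂ hne σ x) +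
      cS r₁ r₂ (rho H h₁ h₂ hne σ y) + om (cU r₁ r₂ (rho H h₁ h₂ hne σ x))
      ((Mh H h₁ h₂ hne x).1.mulVec (cU r₁ r₂ (rho H h₁ h₂ hne σ y))) := by
  have hx := rho_mem H π hπ hker hz2 hzπ hO2 h₁ h₂ hne hi₁ hi₂ hσM hσz x
  have hy := rho_mem H π hπ hker hz2 hzπ hO2 h₁ h₂ hne hi₁ hi₂ hσM hσz y
  rw [rho_mul H π hπ hker hz2 hzπ hO2 h₁ h₂ hne hi₁ hi₂ hσM hσz,
    cS_mul H h₁ h₂ hne hx (hRn.conj_mem _ hy _),
    conj_section H π hπ hker hz2 hzπ hO2 h₁ h₂ hne hi₁ hi₂ hσM hσz _ hy, cS_hei H h₁ h₂ hne,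
    cU_hei H h₁ h₂ hne]

variable {F : Type*} [Field F] [Fintype F] (hF : Fintype.card F = 3)
include hF

theorem PhiFun_mul (x y : X) :
    PhiFun H h₁ h₂ hne σ hF (x * y) = PhiFun H h₁ h₂ hne σ hF x * PhiFun H h₁ h₂ hne σ hF y := by
  unfold PhiFun
  rw [gSp_mul, map_mul, map_mul]
  have hvec : ∀ v : Fin 2 → ZMod 3, (fun i => phi hF ((Mh H h₁ h₂ hne x).1.mulVec v i)) =
      Matrix.mulVec (Matrix.SpecialLinearGroup.map (phi hF) (Mh H h₁ h₂ hne x)).1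
        (fun i => phi hF (v i)) := by
    intro v
    funext i
    rw [RingHom.map_mulVec]
    rfl
  congr 1
  · rw [cU_rho_mul H π hπ hker hz2 hzπ hO2 h₁ h₂ hne hi₁ hi₂ hσM hσz, ← hvec]
    funext i
    simp only [Pi.add_apply, map_add]
  · rw [cS_rho_mul H π hπ hker hz2 hzπ hO2 h₁ h₂ hne hi₁ hi₂ hσM hσz, ← hvec]
    simp only [om, map_add, map_sub, map_mul]

theorem PhiFun_eq_one {x : X} (hx : PhiFun H h₁ h₂ hne σ hF x = 1) : x = 1 := by
  unfold PhiFun at hx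
  rw [← gSp_one] at hx
  obtain ⟨hu, hs, hM⟩ := gSp_inj hx
  have hU : cU r₁ r₂ (rho H h₁ h₂ hne σ x) = 0 := by
    funext i
    have := congrFun hu i
    simp only [Pi.zero_apply] at this ⊢
    exact phi_injective hF (by rw [this, map_zero])
  have hS : cS r₁ r₂ (rho H h₁ h₂ hne σ x) = 0 :=
    phi_injective hF (by rw [hs, map_zero])
  have hM1 : Mh H h₁ h₂ hne x = 1 := by
    apply Subtype.ext
    ext i j
    have := congrFun (congrFun (congrArg Subtype.val hM) i) j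
    simp only [Matrix.SpecialLinearGroup.map_apply_coe, RingHom.mapMatrix_apply,
      Matrix.map_apply, Matrix.SpecialLinearGroup.coe_one] at this
    apply phi_injective hF
    rw [this, Matrix.SpecialLinearGroup.coe_one]
    by_cases hij : i = j
    · subst hij; simp
    · simp [hij]
  have hr := hei_coords H h₁ h₂ hne
    (rho_mem H π hπ hker hz2 hzπ hO2 h₁ h₂ hne hi₁ hi₂ hσM hσz x)
  rw [hU, hS, hei_zero H h₁ h₂] at hr
  have : x = rho H h₁ h₂ hne σ x * σ (Mh H h₁ h₂ hne x) := by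
    unfold rho; group
  rw [this, ← hr, hM1, map_one, mul_one]

theorem exists_iso :
    Nonempty (X ≃* Subgroup.centralizer ({cBar F} : Set (Cfsg.PSp 2 F))) := by
  let Ψ : X →* Subgroup.centralizer ({cBar F} : Set (Cfsg.PSp 2 F)) :=
    MonoidHom.mk' (fun x => ⟨QuotientGroup.mk (PhiFun H h₁ h₂ hne σ hF x),
      mk_gSp_mem_centralizer _ _ _⟩) (by
        intro x y
        apply Subtype.ext
        show (QuotientGroup.mk (PhiFun H h₁ h₂ hne σ hF (x * y)) : Cfsg.PSp 2 F) =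
          QuotientGroup.mk (PhiFun H h₁ h₂ hne σ hF x) * QuotientGroup.mk (PhiFun H h₁ h₂ hne σ hF y)
        rw [PhiFun_mul H π hπ hker hz2 hzπ hO2 h₁ h₂ hne hi₁ hi₂ hσM hσz hF]
        rfl)
  have hinj : Function.Injective Ψ := by
    rw [injective_iff_map_eq_one]
    intro x hx
    have h1 : (QuotientGroup.mk (PhiFun H h₁ h₂ hne σ hF x) : Cfsg.PSp 2 F) = 1 :=
      congrArg Subtype.val hx
    rw [QuotientGroup.eq_one_iff] at h1
    apply PhiFun_eq_one H π hπ hker hz2 hzπ hO2 h₁ h₂ hne hi₁ hi₂ hσM hσz hF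
    rcases Cfsg.Agent.S0246.center_scalar 2 (by norm_num) _ h1 with h | h
    · exact Subtype.ext h
    · exfalso
      have := congrFun (congrFun h (Sum.inl 0)) (Sum.inl 0)
      unfold PhiFun at this
      rw [gSp_val, gMat_apply_inl0_inl0] at this
      simp at this
      have h2 : (2 : F) = 0 := by linear_combination this
      exact two_ne_zero' hF h2
  have hbij : Function.Bijective Ψ := by
    apply Function.Injective.bijective_of_nat_card_le hinj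
    rw [card_X H π hπ hker]
    exact card_centralizer_le hF
  exact ⟨MulEquiv.ofBijective Ψ hbij⟩

end final

end Cfsg.Agent.Lib.Helper26.X648
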