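/-
Helper26 library (S3366): Sylow 3-subgroup containing the 3-central element; extraction of the
abstract data from the hypotheses.
-/
import Mathlib
import Cfsg.Prelude.Def_Transfer
import Cfsg.Agent.Lib.Helper26.X648J

set_option autoImplicit false
set_option linter.unusedSimpArgs false
set_option linter.unusedVariables false
set_option linter.unusedSectionVars false
set_option linter.style.haveILetI false

namespace Cfsg.Agent.Lib.Helper26.X648

open Cfsg.Agent.Lib.Helper20.SL23
open scoped commutatorElement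

theorem factorization_648 : (648 : ℕ).factorization 3 = 4 := by
  have : (648 : ℕ) = 2 ^ 3 * 3 ^ 4 := by norm_num
  rw [this, Nat.factorization_mul (by norm_num) (by norm_num),
    Nat.Prime.factorization_pow Nat.prime_two, Nat.Prime.factorization_pow Nat.prime_three]
  simp

theorem factorization_25920 : (25920 : ℕ).factorization 3 = 4 := by
  have : (25920 : ℕ) = 2 ^ 6 * 3 ^ 4 * 5 := by norm_num
  rw [this, Nat.factorization_mul (by norm_num) (by norm_num),
    Nat.factorization_mul (by norm_num) (by norm_num),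
    Nat.Prime.factorization_pow Nat.prime_two, Nat.Prime.factorization_pow Nat.prime_three,
    Nat.Prime.factorization Nat.prime_five]
  simp

theorem exists_sylow {G : Type*} [Group G] [Finite G] (hG : Nat.card G = 25920) (c : G)
    (hc : c ^ 3 = 1) (hC : Nat.card (Subgroup.centralizer ({c} : Set G)) = 648) :
    ∃ S : Sylow 3 G, c ∈ (S : Subgroup G) ∧
      c ∈ Subgroup.centralizer ((S : Subgroup G) : Set G) := by
  haveI : Fact (Nat.Prime 3) := ⟨Nat.prime_three⟩
  have hcC : c ∈ Subgroup.centralizer ({c} : Set G) := by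
    rw [Subgroup.mem_centralizer_singleton_iff]
  let c' : Subgroup.centralizer ({c} : Set G) := ⟨c, hcC⟩
  have hc'3 : c' ^ 3 = 1 := Subtype.ext hc
  have hp : IsPGroup 3 (Subgroup.zpowers c') := by
    rintro ⟨g, hg⟩
    obtain ⟨k, rfl⟩ := Subgroup.mem_zpowers_iff.mp hg
    refine ⟨1, Subtype.ext ?_⟩
    show (c' ^ k) ^ 3 ^ 1 = 1
    rw [pow_one, ← zpow_natCast, ← zpow_mul, mul_comm, zpow_mul, zpow_natCast, hc'3, one_zpow]
  obtain ⟨P, hP⟩ := hp.exists_le_sylow
  have hPcard : Nat.card P = 81 := by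
    rw [Sylow.card_eq_multiplicity, hC, factorization_648]
    norm_num
  have hP'card : Nat.card ((P : Subgroup _).map (Subgroup.centralizer ({c} : Set G)).subtype) = 81 := by
    rw [Subgroup.card_map_of_injective (Subgroup.subtype_injective _)]
    exact hPcard
  have hP'p : IsPGroup 3 ((P : Subgroup _).map (Subgroup.centralizer ({c} : Set G)).subtype) :=
    P.isPGroup'.map _
  obtain ⟨S, hS⟩ := hP'p.exists_le_sylow
  have hScard : Nat.card S = 81 := by
    rw [Sylow.card_eq_multiplicity, hG, factorization_25920]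
    norm_num
  have heq : (P : Subgroup _).map (Subgroup.centralizer ({c} : Set G)).subtype = S :=
    Subgroup.eq_of_le_of_card_ge hS (by rw [hScard, hP'card])
  refine ⟨S, ?_, ?_⟩
  · rw [← heq]
    exact ⟨c', hP (Subgroup.mem_zpowers c'), rfl⟩
  · rw [Subgroup.mem_centralizer_iff]
    intro s hs
    have hs' : s ∈ (S : Subgroup G) := hs
    rw [← heq] at hs'
    obtain ⟨⟨y, hy⟩, _, rfl⟩ := hs'
    exact Subgroup.mem_centralizer_singleton_iff.mp hy

section extract

variable {X : Type*} [Group X] (R : Subgroup X) [hRn : R.Normal]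
  (hR : Cfsg.IsExtraspecial 3 R) (hRcard : Nat.card R = 27) (hRexp : ∀ r ∈ R, r ^ 3 = 1)
  (π : X →* SL) (hπ : Function.Surjective π) (hker : π.ker = R)
include hR hRcard hRexp hπ hker

theorem mem_Zc_iff (x : X) :
    x ∈ (Subgroup.center R).map R.subtype ↔ x ∈ R ∧ ∀ s ∈ R, x * s = s * x := by
  constructor
  · rintro ⟨ζ, hζ, rfl⟩
    refine ⟨ζ.2, fun s hs => ?_⟩
    have := Subgroup.mem_center_iff.mp hζ ⟨s, hs⟩
    exact (congrArg Subtype.val this).symm
  · rintro ⟨hx, hc⟩
    refine ⟨⟨x, hx⟩, Subgroup.mem_center_iff.mpr ?_, rfl⟩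
    rintro ⟨s, hs⟩
    exact Subtype.ext (hc s hs).symm

theorem isHeis_of_extraspecial : IsHeis R ((Subgroup.center R).map R.subtype) := by
  have hmem := mem_Zc_iff R hR hRcard hRexp π hπ hker
  have hcardZ : Nat.card ((Subgroup.center R).map R.subtype) = 3 := by
    rw [Subgroup.card_map_of_injective (Subgroup.subtype_injective _)]
    exact hR.2
  haveI hZn : ((Subgroup.center R).map R.subtype).Normal := by
    refine ⟨fun ζ hζ x => ?_⟩
    obtain ⟨hζR, hζc⟩ := (hmem ζ).mp hζ
    rw [hmem]
    refine ⟨hRn.conj_mem ζ hζR x, fun s hs => ?_⟩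
    have hs' : x⁻¹ * s * x ∈ R := by
      have := hRn.conj_mem s hs x⁻¹
      rwa [inv_inv] at this
    have := hζc _ hs'
    calc x * ζ * x⁻¹ * s = x * (ζ * (x⁻¹ * s * x)) * x⁻¹ := by group
      _ = x * ((x⁻¹ * s * x) * ζ) * x⁻¹ := by rw [this]
      _ = s * (x * ζ * x⁻¹) := by group
  refine ⟨hRcard, hRexp, Subgroup.map_subtype_le _, hcardZ, ?_, ?_, ?_⟩
  · apply central_of_card_three π hπ _ hcardZ
    intro r hr ζ hζ
    rw [hker] at hr
    exact (((hmem ζ).mp hζ).2 r hr).symm
  · intro r hr s hs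
    have h1 : ⁅(⟨r, hr⟩ : R), ⟨s, hs⟩⁆ ∈ commutator R := by
      rw [commutator_def]
      exact Subgroup.commutator_mem_commutator (Subgroup.mem_top _) (Subgroup.mem_top _)
    rw [hR.1.2.2] at h1
    exact ⟨_, h1, rfl⟩
  · intro r hr hc
    rw [hmem]
    exact ⟨hr, hc⟩

end extract

end Cfsg.Agent.Lib.Helper26.X648
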