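import Cfsg.Agent.Lib.Helper1.GlaubF4
import Cfsg.Agent.Lib.Helper27.FixedSplit
import Cfsg.Agent.Lib.Helper26.FSDirectProdB
import Cfsg.Agent.Lib.Helper26.FSGrun
import Cfsg.Agent.Lib.Helper26.FSSylow

/-!
helper26: for a saturated fusion system `F` over `S` and a positive characteristic functor `W` containing the centre
and controlling weak closure of elements (e.g. the Thompson subgroup for `p` odd), the centre `Z(F)` is a direct factor
of `Z(S)`: `Z(F) = C_{Z(W(S))}(Aut_F(W(S)))`, `Z(S) = C_{Z(W(S))}(Aut_S(W(S)))`, and `Aut_S(W(S))` has index prime to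
`p` in `Aut_F(W(S))` (transfer splitting, helper27's `exists_compl_fixed`).
-/

set_option autoImplicit false
set_option linter.unusedSectionVars false
set_option linter.unusedVariables false

namespace Cfsg.Agent.Lib.Helper26.ZFD

open Cfsg Cfsg.FusionSystem Cfsg.Agent.Lib.Helper26 Cfsg.Agent.Lib.Helper27 Cfsg.Agent.Lib.Helper27.KL
  Cfsg.Agent.Lib.Helper27.FM
open scoped IsMulCommutative

universe u

variable {Ω : Type u} [Group Ω] {S : Subgroup Ω} {p : ℕ} [Fact p.Prime]
  {W : ∀ (Q : Type u) [Group Q], Subgroup Q}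

/-- the embedding of the centre of `J` in the ambient group -/
def zEmb (J : Subgroup Ω) : ↥(Subgroup.center ↥J) →* Ω := J.subtype.comp (Subgroup.center ↥J).subtype

theorem zEmb_injective (J : Subgroup Ω) : Function.Injective (zEmb J) :=
  J.subtype_injective.comp (Subgroup.center ↥J).subtype_injective

theorem zEmb_apply (J : Subgroup Ω) (v : ↥(Subgroup.center ↥J)) : zEmb J v = ((v : ↥J) : Ω) := rfl

/-- the action of `Aut_F(J)` on `Z(J)` -/
def zRho (F : FusionSystem S) (J : Subgroup Ω) : ↥(F.autGroup J) →* MulAut ↥(Subgroup.center ↥J) :=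
  centerAut.comp (F.autGroup J).subtype

theorem zRho_apply (F : FusionSystem S) (J : Subgroup Ω) (α : ↥(F.autGroup J)) (v : ↥(Subgroup.center ↥J)) :
    zEmb J (zRho F J α v) = (((α : MulAut ↥J) (v : ↥J) : ↥J) : Ω) := rfl

theorem center_direct_factor (hW : PosChar p W)
    (hWZ : ∀ (Q : Type u) [Group Q] [Finite Q], IsPGroup p Q → Subgroup.center Q ≤ W Q)
    (hC : WeakClosureProp p W) [Finite S] (hS : IsPGroup p S) (F : FusionSystem S) (hF : F.IsSaturated p) :
    ∃ K : Subgroup Ω, K ≤ S ⊓ Subgroup.centralizer (S : Set Ω) ∧ F.center ⊓ K = ⊥ ∧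
      F.center ⊔ K = S ⊓ Subgroup.centralizer (S : Set Ω) := by
  obtain ⟨J, hJdef⟩ : ∃ J : Subgroup Ω, J = WS W S := ⟨_, rfl⟩
  have hJS : J ≤ S := hJdef ▸ WS_le W S
  haveI : Finite ↥J := finite_of_le hJS
  have hJn : ∀ s ∈ S, s ∈ Subgroup.normalizer (J : Set Ω) := by
    intro s hs
    apply mem_normalizer_of_conj_mem_finite
    intro u hu
    rw [hJdef] at hu ⊢
    exact hW.conj_mem hS (Subgroup.le_normalizer hs) hu
  have hA : normalizerIn S J = S := by
    apply le_antisymm (normalizerIn_le S _)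
    intro s hs
    exact ⟨hs, hJn s hs⟩
  have hJfn : F.IsFullyNormalized J := by
    refine ⟨hJS, fun Q _ => ?_⟩
    rw [hA]
    exact Nat.card_le_card_of_injective (Subgroup.inclusion (normalizerIn_le S Q))
      (Subgroup.inclusion_injective _)
  obtain ⟨-, R, hR⟩ := (saturated_fn hS F hF hJfn).2
  -- the index of `Aut_S(J)` in `Aut_F(J)` is prime to `p`
  have hidx : ¬ p ∣ ((autInducedBy S J).subgroupOf (F.autGroup J)).index := by
    rw [← hR]
    exact R.not_dvd_index
  have hV : IsPGroup p ↥(Subgroup.center ↥J) :=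
    (hS.to_le hJS).to_subgroup _
  obtain ⟨K₀, hK₀le, hK₀inf, hK₀sup⟩ :=
    exists_compl_fixed (zRho F J) ((autInducedBy S J).subgroupOf (F.autGroup J)) hV hidx
  -- elements of `Z(S)` lie in `Z(J)`
  have hZJ : ∀ z ∈ S ⊓ Subgroup.centralizer (S : Set Ω), ∃ v : ↥(Subgroup.center ↥J), zEmb J v = z := by
    intro z hz
    have hzJ : z ∈ J := by
      rw [hJdef]
      apply mem_WS_of_central hWZ hS hz.1
      intro t ht
      have := Subgroup.mem_centralizer_iff.mp hz.2 t ht
      rw [this, mul_inv_cancel_right]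
    refine ⟨⟨⟨z, hzJ⟩, ?_⟩, rfl⟩
    rw [Subgroup.mem_center_iff]
    intro g
    apply Subtype.ext
    exact Subgroup.mem_centralizer_iff.mp hz.2 g (hJS g.2)
  -- conjugation automorphisms
  have hconj : ∀ s (hs : s ∈ S), J.normalizerMonoidHom ⟨s, hJn s hs⟩ ∈ autInducedBy S J :=
    fun s hs => normalizerMonoidHom_mem_autInducedBy hs (hJn s hs)
  have hconjF : ∀ s (hs : s ∈ S), J.normalizerMonoidHom ⟨s, hJn s hs⟩ ∈ F.autGroup J :=
    fun s hs => autInducedBy_le_autGroup F hJS (hconj s hs)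
  -- Claim A
  have hAcl : (fixedBySubgroup (zRho F J) ((autInducedBy S J).subgroupOf (F.autGroup J))).map (zEmb J) =
      S ⊓ Subgroup.centralizer (S : Set Ω) := by
    apply le_antisymm
    · rintro _ ⟨v, hv, rfl⟩
      refine ⟨hJS (v : ↥J).2, ?_⟩
      show zEmb J v ∈ Subgroup.centralizer (S : Set Ω)
      rw [Subgroup.mem_centralizer_iff]
      intro s hs
      have h1 := hv ⟨_, hconjF s hs⟩ (by
        rw [Subgroup.mem_subgroupOf]
        exact hconj s hs)
      have h2 := congrArg (zEmb J) h1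
      rw [zRho_apply] at h2
      have h3 : s * zEmb J v * s⁻¹ = zEmb J v := h2
      calc s * zEmb J v = s * zEmb J v * s⁻¹ * s := by group
        _ = zEmb J v * s := by rw [h3]
    · intro z hz
      obtain ⟨v, rfl⟩ := hZJ z hz
      refine ⟨v, ?_, rfl⟩
      intro α hα
      rw [Subgroup.mem_subgroupOf] at hα
      obtain ⟨g, hg, hgα⟩ := (mem_autInducedBy_iff S J _).mp hα
      apply zEmb_injective J
      rw [zRho_apply, hgα]
      have := Subgroup.mem_centralizer_iff.mp hz.2 g hg
      show g * zEmb J v * g⁻¹ = zEmb J v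
      rw [this, mul_inv_cancel_right]
  -- Claim B
  have hBcl : (fixedBySubgroup (zRho F J) ⊤).map (zEmb J) = F.center := by
    apply le_antisymm
    · apply le_sSup
      have hXS : (fixedBySubgroup (zRho F J) ⊤).map (zEmb J) ≤ S := by
        rintro _ ⟨v, -, rfl⟩
        exact hJS (v : ↥J).2
      have hXc : ∀ s ∈ S, ∀ q ∈ (fixedBySubgroup (zRho F J) ⊤).map (zEmb J), s * q * s⁻¹ = q := by
        rintro s hs _ ⟨v, hv, rfl⟩
        have h1 := hv ⟨_, hconjF s hs⟩ (Subgroup.mem_top _)
        have h2 := congrArg (zEmb J) h1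
        rw [zRho_apply] at h2
        exact h2
      apply isCentral_of_fixW hW hWZ hC hS F hF hXS hXc
      intro R' θ hθ hWR hθW q hq
      obtain ⟨v, hv, rfl⟩ := hq
      obtain ⟨φ, hφ, hφθ⟩ := hθ
      have hJR : J ≤ R' := hJdef ▸ hWR
      have hres := inclusion_comp_mem F hJR hφ
      have hval : ∀ y : ↥J, (φ.comp (Subgroup.inclusion hJR)) y ∈ J := by
        intro y
        show φ (Subgroup.inclusion hJR y) ∈ J
        rw [hφθ]
        have hy : (y : Ω) ∈ WS W S := hJdef ▸ y.2
        have := hθW (y : Ω) hy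
        have hJ2 : WS W S ≤ J := hJdef ▸ le_rfl
        exact hJ2 this
      obtain ⟨β, hβ, hβy⟩ := exists_aut_of_hom F hres hval
      have h1 := hv ⟨β, hβ⟩ (Subgroup.mem_top _)
      have h2 := congrArg (zEmb J) h1
      rw [zRho_apply] at h2
      have h3 : (((β (v : ↥J) : ↥J) : Ω)) = zEmb J v := h2
      rw [hβy] at h3
      have h4 : (φ.comp (Subgroup.inclusion hJR)) (v : ↥J) = θ (zEmb J v) := hφθ _
      rw [← h4]
      exact h3
    · intro z hz
      have hzS : z ∈ S ⊓ Subgroup.centralizer (S : Set Ω) := by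
        have hZ := center_isCentral F
        refine ⟨hZ.1 hz, ?_⟩
        show z ∈ Subgroup.centralizer (S : Set Ω)
        rw [Subgroup.mem_centralizer_iff]
        intro s hs
        have h1 := hom_apply_center F (F.conj_mem (le_refl S) hs) ⟨z, hZ.1 hz⟩ hz
        have h2 : s * z * s⁻¹ = z := h1
        calc s * z = s * z * s⁻¹ * s := by group
          _ = z * s := by rw [h2]
      obtain ⟨v, rfl⟩ := hZJ z hzS
      refine ⟨v, ?_, rfl⟩
      intro α _
      apply zEmb_injective J
      rw [zRho_apply]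
      have hα := (mem_autGroup_iff F hJS (α : MulAut ↥J)).mp α.2
      exact hom_apply_center F hα (v : ↥J) hz
  refine ⟨K₀.map (zEmb J), ?_, ?_, ?_⟩
  · rw [← hAcl]
    exact Subgroup.map_mono hK₀le
  · rw [← hBcl, ← Subgroup.map_inf _ _ _ (zEmb_injective J), hK₀inf, Subgroup.map_bot]
  · rw [← hBcl, ← Subgroup.map_sup, hK₀sup, hAcl]

end Cfsg.Agent.Lib.Helper26.ZFD
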